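import Mathlib
import Cfsg.Prelude.Def_Solvable
import Cfsg.Prelude.Def_OddOrderLocal
import Cfsg.Agent.Lib.Helper1.Fitting

/-!
# Subnormal subgroups lie in radicals

For an isomorphism-invariant group property `P` such that the join of all normal `P`-subgroups of a finite
group again has `P`, every subnormal `P`-subgroup lies in that join. Applications: the Fitting subgroup,
`O_π(G)`, `O_p(G)`.
-/

set_option autoImplicit false

namespace Cfsg.Agent.Lib.Helper20

universe u

/-- the `P`-radical is invariant under automorphisms (one inclusion). -/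
theorem radical_map_le (P : ∀ (X : Type u) [Group X], Prop)
    (hiso : ∀ (X Y : Type u) [Group X] [Group Y], (X ≃* Y) → P X → P Y)
    {K : Type u} [Group K] (φ : K ≃* K) :
    (sSup {N : Subgroup K | N.Normal ∧ P N}).map φ.toMonoidHom ≤ sSup {N : Subgroup K | N.Normal ∧ P N} := by
  rw [Subgroup.map_le_iff_le_comap]
  apply sSup_le
  rintro N ⟨hNn, hNP⟩
  rw [← Subgroup.map_le_iff_le_comap]
  apply le_sSup
  refine ⟨hNn.map _ φ.surjective, ?_⟩
  exact hiso _ _ (N.equivMapOfInjective φ.toMonoidHom φ.injective) hNP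

/-- Subnormal `P`-subgroups of a finite group lie in the `P`-radical, provided `P` is isomorphism
invariant and radicals of finite groups have `P`. -/
theorem subnormal_le_radical (P : ∀ (X : Type u) [Group X], Prop)
    (hiso : ∀ (X Y : Type u) [Group X] [Group Y], (X ≃* Y) → P X → P Y)
    (hcore : ∀ (H : Type u) [Group H] [Finite H], P ↥(sSup {N : Subgroup H | N.Normal ∧ P N})) :
    ∀ (G : Type u) [Group G] [Finite G] (A : Subgroup G), A.IsSubnormal → P A →
      A ≤ sSup {N : Subgroup G | N.Normal ∧ P N} := by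
  intro G _ _
  induction' hn : Nat.card G using Nat.strong_induction_on with n ih generalizing G
  intro A hA hPA
  rcases hA.lt_normal with rfl | ⟨K, hKn, hAK, hKlt⟩
  · exact le_sSup ⟨inferInstance, hPA⟩
  · haveI := hKn
    have hcardK : Nat.card K < n := by
      rw [← hn]
      by_contra hge
      push Not at hge
      have : K = ⊤ := Subgroup.eq_top_of_le_card K hge
      exact hKlt.ne this
    have hA' : (A.subgroupOf K).IsSubnormal := hA.subgroupOf
    have hPA' : P ↥(A.subgroupOf K) := hiso _ _ (Subgroup.subgroupOfEquivOfLe hAK).symm hPA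
    have hIH := ih (Nat.card K) hcardK K rfl (A.subgroupOf K) hA' hPA'
    set CK : Subgroup K := sSup {N : Subgroup K | N.Normal ∧ P N} with hCK
    have hAC : A ≤ CK.map K.subtype := by
      intro a ha
      exact ⟨⟨a, hAK ha⟩, hIH (by rw [Subgroup.mem_subgroupOf]; exact ha), rfl⟩
    refine hAC.trans (le_sSup ⟨?_, ?_⟩)
    · -- normality
      refine ⟨?_⟩
      rintro _ ⟨k, hk, rfl⟩ g
      have h1 : (MulAut.conjNormal g : MulAut K) k ∈ CK :=
        radical_map_le P hiso (MulAut.conjNormal g : K ≃* K) ⟨k, hk, rfl⟩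
      refine ⟨(MulAut.conjNormal g : MulAut K) k, h1, ?_⟩
      simp [MulAut.conjNormal_apply]
    · exact hiso _ _ (CK.equivMapOfInjective K.subtype K.subtype_injective) (hcore K)

/-- A subnormal nilpotent subgroup of a finite group lies in the Fitting subgroup. -/
theorem subnormal_nilpotent_le_fitting {G : Type u} [Group G] [Finite G] (A : Subgroup G)
    (hA : A.IsSubnormal) (hn : Group.IsNilpotent A) : A ≤ Cfsg.fittingSubgroup G := by
  have := subnormal_le_radical (fun X _ => Group.IsNilpotent X)
    (fun X Y _ _ e h => by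
      haveI := h
      exact Group.nilpotent_of_surjective e.toMonoidHom e.surjective)
    (fun H _ _ => Cfsg.Agent.Lib.Helper1.fittingSubgroup_isNilpotent H) G A hA hn
  exact this

/-- In a finite group, the join of two normal `π`-subgroups is a `π`-subgroup: cardinality version. -/
theorem card_sup_dvd_of_normal {G : Type u} [Group G] [Finite G] (M N : Subgroup G) [N.Normal] :
    Nat.card ↥(M ⊔ N) ∣ Nat.card M * Nat.card N := by
  have h1 := Subgroup.relIndex_mul_relIndex (⊥ : Subgroup G) N (M ⊔ N) bot_le le_sup_right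
  rw [Subgroup.relIndex_bot_left, Subgroup.relIndex_bot_left, Subgroup.relIndex_sup_right] at h1
  rw [← h1, mul_comm]
  exact Nat.mul_dvd_mul_right (Subgroup.relIndex_dvd_card N M) _

/-- The `π`-core of a finite group is a `π`-group. -/
theorem piCore_isPi (π : Set ℕ) (G : Type u) [Group G] [Finite G] :
    ∀ p : ℕ, p.Prime → p ∣ Nat.card (Cfsg.piCore π G) → p ∈ π := by
  classical
  let S : Set (Subgroup G) := {N | N.Normal ∧ ∀ p : ℕ, p.Prime → p ∣ Nat.card N → p ∈ π}
  have hbot : (⊥ : Subgroup G) ∈ S := by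
    refine ⟨inferInstance, ?_⟩
    intro p hp hdvd
    rw [Subgroup.card_bot] at hdvd
    exact absurd (Nat.le_of_dvd one_pos hdvd) (not_le.mpr hp.one_lt)
  haveI : Nonempty S := ⟨⟨⊥, hbot⟩⟩
  obtain ⟨⟨M₀, hM₀⟩, hmax⟩ := Finite.exists_max (fun N : S => Nat.card (N : Subgroup G))
  have hle : ∀ N ∈ S, N ≤ M₀ := by
    intro N hN
    haveI := hN.1
    haveI := hM₀.1
    have hsup : M₀ ⊔ N ∈ S := by
      refine ⟨inferInstance, ?_⟩
      intro p hp hdvd
      have h2 := dvd_trans hdvd (card_sup_dvd_of_normal M₀ N)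
      rcases (Nat.Prime.dvd_mul hp).mp h2 with h3 | h3
      · exact hM₀.2 p hp h3
      · exact hN.2 p hp h3
    have h4 := hmax ⟨M₀ ⊔ N, hsup⟩
    have h5 : M₀ = M₀ ⊔ N := Subgroup.eq_of_le_of_card_ge le_sup_left h4
    rw [h5]
    exact le_sup_right
  have heq : Cfsg.piCore π G = M₀ := le_antisymm (sSup_le hle) (le_sSup hM₀)
  rw [heq]
  exact hM₀.2

/-- A subnormal `π`-subgroup of a finite group lies in `O_π(G)`. -/
theorem subnormal_pi_le_piCore {G : Type u} [Group G] [Finite G] (π : Set ℕ) (A : Subgroup G)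
    (hA : A.IsSubnormal) (hπ : ∀ p : ℕ, p.Prime → p ∣ Nat.card A → p ∈ π) : A ≤ Cfsg.piCore π G := by
  have := subnormal_le_radical (fun X _ => ∀ p : ℕ, p.Prime → p ∣ Nat.card X → p ∈ π)
    (fun X Y _ _ e h => by
      intro p hp hdvd
      rw [← Nat.card_congr e.toEquiv] at hdvd
      exact h p hp hdvd)
    (fun H _ _ => piCore_isPi π H) G A hA hπ
  exact this

/-- A subnormal `p`-subgroup of a finite group lies in `O_p(G)`. -/
theorem subnormal_pgroup_le_pCore {G : Type u} [Group G] [Finite G] (p : ℕ) [Fact p.Prime]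
    (A : Subgroup G) (hA : A.IsSubnormal) (hp : IsPGroup p A) : A ≤ Cfsg.pCore p G := by
  have := subnormal_le_radical (fun X _ => IsPGroup p X)
    (fun X Y _ _ e h => h.of_equiv e)
    (fun H _ _ => Cfsg.Agent.Lib.Helper1.pCore_isPGroup p H) G A hA hp
  exact this

end Cfsg.Agent.Lib.Helper20
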