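import Mathlib
import Cfsg.Agent.Lib.Helper1.PGroup

set_option autoImplicit false
open scoped commutatorElement

namespace Cfsg.Agent.Lib.Helper20

/-- Coprime action, elementwise: if `a` (of order prime to `p`) fixes the "commutator"
`q⁻¹ * a q` of an element `q` of a `p`-group, then `a` fixes `q`. -/
theorem fix_of_fix_comm {G : Type*} [Group G] {p : ℕ} [Fact p.Prime]
    (hG : IsPGroup p G) (a : MulAut G) (ha : (orderOf a).Coprime p) (q : G)
    (hc : a (q⁻¹ * a q) = q⁻¹ * a q) : a q = q := by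
  set c := q⁻¹ * a q with hcdef
  have hag : a q = q * c := by rw [hcdef]; group
  have hk : ∀ k : ℕ, (a ^ k) q = q * c ^ k := by
    intro k
    induction k with
    | zero => simp
    | succ k ih =>
      rw [pow_succ', MulAut.mul_apply, ih, map_mul, map_pow, hc, hag, pow_succ', mul_assoc]
  have h6 := hk (orderOf a)
  rw [pow_orderOf_eq_one, MulAut.one_apply] at h6
  have h7 : c ^ orderOf a = 1 := by
    have : q * c ^ orderOf a = q * 1 := by rw [mul_one]; exact h6.symm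
    exact mul_left_cancel this
  obtain ⟨j, hj⟩ := hG c
  have h8 : orderOf c ∣ orderOf a := orderOf_dvd_of_pow_eq_one h7
  have h8' : orderOf c ∣ p ^ j := orderOf_dvd_of_pow_eq_one hj
  have h9 : orderOf c = 1 :=
    Nat.Coprime.eq_one_of_dvd (Nat.Coprime.coprime_dvd_left h8 (Nat.Coprime.pow_right j ha)) h8'
  have h10 : c = 1 := orderOf_eq_one_iff.mp h9
  rw [hag, h10, mul_one]

/-- **Hall–Higman reduction**, elementwise form for one automorphism.  If a `p'`-automorphism `a` of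
a finite `p`-group `G` is nontrivial, there is an `a`-invariant subgroup `Q` on which `a` acts
nontrivially, such that all `p`-th powers and all commutators of elements of `Q` are central in `Q`
and fixed by `a`. -/
theorem exists_hh_reduction {G : Type*} [Group G] [Finite G] {p : ℕ} [Fact p.Prime]
    (hG : IsPGroup p G) (a : MulAut G) (ha : (orderOf a).Coprime p) (hne : a ≠ 1) :
    ∃ Q : Subgroup G, (∀ x ∈ Q, a x ∈ Q) ∧ (∃ x ∈ Q, a x ≠ x) ∧
      (∀ x ∈ Q, ∀ z ∈ Q, z * x ^ p = x ^ p * z) ∧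
      (∀ x ∈ Q, ∀ y ∈ Q, ∀ z ∈ Q, z * ⁅x, y⁆ = ⁅x, y⁆ * z) ∧
      (∀ x ∈ Q, a (x ^ p) = x ^ p) ∧ (∀ x ∈ Q, ∀ y ∈ Q, a ⁅x, y⁆ = ⁅x, y⁆) := by
  classical
  have hp : p.Prime := Fact.out
  let S : Set (Subgroup G) := {Q | (∀ x ∈ Q, a x ∈ Q) ∧ ∃ x ∈ Q, a x ≠ x}
  have hSne : S.Nonempty := by
    refine ⟨⊤, fun x _ => Subgroup.mem_top _, ?_⟩
    by_contra hcon
    push Not at hcon
    apply hne
    ext x
    exact hcon x (Subgroup.mem_top x)
  obtain ⟨Q, hQS, hmin⟩ := WellFounded.has_min (measure fun Q : Subgroup G => Nat.card Q).wf S hSne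
  obtain ⟨hQinv, x₀, hx₀Q, hx₀⟩ := hQS
  -- minimality: a-invariant subgroups of smaller order are fixed pointwise
  have hminfix : ∀ R : Subgroup G, (∀ x ∈ R, a x ∈ R) → Nat.card R < Nat.card Q →
      ∀ x ∈ R, a x = x := by
    intro R hRinv hlt x hx
    by_contra hcon
    exact hmin R ⟨hRinv, x, hx, hcon⟩ hlt
  -- T = Q^p Q'
  set T : Subgroup G := Subgroup.closure ({t | ∃ x ∈ Q, t = x ^ p} ∪ {t | ∃ x ∈ Q, ∃ y ∈ Q, t = ⁅x, y⁆})
    with hT
  have hTQ : T ≤ Q := by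
    rw [hT, Subgroup.closure_le]
    rintro t (⟨x, hx, rfl⟩ | ⟨x, hx, y, hy, rfl⟩)
    · exact Q.pow_mem hx p
    · rw [commutatorElement_def]
      exact Q.mul_mem (Q.mul_mem (Q.mul_mem hx hy) (Q.inv_mem hx)) (Q.inv_mem hy)
  have hTinv : ∀ t ∈ T, a t ∈ T := by
    intro t ht
    have : T.map a.toMonoidHom ≤ T := by
      rw [hT, MonoidHom.map_closure, Subgroup.closure_le]
      rintro _ ⟨t, (⟨x, hx, rfl⟩ | ⟨x, hx, y, hy, rfl⟩), rfl⟩
      · apply Subgroup.subset_closure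
        left
        exact ⟨a x, hQinv x hx, by simp⟩
      · apply Subgroup.subset_closure
        right
        exact ⟨a x, hQinv x hx, a y, hQinv y hy, by simp [commutatorElement_def]⟩
    exact this (Subgroup.mem_map_of_mem _ ht)
  -- Q is a nontrivial p-group: a coatom M of ↥Q contains T
  have hQp : IsPGroup p ↥Q := hG.to_subgroup Q
  have hQne : (⊤ : Subgroup ↥Q) ≠ ⊥ := by
    intro h
    have h1 : x₀ = 1 := by
      have : (⟨x₀, hx₀Q⟩ : ↥Q) ∈ (⊥ : Subgroup ↥Q) := h ▸ Subgroup.mem_top _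
      have := Subgroup.mem_bot.mp this
      exact congrArg Subtype.val this
    apply hx₀
    rw [h1, map_one]
  obtain ⟨M, hM⟩ : ∃ M : Subgroup ↥Q, IsCoatom M := by
    obtain ⟨M, hM, -⟩ := (eq_top_or_exists_le_coatom (⊥ : Subgroup ↥Q)).resolve_left hQne.symm
    exact ⟨M, hM⟩
  have hTM : T ≤ M.map Q.subtype := by
    rw [hT, Subgroup.closure_le]
    rintro t (⟨x, hx, rfl⟩ | ⟨x, hx, y, hy, rfl⟩)
    · refine ⟨⟨x, hx⟩ ^ p, Cfsg.Agent.Lib.Helper1.IsPGroup.pow_mem_coatom hQp M hM ⟨x, hx⟩, rfl⟩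
    · refine ⟨⁅(⟨x, hx⟩ : ↥Q), ⟨y, hy⟩⁆, ?_, rfl⟩
      apply Cfsg.Agent.Lib.Helper1.IsPGroup.commutator_le_coatom hQp M hM
      exact Subgroup.commutator_mem_commutator (Subgroup.mem_top _) (Subgroup.mem_top _)
  have hTlt : Nat.card T < Nat.card Q := by
    have h1 : Nat.card ↥(M.map Q.subtype) = Nat.card M :=
      Subgroup.card_map_of_injective Q.subtype_injective
    have h2 : Nat.card M < Nat.card ↥Q := by
      by_contra hge
      rw [not_lt] at hge
      exact hM.1 (Subgroup.eq_top_of_le_card M hge)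
    exact lt_of_le_of_lt (Subgroup.card_le_of_le hTM) (h1 ▸ h2)
  have hTfix : ∀ t ∈ T, a t = t := hminfix T hTinv hTlt
  -- C = C_Q(T)
  set C : Subgroup G := Q ⊓ Subgroup.centralizer (T : Set G) with hC
  have hCinv : ∀ z ∈ C, a z ∈ C := by
    intro z hz
    refine Subgroup.mem_inf.mpr ⟨hQinv z hz.1, ?_⟩
    rw [Subgroup.mem_centralizer_iff]
    intro t ht
    have h1 : t * z = z * t := (Subgroup.mem_centralizer_iff.mp (Subgroup.mem_inf.mp hz).2) t ht
    have h2 := congrArg a h1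
    rw [map_mul, map_mul, hTfix t ht] at h2
    exact h2
  have hcommC : ∀ q ∈ Q, q⁻¹ * a q ∈ C := by
    intro q hq
    refine Subgroup.mem_inf.mpr ⟨Q.mul_mem (Q.inv_mem hq) (hQinv q hq), ?_⟩
    rw [Subgroup.mem_centralizer_iff]
    intro t ht
    -- q t q⁻¹ ∈ T
    have h1 : q * t * q⁻¹ ∈ T := by
      have h2 : q * t * q⁻¹ = ⁅q, t⁆ * t := by simp [commutatorElement_def]
      rw [h2]
      apply T.mul_mem _ ht
      apply Subgroup.subset_closure
      right
      exact ⟨q, hq, t, hTQ ht, rfl⟩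
    have h3 : a (q * t * q⁻¹) = q * t * q⁻¹ := hTfix _ h1
    rw [map_mul, map_mul, map_inv, hTfix t ht] at h3
    -- a q * t * (a q)⁻¹ = q * t * q⁻¹
    calc t * (q⁻¹ * a q) = q⁻¹ * (q * t * q⁻¹) * a q := by group
      _ = q⁻¹ * (a q * t * (a q)⁻¹) * a q := by rw [h3]
      _ = q⁻¹ * a q * t := by group
  have hCQ : C = Q := by
    by_contra hCne
    have hlt : Nat.card C < Nat.card Q := by
      by_contra hge
      rw [not_lt] at hge
      exact hCne (Subgroup.eq_of_le_of_card_ge inf_le_left hge)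
    have hCfix := hminfix C hCinv hlt
    apply hx₀
    exact fix_of_fix_comm hG a ha x₀ (hCfix _ (hcommC x₀ hx₀Q))
  have hTcent : ∀ t ∈ T, ∀ z ∈ Q, z * t = t * z := by
    intro t ht z hz
    have hzC : z ∈ C := hCQ ▸ hz
    exact ((Subgroup.mem_centralizer_iff.mp (Subgroup.mem_inf.mp hzC).2) t ht).symm
  have hpowT : ∀ x ∈ Q, x ^ p ∈ T := fun x hx =>
    Subgroup.subset_closure (Or.inl ⟨x, hx, rfl⟩)
  have hcommT : ∀ x ∈ Q, ∀ y ∈ Q, ⁅x, y⁆ ∈ T := fun x hx y hy =>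
    Subgroup.subset_closure (Or.inr ⟨x, hx, y, hy, rfl⟩)
  exact ⟨Q, hQinv, ⟨x₀, hx₀Q, hx₀⟩, fun x hx z hz => hTcent _ (hpowT x hx) z hz,
    fun x hx y hy z hz => hTcent _ (hcommT x hx y hy) z hz,
    fun x hx => hTfix _ (hpowT x hx), fun x hx y hy => hTfix _ (hcommT x hx y hy)⟩

end Cfsg.Agent.Lib.Helper20
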