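import Mathlib
import Cfsg.Agent.Lib.Helper1.PGroup
import Cfsg.Agent.Lib.Helper20.HHReduction
import Cfsg.Agent.S4207

set_option autoImplicit false
open scoped commutatorElement

namespace Cfsg.Agent.Lib.Helper20

/-- An odd number dividing a power of two is one. -/
theorem eq_one_of_odd_of_dvd_two_pow {k m : ℕ} (hk : Odd k) (h : k ∣ 2 ^ m) : k = 1 := by
  have hc : Nat.Coprime k (2 ^ m) := Nat.Coprime.pow_right m (Nat.coprime_two_right.mpr hk)
  exact Nat.Coprime.eq_one_of_dvd hc h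

/-- An automorphism of odd order of a finite `2`-group that leaves every maximal subgroup
invariant is trivial (Burnside, via `S4207`). -/
theorem aut_eq_one_of_coatoms_invariant {G : Type*} [Group G] [Finite G] (hG : IsPGroup 2 G)
    (α : MulAut G) (hα : Odd (orderOf α))
    (h : ∀ M : Subgroup G, IsCoatom M → ∀ x ∈ M, α x ∈ M) : α = 1 := by
  classical
  haveI : Fact (Nat.Prime 2) := ⟨Nat.prime_two⟩
  have hpow : ∀ k : ℕ, ∀ M : Subgroup G, IsCoatom M → ∀ x ∈ M, (α ^ k) x ∈ M := by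
    intro k
    induction k with
    | zero => intro M _ x hx; simpa using hx
    | succ k ih =>
      intro M hM x hx
      rw [pow_succ', MulAut.mul_apply]
      exact h M hM _ (ih M hM x hx)
  have hfin : IsOfFinOrder α := isOfFinOrder_of_finite α
  have hfr : ∀ β ∈ Subgroup.zpowers α, ∀ x : G, β x * x⁻¹ ∈ frattini G := by
    intro β hβ x
    obtain ⟨k, rfl⟩ : ∃ k : ℕ, α ^ k = β := by
      have := (hfin.mem_powers_iff_mem_zpowers).mpr hβ
      exact Submonoid.mem_powers_iff _ _ |>.mp this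
    unfold frattini Order.radical
    simp only [Subgroup.mem_iInf]
    intro M hM
    have hidx : M.index = 2 := Cfsg.Agent.Lib.Helper1.IsPGroup.coatom_index hG M hM
    rw [Subgroup.mul_mem_iff_of_index_two hidx, inv_mem_iff]
    constructor
    · intro hx'
      have hn : 0 < orderOf (α ^ k) := (isOfFinOrder_of_finite (α ^ k)).orderOf_pos
      have h1 : (α ^ (k * (orderOf (α ^ k) - 1))) ((α ^ k) x) = x := by
        rw [← MulAut.mul_apply, ← pow_add]
        have : k * (orderOf (α ^ k) - 1) + k = k * orderOf (α ^ k) := by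
          obtain ⟨n, hn'⟩ : ∃ n, orderOf (α ^ k) = n + 1 := ⟨orderOf (α ^ k) - 1, by omega⟩
          rw [hn']; simp; ring
        rw [this, pow_mul, pow_orderOf_eq_one, MulAut.one_apply]
      rw [← h1]
      exact hpow _ M hM _ hx'
    · exact hpow k M hM x
  obtain ⟨n, hn⟩ := IsPGroup.iff_card.mp hG
  obtain ⟨r, hr⟩ := hG.index (frattini G)
  have hdvd := Cfsg.Agent.S4207.result hn hr (Subgroup.zpowers α) hfr
  rw [Nat.card_zpowers] at hdvd
  have h1 := eq_one_of_odd_of_dvd_two_pow hα hdvd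
  exact orderOf_eq_one_iff.mp h1

/-- An automorphism of odd order of a finite cyclic `2`-group is trivial. -/
theorem aut_eq_one_of_isCyclic_two_group {G : Type*} [Group G] [Finite G] (hG : IsPGroup 2 G)
    [IsCyclic G] (α : MulAut G) (hα : Odd (orderOf α)) : α = 1 := by
  haveI : Fact (Nat.Prime 2) := ⟨Nat.prime_two⟩
  obtain ⟨n, hn⟩ := IsPGroup.iff_card.mp hG
  have h1 : orderOf α ∣ Nat.card (MulAut G) := orderOf_dvd_natCard α
  rw [IsCyclic.card_mulAut, hn] at h1
  have h2 : orderOf α ∣ 2 ^ (n - 1) := by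
    rcases Nat.eq_zero_or_pos n with h0 | h0
    · subst h0; simpa using h1
    · rw [Nat.totient_prime_pow Nat.prime_two h0] at h1
      simpa using h1
  exact orderOf_eq_one_iff.mp (eq_one_of_odd_of_dvd_two_pow hα h2)

/-- A `2'`-automorphism of a finite `2`-group fixing every element of order dividing `4`
is trivial. -/
theorem aut_eq_one_of_fix_pow_four {G : Type*} [Group G] [Finite G] (hG : IsPGroup 2 G)
    (α : MulAut G) (hα : (orderOf α).Coprime 2) (h : ∀ x : G, x ^ 4 = 1 → α x = x) : α = 1 := by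
  classical
  haveI : Fact (Nat.Prime 2) := ⟨Nat.prime_two⟩
  by_contra hne
  obtain ⟨Q, hQinv, ⟨x, hxQ, hx⟩, hpc, _, hpf, _⟩ := exists_hh_reduction hG α hα hne
  apply hx
  apply fix_of_fix_comm hG α hα
  apply h
  obtain ⟨c, hc⟩ : ∃ c, c = x⁻¹ * α x := ⟨_, rfl⟩
  rw [← hc]
  have hcQ : c ∈ Q := by rw [hc]; exact Q.mul_mem (Q.inv_mem hxQ) (hQinv x hxQ)
  have h1 : α x = x * c := by rw [hc]; group
  have h2 : α (x ^ 2) = x ^ 2 := hpf x hxQ
  have h3 : c * x * c = x := by
    rw [map_pow, h1] at h2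
    have : x * (c * x * c) = x * x := by
      rw [← pow_two x, ← h2]; simp only [pow_two, mul_assoc]
    exact mul_left_cancel this
  have h4 : x * c ^ 2 = c ^ 2 * x := hpc c hcQ x hxQ
  have h5 : x * c = c⁻¹ * x := by
    rw [eq_inv_mul_iff_mul_eq, ← mul_assoc]; exact h3
  have h6 : c ^ 2 * x = c⁻¹ * c⁻¹ * x := by
    rw [← h4]
    calc x * c ^ 2 = (x * c) * c := by simp only [pow_two, mul_assoc]
      _ = c⁻¹ * x * c := by rw [h5]
      _ = c⁻¹ * (x * c) := by simp only [mul_assoc]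
      _ = c⁻¹ * (c⁻¹ * x) := by rw [h5]
      _ = c⁻¹ * c⁻¹ * x := by simp only [mul_assoc]
  have h7 : c ^ 2 = c⁻¹ * c⁻¹ := mul_right_cancel h6
  have h8 : c ^ 4 = c ^ 2 * c ^ 2 := by rw [← pow_add]
  rw [h8]
  nth_rewrite 2 [h7]
  simp [pow_two, mul_assoc]

end Cfsg.Agent.Lib.Helper20
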