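import Mathlib
import Cfsg.Agent.Lib.Helper18.OddAut

/-!
Helper lemmas (helper20): the quaternion group `Q₈ = QuaternionGroup 2` and its automorphisms
of odd order: every nontrivial one is conjugate in `Aut(Q₈)` to the standard automorphism `σ`
of order three (`i ↦ j ↦ ij ↦ i`); the subgroups of order `4`.
-/

set_option autoImplicit false

namespace Cfsg.Agent.Lib.Helper20.Q8

open QuaternionGroup

/-- the concrete quaternion group of order `8` -/
abbrev Q8c := QuaternionGroup 2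

/-- the map `a k ↦ i ^ k`, `xa k ↦ j * i ^ k` -/
def stdMap (i j : Q8c) : Q8c → Q8c
  | .a k => i ^ k.val
  | .xa k => j * i ^ k.val

/-- `(i, j)` is a standard generating pair of `Q₈` -/
def IsStd (i j : Q8c) : Prop := i ^ 4 = 1 ∧ i ^ 2 ≠ 1 ∧ j ^ 2 = i ^ 2 ∧ j * i * j⁻¹ = i⁻¹

instance (i j : Q8c) : Decidable (IsStd i j) := by unfold IsStd; infer_instance

set_option maxRecDepth 100000 in
theorem stdMap_mul : ∀ i j : Q8c, IsStd i j → ∀ q q' : Q8c,
    stdMap i j (q * q') = stdMap i j q * stdMap i j q' := by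
  decide

set_option maxRecDepth 100000 in
theorem stdMap_inj : ∀ i j : Q8c, IsStd i j → ∀ q q' : Q8c,
    stdMap i j q = stdMap i j q' → q = q' := by
  decide

/-- the automorphism of `Q₈` attached to a standard pair -/
noncomputable def stdAut (i j : Q8c) (h : IsStd i j) : MulAut Q8c :=
  MulEquiv.ofBijective (MonoidHom.mk' (stdMap i j) (stdMap_mul i j h))
    ⟨fun q q' hq => stdMap_inj i j h q q' hq,
      Finite.surjective_of_injective (fun q q' hq => stdMap_inj i j h q q' hq)⟩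

theorem stdAut_apply (i j : Q8c) (h : IsStd i j) (q : Q8c) : stdAut i j h q = stdMap i j q := rfl

theorem stdAut_a_one (i j : Q8c) (h : IsStd i j) : stdAut i j h (a 1) = i := by
  rw [stdAut_apply]
  show i ^ (1 : ZMod 4).val = i
  have : (1 : ZMod 4).val = 1 := by decide
  rw [this, pow_one]

theorem stdAut_xa_zero (i j : Q8c) (h : IsStd i j) : stdAut i j h (xa 0) = j := by
  rw [stdAut_apply]
  show j * i ^ (0 : ZMod 4).val = j
  have : (0 : ZMod 4).val = 0 := by decide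
  rw [this, pow_zero, mul_one]

/-! ### decidable facts about `Q₈` -/

set_option maxRecDepth 100000 in
theorem pow_four_eq_one : ∀ u : Q8c, u ^ 4 = 1 := by decide

set_option maxRecDepth 100000 in
/-- `Q₈ = ⟨i⟩ ∪ q⟨i⟩` -/
theorem cover_fact : ∀ i q r : Q8c, i ^ 2 ≠ 1 → (q ≠ 1 ∧ q ≠ i ∧ q ≠ i ^ 2 ∧ q ≠ i ^ 3) →
    (r = 1 ∨ r = i ∨ r = i ^ 2 ∨ r = i ^ 3) ∨
      (r = q ∨ r = q * i ∨ r = q * i ^ 2 ∨ r = q * i ^ 3) := by
  decide

set_option maxRecDepth 100000 in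
theorem isStd_of_not_mem : ∀ i j : Q8c, i ^ 2 ≠ 1 → (j ≠ 1 ∧ j ≠ i ∧ j ≠ i ^ 2 ∧ j ≠ i ^ 3) →
    IsStd i j := by
  decide

set_option maxRecDepth 100000 in
/-- an element outside `⟨i⟩ ∪ ⟨j⟩` is `ij` or `ji` -/
theorem third_fact : ∀ i j k : Q8c, i ^ 2 ≠ 1 → (j ≠ 1 ∧ j ≠ i ∧ j ≠ i ^ 2 ∧ j ≠ i ^ 3) →
    (k ≠ 1 ∧ k ≠ i ∧ k ≠ i ^ 2 ∧ k ≠ i ^ 3) → (k ≠ 1 ∧ k ≠ j ∧ k ≠ j ^ 2 ∧ k ≠ j ^ 3) →
    k = i * j ∨ k = j * i := by
  decide

set_option maxRecDepth 100000 in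
theorem sq_ne_one_of_not_mem : ∀ i j : Q8c, i ^ 2 ≠ 1 →
    (j ≠ 1 ∧ j ≠ i ∧ j ≠ i ^ 2 ∧ j ≠ i ^ 3) → j ^ 2 ≠ 1 := by
  decide

set_option maxRecDepth 100000 in
/-- every element of order four lies in `⟨i⟩`, `⟨j⟩` or `⟨ij⟩` -/
theorem order_four_fact : ∀ i j u : Q8c, IsStd i j → u ^ 2 ≠ 1 →
    (u = i ∨ u = i⁻¹) ∨ (u = j ∨ u = j⁻¹) ∨ (u = i * j ∨ u = (i * j)⁻¹) := by
  decide

set_option maxRecDepth 100000 in
theorem inv_not_mem_fact : ∀ i j : Q8c, (j ≠ 1 ∧ j ≠ i ∧ j ≠ i ^ 2 ∧ j ≠ i ^ 3) →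
    (j⁻¹ ≠ 1 ∧ j⁻¹ ≠ i⁻¹ ∧ j⁻¹ ≠ i⁻¹ ^ 2 ∧ j⁻¹ ≠ i⁻¹ ^ 3) := by
  decide

set_option maxRecDepth 100000 in
theorem std_facts : ∀ i j : Q8c, IsStd i j →
    j * i ^ 3 = i * j ∧ j * (i * j) = i ∧ (i * j) ^ 2 ≠ 1 ∧ j ^ 2 ≠ 1 := by
  decide

set_option maxRecDepth 100000 in
theorem sq_eq_one_fact : ∀ q : Q8c, q ^ 2 = 1 → q = 1 ∨ q = a 2 := by decide

/-! ### automorphisms of odd order -/

theorem mem_zpowers_iff_list (i q : Q8c) :
    q ∈ Subgroup.zpowers i ↔ (q = 1 ∨ q = i ∨ q = i ^ 2 ∨ q = i ^ 3) := by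
  constructor
  · intro h
    obtain ⟨n, hn⟩ := (mem_powers_iff_mem_zpowers.mpr h)
    have hn' : i ^ n = q := hn
    rw [pow_eq_pow_mod n (pow_four_eq_one i)] at hn'
    have hlt : n % 4 < 4 := Nat.mod_lt _ (by norm_num)
    interval_cases (n % 4)
    · left; rw [← hn', pow_zero]
    · right; left; rw [← hn', pow_one]
    · right; right; left; exact hn'.symm
    · right; right; right; exact hn'.symm
  · rintro (h | h | h | h)
    · rw [h]; exact Subgroup.one_mem _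
    · rw [h]; exact Subgroup.mem_zpowers _
    · rw [h]; exact Subgroup.pow_mem _ (Subgroup.mem_zpowers _) _
    · rw [h]; exact Subgroup.pow_mem _ (Subgroup.mem_zpowers _) _

theorem not_mem_zpowers_iff_list (i q : Q8c) :
    q ∉ Subgroup.zpowers i ↔ (q ≠ 1 ∧ q ≠ i ∧ q ≠ i ^ 2 ∧ q ≠ i ^ 3) := by
  rw [mem_zpowers_iff_list]; tauto

theorem orderOf_eq_four {i : Q8c} (hi : i ^ 2 ≠ 1) : orderOf i = 2 ^ 2 :=
  orderOf_eq_prime_pow (p := 2) (n := 1) (by simpa using hi) (by simpa using pow_four_eq_one i)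

/-- an automorphism of odd order of `Q₈` stabilizing some cyclic subgroup of order four is
trivial -/
theorem aut_eq_one_of_mem_zpowers (β : MulAut Q8c) (m : ℕ) (hm : Odd m) (hβm : β ^ m = 1)
    (i : Q8c) (hi : i ^ 2 ≠ 1) (h : β i ∈ Subgroup.zpowers i) : β = 1 := by
  have ho : orderOf i = 2 ^ 2 := orderOf_eq_four hi
  have hfix : β i = i :=
    Cfsg.Agent.Lib.Helper18.aut_fixes_of_odd_of_mem_zpowers β m hm hβm i 2 ho h
  ext q
  show β q = q
  by_cases hq : q ∈ Subgroup.zpowers i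
  · obtain ⟨k, rfl⟩ := Subgroup.mem_zpowers_iff.mp hq
    rw [map_zpow, hfix]
  · have hβq : β q ∉ Subgroup.zpowers i := by
      intro hmem
      obtain ⟨k, hk⟩ := Subgroup.mem_zpowers_iff.mp hmem
      apply hq
      have : β (i ^ k) = β q := by rw [map_zpow, hfix, hk]
      rw [← β.injective this]; exact Subgroup.zpow_mem_zpowers i k
    rw [not_mem_zpowers_iff_list] at hq hβq
    rcases cover_fact i q (β q) hi hq with h1 | h1
    · exact absurd h1 (by tauto)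
    · obtain ⟨e, he⟩ : ∃ e : ℤ, β q = q * i ^ e := by
        rcases h1 with h | h | h | h
        · exact ⟨0, by rw [h]; simp⟩
        · exact ⟨1, by rw [h]; simp⟩
        · exact ⟨2, by rw [h]; norm_cast⟩
        · exact ⟨3, by rw [h]; norm_cast⟩
      exact Cfsg.Agent.Lib.Helper18.aut_fixes_of_odd_of_coset β m hm hβm i q 2
        (by simpa using pow_four_eq_one i) hfix e he

/-- a nontrivial automorphism of odd order of `Q₈` permutes a standard pair cyclically -/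
theorem exists_std_pair_of_odd_aut (β : MulAut Q8c) (m : ℕ) (hm : Odd m) (hβm : β ^ m = 1)
    (hβ : β ≠ 1) : ∃ i j : Q8c, IsStd i j ∧ β i = j ∧ β j = i * j := by
  obtain ⟨i₀, hi₀def⟩ : ∃ i₀ : Q8c, i₀ = a 1 := ⟨_, rfl⟩
  have hi₀ : i₀ ^ 2 ≠ 1 := by rw [hi₀def]; decide
  obtain ⟨j, hjdef⟩ : ∃ j : Q8c, j = β i₀ := ⟨_, rfl⟩
  have hj : j ∉ Subgroup.zpowers i₀ := fun h =>
    hβ (aut_eq_one_of_mem_zpowers β m hm hβm i₀ hi₀ (hjdef ▸ h))
  have hj' := (not_mem_zpowers_iff_list i₀ j).mp hj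
  have hj2 : j ^ 2 ≠ 1 := sq_ne_one_of_not_mem i₀ j hi₀ hj'
  obtain ⟨k, hkdef⟩ : ∃ k : Q8c, k = β j := ⟨_, rfl⟩
  have hk1 : k ∉ Subgroup.zpowers j := fun h =>
    hβ (aut_eq_one_of_mem_zpowers β m hm hβm j hj2 (hkdef ▸ h))
  have hk2 : k ∉ Subgroup.zpowers i₀ := by
    intro h
    have hodd2 : (β ^ 2) ^ m = 1 := by rw [← pow_mul, mul_comm, pow_mul, hβm, one_pow]
    have h2 : (β ^ 2) i₀ ∈ Subgroup.zpowers i₀ := by
      have : (β ^ 2) i₀ = k := by rw [pow_two, MulAut.mul_apply, ← hjdef, hkdef]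
      rw [this]; exact h
    have h3 : β ^ 2 = 1 := aut_eq_one_of_mem_zpowers (β ^ 2) m hm hodd2 i₀ hi₀ h2
    obtain ⟨t, ht⟩ := hm
    apply hβ
    have : β ^ m = β := by rw [ht, pow_succ, pow_mul, h3, one_pow, one_mul]
    rw [← this, hβm]
  have hk1' := (not_mem_zpowers_iff_list j k).mp hk1
  have hk2' := (not_mem_zpowers_iff_list i₀ k).mp hk2
  rcases third_fact i₀ j k hi₀ hj' hk2' hk1' with h | h
  · exact ⟨i₀, j, isStd_of_not_mem i₀ j hi₀ hj', hjdef.symm, by rw [← hkdef, h]⟩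
  · refine ⟨i₀⁻¹, j⁻¹, isStd_of_not_mem i₀⁻¹ j⁻¹ ?_ (inv_not_mem_fact i₀ j hj'), ?_, ?_⟩
    · rw [hi₀def]; decide
    · rw [map_inv, ← hjdef]
    · rw [map_inv, ← hkdef, h, mul_inv_rev]

/-- an automorphism of `Q₈` is determined by its values on `a 1` and `xa 0` -/
theorem aut_ext {β β' : MulAut Q8c} (h1 : β (a 1) = β' (a 1)) (h2 : β (xa 0) = β' (xa 0)) :
    β = β' := by
  have ha : ∀ k : ZMod 4, β (a k) = β' (a k) := by
    intro k
    have : (a k : Q8c) = (a 1) ^ k.val := by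
      rw [a_one_pow, ZMod.natCast_zmod_val]
    rw [this, map_pow, map_pow, h1]
  ext q
  cases q with
  | a k => exact ha k
  | xa k =>
    have : (xa k : Q8c) = xa 0 * a k := by rw [xa_mul_a, zero_add]
    rw [this, map_mul, map_mul, h2, ha k]

/-- the standard automorphism of order three of `Q₈`: `a 1 ↦ xa 0 ↦ xa 3 ↦ a 1` -/
noncomputable def sigma : MulAut Q8c := stdAut (xa 0) (xa 3) (by decide)

theorem sigma_a_one : sigma (a 1) = xa 0 := stdAut_a_one _ _ _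

theorem sigma_xa_zero : sigma (xa 0) = xa 3 := stdAut_xa_zero _ _ _

/-- every nontrivial automorphism of odd order of `Q₈` is conjugate to `sigma` -/
theorem exists_conj_sigma (β : MulAut Q8c) (m : ℕ) (hm : Odd m) (hβm : β ^ m = 1)
    (hβ : β ≠ 1) : ∃ γ : MulAut Q8c, γ⁻¹ * β * γ = sigma := by
  obtain ⟨i, j, hstd, hi, hj⟩ := exists_std_pair_of_odd_aut β m hm hβm hβ
  refine ⟨stdAut i j hstd, aut_ext ?_ ?_⟩
  · rw [MulAut.mul_apply, MulAut.mul_apply, stdAut_a_one, hi, sigma_a_one, MulAut.inv_apply,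
      MulEquiv.symm_apply_eq, stdAut_xa_zero]
  · rw [MulAut.mul_apply, MulAut.mul_apply, stdAut_xa_zero, hj, sigma_xa_zero, MulAut.inv_apply,
      MulEquiv.symm_apply_eq, stdAut_apply]
    show i * j = j * i ^ (3 : ZMod 4).val
    have : (3 : ZMod 4).val = 3 := by decide
    rw [this, (std_facts i j hstd).1]

/-! ### subgroups of order four -/

theorem exists_zpowers_of_card_four (A : Subgroup Q8c) (hA : Nat.card A = 4) :
    ∃ u ∈ A, u ^ 2 ≠ 1 ∧ A = Subgroup.zpowers u := by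
  have hex : ∃ u ∈ A, u ^ 2 ≠ 1 := by
    by_contra hcon
    push Not at hcon
    have hle : A ≤ Subgroup.zpowers (a 2 : Q8c) := by
      intro q hq
      rcases sq_eq_one_fact q (hcon q hq) with h | h
      · rw [h]; exact Subgroup.one_mem _
      · rw [h]; exact Subgroup.mem_zpowers _
    have h1 := Subgroup.card_le_of_le hle
    have h2 : Nat.card (Subgroup.zpowers (a 2 : Q8c)) = 2 := by
      rw [Nat.card_zpowers]
      exact orderOf_eq_prime (by decide) (by decide)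
    rw [h2, hA] at h1
    omega
  obtain ⟨u, huA, hu⟩ := hex
  refine ⟨u, huA, hu, ?_⟩
  symm
  apply Subgroup.eq_of_le_of_card_ge ((Subgroup.zpowers_le).mpr huA)
  rw [hA, Nat.card_zpowers, orderOf_eq_four hu]
  norm_num

/-- proper subgroups of `Q₈` are cyclic -/
theorem isCyclic_of_ne_top (K : Subgroup Q8c) (hK : K ≠ ⊤) : IsCyclic K := by
  have hcard : Nat.card Q8c = 8 := by
    rw [Nat.card_eq_fintype_card, QuaternionGroup.card]
  have hdvd : Nat.card K ∣ 8 := by rw [← hcard]; exact Subgroup.card_subgroup_dvd_card K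
  have hne : Nat.card K ≠ 8 := by
    intro h
    exact hK (Subgroup.eq_top_of_card_eq K (by rw [h, hcard]))
  have hmem : Nat.card K ∈ Nat.divisors 8 := Nat.mem_divisors.mpr ⟨hdvd, by norm_num⟩
  have hdiv : Nat.divisors 8 = {1, 2, 4, 8} := by decide
  rw [hdiv] at hmem
  simp only [Finset.mem_insert, Finset.mem_singleton] at hmem
  rcases hmem with h | h | h | h
  · haveI : Subsingleton K := (Nat.card_eq_one_iff_unique.mp h).1
    exact isCyclic_of_subsingleton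
  · haveI : Fact (Nat.Prime 2) := ⟨Nat.prime_two⟩
    exact isCyclic_of_prime_card h
  · obtain ⟨u, _, _, hAu⟩ := exists_zpowers_of_card_four K h
    rw [hAu]; infer_instance
  · exact absurd h hne

/-- a nontrivial automorphism of odd order of `Q₈` permutes the three subgroups of order
four transitively -/
theorem exists_pow_map_eq (β : MulAut Q8c) (m : ℕ) (hm : Odd m) (hβm : β ^ m = 1) (hβ : β ≠ 1)
    (A B : Subgroup Q8c) (hA : Nat.card A = 4) (hB : Nat.card B = 4) :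
    ∃ e : ℕ, A.map (β ^ e).toMonoidHom = B := by
  obtain ⟨i, j, hstd, hi, hj⟩ := exists_std_pair_of_odd_aut β m hm hβm hβ
  obtain ⟨h1, h2, h3, h4⟩ := std_facts i j hstd
  have hmap : ∀ (e : ℕ) (u : Q8c), (Subgroup.zpowers u).map (β ^ e).toMonoidHom =
      Subgroup.zpowers ((β ^ e) u) := fun e u => MonoidHom.map_zpowers _ u
  have hb1 : (β ^ 1) i = j := by rw [pow_one, hi]
  have hb1' : (β ^ 1) j = i * j := by rw [pow_one, hj]
  have hb1'' : (β ^ 1) (i * j) = i := by rw [pow_one, map_mul, hi, hj, h2]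
  have hb2 : (β ^ 2) i = i * j := by rw [pow_two, MulAut.mul_apply, hi, hj]
  have hb2' : (β ^ 2) j = i := by rw [pow_two, MulAut.mul_apply, hj, map_mul, hi, hj, h2]
  have hb2'' : (β ^ 2) (i * j) = j := by
    rw [pow_two, MulAut.mul_apply, map_mul, hi, hj, h2, hi]
  have hb0 : ∀ u : Q8c, (β ^ 0) u = u := fun u => by rw [pow_zero]; rfl
  -- classify
  have hclass : ∀ C : Subgroup Q8c, Nat.card C = 4 →
      C = Subgroup.zpowers i ∨ C = Subgroup.zpowers j ∨ C = Subgroup.zpowers (i * j) := by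
    intro C hC
    obtain ⟨u, _, hu, hCu⟩ := exists_zpowers_of_card_four C hC
    rcases order_four_fact i j u hstd hu with (h | h) | (h | h) | (h | h)
    · left; rw [hCu, h]
    · left; rw [hCu, h, Subgroup.zpowers_inv]
    · right; left; rw [hCu, h]
    · right; left; rw [hCu, h, Subgroup.zpowers_inv]
    · right; right; rw [hCu, h]
    · right; right; rw [hCu, h, Subgroup.zpowers_inv]
  rcases hclass A hA with rfl | rfl | rfl <;> rcases hclass B hB with rfl | rfl | rfl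
  · exact ⟨0, by rw [hmap, hb0]⟩
  · exact ⟨1, by rw [hmap, hb1]⟩
  · exact ⟨2, by rw [hmap, hb2]⟩
  · exact ⟨2, by rw [hmap, hb2']⟩
  · exact ⟨0, by rw [hmap, hb0]⟩
  · exact ⟨1, by rw [hmap, hb1']⟩
  · exact ⟨1, by rw [hmap, hb1'']⟩
  · exact ⟨2, by rw [hmap, hb2'']⟩
  · exact ⟨0, by rw [hmap, hb0]⟩

end Cfsg.Agent.Lib.Helper20.Q8
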