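import Mathlib
import Cfsg.Agent.Lib.Helper20.QuatEight
import Cfsg.Agent.Lib.Helper20.OddAutTwoGroup
import Cfsg.Agent.Lib.Helper29.MinNonPNilpotent

/-!
Helper lemmas (helper20): conjugation automorphisms induced on a subgroup by elements of its
normalizer; failure of Frobenius' criterion in groups with quaternion Sylow `2`-subgroups.
-/

set_option autoImplicit false

namespace Cfsg.Agent.Lib.Helper20.Q8

open QuaternionGroup

section ConjAut

variable {G : Type*} [Group G]

/-- the automorphism of `Q` induced by conjugation with `g ∈ N(Q)` -/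
def conjAut (Q : Subgroup G) (g : G) (hg : g ∈ Subgroup.normalizer (Q : Set G)) : MulAut Q :=
  Q.normalizerMonoidHom ⟨g, hg⟩

theorem conjAut_apply_coe (Q : Subgroup G) (g : G) (hg : g ∈ Subgroup.normalizer (Q : Set G))
    (q : Q) : ((conjAut Q g hg q : Q) : G) = g * q * g⁻¹ := rfl

theorem conjAut_pow (Q : Subgroup G) (g : G) (hg : g ∈ Subgroup.normalizer (Q : Set G)) (k : ℕ) :
    conjAut Q g hg ^ k = conjAut Q (g ^ k) (Subgroup.pow_mem _ hg k) := by
  unfold conjAut
  rw [← map_pow]
  rfl

theorem conjAut_eq_one_iff (Q : Subgroup G) (g : G) (hg : g ∈ Subgroup.normalizer (Q : Set G)) :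
    conjAut Q g hg = 1 ↔ g ∈ Subgroup.centralizer (Q : Set G) := by
  constructor
  · intro h
    rw [Subgroup.mem_centralizer_iff]
    intro q hq
    have h1 := congrArg (fun α : MulAut Q => ((α ⟨q, hq⟩ : Q) : G)) h
    simp only [conjAut_apply_coe, MulAut.one_apply] at h1
    calc q * g = (g * q * g⁻¹) * g := by rw [h1]
      _ = g * q := by group
  · intro h
    rw [Subgroup.mem_centralizer_iff] at h
    ext q
    rw [conjAut_apply_coe, MulAut.one_apply, ← h q q.2]
    group

theorem conjAut_pow_orderOf (Q : Subgroup G) (g : G) (hg : g ∈ Subgroup.normalizer (Q : Set G)) :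
    conjAut Q g hg ^ orderOf g = 1 := by
  rw [conjAut_pow]
  ext q
  rw [conjAut_apply_coe, MulAut.one_apply, pow_orderOf_eq_one]
  group

theorem orderOf_conjAut_dvd (Q : Subgroup G) (g : G) (hg : g ∈ Subgroup.normalizer (Q : Set G)) :
    orderOf (conjAut Q g hg) ∣ orderOf g :=
  orderOf_dvd_of_pow_eq_one (conjAut_pow_orderOf Q g hg)

end ConjAut

section Sylow

variable {G : Type*} [Group G] [Finite G]

/-- If Frobenius' criterion fails, some `2`-subgroup of a given Sylow `2`-subgroup is normalized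
but not centralized by an element of odd order. -/
theorem exists_odd_normalizing_of_not_frobCond (S : Sylow 2 G)
    (hF : ¬ Cfsg.Agent.Lib.Helper29.FrobCond 2 G) :
    ∃ Q : Subgroup G, Q ≤ (S : Subgroup G) ∧ ∃ g ∈ Subgroup.normalizer (Q : Set G),
      Odd (orderOf g) ∧ g ∉ Subgroup.centralizer (Q : Set G) := by
  haveI : Fact (Nat.Prime 2) := ⟨Nat.prime_two⟩
  by_contra hcon
  apply hF
  apply Cfsg.Agent.Lib.Helper29.frobCond_of_sylow S
  intro Q hQ g hg hcop
  by_contra hgc
  exact hcon ⟨Q, hQ, g, hg, Nat.Coprime.odd_of_right hcop, hgc⟩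

/-- an element of odd order normalizing a cyclic `2`-subgroup centralizes it -/
theorem mem_centralizer_of_isCyclic (Q : Subgroup G) (hQ : IsPGroup 2 Q) [IsCyclic Q] (g : G)
    (hg : g ∈ Subgroup.normalizer (Q : Set G)) (hodd : Odd (orderOf g)) :
    g ∈ Subgroup.centralizer (Q : Set G) := by
  rw [← conjAut_eq_one_iff Q g hg]
  apply aut_eq_one_of_isCyclic_two_group hQ
  exact Odd.of_dvd_nat hodd (orderOf_conjAut_dvd Q g hg)

end Sylow

end Cfsg.Agent.Lib.Helper20.Q8
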