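import Mathlib
import Cfsg.Agent.Lib.Lead.Q8Facts
import Cfsg.Agent.Lib.Helper12.PComplement
import Cfsg.Agent.Lib.Helper20.QuatSylow

/-!
Helper lemmas (helper20): the group-theoretic input `QuatFacts X t u` of the Brauer–Suzuki
theorem for `Q₈`, derived from a quaternion Sylow `2`-subgroup `S` of order `8` together with
an element of odd order normalizing but not centralizing `S` (part (T1) of the lead's plan).
-/

set_option autoImplicit false

namespace Cfsg.Agent.Lib.Helper20.Q8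

open QuaternionGroup

universe u

/-! ### more decidable facts about `Q₈` -/

set_option maxRecDepth 100000 in
theorem invol_unique_fact : ∀ q q' : Q8c, q ^ 2 = 1 → q ≠ 1 → q' ^ 2 = 1 → q' ≠ 1 → q = q' := by
  decide

set_option maxRecDepth 100000 in
theorem commute_fact : ∀ i q : Q8c, i ^ 2 ≠ 1 → q * i = i * q →
    (q = 1 ∨ q = i ∨ q = i ^ 2 ∨ q = i ^ 3) := by
  decide

set_option maxRecDepth 100000 in
theorem invert_fact : ∀ i : Q8c, i ^ 2 ≠ 1 → ∃ s : Q8c, s * i * s⁻¹ = i⁻¹ := by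
  decide

set_option maxRecDepth 100000 in
theorem gen_fact : ∀ i y : Q8c, i ^ 2 ≠ 1 → y ^ 2 ≠ 1 →
    (y = 1 ∨ y = i ∨ y = i ^ 2 ∨ y = i ^ 3) → y = i ∨ y = i⁻¹ := by
  decide

/-! ### transport along an isomorphism `S ≃* Q₈` -/

section Transport

variable {X : Type*} [Group X] {S : Subgroup X}

theorem pow_eq_one_iff_equiv (e : ↥S ≃* Q8c) (s : S) (n : ℕ) :
    (e s) ^ n = 1 ↔ (s : X) ^ n = 1 := by
  rw [← map_pow, EmbeddingLike.map_eq_one_iff, ← Subgroup.coe_pow, OneMemClass.coe_eq_one]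

/-- the facts about a quaternion subgroup `S` with involution `t` that we use -/
structure QLike (S : Subgroup X) (t : X) : Prop where
  t_mem : t ∈ S
  pow_four : ∀ s ∈ S, s ^ 4 = 1
  invol : ∀ s ∈ S, s ^ 2 = 1 → s = 1 ∨ s = t
  comm : ∀ v ∈ S, v ^ 2 ≠ 1 → ∀ s ∈ S, s * v = v * s → s ∈ Subgroup.zpowers v
  invert : ∀ v ∈ S, v ^ 2 ≠ 1 → ∃ s ∈ S, s * v * s⁻¹ = v⁻¹

theorem qlike_of_equiv (e : ↥S ≃* Q8c) {t : X} (ht : t ∈ S) (ht2 : t ^ 2 = 1) (ht1 : t ≠ 1) :
    QLike S t := by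
  have hne : ∀ (s : X) (hs : s ∈ S), s ≠ 1 → e ⟨s, hs⟩ ≠ 1 := by
    intro s hs h1 h
    apply h1
    have := (EmbeddingLike.map_eq_one_iff (f := e)).mp h
    exact congrArg Subtype.val this
  refine ⟨ht, ?_, ?_, ?_, ?_⟩
  · intro s hs
    exact (pow_eq_one_iff_equiv e ⟨s, hs⟩ 4).mp (pow_four_eq_one _)
  · intro s hs hs2
    by_cases h1 : s = 1
    · left; exact h1
    · right
      have h := invol_unique_fact (e ⟨s, hs⟩) (e ⟨t, ht⟩)
        ((pow_eq_one_iff_equiv e ⟨s, hs⟩ 2).mpr hs2) (hne s hs h1)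
        ((pow_eq_one_iff_equiv e ⟨t, ht⟩ 2).mpr ht2) (hne t ht ht1)
      exact congrArg Subtype.val (e.injective h)
  · intro v hv hv2 s hs hcomm
    have hc : e ⟨s, hs⟩ * e ⟨v, hv⟩ = e ⟨v, hv⟩ * e ⟨s, hs⟩ := by
      rw [← map_mul, ← map_mul]
      congr 1
      exact Subtype.ext hcomm
    have h := commute_fact (e ⟨v, hv⟩) (e ⟨s, hs⟩)
      (mt (pow_eq_one_iff_equiv e ⟨v, hv⟩ 2).mp hv2) hc
    rcases h with h | h | h | h
    · have h' : (⟨s, hs⟩ : S) = 1 := (EmbeddingLike.map_eq_one_iff (f := e)).mp h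
      have : s = 1 := congrArg Subtype.val h'
      rw [this]; exact one_mem _
    · have : s = v := congrArg Subtype.val (e.injective h)
      rw [this]; exact Subgroup.mem_zpowers v
    · rw [← map_pow] at h
      have : s = v ^ 2 := congrArg Subtype.val (e.injective h)
      rw [this]; exact Subgroup.pow_mem _ (Subgroup.mem_zpowers v) 2
    · rw [← map_pow] at h
      have : s = v ^ 3 := congrArg Subtype.val (e.injective h)
      rw [this]; exact Subgroup.pow_mem _ (Subgroup.mem_zpowers v) 3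
  · intro v hv hv2
    obtain ⟨q, hq⟩ := invert_fact (e ⟨v, hv⟩) (mt (pow_eq_one_iff_equiv e ⟨v, hv⟩ 2).mp hv2)
    refine ⟨(e.symm q : S), (e.symm q).2, ?_⟩
    have h : e (e.symm q * ⟨v, hv⟩ * (e.symm q)⁻¹) = e (⟨v, hv⟩⁻¹) := by
      rw [map_mul, map_mul, map_inv, map_inv, MulEquiv.apply_symm_apply, hq]
    exact congrArg Subtype.val (e.injective h)

end Transport

/-! ### all elements of order four of `S` are fused by `⟨g⟩` up to inversion -/

theorem congr_apply_apply {A B : Type*} [Group A] [Group B] (e : A ≃* B) (α : MulAut A) (a : A) :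
    (MulAut.congr e α) (e a) = e (α a) := by
  simp [MulAut.congr]

theorem exists_pow_conj {X : Type*} [Group X] [Finite X] {S : Subgroup X} (e : ↥S ≃* Q8c) (g : X)
    (hgN : g ∈ Subgroup.normalizer (S : Set X)) (hgo : Odd (orderOf g))
    (hgc : g ∉ Subgroup.centralizer (S : Set X)) (v w : X) (hv : v ∈ S) (hw : w ∈ S)
    (hv2 : v ^ 2 ≠ 1) (hw2 : w ^ 2 ≠ 1) :
    ∃ k : ℕ, g ^ k * v * (g ^ k)⁻¹ = w ∨ g ^ k * v * (g ^ k)⁻¹ = w⁻¹ := by
  obtain ⟨α, hα⟩ : ∃ α : MulAut S, α = conjAut S g hgN := ⟨_, rfl⟩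
  obtain ⟨β, hβ⟩ : ∃ β : MulAut Q8c, β = MulAut.congr e α := ⟨_, rfl⟩
  have hβm : β ^ orderOf g = 1 := by rw [hβ, ← map_pow, hα, conjAut_pow_orderOf, map_one]
  have hβ1 : β ≠ 1 := by
    intro h
    apply hgc
    rw [← conjAut_eq_one_iff S g hgN, ← hα]
    rw [hβ] at h
    exact (EmbeddingLike.map_eq_one_iff (f := MulAut.congr e)).mp h
  have hev2 : (e ⟨v, hv⟩) ^ 2 ≠ 1 := mt (pow_eq_one_iff_equiv e ⟨v, hv⟩ 2).mp hv2
  have hew2 : (e ⟨w, hw⟩) ^ 2 ≠ 1 := mt (pow_eq_one_iff_equiv e ⟨w, hw⟩ 2).mp hw2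
  obtain ⟨k, hk⟩ := exists_pow_map_eq β (orderOf g) hgo hβm hβ1
    (Subgroup.zpowers (e ⟨v, hv⟩)) (Subgroup.zpowers (e ⟨w, hw⟩))
    (by rw [Nat.card_zpowers, orderOf_eq_four hev2]; norm_num)
    (by rw [Nat.card_zpowers, orderOf_eq_four hew2]; norm_num)
  refine ⟨k, ?_⟩
  have hmem : (β ^ k) (e ⟨v, hv⟩) ∈ Subgroup.zpowers (e ⟨w, hw⟩) := by
    rw [← hk]; exact Subgroup.mem_map_of_mem _ (Subgroup.mem_zpowers _)
  have hβk : (β ^ k) (e ⟨v, hv⟩) = e ((α ^ k) ⟨v, hv⟩) := by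
    rw [hβ, ← map_pow, congr_apply_apply]
  have hy2 : ((β ^ k) (e ⟨v, hv⟩)) ^ 2 ≠ 1 := by
    rw [← map_pow]
    intro h
    exact hev2 ((EmbeddingLike.map_eq_one_iff (f := β ^ k)).mp h)
  have hcoe : (((α ^ k) ⟨v, hv⟩ : S) : X) = g ^ k * v * (g ^ k)⁻¹ := by
    rw [hα, conjAut_pow, conjAut_apply_coe]
  rcases gen_fact _ _ hew2 hy2 ((mem_zpowers_iff_list _ _).mp hmem) with h | h
  · left
    rw [hβk] at h
    rw [← hcoe]
    exact congrArg Subtype.val (e.injective h)
  · right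
    rw [hβk, ← map_inv] at h
    rw [← hcoe]
    exact congrArg Subtype.val (e.injective h)

/-! ### the main statement (T1) -/

theorem conj_eq_one_iff' {X : Type*} [Group X] (h x : X) : h * x * h⁻¹ = 1 ↔ x = 1 := by
  constructor
  · intro h1
    calc x = h⁻¹ * (h * x * h⁻¹) * h := by group
      _ = 1 := by rw [h1]; group
  · intro h1; rw [h1]; group

theorem quatFacts_of_sylow {X : Type u} [Group X] [Finite X] (S : Sylow 2 X)
    (e : ↥(S : Subgroup X) ≃* QuaternionGroup 2) (g : X)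
    (hgN : g ∈ Subgroup.normalizer ((S : Subgroup X) : Set X)) (hgo : Odd (orderOf g))
    (hgc : g ∉ Subgroup.centralizer ((S : Subgroup X) : Set X))
    (t u : X) (ht : t ∈ (S : Subgroup X)) (hto : orderOf t = 2)
    (hu : u ∈ (S : Subgroup X)) (huo : orderOf u = 4) :
    Cfsg.Agent.CharLib.QuatFacts X t u := by
  haveI : Fact (Nat.Prime 2) := ⟨Nat.prime_two⟩
  have ht2 : t ^ 2 = 1 := by rw [← hto]; exact pow_orderOf_eq_one t
  have ht1 : t ≠ 1 := by
    intro h; rw [h, orderOf_one] at hto; omega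
  have hQ : QLike (S : Subgroup X) t := qlike_of_equiv e ht ht2 ht1
  have hu2 : u ^ 2 ≠ 1 := by
    intro h
    have h1 := Nat.le_of_dvd (by norm_num) (orderOf_dvd_of_pow_eq_one h)
    rw [huo] at h1; omega
  have hu4 : u ^ 4 = 1 := hQ.pow_four u hu
  -- conjugation into S
  have hconj : ∀ R : Subgroup X, IsPGroup 2 R →
      ∃ h : X, ∀ r ∈ R, h * r * h⁻¹ ∈ (S : Subgroup X) := by
    intro R hR
    obtain ⟨h, _, hh⟩ := Cfsg.Agent.Lib.Helper12.exists_conj_mem_sylow S ⊤ R le_top le_top hR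
    exact ⟨h, hh⟩
  have hsq : u * u = t := by
    have h1 : (u ^ 2) ^ 2 = 1 := by rw [← pow_mul]; exact hu4
    rcases hQ.invol (u ^ 2) (Subgroup.pow_mem _ hu 2) h1 with h | h
    · exact absurd h hu2
    · rw [← pow_two]; exact h
  have hcardS : Nat.card (S : Subgroup X) = 8 := by
    rw [Nat.card_congr e.toEquiv, Nat.card_eq_fintype_card, QuaternionGroup.card]
  have hcard2 : (Nat.card X).factorization 2 = 3 := by
    have h := S.card_eq_multiplicity
    rw [hcardS] at h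
    have h' : 2 ^ (Nat.card X).factorization 2 = 2 ^ 3 := by rw [← h]; norm_num
    exact Nat.pow_right_injective (le_refl 2) h'
  -- every 2-element is 1, ~ t or ~ u
  have htwo : ∀ x : X, (∃ k : ℕ, orderOf x = 2 ^ k) → x = 1 ∨ IsConj x t ∨ IsConj x u := by
    rintro x ⟨k, hk⟩
    have hR : IsPGroup 2 (Subgroup.zpowers x) :=
      IsPGroup.of_card (n := k) (by rw [Nat.card_zpowers, hk])
    obtain ⟨h, hh⟩ := hconj _ hR
    have hs : h * x * h⁻¹ ∈ (S : Subgroup X) := hh x (Subgroup.mem_zpowers x)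
    by_cases hs2 : (h * x * h⁻¹) ^ 2 = 1
    · rcases hQ.invol _ hs hs2 with h1 | h1
      · left
        exact (conj_eq_one_iff' h x).mp h1
      · right; left
        exact isConj_iff.mpr ⟨h, h1⟩
    · right; right
      obtain ⟨n, hn | hn⟩ := exists_pow_conj e g hgN hgo hgc _ u hs hu hs2 hu2
      · exact isConj_iff.mpr ⟨g ^ n * h, by rw [← hn]; group⟩
      · obtain ⟨s', hs', hs'u⟩ := hQ.invert u hu hu2
        refine isConj_iff.mpr ⟨s' * (g ^ n * h), ?_⟩
        have h1 : s' * u⁻¹ * s'⁻¹ = u := by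
          calc s' * u⁻¹ * s'⁻¹ = (s' * u * s'⁻¹)⁻¹ := by group
            _ = u := by rw [hs'u, inv_inv]
        rw [← h1, ← hn]; group
  -- 2-subgroups centralizing u and containing u lie in ⟨u⟩
  have hkey : ∀ R : Subgroup X, IsPGroup 2 R → u ∈ R → (∀ r ∈ R, r * u = u * r) →
      ∀ r ∈ R, r ∈ Subgroup.zpowers u := by
    intro R hR huR hRc r hr
    obtain ⟨h, hh⟩ := hconj R hR
    have hv : h * u * h⁻¹ ∈ (S : Subgroup X) := hh u huR
    have hv2 : (h * u * h⁻¹) ^ 2 ≠ 1 := by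
      rw [conj_pow]; intro h1
      exact hu2 ((conj_eq_one_iff' h _).mp h1)
    have hcomm : (h * r * h⁻¹) * (h * u * h⁻¹) = (h * u * h⁻¹) * (h * r * h⁻¹) := by
      have := hRc r hr
      calc (h * r * h⁻¹) * (h * u * h⁻¹) = h * (r * u) * h⁻¹ := by group
        _ = h * (u * r) * h⁻¹ := by rw [this]
        _ = (h * u * h⁻¹) * (h * r * h⁻¹) := by group
    have hmem := hQ.comm _ hv hv2 _ (hh r hr) hcomm
    obtain ⟨n, hn⟩ := Subgroup.mem_zpowers_iff.mp hmem
    rw [Subgroup.mem_zpowers_iff]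
    refine ⟨n, ?_⟩
    rw [conj_zpow] at hn
    exact mul_left_cancel (mul_right_cancel hn)
  -- the centralizer of u
  have huC : u ∈ Subgroup.centralizer ({u} : Set X) :=
    Subgroup.mem_centralizer_iff.mpr (fun y hy => by rw [Set.mem_singleton_iff.mp hy])
  have hCcomm : ∀ c ∈ Subgroup.centralizer ({u} : Set X), c * u = u * c := by
    intro c hc
    exact (Subgroup.mem_centralizer_iff.mp hc u rfl).symm
  have hzp : IsPGroup 2 (Subgroup.zpowers (⟨u, huC⟩ : Subgroup.centralizer ({u} : Set X))) :=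
    IsPGroup.of_card (n := 2) (by rw [Nat.card_zpowers, Subgroup.orderOf_mk, huo]; norm_num)
  obtain ⟨P, hP⟩ := hzp.exists_le_sylow
  have hPsub : ∀ x ∈ (P : Subgroup (Subgroup.centralizer ({u} : Set X))),
      (x : X) ∈ Subgroup.zpowers u := by
    intro x hx
    apply hkey ((P : Subgroup (Subgroup.centralizer ({u} : Set X))).map
      (Subgroup.centralizer ({u} : Set X)).subtype) (P.2.map _)
      ⟨⟨u, huC⟩, hP (Subgroup.mem_zpowers _), rfl⟩ ?_ (x : X) ⟨x, hx, rfl⟩
    rintro _ ⟨y, _, rfl⟩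
    exact hCcomm y y.2
  have hPcard : Nat.card (P : Subgroup (Subgroup.centralizer ({u} : Set X))) = 4 := by
    have : (P : Subgroup (Subgroup.centralizer ({u} : Set X))) =
        Subgroup.zpowers (⟨u, huC⟩ : Subgroup.centralizer ({u} : Set X)) := by
      apply le_antisymm
      · intro x hx
        obtain ⟨n, hn⟩ := Subgroup.mem_zpowers_iff.mp (hPsub x hx)
        rw [Subgroup.mem_zpowers_iff]
        exact ⟨n, Subtype.ext (by rw [Subgroup.coe_zpow]; exact hn)⟩
      · exact hP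
    rw [this, Nat.card_zpowers, Subgroup.orderOf_mk, huo]
  have hPcen : ∀ x ∈ (P : Subgroup (Subgroup.centralizer ({u} : Set X))),
      ∀ c : Subgroup.centralizer ({u} : Set X), c * x = x * c := by
    intro x hx c
    obtain ⟨n, hn⟩ := Subgroup.mem_zpowers_iff.mp (hPsub x hx)
    apply Subtype.ext
    rw [Subgroup.coe_mul, Subgroup.coe_mul, ← hn]
    exact (Commute.zpow_right (hCcomm c c.2) n)
  have hmul := Cfsg.Agent.Lib.Helper12.card_pPrimeCore_mul_of_central_sylow P hPcen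
  have hpc : ∃ k : ℕ, (pPrimeCore 2 (Subgroup.centralizer ({u} : Set X))).index = 2 ^ k := by
    refine ⟨2, ?_⟩
    have hidx := Subgroup.index_mul_card (pPrimeCore 2 (Subgroup.centralizer ({u} : Set X)))
    rw [hPcard] at hmul
    have hpos : 0 < Nat.card (pPrimeCore 2 (Subgroup.centralizer ({u} : Set X))) := Nat.card_pos
    have : (pPrimeCore 2 (Subgroup.centralizer ({u} : Set X))).index *
        Nat.card (pPrimeCore 2 (Subgroup.centralizer ({u} : Set X))) =
        4 * Nat.card (pPrimeCore 2 (Subgroup.centralizer ({u} : Set X))) := by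
      rw [hidx, ← hmul, mul_comm]
    have := Nat.eq_of_mul_eq_mul_right hpos this
    rw [this]; norm_num
  have hcc : (Nat.card (Subgroup.centralizer ({u} : Set X))).factorization 2 = 2 := by
    have h := P.card_eq_multiplicity
    rw [hPcard] at h
    have h' : 2 ^ (Nat.card (Subgroup.centralizer ({u} : Set X))).factorization 2 = 2 ^ 2 := by
      rw [← h]; norm_num
    exact Nat.pow_right_injective (le_refl 2) h'
  -- commuting involutions are equal
  have heq : ∀ y z : X, y ^ 2 = 1 → y ≠ 1 → z ^ 2 = 1 → z ≠ 1 → y * z * y⁻¹ = z → y = z := by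
    intro y z hy2 hy1 hz2 hz1 hyz
    have hpy : IsPGroup 2 (Subgroup.zpowers y) :=
      IsPGroup.of_card (n := 1) (by
        rw [Nat.card_zpowers, pow_one]; exact orderOf_eq_prime hy2 hy1)
    have hpz : IsPGroup 2 (Subgroup.zpowers z) :=
      IsPGroup.of_card (n := 1) (by
        rw [Nat.card_zpowers, pow_one]; exact orderOf_eq_prime hz2 hz1)
    have hn : Subgroup.zpowers y ≤ Subgroup.normalizer (Subgroup.zpowers z : Set X) := by
      rw [Subgroup.zpowers_le]
      apply Subgroup.centralizer_le_normalizer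
      rw [Subgroup.mem_centralizer_iff]
      intro w hw
      obtain ⟨n, rfl⟩ := Subgroup.mem_zpowers_iff.mp hw
      have hc : Commute y z := by
        show y * z = z * y
        calc y * z = (y * z * y⁻¹) * y := by group
          _ = z * y := by rw [hyz]
      exact (Commute.zpow_right hc n).symm
    have hR := IsPGroup.to_sup_of_normal_right' hpy hpz hn
    obtain ⟨h, hh⟩ := hconj _ hR
    have hy' := hh y (Subgroup.mem_sup_left (Subgroup.mem_zpowers y))
    have hz' := hh z (Subgroup.mem_sup_right (Subgroup.mem_zpowers z))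
    have hy'' : h * y * h⁻¹ = t := by
      rcases hQ.invol _ hy' (by rw [conj_pow, hy2]; group) with h1 | h1
      · exact absurd ((conj_eq_one_iff' h y).mp h1) hy1
      · exact h1
    have hz'' : h * z * h⁻¹ = t := by
      rcases hQ.invol _ hz' (by rw [conj_pow, hz2]; group) with h1 | h1
      · exact absurd ((conj_eq_one_iff' h z).mp h1) hz1
      · exact h1
    exact mul_left_cancel (mul_right_cancel (hy''.trans hz''.symm))
  have hprod : ∀ a b : X, Odd (orderOf (a * t * a⁻¹ * (b * t * b⁻¹))) := by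
    intro a b
    obtain ⟨t1, ht1def⟩ : ∃ t1 : X, t1 = a * t * a⁻¹ := ⟨_, rfl⟩
    obtain ⟨t2, ht2def⟩ : ∃ t2 : X, t2 = b * t * b⁻¹ := ⟨_, rfl⟩
    rw [← ht1def, ← ht2def]
    have h11 : t1 ^ 2 = 1 := by rw [ht1def, conj_pow, ht2]; group
    have h22 : t2 ^ 2 = 1 := by rw [ht2def, conj_pow, ht2]; group
    have h1n : t1 ≠ 1 := by
      rw [ht1def]; intro h; exact ht1 ((conj_eq_one_iff' a t).mp h)
    have h2n : t2 ≠ 1 := by
      rw [ht2def]; intro h; exact ht1 ((conj_eq_one_iff' b t).mp h)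
    have e1 : t1⁻¹ = t1 := inv_eq_of_mul_eq_one_left (by rw [← pow_two]; exact h11)
    have e2 : t2⁻¹ = t2 := inv_eq_of_mul_eq_one_left (by rw [← pow_two]; exact h22)
    by_contra hodd
    rw [Nat.not_odd_iff_even] at hodd
    obtain ⟨m, hm⟩ := hodd
    obtain ⟨d, hd⟩ : ∃ d : X, d = t1 * t2 := ⟨_, rfl⟩
    rw [← hd] at hm
    have hdpos : 0 < orderOf d := orderOf_pos d
    have hm0 : 0 < m := by omega
    obtain ⟨z, hz⟩ : ∃ z : X, z = d ^ m := ⟨_, rfl⟩
    have hz2 : z ^ 2 = 1 := by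
      rw [hz, ← pow_mul, show m * 2 = orderOf d by omega]; exact pow_orderOf_eq_one d
    have hz1 : z ≠ 1 := by
      intro h
      rw [hz] at h
      have := Nat.le_of_dvd hm0 (orderOf_dvd_of_pow_eq_one h)
      omega
    have ez : z⁻¹ = z := inv_eq_of_mul_eq_one_left (by rw [← pow_two]; exact hz2)
    have hinv1 : t1 * d * t1⁻¹ = d⁻¹ := by
      rw [hd, mul_inv_rev, e1, e2]
      calc t1 * (t1 * t2) * t1 = (t1 ^ 2) * t2 * t1 := by rw [pow_two]; group
        _ = t2 * t1 := by rw [h11, one_mul]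
    have hinv2 : t2 * d * t2⁻¹ = d⁻¹ := by
      rw [hd, mul_inv_rev, e1, e2]
      calc t2 * (t1 * t2) * t2 = t2 * t1 * (t2 ^ 2) := by rw [pow_two]; group
        _ = t2 * t1 := by rw [h22, mul_one]
    have hzc1 : t1 * z * t1⁻¹ = z := by
      rw [hz, ← conj_pow, hinv1, inv_pow, ← hz, ez]
    have hzc2 : t2 * z * t2⁻¹ = z := by
      rw [hz, ← conj_pow, hinv2, inv_pow, ← hz, ez]
    have h1z := heq t1 z h11 h1n hz2 hz1 hzc1
    have h2z := heq t2 z h22 h2n hz2 hz1 hzc2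
    have hd1 : d = 1 := by rw [hd, h1z, h2z, ← pow_two, hz2]
    rw [hd1, orderOf_one] at hm
    omega
  exact ⟨hto, hsq, hcard2, htwo, hpc, hcc, hprod⟩

end Cfsg.Agent.Lib.Helper20.Q8
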