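import Mathlib

/-!
Helper20 `JanR`, file B: transfer facts.
* `eq_one_of_normalizer_centralizes`: in a perfect group with abelian Sylow `p`-subgroup `P`,
  `C_P(N_G(P)) = 1`.
* `card_center_eq_four`: a non-abelian group of order 16 with a central subgroup of order 2 containing
  all commutators has centre of order 4.
-/

set_option autoImplicit false

namespace Cfsg.Agent.Lib.Helper20.JanR

open Subgroup

section transfer

variable {G : Type*} [Group G]

/-- In a perfect group with an abelian Sylow `p`-subgroup `P`, no nontrivial element of `P` is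
centralized by `N_G(P)`. -/
theorem eq_one_of_normalizer_centralizes [Finite G] {p : ℕ} [hp : Fact p.Prime]
    (hperf : commutator G = ⊤) (P : Sylow p G) (hP : ∀ a ∈ P, ∀ b ∈ P, a * b = b * a)
    (u : G) (hu : u ∈ P)
    (hcent : ∀ n ∈ normalizer ((P : Subgroup G) : Set G), n * u * n⁻¹ = u) : u = 1 := by
  classical
  let _ : CommGroup ↥(P : Subgroup G) :=
    { (inferInstance : Group ↥(P : Subgroup G)) with
      mul_comm := fun a b => Subtype.ext (hP a a.2 b b.2) }
  have hPc : ∀ w ∈ P, w ∈ centralizer ((P : Subgroup G) : Set G) := by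
    intro w hw
    rw [mem_centralizer_iff]
    intro v hv
    exact hP v hv w hw
  have key : ∀ (k : ℕ) (g₀ : G), g₀⁻¹ * u ^ k * g₀ ∈ (P : Subgroup G) →
      g₀⁻¹ * u ^ k * g₀ = u ^ k := by
    intro k g₀ hk
    obtain ⟨n, hn, hn2⟩ := P.conj_eq_normalizer_conj_of_mem_centralizer (u ^ k) g₀
      (hPc _ (pow_mem hu k)) (hPc _ hk)
    rw [hn2]
    have h1 : n⁻¹ * u * n⁻¹⁻¹ = u := hcent n⁻¹ (inv_mem hn)
    rw [inv_inv] at h1
    have h2 : n⁻¹ * u ^ k * n = (n⁻¹ * u * n) ^ k := by
      have := map_pow (MulAut.conj n⁻¹) u k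
      simp only [MulAut.conj_apply, inv_inv] at this
      exact this
    rw [h2, h1]
  have h1 := MonoidHom.transfer_eq_pow (MonoidHom.id ↥(P : Subgroup G)) u key
  have h2 : MonoidHom.transfer (MonoidHom.id ↥(P : Subgroup G)) u = 1 := by
    have h3 : commutator G ≤ (MonoidHom.transfer (MonoidHom.id ↥(P : Subgroup G))).ker :=
      Abelianization.commutator_subset_ker _
    rw [hperf] at h3
    exact MonoidHom.mem_ker.mp (h3 (mem_top u))
  rw [h2] at h1
  have h3 : u ^ (P : Subgroup G).index = 1 := by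
    have := congrArg Subtype.val h1
    simpa using this.symm
  obtain ⟨i, hi⟩ := (IsPGroup.iff_orderOf.mp P.isPGroup') ⟨u, hu⟩
  have h4 : orderOf u = p ^ i := by
    rw [← hi]; exact (Subgroup.orderOf_mk u hu).symm
  have h5 : orderOf u ∣ (P : Subgroup G).index := orderOf_dvd_of_pow_eq_one h3
  have h6 : Nat.Coprime (p ^ i) (P : Subgroup G).index :=
    Nat.Coprime.pow_left _ ((Nat.Prime.coprime_iff_not_dvd hp.out).mpr P.not_dvd_index)
  rw [h4] at h5
  have h7 : p ^ i = 1 := Nat.eq_one_of_dvd_coprimes h6 (dvd_refl _) h5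
  rw [h7] at h4
  exact orderOf_eq_one_iff.mp h4

end transfer

section order16

variable {Q : Type*} [Group Q]

theorem two_mul_card_le_of_lt [Finite Q] {H K : Subgroup Q} (h : H < K) :
    2 * Nat.card ↥H ≤ Nat.card ↥K := by
  have h1 : Nat.card ↥H ∣ Nat.card ↥K := Subgroup.card_dvd_of_le h.le
  obtain ⟨m, hm⟩ := h1
  have hK : 0 < Nat.card ↥K := Nat.card_pos
  have hH : 0 < Nat.card ↥H := Nat.card_pos
  have hm1 : m ≠ 1 := by
    rintro rfl
    rw [mul_one] at hm
    have := Subgroup.eq_of_le_of_card_ge h.le hm.le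
    exact h.ne this
  have hm0 : m ≠ 0 := by
    rintro rfl
    rw [mul_zero] at hm
    omega
  have : 2 ≤ m := by omega
  calc 2 * Nat.card ↥H ≤ m * Nat.card ↥H := Nat.mul_le_mul_right _ this
    _ = Nat.card ↥K := by rw [hm, mul_comm]

/-- the commutator homomorphism into a central subgroup -/
def comHom (Z₀ : Subgroup Q) (hZc : Z₀ ≤ center Q) (a : Q)
    (ha : ∀ g : Q, a * g * a⁻¹ * g⁻¹ ∈ Z₀) : Q →* ↥Z₀ where
  toFun g := ⟨a * g * a⁻¹ * g⁻¹, ha g⟩
  map_one' := by
    apply Subtype.ext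
    simp
  map_mul' g h := by
    apply Subtype.ext
    have hz : ∀ w : Q, w * (a * h * a⁻¹ * h⁻¹) = (a * h * a⁻¹ * h⁻¹) * w :=
      fun w => (mem_center_iff.mp (hZc (ha h)) w)
    show a * (g * h) * a⁻¹ * (g * h)⁻¹ = (a * g * a⁻¹ * g⁻¹) * (a * h * a⁻¹ * h⁻¹)
    calc a * (g * h) * a⁻¹ * (g * h)⁻¹ = a * g * a⁻¹ * ((a * h * a⁻¹ * h⁻¹) * g⁻¹) := by group
      _ = a * g * a⁻¹ * (g⁻¹ * (a * h * a⁻¹ * h⁻¹)) := by rw [hz g⁻¹]
      _ = (a * g * a⁻¹ * g⁻¹) * (a * h * a⁻¹ * h⁻¹) := by group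

theorem mem_ker_comHom (Z₀ : Subgroup Q) (hZc : Z₀ ≤ center Q) (a : Q)
    (ha : ∀ g : Q, a * g * a⁻¹ * g⁻¹ ∈ Z₀) (g : Q) :
    g ∈ (comHom Z₀ hZc a ha).ker ↔ a * g = g * a := by
  rw [MonoidHom.mem_ker]
  constructor
  · intro h
    have h1 : a * g * a⁻¹ * g⁻¹ = 1 := congrArg Subtype.val h
    calc a * g = (a * g * a⁻¹ * g⁻¹) * (g * a) := by group
      _ = g * a := by rw [h1, one_mul]
  · intro h
    apply Subtype.ext
    show a * g * a⁻¹ * g⁻¹ = 1
    rw [h]; group

/-- A non-abelian group of order 16 with a central subgroup of order 2 containing all commutators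
has centre of order 4. -/
theorem card_center_eq_four [Finite Q] (hQ : Nat.card Q = 16) (Z₀ : Subgroup Q)
    (hZc : Z₀ ≤ center Q) (hZ2 : Nat.card ↥Z₀ = 2)
    (hcomm : ∀ g h : Q, g * h * g⁻¹ * h⁻¹ ∈ Z₀) (a b : Q) (hab : a * b ≠ b * a) :
    Nat.card ↥(center Q) = 4 := by
  classical
  set fa := comHom Z₀ hZc a (hcomm a) with hfa
  set fb := comHom Z₀ hZc b (hcomm b) with hfb
  set D : Subgroup Q := fa.ker ⊓ fb.ker with hD
  have hidx : ∀ f : Q →* ↥Z₀, f.ker.index ≤ 2 := by
    intro f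
    rw [Subgroup.index_ker, ← hZ2]
    exact Subgroup.card_le_card_group _
  have hDidx : D.index ≤ 4 := by
    calc D.index ≤ fa.ker.index * fb.ker.index := Subgroup.index_inf_le
      _ ≤ 2 * 2 := Nat.mul_le_mul (hidx fa) (hidx fb)
  have hDcard : 4 ≤ Nat.card ↥D := by
    have h1 := Subgroup.card_mul_index D
    rw [hQ] at h1
    by_contra hlt
    push Not at hlt
    have : Nat.card ↥D * D.index ≤ 3 * 4 := Nat.mul_le_mul (by omega) hDidx
    omega
  set a' := a
  set D₁ : Subgroup Q := D ⊔ zpowers a with hD₁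
  set D₂ : Subgroup Q := D₁ ⊔ zpowers b with hD₂
  have haD : a ∉ D := by
    intro h
    have := (mem_ker_comHom Z₀ hZc b (hcomm b) a).mp h.2
    exact hab this.symm
  have hD₁a : D₁ ≤ fa.ker := by
    apply sup_le inf_le_left
    rw [zpowers_le, mem_ker_comHom]
  have hbD₁ : b ∉ D₁ := by
    intro h
    exact hab ((mem_ker_comHom Z₀ hZc a (hcomm a) b).mp (hD₁a h))
  have h1 : D < D₁ := by
    apply lt_of_le_of_ne le_sup_left
    intro h
    apply haD
    rw [h]
    exact le_sup_right (α := Subgroup Q) (mem_zpowers a)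
  have h2 : D₁ < D₂ := by
    apply lt_of_le_of_ne le_sup_left
    intro h
    apply hbD₁
    rw [h]
    exact le_sup_right (α := Subgroup Q) (mem_zpowers b)
  have h3 := two_mul_card_le_of_lt h1
  have h4 := two_mul_card_le_of_lt h2
  have h5 : Nat.card ↥D₂ ≤ 16 := by
    rw [← hQ]; exact Subgroup.card_le_card_group _
  have hD4 : Nat.card ↥D = 4 := by omega
  have hD₂top : D₂ = ⊤ := by
    apply Subgroup.eq_top_of_card_eq
    rw [hQ]; omega
  -- `D` is commutative
  have : Fact (Nat.Prime 2) := ⟨Nat.prime_two⟩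
  have hDc : ∀ x y : ↥D, x * y = y * x := by
    have hmc : IsMulCommutative ↥D :=
      IsPGroup.isMulCommutative_of_card_eq_prime_sq (p := 2) (by rw [hD4]; norm_num)
    intro x y
    exact mul_comm' x y
  have hDle : D ≤ center Q := by
    intro d hd
    have h6 : D₂ ≤ centralizer ({d} : Set Q) := by
      apply sup_le
      · apply sup_le
        · intro e he
          rw [mem_centralizer_iff]
          intro w hw
          rw [Set.mem_singleton_iff] at hw
          subst hw
          have := hDc ⟨w, hd⟩ ⟨e, he⟩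
          exact congrArg Subtype.val this
        · rw [zpowers_le, mem_centralizer_iff]
          intro w hw
          rw [Set.mem_singleton_iff] at hw
          subst hw
          exact ((mem_ker_comHom Z₀ hZc a (hcomm a) w).mp hd.1).symm
      · rw [zpowers_le, mem_centralizer_iff]
        intro w hw
        rw [Set.mem_singleton_iff] at hw
        subst hw
        exact ((mem_ker_comHom Z₀ hZc b (hcomm b) w).mp hd.2).symm
    rw [hD₂top] at h6
    rw [mem_center_iff]
    intro g
    have := mem_centralizer_iff.mp (h6 (mem_top g)) d (Set.mem_singleton d)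
    exact this.symm
  have hleD : center Q ≤ D := by
    intro z hz
    rw [mem_center_iff] at hz
    exact ⟨(mem_ker_comHom Z₀ hZc a (hcomm a) z).mpr (hz a), (mem_ker_comHom Z₀ hZc b (hcomm b) z).mpr (hz b)⟩
  rw [← le_antisymm hDle hleD, hD4]

/-- index-two coset lemma -/
theorem mul_inv_mem_of_card_eq_two_mul [Finite Q] {H K : Subgroup Q} (hHK : H ≤ K)
    (hcard : Nat.card ↥K = 2 * Nat.card ↥H) {g h : Q} (hg : g ∈ K) (hg' : g ∉ H) (hh : h ∈ K)
    (hh' : h ∉ H) : g * h⁻¹ ∈ H := by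
  have h1 : (H.subgroupOf K).index = 2 := by
    have h2 : Nat.card ↥(H.subgroupOf K) * (H.subgroupOf K).index = Nat.card ↥K :=
      Subgroup.card_mul_index _
    have h6 : Nat.card ↥(H.subgroupOf K) = Nat.card ↥H :=
      Nat.card_congr (Subgroup.subgroupOfEquivOfLe hHK).toEquiv
    rw [hcard, h6, mul_comm] at h2
    have hH : 0 < Nat.card ↥H := Nat.card_pos
    exact Nat.eq_of_mul_eq_mul_right hH h2
  have h3 := Subgroup.mul_mem_iff_of_index_two h1 (a := (⟨g, hg⟩ : ↥K)) (b := (⟨h, hh⟩ : ↥K)⁻¹)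
  have h4 : (⟨g, hg⟩ : ↥K) * (⟨h, hh⟩ : ↥K)⁻¹ ∈ H.subgroupOf K := by
    rw [h3]
    constructor
    · intro h5; exact absurd (mem_subgroupOf.mp h5) hg'
    · intro h5
      have := inv_mem h5
      rw [inv_inv] at this
      exact absurd (mem_subgroupOf.mp this) hh'
  exact mem_subgroupOf.mp h4

end order16

end Cfsg.Agent.Lib.Helper20.JanR
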