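import Mathlib
import Cfsg.Prelude.Def_GeometricClasses

/-!
S5630 (Aschbacher's theorem for `SL_n(F)`, `n ≥ 3`, in the generous form of the prelude): shared definitions.

`V = F^n` (column vectors), `G = GL (Fin n) F`, `Z = scalars`.  For a subgroup `X ≤ G`:
`Irr X`, `AbsIrr X` (prelude notions on `matrixSet X`), `NormBy H N` (`H` normalises `N`),
`Geo H` (`H` lies in a member of a geometric class), `QP H` (every subgroup normalised by `H` inside `H` is scalar or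
absolutely irreducible), `Cen X` (centraliser algebra), `Env X` (enveloping algebra), `ZCen X` (centre of `Cen X`),
`XInv X W` (`W` is `X`-invariant), `Homog X` (`V|_X` is homogeneous: the `Cen X`-translates of one minimal `X`-invariant
subspace span `V`).
-/

set_option autoImplicit false
set_option linter.unusedSectionVars false
set_option linter.unusedVariables false

namespace Cfsg.Agent.Lib.Helper20.Asch
open Matrix Cfsg.Geo
open scoped Kronecker

variable {F : Type*} [Field F] {n : ℕ}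

/-- `H` normalises `N` -/
def NormBy (H N : Subgroup (GL (Fin n) F)) : Prop := ∀ h ∈ H, ∀ x ∈ N, h * x * h⁻¹ ∈ N

/-- irreducible -/
def Irr (X : Subgroup (GL (Fin n) F)) : Prop := ActsIrreducibly (matrixSet X)

/-- absolutely irreducible -/
def AbsIrr (X : Subgroup (GL (Fin n) F)) : Prop := ActsAbsolutelyIrreducibly (matrixSet X)

/-- every subgroup of `H` normalised by `H` is scalar or absolutely irreducible -/
def QP (H : Subgroup (GL (Fin n) F)) : Prop :=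
  ∀ N : Subgroup (GL (Fin n) F), N ≤ H → NormBy H N → N ≤ scalars (Fin n) F ∨ AbsIrr N

/-- the centraliser algebra of `X` in `M_n(F)` -/
def Cen (X : Subgroup (GL (Fin n) F)) : Subalgebra F (Matrix (Fin n) (Fin n) F) :=
  Subalgebra.centralizer F (matrixSet X)

/-- the enveloping algebra of `X` -/
def Env (X : Subgroup (GL (Fin n) F)) : Subalgebra F (Matrix (Fin n) (Fin n) F) :=
  Algebra.adjoin F (matrixSet X)

/-- the centre of the centraliser algebra, as a subalgebra of `M_n(F)` -/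
def ZCen (X : Subgroup (GL (Fin n) F)) : Subalgebra F (Matrix (Fin n) (Fin n) F) :=
  Cen X ⊓ Subalgebra.centralizer F (Cen X : Set (Matrix (Fin n) (Fin n) F))

lemma mem_Cen {X : Subgroup (GL (Fin n) F)} {T : Matrix (Fin n) (Fin n) F} :
    T ∈ Cen X ↔ ∀ x ∈ X, (x : Matrix (Fin n) (Fin n) F) * T = T * (x : Matrix (Fin n) (Fin n) F) := by
  unfold Cen
  rw [Subalgebra.mem_centralizer_iff]
  constructor
  · intro h x hx
    exact h _ ⟨x, hx, rfl⟩
  · rintro h _ ⟨x, hx, rfl⟩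
    exact h x hx

lemma mem_ZCen {X : Subgroup (GL (Fin n) F)} {T : Matrix (Fin n) (Fin n) F} :
    T ∈ ZCen X ↔ T ∈ Cen X ∧ ∀ S ∈ Cen X, S * T = T * S := by
  unfold ZCen
  rw [Algebra.mem_inf, Subalgebra.mem_centralizer_iff]
  rfl

/-- `W` is `X`-invariant -/
def XInv (X : Subgroup (GL (Fin n) F)) (W : Submodule F (Fin n → F)) : Prop :=
  ∀ x ∈ X, W.map (Matrix.toLin' (x : Matrix (Fin n) (Fin n) F)) ≤ W

/-- `V|_X` is homogeneous: the translates under the centraliser algebra of one minimal `X`-invariant subspace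
span `V` -/
def Homog (X : Subgroup (GL (Fin n) F)) : Prop :=
  ∃ S : Submodule F (Fin n → F), S ≠ ⊥ ∧ XInv X S ∧
    (∀ W : Submodule F (Fin n → F), W ≤ S → XInv X W → W = ⊥ ∨ W = S) ∧
    (⨆ T : Cen X, S.map (Matrix.toLin' (T : Matrix (Fin n) (Fin n) F))) = ⊤


/-! ### conjugated reindexed matrices -/

/-- the matrix `P * (M reindexed along e) * P⁻¹` -/
def conjR {κ : Type} [Fintype κ] [DecidableEq κ] (e : Fin n ≃ κ) (P : GL (Fin n) F)
    (M : Matrix κ κ F) : Matrix (Fin n) (Fin n) F :=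
  (P : Matrix (Fin n) (Fin n) F) * Matrix.reindex e.symm e.symm M *
    ((P⁻¹ : GL (Fin n) F) : Matrix (Fin n) (Fin n) F)

section conjR
variable {κ : Type} [Fintype κ] [DecidableEq κ] (e : Fin n ≃ κ) (P : GL (Fin n) F)

lemma conjR_one : conjR e P (1 : Matrix κ κ F) = 1 := by
  unfold conjR
  rw [Matrix.reindex_apply, Matrix.submatrix_one_equiv, mul_one, ← Units.val_mul, mul_inv_cancel,
    Units.val_one]

lemma conjR_mul (M M' : Matrix κ κ F) : conjR e P (M * M') = conjR e P M * conjR e P M' := by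
  unfold conjR
  have h : Matrix.reindex e.symm e.symm (M * M') =
      Matrix.reindex e.symm e.symm M * Matrix.reindex e.symm e.symm M' := by
    simp only [Matrix.reindex_apply]
    rw [Matrix.submatrix_mul_equiv]
  rw [h]
  have h2 : ((P⁻¹ : GL (Fin n) F) : Matrix (Fin n) (Fin n) F) * (P : Matrix (Fin n) (Fin n) F) = 1 := by
    rw [← Units.val_mul, inv_mul_cancel, Units.val_one]
  calc (P : Matrix (Fin n) (Fin n) F) * (Matrix.reindex e.symm e.symm M *
        Matrix.reindex e.symm e.symm M') * ((P⁻¹ : GL (Fin n) F) : Matrix (Fin n) (Fin n) F)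
      = (P : Matrix (Fin n) (Fin n) F) * Matrix.reindex e.symm e.symm M *
          (((P⁻¹ : GL (Fin n) F) : Matrix (Fin n) (Fin n) F) * (P : Matrix (Fin n) (Fin n) F)) *
          Matrix.reindex e.symm e.symm M' * ((P⁻¹ : GL (Fin n) F) : Matrix (Fin n) (Fin n) F) := by
        rw [h2, mul_one]; simp only [mul_assoc]
    _ = _ := by simp only [mul_assoc]

lemma conjR_add (M M' : Matrix κ κ F) : conjR e P (M + M') = conjR e P M + conjR e P M' := by
  unfold conjR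
  have h : Matrix.reindex e.symm e.symm (M + M') =
      Matrix.reindex e.symm e.symm M + Matrix.reindex e.symm e.symm M' := by
    simp only [Matrix.reindex_apply]
    rfl
  rw [h, mul_add, add_mul]

lemma conjR_smul (c : F) (M : Matrix κ κ F) : conjR e P (c • M) = c • conjR e P M := by
  unfold conjR
  have h : Matrix.reindex e.symm e.symm (c • M) = c • Matrix.reindex e.symm e.symm M := by
    simp only [Matrix.reindex_apply]
    rfl
  rw [h, Matrix.mul_smul, Matrix.smul_mul]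

lemma conjR_injective : Function.Injective (conjR (F := F) e P) := by
  intro M M' h
  unfold conjR at h
  have h2 : ((P⁻¹ : GL (Fin n) F) : Matrix (Fin n) (Fin n) F) * (P : Matrix (Fin n) (Fin n) F) = 1 := by
    rw [← Units.val_mul, inv_mul_cancel, Units.val_one]
  have h3 := congrArg (fun T => ((P⁻¹ : GL (Fin n) F) : Matrix (Fin n) (Fin n) F) * T *
    (P : Matrix (Fin n) (Fin n) F)) h
  simp only [mul_assoc, h2, mul_one] at h3
  simp only [← mul_assoc, h2, one_mul] at h3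
  exact (Matrix.reindex e.symm e.symm).injective h3

end conjR

/-- membership in the tensor product subgroup, at the level of matrices -/
lemma mem_tensorProductSubgroup_iff {n₁ n₂ : ℕ} (e : Fin n ≃ Fin n₁ × Fin n₂) (P g : GL (Fin n) F) :
    g ∈ tensorProductSubgroup n₁ n₂ e P ↔ ∃ (a : GL (Fin n₁) F) (b : GL (Fin n₂) F),
      (g : Matrix (Fin n) (Fin n) F) =
        conjR e P ((a : Matrix (Fin n₁) (Fin n₁) F) ⊗ₖ (b : Matrix (Fin n₂) (Fin n₂) F)) := by
  unfold tensorProductSubgroup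
  constructor
  · rintro ⟨g₁, ⟨g₀, ⟨a, b, hab⟩, rfl⟩, rfl⟩
    refine ⟨a, b, ?_⟩
    unfold conjR
    rw [← hab]
    rfl
  · rintro ⟨a, b, hab⟩
    have hk : ∃ g₀ : GL (Fin n₁ × Fin n₂) F, g₀ ∈ kroneckerSubgroup n₁ n₂ F ∧
        (g₀ : Matrix (Fin n₁ × Fin n₂) (Fin n₁ × Fin n₂) F) =
          (a : Matrix (Fin n₁) (Fin n₁) F) ⊗ₖ (b : Matrix (Fin n₂) (Fin n₂) F) := by
      refine ⟨⟨(a : Matrix (Fin n₁) (Fin n₁) F) ⊗ₖ (b : Matrix (Fin n₂) (Fin n₂) F),
        ((a⁻¹ : GL (Fin n₁) F) : Matrix (Fin n₁) (Fin n₁) F) ⊗ₖ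
          ((b⁻¹ : GL (Fin n₂) F) : Matrix (Fin n₂) (Fin n₂) F), ?_, ?_⟩, ⟨a, b, rfl⟩, rfl⟩
      · rw [← Matrix.mul_kronecker_mul, ← Units.val_mul, ← Units.val_mul, mul_inv_cancel,
          mul_inv_cancel, Units.val_one, Units.val_one, Matrix.one_kronecker_one]
      · rw [← Matrix.mul_kronecker_mul, ← Units.val_mul, ← Units.val_mul, inv_mul_cancel,
          inv_mul_cancel, Units.val_one, Units.val_one, Matrix.one_kronecker_one]
    obtain ⟨g₀, hg₀, hg₀v⟩ := hk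
    refine ⟨glReindex e.symm g₀, ⟨g₀, hg₀, rfl⟩, ?_⟩
    apply Units.ext
    rw [hab]
    unfold conjR
    rw [← hg₀v]
    rfl


/-- `X = P (R ⊗ 1) P⁻¹` (reindexed along `e`): `X` is a multiple of the group `R` of degree `s` -/
def IsMultipleOf {s k : ℕ} (X : Subgroup (GL (Fin n) F)) (R : Subgroup (GL (Fin s) F))
    (e : Fin n ≃ Fin s × Fin k) (P : GL (Fin n) F) : Prop :=
  (∀ x ∈ X, ∃ a ∈ R, (x : Matrix (Fin n) (Fin n) F) =
      conjR e P ((a : Matrix (Fin s) (Fin s) F) ⊗ₖ (1 : Matrix (Fin k) (Fin k) F))) ∧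
  (∀ a ∈ R, ∃ x ∈ X, (x : Matrix (Fin n) (Fin n) F) =
      conjR e P ((a : Matrix (Fin s) (Fin s) F) ⊗ₖ (1 : Matrix (Fin k) (Fin k) F)))

section fin
variable [Fintype F]

/-- `H` lies in a member of one of the eight geometric classes -/
def Geo (H : Subgroup (GL (Fin n) F)) : Prop :=
  ∃ M : Subgroup (GL (Fin n) F), InLinearClass n F M ∧ H ≤ M

variable {H : Subgroup (GL (Fin n) F)}

lemma Geo.of_C1 (W : Submodule F (Fin n → F)) (h0 : W ≠ ⊥) (h1 : W ≠ ⊤)
    (hH : H ≤ subspaceStabilizer W) : Geo H :=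
  ⟨_, Or.inl ⟨W, h0, h1, rfl⟩, hH⟩

lemma Geo.of_C2 {t m : ℕ} (D : Fin t → Submodule F (Fin n → F)) (hD : IsMDecomposition m D)
    (hH : H ≤ decompositionStabilizer D) : Geo H :=
  ⟨_, Or.inr (Or.inr (Or.inr (Or.inl ⟨t, m, D, hD, rfl⟩))), hH⟩

lemma Geo.of_C3 (r : ℕ) (K : Subalgebra F (Matrix (Fin n) (Fin n) F)) (hr : r.Prime)
    (hK : IsFieldSubalgebra r K) (hH : H ≤ subalgebraNormalizer K) : Geo H :=
  ⟨_, Or.inr (Or.inr (Or.inr (Or.inr (Or.inl ⟨r, K, hr, hK, rfl⟩)))), hH⟩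

lemma Geo.of_C4 (n₁ n₂ : ℕ) (e : Fin n ≃ Fin n₁ × Fin n₂) (P : GL (Fin n) F) (h1 : 2 ≤ n₁)
    (h12 : n₁ < n₂) (hH : H ≤ tensorProductSubgroup n₁ n₂ e P) : Geo H :=
  ⟨_, Or.inr (Or.inr (Or.inr (Or.inr (Or.inr (Or.inl ⟨n₁, n₂, e, P, h1, h12, rfl⟩))))), hH⟩

lemma Geo.of_C5 (F₀ : Subfield F) (r : ℕ) (P : GL (Fin n) F) (hr : r.Prime)
    (hcard : Fintype.card F = Nat.card F₀ ^ r) (hH : H ≤ subfieldSubgroup F₀ P) : Geo H :=
  ⟨_, Or.inr (Or.inr (Or.inr (Or.inr (Or.inr (Or.inr (Or.inl ⟨F₀, r, P, hr, hcard, rfl⟩)))))), hH⟩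

lemma Geo.of_C6 (r : ℕ) (R : Subgroup (GL (Fin n) F)) (hR : IsLinearSymplecticTypeData r R)
    (hH : H ≤ subgroupNormalizer R) : Geo H :=
  ⟨_, Or.inr (Or.inr (Or.inr (Or.inr (Or.inr (Or.inr (Or.inr (Or.inl ⟨r, R, hR, rfl⟩))))))), hH⟩

lemma Geo.of_C7 (m t : ℕ) (e : Fin n ≃ (Fin t → Fin m)) (P : GL (Fin n) F) (hm : 3 ≤ m)
    (ht : 2 ≤ t) (hH : H ≤ tensorWreathSubgroup m t e P) : Geo H :=
  ⟨_, Or.inr (Or.inr (Or.inr (Or.inr (Or.inr (Or.inr (Or.inr (Or.inr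
    (Or.inl ⟨m, t, e, P, hm, ht, rfl⟩)))))))), hH⟩

lemma Geo.of_C8s (f : (Fin n → F) → (Fin n → F) → F) (hf : IsSymplecticForm f) (he : Even n)
    (h4 : 4 ≤ n) (hH : H ≤ similarityGroup f) : Geo H :=
  ⟨_, Or.inr (Or.inr (Or.inr (Or.inr (Or.inr (Or.inr (Or.inr (Or.inr
    (Or.inr (Or.inl ⟨f, hf, he, h4, rfl⟩))))))))), hH⟩

lemma Geo.of_C8u (σ : F ≃+* F) (f : (Fin n → F) → (Fin n → F) → F) (hf : IsUnitaryForm σ f)
    (h3 : 3 ≤ n) (hH : H ≤ similarityGroup f) : Geo H :=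
  ⟨_, Or.inr (Or.inr (Or.inr (Or.inr (Or.inr (Or.inr (Or.inr (Or.inr
    (Or.inr (Or.inr (Or.inl ⟨σ, f, hf, h3, rfl⟩)))))))))), hH⟩

lemma Geo.of_C8q (Q : (Fin n → F) → F) (hQ : IsNondegenerateQuadraticForm Q)
    (hodd : Odd (Fintype.card F)) (h3 : 3 ≤ n) (hH : H ≤ quadSimilarityGroup Q) : Geo H :=
  ⟨_, Or.inr (Or.inr (Or.inr (Or.inr (Or.inr (Or.inr (Or.inr (Or.inr
    (Or.inr (Or.inr (Or.inr ⟨Q, hQ, hodd, h3, rfl⟩)))))))))), hH⟩

lemma Geo.mono {H H' : Subgroup (GL (Fin n) F)} (h : H ≤ H') (hG : Geo H') : Geo H := by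
  obtain ⟨M, hM, hH'⟩ := hG
  exact ⟨M, hM, h.trans hH'⟩

end fin

end Cfsg.Agent.Lib.Helper20.Asch
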