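import Mathlib
import Cfsg.Agent.Lib.Helper20.AschDefs
import Cfsg.Agent.Lib.Helper18.AschA89Defs
import Cfsg.Agent.Lib.Helper27.AschO4

/-!
S5630 (A89), sub-market F2, block J: the standard form `Jt t = J2 ⊗ ⋯ ⊗ J2`:
F2-J1 `Jt_transpose`, F2-J2 `Jt_mul_self`, F2-J3 `Jt_alternating`, F2-P `pure_Jt`, F2-S `fperm_Jt`.
-/

set_option autoImplicit false
set_option linter.unusedSectionVars false
set_option linter.unusedVariables false

namespace Cfsg.Agent.Lib.Helper20.AschLeaf
open Matrix Cfsg.Geo Cfsg.Agent.Lib.Helper20.Asch Cfsg.Agent.Lib.Helper18.AschA89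
open scoped Kronecker

variable {F : Type*} [Field F]

/-! ### calculus of pure tensors -/

lemma ptens_mul (m t : ℕ) (a b : Fin t → Matrix (Fin m) (Fin m) F) :
    ptens m t a * ptens m t b = ptens m t (fun i => a i * b i) := by
  ext x z
  rw [Matrix.mul_apply, ptens_apply]
  simp only [ptens_apply, Matrix.mul_apply]
  rw [Finset.prod_univ_sum, Fintype.piFinset_univ]
  refine Finset.sum_congr rfl (fun y _ => ?_)
  rw [Finset.prod_mul_distrib]

lemma ptens_transpose (m t : ℕ) (a : Fin t → Matrix (Fin m) (Fin m) F) :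
    (ptens m t a)ᵀ = ptens m t (fun i => (a i)ᵀ) := by
  ext x y
  rfl

lemma ptens_smul (m t : ℕ) (c : Fin t → F) (a : Fin t → Matrix (Fin m) (Fin m) F) :
    ptens m t (fun i => c i • a i) = (∏ i, c i) • ptens m t a := by
  ext x y
  rw [Matrix.smul_apply, ptens_apply, ptens_apply, smul_eq_mul, ← Finset.prod_mul_distrib]
  rfl

lemma ptens_one (m t : ℕ) : ptens (F := F) m t (fun _ => 1) = 1 := by
  ext x y
  rw [ptens_apply, Matrix.one_apply]
  simp only [Matrix.one_apply]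
  rw [Finset.prod_ite_zero]
  have : (∀ i ∈ (Finset.univ : Finset (Fin t)), x i = y i) ↔ x = y := by
    constructor
    · intro h
      funext i
      exact h i (Finset.mem_univ _)
    · rintro rfl i _
      rfl
  simp only [this, Finset.prod_const_one]

/-! ### the `2 × 2` facts -/

lemma J2_transpose : (J2 (F := F))ᵀ = (-1 : F) • J2 := by
  ext i j
  fin_cases i <;> fin_cases j <;> simp [J2]

lemma J2_mul_self : J2 (F := F) * J2 = (-1 : F) • (1 : Matrix (Fin 2) (Fin 2) F) := by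
  ext i j
  fin_cases i <;> fin_cases j <;> simp [J2, Matrix.mul_apply, Fin.sum_univ_two]

lemma J2_diag (a : Fin 2) : J2 (F := F) a a = 0 := by
  fin_cases a <;> simp [J2]

lemma J2_similar (a : Matrix (Fin 2) (Fin 2) F) : aᵀ * J2 * a = a.det • J2 := by
  ext i j
  fin_cases i <;> fin_cases j <;>
    simp [J2, Matrix.mul_apply, Fin.sum_univ_two, Matrix.det_fin_two] <;> ring

/-! ### the leaves -/

/-- F2-J1 -/
theorem Jt_transpose (t : ℕ) : (Jt (F := F) t)ᵀ = (-1 : F) ^ t • Jt t := by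
  unfold Jt
  rw [ptens_transpose]
  simp only [J2_transpose]
  rw [ptens_smul]
  simp

/-- F2-J2 -/
theorem Jt_mul_self (t : ℕ) :
    Jt (F := F) t * Jt t = (-1 : F) ^ t • (1 : Matrix (Fin t → Fin 2) (Fin t → Fin 2) F) := by
  unfold Jt
  rw [ptens_mul]
  simp only [J2_mul_self]
  rw [ptens_smul, ptens_one]
  simp

/-- F2-J3 -/
theorem Jt_alternating (t : ℕ) (ht : 0 < t) (h : Odd t ∨ (2 : F) = 0)
    (w : (Fin t → Fin 2) → F) : w ⬝ᵥ Jt t *ᵥ w = 0 := by
  have hsign : (-1 : F) ^ t = -1 := by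
    rcases h with h | h
    · exact h.neg_one_pow
    · have h1 : (-1 : F) = 1 := by
        have : (1 : F) + 1 = 0 := by rw [one_add_one_eq_two]; exact h
        exact (eq_neg_of_add_eq_zero_left this).symm
      rw [h1, one_pow]
  have hs : (Jt (F := F) t)ᵀ = -Jt t := by
    rw [Jt_transpose, hsign, neg_one_smul]
  have hd : ∀ x : Fin t → Fin 2, Jt (F := F) t x x = 0 := by
    intro x
    unfold Jt
    rw [ptens_apply]
    exact Finset.prod_eq_zero (Finset.mem_univ (⟨0, ht⟩ : Fin t)) (J2_diag _)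
  exact Cfsg.Agent.Lib.Helper27.AschO4.bf_alt (Jt t) hs hd w

/-- F2-P -/
theorem pure_Jt (t : ℕ) (g : GL (Fin t → Fin 2) F) (hg : IsPureTensor 2 t g) :
    ∃ c : Fˣ, (g : Matrix (Fin t → Fin 2) (Fin t → Fin 2) F)ᵀ * Jt t *
      (g : Matrix (Fin t → Fin 2) (Fin t → Fin 2) F) = (c : F) • Jt t := by
  obtain ⟨gs, hgs⟩ := hg
  have hgp : (g : Matrix (Fin t → Fin 2) (Fin t → Fin 2) F) =
      ptens 2 t (fun i => (gs i : Matrix (Fin 2) (Fin 2) F)) := by
    ext x y
    rw [hgs, ptens_apply]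
  refine ⟨∏ i, Matrix.GeneralLinearGroup.det (gs i), ?_⟩
  rw [hgp]
  unfold Jt
  rw [ptens_transpose, ptens_mul, ptens_mul]
  simp only [J2_similar]
  rw [ptens_smul]
  congr 1
  rw [Units.coe_prod]
  rfl

/-- F2-S -/
theorem fperm_Jt (t : ℕ) (g : GL (Fin t → Fin 2) F) (hg : IsFactorPermutation 2 t g) :
    (g : Matrix (Fin t → Fin 2) (Fin t → Fin 2) F)ᵀ * Jt t *
      (g : Matrix (Fin t → Fin 2) (Fin t → Fin 2) F) = Jt t := by
  obtain ⟨σ, hσ⟩ := hg
  ext x y
  -- `(gᵀ * J * g) x y = Σ_a Σ_b g a x * J a b * g b y`, `g a x = [x = a ∘ σ]`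
  rw [Matrix.mul_apply]
  simp only [Matrix.mul_apply, Matrix.transpose_apply, hσ]
  -- the only contributing `b` is `y ∘ σ⁻¹`, the only contributing `a` is `x ∘ σ⁻¹`
  have hkey : ∀ (u v : Fin t → Fin 2), (v = u ∘ σ) ↔ (u = v ∘ (σ⁻¹ : Equiv.Perm (Fin t))) := by
    intro u v
    constructor
    · rintro rfl
      funext j
      simp
    · rintro rfl
      funext j
      simp
  simp only [hkey]
  rw [Finset.sum_eq_single (y ∘ (σ⁻¹ : Equiv.Perm (Fin t)))]
  · rw [if_pos rfl, mul_one, Finset.sum_eq_single (x ∘ (σ⁻¹ : Equiv.Perm (Fin t)))]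
    · rw [if_pos rfl, one_mul]
      unfold Jt
      rw [ptens_apply, ptens_apply]
      exact Equiv.prod_comp (σ⁻¹ : Equiv.Perm (Fin t)) (fun i => J2 (F := F) (x i) (y i))
    · intro a _ ha
      rw [if_neg ha, zero_mul]
    · intro h
      exact absurd (Finset.mem_univ _) h
  · intro b _ hb
    rw [if_neg hb, mul_zero]
  · intro h
    exact absurd (Finset.mem_univ _) h

end Cfsg.Agent.Lib.Helper20.AschLeaf
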