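import Mathlib

/-!
Helper lemmas (helper20): groups with `commutator P = center P` of prime order `p`
(in particular extraspecial `p`-groups) have order `p ^ (2 * k + 1)` with `1 ≤ k`.
No Frattini subgroup is needed.
-/

set_option autoImplicit false

universe u

namespace Cfsg.Agent.Lib.Helper20

open scoped commutatorElement

section
variable {P : Type*} [Group P]

theorem commElt_mul_right (x g h : P) : ⁅x, g * h⁆ = ⁅x, g⁆ * (g * ⁅x, h⁆ * g⁻¹) := by
  simp only [commutatorElement_def]; group

theorem commElt_mem_center (hc : commutator P ≤ Subgroup.center P) (x g : P) :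
    ⁅x, g⁆ ∈ Subgroup.center P :=
  hc (Subgroup.commutator_mem_commutator (Subgroup.mem_top x) (Subgroup.mem_top g))

/-- When commutators are central, `g ↦ ⁅x, g⁆` is a homomorphism into the center. -/
def commHom (hc : commutator P ≤ Subgroup.center P) (x : P) : P →* Subgroup.center P where
  toFun g := ⟨⁅x, g⁆, commElt_mem_center hc x g⟩
  map_one' := by
    apply Subtype.ext
    simp [commutatorElement_def]
  map_mul' g h := by
    apply Subtype.ext
    simp only [Subgroup.coe_mul]
    rw [commElt_mul_right]
    have hz := Subgroup.mem_center_iff.mp (commElt_mem_center hc x h) g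
    rw [hz, mul_assoc, mul_inv_cancel, mul_one]

theorem commHom_apply (hc : commutator P ≤ Subgroup.center P) (x g : P) :
    ((commHom hc x g : Subgroup.center P) : P) = ⁅x, g⁆ := rfl

theorem mem_centralizer_singleton_iff' (x g : P) :
    g ∈ Subgroup.centralizer ({x} : Set P) ↔ x * g = g * x := by
  rw [Subgroup.mem_centralizer_iff]
  constructor
  · intro h; exact h x rfl
  · intro h y hy
    rw [Set.mem_singleton_iff] at hy
    rw [hy]; exact h

/-- If `|Z(P)| = p`, commutators are central, and `x` fails to commute with some `g₀ ∈ L`,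
then `C_P(x)` has relative index `p` in `L`. -/
theorem relIndex_centralizer_eq_prime [Finite P] {p : ℕ} (hp : p.Prime)
    (hc : commutator P ≤ Subgroup.center P) (hz : Nat.card (Subgroup.center P) = p) (x : P)
    (L : Subgroup P) (g₀ : P) (hg₀ : g₀ ∈ L) (hne : ⁅x, g₀⁆ ≠ 1) :
    (Subgroup.centralizer ({x} : Set P)).relIndex L = p := by
  set f : L →* Subgroup.center P := (commHom hc x).comp L.subtype with hf
  have hker : f.ker = (Subgroup.centralizer ({x} : Set P)).subgroupOf L := by
    ext g
    rw [MonoidHom.mem_ker, Subgroup.mem_subgroupOf, mem_centralizer_singleton_iff',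
      ← commutatorElement_eq_one_iff_mul_comm]
    constructor
    · intro h
      have := congrArg Subtype.val h
      exact this
    · intro h
      apply Subtype.ext
      exact h
  have h1 : (Subgroup.centralizer ({x} : Set P)).relIndex L = Nat.card f.range := by
    rw [Subgroup.relIndex, ← hker, Subgroup.index_ker]
  rw [h1]
  have hdvd : Nat.card f.range ∣ p := by
    rw [← hz]; exact Subgroup.card_subgroup_dvd_card f.range
  rcases (Nat.dvd_prime hp).mp hdvd with h2 | h2
  · exfalso
    have hbot := Subgroup.card_eq_one.mp h2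
    have hmem : f ⟨g₀, hg₀⟩ ∈ f.range := ⟨_, rfl⟩
    rw [hbot, Subgroup.mem_bot] at hmem
    apply hne
    have := congrArg Subtype.val hmem
    exact this
  · exact h2

/-- A subgroup of prime relative index is maximal below. -/
theorem le_of_relIndex_prime {p : ℕ} (hp : p.Prime) {H K L : Subgroup P} (hHK : H ≤ K)
    (hKL : K ≤ L) (hidx : H.relIndex L = p) (hne : ¬ K ≤ H) : L ≤ K := by
  have h := Subgroup.relIndex_mul_relIndex H K L hHK hKL
  rw [hidx] at h
  have hd : H.relIndex K ∣ p := ⟨_, h.symm⟩
  rcases (Nat.dvd_prime hp).mp hd with h1 | h1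
  · exact absurd (Subgroup.relIndex_eq_one.mp h1) hne
  · rw [h1] at h
    have h2 : K.relIndex L = 1 := by
      have : p * K.relIndex L = p * 1 := by rw [h, mul_one]
      exact Nat.eq_of_mul_eq_mul_left hp.pos this
    exact Subgroup.relIndex_eq_one.mp h2

end

/-- Main induction: a finite group whose derived subgroup equals its centre, of prime order `p`,
has order `p ^ (2 * k + 1)` with `1 ≤ k`. -/
theorem card_eq_of_commutator_eq_center_aux (p : ℕ) (hp : p.Prime) (n : ℕ) :
    ∀ (P : Type u) [Group P] [Finite P], Nat.card P = n →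
      commutator P = Subgroup.center P → Nat.card (Subgroup.center P) = p →
      ∃ k : ℕ, 1 ≤ k ∧ n = p ^ (2 * k + 1) := by
  induction n using Nat.strong_induction_on with
  | _ n ih =>
    intro P _ _ hn hcz hz
    have hc : commutator P ≤ Subgroup.center P := hcz.le
    -- a non-commuting pair
    have hex : ∃ x y : P, ⁅x, y⁆ ≠ 1 := by
      by_contra hcon
      have hall : ∀ x y : P, ⁅x, y⁆ = 1 := by
        intro x y
        by_contra hxy
        exact hcon ⟨x, y, hxy⟩
      have hbot : commutator P = ⊥ := by
        rw [commutator_def, eq_bot_iff, Subgroup.commutator_le]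
        intro a _ b _
        rw [hall a b]; exact Subgroup.one_mem _
      rw [← hcz, hbot, Subgroup.card_bot] at hz
      exact hp.one_lt.ne hz
    obtain ⟨x, y, hxy⟩ := hex
    have hyx : ⁅y, x⁆ ≠ 1 := by
      intro h
      apply hxy
      rw [← commutatorElement_inv, h, inv_one]
    set Cx := Subgroup.centralizer ({x} : Set P) with hCx
    set Cy := Subgroup.centralizer ({y} : Set P) with hCy
    have memCx : ∀ g : P, g ∈ Cx ↔ x * g = g * x := fun g => mem_centralizer_singleton_iff' x g
    have memCy : ∀ g : P, g ∈ Cy ↔ y * g = g * y := fun g => mem_centralizer_singleton_iff' y g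
    have hxCx : x ∈ Cx := (memCx x).mpr rfl
    have hxCy : x ∉ Cy := by
      rw [memCy, ← commutatorElement_eq_one_iff_mul_comm]
      exact hyx
    have hyCx : y ∉ Cx := by
      rw [memCx, ← commutatorElement_eq_one_iff_mul_comm]
      exact hxy
    have idx1 : Cx.relIndex ⊤ = p :=
      relIndex_centralizer_eq_prime hp hc hz x ⊤ y (Subgroup.mem_top y) hxy
    have idx1' : Cx.index = p := by rw [← Subgroup.relIndex_top_right]; exact idx1
    have idx2 : Cy.relIndex Cx = p :=
      relIndex_centralizer_eq_prime hp hc hz y Cx x hxCx hyx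
    have idx2' : (Cx ⊓ Cy).relIndex Cx = p := by rw [Subgroup.inf_relIndex_left]; exact idx2
    -- cardinalities
    have hcard1 : Nat.card ↥(Cx ⊓ Cy) * p = Nat.card Cx := by
      have := Subgroup.relIndex_mul_relIndex (⊥ : Subgroup P) (Cx ⊓ Cy) Cx bot_le inf_le_left
      rw [Subgroup.relIndex_bot_left, Subgroup.relIndex_bot_left, idx2'] at this
      exact this
    have hcard2 : Nat.card Cx * p = n := by
      rw [← idx1', Subgroup.card_mul_index, hn]
    have hZle : Subgroup.center P ≤ Cx ⊓ Cy := by
      intro z hzc
      have hzc' := Subgroup.mem_center_iff.mp hzc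
      rw [Subgroup.mem_inf, memCx, memCy]
      exact ⟨hzc' x, hzc' y⟩
    -- centre of C
    have hcenter : ∀ c : ↥(Cx ⊓ Cy), c ∈ Subgroup.center ↥(Cx ⊓ Cy) ↔
        (c : P) ∈ Subgroup.center P := by
      intro c
      constructor
      · intro hcc
        have hcc' := Subgroup.mem_center_iff.mp hcc
        -- K = centralizer {c}
        set K := Subgroup.centralizer ({(c : P)} : Set P) with hK
        have hCK : Cx ⊓ Cy ≤ K := by
          intro g hg
          rw [hK, mem_centralizer_singleton_iff']
          have := congrArg Subtype.val (hcc' ⟨g, hg⟩)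
          simp only [Subgroup.coe_mul] at this
          exact this.symm
        obtain ⟨hc1, hc2⟩ := Subgroup.mem_inf.mp c.2
        have hxK : x ∈ K := by
          rw [hK, mem_centralizer_singleton_iff']; exact ((memCx _).mp hc1).symm
        have hyK : y ∈ K := by
          rw [hK, mem_centralizer_singleton_iff']; exact ((memCy _).mp hc2).symm
        have h1 : Cx ≤ K ⊓ Cx := by
          apply le_of_relIndex_prime hp (le_inf hCK inf_le_left) inf_le_right idx2'
          intro hle
          exact hxCy (hle ⟨hxK, hxCx⟩).2
        have h2 : (⊤ : Subgroup P) ≤ K := by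
          apply le_of_relIndex_prime hp (h1.trans inf_le_left) le_top idx1
          intro hle
          exact hyCx (hle hyK)
        rw [Subgroup.mem_center_iff]
        intro g
        have := h2 (Subgroup.mem_top g)
        rw [hK, mem_centralizer_singleton_iff'] at this
        exact this.symm
      · intro hcc
        have hcc' := Subgroup.mem_center_iff.mp hcc
        rw [Subgroup.mem_center_iff]
        intro g
        apply Subtype.ext
        simp only [Subgroup.coe_mul]
        exact hcc' g
    have hmap : (Subgroup.center ↥(Cx ⊓ Cy)).map (Cx ⊓ Cy).subtype = Subgroup.center P := by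
      ext z
      rw [Subgroup.mem_map]
      constructor
      · rintro ⟨c, hcc, rfl⟩
        exact (hcenter c).mp hcc
      · intro hzc
        exact ⟨⟨z, hZle hzc⟩, (hcenter _).mpr hzc, rfl⟩
    have hzC : Nat.card (Subgroup.center ↥(Cx ⊓ Cy)) = p := by
      rw [← Subgroup.card_map_of_injective (Cx ⊓ Cy).subtype_injective, hmap, hz]
    have hcC : commutator ↥(Cx ⊓ Cy) ≤ Subgroup.center ↥(Cx ⊓ Cy) := by
      rw [commutator_def, Subgroup.commutator_le]
      intro a _ b _
      rw [hcenter]
      have : ((⁅a, b⁆ : ↥(Cx ⊓ Cy)) : P) = ⁅(a : P), (b : P)⁆ := by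
        simp [commutatorElement_def]
      rw [this]
      exact commElt_mem_center hc _ _
    have hdvd : Nat.card (commutator ↥(Cx ⊓ Cy)) ∣ p := by
      rw [← hzC]; exact Subgroup.card_dvd_of_le hcC
    rcases (Nat.dvd_prime hp).mp hdvd with h1 | h1
    · -- C abelian: C = its centre
      have hbot := Subgroup.card_eq_one.mp h1
      have htop : Subgroup.center ↥(Cx ⊓ Cy) = ⊤ := by
        rw [eq_top_iff]
        intro c _
        rw [Subgroup.mem_center_iff]
        intro g
        have hm : ⁅g, c⁆ ∈ commutator ↥(Cx ⊓ Cy) :=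
          Subgroup.commutator_mem_commutator (Subgroup.mem_top g) (Subgroup.mem_top c)
        rw [hbot, Subgroup.mem_bot] at hm
        exact commutatorElement_eq_one_iff_mul_comm.mp hm
      have hCcard : Nat.card ↥(Cx ⊓ Cy) = p := by
        rw [← hzC, htop, Subgroup.card_top]
      refine ⟨1, le_refl 1, ?_⟩
      rw [← hcard2, ← hcard1, hCcard]
      ring
    · -- induction
      have heq : commutator ↥(Cx ⊓ Cy) = Subgroup.center ↥(Cx ⊓ Cy) :=
        Subgroup.eq_of_le_of_card_ge hcC (by rw [h1, hzC])
      have hp1 := hp.one_lt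
      have hlt : Nat.card ↥(Cx ⊓ Cy) < n := by
        have hpos : 0 < Nat.card ↥(Cx ⊓ Cy) := Nat.card_pos
        rw [← hcard2, ← hcard1]
        nlinarith
      obtain ⟨k, hk1, hk⟩ := ih _ hlt ↥(Cx ⊓ Cy) rfl heq hzC
      refine ⟨k + 1, by omega, ?_⟩
      rw [← hcard2, ← hcard1, hk]
      ring

/-- A finite group with `commutator P = center P` of prime order `p` has order `p ^ (2 k + 1)`, `1 ≤ k`. -/
theorem card_eq_of_commutator_eq_center {P : Type u} [Group P] [Finite P] {p : ℕ} (hp : p.Prime)
    (hcz : commutator P = Subgroup.center P) (hz : Nat.card (Subgroup.center P) = p) :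
    ∃ k : ℕ, 1 ≤ k ∧ Nat.card P = p ^ (2 * k + 1) :=
  card_eq_of_commutator_eq_center_aux p hp (Nat.card P) P rfl hcz hz

end Cfsg.Agent.Lib.Helper20
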