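import Mathlib
import Cfsg.Agent.Lib.Helper20.Extraspecial

/-!
Helper lemmas (helper20): "chain counting" for commutator pairings with values in a small
central subgroup: `|B : C_B(A)| ≤ |A : C_A(B)|` when all commutators `⁅b, a⁆` lie in a subgroup `Z`
of order at most `p` centralized by `B`, inside a finite `p`-group.
-/

set_option autoImplicit false

namespace Cfsg.Agent.Lib.Helper20

open scoped commutatorElement

section
variable {G : Type*} [Group G]

theorem commElt_mul_left' (g h e : G) : ⁅g * h, e⁆ = (g * ⁅h, e⁆ * g⁻¹) * ⁅g, e⁆ := by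
  simp only [commutatorElement_def]; group

/-- Relative version: if commutators `⁅g, e⁆` (`g ∈ L`) lie in a commutative subgroup `Z` centralized
by `L`, then `C_L(e)` has index dividing `|Z|` in `L`. -/
theorem relIndex_centralizer_dvd_card_of_mem [Finite G] (L Z : Subgroup G) (e : G)
    (h1 : ∀ g ∈ L, ⁅g, e⁆ ∈ Z) (h2 : ∀ g ∈ L, ∀ z ∈ Z, g * z = z * g)
    (h3 : ∀ z ∈ Z, ∀ w ∈ Z, z * w = w * z) :
    (Subgroup.centralizer ({e} : Set G)).relIndex L ∣ Nat.card Z := by
  let f : L →* Z :=
    { toFun := fun g => ⟨⁅(g : G), e⁆, h1 g.1 g.2⟩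
      map_one' := by
        apply Subtype.ext
        simp [commutatorElement_def]
      map_mul' := fun g h => by
        apply Subtype.ext
        simp only [Subgroup.coe_mul]
        rw [commElt_mul_left', h2 g.1 g.2 _ (h1 h.1 h.2), mul_assoc, mul_assoc,
          mul_inv_cancel_left]
        exact h3 _ (h1 h.1 h.2) _ (h1 g.1 g.2) }
  have hker : f.ker = (Subgroup.centralizer ({e} : Set G)).subgroupOf L := by
    ext g
    rw [MonoidHom.mem_ker, Subgroup.mem_subgroupOf, mem_centralizer_singleton_iff']
    constructor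
    · intro h
      have h1 : ⁅(g : G), e⁆ = 1 := congrArg Subtype.val h
      exact (commutatorElement_eq_one_iff_mul_comm.mp h1).symm
    · intro h
      apply Subtype.ext
      exact commutatorElement_eq_one_iff_mul_comm.mpr h.symm
  have h1' : (Subgroup.centralizer ({e} : Set G)).relIndex L = Nat.card f.range := by
    rw [Subgroup.relIndex, ← hker, Subgroup.index_ker]
  rw [h1']
  exact Subgroup.card_subgroup_dvd_card f.range

/-- Chain counting: `|B| * |C_A(B)| ≤ |C_B(A)| * |A|`. -/
theorem card_mul_card_centralizer_le [Finite G] {p : ℕ} (hp : p.Prime) (hG : IsPGroup p G)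
    (A B Z : Subgroup G) (hZ : Nat.card Z ≤ p)
    (h1 : ∀ a ∈ A, ∀ b ∈ B, ⁅b, a⁆ ∈ Z) (h2 : ∀ b ∈ B, ∀ z ∈ Z, b * z = z * b)
    (h3 : ∀ z ∈ Z, ∀ w ∈ Z, z * w = w * z) :
    Nat.card B * Nat.card ↥(A ⊓ Subgroup.centralizer (B : Set G))
      ≤ Nat.card ↥(B ⊓ Subgroup.centralizer (A : Set G)) * Nat.card A := by
  classical
  have key : ∀ T : Finset G, (∀ t ∈ T, t ∈ A) →
      Nat.card B * Nat.card ↥(A ⊓ Subgroup.centralizer (B : Set G)) ≤
        Nat.card ↥(B ⊓ Subgroup.centralizer
          (((A ⊓ Subgroup.centralizer (B : Set G)) ⊔ Subgroup.closure (T : Set G) : Subgroup G) : Set G))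
        * Nat.card ↥((A ⊓ Subgroup.centralizer (B : Set G)) ⊔ Subgroup.closure (T : Set G)) := by
    intro T
    induction T using Finset.induction_on with
    | empty =>
      intro _
      simp only [Finset.coe_empty, Subgroup.closure_empty, sup_bot_eq]
      have : B ⊓ Subgroup.centralizer ((A ⊓ Subgroup.centralizer (B : Set G) : Subgroup G) : Set G) = B := by
        apply inf_eq_left.mpr
        intro b hb
        rw [Subgroup.mem_centralizer_iff]
        intro x hx
        have hx2 := (Subgroup.mem_inf.mp hx).2
        exact ((Subgroup.mem_centralizer_iff.mp hx2) b hb).symm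
      rw [this]
    | insert e T heT ih =>
      intro hT
      have he : e ∈ A := hT e (Finset.mem_insert_self e T)
      have ih' := ih (fun t ht => hT t (Finset.mem_insert_of_mem ht))
      have hF2 : (A ⊓ Subgroup.centralizer (B : Set G)) ⊔ Subgroup.closure ((insert e T : Finset G) : Set G)
          = ((A ⊓ Subgroup.centralizer (B : Set G)) ⊔ Subgroup.closure (T : Set G)) ⊔ Subgroup.zpowers e := by
        rw [Finset.coe_insert, Set.insert_eq, Subgroup.closure_union, ← Subgroup.zpowers_eq_closure]
        ac_rfl
      rw [hF2]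
      generalize (A ⊓ Subgroup.centralizer (B : Set G)) ⊔ Subgroup.closure (T : Set G) = F at ih' ⊢
      by_cases heF : e ∈ F
      · have : F ⊔ Subgroup.zpowers e = F := sup_eq_left.mpr (Subgroup.zpowers_le.mpr heF)
        rw [this]; exact ih'
      · have hFlt : ¬ F ⊔ Subgroup.zpowers e ≤ F := fun hle =>
          heF (hle (Subgroup.mem_sup_right (Subgroup.mem_zpowers e)))
        haveI : Fact p.Prime := ⟨hp⟩
        have hcardF : p * Nat.card F ≤ Nat.card ↥(F ⊔ Subgroup.zpowers e) := by
          have h1 := Subgroup.relIndex_mul_relIndex (⊥ : Subgroup G) F (F ⊔ Subgroup.zpowers e)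
            bot_le le_sup_left
          rw [Subgroup.relIndex_bot_left, Subgroup.relIndex_bot_left] at h1
          have hpg : IsPGroup p ↥(F ⊔ Subgroup.zpowers e) := hG.to_subgroup _
          obtain ⟨n, hn⟩ := hpg.index (F.subgroupOf (F ⊔ Subgroup.zpowers e))
          have hn' : F.relIndex (F ⊔ Subgroup.zpowers e) = p ^ n := hn
          have hn0 : n ≠ 0 := by
            rintro rfl
            rw [pow_zero, Subgroup.relIndex_eq_one] at hn'
            exact hFlt hn'
          have hdvd : p ∣ F.relIndex (F ⊔ Subgroup.zpowers e) := hn' ▸ dvd_pow_self p hn0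
          have hle : p ≤ F.relIndex (F ⊔ Subgroup.zpowers e) :=
            Nat.le_of_dvd (by rw [hn']; exact pow_pos hp.pos n) hdvd
          rw [← h1, mul_comm]; exact Nat.mul_le_mul_left _ hle
        have hle : (B ⊓ Subgroup.centralizer (F : Set G)) ⊓ Subgroup.centralizer ({e} : Set G)
            ≤ B ⊓ Subgroup.centralizer ((F ⊔ Subgroup.zpowers e : Subgroup G) : Set G) := by
          intro g hg
          obtain ⟨hgL, hge⟩ := Subgroup.mem_inf.mp hg
          obtain ⟨hgB, hgF⟩ := Subgroup.mem_inf.mp hgL
          refine Subgroup.mem_inf.mpr ⟨hgB, ?_⟩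
          have h1 : F ⊔ Subgroup.zpowers e ≤ Subgroup.centralizer ({g} : Set G) := by
            apply sup_le
            · intro f hf
              rw [mem_centralizer_singleton_iff']
              exact ((Subgroup.mem_centralizer_iff.mp hgF) f hf).symm
            · rw [Subgroup.zpowers_le, mem_centralizer_singleton_iff']
              exact ((mem_centralizer_singleton_iff' e g).mp hge).symm
          rw [Subgroup.mem_centralizer_iff]
          intro f hf
          exact ((mem_centralizer_singleton_iff' g f).mp (h1 hf)).symm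
        have hcardC : Nat.card ↥(B ⊓ Subgroup.centralizer (F : Set G))
            ≤ Nat.card ↥((B ⊓ Subgroup.centralizer (F : Set G)) ⊓ Subgroup.centralizer ({e} : Set G)) * p := by
          have h1' := Subgroup.relIndex_mul_relIndex (⊥ : Subgroup G)
            ((B ⊓ Subgroup.centralizer (F : Set G)) ⊓ Subgroup.centralizer ({e} : Set G))
            (B ⊓ Subgroup.centralizer (F : Set G)) bot_le inf_le_left
          rw [Subgroup.relIndex_bot_left, Subgroup.relIndex_bot_left, Subgroup.inf_relIndex_left] at h1'
          have hdvd := relIndex_centralizer_dvd_card_of_mem (B ⊓ Subgroup.centralizer (F : Set G)) Z e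
            (fun g hg => h1 e he g (Subgroup.mem_inf.mp hg).1)
            (fun g hg => h2 g (Subgroup.mem_inf.mp hg).1) h3
          have h2' : (Subgroup.centralizer ({e} : Set G)).relIndex (B ⊓ Subgroup.centralizer (F : Set G)) ≤ p :=
            (Nat.le_of_dvd Nat.card_pos hdvd).trans hZ
          rw [← h1']; exact Nat.mul_le_mul_left _ h2'
        calc Nat.card B * Nat.card ↥(A ⊓ Subgroup.centralizer (B : Set G))
            ≤ Nat.card ↥(B ⊓ Subgroup.centralizer (F : Set G)) * Nat.card F := ih'
          _ ≤ (Nat.card ↥((B ⊓ Subgroup.centralizer (F : Set G)) ⊓ Subgroup.centralizer ({e} : Set G)) * p)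
                * Nat.card F := Nat.mul_le_mul_right _ hcardC
          _ = Nat.card ↥((B ⊓ Subgroup.centralizer (F : Set G)) ⊓ Subgroup.centralizer ({e} : Set G))
                * (p * Nat.card F) := by ring
          _ ≤ Nat.card ↥(B ⊓ Subgroup.centralizer ((F ⊔ Subgroup.zpowers e : Subgroup G) : Set G))
                * Nat.card ↥(F ⊔ Subgroup.zpowers e) :=
              Nat.mul_le_mul (Subgroup.card_le_of_le hle) hcardF
  have hfin : (A : Set G).Finite := Set.toFinite _
  have hkey := key hfin.toFinset (fun t ht => by simpa using ht)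
  have hAsup : (A ⊓ Subgroup.centralizer (B : Set G)) ⊔ Subgroup.closure ((hfin.toFinset : Finset G) : Set G) = A := by
    rw [Set.Finite.coe_toFinset, Subgroup.closure_eq]
    exact sup_eq_right.mpr inf_le_left
  rw [hAsup] at hkey
  exact hkey

end

end Cfsg.Agent.Lib.Helper20
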