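import Mathlib
import Cfsg.Agent.Lib.Helper20.Extraspecial
import Cfsg.Agent.Lib.Helper12.Basic

/-!
Helper lemmas (helper20): basic facts on finite `p`-groups
(index-`p` subgroups are normal and maximal; normal subgroups of order `p` are central;
commutator homomorphisms into a central subgroup).
-/

set_option autoImplicit false

namespace Cfsg.Agent.Lib.Helper20

open scoped commutatorElement

/-- A subgroup of index `p` in a finite `p`-group is normal. -/
theorem normal_of_index_eq_prime_of_isPGroup {S : Type*} [Group S] [Finite S] {p : ℕ} (hp : p.Prime)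
    (hS : IsPGroup p S) (Q : Subgroup S) (hQi : Q.index = p) : Q.Normal := by
  haveI : Fact p.Prime := ⟨hp⟩
  obtain ⟨m, hm⟩ := IsPGroup.iff_card.mp hS
  have hm0 : m ≠ 0 := by
    rintro rfl
    rw [pow_zero] at hm
    have h1 : Q.index ∣ Nat.card S := Subgroup.index_dvd_card Q
    rw [hQi, hm] at h1
    exact hp.one_lt.ne' (Nat.dvd_one.mp h1)
  exact Subgroup.normal_of_index_eq_minFac_card (by rw [hQi, hm, hp.pow_minFac hm0])

/-- A subgroup of prime index is maximal. -/
theorem eq_top_of_index_prime {S : Type*} [Group S] {p : ℕ} (hp : p.Prime) {B K : Subgroup S}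
    (hBi : B.index = p) (hBK : B ≤ K) (hne : ¬ K ≤ B) : K = ⊤ := by
  rw [eq_top_iff]
  exact le_of_relIndex_prime hp hBK le_top (by rw [Subgroup.relIndex_top_right]; exact hBi) hne

/-- A normal subgroup of order `p` of a finite `p`-group is central. -/
theorem le_center_of_normal_of_card_eq_prime {S : Type*} [Group S] [Finite S] {p : ℕ} [Fact p.Prime]
    (hS : IsPGroup p S) (N : Subgroup S) [N.Normal] (hN : Nat.card N = p) :
    N ≤ Subgroup.center S := by
  have hp : p.Prime := Fact.out
  have hNne : N ≠ ⊥ := by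
    intro h
    rw [h, Subgroup.card_bot] at hN
    exact hp.one_lt.ne hN
  obtain ⟨x, hxN, hx1, hxZ⟩ :=
    Cfsg.Agent.Lib.Helper12.exists_ne_one_mem_center_of_normal hS N hNne
  have hdvd : Nat.card ↥(Subgroup.center S ⊓ N) ∣ p := by
    rw [← hN]; exact Subgroup.card_dvd_of_le inf_le_right
  rcases (Nat.dvd_prime hp).mp hdvd with h1 | h1
  · exfalso
    have hbot := Subgroup.card_eq_one.mp h1
    have hxmem : x ∈ Subgroup.center S ⊓ N := ⟨hxZ, hxN⟩
    rw [hbot, Subgroup.mem_bot] at hxmem
    exact hx1 hxmem
  · have heq : Subgroup.center S ⊓ N = N :=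
      Subgroup.eq_of_le_of_card_ge inf_le_right (by rw [h1, hN])
    rw [← heq]; exact inf_le_left

/-- `Z(Q)` viewed in the ambient group is `Q ⊓ C(Q)`. -/
theorem center_map_subtype_eq {S : Type*} [Group S] (Q : Subgroup S) :
    (Subgroup.center ↥Q).map Q.subtype = Q ⊓ Subgroup.centralizer (Q : Set S) := by
  ext y
  rw [Subgroup.mem_map, Subgroup.mem_inf]
  constructor
  · rintro ⟨q, hq, rfl⟩
    refine ⟨q.2, ?_⟩
    rw [Subgroup.mem_centralizer_iff]
    intro g hg
    have := Subgroup.mem_center_iff.mp hq ⟨g, hg⟩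
    have h2 := congrArg Subtype.val this
    simpa using h2
  · rintro ⟨hyQ, hyC⟩
    refine ⟨⟨y, hyQ⟩, ?_, rfl⟩
    rw [Subgroup.mem_center_iff]
    intro g
    apply Subtype.ext
    simp only [Subgroup.coe_mul]
    exact (Subgroup.mem_centralizer_iff.mp hyC) g g.2

/-- If `Q` is normal in a finite `p`-group and `|Z(Q)| = p` then `Z(Q)` is central. -/
theorem center_map_le_center {S : Type*} [Group S] [Finite S] {p : ℕ} [Fact p.Prime]
    (hS : IsPGroup p S) (Q : Subgroup S) [Q.Normal] (hZcard : Nat.card (Subgroup.center ↥Q) = p) :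
    (Subgroup.center ↥Q).map Q.subtype ≤ Subgroup.center S := by
  haveI hZQn : ((Subgroup.center ↥Q).map Q.subtype).Normal := inferInstance
  apply le_center_of_normal_of_card_eq_prime hS
  rw [Subgroup.card_map_of_injective Q.subtype_injective]; exact hZcard

section
variable {G : Type*} [Group G]

theorem commElt_mul_left (g h e : G) : ⁅g * h, e⁆ = (g * ⁅h, e⁆ * g⁻¹) * ⁅g, e⁆ := by
  simp only [commutatorElement_def]; group

/-- If all commutators `⁅g, e⁆` lie in a central subgroup `Z`, then `g ↦ ⁅g, e⁆` is a homomorphism `G →* Z`. -/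
def commHomLeft (Z : Subgroup G) (hZ : Z ≤ Subgroup.center G) (e : G) (he : ∀ g : G, ⁅g, e⁆ ∈ Z) :
    G →* Z where
  toFun g := ⟨⁅g, e⁆, he g⟩
  map_one' := by
    apply Subtype.ext
    simp [commutatorElement_def]
  map_mul' g h := by
    apply Subtype.ext
    simp only [Subgroup.coe_mul]
    rw [commElt_mul_left]
    have hz := Subgroup.mem_center_iff.mp (hZ (he h))
    rw [hz g, mul_assoc, mul_assoc, mul_inv_cancel_left]
    exact (hz _).symm

/-- The centralizer of `e` has relative index dividing `|Z|` in any subgroup `L`, when all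
commutators with `e` lie in the central subgroup `Z`. -/
theorem relIndex_centralizer_dvd_card [Finite G] (Z : Subgroup G) (hZ : Z ≤ Subgroup.center G) (e : G)
    (he : ∀ g : G, ⁅g, e⁆ ∈ Z) (L : Subgroup G) :
    (Subgroup.centralizer ({e} : Set G)).relIndex L ∣ Nat.card Z := by
  set f : L →* Z := (commHomLeft Z hZ e he).comp L.subtype with hf
  have hker : f.ker = (Subgroup.centralizer ({e} : Set G)).subgroupOf L := by
    ext g
    rw [MonoidHom.mem_ker, Subgroup.mem_subgroupOf, mem_centralizer_singleton_iff']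
    constructor
    · intro h
      have h1 : ⁅(g : G), e⁆ = 1 := congrArg Subtype.val h
      exact (commutatorElement_eq_one_iff_mul_comm.mp h1).symm
    · intro h
      apply Subtype.ext
      exact commutatorElement_eq_one_iff_mul_comm.mpr h.symm
  have h1 : (Subgroup.centralizer ({e} : Set G)).relIndex L = Nat.card f.range := by
    rw [Subgroup.relIndex, ← hker, Subgroup.index_ker]
  rw [h1]
  exact Subgroup.card_subgroup_dvd_card f.range

end

end Cfsg.Agent.Lib.Helper20
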