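import Mathlib

/-!
Helper lemmas (helper20): cardinalities of nested subgroups of a finite `p`-group.
-/

set_option autoImplicit false

namespace Cfsg.Agent.Lib.Helper20

/-- In a finite `p`-group, a proper inclusion `H < K` of subgroups forces `p * |H| ≤ |K|`. -/
theorem card_mul_le_card_of_lt {G : Type*} [Group G] [Finite G] {p : ℕ} (hp : p.Prime)
    (hG : IsPGroup p G) {H K : Subgroup G} (hHK : H ≤ K) (hne : ¬ K ≤ H) :
    p * Nat.card H ≤ Nat.card K := by
  haveI : Fact p.Prime := ⟨hp⟩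
  have h1 := Subgroup.relIndex_mul_relIndex (⊥ : Subgroup G) H K bot_le hHK
  rw [Subgroup.relIndex_bot_left, Subgroup.relIndex_bot_left] at h1
  have hpg : IsPGroup p ↥K := hG.to_subgroup _
  obtain ⟨n, hn⟩ := hpg.index (H.subgroupOf K)
  have hn' : H.relIndex K = p ^ n := hn
  have hn0 : n ≠ 0 := by
    rintro rfl
    rw [pow_zero, Subgroup.relIndex_eq_one] at hn'
    exact hne hn'
  have hdvd : p ∣ H.relIndex K := hn' ▸ dvd_pow_self p hn0
  have hle : p ≤ H.relIndex K := Nat.le_of_dvd (by rw [hn']; exact pow_pos hp.pos n) hdvd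
  rw [← h1, mul_comm]; exact Nat.mul_le_mul_left _ hle

end Cfsg.Agent.Lib.Helper20
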