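import Mathlib
import Cfsg.Agent.Lib.Helper20.PGroupBasics
import Cfsg.Agent.Lib.Helper20.PGroupCard
import Cfsg.Agent.Lib.Helper1.PGroup
import Cfsg.Agent.Lib.Helper10.PGroupBasic

/-!
Helper lemmas (helper20): for odd `p`, every non-cyclic finite `p`-group has a normal elementary
abelian subgroup of order `p ^ 2`.
-/

set_option autoImplicit false

namespace Cfsg.Agent.Lib.Helper20

open scoped commutatorElement

/-! ### Class two power formula -/

/-- `y ^ n * x = c ^ n * x * y ^ n` where `c = ⁅y, x⁆` is central. -/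
theorem pow_mul_comm_of_central {E : Type*} [Group E] (x y : E)
    (hc : ∀ g : E, g * ⁅y, x⁆ = ⁅y, x⁆ * g) (n : ℕ) :
    y ^ n * x = ⁅y, x⁆ ^ n * x * y ^ n := by
  induction n with
  | zero => simp
  | succ n ih =>
    have hyx : y * x = ⁅y, x⁆ * x * y := by simp [commutatorElement_def]
    have hcn : ∀ g : E, g * ⁅y, x⁆ ^ n = ⁅y, x⁆ ^ n * g := fun g =>
      ((Commute.pow_right (hc g) n)).eq
    calc y ^ (n + 1) * x = y * (y ^ n * x) := by rw [pow_succ', mul_assoc]
      _ = y * (⁅y, x⁆ ^ n * x * y ^ n) := by rw [ih]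
      _ = (y * ⁅y, x⁆ ^ n) * x * y ^ n := by simp only [mul_assoc]
      _ = ⁅y, x⁆ ^ n * (y * x) * y ^ n := by rw [hcn y]; simp only [mul_assoc]
      _ = ⁅y, x⁆ ^ n * (⁅y, x⁆ * x * y) * y ^ n := by rw [hyx]
      _ = ⁅y, x⁆ ^ (n + 1) * x * y ^ (n + 1) := by
          rw [pow_succ, pow_succ']; simp only [mul_assoc]

theorem mul_pow_step_of_central {E : Type*} [Group E] (x y a C : E) (n : ℕ)
    (ha : ∀ g : E, g * a = a * g) (hC : ∀ g : E, g * C = C * g)
    (hyx : y ^ n * x = a * x * y ^ n) :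
    x ^ n * y ^ n * C * (x * y) = x ^ (n + 1) * y ^ (n + 1) * (a * C) := by
  calc x ^ n * y ^ n * C * (x * y)
      = x ^ n * y ^ n * ((x * y) * C) := by rw [mul_assoc (x ^ n * y ^ n), ← hC (x * y)]
    _ = x ^ n * (y ^ n * x) * y * C := by simp only [mul_assoc]
    _ = x ^ n * (a * x * y ^ n) * y * C := by rw [hyx]
    _ = (x ^ n * a) * x * y ^ n * y * C := by simp only [mul_assoc]
    _ = a * x ^ n * x * y ^ n * y * C := by rw [ha (x ^ n)]
    _ = a * (x ^ (n + 1) * y ^ (n + 1)) * C := by rw [pow_succ, pow_succ]; simp only [mul_assoc]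
    _ = (x ^ (n + 1) * y ^ (n + 1)) * a * C := by rw [← ha]
    _ = x ^ (n + 1) * y ^ (n + 1) * (a * C) := by simp only [mul_assoc]

/-- `(x * y) ^ n = x ^ n * y ^ n * c ^ (0 + 1 + ... + (n-1))` where `c = ⁅y, x⁆` is central. -/
theorem mul_pow_of_central {E : Type*} [Group E] (x y : E)
    (hc : ∀ g : E, g * ⁅y, x⁆ = ⁅y, x⁆ * g) (n : ℕ) :
    (x * y) ^ n = x ^ n * y ^ n * ⁅y, x⁆ ^ (∑ i ∈ Finset.range n, i) := by
  induction n with
  | zero => simp
  | succ n ih =>
    have hck : ∀ (k : ℕ) (g : E), g * ⁅y, x⁆ ^ k = ⁅y, x⁆ ^ k * g := fun k g =>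
      ((Commute.pow_right (hc g) k)).eq
    rw [pow_succ, ih, Finset.sum_range_succ,
      mul_pow_step_of_central x y (⁅y, x⁆ ^ n) (⁅y, x⁆ ^ (∑ i ∈ Finset.range n, i)) n (hck n) (hck _)
        (pow_mul_comm_of_central x y hc n), ← pow_add, add_comm n (∑ i ∈ Finset.range n, i)]

/-- For odd `p`, if `⁅y, x⁆` is central with `⁅y, x⁆ ^ p = 1`, then `(x * y) ^ p = x ^ p * y ^ p`. -/
theorem mul_pow_prime_of_central {E : Type*} [Group E] {p : ℕ} (hp : p.Prime) (hp2 : p ≠ 2) (x y : E)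
    (hc : ∀ g : E, g * ⁅y, x⁆ = ⁅y, x⁆ * g) (hcp : ⁅y, x⁆ ^ p = 1) :
    (x * y) ^ p = x ^ p * y ^ p := by
  obtain ⟨m, hm⟩ := hp.odd_of_ne_two hp2
  have hsum : ∑ i ∈ Finset.range p, i = p * m := by
    have h1 := Finset.sum_range_id_mul_two p
    have h2 : p - 1 = 2 * m := by omega
    rw [h2] at h1
    have h3 : (∑ i ∈ Finset.range p, i) * 2 = (p * m) * 2 := by rw [h1]; ring
    exact Nat.eq_of_mul_eq_mul_right (by norm_num) h3
  rw [mul_pow_of_central x y hc p, hsum, pow_mul, hcp, one_pow, mul_one]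

/-! ### Number theory: lifting the exponent -/

theorem dvd_sub_one_of_pow_dvd_pow_sub_one {p : ℕ} [hp : Fact p.Prime] (hp2 : p ≠ 2) (r k : ℕ)
    (hr : 2 ≤ r) (hk : 1 ≤ k) (h : p ^ k ∣ r ^ p - 1) : p ∣ r - 1 ∧ p ^ (k - 1) ∣ r - 1 := by
  have hpp : p.Prime := hp.out
  have hodd : Odd p := hpp.odd_of_ne_two hp2
  have hrp1 : 1 ≤ r ^ p := Nat.one_le_pow _ _ (by omega)
  have hpd : p ∣ r ^ p - 1 := dvd_trans (dvd_pow_self p (by omega)) h
  have h1 : p ∣ r - 1 := by
    have h2 : ((r ^ p - 1 : ℕ) : ZMod p) = 0 := (ZMod.natCast_eq_zero_iff _ _).mpr hpd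
    rw [Nat.cast_sub hrp1, Nat.cast_pow, ZMod.pow_card, Nat.cast_one] at h2
    have h3 : ((r - 1 : ℕ) : ZMod p) = 0 := by
      rw [Nat.cast_sub (by omega), Nat.cast_one]; exact h2
    exact (ZMod.natCast_eq_zero_iff _ _).mp h3
  refine ⟨h1, ?_⟩
  have hnr : ¬ p ∣ r := by
    intro hdr
    have : p ∣ 1 := by
      have h4 : p ∣ r - (r - 1) := Nat.dvd_sub hdr h1
      have h5 : r - (r - 1) = 1 := by omega
      rwa [h5] at h4
    exact hpp.one_lt.ne' (Nat.dvd_one.mp this)
  have hv := padicValNat.pow_sub_pow hodd (x := r) (y := 1) (by omega) (by simpa using h1) hnr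
    (n := p) hpp.ne_zero
  rw [one_pow, padicValNat_self] at hv
  have hne : r ^ p - 1 ≠ 0 := by
    have : 2 ^ p ≤ r ^ p := Nat.pow_le_pow_left hr p
    have : 2 ≤ 2 ^ p := by
      calc 2 = 2 ^ 1 := (pow_one 2).symm
        _ ≤ 2 ^ p := Nat.pow_le_pow_right (by norm_num) hpp.pos
    omega
  have hk' : k ≤ padicValNat p (r ^ p - 1) := (padicValNat_dvd_iff_le hne).mp h
  rw [hv] at hk'
  exact (padicValNat_dvd_iff_le (by omega)).mpr (by omega)

/-! ### Normal subgroups of order `p ^ 2` inside normal subgroups of exponent `p` -/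

theorem card_comap_mk'_eq {G : Type*} [Group G] [Finite G] (A : Subgroup G) [A.Normal]
    (Hbar : Subgroup (G ⧸ A)) :
    Nat.card (Hbar.comap (QuotientGroup.mk' A)) = Nat.card Hbar * Nat.card A := by
  have h1 : (Hbar.comap (QuotientGroup.mk' A)).index = Hbar.index :=
    Subgroup.index_comap_of_surjective Hbar (QuotientGroup.mk'_surjective A)
  have h2 := (Hbar.comap (QuotientGroup.mk' A)).card_mul_index
  have h3 := Hbar.card_mul_index
  have h4 := Subgroup.card_eq_card_quotient_mul_card_subgroup A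
  rw [h1, h4, ← h3] at h2
  have hpos : 0 < Hbar.index := Nat.pos_of_ne_zero Subgroup.index_ne_zero_of_finite
  have : Nat.card (Hbar.comap (QuotientGroup.mk' A)) * Hbar.index
      = (Nat.card Hbar * Nat.card A) * Hbar.index := by rw [h2]; ring
  exact Nat.eq_of_mul_eq_mul_right hpos this

theorem normal_of_le_center' {G : Type*} [Group G] (H : Subgroup G) (h : H ≤ Subgroup.center G) :
    H.Normal := by
  constructor
  intro a ha g
  have := Subgroup.mem_center_iff.mp (h ha) g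
  rw [this, mul_assoc, mul_inv_cancel, mul_one]
  exact ha

/-- A normal subgroup of exponent `p` and order at least `p ^ 2` of a finite `p`-group contains a
normal elementary abelian subgroup of order exactly `p ^ 2`. -/
theorem exists_normal_elemAb_card_sq {R : Type*} [Group R] [Finite R] {p : ℕ} [Fact p.Prime]
    (hR : IsPGroup p R) (N : Subgroup R) [N.Normal] (hexp : ∀ x ∈ N, x ^ p = 1)
    (hcard : p ^ 2 ≤ Nat.card N) :
    ∃ M : Subgroup R, M ≤ N ∧ M.Normal ∧ IsMulCommutative M ∧ (∀ x ∈ M, x ^ p = 1) ∧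
      Nat.card M = p ^ 2 := by
  have hp : p.Prime := Fact.out
  have hNne : N ≠ ⊥ := by
    intro h
    rw [h, Subgroup.card_bot] at hcard
    have : 1 < p ^ 2 := Nat.one_lt_pow (by norm_num) hp.one_lt
    omega
  obtain ⟨z, hzN, hz1, hzc⟩ := Cfsg.Agent.Lib.Helper12.exists_ne_one_mem_center_of_normal hR N hNne
  have hZc : Subgroup.zpowers z ≤ Subgroup.center R := Subgroup.zpowers_le.mpr hzc
  haveI hZn : (Subgroup.zpowers z).Normal := normal_of_le_center' _ hZc
  have hZcard : Nat.card (Subgroup.zpowers z) = p := by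
    rw [Nat.card_zpowers, orderOf_eq_prime (hexp z hzN) hz1]
  have hZN : Subgroup.zpowers z ≤ N := Subgroup.zpowers_le.mpr hzN
  haveI hNbar : (N.map (QuotientGroup.mk' (Subgroup.zpowers z))).Normal :=
    Subgroup.Normal.map inferInstance _ (QuotientGroup.mk'_surjective _)
  have hNbar_ne : N.map (QuotientGroup.mk' (Subgroup.zpowers z)) ≠ ⊥ := by
    intro h
    rw [Subgroup.map_eq_bot_iff, QuotientGroup.ker_mk'] at h
    have h1 := Subgroup.card_le_of_le h
    rw [hZcard] at h1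
    have : p ^ 1 < p ^ 2 := Nat.pow_lt_pow_right hp.one_lt (by norm_num)
    rw [pow_one] at this
    omega
  have hRq : IsPGroup p (R ⧸ Subgroup.zpowers z) := hR.to_quotient _
  obtain ⟨ybar, hyN, hy1, hyc⟩ :=
    Cfsg.Agent.Lib.Helper12.exists_ne_one_mem_center_of_normal hRq _ hNbar_ne
  obtain ⟨y, hyN', rfl⟩ := Subgroup.mem_map.mp hyN
  have hyp : (QuotientGroup.mk' (Subgroup.zpowers z) y) ^ p = 1 := by
    rw [← map_pow, hexp y hyN', map_one]
  have hKcard : Nat.card (Subgroup.zpowers (QuotientGroup.mk' (Subgroup.zpowers z) y)) = p := by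
    rw [Nat.card_zpowers, orderOf_eq_prime hyp hy1]
  haveI hKn : (Subgroup.zpowers (QuotientGroup.mk' (Subgroup.zpowers z) y)).Normal :=
    normal_of_le_center' _ (Subgroup.zpowers_le.mpr hyc)
  refine ⟨(Subgroup.zpowers (QuotientGroup.mk' (Subgroup.zpowers z) y)).comap
    (QuotientGroup.mk' (Subgroup.zpowers z)), ?_, ?_, ?_, ?_, ?_⟩
  · have : Subgroup.zpowers (QuotientGroup.mk' (Subgroup.zpowers z) y)
        = (Subgroup.zpowers y).map (QuotientGroup.mk' (Subgroup.zpowers z)) :=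
      (MonoidHom.map_zpowers _ y).symm
    rw [this, QuotientGroup.comap_map_mk']
    exact sup_le hZN (Subgroup.zpowers_le.mpr hyN')
  · exact Subgroup.Normal.comap hKn _
  · have hc : Nat.card ↥((Subgroup.zpowers (QuotientGroup.mk' (Subgroup.zpowers z) y)).comap
        (QuotientGroup.mk' (Subgroup.zpowers z))) = p ^ 2 := by
      rw [card_comap_mk'_eq, hKcard, hZcard, pow_two]
    exact IsPGroup.isMulCommutative_of_card_eq_prime_sq hc
  · intro x hx
    have : Subgroup.zpowers (QuotientGroup.mk' (Subgroup.zpowers z) y)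
        = (Subgroup.zpowers y).map (QuotientGroup.mk' (Subgroup.zpowers z)) :=
      (MonoidHom.map_zpowers _ y).symm
    rw [this, QuotientGroup.comap_map_mk'] at hx
    exact hexp x ((sup_le hZN (Subgroup.zpowers_le.mpr hyN')) hx)
  · rw [card_comap_mk'_eq, hKcard, hZcard, pow_two]

end Cfsg.Agent.Lib.Helper20
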