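import Mathlib
import Cfsg.Agent.Lib.Helper20.NormalRankTwo

/-!
Helper lemmas (helper20), continued: the cyclic self-centralizing case and the main theorem:
for odd `p`, every non-cyclic finite `p`-group has a normal elementary abelian subgroup of order `p ^ 2`.
-/

set_option autoImplicit false

namespace Cfsg.Agent.Lib.Helper20

open scoped commutatorElement

/-- A finite commutative `p`-group with at most `p` solutions of `x ^ p = 1` is cyclic. -/
theorem isCyclic_of_card_ker_pow_le {A : Type*} [Group A] [Finite A] {p : ℕ} [Fact p.Prime]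
    (hA : IsPGroup p A) (ψ : A →* A) (hψ : ∀ x, ψ x = x ^ p) (hker : Nat.card ψ.ker ≤ p) :
    IsCyclic A := by
  have hp : p.Prime := Fact.out
  have hrf : ψ.range ≤ frattini A := by
    rintro _ ⟨x, rfl⟩
    rw [hψ]
    exact Cfsg.Agent.Lib.Helper1.IsPGroup.pow_mem_frattini hA x
  have h1 := Subgroup.card_mul_index ψ.ker
  rw [Subgroup.index_ker] at h1
  have h2 := Subgroup.card_mul_index ψ.range
  have hidx : ψ.range.index = Nat.card ψ.ker := by
    have hpos : 0 < Nat.card ψ.range := Nat.card_pos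
    have : Nat.card ψ.range * ψ.range.index = Nat.card ψ.range * Nat.card ψ.ker := by
      rw [h2, ← h1]; ring
    exact Nat.eq_of_mul_eq_mul_left hpos this
  obtain ⟨j, hj⟩ := IsPGroup.iff_card.mp (hA.to_subgroup ψ.ker)
  have hj1 : j ≤ 1 := by
    by_contra hlt
    have h2j : 2 ≤ j := by omega
    have : p ^ 2 ≤ p ^ j := Nat.pow_le_pow_right hp.pos h2j
    have : p ^ 1 < p ^ 2 := Nat.pow_lt_pow_right hp.one_lt (by norm_num)
    rw [pow_one] at this
    omega
  rcases Nat.eq_zero_or_pos j with hj0 | hj0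
  · -- range = ⊤
    rw [hj0, pow_zero] at hj
    rw [hj] at hidx
    have htop : ψ.range = ⊤ := Subgroup.index_eq_one.mp hidx
    have hft : frattini A = ⊤ := eq_top_iff.mpr (htop ▸ hrf)
    have hbt : (⊥ : Subgroup A) = ⊤ := frattini_nongenerating (by rw [hft]; exact le_antisymm le_top le_sup_right)
    haveI : Subsingleton A := by
      constructor
      intro x y
      have hx : x ∈ (⊥ : Subgroup A) := hbt ▸ Subgroup.mem_top x
      have hy : y ∈ (⊥ : Subgroup A) := hbt ▸ Subgroup.mem_top y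
      rw [Subgroup.mem_bot] at hx hy
      rw [hx, hy]
    exact isCyclic_of_subsingleton
  · have hj' : j = 1 := by omega
    rw [hj', pow_one] at hj
    rw [hj] at hidx
    have hne : ψ.range ≠ ⊤ := by
      intro h
      rw [h, Subgroup.index_top] at hidx
      exact hp.one_lt.ne hidx
    obtain ⟨x, hx⟩ : ∃ x : A, x ∉ ψ.range := by
      by_contra hcon
      apply hne
      rw [eq_top_iff]
      intro g _
      by_contra hg
      exact hcon ⟨g, hg⟩
    have htop : Subgroup.zpowers x ⊔ ψ.range = ⊤ :=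
      eq_top_of_index_prime hp hidx le_sup_right
        (fun h => hx (h (Subgroup.mem_sup_left (Subgroup.mem_zpowers x))))
    have htop2 : Subgroup.zpowers x ⊔ frattini A = ⊤ := by
      rw [eq_top_iff, ← htop]
      exact sup_le_sup_left hrf _
    have hK : Subgroup.zpowers x = ⊤ := frattini_nongenerating htop2
    exact isCyclic_iff_exists_zpowers_eq_top.mpr ⟨x, hK⟩


/-- Conjugating `n` times: if `b a b⁻¹ = a ^ r` then `b ^ n a b ^ (-n) = a ^ (r ^ n)`. -/
theorem conj_pow_eq_pow_pow {R : Type*} [Group R] (a b : R) (r : ℕ) (h : b * a * b⁻¹ = a ^ r) (n : ℕ) :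
    b ^ n * a * (b ^ n)⁻¹ = a ^ (r ^ n) := by
  induction n with
  | zero => simp
  | succ n ih =>
    have hconj : ∀ m : ℕ, b * a ^ m * b⁻¹ = (b * a * b⁻¹) ^ m := by
      intro m
      induction m with
      | zero => simp
      | succ m ihm =>
        rw [pow_succ, pow_succ, ← ihm]; group
    calc b ^ (n + 1) * a * (b ^ (n + 1))⁻¹ = b * (b ^ n * a * (b ^ n)⁻¹) * b⁻¹ := by
          rw [pow_succ']; group
      _ = b * a ^ (r ^ n) * b⁻¹ := by rw [ih]
      _ = (b * a * b⁻¹) ^ (r ^ n) := hconj _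
      _ = (a ^ r) ^ (r ^ n) := by rw [h]
      _ = a ^ (r ^ (n + 1)) := by rw [← pow_mul, pow_succ']

/-- Closure-of-two-elements commutator control: if `z` commutes with `a` and `b`, `⁅b, a⁆ = z`,
then all commutators of elements of `closure {a, b}` lie in `zpowers z` and `z` is central there. -/
theorem commutator_mem_zpowers_of_closure_pair {R : Type*} [Group R] (a b z : R)
    (hz : ⁅b, a⁆ = z) (hza : a * z = z * a) (hzb : b * z = z * b) :
    (∀ x ∈ Subgroup.closure ({a, b} : Set R), ∀ w ∈ Subgroup.zpowers z, x * w = w * x) ∧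
    (∀ x ∈ Subgroup.closure ({a, b} : Set R), ∀ y ∈ Subgroup.closure ({a, b} : Set R),
      ⁅x, y⁆ ∈ Subgroup.zpowers z) := by
  have hcen : ∀ x ∈ Subgroup.closure ({a, b} : Set R), ∀ w ∈ Subgroup.zpowers z, x * w = w * x := by
    intro x hx w hw
    have hxz : x * z = z * x := by
      have hle : Subgroup.closure ({a, b} : Set R) ≤ Subgroup.centralizer ({z} : Set R) := by
        rw [Subgroup.closure_le]
        intro y hy
        simp only [Set.mem_insert_iff, Set.mem_singleton_iff] at hy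
        rw [SetLike.mem_coe, mem_centralizer_singleton_iff']
        rcases hy with rfl | rfl
        · exact hza.symm
        · exact hzb.symm
      exact ((mem_centralizer_singleton_iff' z x).mp (hle hx)).symm
    obtain ⟨n, rfl⟩ := Subgroup.mem_zpowers_iff.mp hw
    have hc : Commute x z := hxz
    exact (hc.zpow_right n).eq
  refine ⟨hcen, ?_⟩
  -- conj of central elements
  have hconj : ∀ x ∈ Subgroup.closure ({a, b} : Set R), ∀ w ∈ Subgroup.zpowers z,
      x * w * x⁻¹ = w := by
    intro x hx w hw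
    rw [hcen x hx w hw, mul_assoc, mul_inv_cancel, mul_one]
  have hconj' : ∀ x ∈ Subgroup.closure ({a, b} : Set R), ∀ w ∈ Subgroup.zpowers z,
      x⁻¹ * w * x = w := by
    intro x hx w hw
    have := hconj x⁻¹ (Subgroup.inv_mem _ hx) w hw
    rwa [inv_inv] at this
  have hzmem : z ∈ Subgroup.zpowers z := Subgroup.mem_zpowers z
  -- step α
  have hα : ∀ y ∈ ({a, b} : Set R), ∀ x ∈ Subgroup.closure ({a, b} : Set R),
      ⁅x, y⁆ ∈ Subgroup.zpowers z := by
    intro y hy x hx
    induction hx using Subgroup.closure_induction with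
    | mem x hx =>
      simp only [Set.mem_insert_iff, Set.mem_singleton_iff] at hx hy
      rcases hx with rfl | rfl <;> rcases hy with rfl | rfl
      · rw [commutatorElement_self]; exact Subgroup.one_mem _
      · rw [← commutatorElement_inv, hz]; exact Subgroup.inv_mem _ hzmem
      · rw [hz]; exact hzmem
      · rw [commutatorElement_self]; exact Subgroup.one_mem _
    | one => rw [commutatorElement_one_left]; exact Subgroup.one_mem _
    | mul x x' hx hx' ihx ihx' =>
      have : ⁅x * x', y⁆ = (x * ⁅x', y⁆ * x⁻¹) * ⁅x, y⁆ := by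
        simp only [commutatorElement_def]; group
      rw [this, hconj x hx _ ihx']
      exact Subgroup.mul_mem _ ihx' ihx
    | inv x hx ihx =>
      rw [commutatorElement_inv_left, ← commutatorElement_inv,
        hconj' x hx _ (Subgroup.inv_mem _ ihx)]
      exact Subgroup.inv_mem _ ihx
  intro x hx y hy
  induction hy using Subgroup.closure_induction with
  | mem y hy => exact hα y hy x hx
  | one => rw [commutatorElement_one_right]; exact Subgroup.one_mem _
  | mul y y' hy hy' ihy ihy' =>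
    have : ⁅x, y * y'⁆ = ⁅x, y⁆ * (y * ⁅x, y'⁆ * y⁻¹) := by
      simp only [commutatorElement_def]; group
    rw [this, hconj y hy _ ihy']
    exact Subgroup.mul_mem _ ihy ihy'
  | inv y hy ihy =>
    rw [commutatorElement_inv_right, ← commutatorElement_inv,
      hconj' y hy _ (Subgroup.inv_mem _ ihy)]
    exact Subgroup.inv_mem _ ihy


/-- The cyclic case: a cyclic normal self-centralizing proper subgroup `A` of a finite `p`-group
(`p` odd) yields a normal subgroup of exponent `p` and order at least `p ^ 2`. -/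
theorem exists_normal_exp_p_of_cyclic_self_centralizing {R : Type*} [Group R] [Finite R] {p : ℕ}
    [Fact p.Prime] (hp2 : p ≠ 2) (hR : IsPGroup p R) (A : Subgroup R) [hAn : A.Normal]
    (hAcyc : IsCyclic A) (hAC : Subgroup.centralizer (A : Set R) = A) (hAtop : A ≠ ⊤) :
    ∃ N : Subgroup R, N.Normal ∧ (∀ x ∈ N, x ^ p = 1) ∧ p ^ 2 ≤ Nat.card N := by
  classical
  have hp : p.Prime := Fact.out
  obtain ⟨a, haA, hgen⟩ : ∃ a ∈ A, ∀ x ∈ A, x ∈ Subgroup.zpowers a := by
    obtain ⟨a', ha'⟩ := hAcyc.exists_generator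
    refine ⟨a', a'.2, ?_⟩
    intro x hx
    obtain ⟨n, hn⟩ := Subgroup.mem_zpowers_iff.mp (ha' ⟨x, hx⟩)
    rw [Subgroup.mem_zpowers_iff]
    refine ⟨n, ?_⟩
    have := congrArg Subtype.val hn
    simpa using this
  have hmemA_of_comm : ∀ x : R, x * a = a * x → x ∈ A := by
    intro x hx
    rw [← hAC, Subgroup.mem_centralizer_iff]
    intro y hy
    obtain ⟨n, rfl⟩ := Subgroup.mem_zpowers_iff.mp (hgen y hy)
    have hc : Commute x a := hx
    exact ((hc.zpow_right n).eq).symm
  -- the element b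
  have hRq : IsPGroup p (R ⧸ A) := hR.to_quotient A
  haveI : Nontrivial (R ⧸ A) := by
    rw [← Finite.one_lt_card_iff_nontrivial, ← Subgroup.index_eq_card]
    have h0 : A.index ≠ 0 := Subgroup.index_ne_zero_of_finite
    have h1 : A.index ≠ 1 := fun h => hAtop (Subgroup.index_eq_one.mp h)
    omega
  haveI hcn := hRq.center_nontrivial
  have hpdvd : p ∣ Nat.card (Subgroup.center (R ⧸ A)) := by
    rcases (hRq.to_subgroup (Subgroup.center (R ⧸ A))).card_eq_or_dvd with h | h
    · exfalso
      have := Finite.one_lt_card_iff_nontrivial.mpr hcn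
      omega
    · exact h
  obtain ⟨bb, hbb⟩ := exists_prime_orderOf_dvd_card' (G := Subgroup.center (R ⧸ A)) p hpdvd
  obtain ⟨b, hb⟩ := QuotientGroup.mk_surjective (bb : R ⧸ A)
  have hbb1 : (bb : R ⧸ A) ≠ 1 := by
    intro h
    have h1 : bb = 1 := Subtype.ext h
    rw [h1, orderOf_one] at hbb
    exact hp.one_lt.ne hbb
  have hbA : b ∉ A := fun h => hbb1 (by rw [← hb]; exact (QuotientGroup.eq_one_iff b).mpr h)
  have hbp : b ^ p ∈ A := by
    rw [← QuotientGroup.eq_one_iff, QuotientGroup.mk_pow, hb]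
    have h1 : bb ^ p = 1 := by rw [← hbb]; exact pow_orderOf_eq_one bb
    have h2 := congrArg Subtype.val h1
    simpa using h2
  have hgb : ∀ g : R, ⁅g, b⁆ ∈ A := by
    intro g
    rw [← QuotientGroup.eq_one_iff]
    have hc := Subgroup.mem_center_iff.mp bb.2 (QuotientGroup.mk g)
    rw [← hb] at hc
    simp only [commutatorElement_def, QuotientGroup.mk_mul, QuotientGroup.mk_inv]
    rw [hc]; group
  -- the exponent r
  have hconjA : b * a * b⁻¹ ∈ A := hAn.conj_mem a haA b
  obtain ⟨r, hr⟩ : ∃ r : ℕ, a ^ r = b * a * b⁻¹ := by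
    have := hgen _ hconjA
    rw [← mem_powers_iff_mem_zpowers] at this
    exact (Submonoid.mem_powers_iff _ _).mp this
  obtain ⟨k, hk⟩ := (IsPGroup.iff_orderOf.mp hR) a
  have ha1 : a ≠ 1 := by
    intro h
    apply hAtop
    rw [← hAC, Subgroup.centralizer_eq_top_iff_subset]
    intro x hx
    obtain ⟨n, rfl⟩ := Subgroup.mem_zpowers_iff.mp (hgen x hx)
    rw [h, one_zpow]; exact Subgroup.one_mem _
  have hk1 : 1 ≤ k := by
    by_contra h0
    have hk0 : k = 0 := by omega
    rw [hk0, pow_zero, orderOf_eq_one_iff] at hk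
    exact ha1 hk
  have hba : b * a ≠ a * b := fun h => hbA (hmemA_of_comm b h)
  have hr2 : 2 ≤ r := by
    rcases r with _ | _ | r
    · exfalso
      apply ha1
      rw [pow_zero] at hr
      calc a = b⁻¹ * (b * a * b⁻¹) * b := by group
        _ = 1 := by rw [← hr]; group
    · exfalso
      apply hba
      rw [zero_add, pow_one] at hr
      calc b * a = (b * a * b⁻¹) * b := by group
        _ = a * b := by rw [← hr]
    · omega
  have hconjp := conj_pow_eq_pow_pow a b r hr.symm p
  have hbpa : b ^ p * a = a * b ^ p := by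
    obtain ⟨n, hn⟩ := Subgroup.mem_zpowers_iff.mp (hgen _ hbp)
    rw [← hn]
    exact ((Commute.refl a).zpow_left n).eq
  have hpow : a ^ (r ^ p) = a := by
    rw [← hconjp, hbpa, mul_assoc, mul_inv_cancel, mul_one]
  have hdvd : p ^ k ∣ r ^ p - 1 := by
    rw [← hk]
    apply orderOf_dvd_of_pow_eq_one
    have h1 : 1 ≤ r ^ p := Nat.one_le_pow _ _ (by omega)
    have h2 : a ^ (r ^ p - 1) * a = 1 * a := by
      rw [← pow_succ, Nat.sub_add_cancel h1, hpow, one_mul]
    exact mul_right_cancel h2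
  obtain ⟨hd1, hd2⟩ := dvd_sub_one_of_pow_dvd_pow_sub_one hp2 r k hr2 hk1 hdvd
  have hzcomm : ⁅b, a⁆ = a ^ (r - 1) := by
    rw [commutatorElement_def, ← hr]
    have h1 : a ^ r = a ^ (r - 1) * a := by rw [← pow_succ, Nat.sub_add_cancel (by omega)]
    rw [h1, mul_assoc, mul_inv_cancel, mul_one]
  have hzp : (a ^ (r - 1)) ^ p = 1 := by
    rw [← pow_mul]
    apply orderOf_dvd_iff_pow_eq_one.mp
    rw [hk]
    obtain ⟨m, hm⟩ := hd2
    have h1 : p ^ k = p ^ (k - 1) * p := by rw [← pow_succ, Nat.sub_add_cancel hk1]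
    rw [h1, hm]
    exact ⟨m, by ring⟩
  have hza : a * a ^ (r - 1) = a ^ (r - 1) * a := ((Commute.refl a).pow_right _).eq
  have hzb : b * a ^ (r - 1) = a ^ (r - 1) * b := by
    have h1 : b * a ^ (r - 1) * b⁻¹ = (a ^ (r - 1)) ^ r := by
      rw [← conj_pow, ← hr, ← pow_mul, ← pow_mul, mul_comm]
    have h2 : (a ^ (r - 1)) ^ r = a ^ (r - 1) := by
      obtain ⟨m, hm⟩ := hd1
      have h3 : (a ^ (r - 1)) ^ (r - 1) = 1 := by
        conv_lhs => rw [hm]
        rw [pow_mul (a ^ (p * m)) p m, ← hm, hzp, one_pow]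
      calc (a ^ (r - 1)) ^ r = (a ^ (r - 1)) ^ (r - 1 + 1) := by
            rw [Nat.sub_add_cancel (by omega)]
        _ = (a ^ (r - 1)) ^ (r - 1) * a ^ (r - 1) := pow_succ _ _
        _ = a ^ (r - 1) := by rw [h3, one_mul]
    rw [h2] at h1
    calc b * a ^ (r - 1) = (b * a ^ (r - 1) * b⁻¹) * b := by group
      _ = a ^ (r - 1) * b := by rw [h1]
  obtain ⟨hcen, hcomm⟩ := commutator_mem_zpowers_of_closure_pair a b (a ^ (r - 1)) hzcomm hza hzb
  have haB : a ∈ Subgroup.closure ({a, b} : Set R) := Subgroup.subset_closure (by simp)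
  have hbB : b ∈ Subgroup.closure ({a, b} : Set R) := Subgroup.subset_closure (by simp)
  have hAB : A ≤ Subgroup.closure ({a, b} : Set R) := by
    intro x hx
    obtain ⟨n, rfl⟩ := Subgroup.mem_zpowers_iff.mp (hgen x hx)
    exact Subgroup.zpow_mem _ haB n
  have hBn : (Subgroup.closure ({a, b} : Set R)).Normal := by
    constructor
    intro x hx g
    induction hx using Subgroup.closure_induction with
    | mem x hx =>
      simp only [Set.mem_insert_iff, Set.mem_singleton_iff] at hx
      rcases hx with h | h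
      · rw [h]; exact hAB (hAn.conj_mem _ haA g)
      · rw [h]
        have h1 : g * b * g⁻¹ = ⁅g, b⁆ * b := by simp [commutatorElement_def]
        rw [h1]; exact Subgroup.mul_mem _ (hAB (hgb g)) hbB
    | one => simp
    | mul x y hx hy ihx ihy =>
      have h1 : g * (x * y) * g⁻¹ = (g * x * g⁻¹) * (g * y * g⁻¹) := by group
      rw [h1]; exact Subgroup.mul_mem _ ihx ihy
    | inv x hx ihx =>
      have h1 : g * x⁻¹ * g⁻¹ = (g * x * g⁻¹)⁻¹ := by group
      rw [h1]; exact Subgroup.inv_mem _ ihx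
  have hZpow : ∀ w ∈ Subgroup.zpowers (a ^ (r - 1)), w ^ p = 1 := by
    intro w hw
    obtain ⟨n, rfl⟩ := Subgroup.mem_zpowers_iff.mp hw
    rw [← zpow_natCast, ← zpow_mul, mul_comm, zpow_mul, zpow_natCast, hzp, one_zpow]
  have hmulpow' : ∀ X Y : ↥(Subgroup.closure ({a, b} : Set R)), (X * Y) ^ p = X ^ p * Y ^ p := by
    intro X Y
    have h1 : ((⁅Y, X⁆ : ↥(Subgroup.closure ({a, b} : Set R))) : R) = ⁅(Y : R), (X : R)⁆ := by
      simp [commutatorElement_def]
    have hmem : ⁅(Y : R), (X : R)⁆ ∈ Subgroup.zpowers (a ^ (r - 1)) := hcomm Y.1 Y.2 X.1 X.2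
    have hc : ∀ g : ↥(Subgroup.closure ({a, b} : Set R)), g * ⁅Y, X⁆ = ⁅Y, X⁆ * g := by
      intro g
      apply Subtype.ext
      simp only [Subgroup.coe_mul, h1]
      exact hcen g.1 g.2 _ hmem
    have hcp : ⁅Y, X⁆ ^ p = 1 := by
      apply Subtype.ext
      simp only [Subgroup.coe_pow, h1, Subgroup.coe_one]
      exact hZpow _ hmem
    exact mul_pow_prime_of_central hp hp2 X Y hc hcp
  have hmulpow : ∀ x ∈ Subgroup.closure ({a, b} : Set R), ∀ y ∈ Subgroup.closure ({a, b} : Set R),
      (x * y) ^ p = x ^ p * y ^ p := by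
    intro x hx y hy
    have h3 := congrArg Subtype.val (hmulpow' ⟨x, hx⟩ ⟨y, hy⟩)
    simpa using h3
  have hpowA : ∀ x ∈ Subgroup.closure ({a, b} : Set R), x ^ p ∈ A := by
    intro x hx
    induction hx using Subgroup.closure_induction with
    | mem x hx =>
      simp only [Set.mem_insert_iff, Set.mem_singleton_iff] at hx
      rcases hx with h | h
      · rw [h]; exact A.pow_mem haA p
      · rw [h]; exact hbp
    | one => rw [one_pow]; exact A.one_mem
    | mul x y hx hy ihx ihy => rw [hmulpow x hx y hy]; exact A.mul_mem ihx ihy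
    | inv x hx ihx => rw [inv_pow]; exact A.inv_mem ihx
  have hnotpow : ∀ x ∈ Subgroup.closure ({a, b} : Set R), x ^ p ≠ a := by
    intro x hx hxa
    have hxcomm : x * a = a * x := by
      rw [← hxa]; exact ((Commute.refl x).pow_right p).eq
    have hxA := hmemA_of_comm x hxcomm
    have hxz := hgen x hxA
    rw [← mem_powers_iff_mem_zpowers] at hxz
    obtain ⟨i, rfl⟩ := (Submonoid.mem_powers_iff _ _).mp hxz
    rw [← pow_mul] at hxa
    have h1 : a ^ (i * p) = a ^ 1 := by rw [hxa, pow_one]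
    rw [pow_eq_pow_iff_modEq, hk] at h1
    have h2 : i * p ≡ 1 [MOD p] := h1.of_dvd (dvd_pow_self p (by omega))
    have h3 : i * p ≡ 0 [MOD p] := (Nat.modEq_zero_iff_dvd).mpr (dvd_mul_left p i)
    have h4 : (1 : ℕ) ≡ 0 [MOD p] := h2.symm.trans h3
    rw [Nat.modEq_zero_iff_dvd] at h4
    exact hp.one_lt.ne' (Nat.dvd_one.mp h4)
  generalize Subgroup.closure ({a, b} : Set R) = B at *
  let φ : ↥B →* ↥B :=
    { toFun := fun x => x ^ p
      map_one' := one_pow p
      map_mul' := fun x y => Subtype.ext (by simpa using hmulpow x.1 x.2 y.1 y.2) }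
  have hφ : ∀ x : ↥B, ((φ x : ↥B) : R) = (x : R) ^ p := fun x => rfl
  have hrangeA : φ.range ≤ A.subgroupOf B := by
    rintro _ ⟨x, rfl⟩
    rw [Subgroup.mem_subgroupOf, hφ]
    exact hpowA x.1 x.2
  have hane : (⟨a, haB⟩ : ↥B) ∉ φ.range := by
    rintro ⟨x, hx⟩
    have h1 := congrArg Subtype.val hx
    rw [hφ] at h1
    exact hnotpow x.1 x.2 h1
  have haA' : (⟨a, haB⟩ : ↥B) ∈ A.subgroupOf B := Subgroup.mem_subgroupOf.mpr haA
  have hBp : IsPGroup p ↥B := hR.to_subgroup B
  have c1 : p * Nat.card φ.range ≤ Nat.card (A.subgroupOf B) :=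
    card_mul_le_card_of_lt hp hBp hrangeA (fun h => hane (h haA'))
  have c2 : p * Nat.card (A.subgroupOf B) ≤ Nat.card (⊤ : Subgroup ↥B) :=
    card_mul_le_card_of_lt hp hBp le_top
      (fun h => hbA (Subgroup.mem_subgroupOf.mp (h (Subgroup.mem_top ⟨b, hbB⟩))))
  rw [Subgroup.card_top] at c2
  have c3 := Subgroup.card_mul_index φ.ker
  rw [Subgroup.index_ker] at c3
  have hkercard : p ^ 2 ≤ Nat.card φ.ker := by
    have hpos : 0 < Nat.card φ.range := Nat.card_pos
    have h1 : p ^ 2 * Nat.card φ.range ≤ Nat.card φ.ker * Nat.card φ.range := by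
      calc p ^ 2 * Nat.card φ.range = p * (p * Nat.card φ.range) := by ring
        _ ≤ p * Nat.card (A.subgroupOf B) := Nat.mul_le_mul_left p c1
        _ ≤ Nat.card ↥B := c2
        _ = Nat.card φ.ker * Nat.card φ.range := c3.symm
    exact Nat.le_of_mul_le_mul_right h1 hpos
  refine ⟨φ.ker.map B.subtype, ?_, ?_, ?_⟩
  · constructor
    intro x hx g
    obtain ⟨y, hy, rfl⟩ := Subgroup.mem_map.mp hx
    have hyp : (y : R) ^ p = 1 := by
      have h1 := congrArg Subtype.val (MonoidHom.mem_ker.mp hy)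
      rwa [hφ] at h1
    have hmem : g * (y : R) * g⁻¹ ∈ B := hBn.conj_mem _ y.2 g
    refine Subgroup.mem_map.mpr ⟨⟨g * (y : R) * g⁻¹, hmem⟩, ?_, rfl⟩
    rw [MonoidHom.mem_ker]
    apply Subtype.ext
    rw [hφ]
    simp only [Subgroup.coe_one]
    rw [conj_pow, hyp]; group
  · intro x hx
    obtain ⟨y, hy, rfl⟩ := Subgroup.mem_map.mp hx
    have h1 := congrArg Subtype.val (MonoidHom.mem_ker.mp hy)
    rwa [hφ] at h1
  · rw [Subgroup.card_map_of_injective B.subtype_injective]; exact hkercard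


/-- **Main theorem.** For odd `p`, every non-cyclic finite `p`-group has a normal elementary abelian
subgroup of order `p ^ 2`. -/
theorem exists_normal_elemAb_of_not_isCyclic {R : Type*} [Group R] [Finite R] {p : ℕ} [Fact p.Prime]
    (hp2 : p ≠ 2) (hR : IsPGroup p R) (hnc : ¬ IsCyclic R) :
    ∃ M : Subgroup R, M.Normal ∧ IsMulCommutative M ∧ (∀ x ∈ M, x ^ p = 1) ∧ Nat.card M = p ^ 2 := by
  classical
  have hp : p.Prime := Fact.out
  obtain ⟨A, hAn, hAc, hAC⟩ := Cfsg.Agent.Lib.Helper10.exists_normal_abelian_self_centralizing p hR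
  haveI := hAn
  have key : ∃ N : Subgroup R, N.Normal ∧ (∀ x ∈ N, x ^ p = 1) ∧ p ^ 2 ≤ Nat.card N := by
    by_cases hcyc : IsCyclic A
    · have hAtop : A ≠ ⊤ := by
        intro h
        apply hnc
        rw [h] at hcyc
        exact isCyclic_of_surjective (Subgroup.topEquiv : (⊤ : Subgroup R) ≃* R)
          Subgroup.topEquiv.surjective
      exact exists_normal_exp_p_of_cyclic_self_centralizing hp2 hR A hcyc hAC hAtop
    · have hcommA : ∀ x y : ↥A, x * y = y * x := isMulCommutative_iff.mp hAc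
      let ψ : ↥A →* ↥A :=
        { toFun := fun x => x ^ p
          map_one' := one_pow p
          map_mul' := fun x y => (Commute.mul_pow (hcommA x y) p) }
      have hψ : ∀ x, ψ x = x ^ p := fun x => rfl
      have hker : ¬ Nat.card ψ.ker ≤ p := fun h =>
        hcyc (isCyclic_of_card_ker_pow_le (hR.to_subgroup A) ψ hψ h)
      obtain ⟨j, hj⟩ := IsPGroup.iff_card.mp ((hR.to_subgroup A).to_subgroup ψ.ker)
      have hj2 : 2 ≤ j := by
        by_contra hlt
        have hj1 : j ≤ 1 := by omega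
        apply hker
        rw [hj]
        calc p ^ j ≤ p ^ 1 := Nat.pow_le_pow_right hp.pos hj1
          _ = p := pow_one p
      refine ⟨(ψ.ker.map A.subtype), ?_, ?_, ?_⟩
      · constructor
        intro x hx g
        obtain ⟨y, hy, rfl⟩ := Subgroup.mem_map.mp hx
        have hyp : (y : R) ^ p = 1 := congrArg Subtype.val (MonoidHom.mem_ker.mp hy)
        have hmem : g * (y : R) * g⁻¹ ∈ A := hAn.conj_mem _ y.2 g
        refine Subgroup.mem_map.mpr ⟨⟨g * (y : R) * g⁻¹, hmem⟩, ?_, rfl⟩
        rw [MonoidHom.mem_ker]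
        apply Subtype.ext
        change (g * (y : R) * g⁻¹) ^ p = 1
        rw [conj_pow, hyp]; group
      · intro x hx
        obtain ⟨y, hy, rfl⟩ := Subgroup.mem_map.mp hx
        exact congrArg Subtype.val (MonoidHom.mem_ker.mp hy)
      · rw [Subgroup.card_map_of_injective A.subtype_injective, hj]
        exact Nat.pow_le_pow_right hp.pos hj2
  obtain ⟨N, hNn, hNexp, hNcard⟩ := key
  haveI := hNn
  obtain ⟨M, _, hMn, hMc, hMexp, hMcard⟩ := exists_normal_elemAb_card_sq hR N hNexp hNcard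
  exact ⟨M, hMn, hMc, hMexp, hMcard⟩

end Cfsg.Agent.Lib.Helper20
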