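import Mathlib
import Cfsg.Agent.Lib.Helper4.HeisOdd

/-!
Helper lemmas (helper20): characteristic subgroups of the Heisenberg group `HeisG (ZMod p) 1`.
-/

set_option autoImplicit false
open scoped commutatorElement

namespace Cfsg.Agent.Lib.Helper20.Qd

open Cfsg.Agent.Lib.Helper4

variable (p : ℕ)

/-- the subgroup `a = 0` (the translations) -/
def vH : Subgroup (HeisG (ZMod p) 1) where
  carrier := {x | x.a 0 = 0}
  mul_mem' := by
    intro x y hx hy
    simp only [Set.mem_setOf_eq] at *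
    simp [hx, hy]
  one_mem' := by simp
  inv_mem' := by
    intro x hx
    simp only [Set.mem_setOf_eq] at *
    simp [hx]

theorem mem_vH (x : HeisG (ZMod p) 1) : x ∈ vH p ↔ x.a 0 = 0 := Iff.rfl

theorem mem_center_iff' (x : HeisG (ZMod p) 1) :
    x ∈ Subgroup.center (HeisG (ZMod p) 1) ↔ x.a 0 = 0 ∧ x.b 0 = 0 := by
  rw [HeisG.mem_center_iff]
  constructor
  · rintro ⟨h1, h2⟩
    exact ⟨by rw [h1]; rfl, by rw [h2]; rfl⟩
  · rintro ⟨h1, h2⟩
    constructor
    · funext i; fin_cases i; exact h1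
    · funext i; fin_cases i; exact h2

theorem center_le_vH : Subgroup.center (HeisG (ZMod p) 1) ≤ vH p := by
  intro x hx
  exact ((mem_center_iff' p x).mp hx).1

/-- the swap automorphism `(a, b, c) ↦ (b, a, ab - c)` -/
def swapAut : HeisG (ZMod p) 1 ≃* HeisG (ZMod p) 1 where
  toFun x := ⟨x.b, x.a, x.a 0 * x.b 0 - x.c⟩
  invFun x := ⟨x.b, x.a, x.a 0 * x.b 0 - x.c⟩
  left_inv x := by
    ext
    · rfl
    · rfl
    · simp; ring
  right_inv x := by
    ext
    · rfl
    · rfl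
    · simp; ring
  map_mul' x y := by
    ext
    · rfl
    · rfl
    · simp [dotProduct]; ring

@[simp] theorem swapAut_a (x : HeisG (ZMod p) 1) : (swapAut p x).a = x.b := rfl
@[simp] theorem swapAut_b (x : HeisG (ZMod p) 1) : (swapAut p x).b = x.a := rfl
@[simp] theorem swapAut_c (x : HeisG (ZMod p) 1) : (swapAut p x).c = x.a 0 * x.b 0 - x.c := rfl

variable [hp : Fact p.Prime]

/-- powers of a central element -/
theorem central_pow_mem (N : Subgroup (HeisG (ZMod p) 1)) {c : ZMod p} (hc : c ≠ 0)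
    (hN : (⟨0, 0, c⟩ : HeisG (ZMod p) 1) ∈ N) (c' : ZMod p) :
    (⟨0, 0, c'⟩ : HeisG (ZMod p) 1) ∈ N := by
  have h1 : (⟨0, 0, c'⟩ : HeisG (ZMod p) 1) = (⟨0, 0, c⟩ : HeisG (ZMod p) 1) ^ (c' / c).val := by
    ext
    · rw [HeisG.pow_a]; simp
    · rw [HeisG.pow_b]; simp
    · rw [HeisG.pow_c]
      simp only [zero_dotProduct, smul_zero, add_zero, nsmul_eq_mul]
      rw [ZMod.natCast_zmod_val, div_mul_cancel₀ _ hc]
  rw [h1]
  exact Subgroup.pow_mem N hN _

/-- a nontrivial normal subgroup contains the centre -/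
theorem center_le_of_normal (N : Subgroup (HeisG (ZMod p) 1)) [hN : N.Normal] (hN1 : N ≠ ⊥) :
    Subgroup.center (HeisG (ZMod p) 1) ≤ N := by
  obtain ⟨x, hxN, hx1⟩ := (Subgroup.ne_bot_iff_exists_ne_one).mp hN1 |> fun ⟨x, hx⟩ =>
    (⟨x.1, x.2, fun h => hx (Subtype.ext h)⟩ : ∃ x : HeisG (ZMod p) 1, x ∈ N ∧ x ≠ 1)
  have key : ∃ c : ZMod p, c ≠ 0 ∧ (⟨0, 0, c⟩ : HeisG (ZMod p) 1) ∈ N := by
    have hcomm : ∀ y : HeisG (ZMod p) 1, x * y * x⁻¹ * y⁻¹ ∈ N := by
      intro y
      have h1 : y * x⁻¹ * y⁻¹ ∈ N := hN.conj_mem _ (N.inv_mem hxN) y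
      have h2 : x * y * x⁻¹ * y⁻¹ = x * (y * x⁻¹ * y⁻¹) := by group
      rw [h2]
      exact N.mul_mem hxN h1
    by_cases ha : x.a 0 = 0
    · by_cases hb : x.b 0 = 0
      · refine ⟨x.c, ?_, ?_⟩
        · intro hc
          apply hx1
          ext i
          · fin_cases i; exact ha
          · fin_cases i; exact hb
          · exact hc
        · have : x = ⟨0, 0, x.c⟩ := by
            ext i
            · fin_cases i; exact ha
            · fin_cases i; exact hb
            · rfl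
          rw [← this]; exact hxN
      · refine ⟨- x.b 0, neg_ne_zero.mpr hb, ?_⟩
        have h1 := hcomm ⟨fun _ => 1, 0, 0⟩
        have h2 : x * (⟨fun _ => 1, 0, 0⟩ : HeisG (ZMod p) 1) * x⁻¹ *
            (⟨fun _ => 1, 0, 0⟩ : HeisG (ZMod p) 1)⁻¹ = ⟨0, 0, - x.b 0⟩ := by
          ext i
          · rw [HeisG.comm_a]
          · rw [HeisG.comm_b]
          · rw [HeisG.comm_c]; simp [dotProduct]
        rw [h2] at h1
        exact h1
    · refine ⟨x.a 0, ha, ?_⟩
      have h1 := hcomm ⟨0, fun _ => 1, 0⟩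
      have h2 : x * (⟨0, fun _ => 1, 0⟩ : HeisG (ZMod p) 1) * x⁻¹ *
          (⟨0, fun _ => 1, 0⟩ : HeisG (ZMod p) 1)⁻¹ = ⟨0, 0, x.a 0⟩ := by
        ext i
        · rw [HeisG.comm_a]
        · rw [HeisG.comm_b]
        · rw [HeisG.comm_c]; simp [dotProduct]
      rw [h2] at h1
      exact h1
  obtain ⟨c, hc, hcN⟩ := key
  intro w hw
  obtain ⟨ha, hb⟩ := (mem_center_iff' p w).mp hw
  have : w = ⟨0, 0, w.c⟩ := by
    ext i
    · fin_cases i; exact ha
    · fin_cases i; exact hb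
    · rfl
  rw [this]
  exact central_pow_mem p N hc hcN w.c

/-- the dichotomy for characteristic subgroups -/
theorem char_cases (T : Subgroup (HeisG (ZMod p) 1)) [hT : T.Characteristic] (hT1 : T ≠ ⊥) :
    T ⊓ vH p = Subgroup.center (HeisG (ZMod p) 1) ∨ T = ⊤ := by
  have hZT : Subgroup.center (HeisG (ZMod p) 1) ≤ T := center_le_of_normal p T hT1
  by_cases h : ∃ x ∈ T ⊓ vH p, x.b 0 ≠ 0
  · right
    obtain ⟨x, ⟨hxT, hxV⟩, hxb⟩ := h
    have hVT : vH p ≤ T := by
      intro y hy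
      set k : ℕ := (y.b 0 / x.b 0).val with hk
      have h1 : y * (x ^ k)⁻¹ ∈ Subgroup.center (HeisG (ZMod p) 1) := by
        rw [mem_center_iff']
        constructor
        · simp only [HeisG.mul_a, HeisG.inv_a, HeisG.pow_a, Pi.add_apply, Pi.neg_apply,
            Pi.smul_apply]
          rw [(mem_vH p y).mp hy, (mem_vH p x).mp hxV]; simp
        · have hb : ((x ^ k).b) 0 = y.b 0 := by
            rw [HeisG.pow_b, Pi.smul_apply, nsmul_eq_mul, hk, ZMod.natCast_zmod_val,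
              div_mul_cancel₀ _ hxb]
          simp only [HeisG.mul_b, HeisG.inv_b, Pi.add_apply, Pi.neg_apply]
          rw [hb]; ring
      have h2 : y = (y * (x ^ k)⁻¹) * x ^ k := by group
      rw [h2]
      exact T.mul_mem (hZT h1) (T.pow_mem hxT k)
    have hswap : ∀ y ∈ T, swapAut p y ∈ T := by
      intro y hy
      have := (Subgroup.characteristic_iff_le_comap.mp hT) (swapAut p)
      exact this hy
    rw [eq_top_iff]
    intro w _
    have h1 : (⟨0, w.a, 0⟩ : HeisG (ZMod p) 1) ∈ T := hVT (by rw [mem_vH]; rfl)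
    have h2 := hswap _ h1
    have h3 : (⟨0, w.b, w.c - w.a 0 * w.b 0⟩ : HeisG (ZMod p) 1) ∈ T := hVT (by rw [mem_vH]; rfl)
    have h4 : w = swapAut p ⟨0, w.a, 0⟩ * ⟨0, w.b, w.c - w.a 0 * w.b 0⟩ := by
      ext i
      · simp
      · simp
      · simp [dotProduct]
    rw [h4]
    exact T.mul_mem h2 h3
  · left
    push Not at h
    apply le_antisymm
    · intro x hx
      rw [mem_center_iff']
      exact ⟨hx.2, h x hx⟩
    · exact le_inf hZT (center_le_vH p)

end Cfsg.Agent.Lib.Helper20.Qd
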