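import Mathlib
import Cfsg.Prelude.Def_Transfer
import Cfsg.Prelude.Def_PLocal
import Cfsg.Agent.Lib.Helper4.HeisOdd
import Cfsg.Agent.Lib.Helper4.HeisGL

/-!
Helper lemmas (helper20): the Sylow `p`-subgroups of `Qd(p)` are Heisenberg groups of order `p³`.
-/

set_option autoImplicit false
open scoped commutatorElement

namespace Cfsg.Agent.Lib.Helper20.Qd

open Cfsg.Agent.Lib.Helper4

/-- the unitriangular matrix of a Heisenberg triple -/
def heisMat (p : ℕ) (x : HeisG (ZMod p) 1) : Matrix (Fin 3) (Fin 3) (ZMod p) :=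
  !![1, x.a 0, x.c; 0, 1, x.b 0; 0, 0, 1]

theorem heisMat_det (p : ℕ) (x : HeisG (ZMod p) 1) : (heisMat p x).det = 1 := by
  simp [heisMat, Matrix.det_fin_three]

theorem heisMat_mul (p : ℕ) (x y : HeisG (ZMod p) 1) :
    heisMat p (x * y) = heisMat p x * heisMat p y := by
  ext i j
  fin_cases i <;> fin_cases j <;>
    simp [heisMat, Matrix.mul_apply, Fin.sum_univ_three, dotProduct] <;> ring

theorem heisMat_one (p : ℕ) : heisMat p 1 = 1 := by
  ext i j
  fin_cases i <;> fin_cases j <;> simp [heisMat]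

/-- the Heisenberg group inside `SL(3, p)` -/
def heisSL (p : ℕ) : HeisG (ZMod p) 1 →* Matrix.SpecialLinearGroup (Fin 3) (ZMod p) where
  toFun x := ⟨heisMat p x, heisMat_det p x⟩
  map_one' := Subtype.ext (heisMat_one p)
  map_mul' x y := Subtype.ext (heisMat_mul p x y)

theorem heisSL_injective (p : ℕ) : Function.Injective (heisSL p) := by
  intro x y h
  have h1 : heisMat p x = heisMat p y := congrArg Subtype.val h
  have ha := congrFun (congrFun h1 0) 1
  have hb := congrFun (congrFun h1 1) 2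
  have hc := congrFun (congrFun h1 0) 2
  simp [heisMat] at ha hb hc
  ext i
  · fin_cases i; exact ha
  · fin_cases i; exact hb
  · exact hc

theorem heisSL_mem_qd (p : ℕ) (x : HeisG (ZMod p) 1) : heisSL p x ∈ Cfsg.qd p := by
  apply Subgroup.subset_closure
  refine ⟨?_, ?_, ?_⟩
  · show heisMat p x 2 0 = 0
    simp [heisMat]
  · show heisMat p x 2 1 = 0
    simp [heisMat]
  · show heisMat p x 2 2 = 1
    simp [heisMat]

/-- the order of `GL(3, p)` -/
theorem card_GL3 (p : ℕ) [hp : Fact p.Prime] :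
    Nat.card (Matrix.GeneralLinearGroup (Fin 3) (ZMod p)) =
      p ^ 3 * ((p ^ 3 - 1) * (p ^ 2 - 1) * (p - 1)) := by
  rw [Matrix.card_GL_field, Fin.prod_univ_three, ZMod.card]
  have h1 : p ^ 3 - p ^ ((1 : Fin 3) : ℕ) = p * (p ^ 2 - 1) := by
    rw [Nat.mul_sub]; simp; ring_nf
  have h2 : p ^ 3 - p ^ ((2 : Fin 3) : ℕ) = p ^ 2 * (p - 1) := by
    rw [Nat.mul_sub]; simp; ring_nf
  rw [h1, h2]
  simp
  ring

theorem not_dvd_pow_sub_one (p : ℕ) [hp : Fact p.Prime] (j : ℕ) (hj : 1 ≤ j) :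
    ¬ p ∣ p ^ j - 1 := by
  intro h
  have h1 : p ∣ p ^ j := dvd_pow_self p (by omega)
  have h2 : 1 ≤ p ^ j := Nat.one_le_pow _ _ hp.1.pos
  have h3 : p ∣ p ^ j - (p ^ j - 1) := Nat.dvd_sub h1 h
  have h4 : p ^ j - (p ^ j - 1) = 1 := by omega
  rw [h4] at h3
  exact hp.1.one_lt.ne' (Nat.dvd_one.mp h3)

theorem not_pow_four_dvd_card_GL3 (p : ℕ) [hp : Fact p.Prime] :
    ¬ p ^ 4 ∣ Nat.card (Matrix.GeneralLinearGroup (Fin 3) (ZMod p)) := by
  rw [card_GL3, pow_succ p 3]
  intro h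
  have h1 : p ∣ (p ^ 3 - 1) * (p ^ 2 - 1) * (p - 1) :=
    (Nat.mul_dvd_mul_iff_left (pow_pos hp.1.pos 3)).mp h
  rcases (Nat.Prime.dvd_mul hp.1).mp h1 with h2 | h2
  · rcases (Nat.Prime.dvd_mul hp.1).mp h2 with h3 | h3
    · exact not_dvd_pow_sub_one p 3 (by norm_num) h3
    · exact not_dvd_pow_sub_one p 2 (by norm_num) h3
  · have := not_dvd_pow_sub_one p 1 (by norm_num)
    rw [pow_one] at this
    exact this h2

/-- the Heisenberg subgroup of `Qd(p)` -/
def heisQd (p : ℕ) : HeisG (ZMod p) 1 →* ↥(Cfsg.qd p) :=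
  (heisSL p).codRestrict (Cfsg.qd p) (heisSL_mem_qd p)

theorem heisQd_injective (p : ℕ) : Function.Injective (heisQd p) := by
  intro x y h
  apply heisSL_injective p
  exact congrArg Subtype.val h

theorem not_pow_four_dvd_card_qd (p : ℕ) [hp : Fact p.Prime] :
    ¬ p ^ 4 ∣ Nat.card ↥(Cfsg.qd p) := by
  intro h
  apply not_pow_four_dvd_card_GL3 p
  refine h.trans ((Subgroup.card_subgroup_dvd_card (Cfsg.qd p)).trans ?_)
  exact Subgroup.card_dvd_of_injective Matrix.SpecialLinearGroup.toGL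
    Matrix.SpecialLinearGroup.toGL_injective

theorem card_heisQd_range (p : ℕ) [hp : Fact p.Prime] :
    Nat.card ↥(heisQd p).range = p ^ 3 := by
  rw [← Nat.card_congr (MonoidHom.ofInjective (heisQd_injective p)).toEquiv, HeisG.card_zmod]

theorem factorization_card_qd (p : ℕ) [hp : Fact p.Prime] :
    (Nat.card ↥(Cfsg.qd p)).factorization p = 3 := by
  have hne : Nat.card ↥(Cfsg.qd p) ≠ 0 := Nat.card_pos.ne'
  apply le_antisymm
  · by_contra hcon
    push Not at hcon
    exact not_pow_four_dvd_card_qd p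
      ((Nat.Prime.pow_dvd_iff_le_factorization hp.1 hne).mpr hcon)
  · rw [← Nat.Prime.pow_dvd_iff_le_factorization hp.1 hne, ← card_heisQd_range p]
    exact Subgroup.card_subgroup_dvd_card _

/-- every Sylow `p`-subgroup of `Qd(p)` is a Heisenberg group of order `p³` -/
theorem sylow_equiv (p : ℕ) [hp : Fact p.Prime] (P : Sylow p ↥(Cfsg.qd p)) :
    Nonempty (HeisG (ZMod p) 1 ≃* ↥P) := by
  have hc : Nat.card ↥(heisQd p).range = p ^ (Nat.card ↥(Cfsg.qd p)).factorization p := by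
    rw [factorization_card_qd, card_heisQd_range]
  let PU : Sylow p ↥(Cfsg.qd p) := Sylow.ofCard (heisQd p).range hc
  have e1 : HeisG (ZMod p) 1 ≃* ↥PU := MonoidHom.ofInjective (heisQd_injective p)
  exact ⟨e1.trans (Sylow.equiv PU P)⟩

end Cfsg.Agent.Lib.Helper20.Qd
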