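import Mathlib
import Cfsg.Prelude.Def_PLocal
import Cfsg.Agent.Lib.Helper20.QdSylow
import Cfsg.Agent.Lib.Helper20.QdHeis
import Cfsg.Agent.Lib.Helper16.Qd
import Cfsg.Agent.Lib.Helper1.Commutator

/-!
Helper lemmas (helper20): normalizers of characteristic subgroups of a Sylow `p`-subgroup of `Qd(p)`.
-/

set_option autoImplicit false
open scoped commutatorElement

namespace Cfsg.Agent.Lib.Helper20.Qd

open Cfsg.Agent.Lib.Helper4

variable (p : ℕ)

/-- matrix entries of an element of `Qd(p)` -/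
def ent (g : ↥(Cfsg.qd p)) (i j : Fin 3) : ZMod p :=
  ((g : Matrix.SpecialLinearGroup (Fin 3) (ZMod p)) : Matrix (Fin 3) (Fin 3) (ZMod p)) i j

theorem ent_mul (g h : ↥(Cfsg.qd p)) (i j : Fin 3) :
    ent p (g * h) i j = ent p g i 0 * ent p h 0 j + ent p g i 1 * ent p h 1 j +
      ent p g i 2 * ent p h 2 j := by
  unfold ent
  rw [Subgroup.coe_mul, Matrix.SpecialLinearGroup.coe_mul, Matrix.mul_apply, Fin.sum_univ_three]

theorem ent_20 (g : ↥(Cfsg.qd p)) : ent p g 2 0 = 0 :=
  (Cfsg.Agent.Lib.Helper16.qd_lastRow g.1 g.2).1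

theorem ent_21 (g : ↥(Cfsg.qd p)) : ent p g 2 1 = 0 :=
  (Cfsg.Agent.Lib.Helper16.qd_lastRow g.1 g.2).2.1

theorem ent_22 (g : ↥(Cfsg.qd p)) : ent p g 2 2 = 1 :=
  (Cfsg.Agent.Lib.Helper16.qd_lastRow g.1 g.2).2.2

theorem ext_ent {g h : ↥(Cfsg.qd p)} (H : ∀ i j, ent p g i j = ent p h i j) : g = h := by
  apply Subtype.ext
  apply Matrix.SpecialLinearGroup.ext
  exact H

theorem ent_heisQd (x : HeisG (ZMod p) 1) (i j : Fin 3) :
    ent p (heisQd p x) i j = heisMat p x i j := rfl

theorem ent_det (g : ↥(Cfsg.qd p)) :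
    ent p g 0 0 * ent p g 1 1 - ent p g 0 1 * ent p g 1 0 = 1 := by
  have h := g.1.2
  rw [Matrix.det_fin_three] at h
  have h0 := ent_20 p g
  have h1 := ent_21 p g
  have h2 := ent_22 p g
  unfold ent at *
  rw [h0, h1, h2] at h
  linear_combination h

/-- conjugating a translation -/
theorem mul_heisQd_vH (g : ↥(Cfsg.qd p)) (v : HeisG (ZMod p) 1) (hv : v.a 0 = 0) :
    g * heisQd p v = heisQd p ⟨0, fun _ => ent p g 1 0 * v.c + ent p g 1 1 * v.b 0,
      ent p g 0 0 * v.c + ent p g 0 1 * v.b 0⟩ * g := by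
  apply ext_ent
  intro i j
  rw [ent_mul, ent_mul]
  fin_cases i <;> fin_cases j <;>
    simp [ent_heisQd, heisMat, ent_20, ent_21, ent_22, hv] <;> ring

/-- the translation subgroup is normal -/
theorem vH_map_normal : ((vH p).map (heisQd p)).Normal := by
  constructor
  rintro _ ⟨v, hv, rfl⟩ g
  rw [mul_heisQd_vH p g v hv, mul_assoc, mul_inv_cancel, mul_one]
  exact ⟨_, rfl, rfl⟩

/-- conjugating a unitriangular matrix by an upper triangular one -/
theorem mul_heisQd_upper (g : ↥(Cfsg.qd p)) (hg : ent p g 1 0 = 0) (x : HeisG (ZMod p) 1) :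
    g * heisQd p x = heisQd p ⟨fun _ => ent p g 0 0 * ent p g 0 0 * x.a 0,
      fun _ => ent p g 1 1 * x.b 0,
      ent p g 0 0 * x.c + ent p g 0 1 * x.b 0 -
        ent p g 0 0 * ent p g 0 0 * x.a 0 * ent p g 1 2⟩ * g := by
  have hdet := ent_det p g
  rw [hg, mul_zero, sub_zero] at hdet
  apply ext_ent
  intro i j
  rw [ent_mul, ent_mul]
  fin_cases i <;> fin_cases j <;>
    simp [ent_heisQd, heisMat, ent_20, ent_21, ent_22, hg]
  · linear_combination (- ent p g 0 0 * x.a 0) * hdet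
  · ring
  · ring

/-- elements normalizing the centre of the unitriangular group are upper triangular -/
theorem ent_10_of_mem_normalizer (g : ↥(Cfsg.qd p))
    (hg : g ∈ Subgroup.normalizer
      (((Subgroup.center (HeisG (ZMod p) 1)).map (heisQd p) : Subgroup ↥(Cfsg.qd p)) :
        Set ↥(Cfsg.qd p))) : ent p g 1 0 = 0 := by
  have hz : (⟨0, 0, 1⟩ : HeisG (ZMod p) 1) ∈ Subgroup.center (HeisG (ZMod p) 1) := by
    rw [mem_center_iff']; exact ⟨rfl, rfl⟩
  have h1 := (Subgroup.mem_normalizer_iff.mp hg (heisQd p ⟨0, 0, 1⟩)).mp ⟨_, hz, rfl⟩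
  obtain ⟨z', hz', h⟩ := h1
  have h2 : heisQd p z' * g = g * heisQd p ⟨0, 0, 1⟩ := by
    rw [h]; group
  have h3 := congrArg (fun m => ent p m 1 2) h2
  simp only [ent_mul, ent_heisQd, heisMat, ent_22] at h3
  have hb := ((mem_center_iff' p z').mp hz').2
  simp [hb] at h3
  exact h3

theorem mem_normalizer_range_of_ent_10 [hp : Fact p.Prime] (g : ↥(Cfsg.qd p))
    (hg : ent p g 1 0 = 0) :
    g ∈ Subgroup.normalizer (((heisQd p).range : Subgroup ↥(Cfsg.qd p)) : Set ↥(Cfsg.qd p)) := by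
  haveI : Finite ↥(Cfsg.qd p) := inferInstance
  apply Subgroup.mem_normalizer_fintype
  rintro _ ⟨x, rfl⟩
  rw [mul_heisQd_upper p g hg x, mul_assoc, mul_inv_cancel, mul_one]
  exact ⟨_, rfl⟩

theorem normalizer_center_le [hp : Fact p.Prime] :
    Subgroup.normalizer
      (((Subgroup.center (HeisG (ZMod p) 1)).map (heisQd p) : Subgroup ↥(Cfsg.qd p)) :
        Set ↥(Cfsg.qd p)) ≤
    Subgroup.normalizer (((heisQd p).range : Subgroup ↥(Cfsg.qd p)) : Set ↥(Cfsg.qd p)) :=
  fun g hg => mem_normalizer_range_of_ent_10 p g (ent_10_of_mem_normalizer p g hg)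

/-- a lower unitriangular element -/
def lowerElt : ↥(Cfsg.qd p) :=
  ⟨⟨!![1, 0, 0; 1, 1, 0; 0, 0, 1], by simp [Matrix.det_fin_three]⟩, by
    apply Subgroup.subset_closure
    refine ⟨?_, ?_, ?_⟩ <;> simp⟩

theorem lowerElt_not_mem [hp : Fact p.Prime] :
    lowerElt p ∉ Subgroup.normalizer
      (((heisQd p).range : Subgroup ↥(Cfsg.qd p)) : Set ↥(Cfsg.qd p)) := by
  intro hg
  have h1 := (Subgroup.mem_normalizer_iff.mp hg (heisQd p ⟨fun _ => 1, 0, 0⟩)).mp ⟨_, rfl⟩
  obtain ⟨u', h⟩ := h1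
  have h2 : heisQd p u' * lowerElt p = lowerElt p * heisQd p ⟨fun _ => 1, 0, 0⟩ := by
    rw [h]; group
  have h3 := congrArg (fun m => ent p m 1 1) h2
  simp only [ent_mul, ent_heisQd, heisMat] at h3
  simp [ent, lowerElt] at h3

/-- comap of a characteristic subgroup along an isomorphism is characteristic -/
theorem characteristic_comap_equiv {H K : Type*} [Group H] [Group K] (e : H ≃* K)
    (T : Subgroup K) (hT : T.Characteristic) : (T.comap e.toMonoidHom).Characteristic := by
  rw [Subgroup.characteristic_iff_le_comap]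
  intro φ x hx
  rw [Subgroup.mem_comap] at hx ⊢
  have h1 := (Subgroup.characteristic_iff_le_comap.mp hT) (e.symm.trans (φ.trans e)) hx
  rw [Subgroup.mem_comap] at h1
  simpa using h1

/-- the abstract normalizer argument -/
theorem normalizer_eq_of_char {H G : Type*} [Group H] [Group G] (ι : H →* G)
    (hinj : Function.Injective ι) (V : Subgroup H) (hV : (V.map ι).Normal)
    (hB : Subgroup.normalizer (((Subgroup.center H).map ι : Subgroup G) : Set G) ≤
      Subgroup.normalizer ((ι.range : Subgroup G) : Set G))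
    (hcases : ∀ T : Subgroup H, T.Characteristic → T ≠ ⊥ → T ⊓ V = Subgroup.center H ∨ T = ⊤)
    (S : Subgroup G) (hS : S = ι.range) (T : Subgroup ↥S) (hT : T ≠ ⊥) (hTc : T.Characteristic) :
    Subgroup.normalizer ((T.map S.subtype : Subgroup G) : Set G) =
      Subgroup.normalizer (S : Set G) := by
  subst hS
  apply le_antisymm
  · let e : H ≃* ↥ι.range := MonoidHom.ofInjective hinj
    have he : ∀ x, ((e x : ↥ι.range) : G) = ι x := fun x => rfl
    have hTH := characteristic_comap_equiv e T hTc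
    have hTH1 : T.comap e.toMonoidHom ≠ ⊥ := by
      intro h
      apply hT
      rw [eq_bot_iff]
      intro t ht
      have h1 : e.symm t ∈ T.comap e.toMonoidHom := by
        rw [Subgroup.mem_comap]
        simpa using ht
      rw [h, Subgroup.mem_bot] at h1
      rw [Subgroup.mem_bot]
      have := congrArg e h1
      simpa using this
    have hmap : T.map ι.range.subtype = (T.comap e.toMonoidHom).map ι := by
      ext y
      constructor
      · rintro ⟨t, ht, rfl⟩
        refine ⟨e.symm t, ?_, ?_⟩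
        · rw [SetLike.mem_coe, Subgroup.mem_comap]
          simpa using ht
        · rw [← he]; simp
      · rintro ⟨x, hx, rfl⟩
        exact ⟨e x, hx, he x⟩
    rw [hmap]
    rcases hcases _ hTH hTH1 with h | h
    · intro g hg
      apply hB
      rw [← h, Subgroup.map_inf _ _ ι hinj]
      rw [Subgroup.mem_normalizer_iff] at hg ⊢
      intro x
      have hn : x ∈ V.map ι ↔ g * x * g⁻¹ ∈ V.map ι := by
        constructor
        · intro hx; exact hV.conj_mem x hx g
        · intro hx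
          have := hV.conj_mem _ hx g⁻¹
          simpa [mul_assoc] using this
      constructor
      · rintro ⟨h1, h2⟩
        exact ⟨(hg x).mp h1, hn.mp h2⟩
      · rintro ⟨h1, h2⟩
        exact ⟨(hg x).mpr h1, hn.mpr h2⟩
    · rw [h, ← MonoidHom.range_eq_map]
  · exact Cfsg.Agent.Lib.Helper1.normalizer_le_normalizer_map_subtype_of_characteristic ι.range T

/-- every Sylow `p`-subgroup of `Qd(p)` is the range of a conjugate of `heisQd` -/
theorem sylow_eq_range [hp : Fact p.Prime] (S : Sylow p ↥(Cfsg.qd p)) :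
    ∃ g : ↥(Cfsg.qd p), (S : Subgroup ↥(Cfsg.qd p)) =
      ((MulAut.conj g).toMonoidHom.comp (heisQd p)).range := by
  have hc : Nat.card ↥(heisQd p).range = p ^ (Nat.card ↥(Cfsg.qd p)).factorization p := by
    rw [factorization_card_qd, card_heisQd_range]
  let PU : Sylow p ↥(Cfsg.qd p) := Sylow.ofCard (heisQd p).range hc
  obtain ⟨g, hg⟩ := MulAction.exists_smul_eq ↥(Cfsg.qd p) PU S
  refine ⟨g, ?_⟩
  rw [← hg, Sylow.coe_subgroup_smul]
  ext x
  rw [Subgroup.mem_smul_pointwise_iff_exists]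
  constructor
  · rintro ⟨s, ⟨y, rfl⟩, rfl⟩
    exact ⟨y, rfl⟩
  · rintro ⟨y, rfl⟩
    exact ⟨heisQd p y, ⟨y, rfl⟩, rfl⟩

/-- the theorem: normalizers of nontrivial characteristic subgroups of a Sylow subgroup -/
theorem normalizer_char_sylow [hp : Fact p.Prime] (S : Sylow p ↥(Cfsg.qd p))
    (T : Subgroup ↥(S : Subgroup ↥(Cfsg.qd p))) (hT : T ≠ ⊥) (hTc : T.Characteristic) :
    Subgroup.normalizer ((T.map (S : Subgroup ↥(Cfsg.qd p)).subtype : Subgroup ↥(Cfsg.qd p)) :
      Set ↥(Cfsg.qd p)) =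
      Subgroup.normalizer ((S : Subgroup ↥(Cfsg.qd p)) : Set ↥(Cfsg.qd p)) ∧
    Subgroup.normalizer ((S : Subgroup ↥(Cfsg.qd p)) : Set ↥(Cfsg.qd p)) ≠ ⊤ := by
  obtain ⟨g, hg⟩ := sylow_eq_range p S
  set c : ↥(Cfsg.qd p) →* ↥(Cfsg.qd p) := (MulAut.conj g).toMonoidHom with hc
  have hcinj : Function.Injective c := (MulAut.conj g).injective
  have hcsurj : Function.Surjective c := (MulAut.conj g).surjective
  have hnorm : ∀ K : Subgroup ↥(Cfsg.qd p),
      Subgroup.normalizer ((K.map c : Subgroup ↥(Cfsg.qd p)) : Set ↥(Cfsg.qd p)) =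
        (Subgroup.normalizer (K : Set ↥(Cfsg.qd p))).map c := fun K =>
    (Subgroup.map_equiv_normalizer_eq K (MulAut.conj g)).symm
  have hrange : (c.comp (heisQd p)).range = ((heisQd p).range).map c :=
    (MonoidHom.map_range c (heisQd p)).symm
  constructor
  · apply normalizer_eq_of_char (c.comp (heisQd p)) (hcinj.comp (heisQd_injective p)) (vH p)
      ?_ ?_ (fun T hTc hT => char_cases p T hT) _ hg T hT hTc
    · rw [← Subgroup.map_map]
      exact Subgroup.Normal.map (vH_map_normal p) c hcsurj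
    · rw [← Subgroup.map_map, hrange, hnorm, hnorm]
      exact Subgroup.map_mono (normalizer_center_le p)
  · rw [hg, hrange, hnorm]
    intro htop
    have h1 : c (lowerElt p) ∈ (Subgroup.normalizer
        (((heisQd p).range : Subgroup ↥(Cfsg.qd p)) : Set ↥(Cfsg.qd p))).map c := by
      rw [htop]; exact Subgroup.mem_top _
    obtain ⟨n, hn, hnc⟩ := h1
    have := hcinj hnc
    rw [this] at hn
    exact lowerElt_not_mem p hn

end Cfsg.Agent.Lib.Helper20.Qd
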