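import Mathlib
import Cfsg.Agent.Lib.Helper1.MinNormal

/-!
# Minimal normal subgroups normalize subnormal subgroups (Wielandt)

Consequences: a subnormal subgroup contained in a maximal subgroup lies in its core.
-/

set_option autoImplicit false

namespace Cfsg.Agent.Lib.Helper20

open Cfsg.Agent.Lib.Helper1

universe u

/-- The image of a minimal normal subgroup under an automorphism is minimal normal. -/
theorem isMinNormal_map_equiv {K : Type u} [Group K] (φ : K ≃* K) {L : Subgroup K}
    (hL : IsMinNormal L) : IsMinNormal (L.map φ.toMonoidHom) := by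
  obtain ⟨hLn, hL1, hmin⟩ := hL
  refine ⟨hLn.map _ φ.surjective, ?_, ?_⟩
  · intro h
    rw [Subgroup.map_eq_bot_iff_of_injective _ φ.injective] at h
    exact hL1 h
  · intro M hMn hML
    have h1 : M.comap φ.toMonoidHom ≤ L := by
      have := Subgroup.comap_mono (f := φ.toMonoidHom) hML
      rwa [Subgroup.comap_map_eq_self_of_injective φ.injective] at this
    have h2 : M = (M.comap φ.toMonoidHom).map φ.toMonoidHom :=
      (Subgroup.map_comap_eq_self_of_surjective φ.surjective M).symm
    rcases hmin _ (hMn.comap _) h1 with h | h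
    · left; rw [h2, h, Subgroup.map_bot]
    · right; rw [h2, h]

/-- The socle is invariant under automorphisms. -/
theorem socle_map_le {K : Type u} [Group K] (φ : K ≃* K) :
    (sSup {L : Subgroup K | IsMinNormal L}).map φ.toMonoidHom ≤ sSup {L : Subgroup K | IsMinNormal L} := by
  rw [Subgroup.map_le_iff_le_comap]
  apply sSup_le
  intro L hL
  rw [← Subgroup.map_le_iff_le_comap]
  exact le_sSup (isMinNormal_map_equiv φ hL)

/-- **Wielandt**: in a finite group, every minimal normal subgroup normalizes every subnormal subgroup. -/
theorem minNormal_le_normalizer_of_subnormal :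
    ∀ (G : Type u) [Group G] [Finite G] (H N : Subgroup G), H.IsSubnormal → IsMinNormal N →
      N ≤ Subgroup.normalizer (H : Set G) := by
  intro G _ _
  induction' hn : Nat.card G using Nat.strong_induction_on with n ih generalizing G
  intro H N hH hN
  rcases hH.lt_normal with rfl | ⟨K, hKn, hHK, hKlt⟩
  · exact Subgroup.le_normalizer_of_normal
  haveI := hKn
  haveI hNn : N.Normal := hN.1
  by_cases hdisj : N ⊓ K = ⊥
  · have hcent : N ≤ Subgroup.centralizer (K : Set G) := by
      intro n hn'
      rw [Subgroup.mem_centralizer_iff]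
      intro k hk
      exact (Subgroup.commute_of_normal_of_disjoint N K hNn hKn (disjoint_iff.mpr hdisj) n k hn' hk).eq.symm
    exact hcent.trans ((Subgroup.centralizer_le (by exact_mod_cast hHK)).trans
      (Subgroup.centralizer_le_normalizer _))
  · have hNK : N ≤ K := by
      rcases hN.2.2 (N ⊓ K) inferInstance inf_le_left with h | h
      · exact absurd h hdisj
      · exact inf_eq_left.mp h
    have hcardK : Nat.card K < n := by
      rw [← hn]
      by_contra hge
      push Not at hge
      exact hKlt.ne (Subgroup.eq_top_of_le_card K hge)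
    set Soc : Subgroup K := sSup {L : Subgroup K | IsMinNormal L} with hSoc
    have hSocN : Soc ≤ Subgroup.normalizer ((H.subgroupOf K : Subgroup K) : Set K) := by
      apply sSup_le
      intro L hL
      exact ih (Nat.card K) hcardK K rfl (H.subgroupOf K) L hH.subgroupOf hL
    have hSocG : (Soc.map K.subtype).Normal := by
      refine ⟨?_⟩
      rintro _ ⟨k, hk, rfl⟩ g
      have h1 : (MulAut.conjNormal g : MulAut K) k ∈ Soc :=
        socle_map_le (MulAut.conjNormal g : K ≃* K) ⟨k, hk, rfl⟩
      refine ⟨(MulAut.conjNormal g : MulAut K) k, h1, ?_⟩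
      simp [MulAut.conjNormal_apply]
    have hNK' : (N.subgroupOf K) ≠ ⊥ := by
      intro h
      rw [Subgroup.subgroupOf_eq_bot, disjoint_iff] at h
      exact hdisj h
    obtain ⟨L, hL, hLN⟩ := exists_isMinNormal_le (N.subgroupOf K) inferInstance hNK'
    have hT : N ⊓ Soc.map K.subtype = N := by
      rcases hN.2.2 (N ⊓ Soc.map K.subtype) inferInstance inf_le_left with h | h
      · exfalso
        have hLle : L.map K.subtype ≤ N ⊓ Soc.map K.subtype := by
          apply le_inf
          · rintro _ ⟨l, hl, rfl⟩
            have := hLN hl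
            rwa [Subgroup.mem_subgroupOf] at this
          · exact Subgroup.map_mono (le_sSup hL)
        rw [h, le_bot_iff, Subgroup.map_eq_bot_iff_of_injective _ K.subtype_injective] at hLle
        exact hL.2.1 hLle
      · exact h
    have hNSoc : N ≤ Soc.map K.subtype := inf_eq_left.mp hT
    intro x hx
    obtain ⟨k, hk, rfl⟩ := hNSoc hx
    have h3 := hSocN hk
    rw [← Subgroup.subgroupOf_normalizer_eq hHK, Subgroup.mem_subgroupOf] at h3
    exact h3

/-- A subnormal subgroup of a finite group that lies in a maximal subgroup lies in its core. -/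
theorem subnormal_le_normalCore_of_isCoatom :
    ∀ (G : Type u) [Group G] [Finite G] (M N : Subgroup G), IsCoatom M → N.IsSubnormal → N ≤ M →
      N ≤ Subgroup.normalCore M := by
  intro G _ _
  induction' hn : Nat.card G using Nat.strong_induction_on with n ih generalizing G
  intro M N hM hN hNM
  -- G is nontrivial
  haveI : Nontrivial G := by
    by_contra h
    rw [not_nontrivial_iff_subsingleton] at h
    exact hM.1 (Subsingleton.elim _ _)
  obtain ⟨L, hL⟩ := exists_isMinNormal (G := G)
  haveI hLn : L.Normal := hL.1
  by_cases hLM : L ≤ M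
  · -- pass to the quotient by L
    have hcard : Nat.card (G ⧸ L) < n := by
      rw [← hn, ← Subgroup.card_mul_index L]
      have h1 : 1 < Nat.card L := by
        rw [Subgroup.one_lt_card_iff_ne_bot]
        exact hL.2.1
      have : 0 < L.index := Nat.pos_of_ne_zero Subgroup.index_ne_zero_of_finite
      show L.index < _
      nlinarith
    have hMq : IsCoatom (M.map (QuotientGroup.mk' L)) := by
      have hker : (QuotientGroup.mk' L).ker ≤ M := by rw [QuotientGroup.ker_mk']; exact hLM
      constructor
      · intro h
        apply hM.1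
        have := congrArg (Subgroup.comap (QuotientGroup.mk' L)) h
        rw [Subgroup.comap_map_eq, Subgroup.comap_top, sup_of_le_left hker] at this
        exact this
      · intro B hB
        have h1 : M ≤ B.comap (QuotientGroup.mk' L) := by
          rw [← Subgroup.map_le_iff_le_comap]; exact hB.le
        have h2 : M ≠ B.comap (QuotientGroup.mk' L) := by
          intro h
          apply hB.ne
          rw [h, Subgroup.map_comap_eq_self_of_surjective (QuotientGroup.mk'_surjective L)]
        have h3 := hM.2 _ (lt_of_le_of_ne h1 h2)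
        rw [← Subgroup.map_comap_eq_self_of_surjective (QuotientGroup.mk'_surjective L) B, h3,
          Subgroup.map_top_of_surjective _ (QuotientGroup.mk'_surjective L)]
    have hIH := ih (Nat.card (G ⧸ L)) hcard (G ⧸ L) rfl (M.map (QuotientGroup.mk' L))
      (N.map (QuotientGroup.mk' L)) hMq hN.quotient (Subgroup.map_mono hNM)
    intro x hx
    show ∀ b : G, b * x * b⁻¹ ∈ M
    intro g
    have h1 : QuotientGroup.mk' L x ∈ Subgroup.normalCore (M.map (QuotientGroup.mk' L)) :=
      hIH (Subgroup.mem_map_of_mem _ hx)
    have h2 : QuotientGroup.mk' L g * QuotientGroup.mk' L x * (QuotientGroup.mk' L g)⁻¹ ∈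
        M.map (QuotientGroup.mk' L) := h1 (QuotientGroup.mk' L g)
    rw [← map_inv, ← map_mul, ← map_mul, ← Subgroup.mem_comap, Subgroup.comap_map_eq,
      QuotientGroup.ker_mk', sup_of_le_left hLM] at h2
    exact h2
  · -- M ⊔ L = ⊤ and L normalizes N
    have hsup : M ⊔ L = ⊤ := by
      apply hM.2
      apply lt_of_le_of_ne le_sup_left
      intro h
      apply hLM
      rw [h]
      exact le_sup_right
    have hLN : L ≤ Subgroup.normalizer (N : Set G) :=
      minNormal_le_normalizer_of_subnormal G N L hN hL
    intro x hx
    show ∀ b : G, b * x * b⁻¹ ∈ M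
    intro g
    have hg : g ∈ M ⊔ L := by rw [hsup]; exact Subgroup.mem_top g
    obtain ⟨m, hm, l, hl, rfl⟩ := Subgroup.mem_sup_of_normal_right.mp hg
    have h1 : l * x * l⁻¹ ∈ N := (Subgroup.mem_normalizer_iff.mp (hLN hl) x).mp hx
    have h2 : m * l * x * (m * l)⁻¹ = m * (l * x * l⁻¹) * m⁻¹ := by group
    rw [h2]
    exact M.mul_mem (M.mul_mem hm (hNM h1)) (M.inv_mem hm)

end Cfsg.Agent.Lib.Helper20
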