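/-
Helper20 library: coprime action on a solvable group and Hall subgroups
(internal form: `A`, `G` subgroups of a finite group `X`, `A` normalizing `G`,
`(|A|, |G|) = 1`, `G` solvable, `|G| = m * n` with `(m, n) = 1`):
* `exists_invariant_hall`  : there is an `A`-invariant subgroup of `G` of order `m`;
* `invariant_hall_conj`    : two such are conjugate under `C_G(A)`;
* `invariant_hall_ge`      : every `A`-invariant subgroup of `G` of order prime to `n` lies in one.
Also `π`-number arithmetic (`exists_pi_decomp`, `pi_decomp_unique`).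
-/
import Mathlib
import Cfsg.Agent.Lib.Helper1.Hall
import Cfsg.Agent.Lib.Helper1.Coprime
import Cfsg.Agent.Lib.Helper16.PCore
import Cfsg.Prelude.Def_OddOrderLocal

set_option autoImplicit false
open Pointwise

namespace Cfsg.Agent.Lib.Helper20

open Subgroup Cfsg.Agent.Lib.Helper1

universe u

/-- Hall subgroups of the same order of a solvable subgroup `G` are conjugate in `G`. -/
theorem hall_conj_internal {X : Type u} [Group X] [Finite X] (G : Subgroup X)
    (hsolv : Group.IsSolvable G) (m n : ℕ) (hmn : Nat.card G = m * n) (hmncop : m.Coprime n)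
    (H₁ H₂ : Subgroup X) (h₁ : H₁ ≤ G) (h₂ : H₂ ≤ G) (c₁ : Nat.card H₁ = m)
    (c₂ : Nat.card H₂ = m) : ∃ g ∈ G, MulAut.conj g • H₁ = H₂ := by
  haveI := hsolv
  obtain ⟨g, hg⟩ := hall_conj m n hmn hmncop (H₁.subgroupOf G) (H₂.subgroupOf G)
    (by rw [card_subgroupOf_of_le h₁, c₁]) (by rw [card_subgroupOf_of_le h₂, c₂])
  exact ⟨g, g.2, conj_eq_of_subgroupOf_conj_eq h₁ h₂ g hg⟩

/-- Coprime action: existence of an invariant Hall subgroup of order `m`. -/
theorem exists_invariant_hall {X : Type u} [Group X] [Finite X] (A G : Subgroup X)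
    (hAG : A ≤ normalizer (G : Set X)) (hcop : (Nat.card A).Coprime (Nat.card G))
    (hsolv : Group.IsSolvable G) (m n : ℕ) (hmn : Nat.card G = m * n) (hmncop : m.Coprime n) :
    ∃ H : Subgroup X, H ≤ G ∧ Nat.card H = m ∧ A ≤ normalizer (H : Set X) := by
  haveI := hsolv
  obtain ⟨H', hH'⟩ := hall_exists _ ↥G rfl m n hmn hmncop
  obtain ⟨H₀, hH₀⟩ : ∃ H₀ : Subgroup X, H₀ = H'.map G.subtype := ⟨_, rfl⟩
  have hH₀G : H₀ ≤ G := by rw [hH₀]; exact Subgroup.map_subtype_le _
  have hH₀card : Nat.card H₀ = m := by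
    rw [hH₀, Subgroup.card_map_of_injective G.subtype_injective, hH']
  obtain ⟨U, hU⟩ : ∃ U : Subgroup X, U = normalizer (H₀ : Set X) ⊓ (G ⊔ A) := ⟨_, rfl⟩
  have hΓ : G ⊔ A ≤ normalizer (G : Set X) := sup_le_normalizer hAG
  have hKU : ∀ γ ∈ G ⊔ A, ∃ k ∈ G, ∃ u ∈ U, γ = k * u := by
    intro γ hγ
    have hγG : MulAut.conj γ • G = G := Subgroup.mem_normalizer_iff_map_conj_eq.mp (hΓ hγ)
    have h2 : MulAut.conj γ • H₀ ≤ G := by
      rw [← hγG]; exact conj_smul_le_conj_smul hH₀G γ
    obtain ⟨g, hg, hgH⟩ := hall_conj_internal G hsolv m n hmn hmncop H₀ (MulAut.conj γ • H₀)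
      hH₀G h2 hH₀card (by rw [card_conj_smul, hH₀card])
    refine ⟨g, hg, g⁻¹ * γ, ?_, by group⟩
    rw [hU]
    have hn : g⁻¹ * γ ∈ normalizer (H₀ : Set X) := by
      rw [Subgroup.mem_normalizer_iff_map_conj_eq]
      show MulAut.conj (g⁻¹ * γ) • H₀ = H₀
      rw [map_mul, mul_smul, ← hgH, ← mul_smul, ← map_mul, inv_mul_cancel, map_one, one_smul]
    exact ⟨hn, (G ⊔ A).mul_mem ((G ⊔ A).inv_mem (le_sup_left (a := G) hg)) hγ⟩
  obtain ⟨k, hk, hAk⟩ := exists_le_conj_smul_of_coprime hAG hcop (Or.inr hsolv)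
    (hU ▸ inf_le_right) hKU
  refine ⟨MulAut.conj k • H₀, ?_, ?_, ?_⟩
  · have hkG : MulAut.conj k • G = G :=
      Subgroup.mem_normalizer_iff_map_conj_eq.mp (le_normalizer hk)
    rw [← hkG]; exact conj_smul_le_conj_smul hH₀G k
  · rw [card_conj_smul, hH₀card]
  · intro a ha
    have := hAk ha
    rw [← conj_smul_normalizer]
    rw [mem_conj_smul_iff] at this ⊢
    rw [hU] at this
    exact this.1

/-- Coprime action: invariant Hall subgroups of order `m` are conjugate under `C_G(A)`. -/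
theorem invariant_hall_conj {X : Type u} [Group X] [Finite X] (A G : Subgroup X)
    (hAG : A ≤ normalizer (G : Set X)) (hcop : (Nat.card A).Coprime (Nat.card G))
    (hsolv : Group.IsSolvable G) (m n : ℕ) (hmn : Nat.card G = m * n) (hmncop : m.Coprime n)
    (H₁ H₂ : Subgroup X) (h₁ : H₁ ≤ G) (h₂ : H₂ ≤ G) (c₁ : Nat.card H₁ = m)
    (c₂ : Nat.card H₂ = m) (hA₁ : A ≤ normalizer (H₁ : Set X))
    (hA₂ : A ≤ normalizer (H₂ : Set X)) :
    ∃ c ∈ G ⊓ centralizer (A : Set X), MulAut.conj c • H₁ = H₂ := by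
  obtain ⟨k, hk, hkH⟩ := hall_conj_internal G hsolv m n hmn hmncop H₁ H₂ h₁ h₂ c₁ c₂
  have hAk : A ≤ MulAut.conj k • normalizer (H₁ : Set X) := by
    rw [conj_smul_normalizer, hkH]; exact hA₂
  obtain ⟨c, hc, hcU⟩ :=
    exists_mem_centralizer_of_le_conj_smul hAG hcop (Or.inr hsolv) hA₁ k hk hAk
  refine ⟨c, hc, ?_⟩
  have h1 : MulAut.conj (k⁻¹ * c) • H₁ = H₁ := Subgroup.mem_normalizer_iff_map_conj_eq.mp hcU
  have e : c = k * (k⁻¹ * c) := by group
  rw [e, map_mul, mul_smul, h1, hkH]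

/-- Coprime action: dominance for invariant Hall subgroups, `G` normal in the ambient group. -/
theorem invariant_hall_ge_normal : ∀ (N : ℕ) (X : Type u) [Group X] [Finite X] (A G : Subgroup X),
    G.Normal → (Nat.card A).Coprime (Nat.card G) → Group.IsSolvable G → Nat.card G = N →
    ∀ m n : ℕ, N = m * n → m.Coprime n → ∀ U : Subgroup X, U ≤ G →
    A ≤ normalizer (U : Set X) → (Nat.card U).Coprime n →
    ∃ H : Subgroup X, H ≤ G ∧ Nat.card H = m ∧ A ≤ normalizer (H : Set X) ∧ U ≤ H := by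
  intro N
  induction N using Nat.strong_induction_on with
  | _ N ih =>
    intro X _ _ A G hGn hcop hsolv hcard m n hmn hmncop U hUG hAU hUn
    classical
    haveI := hsolv
    haveI := hGn
    by_cases hG1 : G = ⊥
    · refine ⟨⊥, bot_le, ?_, ?_, ?_⟩
      · rw [hG1, Subgroup.card_bot] at hcard
        rw [Subgroup.card_bot]
        rw [← hcard] at hmn
        exact (Nat.eq_one_of_mul_eq_one_right hmn.symm).symm
      · rw [Subgroup.normalizer_eq_top]; exact le_top
      · rw [hG1] at hUG; exact hUG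
    haveI : Nontrivial ↥G := (Subgroup.nontrivial_iff_ne_bot G).mpr hG1
    obtain ⟨N₀, hN₀⟩ := exists_isMinNormal (G := ↥G)
    obtain ⟨q, hq, hqN₀⟩ := hN₀.exists_prime_isPGroup
    haveI : Fact q.Prime := ⟨hq⟩
    have hQ1 : Cfsg.pCore q ↥G ≠ ⊥ := by
      intro h
      have h1 : N₀ ≤ Cfsg.pCore q ↥G := Cfsg.Agent.Lib.Helper16.le_pCore hN₀.1 hqN₀
      rw [h, le_bot_iff] at h1; exact hN₀.2.1 h1
    obtain ⟨M, hMdef⟩ : ∃ M : Subgroup X, M = (Cfsg.pCore q ↥G).map G.subtype := ⟨_, rfl⟩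
    haveI hMn : M.Normal := by
      rw [hMdef]
      haveI : (Cfsg.pCore q ↥G).Characteristic := Cfsg.Agent.Lib.Helper16.pCore_characteristic
      exact ConjAct.normal_of_characteristic_of_normal
    have hMG : M ≤ G := by rw [hMdef]; exact Subgroup.map_subtype_le _
    have hMq : IsPGroup q M := by
      rw [hMdef]; exact (Cfsg.Agent.Lib.Helper16.pCore_isPGroup (G := ↥G) (p := q)).map _
    have hM1 : M ≠ ⊥ := by
      rw [hMdef]; intro h
      exact hQ1 ((Subgroup.map_eq_bot_iff_of_injective _ G.subtype_injective).mp h)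
    obtain ⟨k, hk⟩ := IsPGroup.iff_card.mp hMq
    have hk0 : k ≠ 0 := by
      rintro rfl
      rw [pow_zero] at hk
      exact hM1 (Subgroup.card_eq_one.mp hk)
    -- quotient data
    obtain ⟨f, hf⟩ : ∃ f : X →* X ⧸ M, f = QuotientGroup.mk' M := ⟨_, rfl⟩
    have hfs : Function.Surjective f := by rw [hf]; exact QuotientGroup.mk'_surjective M
    have hker : f.ker = M := by rw [hf]; exact QuotientGroup.ker_mk' M
    have hcomapG : (G.map f).comap f = G := by
      rw [Subgroup.comap_map_eq, hker]; exact sup_eq_left.mpr hMG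
    have hcardcomap : ∀ Hb : Subgroup (X ⧸ M), Nat.card (Hb.comap f) = Nat.card Hb * q ^ k := by
      intro Hb; rw [hf, card_comap_mk', hk]
    have hcardG : Nat.card G = Nat.card (G.map f) * q ^ k := by
      rw [← hcardcomap, hcomapG]
    have hq2 : 2 ≤ q ^ k := le_trans hq.two_le (Nat.le_self_pow hk0 q)
    have hlt : Nat.card (G.map f) < N := by
      rw [← hcard, hcardG]
      have : 0 < Nat.card (G.map f) := Nat.card_pos
      nlinarith
    have hGbn : (G.map f).Normal := Subgroup.Normal.map hGn f hfs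
    have hcopb : (Nat.card (A.map f)).Coprime (Nat.card (G.map f)) :=
      Nat.Coprime.of_dvd (Subgroup.card_map_dvd A f) (Subgroup.card_map_dvd G f) hcop
    have hsolvb : Group.IsSolvable ↥(G.map f) :=
      Group.isSolvable_of_surjective (f := f.subgroupMap G) (MonoidHom.subgroupMap_surjective f G)
    have hUb : U.map f ≤ G.map f := Subgroup.map_mono hUG
    have hAUb : A.map f ≤ normalizer ((U.map f : Subgroup (X ⧸ M)) : Set (X ⧸ M)) :=
      (Subgroup.map_mono hAU).trans (Subgroup.le_normalizer_map f)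
    have hqkdvd : q ^ k ∣ m * n :=
      ⟨Nat.card (G.map f), by rw [← hmn, ← hcard, hcardG, mul_comm]⟩
    -- properties of preimages
    have hcomap_le : ∀ Hb : Subgroup (X ⧸ M), Hb ≤ G.map f → Hb.comap f ≤ G := by
      intro Hb h; rw [← hcomapG]; exact Subgroup.comap_mono h
    have hcomap_norm : ∀ Hb : Subgroup (X ⧸ M), A.map f ≤ normalizer (Hb : Set (X ⧸ M)) →
        A ≤ normalizer ((Hb.comap f : Subgroup X) : Set X) := by
      intro Hb h a ha
      have h1 : f a ∈ normalizer (Hb : Set (X ⧸ M)) := h (Subgroup.mem_map_of_mem f ha)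
      exact Subgroup.le_normalizer_comap f h1
    by_cases hqm : q ∣ m
    · have hqn : Nat.Coprime (q ^ k) n :=
        Nat.Coprime.pow_left k (Nat.Coprime.coprime_dvd_left hqm hmncop)
      have hqkm : q ^ k ∣ m := hqn.dvd_of_dvd_mul_right hqkdvd
      obtain ⟨m', hm'⟩ := hqkm
      have hq' : Nat.card (G.map f) = m' * n := by
        have : Nat.card (G.map f) * q ^ k = (m' * n) * q ^ k := by
          rw [← hcardG, hcard, hmn, hm']; ring
        exact Nat.eq_of_mul_eq_mul_right (pow_pos hq.pos k) this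
      have hcop' : m'.Coprime n :=
        Nat.Coprime.coprime_dvd_left ⟨q ^ k, by rw [hm']; ring⟩ hmncop
      have hUbn : (Nat.card (U.map f)).Coprime n :=
        Nat.Coprime.coprime_dvd_left (Subgroup.card_map_dvd U f) hUn
      obtain ⟨Hb, hHbG, hHbcard, hAHb, hUHb⟩ := ih _ hlt (X ⧸ M) (A.map f) (G.map f) hGbn hcopb
        hsolvb rfl m' n hq' hcop' (U.map f) hUb hAUb hUbn
      refine ⟨Hb.comap f, hcomap_le Hb hHbG, ?_, hcomap_norm Hb hAHb, ?_⟩
      · rw [hcardcomap, hHbcard, hm']; ring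
      · rw [← Subgroup.map_le_iff_le_comap]; exact hUHb
    · have hqm' : Nat.Coprime (q ^ k) m :=
        Nat.Coprime.pow_left k ((Nat.Prime.coprime_iff_not_dvd hq).mpr hqm)
      have hqkn : q ^ k ∣ n := hqm'.dvd_of_dvd_mul_left hqkdvd
      obtain ⟨n', hn'⟩ := hqkn
      have hq' : Nat.card (G.map f) = m * n' := by
        have : Nat.card (G.map f) * q ^ k = (m * n') * q ^ k := by
          rw [← hcardG, hcard, hmn, hn']; ring
        exact Nat.eq_of_mul_eq_mul_right (pow_pos hq.pos k) this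
      have hcop' : m.Coprime n' :=
        Nat.Coprime.coprime_dvd_right ⟨q ^ k, by rw [hn']; ring⟩ hmncop
      have hUbn : (Nat.card (U.map f)).Coprime n' :=
        Nat.Coprime.coprime_dvd_left (Subgroup.card_map_dvd U f)
          (Nat.Coprime.coprime_dvd_right ⟨q ^ k, by rw [hn']; ring⟩ hUn)
      obtain ⟨Hb, hHbG, hHbcard, hAHb, hUHb⟩ := ih _ hlt (X ⧸ M) (A.map f) (G.map f) hGbn hcopb
        hsolvb rfl m n' hq' hcop' (U.map f) hUb hAUb hUbn
      obtain ⟨H, hH⟩ : ∃ H : Subgroup X, H = Hb.comap f := ⟨_, rfl⟩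
      have hHG : H ≤ G := by rw [hH]; exact hcomap_le Hb hHbG
      have hHcard : Nat.card H = m * q ^ k := by rw [hH, hcardcomap, hHbcard]
      have hAH : A ≤ normalizer (H : Set X) := by rw [hH]; exact hcomap_norm Hb hAHb
      have hUH : U ≤ H := by rw [hH, ← Subgroup.map_le_iff_le_comap]; exact hUHb
      have hMH : M ≤ H := by
        rw [hH]; exact hker.ge.trans (Subgroup.ker_le_comap f Hb)
      have hsolvH : Group.IsSolvable ↥H :=
        Group.isSolvable_of_isSolvable_injective (f := Subgroup.inclusion hHG)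
          (Subgroup.inclusion_injective _)
      have hcopH : (Nat.card A).Coprime (Nat.card H) :=
        Nat.Coprime.coprime_dvd_right (Subgroup.card_dvd_of_le hHG) hcop
      obtain ⟨K, hKH, hKcard, hAK⟩ :=
        exists_invariant_hall A H hAH hcopH hsolvH m (q ^ k) hHcard hqm'.symm
      have hnormM : ∀ Y : Subgroup X, Y ≤ normalizer (M : Set X) := by
        intro Y; rw [Subgroup.normalizer_eq_top]; exact le_top
      have hdMK : Disjoint M K :=
        Subgroup.disjoint_of_coprime_natCard (by rw [hk, hKcard]; exact hqm')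
      have hcMK : Helper1.IsComplIn M K (M ⊔ K) := isComplIn_sup (hnormM K) hdMK
      have hMKH : M ⊔ K = H := by
        apply Subgroup.eq_of_le_of_card_ge (sup_le hMH hKH)
        rw [← hcMK.card_mul_card, hk, hKcard, hHcard, mul_comm]
      rw [hMKH] at hcMK
      -- V = M U
      obtain ⟨V, hV⟩ : ∃ V : Subgroup X, V = M ⊔ U := ⟨_, rfl⟩
      have hcopqU : (q ^ k).Coprime (Nat.card U) :=
        (Nat.Coprime.coprime_dvd_right ⟨n', hn'⟩ hUn).symm
      have hdMU : Disjoint M U :=
        Subgroup.disjoint_of_coprime_natCard (by rw [hk]; exact hcopqU)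
      have hcMU : Helper1.IsComplIn M U (M ⊔ U) := isComplIn_sup (hnormM U) hdMU
      have hVcard : Nat.card V = q ^ k * Nat.card U := by
        rw [hV, ← hcMU.card_mul_card, hk]
      have hMV : M ≤ V := by rw [hV]; exact le_sup_left
      have hUV : U ≤ V := by rw [hV]; exact le_sup_right
      have hVH : V ≤ H := by rw [hV]; exact sup_le hMH hUH
      have hAV : A ≤ normalizer (V : Set X) := by
        intro a ha
        rw [Subgroup.mem_normalizer_iff_map_conj_eq]
        show MulAut.conj a • V = V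
        have h1 : MulAut.conj a • U = U :=
          Subgroup.mem_normalizer_iff_map_conj_eq.mp (hAU ha)
        rw [hV, Subgroup.smul_sup, Subgroup.Normal.conj_smul_eq_self a M, h1]
      have hcMW : Helper1.IsComplIn M (V ⊓ K) V := by
        refine ⟨hMV, inf_le_left, hdMK.mono_right inf_le_right, fun v hv => ?_⟩
        obtain ⟨m₁, hm₁, k₁, hk₁, hmk⟩ := hcMK.2.2.2 v (hVH hv)
        refine ⟨m₁, hm₁, k₁, ⟨?_, hk₁⟩, hmk⟩
        have e : k₁ = m₁⁻¹ * v := by rw [← hmk, inv_mul_cancel_left]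
        rw [e]; exact V.mul_mem (V.inv_mem (hMV hm₁)) hv
      have hWcard : Nat.card (V ⊓ K : Subgroup X) = Nat.card U := by
        have := hcMW.card_mul_card
        rw [hk, hVcard] at this
        exact Nat.eq_of_mul_eq_mul_left (pow_pos hq.pos k) this
      have hAW : A ≤ normalizer ((V ⊓ K : Subgroup X) : Set X) :=
        (le_inf hAV hAK).trans Subgroup.inf_normalizer_le_normalizer_inf
      have hsolvV : Group.IsSolvable ↥V :=
        Group.isSolvable_of_isSolvable_injective (f := Subgroup.inclusion (hVH.trans hHG))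
          (Subgroup.inclusion_injective _)
      have hcopV : (Nat.card A).Coprime (Nat.card V) :=
        Nat.Coprime.coprime_dvd_right (Subgroup.card_dvd_of_le (hVH.trans hHG)) hcop
      obtain ⟨c, hc, hcW⟩ := invariant_hall_conj A V hAV hcopV hsolvV (Nat.card U) (q ^ k)
        (by rw [hVcard, mul_comm]) hcopqU.symm (V ⊓ K) U inf_le_left hUV hWcard rfl hAW hAU
      refine ⟨MulAut.conj c • K, ?_, ?_, ?_, ?_⟩
      · have hcG : c ∈ G := hHG (hVH hc.1)
        have hcGG : MulAut.conj c • G = G :=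
          Subgroup.mem_normalizer_iff_map_conj_eq.mp (le_normalizer hcG)
        rw [← hcGG]; exact conj_smul_le_conj_smul (hKH.trans hHG) c
      · rw [card_conj_smul, hKcard]
      · rw [← conj_smul_normalizer]
        intro a ha
        rw [mem_conj_smul_iff]
        have hca : c⁻¹ * a * c = a := by
          have := Subgroup.mem_centralizer_iff.mp hc.2 a ha
          rw [mul_assoc, this, inv_mul_cancel_left]
        rw [hca]; exact hAK ha
      · rw [← hcW]; exact conj_smul_le_conj_smul inf_le_right c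

/-- Coprime action: every invariant subgroup of order prime to `n` lies in an invariant Hall
subgroup of order `m`. -/
theorem invariant_hall_ge {X : Type u} [Group X] [Finite X] (A G : Subgroup X)
    (hAG : A ≤ normalizer (G : Set X)) (hcop : (Nat.card A).Coprime (Nat.card G))
    (hsolv : Group.IsSolvable G) (m n : ℕ) (hmn : Nat.card G = m * n) (hmncop : m.Coprime n)
    (U : Subgroup X) (hUG : U ≤ G) (hAU : A ≤ normalizer (U : Set X))
    (hUn : (Nat.card U).Coprime n) :
    ∃ H : Subgroup X, H ≤ G ∧ Nat.card H = m ∧ A ≤ normalizer (H : Set X) ∧ U ≤ H := by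
  obtain ⟨L, hL⟩ : ∃ L : Subgroup X, L = normalizer (G : Set X) := ⟨_, rfl⟩
  have hGL : G ≤ L := by rw [hL]; exact le_normalizer
  have hAL : A ≤ L := by rw [hL]; exact hAG
  haveI hGn' : (G.subgroupOf L).Normal := by rw [hL]; exact Subgroup.normal_in_normalizer
  have hcardG' : Nat.card (G.subgroupOf L) = Nat.card G := card_subgroupOf_of_le hGL
  have hcardA' : Nat.card (A.subgroupOf L) = Nat.card A := card_subgroupOf_of_le hAL
  have hsolv' : Group.IsSolvable ↥(G.subgroupOf L) :=
    Group.isSolvable_of_isSolvable_injective (f := (Subgroup.subgroupOfEquivOfLe hGL).toMonoidHom)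
      (Subgroup.subgroupOfEquivOfLe hGL).injective
  have hU' : U.subgroupOf L ≤ G.subgroupOf L := by
    intro x hx
    exact Subgroup.mem_subgroupOf.mpr (hUG (Subgroup.mem_subgroupOf.mp hx))
  have hAU' : A.subgroupOf L ≤ normalizer ((U.subgroupOf L : Subgroup L) : Set L) := by
    intro a ha
    rw [Subgroup.mem_normalizer_iff]
    intro x
    rw [Subgroup.mem_subgroupOf, Subgroup.mem_subgroupOf]
    have := Subgroup.mem_normalizer_iff.mp (hAU (Subgroup.mem_subgroupOf.mp ha)) (x : X)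
    simpa using this
  obtain ⟨H', hH'G, hH'card, hAH', hUH'⟩ := invariant_hall_ge_normal _ ↥L (A.subgroupOf L)
    (G.subgroupOf L) hGn' (by rw [hcardA', hcardG']; exact hcop) hsolv' rfl m n
    (by rw [hcardG']; exact hmn) hmncop (U.subgroupOf L) hU' hAU'
    (by rw [card_subgroupOf_of_le (hUG.trans hGL)]; exact hUn)
  refine ⟨H'.map L.subtype, ?_, ?_, ?_, ?_⟩
  · rintro _ ⟨x, hx, rfl⟩
    exact Subgroup.mem_subgroupOf.mp (hH'G hx)
  · rw [Subgroup.card_map_of_injective L.subtype_injective, hH'card]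
  · intro a ha
    have haL : a ∈ L := hAL ha
    have h1 : (⟨a, haL⟩ : L) ∈ normalizer (H' : Set L) :=
      hAH' (Subgroup.mem_subgroupOf.mpr ha)
    apply mem_normalizer_of_forall_conj_mem
    rintro _ ⟨x, hx, rfl⟩
    exact ⟨⟨a, haL⟩ * x * ⟨a, haL⟩⁻¹, (Subgroup.mem_normalizer_iff.mp h1 x).mp hx, rfl⟩
  · intro u hu
    have huL : u ∈ L := hGL (hUG hu)
    exact ⟨⟨u, huL⟩, hUH' (Subgroup.mem_subgroupOf.mpr hu), rfl⟩

/-! ### `π`-numbers -/

/-- every prime divisor of `m` lies in `π` -/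
def IsPiNum (π : Set ℕ) (m : ℕ) : Prop := ∀ p : ℕ, p.Prime → p ∣ m → p ∈ π

/-- no prime of `π` divides `n` -/
def IsPiPrimeNum (π : Set ℕ) (n : ℕ) : Prop := ∀ p : ℕ, p.Prime → p ∈ π → ¬ p ∣ n

theorem coprime_of_isPiNum {π : Set ℕ} {m n : ℕ} (hm : IsPiNum π m) (hn : IsPiPrimeNum π n) :
    m.Coprime n :=
  Nat.coprime_of_dvd (fun p hp hpm hpn => hn p hp (hm p hp hpm) hpn)

theorem exists_pi_decomp (π : Set ℕ) : ∀ N : ℕ, N ≠ 0 →
    ∃ m n : ℕ, N = m * n ∧ IsPiNum π m ∧ IsPiPrimeNum π n := by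
  intro N
  induction N using Nat.recOnPosPrimePosCoprime with
  | prime_pow p k hp hk =>
    intro _
    by_cases hpπ : p ∈ π
    · refine ⟨p ^ k, 1, by ring, fun r hr hrd => ?_, fun r hr _ h1 => ?_⟩
      · rw [(Nat.prime_dvd_prime_iff_eq hr hp).mp (hr.dvd_of_dvd_pow hrd)]; exact hpπ
      · exact hr.ne_one (Nat.dvd_one.mp h1)
    · refine ⟨1, p ^ k, by ring, fun r hr h1 => ?_, fun r hr hrπ hrd => ?_⟩
      · exact absurd (Nat.dvd_one.mp h1) hr.ne_one
      · apply hpπ
        rw [← (Nat.prime_dvd_prime_iff_eq hr hp).mp (hr.dvd_of_dvd_pow hrd)]; exact hrπ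
  | zero => intro h; exact absurd rfl h
  | one =>
    intro _
    exact ⟨1, 1, rfl, fun r hr h1 => absurd (Nat.dvd_one.mp h1) hr.ne_one,
      fun r hr _ h1 => hr.ne_one (Nat.dvd_one.mp h1)⟩
  | coprime a b ha hb _ iha ihb =>
    intro _
    obtain ⟨m1, n1, h1, hm1, hn1⟩ := iha (by omega)
    obtain ⟨m2, n2, h2, hm2, hn2⟩ := ihb (by omega)
    refine ⟨m1 * m2, n1 * n2, by rw [h1, h2]; ring, fun r hr hrd => ?_, fun r hr hrπ hrd => ?_⟩
    · exact (hr.dvd_mul.mp hrd).elim (hm1 r hr) (hm2 r hr)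
    · exact (hr.dvd_mul.mp hrd).elim (hn1 r hr hrπ) (hn2 r hr hrπ)

theorem pi_decomp_unique {π : Set ℕ} {m n m' n' : ℕ} (h : m * n = m' * n') (hm : IsPiNum π m)
    (hm' : IsPiNum π m') (hn : IsPiPrimeNum π n) (hn' : IsPiPrimeNum π n') : m = m' := by
  apply Nat.dvd_antisymm
  · exact (coprime_of_isPiNum hm hn').dvd_of_dvd_mul_right (Dvd.intro n h)
  · exact (coprime_of_isPiNum hm' hn).dvd_of_dvd_mul_right (Dvd.intro n' h.symm)

/-- `|H| * |G : H| = |G|` for `H ≤ G`. -/
theorem card_mul_relIndex_of_le {X : Type*} [Group X] {H G : Subgroup X} (h : H ≤ G) :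
    Nat.card H * H.relIndex G = Nat.card G := by
  have := (H.subgroupOf G).card_mul_index
  rwa [card_subgroupOf_of_le h] at this

/-- Hall `π`-subgroups of `G` are the subgroups of order the `π`-part of `|G|`. -/
theorem isPiHallOf_iff {X : Type*} [Group X] [Finite X] {π : Set ℕ} {H G : Subgroup X} {m n : ℕ}
    (hmn : Nat.card G = m * n) (hm : IsPiNum π m) (hn : IsPiPrimeNum π n) :
    Cfsg.IsPiHallOf π H G ↔ H ≤ G ∧ Nat.card H = m := by
  constructor
  · rintro ⟨hHG, h1, h2⟩
    refine ⟨hHG, ?_⟩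
    have h3 := card_mul_relIndex_of_le hHG
    rw [hmn] at h3
    exact pi_decomp_unique h3 h1 hm h2 hn
  · rintro ⟨hHG, hcard⟩
    have h3 := card_mul_relIndex_of_le hHG
    rw [hmn, hcard] at h3
    have hm0 : 0 < m := by
      rcases Nat.eq_zero_or_pos m with h | h
      · rw [h, zero_mul] at hmn
        exact absurd hmn Nat.card_pos.ne'
      · exact h
    have h4 : H.relIndex G = n := Nat.eq_of_mul_eq_mul_left hm0 h3
    exact ⟨hHG, by rw [hcard]; exact hm, by rw [h4]; exact hn⟩

end Cfsg.Agent.Lib.Helper20
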