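/-
helper20: DOM-DEVISS (defect-one cluster, Part M, planner helper8; statement frozen in
`notes/S4442_M_leaves.lean`).

`exists_irr_stable_map`: for `N = N_G(P)`, `|P| = p`, `p ∤ |N : P|`, `char F = p`, and a nonzero
finite-dimensional `F[N/P]`-module `T`, there are an irreducible `F[G]`-module `V` and an `N`-map
`T → V` whose image is not contained in `ν V` (`ν = ∑_{x ∈ P} x`).

Route: by contradiction every `N`-map `T → S` (S irreducible) lands in `ν S`; devissage
(`hyp_of_sub_quot`, via the averaging lemma `avg_key`) extends this to all finite-dimensional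
`G`-modules (`hyp_all`); the coinduced module `{f : G → T | f (n g) = τ n (f g)}` then gives
`t = (ν f) 1 = p • f 1 = 0` for all `t`, contradicting `Nontrivial T`.
-/
import Mathlib
import Cfsg.Agent.Lib.Helper8.DOMDefs

set_option autoImplicit false

namespace Cfsg.Agent.Lib.Helper20.DOMDEVISS

open Cfsg.Agent.Lib.Helper8.DOM

universe u v w

/-! ### the averaging lemma, abstractly -/

section avg

variable {F : Type*} [Field F] {N : Type*} [Group N] [Finite N]
variable {T V : Type*} [AddCommGroup T] [Module F T] [AddCommGroup V] [Module F V]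

theorem avg_key (Q : Subgroup N) [Fintype Q]
    (τ : Representation F N T) (σ : Representation F N V)
    (hτ : ∀ x ∈ Q, τ x = 1) (hidx : (Q.index : F) ≠ 0)
    (W : Submodule F V) (hW : ∀ n v, v ∈ W → σ n v ∈ W)
    (ν : V →ₗ[F] V) (hν : ∀ v, ∑ x : Q, σ (x : N) v = ν v)
    (hνc : ∀ n v, σ n (ν v) = ν (σ n v))
    (f g0 : T →ₗ[F] V) (hf : ∀ n t, f (τ n t) = σ n (f t))
    (hfg : ∀ t, f t - ν (g0 t) ∈ W) :
    ∃ γ : T →ₗ[F] V, (∀ n t, γ (τ n t) = σ n (γ t)) ∧ (∀ t, γ t ∈ LinearMap.range ν) ∧
      ∀ t, f t - γ t ∈ W := by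
  classical
  have : Fintype N := Fintype.ofFinite N
  obtain ⟨S, hS, -⟩ := Q.exists_isComplement_left 1
  have : Fintype S := Fintype.ofFinite S
  have hcard : (Fintype.card S : F) ≠ 0 := by
    rw [← Nat.card_eq_fintype_card, hS.card_left]; exact hidx
  let e : S × Q ≃ N := Equiv.ofBijective (fun x : S × Q => (x.1 : N) * (x.2 : N)) hS
  have hsum : ∀ t, (∑ n : N, σ n (g0 (τ n⁻¹ t))) = ν (∑ s : S, σ (s : N) (g0 (τ (s : N)⁻¹ t))) := by
    intro t
    rw [← Equiv.sum_comp e, Fintype.sum_prod_type, map_sum]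
    refine Finset.sum_congr rfl fun s _ => ?_
    have h1 : ∀ x : Q, σ (e (s, x)) (g0 (τ (e (s, x))⁻¹ t))
        = σ (s : N) (σ (x : N) (g0 (τ (s : N)⁻¹ t))) := by
      intro x
      show σ ((s : N) * (x : N)) (g0 (τ ((s : N) * (x : N))⁻¹ t)) = _
      rw [mul_inv_rev, map_mul, map_mul, Module.End.mul_apply, Module.End.mul_apply,
        hτ (x : N)⁻¹ (inv_mem x.2), Module.End.one_apply]
    simp_rw [h1]
    rw [← map_sum, hν, hνc]
  refine ⟨(Fintype.card S : F)⁻¹ • ∑ n : N, (σ n) ∘ₗ g0 ∘ₗ (τ n⁻¹), ?_, ?_, ?_⟩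
  · intro m t
    simp only [LinearMap.smul_apply, LinearMap.sum_apply, LinearMap.comp_apply, map_smul, map_sum]
    congr 1
    rw [← Equiv.sum_comp (Equiv.mulLeft m)]
    refine Finset.sum_congr rfl fun n _ => ?_
    simp only [Equiv.coe_mulLeft, mul_inv_rev, map_mul, Module.End.mul_apply]
    rw [← Module.End.mul_apply (τ m⁻¹), ← map_mul, inv_mul_cancel, map_one, Module.End.one_apply]
  · intro t
    simp only [LinearMap.smul_apply, LinearMap.sum_apply, LinearMap.comp_apply]
    rw [hsum t, ← map_smul]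
    exact LinearMap.mem_range_self _ _
  · intro t
    simp only [LinearMap.smul_apply, LinearMap.sum_apply, LinearMap.comp_apply]
    rw [hsum t, map_sum]
    have hft : f t = (Fintype.card S : F)⁻¹ • ∑ s : S, σ (s : N) (f (τ (s : N)⁻¹ t)) := by
      have : ∀ s : S, σ (s : N) (f (τ (s : N)⁻¹ t)) = f t := by
        intro s
        rw [← hf, ← Module.End.mul_apply, ← map_mul, mul_inv_cancel, map_one, Module.End.one_apply]
      simp_rw [this]
      rw [Finset.sum_const, Finset.card_univ, ← Nat.cast_smul_eq_nsmul F, smul_smul,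
        inv_mul_cancel₀ hcard, one_smul]
    rw [hft, ← smul_sub, ← Finset.sum_sub_distrib]
    refine W.smul_mem _ (W.sum_mem fun s _ => ?_)
    rw [← hνc, ← map_sub]
    exact hW _ _ (hfg _)

end avg

/-! ### facts about the norm operator -/

section nrmfacts

variable {F : Type*} [Field F] {G : Type*} [Group G]

theorem nrm_apply {V : Type*} [AddCommGroup V] [Module F V] (ρ : Representation F G V)
    (P : Subgroup G) [Fintype P] (v : V) : nrm ρ P v = ∑ x : P, ρ (x : G) v := by
  rw [nrm_eq_sum, LinearMap.sum_apply]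

theorem nrm_natural [Finite G] {V V' : Type*} [AddCommGroup V] [Module F V] [AddCommGroup V']
    [Module F V'] (ρ : Representation F G V) (ρ' : Representation F G V') (P : Subgroup G)
    (φ : V →ₗ[F] V') (hφ : ∀ x ∈ P, ∀ v, φ (ρ x v) = ρ' x (φ v)) (v : V) :
    φ (nrm ρ P v) = nrm ρ' P (φ v) := by
  classical
  have : Fintype P := Fintype.ofFinite P
  rw [nrm_apply, nrm_apply, map_sum]
  exact Finset.sum_congr rfl fun x _ => hφ x x.2 v

theorem nrm_comm [Finite G] {V : Type*} [AddCommGroup V] [Module F V] (ρ : Representation F G V)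
    (P : Subgroup G) (n : G) (hn : n ∈ Nz P) (v : V) : ρ n (nrm ρ P v) = nrm ρ P (ρ n v) := by
  classical
  have : Fintype P := Fintype.ofFinite P
  rw [nrm_apply, nrm_apply, map_sum]
  let e : P ≃ P :=
    { toFun := fun x => ⟨n * x * n⁻¹, (Subgroup.mem_normalizer_iff.mp hn x).mp x.2⟩
      invFun := fun x => ⟨n⁻¹ * x * n, by
        have := (Subgroup.mem_normalizer_iff.mp (inv_mem hn) x).mp x.2
        simpa using this⟩
      left_inv := fun x => by ext; simp [mul_assoc]
      right_inv := fun x => by ext; simp [mul_assoc] }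
  rw [← Equiv.sum_comp e (fun x => ρ (x : G) (ρ n v))]
  refine Finset.sum_congr rfl fun x _ => ?_
  show ρ n (ρ x v) = ρ (n * x * n⁻¹) (ρ n v)
  rw [← Module.End.mul_apply, ← Module.End.mul_apply, ← map_mul, ← map_mul, inv_mul_cancel_right]

end nrmfacts

/-! ### devissage -/

section deviss

variable {F : Type u} [Field F] {G : Type v} [Group G] [Finite G]

/-- every `N`-map `T → V` lands in `ν V` -/
def Hyp {T : Type w} [AddCommGroup T] [Module F T] (P : Subgroup G)
    (τ : Representation F (Nz P) T) {V : Type*} [AddCommGroup V] [Module F V]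
    (ρ : Representation F G V) : Prop :=
  ∀ f : T →ₗ[F] V, (∀ (n : (Nz P)) (t : T), f (τ n t) = ρ (n : G) (f t)) →
    ∀ t, f t ∈ LinearMap.range (nrm ρ P)

theorem hyp_of_sub_quot {T : Type w} [AddCommGroup T] [Module F T] (P : Subgroup G)
    (hidx : ((P.subgroupOf (Nz P)).index : F) ≠ 0)
    (τ : Representation F (Nz P) T) (hτ : ∀ x : (Nz P), (x : G) ∈ P → τ x = 1)
    {V : Type*} [AddCommGroup V] [Module F V] (ρ : Representation F G V)
    (W : Submodule F V) (hW : ∀ g, W ≤ W.comap (ρ g))
    (h1 : Hyp P τ (ρ.subrepresentation W hW)) (h2 : Hyp P τ (ρ.quotient W hW)) :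
    Hyp P τ ρ := by
  classical
  intro f hf t
  have hq : ∀ g v, W.mkQ (ρ g v) = ρ.quotient W hW g (W.mkQ v) := fun g v => rfl
  have h2' := h2 (W.mkQ ∘ₗ f) (fun n t => by
    rw [LinearMap.comp_apply, LinearMap.comp_apply, hf n t]; exact hq _ _)
  let A : V →ₗ[F] (V ⧸ W) := W.mkQ ∘ₗ nrm ρ P
  have hA : ∀ t, (W.mkQ ∘ₗ f) t ∈ LinearMap.range A := by
    intro t
    obtain ⟨y, hy⟩ := h2' t
    obtain ⟨v, rfl⟩ := W.mkQ_surjective y
    refine ⟨v, ?_⟩
    rw [← hy]
    exact nrm_natural ρ (ρ.quotient W hW) P W.mkQ (fun x _ v => hq x v) v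
  obtain ⟨g0, hg0⟩ := Module.projective_lifting_property A.rangeRestrict
    ((W.mkQ ∘ₗ f).codRestrict (LinearMap.range A) hA) A.surjective_rangeRestrict
  have hfg : ∀ t, f t - nrm ρ P (g0 t) ∈ W := by
    intro t
    have h3 : A (g0 t) = W.mkQ (f t) := by
      have := congrArg (fun φ => ((φ t : LinearMap.range A) : V ⧸ W)) hg0
      exact this
    rw [← Submodule.Quotient.eq, ← Submodule.mkQ_apply, ← Submodule.mkQ_apply, ← h3]
    rfl
  have : Fintype (P.subgroupOf (Nz P)) := Fintype.ofFinite _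
  have : Fintype P := Fintype.ofFinite _
  obtain ⟨γ, hγ1, hγ2, hγ3⟩ := avg_key (P.subgroupOf (Nz P)) τ (ρ.comp (Nz P).subtype)
    (fun x hx => hτ x (Subgroup.mem_subgroupOf.mp hx)) hidx W (fun n v hv => hW _ hv)
    (nrm ρ P) (fun v => by
      rw [nrm_apply]
      exact Fintype.sum_equiv (Subgroup.subgroupOfEquivOfLe (Subgroup.le_normalizer)).toEquiv
        _ _ (fun x => rfl))
    (fun n v => nrm_comm ρ P n n.2 v) f g0 hf hfg
  obtain ⟨w, hw⟩ := h1 ((f - γ).codRestrict W hγ3) (fun n t => by
    apply Subtype.ext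
    show (f - γ) (τ n t) = ρ n ((f - γ) t)
    rw [LinearMap.sub_apply, LinearMap.sub_apply, hf, hγ1, map_sub]; rfl) t
  obtain ⟨v', hv'⟩ := hγ2 t
  refine ⟨w + v', ?_⟩
  have h4 : nrm ρ P (w : V) = f t - γ t := by
    have := nrm_natural (ρ.subrepresentation W hW) ρ P W.subtype (fun x _ v => rfl) w
    rw [hw] at this
    exact this.symm
  rw [map_add, h4, hv', sub_add_cancel]

theorem hyp_all {T : Type w} [AddCommGroup T] [Module F T] (P : Subgroup G)
    (hidx : ((P.subgroupOf (Nz P)).index : F) ≠ 0)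
    (τ : Representation F (Nz P) T) (hτ : ∀ x : (Nz P), (x : G) ∈ P → τ x = 1)
    (hirr : ∀ (V : Type (max v w)) [AddCommGroup V] [Module F V] [FiniteDimensional F V]
      (ρ : Representation F G V), ρ.IsIrreducible → Hyp P τ ρ) :
    ∀ (n : ℕ) (V : Type (max v w)) [AddCommGroup V] [Module F V] [FiniteDimensional F V]
      (ρ : Representation F G V), Module.finrank F V ≤ n → Hyp P τ ρ := by
  intro n
  induction n with
  | zero =>
    intro V _ _ _ ρ hn f hf t
    have : Subsingleton V := Module.finrank_zero_iff.mp (Nat.le_zero.mp hn)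
    rw [Subsingleton.elim (f t) 0]; exact zero_mem _
  | succ n ih =>
    intro V _ _ _ ρ hn
    by_cases hsub : Subsingleton V
    · intro f hf t; rw [Subsingleton.elim (f t) 0]; exact zero_mem _
    by_cases hir : ρ.IsIrreducible
    · exact hirr V ρ hir
    have hnt : Nontrivial V := not_subsingleton_iff_nontrivial.mp hsub
    have hnts : Nontrivial (Subrepresentation ρ) := by
      refine ⟨⊥, ⊤, fun h => ?_⟩
      have h' : (⊥ : Submodule F V) = ⊤ := congrArg Subrepresentation.toSubmodule h
      exact bot_ne_top h'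
    have hex : ∃ σ : Subrepresentation ρ, σ ≠ ⊥ ∧ σ ≠ ⊤ := by
      by_contra hcon
      have hall : ∀ σ : Subrepresentation ρ, σ = ⊥ ∨ σ = ⊤ := fun σ => by
        by_contra h
        rw [not_or] at h
        exact hcon ⟨σ, h⟩
      exact hir { eq_bot_or_eq_top := hall }
    obtain ⟨σ, hσb, hσt⟩ := hex
    have hW : ∀ g, σ.toSubmodule ≤ σ.toSubmodule.comap (ρ g) :=
      fun g v hv => σ.apply_mem_toSubmodule g hv
    have hWb : σ.toSubmodule ≠ ⊥ := fun h => hσb (Subrepresentation.toSubmodule_injective h)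
    have hWt : σ.toSubmodule ≠ ⊤ := fun h => hσt (Subrepresentation.toSubmodule_injective h)
    have hd1 : Module.finrank F σ.toSubmodule < Module.finrank F V :=
      Submodule.finrank_lt hWt
    have hd2 : Module.finrank F (V ⧸ σ.toSubmodule) < Module.finrank F V := by
      have h5 := Submodule.finrank_quotient_add_finrank σ.toSubmodule
      have h6 : 0 < Module.finrank F σ.toSubmodule :=
        Module.finrank_pos_iff.mpr (Submodule.nontrivial_iff_ne_bot.mpr hWb)
      omega
    exact hyp_of_sub_quot P hidx τ hτ ρ σ.toSubmodule hW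
      (ih σ.toSubmodule (ρ.subrepresentation σ.toSubmodule hW) (by omega))
      (ih (V ⧸ σ.toSubmodule) (ρ.quotient σ.toSubmodule hW) (by omega))

end deviss

/-! ### the coinduced module and the leaf -/

section final

variable {F : Type u} [Field F] {G : Type v} [Group G] [Finite G]
variable (p : ℕ) [Fact p.Prime] [CharP F p]

/-- DEVISS -/
theorem exists_irr_stable_map (P : Subgroup G) (hP : Nat.card P = p)
    (hidx : ¬ p ∣ P.relIndex (Nz P))
    {T : Type w} [AddCommGroup T] [Module F T] [FiniteDimensional F T] [Nontrivial T]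
    (τ : Representation F (Nz P) T)
    (hτ : ∀ x : (Nz P), (x : G) ∈ P → τ x = 1) :
    ∃ (V : Type (max v w)) (_ : AddCommGroup V) (_ : Module F V) (_ : FiniteDimensional F V)
      (ρ : Representation F G V), ρ.IsIrreducible ∧
      ∃ f : T →ₗ[F] V, (∀ (n : (Nz P)) (t : T), f (τ n t) = ρ (n : G) (f t)) ∧
        ∃ t, f t ∉ LinearMap.range (nrm ρ P) := by
  classical
  by_contra hcon
  have hirr : ∀ (V : Type (max v w)) [AddCommGroup V] [Module F V] [FiniteDimensional F V]
      (ρ : Representation F G V), ρ.IsIrreducible → Hyp P τ ρ := by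
    intro V _ _ _ ρ hρ f hf t
    by_contra ht
    exact hcon ⟨V, inferInstance, inferInstance, inferInstance, ρ, hρ, f, hf, t, ht⟩
  have hidx' : ((P.subgroupOf (Nz P)).index : F) ≠ 0 := by
    intro h
    exact hidx ((CharP.cast_eq_zero_iff F p _).mp h)
  -- the coinduced module
  have hM := hyp_all P hidx' τ hτ hirr
    (Module.finrank F (Representation.coindV (Nz P).subtype τ))
    (Representation.coindV (Nz P).subtype τ) (Representation.coind (Nz P).subtype τ) le_rfl
  -- the embedding `j`
  let j : T →ₗ[F] (Representation.coindV (Nz P).subtype τ) :=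
    { toFun := fun t => ⟨fun y => if h : y ∈ Nz P then τ ⟨y, h⟩ t else 0, by
        intro g y
        beta_reduce
        by_cases hy : y ∈ Nz P
        · have hgy : (Nz P).subtype g * y ∈ Nz P := mul_mem g.2 hy
          rw [dif_pos hgy, dif_pos hy, ← Module.End.mul_apply, ← map_mul]
          rfl
        · have hgy : (Nz P).subtype g * y ∉ Nz P := fun h =>
            hy ((Subgroup.mul_mem_cancel_left _ g.2).mp h)
          rw [dif_neg hgy, dif_neg hy, map_zero]⟩
      map_add' := fun a b => by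
        apply Subtype.ext
        funext y
        by_cases hy : y ∈ Nz P
        · simp [dif_pos hy]
        · simp [dif_neg hy]
      map_smul' := fun c a => by
        apply Subtype.ext
        funext y
        by_cases hy : y ∈ Nz P
        · simp [dif_pos hy]
        · simp [dif_neg hy] }
  have hj : ∀ (n : (Nz P)) (t : T),
      j (τ n t) = Representation.coind (Nz P).subtype τ (n : G) (j t) := by
    intro n t
    apply Subtype.ext
    funext y
    show (if h : y ∈ Nz P then τ ⟨y, h⟩ (τ n t) else 0)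
      = (if h : y * (n : G) ∈ Nz P then τ ⟨y * (n : G), h⟩ t else 0)
    by_cases hy : y ∈ Nz P
    · have hyn : y * (n : G) ∈ Nz P := mul_mem hy n.2
      rw [dif_pos hy, dif_pos hyn, ← Module.End.mul_apply, ← map_mul]
      rfl
    · have hyn : y * (n : G) ∉ Nz P := fun h => hy ((Subgroup.mul_mem_cancel_right _ n.2).mp h)
      rw [dif_neg hy, dif_neg hyn]
  obtain ⟨t, ht⟩ := exists_ne (0 : T)
  obtain ⟨f, hf⟩ := hM j hj t
  let ev : (Representation.coindV (Nz P).subtype τ) →ₗ[F] T :=
    (LinearMap.proj (1 : G)).comp (Representation.coindV (Nz P).subtype τ).subtype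
  have h1 : ev (j t) = t := by
    show (if h : (1 : G) ∈ Nz P then τ ⟨1, h⟩ t else 0) = t
    rw [dif_pos (one_mem _)]
    have h0 : (⟨1, one_mem _⟩ : Nz P) = 1 := rfl
    rw [h0, map_one]; rfl
  have h2 : ev (nrm (Representation.coind (Nz P).subtype τ) P f) = 0 := by
    have : Fintype P := Fintype.ofFinite P
    rw [nrm_apply, map_sum]
    have h3 : ∀ x : P, ev (Representation.coind (Nz P).subtype τ (x : G) f) = f.1 1 := by
      intro x
      show f.1 (1 * (x : G)) = f.1 1
      have h4 := f.2 ⟨x, Subgroup.le_normalizer x.2⟩ 1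
      rw [hτ _ x.2] at h4
      simpa using h4
    simp_rw [h3]
    rw [Finset.sum_const, Finset.card_univ, ← Nat.card_eq_fintype_card, hP,
      ← Nat.cast_smul_eq_nsmul F, CharP.cast_eq_zero, zero_smul]
  rw [hf, h1] at h2
  exact ht h2

end final

end Cfsg.Agent.Lib.Helper20.DOMDEVISS
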