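import Mathlib
import Cfsg.Prelude.Def_ClassicalGeometry
import Cfsg.Prelude.Def_GeometricClasses
import Cfsg.Agent.Lib.Helper5.NDMax
import Cfsg.Agent.Lib.Helper25.OmegaNonMax
import Cfsg.Agent.Lib.Helper1.C3ODefs
import Cfsg.Agent.Lib.Helper1.C3OCalc

/-!
helper20: S5700 leaves G4 (`exists_perp_list_ne`) and G5 (`exists_perp_list_not_mem`) for helper1's market.
-/

set_option autoImplicit false
set_option linter.unusedSectionVars false
set_option linter.unusedVariables false

namespace Cfsg.Agent.Lib.Helper20.C3OLeaf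
open Module QuadraticMap Matrix Cfsg.Agent.Lib.Helper25.CD Cfsg.Agent.Lib.Helper25.Spin
  Cfsg.Agent.Lib.Helper25.Fam Cfsg.Agent.Lib.Helper25.Siegel
  Cfsg.Agent.Lib.Helper25.PS Cfsg.Agent.Lib.Helper25.OGeom Cfsg.Agent.Lib.Helper15
  Cfsg.Agent.Lib.Helper5.TSMax Cfsg.Agent.Lib.Helper5.NSMax Cfsg.Agent.Lib.Helper5.PairMax
  Cfsg.Agent.Lib.Helper5.NDMax Cfsg.Agent.Lib.Helper1.C3O

variable {ι : Type} [Fintype ι] [DecidableEq ι] {F : Type*} [Field F] [Fintype F]
  {Q : QuadraticForm F (ι → F)}

/-- membership in the perp of the span of a list -/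
theorem mem_perp_span_list (l : List (ι → F)) (x : ι → F) :
    x ∈ Cfsg.Agent.Lib.Helper25.MaxTS.perp Q (Submodule.span F {y : ι → F | y ∈ l}) ↔
      ∀ y ∈ l, polar Q y x = 0 := by
  rw [Cfsg.Agent.Lib.Helper25.MaxTS.mem_perp]
  constructor
  · intro h y hy
    exact h y (Submodule.subset_span hy)
  · intro h u hu
    induction hu using Submodule.span_induction with
    | mem y hy => exact h y hy
    | zero => simp
    | add a b _ _ ha hb => rw [polar_add_left, ha, hb, add_zero]
    | smul c a _ ha => rw [polar_smul_left, ha, smul_zero]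

/-- the span of a list has dimension at most its length -/
theorem finrank_span_list_le (l : List (ι → F)) :
    finrank F (Submodule.span F {y : ι → F | y ∈ l}) ≤ l.length := by
  classical
  have h1 : {y : ι → F | y ∈ l} = ↑(l.toFinset) := by
    ext y; simp
  rw [h1]
  exact le_trans (finrank_span_finset_le_card _) (List.toFinset_card_le l)

/-- G4 : `l^⊥⊥ = span l` -/
theorem exists_perp_list_ne (hQ : (polarBilin Q).Nondegenerate) (l : List (ι → F)) {z : ι → F}
    (hz : z ∉ Submodule.span F {y : ι → F | y ∈ l}) :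
    ∃ p : ι → F, (∀ y ∈ l, polar Q y p = 0) ∧ polar Q z p ≠ 0 := by
  by_contra hcon
  push Not at hcon
  apply hz
  rw [← Cfsg.Agent.Lib.Helper25.MaxTS.perp_perp hQ (Submodule.span F {y : ι → F | y ∈ l}),
    Cfsg.Agent.Lib.Helper25.MaxTS.mem_perp]
  intro p hp
  rw [polar_comm]
  exact hcon p ((mem_perp_span_list l p).1 hp)

/-- G5 : dimension count -/
theorem exists_perp_list_not_mem (hQ : (polarBilin Q).Nondegenerate) (l : List (ι → F))
    (N : Submodule F (ι → F)) (h : finrank F N + l.length < Fintype.card ι) :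
    ∃ x : ι → F, (∀ y ∈ l, polar Q y x = 0) ∧ x ∉ N := by
  by_contra hcon
  push Not at hcon
  have hle : Cfsg.Agent.Lib.Helper25.MaxTS.perp Q (Submodule.span F {y : ι → F | y ∈ l}) ≤ N :=
    fun x hx => hcon x ((mem_perp_span_list l x).1 hx)
  have h1 := Submodule.finrank_mono hle
  rw [Cfsg.Agent.Lib.Helper25.MaxTS.finrank_perp hQ, Module.finrank_fintype_fun_eq_card] at h1
  have h2 := finrank_span_list_le (F := F) l
  omega

end Cfsg.Agent.Lib.Helper20.C3OLeaf
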