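import Mathlib
import Cfsg.Prelude.Def_ClassicalGeometry
import Cfsg.Prelude.Def_GeometricClasses
import Cfsg.Agent.Lib.Helper5.NDMax
import Cfsg.Agent.Lib.Helper25.OmegaNonMax
import Cfsg.Agent.Lib.Helper1.C3ODefs
import Cfsg.Agent.Lib.Helper1.C3OCalc

/-!
helper20: S5700 leaf SC (`spread_calc`) for helper1's market: conjugating `J` by the Siegel element `siegF u y 1`
moves `J v` off the `F[J]`-line of `v` when `B(u,v) ≠ 0`.
-/

set_option autoImplicit false
set_option linter.unusedSectionVars false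
set_option linter.unusedVariables false

namespace Cfsg.Agent.Lib.Helper20.C3OLeaf
open Module QuadraticMap Matrix Cfsg.Agent.Lib.Helper25.CD Cfsg.Agent.Lib.Helper25.Spin
  Cfsg.Agent.Lib.Helper25.Fam Cfsg.Agent.Lib.Helper25.Siegel
  Cfsg.Agent.Lib.Helper25.PS Cfsg.Agent.Lib.Helper25.OGeom Cfsg.Agent.Lib.Helper15
  Cfsg.Agent.Lib.Helper5.TSMax Cfsg.Agent.Lib.Helper5.NSMax Cfsg.Agent.Lib.Helper5.PairMax
  Cfsg.Agent.Lib.Helper5.NDMax Cfsg.Agent.Lib.Helper1.C3O

variable {ι : Type} [Fintype ι] [DecidableEq ι] {F : Type*} [Field F] [Fintype F]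
  {Q : QuadraticForm F (ι → F)}

/-- the value of the conjugate `m J m⁻¹` at `v` for `m = siegF u y 1` -/
theorem cj_sieg_mulVec {t ν : F} {J : Matrix ι ι F} (hJ : CS Q t ν J) {u v y : ι → F}
    (hy : Q y = 0) (hyu : polar Q y u = 0)
    (hyJu : polar Q y (J *ᵥ u) = 0) (hyv : polar Q y v = 0) (hyJv : polar Q y (J *ᵥ v) = 0)
    (m : ↥(Cfsg.isometryGroup F ⇑Q)) (hm : ∀ x, toOG Q m x = siegF Q u y 1 x) :
    cj Q m J *ᵥ v = J *ᵥ v - polar Q u v • (J *ᵥ y) + polar Q u (J *ᵥ v) • y := by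
  have huy : polar Q u y = 0 := by rw [polar_comm]; exact hyu
  have pyy : polar Q y y = 0 := by rw [polar_self, hy]; simp
  have e1 : toOG Q m (v - polar Q u v • y) = v := by
    rw [hm]
    unfold siegF
    simp only [polar_sub_right, polar_smul_right, smul_eq_mul, huy, hyv, pyy, mul_zero, sub_zero,
      zero_smul, one_smul]
    module
  have e2 : toOG Q m⁻¹ v = v - polar Q u v • y := by
    rw [← e1, toOG_inv_apply', e1]
  have h1 : polar Q u (J *ᵥ y) = 0 := by
    rw [hJ.polar_right, huy, polar_comm Q (J *ᵥ u) y, hyJu]; ring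
  have h2 : polar Q y (J *ᵥ y) = 0 := by rw [hJ.pself, hy]; ring
  rw [cj_mulVec, e2, hm, Matrix.mulVec_sub, Matrix.mulVec_smul]
  unfold siegF
  simp only [polar_sub_right, polar_smul_right, smul_eq_mul, h1, h2, hyJv, mul_zero, sub_zero,
    zero_smul, one_smul]

theorem spread_calc {t ν : F} {J : Matrix ι ι F} (hJ : CS Q t ν J) {u v y : ι → F} (hu : Q u = 0)
    (hy : Q y = 0) (hy0 : y ≠ 0) (hb : polar Q u v ≠ 0) (hyu : polar Q y u = 0)
    (hyJu : polar Q y (J *ᵥ u) = 0) (hyv : polar Q y v = 0) (hyJv : polar Q y (J *ᵥ v) = 0)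
    (m : ↥(Cfsg.isometryGroup F ⇑Q)) (hm : ∀ x, toOG Q m x = siegF Q u y 1 x) :
    ¬ KL J v (cj Q m J *ᵥ v) := by
  rintro ⟨s, r, hsr⟩
  rw [cj_sieg_mulVec hJ hy hyu hyJu hyv hyJv m hm] at hsr
  set b := polar Q u v with hbdef
  set d := polar Q u (J *ᵥ v) with hddef
  have huy : polar Q u y = 0 := by rw [polar_comm]; exact hyu
  have h1 : polar Q u (J *ᵥ y) = 0 := by
    rw [hJ.polar_right, huy, polar_comm Q (J *ᵥ u) y, hyJu]; ring
  -- `w₀ = d y - b J y = s v + (r - 1) J v`
  have hw : d • y - b • (J *ᵥ y) = s • v + (r - 1) • (J *ᵥ v) := by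
    have : d • y - b • (J *ᵥ y) =
        (J *ᵥ v - b • (J *ᵥ y) + d • y) - J *ᵥ v := by module
    rw [this, hsr]
    module
  -- pair with `u`
  have p1 : s * b + (r - 1) * d = 0 := by
    have := congrArg (fun w => polar Q u w) hw
    simp only [polar_sub_right, polar_add_right, polar_smul_right, smul_eq_mul, huy, h1,
      mul_zero, sub_zero] at this
    rw [← hbdef, ← hddef] at this
    exact this.symm
  -- pair with `J u`
  have p2 : s * (t * b - d) + (r - 1) * (ν * b) = 0 := by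
    have := congrArg (fun w => polar Q (J *ᵥ u) w) hw
    simp only [polar_sub_right, polar_add_right, polar_smul_right, smul_eq_mul] at this
    rw [hJ.polar_JJ u y, hJ.polar_JJ u v, huy, polar_comm Q (J *ᵥ u) y, hyJu,
      hJ.adj u v, ← hbdef, ← hddef] at this
    simp only [mul_zero, sub_zero] at this
    exact this.symm
  -- the determinant is `b² n_{d/b} ≠ 0`
  have hdet : ν * b * b - t * b * d + d * d ≠ 0 := by
    have h := hJ.irr (d / b)
    intro h0
    apply h
    field_simp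
    linear_combination h0
  have hs : s = 0 := by
    have : s * (ν * b * b - t * b * d + d * d) = 0 := by
      linear_combination (ν * b) * p1 - d * p2
    exact (mul_eq_zero.1 this).resolve_right hdet
  have hr : r - 1 = 0 := by
    have : (r - 1) * (ν * b * b - t * b * d + d * d) = 0 := by
      linear_combination (-(t * b - d)) * p1 + b * p2
    exact (mul_eq_zero.1 this).resolve_right hdet
  rw [hs, hr, zero_smul, zero_smul, add_zero] at hw
  have hw' : d • y + (-b) • (J *ᵥ y) = 0 := by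
    rw [← hw]; module
  exact hb (neg_eq_zero.1 (hJ.comb_eq_zero hy0 hw').2)

end Cfsg.Agent.Lib.Helper20.C3OLeaf
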