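import Mathlib
import Cfsg.Agent.Lib.Lead.KleinSqrt2
import Cfsg.Agent.Lib.Helper13.AltForm
import Cfsg.Agent.Lib.Helper23.DefectZeroIrr
import Cfsg.Agent.Lib.Helper6.Ramification2

/-!
# S4872 leaf (PAR): `even_mult_one_of_fsInd_neg_one`  (helper20; planner helper1)

An irreducible character with Frobenius–Schur indicator `-1` contains the trivial character of every
subgroup `S` with even multiplicity: the invariant alternating form given by lead's `fs_form` is
nondegenerate on the space of `S`-fixed vectors.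
-/

set_option autoImplicit false

namespace Cfsg.Agent.Lib.Helper20.DZReal

open Cfsg Cfsg.Agent.CharLib Cfsg.Agent.Lib.Helper6 Cfsg.Agent.Lib.Helper24
open scoped ComplexConjugate

universe u

variable {G : Type u} [Group G] [Fintype G]

/-- The invariant skew-symmetric nondegenerate matrix of a representation with indicator `-1`
(extracted from lead's `even_of_fsInd_neg_one`). -/
theorem exists_skew_form (n : ℕ) (ρ : Representation ℂ G (Fin n → ℂ)) (hirr : ρ.IsIrreducible)
    (hν : (Nat.card G : ℂ)⁻¹ * ∑ s : G, ρ.character (s * s) = -1)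
    (hreal : ∀ g : G, (ρ.character g).im = 0) :
    ∃ A : Matrix (Fin n) (Fin n) ℂ,
      (∀ g : G, (LinearMap.toMatrix' (ρ g)).transpose * A * LinearMap.toMatrix' (ρ g) = A) ∧
      A.transpose = -A ∧ Function.Injective A.mulVec := by
  classical
  have := hirr
  obtain ⟨⟨A, hA0, hAinv⟩, hAt⟩ := fs_form n ρ hirr hreal
  have hAT : A.transpose = -A := by
    have := hAt A hAinv
    rw [hν] at this
    rw [this]; simp
  refine ⟨A, hAinv, hAT, ?_⟩
  set X : G → Matrix (Fin n) (Fin n) ℂ := fun g => LinearMap.toMatrix' (ρ g) with hX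
  have hXmul : ∀ g k, X (g * k) = X g * X k := by
    intro g k
    simp only [hX, map_mul, Module.End.mul_eq_comp, LinearMap.toMatrix'_comp]
  have hX1 : X 1 = 1 := by
    simp only [hX, map_one, Module.End.one_eq_id, LinearMap.toMatrix'_id]
  have hint : ∀ g : G, (X g⁻¹).transpose * A = A * X g := by
    intro g
    have h1 := hAinv g⁻¹
    change (X g⁻¹).transpose * A * X g⁻¹ = A at h1
    calc (X g⁻¹).transpose * A = (X g⁻¹).transpose * A * (X g⁻¹ * X g) := by
          rw [← hXmul, inv_mul_cancel, hX1, mul_one]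
      _ = ((X g⁻¹).transpose * A * X g⁻¹) * X g := by simp only [Matrix.mul_assoc]
      _ = A * X g := by rw [h1]
  let W : Subrepresentation ρ := ⟨LinearMap.ker (Matrix.mulVecLin A), by
    intro g v hv
    rw [LinearMap.mem_ker, Matrix.mulVecLin_apply] at hv ⊢
    have e : ρ g v = (X g).mulVec v := by
      simp only [hX, LinearMap.toMatrix'_mulVec]
    rw [e, Matrix.mulVec_mulVec, ← hint g, ← Matrix.mulVec_mulVec, hv, Matrix.mulVec_zero]⟩
  have hW : W = ⊥ := by
    rcases hirr.eq_bot_or_eq_top W with h1 | h1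
    · exact h1
    · exfalso
      apply hA0
      have htop : LinearMap.ker (Matrix.mulVecLin A) = ⊤ :=
        congrArg Subrepresentation.toSubmodule h1
      have hz : Matrix.mulVecLin A = 0 := LinearMap.ker_eq_top.mp htop
      apply Matrix.toLin'.injective
      rw [Matrix.toLin'_apply', hz, map_zero]
  have hker : LinearMap.ker (Matrix.mulVecLin A) = ⊥ :=
    congrArg Subrepresentation.toSubmodule hW
  have := LinearMap.ker_eq_bot.mp hker
  exact this

/-- **(PAR)** -/
theorem even_mult_one_of_fsInd_neg_one (χ : IrrCharacter G) (h : fsInd (χ : G → ℂ) = -1)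
    (S : Subgroup G) [Fintype S] (a : ℕ)
    (ha : classInner (resFun S (χ : G → ℂ)) (1 : S → ℂ) = a) : Even a := by
  classical
  obtain ⟨n, ρ, hirr, hρ⟩ := χ.2
  have hreal : ∀ g : G, (ρ.character g).im = 0 := by
    intro g
    by_contra hg
    have h0 := (fsInd_eq_zero_iff χ).mpr ⟨g, by rw [← hρ]; exact hg⟩
    rw [h] at h0
    exact absurd h0 (neg_ne_zero.mpr one_ne_zero)
  have hν : (Nat.card G : ℂ)⁻¹ * ∑ s : G, ρ.character (s * s) = -1 := by
    rw [hρ]; exact h
  obtain ⟨A, hAinv, hAT, hinj⟩ := exists_skew_form n ρ hirr hν hreal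
  -- the restricted representation and its invariants
  let σ : Representation ℂ ↥S (Fin n → ℂ) := ρ.comp S.subtype
  have hσ : ∀ (s : ↥S) (v : Fin n → ℂ), σ s v = ρ (s : G) v := fun _ _ => rfl
  set W : Submodule ℂ (Fin n → ℂ) := σ.invariants with hW
  have hcardS : (Nat.card ↥S : ℂ) ≠ 0 := by
    exact_mod_cast (Nat.card_pos (α := ↥S)).ne'
  have : Invertible (Nat.card ↥S : ℂ) := invertibleOfNonzero hcardS
  -- dimension of `W`
  have hdim : Module.finrank ℂ W = a := by
    have h1 := Representation.card_inv_mul_sum_char_eq_finrank σ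
    have h2 : (a : ℂ) = (Module.finrank ℂ W : ℂ) := by
      rw [← ha, ← h1]
      unfold classInner
      congr 1
      refine Finset.sum_congr rfl (fun s _ => ?_)
      rw [resFun_apply, Pi.one_apply, map_one, mul_one, ← hρ]
      rfl
    exact_mod_cast h2.symm
  -- the form
  let B : LinearMap.BilinForm ℂ (Fin n → ℂ) := Matrix.toBilin' A
  have hB : ∀ u v : Fin n → ℂ, B u v = u ⬝ᵥ A.mulVec v := fun u v => Matrix.toBilin'_apply' A u v
  -- invariance
  have hBinv : ∀ (g : G) (u v : Fin n → ℂ), B (ρ g u) (ρ g v) = B u v := by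
    intro g u v
    rw [hB, hB]
    have e : ∀ w : Fin n → ℂ, ρ g w = (LinearMap.toMatrix' (ρ g)).mulVec w := by
      intro w; simp only [LinearMap.toMatrix'_mulVec]
    rw [e u, e v]
    have h1 : (LinearMap.toMatrix' (ρ g)).mulVec u
        = Matrix.vecMul u (LinearMap.toMatrix' (ρ g)).transpose :=
      (Matrix.vecMul_transpose _ u).symm
    rw [h1, ← Matrix.dotProduct_mulVec, Matrix.mulVec_mulVec, Matrix.mulVec_mulVec, hAinv g]
  -- fixed vectors
  have hfix : ∀ u ∈ W, ∀ (s : ↥S) (v : Fin n → ℂ), B u (ρ (s : G) v) = B u v := by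
    intro u hu s v
    have hu' : ρ (s : G) u = u := (Representation.mem_invariants σ u).mp hu s
    conv_lhs => rw [← hu']
    exact hBinv _ _ _
  -- averaging
  let e : (Fin n → ℂ) → (Fin n → ℂ) := fun v => (Nat.card ↥S : ℂ)⁻¹ • ∑ s : ↥S, ρ (s : G) v
  have heW : ∀ v, e v ∈ W := by
    intro v
    rw [hW, Representation.mem_invariants]
    intro t
    simp only [e]
    rw [map_smul, map_sum]
    congr 1
    calc ∑ s : ↥S, σ t (ρ (s : G) v) = ∑ s : ↥S, ρ ((t * s : ↥S) : G) v := by
          refine Finset.sum_congr rfl (fun s _ => ?_)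
          rw [hσ, Subgroup.coe_mul, map_mul, Module.End.mul_apply]
      _ = ∑ s : ↥S, ρ (s : G) v :=
          Fintype.sum_equiv (Equiv.mulLeft t) _ _ (fun s => rfl)
  have hBe : ∀ u ∈ W, ∀ v, B u (e v) = B u v := by
    intro u hu v
    simp only [e]
    rw [map_smul, map_sum, Finset.sum_congr rfl (fun s _ => hfix u hu s v), Finset.sum_const,
      Finset.card_univ, smul_eq_mul, nsmul_eq_mul, ← Nat.card_eq_fintype_card]
    field_simp
  -- alternating
  have hAlt : ∀ u : Fin n → ℂ, B u u = 0 := by
    intro u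
    have h1 : B u u = - B u u := by
      rw [hB]
      calc u ⬝ᵥ A.mulVec u = A.mulVec u ⬝ᵥ u := dotProduct_comm _ _
        _ = Matrix.vecMul u A.transpose ⬝ᵥ u := by rw [Matrix.vecMul_transpose]
        _ = u ⬝ᵥ A.transpose.mulVec u := (Matrix.dotProduct_mulVec _ _ _).symm
        _ = - (u ⬝ᵥ A.mulVec u) := by rw [hAT, Matrix.neg_mulVec, dotProduct_neg]
    linear_combination (1 / 2 : ℂ) * h1
  let BW : LinearMap.BilinForm ℂ W := B.restrict W
  have hBW : ∀ x y : W, BW x y = B x y := fun x y => rfl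
  have hBWalt : BW.IsAlt := fun x => by rw [hBW]; exact hAlt x
  have hBWnd : BW.Nondegenerate := by
    refine (LinearMap.IsRefl.nondegenerate_iff_separatingLeft hBWalt.isRefl).mpr ?_
    intro x hx
    have h0 : ∀ v : Fin n → ℂ, B x v = 0 := by
      intro v
      rw [← hBe x x.2 v]
      exact hx ⟨e v, heW v⟩
    have h1 : Matrix.vecMul (x : Fin n → ℂ) A = 0 := by
      apply dotProduct_eq_zero
      intro w
      rw [← Matrix.dotProduct_mulVec]
      have := h0 w
      rwa [hB] at this
    have h2 : A.mulVec (x : Fin n → ℂ) = 0 := by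
      have h3 : A.transpose.mulVec (x : Fin n → ℂ) = 0 := by
        rw [Matrix.mulVec_transpose]; exact h1
      rw [hAT, Matrix.neg_mulVec, neg_eq_zero] at h3
      exact h3
    have h3 : (x : Fin n → ℂ) = 0 := hinj (by rw [h2, Matrix.mulVec_zero])
    exact Subtype.ext h3
  exact Cfsg.Agent.Lib.Helper13.even_finrank_of_isAlt_nondegenerate a BW hBWalt hBWnd hdim

end Cfsg.Agent.Lib.Helper20.DZReal
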