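import Mathlib
import Cfsg.Prelude.Def_GeometricClasses
import Cfsg.Agent.Lib.Helper11.MonoDefs

/-!
S5634 (case m = 1), leaf MWb1 `no_small_torus`: a torus element supported on three coordinates
cannot permute the lines of a frame of dense vectors unless it is trivial.
-/

set_option autoImplicit false
set_option linter.unusedSectionVars false

namespace Cfsg.Agent.Lib.Helper20.MonoLeaf
open Matrix Cfsg.Agent.Lib.Helper11.Mono

variable {F : Type*} [Field F] [Fintype F] {ι : Type} [Fintype ι] [DecidableEq ι]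

omit [DecidableEq ι] in
lemma wb1_exists_not_mem (S : Finset ι) (h : S.card < Fintype.card ι) : ∃ x, x ∉ S := by
  by_contra hcon
  push Not at hcon
  have : S = Finset.univ := Finset.eq_univ_iff_forall.mpr hcon
  rw [this, Finset.card_univ] at h
  exact lt_irrefl _ h

/-- greedy selection of an independent set for a fixed-point-free injection -/
lemma wb1_exists_indep_set (π : ι → ι) (hπ : Function.Injective π) (hfix : ∀ k, π k ≠ k) :
    ∀ m : ℕ, 3 * m ≤ Fintype.card ι + 2 →
      ∃ L : Finset ι, L.card = m ∧ ∀ x ∈ L, ∀ y ∈ L, π x ≠ y := by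
  intro m
  induction m with
  | zero =>
    intro _
    exact ⟨∅, rfl, fun x hx => absurd hx (Finset.notMem_empty x)⟩
  | succ m ih =>
    intro h
    obtain ⟨L, hL, hLp⟩ := ih (by omega)
    have hpre : (Finset.univ.filter (fun x => π x ∈ L)).card ≤ L.card :=
      Finset.card_le_card_of_injOn π (fun x hx => (Finset.mem_filter.mp hx).2) hπ.injOn
    have himg : (L.image π).card ≤ L.card := Finset.card_image_le
    obtain ⟨x, hx⟩ := wb1_exists_not_mem (L ∪ L.image π ∪ Finset.univ.filter (fun x => π x ∈ L)) (by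
      have h1 := Finset.card_union_le (L ∪ L.image π) (Finset.univ.filter (fun x => π x ∈ L))
      have h2 := Finset.card_union_le L (L.image π)
      omega)
    rw [Finset.mem_union, Finset.mem_union, not_or, not_or] at hx
    obtain ⟨⟨hx1, hx2⟩, hx3⟩ := hx
    have hx3' : π x ∉ L := fun hh => hx3 (Finset.mem_filter.mpr ⟨Finset.mem_univ _, hh⟩)
    refine ⟨insert x L, ?_, ?_⟩
    · rw [Finset.card_insert_of_notMem hx1, hL]
    · intro u hu v hv
      rw [Finset.mem_insert] at hu hv
      rcases hu with rfl | hu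
      · rcases hv with rfl | hv
        · exact hfix _
        · exact fun hh => hx3' (hh ▸ hv)
      · rcases hv with rfl | hv
        · exact fun hh => hx2 (Finset.mem_image.mpr ⟨u, hu, hh⟩)
        · exact hLp u hu v hv

omit [Fintype F] in
/-- a `3 × κ` matrix with `3 < card κ` has a non-trivial kernel vector -/
lemma wb1_exists_ker_vec {κ : Type} [Fintype κ] [DecidableEq κ] (h : 3 < Fintype.card κ)
    (N : Matrix (Fin 3) κ F) : ∃ t : κ → F, t ≠ 0 ∧ N *ᵥ t = 0 := by
  by_contra hcon
  push Not at hcon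
  have hinj : Function.Injective N.mulVecLin := by
    rw [← LinearMap.ker_eq_bot, LinearMap.ker_eq_bot']
    intro t ht
    by_contra h0
    exact hcon t h0 ht
  have := LinearMap.finrank_le_finrank_of_injective hinj
  rw [Module.finrank_fintype_fun_eq_card, Module.finrank_fintype_fun_eq_card, Fintype.card_fin] at this
  omega

omit [Fintype F] in
/-- a fixed frame line forces `s = 1` -/
lemma wb1_eq_one_of_fix (h10 : 10 ≤ Fintype.card ι) (B : GL ι F)
    (hdense : ∀ j c c', c ≠ c' → (B : Matrix ι ι F) c j = 0 → (B : Matrix ι ι F) c' j = 0 → False)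
    (s : ι → Fˣ) (a b c : ι) (hab : a ≠ b) (hac : a ≠ c) (hbc : b ≠ c)
    (hs : ∀ x, x ≠ a → x ≠ b → x ≠ c → s x = 1) (hprod : s a * s b * s c = 1)
    (k : ι) (c' : F)
    (hfix : ∀ x, (s x : F) * (B : Matrix ι ι F) x k = c' * (B : Matrix ι ι F) x k) : s = 1 := by
  obtain ⟨x1, hx1⟩ := wb1_exists_not_mem ({a, b, c} : Finset ι) (by
    have := Finset.card_le_three (a := a) (b := b) (c := c); omega)
  obtain ⟨x2, hx2⟩ := wb1_exists_not_mem ({a, b, c, x1} : Finset ι) (by
    have := Finset.card_le_four (a := a) (b := b) (c := c) (d := x1); omega)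
  simp only [Finset.mem_insert, Finset.mem_singleton, not_or] at hx1 hx2
  have hex : ∃ x, x ≠ a ∧ x ≠ b ∧ x ≠ c ∧ (B : Matrix ι ι F) x k ≠ 0 := by
    by_contra hcon
    push Not at hcon
    exact hdense k x1 x2 (fun hh => hx2.2.2.2 hh.symm) (hcon x1 hx1.1 hx1.2.1 hx1.2.2)
      (hcon x2 hx2.1 hx2.2.1 hx2.2.2.1)
  obtain ⟨x, hxa, hxb, hxc, hx0⟩ := hex
  have hc1 : c' = 1 := by
    have := hfix x
    rw [hs x hxa hxb hxc, Units.val_one, one_mul] at this
    have h2 : (1 : F) * (B : Matrix ι ι F) x k = c' * (B : Matrix ι ι F) x k := by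
      rw [one_mul]; exact this
    exact (mul_right_cancel₀ hx0 h2).symm
  have key : ∀ y, (B : Matrix ι ι F) y k ≠ 0 → s y = 1 := by
    intro y hy
    have := hfix y
    rw [hc1] at this
    have h2 := mul_right_cancel₀ hy this
    exact Units.ext (by rw [h2, Units.val_one])
  have habc : s a = 1 ∧ s b = 1 ∧ s c = 1 := by
    by_cases ha0 : (B : Matrix ι ι F) a k = 0
    · have hb0 : (B : Matrix ι ι F) b k ≠ 0 := fun hb0 => hdense k a b hab ha0 hb0
      have hc0 : (B : Matrix ι ι F) c k ≠ 0 := fun hc0 => hdense k a c hac ha0 hc0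
      have hb1 := key b hb0
      have hc1' := key c hc0
      rw [hb1, hc1', mul_one, mul_one] at hprod
      exact ⟨hprod, hb1, hc1'⟩
    · by_cases hb0 : (B : Matrix ι ι F) b k = 0
      · have hc0 : (B : Matrix ι ι F) c k ≠ 0 := fun hc0 => hdense k b c hbc hb0 hc0
        have ha1 := key a ha0
        have hc1' := key c hc0
        rw [ha1, hc1', mul_one, one_mul] at hprod
        exact ⟨ha1, hprod, hc1'⟩
      · have ha1 := key a ha0
        have hb1 := key b hb0
        rw [ha1, hb1, one_mul, one_mul] at hprod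
        exact ⟨ha1, hb1, hprod⟩
  funext y
  by_cases hya : y = a
  · rw [hya]; exact habc.1
  by_cases hyb : y = b
  · rw [hyb]; exact habc.2.1
  by_cases hyc : y = c
  · rw [hyc]; exact habc.2.2
  exact hs y hya hyb hyc

/-- MWb1: a non-trivial torus element supported on three coordinates cannot permute the lines of
a frame of dense vectors. -/
theorem no_small_torus (h10 : 10 ≤ Fintype.card ι) (B : GL ι F)
    (hdense : ∀ j c c', c ≠ c' → (B : Matrix ι ι F) c j = 0 → (B : Matrix ι ι F) c' j = 0 → False)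
    (s : ι → Fˣ) (a b c : ι) (hab : a ≠ b) (hac : a ≠ c) (hbc : b ≠ c)
    (hs : ∀ x, x ≠ a → x ≠ b → x ≠ c → s x = 1) (hprod : s a * s b * s c = 1)
    (hperm : ∀ k, ∃ k' : ι, ∃ c' : F,
      ((dg s : GL ι F) : Matrix ι ι F) *ᵥ col (B : Matrix ι ι F) k = c' • col (B : Matrix ι ι F) k') :
    s = 1 := by
  by_contra hne
  have hperm' : ∀ k, ∃ k' : ι, ∃ c' : F, ∀ x,
      (s x : F) * (B : Matrix ι ι F) x k = c' * (B : Matrix ι ι F) x k' := by
    intro k
    obtain ⟨k', c', h⟩ := hperm k
    refine ⟨k', c', fun x => ?_⟩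
    have := congrFun h x
    rw [dg_mulVec] at this
    simpa [Matrix.col_apply, Pi.smul_apply] using this
  choose π cc hπ using hperm'
  have hnofix : ∀ k, π k ≠ k := by
    intro k hk
    apply hne
    refine wb1_eq_one_of_fix h10 B hdense s a b c hab hac hbc hs hprod k (cc k) (fun x => ?_)
    have := hπ k x
    rwa [hk] at this
  have hBiB : ∀ i j, ∑ x, ((B⁻¹ : GL ι F) : Matrix ι ι F) i x * (B : Matrix ι ι F) x j
      = if i = j then 1 else 0 := by
    intro i j
    have h1 : ((B⁻¹ : GL ι F) : Matrix ι ι F) * (B : Matrix ι ι F) = 1 := by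
      rw [← Units.val_mul, inv_mul_cancel, Units.val_one]
    have := congrFun (congrFun h1 i) j
    rw [Matrix.mul_apply, Matrix.one_apply] at this
    exact this
  have hcc : ∀ k, cc k ≠ 0 := by
    intro k h0
    have hz : ∀ x, (B : Matrix ι ι F) x k = 0 := by
      intro x
      have := hπ k x
      rw [h0, zero_mul] at this
      rcases mul_eq_zero.mp this with h | h
      · exact absurd h (Units.ne_zero _)
      · exact h
    exact hdense k a b hab (hz a) (hz b)
  have hinj : Function.Injective π := by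
    intro k k' hkk
    by_contra hne'
    have h1 : ∀ x, cc k' * (B : Matrix ι ι F) x k = cc k * (B : Matrix ι ι F) x k' := by
      intro x
      have e1 := hπ k x
      have e2 := hπ k' x
      rw [← hkk] at e2
      apply mul_left_cancel₀ (Units.ne_zero (s x))
      linear_combination (cc k') * e1 - (cc k) * e2
    have h2 : cc k' = 0 := by
      have e1 := hBiB k k
      have e2 := hBiB k k'
      rw [if_pos rfl] at e1
      rw [if_neg hne'] at e2
      calc cc k' = cc k' * ∑ x, ((B⁻¹ : GL ι F) : Matrix ι ι F) k x * (B : Matrix ι ι F) x k := by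
            rw [e1, mul_one]
        _ = ∑ x, ((B⁻¹ : GL ι F) : Matrix ι ι F) k x * (cc k' * (B : Matrix ι ι F) x k) := by
            rw [Finset.mul_sum]; apply Finset.sum_congr rfl; intros; ring
        _ = ∑ x, ((B⁻¹ : GL ι F) : Matrix ι ι F) k x * (cc k * (B : Matrix ι ι F) x k') := by
            apply Finset.sum_congr rfl; intro x _; rw [h1 x]
        _ = cc k * ∑ x, ((B⁻¹ : GL ι F) : Matrix ι ι F) k x * (B : Matrix ι ι F) x k' := by
            rw [Finset.mul_sum]; apply Finset.sum_congr rfl; intros; ring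
        _ = 0 := by rw [e2, mul_zero]
    exact hcc k' h2
  obtain ⟨L, hLcard, hLp⟩ := wb1_exists_indep_set π hinj hnofix 4 (by omega)
  let abc : Fin 3 → ι := ![a, b, c]
  let N : Matrix (Fin 3) L F := fun y l => ((s (abc y) : F) - 1) * (B : Matrix ι ι F) (abc y) l
  obtain ⟨t, ht0, htN⟩ := wb1_exists_ker_vec (F := F) (κ := L) (by
    rw [Fintype.card_coe, hLcard]; omega) N
  have hall : ∀ y : ι, ∑ l : L, (((s y : F) - 1) * (B : Matrix ι ι F) y l) * t l = 0 := by
    intro y
    by_cases hya : y = a
    · have := congrFun htN 0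
      rw [hya]
      simpa [Matrix.mulVec, dotProduct, N, abc] using this
    by_cases hyb : y = b
    · have := congrFun htN 1
      rw [hyb]
      simpa [Matrix.mulVec, dotProduct, N, abc] using this
    by_cases hyc : y = c
    · have := congrFun htN 2
      rw [hyc]
      simpa [Matrix.mulVec, dotProduct, N, abc] using this
    apply Finset.sum_eq_zero
    intro l _
    rw [hs y hya hyb hyc, Units.val_one, sub_self, zero_mul, zero_mul]
  have hall' : ∀ y : ι, ∑ l : L, (cc l * (B : Matrix ι ι F) y (π l) - (B : Matrix ι ι F) y l) * t l = 0 := by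
    intro y
    rw [← hall y]
    apply Finset.sum_congr rfl
    intro l _
    rw [← hπ l y]
    ring
  apply ht0
  funext l0
  have hsum : ∑ y, ((B⁻¹ : GL ι F) : Matrix ι ι F) l0 y *
      ∑ l : L, (cc l * (B : Matrix ι ι F) y (π l) - (B : Matrix ι ι F) y l) * t l = 0 := by
    apply Finset.sum_eq_zero
    intro y _
    rw [hall' y, mul_zero]
  have hterm : ∀ l : L, ∑ y, ((B⁻¹ : GL ι F) : Matrix ι ι F) l0 y *
      ((cc l * (B : Matrix ι ι F) y (π l) - (B : Matrix ι ι F) y l) * t l)
      = t l * (cc l * (∑ y, ((B⁻¹ : GL ι F) : Matrix ι ι F) l0 y * (B : Matrix ι ι F) y (π l))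
        - ∑ y, ((B⁻¹ : GL ι F) : Matrix ι ι F) l0 y * (B : Matrix ι ι F) y l) := by
    intro l
    rw [Finset.mul_sum, ← Finset.sum_sub_distrib, Finset.mul_sum]
    apply Finset.sum_congr rfl
    intros
    ring
  simp only [Finset.mul_sum] at hsum
  rw [Finset.sum_comm] at hsum
  simp only [hterm, hBiB] at hsum
  rw [Finset.sum_eq_single l0] at hsum
  · rw [if_pos rfl, if_neg (fun hh => hLp l0 l0.2 l0 l0.2 hh.symm)] at hsum
    have : t l0 * (cc l0 * 0 - 1) = - t l0 := by ring
    rw [this, neg_eq_zero] at hsum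
    exact hsum
  · intro l _ hl
    rw [if_neg (fun hh => hLp l l.2 l0 l0.2 hh.symm), if_neg (fun hh => hl (Subtype.ext hh.symm))]
    ring
  · intro h
    exact absurd (Finset.mem_univ l0) h

end Cfsg.Agent.Lib.Helper20.MonoLeaf
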