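import Mathlib

/-!
# S4840 leaf (T5a) (planner helper1): quaternion relations on an elementary abelian 3-group.
`s := α + β` (written multiplicatively) is an involution; its `+1`-eigenspace `W` has `|W|² = |V|`.
-/

set_option autoImplicit false

universe v

namespace Cfsg.Agent.Lib.Helper20.Gag

section

variable {V : Type v} [CommGroup V]

/-- the fixed points of an endomorphism -/
def fixSub (s : V →* V) : Subgroup V where
  carrier := {v | s v = v}
  one_mem' := map_one s
  mul_mem' := by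
    intro a b ha hb
    simp only [Set.mem_ofPred_eq] at ha hb ⊢
    rw [map_mul, ha, hb]
  inv_mem' := by
    intro a ha
    simp only [Set.mem_ofPred_eq] at ha ⊢
    rw [map_inv, ha]

/-- the inverted points of an endomorphism -/
def negSub (s : V →* V) : Subgroup V where
  carrier := {v | s v = v⁻¹}
  one_mem' := by simp
  mul_mem' := by
    intro a b ha hb
    simp only [Set.mem_ofPred_eq] at ha hb ⊢
    rw [map_mul, ha, hb, mul_inv]
  inv_mem' := by
    intro a ha
    simp only [Set.mem_ofPred_eq] at ha ⊢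
    rw [map_inv, ha]

theorem mem_fixSub {s : V →* V} {v : V} : v ∈ fixSub s ↔ s v = v := Iff.rfl

theorem mem_negSub {s : V →* V} {v : V} : v ∈ negSub s ↔ s v = v⁻¹ := Iff.rfl

/-- an involutory endomorphism of a group of exponent 3 splits it as `fix × neg`. -/
theorem card_fix_mul_card_neg [Finite V] (hexp : ∀ v : V, v ^ 3 = 1) (s : V →* V)
    (hs : ∀ v, s (s v) = v) :
    Nat.card (fixSub s) * Nat.card (negSub s) = Nat.card V := by
  have hcube : ∀ v : V, v⁻¹ * v⁻¹ = v := by
    intro v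
    have h := hexp v
    have : v⁻¹ * v⁻¹ = v ^ 3 * (v⁻¹ * v⁻¹) := by rw [h, one_mul]
    rw [this, pow_succ, pow_two]
    group
  rw [← Nat.card_prod]
  apply Nat.card_congr
  refine Equiv.ofBijective (fun x => (x.1 : V) * (x.2 : V)) ⟨?_, ?_⟩
  · rintro ⟨⟨a, ha⟩, ⟨b, hb⟩⟩ ⟨⟨c, hc⟩, ⟨d, hd⟩⟩ h
    simp only at h
    rw [mem_fixSub] at ha hc
    rw [mem_negSub] at hb hd
    -- a b = c d ; apply s : a b⁻¹ = c d⁻¹
    have h2 : a * b⁻¹ = c * d⁻¹ := by
      have := congrArg s h
      rwa [map_mul, map_mul, ha, hb, hc, hd] at this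
    -- multiply: a² = c²
    have h3 : a * a = c * c := by
      have : (a * b) * (a * b⁻¹) = (c * d) * (c * d⁻¹) := by rw [h, h2]
      calc a * a = (a * b) * (a * b⁻¹) := by
            rw [mul_mul_mul_comm, mul_inv_cancel, mul_one]
        _ = (c * d) * (c * d⁻¹) := this
        _ = c * c := by rw [mul_mul_mul_comm, mul_inv_cancel, mul_one]
    have hac : a = c := by
      have h4 : a⁻¹ * a⁻¹ = c⁻¹ * c⁻¹ := by
        rw [← mul_inv, ← mul_inv, h3]
      rw [hcube, hcube] at h4
      exact h4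
    subst hac
    have hbd : b = d := mul_left_cancel h
    subst hbd
    rfl
  · intro v
    have h1 : (v * s v)⁻¹ ∈ fixSub s := by
      rw [mem_fixSub, map_inv, map_mul, hs, mul_comm]
    have h2 : (v * (s v)⁻¹)⁻¹ ∈ negSub s := by
      rw [mem_negSub, map_inv, map_mul, map_inv, hs, inv_inv, mul_inv, inv_inv, mul_comm]
    refine ⟨(⟨_, h1⟩, ⟨_, h2⟩), ?_⟩
    simp only
    calc (v * s v)⁻¹ * (v * (s v)⁻¹)⁻¹ = v⁻¹ * v⁻¹ := by
          rw [mul_inv, mul_inv, inv_inv, mul_mul_mul_comm, inv_mul_cancel, mul_one]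
      _ = v := hcube v

end

/-- (T5a) quaternion relations on an elementary abelian `3`-group: the `+1`-eigenspace `W` of `α + β` has
`|W|² = |V|` and is stable under everything commuting with `α` and `β`. -/
theorem exists_half_subgroup {V : Type v} [CommGroup V] [Finite V] (hexp : ∀ v : V, v ^ 3 = 1)
    (α β : MulAut V) (hα : ∀ v, α (α v) = v⁻¹) (hβ : ∀ v, β (β v) = v⁻¹)
    (hαβ : ∀ v, β (α v) = (α (β v))⁻¹) :
    ∃ W : Subgroup V, Nat.card W * Nat.card W = Nat.card V ∧
      ∀ γ : MulAut V, (∀ v, γ (α v) = α (γ v)) → (∀ v, γ (β v) = β (γ v)) → ∀ w ∈ W, γ w ∈ W := by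
  have hcube : ∀ v : V, v⁻¹ * v⁻¹ = v := by
    intro v
    have h := hexp v
    have : v⁻¹ * v⁻¹ = v ^ 3 * (v⁻¹ * v⁻¹) := by rw [h, one_mul]
    rw [this, pow_succ, pow_two]
    group
  obtain ⟨s, hsdef⟩ : ∃ s : V →* V, ∀ v, s v = α v * β v :=
    ⟨α.toMonoidHom * β.toMonoidHom, fun v => rfl⟩
  -- s is an involution
  have hs : ∀ v, s (s v) = v := by
    intro v
    rw [hsdef v, hsdef (α v * β v), map_mul, map_mul, hα, hβ, hαβ v]
    calc v⁻¹ * α (β v) * ((α (β v))⁻¹ * v⁻¹) = v⁻¹ * v⁻¹ := by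
          rw [mul_assoc, mul_inv_cancel_left]
      _ = v := hcube v
  -- δ := α ∘ β anticommutes with s
  have hβαβ : ∀ v, β (α (β v)) = α v := by
    intro v
    rw [hαβ (β v), hβ, map_inv, inv_inv]
  have hsδ : ∀ v, s (α (β v)) = (α (β (s v)))⁻¹ := by
    intro v
    rw [hsdef (α (β v)), hα, hβαβ, hsdef v, map_mul, map_mul, hβ, hαβ v, map_inv, map_inv, hα,
      inv_inv, mul_inv, inv_inv, mul_comm]
  have hcard := card_fix_mul_card_neg hexp s hs
  -- |fix| = |neg| through δ
  have h1 : Nat.card (fixSub s) ≤ Nat.card (negSub s) := by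
    apply Nat.card_le_card_of_injective
      (fun w : fixSub s => (⟨α (β (w : V)), by
        rw [mem_negSub, hsδ, mem_fixSub.mp w.2]⟩ : negSub s))
    intro a b hab
    have := congrArg Subtype.val hab
    simp only at this
    exact Subtype.ext (β.injective (α.injective this))
  have h2 : Nat.card (negSub s) ≤ Nat.card (fixSub s) := by
    apply Nat.card_le_card_of_injective
      (fun w : negSub s => (⟨α (β (w : V)), by
        rw [mem_fixSub, hsδ, mem_negSub.mp w.2, map_inv, map_inv, inv_inv]⟩ : fixSub s))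
    intro a b hab
    have := congrArg Subtype.val hab
    simp only at this
    exact Subtype.ext (β.injective (α.injective this))
  refine ⟨fixSub s, ?_, ?_⟩
  · rw [← hcard, le_antisymm h2 h1]
  · intro γ hγα hγβ w hw
    rw [mem_fixSub] at hw ⊢
    rw [hsdef, ← hγα, ← hγβ, ← map_mul, ← hsdef, hw]

end Cfsg.Agent.Lib.Helper20.Gag
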