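import Mathlib

/-!
# S4840 leaf (T5b) (planner helper1): a subgroup acting semiregularly on the non-identity elements of a
stable subgroup `W` has order dividing `|W| - 1`.
-/

set_option autoImplicit false

universe u v

namespace Cfsg.Agent.Lib.Helper20.Gag

/-- (T5b) a subgroup acting semiregularly on the non-identity elements of a stable subgroup `W`. -/
theorem card_dvd_card_sub_one_of_semiregular {X : Type u} [Group X] {V : Type v} [CommGroup V]
    [Finite V] (φ : X →* MulAut V) (Q : Subgroup X) [Finite Q] (W : Subgroup V)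
    (hstab : ∀ q ∈ Q, ∀ w ∈ W, φ q w ∈ W)
    (hfree : ∀ q ∈ Q, q ≠ 1 → ∀ w ∈ W, φ q w = w → w = 1) :
    Nat.card Q ∣ Nat.card W - 1 := by
  classical
  let _ : MulAction Q {w : W // w ≠ 1} :=
    { smul := fun q w => ⟨⟨φ (q : X) ((w : W) : V), hstab q q.2 _ (w : W).2⟩, fun h => w.2 (by
        have h1 : φ (q : X) ((w : W) : V) = 1 := congrArg Subtype.val h
        have h2 : ((w : W) : V) = 1 := by
          have := (φ (q : X)).injective (h1.trans (map_one _).symm)
          exact this
        exact Subtype.ext h2)⟩
      one_smul := by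
        intro w
        apply Subtype.ext
        apply Subtype.ext
        change φ ((1 : Q) : X) ((w : W) : V) = ((w : W) : V)
        rw [Subgroup.coe_one, map_one, MulAut.one_apply]
      mul_smul := by
        intro a b w
        apply Subtype.ext
        apply Subtype.ext
        change φ ((a * b : Q) : X) ((w : W) : V) = φ (a : X) (φ (b : X) ((w : W) : V))
        rw [Subgroup.coe_mul, map_mul, MulAut.mul_apply] }
  have hsmul : ∀ (q : Q) (w : {w : W // w ≠ 1}), (((q • w : {w : W // w ≠ 1}) : W) : V) =
      φ (q : X) ((w : W) : V) := fun q w => rfl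
  have hstab' : ∀ w : {w : W // w ≠ 1}, MulAction.stabilizer Q w = ⊥ := by
    intro w
    rw [eq_bot_iff]
    intro q hq
    rw [MulAction.mem_stabilizer_iff] at hq
    rw [Subgroup.mem_bot]
    by_contra hne
    have h1 : φ (q : X) ((w : W) : V) = ((w : W) : V) := by
      rw [← hsmul, hq]
    have hq1 : (q : X) ≠ 1 := fun h => hne (Subtype.ext h)
    have := hfree q q.2 hq1 _ (w : W).2 h1
    exact w.2 (Subtype.ext this)
  have hcard : Nat.card {w : W // w ≠ 1} = Nat.card W - 1 := by
    have h1 : Nat.card {w : W // w ≠ 1} = Set.ncard ({(1 : W)}ᶜ : Set W) := by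
      rw [← Nat.card_coe_set_eq]
      rfl
    rw [h1, Set.ncard_compl, Set.ncard_singleton]
  rw [← hcard, Nat.card_congr (MulAction.selfEquivOrbitsQuotientProd hstab'), Nat.card_prod]
  exact dvd_mul_left _ _

end Cfsg.Agent.Lib.Helper20.Gag
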