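import Mathlib

/-!
# S4840 leaf (T5c) (planner helper1): the arithmetic contradiction for `p = 3`, `R ≅ Q₈`, index 24.
-/

set_option autoImplicit false

namespace Cfsg.Agent.Lib.Helper20.Gag

/-- (T5c) the arithmetic contradiction: `24 c = (m² - 1) 3^a`, `m = 3^t`, the `3'`-part of `c` divides `m - 1`
(given prime by prime), and `c` is even. -/
theorem arith_quat_three (m t c a : ℕ) (hm : m = 3 ^ t) (hc0 : c ≠ 0)
    (hc : 24 * c = (m * m - 1) * 3 ^ a)
    (hdvd : ∀ r : ℕ, r.Prime → r ≠ 3 → r ^ c.factorization r ∣ m - 1) (h2 : 2 ∣ c) : False := by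
  -- t ≠ 0
  have ht : t ≠ 0 := by
    rintro rfl
    rw [pow_zero] at hm
    subst hm
    simp at hc
    exact hc0 hc
  obtain ⟨t', rfl⟩ : ∃ t', t = t' + 1 := ⟨t - 1, by omega⟩
  have hm3 : 3 ≤ m := by
    rw [hm, pow_succ]
    have : 1 ≤ 3 ^ t' := Nat.one_le_pow _ _ (by norm_num)
    omega
  have h3m : 3 ∣ m := by rw [hm, pow_succ]; exact dvd_mul_left _ _
  have hmm : 9 ≤ m * m := by nlinarith
  -- 3 ∤ m² - 1
  have h3N : ¬ 3 ∣ m * m - 1 := by
    intro h
    have h1 : 3 ∣ m * m := Dvd.dvd.mul_right h3m m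
    have h3 : 3 ∣ m * m - (m * m - 1) := Nat.dvd_sub h1 h
    have : m * m - (m * m - 1) = 1 := by omega
    rw [this] at h3
    omega
  -- the 3'-part of c divides m - 1
  have hm1 : m - 1 ≠ 0 := by omega
  have hc'0 : c / 3 ^ c.factorization 3 ≠ 0 := (Nat.ordCompl_pos 3 hc0).ne'
  have hc'dvd : c / 3 ^ c.factorization 3 ∣ m - 1 := by
    rw [← Nat.factorization_le_iff_dvd hc'0 hm1, Nat.factorization_ordCompl]
    intro r
    by_cases hr3 : r = 3
    · subst hr3
      simp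
    · rw [Finsupp.erase_ne hr3]
      by_cases hr : r.Prime
      · exact (hr.pow_dvd_iff_le_factorization hm1).1 (hdvd r hr hr3)
      · rw [Nat.factorization_eq_zero_of_not_prime c hr]
        exact Nat.zero_le _
  -- m² - 1 ∣ 8 c'
  have hcsplit : c = 3 ^ c.factorization 3 * (c / 3 ^ c.factorization 3) :=
    (Nat.ordProj_mul_ordCompl_eq_self c 3).symm
  have hNdvd : m * m - 1 ∣ 8 * (c / 3 ^ c.factorization 3) := by
    have h1 : m * m - 1 ∣ 3 ^ (c.factorization 3 + 1) * (8 * (c / 3 ^ c.factorization 3)) := by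
      have : 3 ^ (c.factorization 3 + 1) * (8 * (c / 3 ^ c.factorization 3)) = 24 * c := by
        conv_rhs => rw [hcsplit]
        rw [pow_succ]
        ring
      rw [this, hc]
      exact dvd_mul_right _ _
    have hcop : Nat.Coprime (m * m - 1) (3 ^ (c.factorization 3 + 1)) := by
      apply Nat.Coprime.pow_right
      exact ((Nat.Prime.coprime_iff_not_dvd Nat.prime_three).2 h3N).symm
    exact hcop.dvd_of_dvd_mul_left h1
  -- m + 1 ∣ 8
  have hfac : m * m - 1 = (m - 1) * (m + 1) := by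
    obtain ⟨k, rfl⟩ : ∃ k, m = k + 1 := ⟨m - 1, by omega⟩
    simp only [Nat.add_sub_cancel]
    have : (k + 1) * (k + 1) = k * (k + 1 + 1) + 1 := by ring
    rw [this, Nat.add_sub_cancel]
  have h8 : m + 1 ∣ 8 := by
    have h1 : (m - 1) * (m + 1) ∣ (m - 1) * 8 := by
      rw [← hfac]
      calc m * m - 1 ∣ 8 * (c / 3 ^ c.factorization 3) := hNdvd
        _ ∣ 8 * (m - 1) := Nat.mul_dvd_mul_left 8 hc'dvd
        _ = (m - 1) * 8 := mul_comm _ _
    exact Nat.dvd_of_mul_dvd_mul_left (by omega) h1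
  have hle : m + 1 ≤ 8 := Nat.le_of_dvd (by norm_num) h8
  -- m = 3
  have ht' : t' = 0 := by
    by_contra h
    obtain ⟨t'', rfl⟩ : ∃ t'', t' = t'' + 1 := ⟨t' - 1, by omega⟩
    have : 9 ≤ m := by
      rw [hm, pow_succ, pow_succ]
      have : 1 ≤ 3 ^ t'' := Nat.one_le_pow _ _ (by norm_num)
      omega
    omega
  subst ht'
  have hm' : m = 3 := by rw [hm]; norm_num
  subst hm'
  -- 24 c = 8 * 3^a, so c is a power of 3
  have hc3 : 3 * c = 3 ^ a := by
    have : 8 * (3 * c) = 8 * 3 ^ a := by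
      have h' : (3 * 3 - 1 : ℕ) = 8 := by norm_num
      rw [h'] at hc
      rw [← hc]; ring
    exact Nat.eq_of_mul_eq_mul_left (by norm_num) this
  have hcdvd : c ∣ 3 ^ a := by rw [← hc3]; exact dvd_mul_left _ _
  obtain ⟨j, -, rfl⟩ := (Nat.dvd_prime_pow Nat.prime_three).1 hcdvd
  have := Nat.Prime.dvd_of_dvd_pow Nat.prime_two h2
  omega

end Cfsg.Agent.Lib.Helper20.Gag
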