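import Mathlib

/-!
Helper lemmas (helper20): groups generated by `x, y` with central commutator `z` of prime order
and `x ^ p, y ^ p ∈ ⟨z⟩` are determined by the exponents; gluing isomorphisms over central products.
-/

set_option autoImplicit false

namespace Cfsg.Agent.Lib.Helper20.ES

/-- `x, y` have central commutator `z` with `z ^ p = 1`, `x ^ p = z ^ α`, `y ^ p = z ^ β` -/
structure P3Data (p α β : ℕ) {E : Type*} [Group E] (x y z : E) : Prop where
  z_ne : z ≠ 1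
  z_pow : z ^ p = 1
  zx : Commute z x
  zy : Commute z y
  comm : x * y * x⁻¹ * y⁻¹ = z
  x_pow : x ^ p = z ^ α
  y_pow : y ^ p = z ^ β

namespace P3Data

variable {p α β : ℕ} {E : Type*} [Group E] {x y z : E}

theorem swap (h : P3Data p α β x y z) (a b : ℤ) :
    y ^ b * x ^ a = z ^ (-(b * a)) * x ^ a * y ^ b := by
  have h1 : SemiconjBy x y (z * y) := by
    show x * y = z * y * x
    rw [← h.comm]; group
  have h2 : SemiconjBy x (y ^ b) (z ^ b * y ^ b) := by
    have := h1.zpow_right b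
    rwa [h.zy.mul_zpow] at this
  have h3 : SemiconjBy (y ^ b) x (z ^ (-b) * x) := by
    show y ^ b * x = z ^ (-b) * x * y ^ b
    have e : x * y ^ b = z ^ b * y ^ b * x := h2
    have hc : Commute (z ^ (-b)) x := h.zx.zpow_left _
    calc y ^ b * x = z ^ (-b) * (z ^ b * y ^ b * x) := by rw [zpow_neg]; group
      _ = z ^ (-b) * (x * y ^ b) := by rw [e]
      _ = z ^ (-b) * x * y ^ b := by rw [mul_assoc]
  have h4 := h3.zpow_right a
  have hc : Commute (z ^ (-b)) x := h.zx.zpow_left _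
  rw [hc.mul_zpow, ← zpow_mul] at h4
  have : (-b) * a = -(b * a) := by ring
  rw [this] at h4
  exact h4

theorem z_mul_nf (h : P3Data p α β x y z) (k a b c : ℤ) :
    z ^ k * (x ^ a * y ^ b * z ^ c) = x ^ a * y ^ b * z ^ (k + c) := by
  have hc : Commute (z ^ k) (x ^ a * y ^ b) :=
    (h.zx.zpow_zpow k a).mul_right (h.zy.zpow_zpow k b)
  rw [← mul_assoc, hc.eq, mul_assoc, ← zpow_add]

theorem y_zpow_mul_nf (h : P3Data p α β x y z) (m a b c : ℤ) :
    y ^ m * (x ^ a * y ^ b * z ^ c) = x ^ a * y ^ (m + b) * z ^ (-(m * a) + c) := by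
  calc y ^ m * (x ^ a * y ^ b * z ^ c) = (y ^ m * x ^ a) * y ^ b * z ^ c := by group
    _ = z ^ (-(m * a)) * x ^ a * y ^ m * y ^ b * z ^ c := by rw [h.swap a m]
    _ = z ^ (-(m * a)) * (x ^ a * y ^ (m + b) * z ^ c) := by rw [zpow_add]; group
    _ = x ^ a * y ^ (m + b) * z ^ (-(m * a) + c) := h.z_mul_nf _ _ _ _

theorem x_zpow_mul_nf (m a b c : ℤ) :
    x ^ m * (x ^ a * y ^ b * z ^ c) = x ^ (m + a) * y ^ b * z ^ c := by
  rw [zpow_add]; group

theorem exists_normal_form (h : P3Data p α β x y z) {g : E}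
    (hg : g ∈ Subgroup.closure ({x, y} : Set E)) : ∃ a b c : ℤ, g = x ^ a * y ^ b * z ^ c := by
  induction hg using Subgroup.closure_induction_left with
  | one => exact ⟨0, 0, 0, by simp⟩
  | mul_left u hu g _ ih =>
    obtain ⟨a, b, c, rfl⟩ := ih
    rcases hu with rfl | hu
    · refine ⟨1 + a, b, c, ?_⟩
      have := x_zpow_mul_nf (x := u) (y := y) (z := z) 1 a b c
      rwa [zpow_one] at this
    · rw [Set.mem_singleton_iff] at hu
      subst hu
      refine ⟨a, 1 + b, -(1 * a) + c, ?_⟩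
      have := h.y_zpow_mul_nf 1 a b c
      rwa [zpow_one] at this
  | inv_mul_cancel u hu g _ ih =>
    obtain ⟨a, b, c, rfl⟩ := ih
    rcases hu with rfl | hu
    · refine ⟨-1 + a, b, c, ?_⟩
      have := x_zpow_mul_nf (x := u) (y := y) (z := z) (-1) a b c
      rwa [zpow_neg_one] at this
    · rw [Set.mem_singleton_iff] at hu
      subst hu
      refine ⟨a, -1 + b, -(-1 * a) + c, ?_⟩
      have := h.y_zpow_mul_nf (-1) a b c
      rwa [zpow_neg_one] at this

theorem orderOf_z [hp : Fact p.Prime] (h : P3Data p α β x y z) : orderOf z = p :=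
  orderOf_eq_prime h.z_pow h.z_ne

theorem dvd_of_nf_eq_one [hp : Fact p.Prime] (h : P3Data p α β x y z) {a b c : ℤ}
    (h1 : x ^ a * y ^ b * z ^ c = 1) : (p : ℤ) ∣ a ∧ (p : ℤ) ∣ b := by
  constructor
  · have hxa : x ^ a = z ^ (-c) * y ^ (-b) := by
      have : x ^ a = (y ^ b * z ^ c)⁻¹ := by
        rw [eq_inv_iff_mul_eq_one, ← mul_assoc]; exact h1
      rw [this, mul_inv_rev, zpow_neg, zpow_neg]
    have hcomm : Commute y (x ^ a) := by
      rw [hxa]
      exact (h.zy.symm.zpow_right _).mul_right ((Commute.refl y).zpow_right _)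
    have hs := h.swap a 1
    rw [zpow_one, one_mul] at hs
    have hz : z ^ (-a) = 1 := by
      have : z ^ (-a) * (x ^ a * y) = 1 * (x ^ a * y) := by
        rw [← mul_assoc, ← hs, one_mul]; exact hcomm.eq
      exact mul_right_cancel this
    rw [zpow_neg, inv_eq_one] at hz
    rw [← h.orderOf_z]
    exact orderOf_dvd_iff_zpow_eq_one.mpr hz
  · have hyb : y ^ b = x ^ (-a) * z ^ (-c) := by
      have : y ^ b = (x ^ a)⁻¹ * (x ^ a * y ^ b * z ^ c) * (z ^ c)⁻¹ := by group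
      rw [h1, mul_one] at this
      rw [this, zpow_neg, zpow_neg]
    have hcomm : Commute (y ^ b) x := by
      rw [hyb]
      exact ((Commute.refl x).zpow_left _).mul_left (h.zx.zpow_left _)
    have hs := h.swap 1 b
    rw [zpow_one, mul_one] at hs
    have hz : z ^ (-b) = 1 := by
      have : z ^ (-b) * (x * y ^ b) = 1 * (x * y ^ b) := by
        rw [← mul_assoc, ← hs, one_mul]; exact hcomm.eq
      exact mul_right_cancel this
    rw [zpow_neg, inv_eq_one] at hz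
    rw [← h.orderOf_z]
    exact orderOf_dvd_iff_zpow_eq_one.mpr hz

theorem nf_of_dvd (h : P3Data p α β x y z) (a' b' c : ℤ) :
    x ^ ((p : ℤ) * a') * y ^ ((p : ℤ) * b') * z ^ c = z ^ ((α : ℤ) * a' + (β : ℤ) * b' + c) := by
  rw [zpow_mul, zpow_mul, zpow_natCast, zpow_natCast, h.x_pow, h.y_pow, ← zpow_natCast z α,
    ← zpow_natCast z β, ← zpow_mul, ← zpow_mul, ← zpow_add, ← zpow_add]

theorem nf_eq_one_transfer [hp : Fact p.Prime] {F : Type*} [Group F] {x' y' z' : F}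
    (h : P3Data p α β x y z) (h' : P3Data p α β x' y' z') {a b c : ℤ}
    (h1 : x ^ a * y ^ b * z ^ c = 1) : x' ^ a * y' ^ b * z' ^ c = 1 := by
  obtain ⟨⟨a', rfl⟩, ⟨b', rfl⟩⟩ := h.dvd_of_nf_eq_one h1
  rw [h.nf_of_dvd] at h1
  rw [h'.nf_of_dvd]
  have hd : (p : ℤ) ∣ (α : ℤ) * a' + (β : ℤ) * b' + c := by
    rw [← h.orderOf_z]
    exact orderOf_dvd_iff_zpow_eq_one.mpr h1
  obtain ⟨k, hk⟩ := hd
  rw [hk, zpow_mul, zpow_natCast, h'.z_pow, one_zpow]

theorem z_mem (h : P3Data p α β x y z) : z ∈ Subgroup.closure ({x, y} : Set E) := by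
  have hx : x ∈ Subgroup.closure ({x, y} : Set E) := Subgroup.subset_closure (by simp)
  have hy : y ∈ Subgroup.closure ({x, y} : Set E) := Subgroup.subset_closure (by simp)
  rw [← h.comm]
  exact Subgroup.mul_mem _ (Subgroup.mul_mem _ (Subgroup.mul_mem _ hx hy) (Subgroup.inv_mem _ hx))
    (Subgroup.inv_mem _ hy)

theorem prod {F : Type*} [Group F] {x' y' z' : F} (h : P3Data p α β x y z)
    (h' : P3Data p α β x' y' z') :
    P3Data p α β ((x, x') : E × F) (y, y') (z, z') where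
  z_ne := fun hz => h.z_ne (congrArg Prod.fst hz)
  z_pow := by rw [Prod.pow_mk, h.z_pow, h'.z_pow]; rfl
  zx := by
    show (z, z') * (x, x') = (x, x') * (z, z')
    rw [Prod.mk_mul_mk, Prod.mk_mul_mk, h.zx.eq, h'.zx.eq]
  zy := by
    show (z, z') * (y, y') = (y, y') * (z, z')
    rw [Prod.mk_mul_mk, Prod.mk_mul_mk, h.zy.eq, h'.zy.eq]
  comm := by
    rw [Prod.inv_mk, Prod.inv_mk, Prod.mk_mul_mk, Prod.mk_mul_mk, Prod.mk_mul_mk, h.comm, h'.comm]
  x_pow := by rw [Prod.pow_mk, Prod.pow_mk, h.x_pow, h'.x_pow]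
  y_pow := by rw [Prod.pow_mk, Prod.pow_mk, h.y_pow, h'.y_pow]

theorem graph_fst_eq_one_iff [hp : Fact p.Prime] {F : Type*} [Group F] {x' y' z' : F}
    (h : P3Data p α β x y z) (h' : P3Data p α β x' y' z') {w : E × F}
    (hw : w ∈ Subgroup.closure ({(x, x'), (y, y')} : Set (E × F))) : w.1 = 1 ↔ w.2 = 1 := by
  obtain ⟨a, b, c, rfl⟩ := (h.prod h').exists_normal_form hw
  simp only [Prod.fst_mul, Prod.snd_mul, Prod.pow_fst, Prod.pow_snd]
  exact ⟨fun h1 => h.nf_eq_one_transfer h' h1, fun h1 => h'.nf_eq_one_transfer h h1⟩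

end P3Data

/-- a subgroup of `E × F` whose elements have trivial first coordinate iff trivial second coordinate
is the graph of an isomorphism between its projections -/
theorem exists_equiv_of_graph {E : Type*} {F : Type*} [Group E] [Group F] (H : Subgroup (E × F))
    (hH : ∀ w ∈ H, w.1 = 1 ↔ w.2 = 1) :
    ∃ φ : H.map (MonoidHom.fst E F) ≃* H.map (MonoidHom.snd E F),
      ∀ w (hw : w ∈ H), (φ ⟨w.1, Subgroup.mem_map_of_mem _ hw⟩ : F) = w.2 := by
  let f₁ : H →* H.map (MonoidHom.fst E F) :=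
    ((MonoidHom.fst E F).comp H.subtype).codRestrict _ (fun w => Subgroup.mem_map_of_mem _ w.2)
  let f₂ : H →* H.map (MonoidHom.snd E F) :=
    ((MonoidHom.snd E F).comp H.subtype).codRestrict _ (fun w => Subgroup.mem_map_of_mem _ w.2)
  have b₁ : Function.Bijective f₁ := by
    constructor
    · rw [injective_iff_map_eq_one]
      intro w hw1
      have h1 : (w : E × F).1 = 1 := congrArg Subtype.val hw1
      have h2 : (w : E × F).2 = 1 := (hH _ w.2).mp h1
      exact Subtype.ext (Prod.ext h1 h2)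
    · rintro ⟨e, w, hw, rfl⟩
      exact ⟨⟨w, hw⟩, rfl⟩
  have b₂ : Function.Bijective f₂ := by
    constructor
    · rw [injective_iff_map_eq_one]
      intro w hw1
      have h2 : (w : E × F).2 = 1 := congrArg Subtype.val hw1
      have h1 : (w : E × F).1 = 1 := (hH _ w.2).mpr h2
      exact Subtype.ext (Prod.ext h1 h2)
    · rintro ⟨e, w, hw, rfl⟩
      exact ⟨⟨w, hw⟩, rfl⟩
  refine ⟨(MulEquiv.ofBijective f₁ b₁).symm.trans (MulEquiv.ofBijective f₂ b₂), ?_⟩
  intro w hw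
  have : (⟨w.1, Subgroup.mem_map_of_mem _ hw⟩ : H.map (MonoidHom.fst E F)) =
      MulEquiv.ofBijective f₁ b₁ ⟨w, hw⟩ := rfl
  rw [this, MulEquiv.trans_apply, MulEquiv.symm_apply_apply]
  rfl

namespace P3Data

variable {p α β : ℕ} {E : Type*} [Group E] {x y z : E}

/-- the subgroups generated by two triples with the same data are isomorphic -/
theorem model_equiv [hp : Fact p.Prime] {F : Type*} [Group F] {x' y' z' : F}
    (h : P3Data p α β x y z) (h' : P3Data p α β x' y' z') :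
    ∃ φ : Subgroup.closure ({x, y} : Set E) ≃* Subgroup.closure ({x', y'} : Set F),
      (∀ hx : x ∈ Subgroup.closure ({x, y} : Set E), (φ ⟨x, hx⟩ : F) = x') ∧
      (∀ hy : y ∈ Subgroup.closure ({x, y} : Set E), (φ ⟨y, hy⟩ : F) = y') ∧
      (∀ hz : z ∈ Subgroup.closure ({x, y} : Set E), (φ ⟨z, hz⟩ : F) = z') := by
  set H := Subgroup.closure ({(x, x'), (y, y')} : Set (E × F)) with hH
  obtain ⟨φ, hφ⟩ := exists_equiv_of_graph H (fun w hw => h.graph_fst_eq_one_iff h' hw)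
  have m₁ : H.map (MonoidHom.fst E F) = Subgroup.closure ({x, y} : Set E) := by
    rw [hH, MonoidHom.map_closure, Set.image_pair]; rfl
  have m₂ : H.map (MonoidHom.snd E F) = Subgroup.closure ({x', y'} : Set F) := by
    rw [hH, MonoidHom.map_closure, Set.image_pair]; rfl
  refine ⟨(MulEquiv.subgroupCongr m₁).symm.trans (φ.trans (MulEquiv.subgroupCongr m₂)), ?_, ?_, ?_⟩
  · intro hx
    have hw : ((x, x') : E × F) ∈ H := Subgroup.subset_closure (by simp)
    exact hφ _ hw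
  · intro hy
    have hw : ((y, y') : E × F) ∈ H := Subgroup.subset_closure (by simp)
    exact hφ _ hw
  · intro hz
    have hw : ((z, z') : E × F) ∈ H := (h.prod h').z_mem
    exact hφ _ hw

end P3Data

/-- two surjective homomorphisms with the same kernel have isomorphic codomains -/
theorem exists_equiv_of_ker_eq {A : Type*} {E : Type*} {F : Type*} [Group A] [Group E] [Group F]
    (f : A →* E) (g : A →* F) (hf : Function.Surjective f) (hg : Function.Surjective g)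
    (hk : f.ker = g.ker) : ∃ φ : E ≃* F, ∀ a, φ (f a) = g a := by
  let e₁ := QuotientGroup.quotientKerEquivOfSurjective f hf
  let e₂ := QuotientGroup.quotientKerEquivOfSurjective g hg
  let e₃ := QuotientGroup.quotientMulEquivOfEq hk
  refine ⟨e₁.symm.trans (e₃.trans e₂), ?_⟩
  intro a
  have h1 : f a = e₁ (QuotientGroup.mk a) := rfl
  rw [h1, MulEquiv.trans_apply, MulEquiv.symm_apply_apply, MulEquiv.trans_apply]
  rfl

/-- gluing isomorphisms of the factors of two central products -/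
theorem glue {E : Type*} {F : Type*} [Group E] [Group F] (E₁ C : Subgroup E) (F₁ D : Subgroup F)
    (z : E) (z' : F)
    (hcommE : ∀ a ∈ E₁, ∀ c ∈ C, a * c = c * a) (hcommF : ∀ a ∈ F₁, ∀ c ∈ D, a * c = c * a)
    (hprodE : ∀ e : E, ∃ a ∈ E₁, ∃ c ∈ C, e = a * c)
    (hprodF : ∀ e : F, ∃ a ∈ F₁, ∃ c ∈ D, e = a * c)
    (hintE : E₁ ⊓ C = Subgroup.zpowers z) (hintF : F₁ ⊓ D = Subgroup.zpowers z')
    (φ₁ : E₁ ≃* F₁) (φ₂ : C ≃* D)
    (h₁ : ∀ hz : z ∈ E₁, (φ₁ ⟨z, hz⟩ : F) = z') (h₂ : ∀ hz : z ∈ C, (φ₂ ⟨z, hz⟩ : F) = z') :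
    ∃ φ : E ≃* F, φ z = z' := by
  have hzE : z ∈ E₁ ⊓ C := by rw [hintE]; exact Subgroup.mem_zpowers z
  have hz1 : z ∈ E₁ := hzE.1
  have hz2 : z ∈ C := hzE.2
  let ψE : E₁ × C →* E := MonoidHom.noncommCoprod E₁.subtype C.subtype
    (fun a c => hcommE a a.2 c c.2)
  let ψF : E₁ × C →* F := MonoidHom.noncommCoprod (F₁.subtype.comp φ₁.toMonoidHom)
    (D.subtype.comp φ₂.toMonoidHom) (fun a c => hcommF _ (φ₁ a).2 _ (φ₂ c).2)
  have hψE : ∀ a c, ψE (a, c) = (a : E) * (c : E) := fun a c => rfl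
  have hψF : ∀ a c, ψF (a, c) = (φ₁ a : F) * (φ₂ c : F) := fun a c => rfl
  have sE : Function.Surjective ψE := by
    intro e
    obtain ⟨a, ha, c, hc, rfl⟩ := hprodE e
    exact ⟨(⟨a, ha⟩, ⟨c, hc⟩), rfl⟩
  have sF : Function.Surjective ψF := by
    intro e
    obtain ⟨a, ha, c, hc, rfl⟩ := hprodF e
    refine ⟨(φ₁.symm ⟨a, ha⟩, φ₂.symm ⟨c, hc⟩), ?_⟩
    rw [hψF, MulEquiv.apply_symm_apply, MulEquiv.apply_symm_apply]
  have hφ₁z : ∀ k : ℤ, (φ₁ (⟨z, hz1⟩ ^ k) : F) = z' ^ k := by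
    intro k
    rw [map_zpow, Subgroup.coe_zpow, h₁ hz1]
  have hφ₂z : ∀ k : ℤ, (φ₂ (⟨z, hz2⟩ ^ k) : F) = z' ^ k := by
    intro k
    rw [map_zpow, Subgroup.coe_zpow, h₂ hz2]
  have hk : ψE.ker = ψF.ker := by
    ext ⟨a, c⟩
    rw [MonoidHom.mem_ker, MonoidHom.mem_ker, hψE, hψF]
    constructor
    · intro h
      have ha : (a : E) = (c : E)⁻¹ := eq_inv_of_mul_eq_one_left h
      have hmem : (a : E) ∈ E₁ ⊓ C := ⟨a.2, by rw [ha]; exact C.inv_mem c.2⟩
      rw [hintE] at hmem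
      obtain ⟨k, hk⟩ := Subgroup.mem_zpowers_iff.mp hmem
      have ha' : a = ⟨z, hz1⟩ ^ k := Subtype.ext (by rw [Subgroup.coe_zpow]; exact hk.symm)
      have hc' : c = ⟨z, hz2⟩ ^ (-k) := by
        apply Subtype.ext
        rw [Subgroup.coe_zpow, zpow_neg]
        show (c : E) = (z ^ k)⁻¹
        rw [hk, ha, inv_inv]
      rw [ha', hc', hφ₁z, hφ₂z, ← zpow_add, add_neg_cancel, zpow_zero]
    · intro h
      have ha : (φ₁ a : F) = (φ₂ c : F)⁻¹ := eq_inv_of_mul_eq_one_left h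
      have hmem : (φ₁ a : F) ∈ F₁ ⊓ D := ⟨(φ₁ a).2, by rw [ha]; exact D.inv_mem (φ₂ c).2⟩
      rw [hintF] at hmem
      obtain ⟨k, hk⟩ := Subgroup.mem_zpowers_iff.mp hmem
      have ha' : a = ⟨z, hz1⟩ ^ k := by
        apply φ₁.injective
        apply Subtype.ext
        rw [hφ₁z, hk]
      have hc' : c = ⟨z, hz2⟩ ^ (-k) := by
        apply φ₂.injective
        apply Subtype.ext
        rw [hφ₂z, zpow_neg, hk, ha, inv_inv]
      rw [ha', hc', Subgroup.coe_zpow, Subgroup.coe_zpow, ← zpow_add, add_neg_cancel, zpow_zero]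
  obtain ⟨φ, hφ⟩ := exists_equiv_of_ker_eq ψE ψF sE sF hk
  refine ⟨φ, ?_⟩
  have h1 : z = ψE (⟨z, hz1⟩, 1) := by rw [hψE]; simp
  rw [h1, hφ, hψF, map_one, h₁ hz1]
  simp


end Cfsg.Agent.Lib.Helper20.ES
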