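import Mathlib
import Cfsg.Prelude.Def_Transfer
import Cfsg.Agent.Lib.Helper16.Extraspecial
import Cfsg.Agent.Lib.Helper20.ESModel

/-!
Helper lemmas (helper20): extraspecial-type data `ESData p E z` (centre `⟨z⟩` of order `p`,
commutators and `p`-th powers in `⟨z⟩`) and the central product decomposition
`E = ⟨x, y⟩ ∘ C_E(x, y)` for `⁅x, y⁆ = z`.
-/

set_option autoImplicit false
open scoped commutatorElement

namespace Cfsg.Agent.Lib.Helper20.ES

/-- `E` has centre `⟨z⟩` of order `p`, with commutators and `p`-th powers in `⟨z⟩` -/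
structure ESData (p : ℕ) (E : Type*) [Group E] (z : E) : Prop where
  z_ne : z ≠ 1
  z_pow : z ^ p = 1
  z_central : z ∈ Subgroup.center E
  center_le : ∀ w ∈ Subgroup.center E, w ∈ Subgroup.zpowers z
  comm_mem : ∀ x y : E, ⁅x, y⁆ ∈ Subgroup.zpowers z
  pow_mem : ∀ x : E, x ^ p ∈ Subgroup.zpowers z

theorem exists_esData {p : ℕ} {E : Type*} [Group E] [Finite E] [hp : Fact p.Prime]
    (hE : Cfsg.IsExtraspecial p E) : ∃ z : E, ESData p E z := by
  obtain ⟨⟨hP, hfr, hcm⟩, hZ⟩ := hE
  have hnt : Nontrivial (Subgroup.center E) := by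
    rw [← Finite.one_lt_card_iff_nontrivial, hZ]
    exact hp.1.one_lt
  obtain ⟨⟨z, hzc⟩, hz⟩ := exists_ne (1 : Subgroup.center E)
  have htop := zpowers_eq_top_of_prime_card hZ hz
  have hz1 : z ≠ 1 := fun h => hz (Subtype.ext h)
  refine ⟨z, hz1, ?_, hzc, ?_, ?_, ?_⟩
  · have h1 : (⟨z, hzc⟩ : Subgroup.center E) ^ Nat.card (Subgroup.center E) = 1 := pow_card_eq_one'
    rw [hZ] at h1
    exact congrArg Subtype.val h1
  · intro w hw
    have : (⟨w, hw⟩ : Subgroup.center E) ∈ Subgroup.zpowers (⟨z, hzc⟩ : Subgroup.center E) := by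
      rw [htop]; exact Subgroup.mem_top _
    obtain ⟨k, hk⟩ := Subgroup.mem_zpowers_iff.mp this
    exact Subgroup.mem_zpowers_iff.mpr ⟨k, by
      have := congrArg Subtype.val hk
      simpa using this⟩
  · have hc : ∀ w ∈ Subgroup.center E, w ∈ Subgroup.zpowers z := by
      intro w hw
      have : (⟨w, hw⟩ : Subgroup.center E) ∈ Subgroup.zpowers (⟨z, hzc⟩ : Subgroup.center E) := by
        rw [htop]; exact Subgroup.mem_top _
      obtain ⟨k, hk⟩ := Subgroup.mem_zpowers_iff.mp this
      exact Subgroup.mem_zpowers_iff.mpr ⟨k, by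
        have := congrArg Subtype.val hk
        simpa using this⟩
    intro x y
    apply hc
    rw [← hcm, commutator_def]
    exact Subgroup.commutator_mem_commutator (Subgroup.mem_top x) (Subgroup.mem_top y)
  · have hc : ∀ w ∈ Subgroup.center E, w ∈ Subgroup.zpowers z := by
      intro w hw
      have : (⟨w, hw⟩ : Subgroup.center E) ∈ Subgroup.zpowers (⟨z, hzc⟩ : Subgroup.center E) := by
        rw [htop]; exact Subgroup.mem_top _
      obtain ⟨k, hk⟩ := Subgroup.mem_zpowers_iff.mp this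
      exact Subgroup.mem_zpowers_iff.mpr ⟨k, by
        have := congrArg Subtype.val hk
        simpa using this⟩
    intro x
    apply hc
    rw [← hfr]
    exact Cfsg.Agent.Lib.Helper16.pow_mem_frattini hP x

theorem exists_comm_ne_one {p : ℕ} {E : Type*} [Group E] [Finite E] [hp : Fact p.Prime]
    (hE : Cfsg.IsExtraspecial p E) : ∃ x y : E, ⁅x, y⁆ ≠ 1 := by
  obtain ⟨⟨hP, hfr, hcm⟩, hZ⟩ := hE
  by_contra hcon
  push Not at hcon
  have : commutator E = ⊥ := by
    rw [commutator_def, Subgroup.commutator_eq_bot_iff_le_centralizer]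
    intro x _ y _
    have := hcon y x
    rw [commutatorElement_eq_one_iff_mul_comm] at this
    exact this
  rw [this] at hcm
  rw [← hcm, Subgroup.card_bot] at hZ
  exact hp.1.one_lt.ne hZ

namespace ESData

variable {p : ℕ} {E : Type*} [Group E] {z : E}

theorem zpowers_le_center (h : ESData p E z) : Subgroup.zpowers z ≤ Subgroup.center E := by
  rw [Subgroup.zpowers_le]; exact h.z_central

theorem comm_central (h : ESData p E z) (x y : E) : ⁅x, y⁆ ∈ Subgroup.center E :=
  h.zpowers_le_center (h.comm_mem x y)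

theorem orderOf_z [hp : Fact p.Prime] (h : ESData p E z) : orderOf z = p :=
  orderOf_eq_prime h.z_pow h.z_ne

theorem card_zpowers [hp : Fact p.Prime] (h : ESData p E z) : Nat.card (Subgroup.zpowers z) = p := by
  rw [Nat.card_zpowers, h.orderOf_z]

theorem comm_mul_right (h : ESData p E z) (x a b : E) : ⁅x, a * b⁆ = ⁅x, a⁆ * ⁅x, b⁆ := by
  have h1 : ⁅x, a * b⁆ = ⁅x, a⁆ * (a * ⁅x, b⁆ * a⁻¹) := by
    simp only [commutatorElement_def]; group
  have h2 := Subgroup.mem_center_iff.mp (h.comm_central x b) a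
  rw [h1, h2, mul_inv_cancel_right]

/-- the homomorphism `b ↦ ⁅x, b⁆` -/
def commHom (h : ESData p E z) (x : E) : E →* E where
  toFun b := ⁅x, b⁆
  map_one' := by simp
  map_mul' a b := h.comm_mul_right x a b

theorem commHom_apply (h : ESData p E z) (x b : E) : h.commHom x b = ⁅x, b⁆ := rfl

theorem comm_zpow_right (h : ESData p E z) (x y : E) (j : ℤ) : ⁅x, y ^ j⁆ = ⁅x, y⁆ ^ j := by
  rw [← commHom_apply h, map_zpow, commHom_apply]

theorem comm_zpow_left (h : ESData p E z) (x y : E) (j : ℤ) : ⁅x ^ j, y⁆ = ⁅x, y⁆ ^ j := by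
  rw [← commutatorElement_inv, h.comm_zpow_right, ← commutatorElement_inv y x, inv_zpow]

theorem comm_inv_right (h : ESData p E z) (x y : E) : ⁅x, y⁻¹⁆ = ⁅x, y⁆⁻¹ := by
  rw [← commHom_apply h, map_inv, commHom_apply]

theorem comm_self_zpow (x : E) (j : ℤ) : ⁅x, x ^ j⁆ = 1 := by
  rw [commutatorElement_eq_one_iff_commute]
  exact (Commute.refl x).zpow_right j

/-- the centralizer of `x, y` -/
def cent (x y : E) : Subgroup E := Subgroup.centralizer ({x, y} : Set E)

theorem mem_cent {x y c : E} : c ∈ cent x y ↔ ⁅x, c⁆ = 1 ∧ ⁅y, c⁆ = 1 := by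
  unfold cent
  rw [Subgroup.mem_centralizer_iff, commutatorElement_eq_one_iff_mul_comm,
    commutatorElement_eq_one_iff_mul_comm]
  constructor
  · intro h
    exact ⟨h x (by simp), h y (by simp)⟩
  · rintro ⟨h1, h2⟩ w hw
    rcases hw with rfl | hw
    · exact h1
    · rw [Set.mem_singleton_iff] at hw
      subst hw
      exact h2

theorem commute_gen_cent {x y a c : E} (ha : a ∈ Subgroup.closure ({x, y} : Set E))
    (hc : c ∈ cent x y) : a * c = c * a := by
  have h1 := Subgroup.closure_le_centralizer_centralizer ({x, y} : Set E) ha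
  rw [Subgroup.mem_centralizer_iff] at h1
  exact (h1 c hc).symm

theorem z_mem_gen {x y : E} (hxy : ⁅x, y⁆ = z) : z ∈ Subgroup.closure ({x, y} : Set E) := by
  have hx : x ∈ Subgroup.closure ({x, y} : Set E) := Subgroup.subset_closure (by simp)
  have hy : y ∈ Subgroup.closure ({x, y} : Set E) := Subgroup.subset_closure (by simp)
  rw [← hxy, commutatorElement_def]
  exact Subgroup.mul_mem _ (Subgroup.mul_mem _ (Subgroup.mul_mem _ hx hy) (Subgroup.inv_mem _ hx))
    (Subgroup.inv_mem _ hy)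

theorem z_mem_cent (h : ESData p E z) (x y : E) : z ∈ cent x y := by
  rw [mem_cent, commutatorElement_eq_one_iff_mul_comm, commutatorElement_eq_one_iff_mul_comm]
  exact ⟨Subgroup.mem_center_iff.mp h.z_central x, Subgroup.mem_center_iff.mp h.z_central y⟩

theorem exists_mul_decomp (h : ESData p E z) {x y : E} (hxy : ⁅x, y⁆ = z) (e : E) :
    ∃ a ∈ Subgroup.closure ({x, y} : Set E), ∃ c ∈ cent x y, e = a * c := by
  obtain ⟨i, hi⟩ := Subgroup.mem_zpowers_iff.mp (h.comm_mem x e)
  obtain ⟨j, hj⟩ := Subgroup.mem_zpowers_iff.mp (h.comm_mem y e)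
  have hx : x ∈ Subgroup.closure ({x, y} : Set E) := Subgroup.subset_closure (by simp)
  have hy : y ∈ Subgroup.closure ({x, y} : Set E) := Subgroup.subset_closure (by simp)
  have hyx : ⁅y, x⁆ = z⁻¹ := by rw [← commutatorElement_inv, hxy]
  refine ⟨x ^ (-j) * y ^ i, Subgroup.mul_mem _ (Subgroup.zpow_mem _ hx _) (Subgroup.zpow_mem _ hy _),
    (x ^ (-j) * y ^ i)⁻¹ * e, ?_, by group⟩
  rw [mem_cent, h.comm_mul_right, h.comm_mul_right, h.comm_inv_right, h.comm_inv_right,
    h.comm_mul_right, h.comm_mul_right, h.comm_zpow_right, h.comm_zpow_right, h.comm_zpow_right,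
    h.comm_zpow_right, commutatorElement_self, commutatorElement_self, hxy, hyx, ← hi, ← hj]
  constructor
  · simp
  · simp

theorem inf_eq (h : ESData p E z) {x y : E} (hxy : ⁅x, y⁆ = z) :
    Subgroup.closure ({x, y} : Set E) ⊓ cent x y = Subgroup.zpowers z := by
  apply le_antisymm
  · rintro w ⟨hw1, hw2⟩
    apply h.center_le
    rw [Subgroup.mem_center_iff]
    intro e
    obtain ⟨a, ha, c, hc, rfl⟩ := h.exists_mul_decomp hxy e
    have h1 : a * w = w * a := commute_gen_cent ha hw2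
    have h2 : w * c = c * w := commute_gen_cent hw1 hc
    rw [mul_assoc, ← h2, ← mul_assoc, h1, mul_assoc]
  · rw [Subgroup.zpowers_le]
    exact ⟨z_mem_gen hxy, h.z_mem_cent x y⟩

theorem esData_cent (h : ESData p E z) {x y : E} (hxy : ⁅x, y⁆ = z) :
    ESData p (cent x y) ⟨z, h.z_mem_cent x y⟩ where
  z_ne := fun hz => h.z_ne (congrArg Subtype.val hz)
  z_pow := Subtype.ext (by rw [Subgroup.coe_pow]; exact h.z_pow)
  z_central := by
    rw [Subgroup.mem_center_iff]
    intro c
    exact Subtype.ext (Subgroup.mem_center_iff.mp h.z_central c)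
  center_le := by
    intro w hw
    have hwc : (w : E) ∈ Subgroup.center E := by
      rw [Subgroup.mem_center_iff]
      intro e
      obtain ⟨a, ha, c, hc, rfl⟩ := h.exists_mul_decomp hxy e
      have h1 : a * (w : E) = w * a := commute_gen_cent ha w.2
      have h2 : (⟨c, hc⟩ : cent x y) * w = w * ⟨c, hc⟩ := Subgroup.mem_center_iff.mp hw ⟨c, hc⟩
      have h2' : c * (w : E) = w * c := congrArg Subtype.val h2
      rw [mul_assoc, h2', ← mul_assoc, h1, mul_assoc]
    obtain ⟨k, hk⟩ := Subgroup.mem_zpowers_iff.mp (h.center_le _ hwc)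
    exact Subgroup.mem_zpowers_iff.mpr ⟨k, Subtype.ext (by rw [Subgroup.coe_zpow]; exact hk)⟩
  comm_mem := by
    intro a b
    obtain ⟨k, hk⟩ := Subgroup.mem_zpowers_iff.mp (h.comm_mem (a : E) b)
    exact Subgroup.mem_zpowers_iff.mpr ⟨k, Subtype.ext (by
      rw [Subgroup.coe_zpow]; exact hk)⟩
  pow_mem := by
    intro a
    obtain ⟨k, hk⟩ := Subgroup.mem_zpowers_iff.mp (h.pow_mem (a : E))
    exact Subgroup.mem_zpowers_iff.mpr ⟨k, Subtype.ext (by
      rw [Subgroup.coe_zpow, Subgroup.coe_pow]; exact hk)⟩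

theorem cent_eq_of_comm (h : ESData p E z) {x y : E} (hxy : ⁅x, y⁆ = z)
    (hab : ∀ a ∈ cent x y, ∀ b ∈ cent x y, a * b = b * a) : cent x y = Subgroup.zpowers z := by
  apply le_antisymm
  · intro w hw
    have := (h.esData_cent hxy).center_le ⟨w, hw⟩ (by
      rw [Subgroup.mem_center_iff]
      intro c
      exact Subtype.ext (hab c c.2 w hw))
    obtain ⟨k, hk⟩ := Subgroup.mem_zpowers_iff.mp this
    exact Subgroup.mem_zpowers_iff.mpr ⟨k, by
      have := congrArg Subtype.val hk
      simpa using this⟩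
  · rw [Subgroup.zpowers_le]
    exact h.z_mem_cent x y

theorem range_commHom (h : ESData p E z) {x y : E} (hxy : ⁅x, y⁆ = z) :
    (h.commHom x).range = Subgroup.zpowers z := by
  apply le_antisymm
  · rintro _ ⟨b, rfl⟩
    exact h.comm_mem x b
  · rw [Subgroup.zpowers_le]
    exact ⟨y, hxy⟩

theorem card_eq_mul_card_ker [hp : Fact p.Prime] (h : ESData p E z) {x y : E} (hxy : ⁅x, y⁆ = z) :
    Nat.card E = Nat.card (h.commHom x).ker * p := by
  rw [← Subgroup.card_mul_index (h.commHom x).ker, Subgroup.index_ker, h.range_commHom hxy,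
    h.card_zpowers]

theorem card_eq_sq_mul_card_cent [hp : Fact p.Prime] (h : ESData p E z) {x y : E}
    (hxy : ⁅x, y⁆ = z) : Nat.card E = p ^ 2 * Nat.card (cent x y) := by
  have hAmem : ∀ c : E, c ∈ (h.commHom x).ker ↔ ⁅x, c⁆ = 1 := fun c => Iff.rfl
  let g : (h.commHom x).ker →* E := (h.commHom y).comp (h.commHom x).ker.subtype
  have hg : ∀ a : (h.commHom x).ker, g a = ⁅y, (a : E)⁆ := fun a => rfl
  have hxA : x ∈ (h.commHom x).ker := by
    rw [hAmem, commutatorElement_self]
  have hrange : g.range = Subgroup.zpowers z := by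
    apply le_antisymm
    · rintro _ ⟨b, rfl⟩
      exact h.comm_mem y b
    · rw [Subgroup.zpowers_le]
      have : z⁻¹ ∈ g.range := ⟨⟨x, hxA⟩, by
        rw [hg, ← commutatorElement_inv, hxy]⟩
      have := g.range.inv_mem this
      rwa [inv_inv] at this
  have hmap : g.ker.map (h.commHom x).ker.subtype = cent x y := by
    ext c
    rw [mem_cent]
    constructor
    · rintro ⟨a, ha, rfl⟩
      exact ⟨(hAmem _).mp a.2, ha⟩
    · rintro ⟨h1, h2⟩
      exact ⟨⟨c, (hAmem c).mpr h1⟩, h2, rfl⟩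
  have hcardA : Nat.card (h.commHom x).ker = Nat.card g.ker * p := by
    rw [← Subgroup.card_mul_index g.ker, Subgroup.index_ker, hrange, h.card_zpowers]
  have hck : Nat.card g.ker = Nat.card (cent x y) := by
    rw [← hmap, Subgroup.card_map_of_injective (h.commHom x).ker.subtype_injective]
  rw [h.card_eq_mul_card_ker hxy, hcardA, hck]
  ring

theorem exists_zpow_eq_z [hp : Fact p.Prime] (h : ESData p E z) {w : E}
    (hw : w ∈ Subgroup.zpowers z) (hw1 : w ≠ 1) : ∃ j : ℤ, w ^ j = z := by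
  have htop := zpowers_eq_top_of_prime_card (G := Subgroup.zpowers z) h.card_zpowers
    (g := ⟨w, hw⟩) (fun hh => hw1 (congrArg Subtype.val hh))
  have : (⟨z, Subgroup.mem_zpowers z⟩ : Subgroup.zpowers z) ∈
      Subgroup.zpowers (⟨w, hw⟩ : Subgroup.zpowers z) := by
    rw [htop]; exact Subgroup.mem_top _
  obtain ⟨j, hj⟩ := Subgroup.mem_zpowers_iff.mp this
  exact ⟨j, by
    have := congrArg Subtype.val hj
    simpa using this⟩

theorem exists_pair [hp : Fact p.Prime] (h : ESData p E z) {x y : E} (hxy : ⁅x, y⁆ ≠ 1) :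
    ∃ j : ℤ, ⁅x, y ^ j⁆ = z := by
  obtain ⟨j, hj⟩ := h.exists_zpow_eq_z (h.comm_mem x y) hxy
  exact ⟨j, by rw [h.comm_zpow_right, hj]⟩

end ESData

end Cfsg.Agent.Lib.Helper20.ES
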