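import Mathlib
import Cfsg.Agent.Lib.Helper20.ESDecomp
import Cfsg.Agent.Lib.Helper16.Frattini
import Cfsg.Agent.Lib.Helper1.PGroup

/-!
Helper lemmas (helper20): a nonabelian finite group with `ESData p P z` is extraspecial.
-/

set_option autoImplicit false
open scoped commutatorElement

namespace Cfsg.Agent.Lib.Helper20.ES

namespace ESData

variable {p : ℕ} {P : Type*} [Group P] {z : P}

theorem isPGroup (h : ESData p P z) : IsPGroup p P := by
  intro g
  refine ⟨2, ?_⟩
  obtain ⟨k, hk⟩ := Subgroup.mem_zpowers_iff.mp (h.pow_mem g)
  rw [pow_two, pow_mul, ← hk, ← zpow_natCast, ← zpow_mul, mul_comm, zpow_mul, zpow_natCast,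
    h.z_pow, one_zpow]

theorem center_eq (h : ESData p P z) : Subgroup.center P = Subgroup.zpowers z :=
  le_antisymm h.center_le h.zpowers_le_center

theorem zpowers_normal (h : ESData p P z) : (Subgroup.zpowers z).Normal := by
  rw [← h.center_eq]; infer_instance

/-- the criterion -/
theorem isExtraspecial [hp : Fact p.Prime] [Finite P] (h : ESData p P z)
    (hna : ∃ x y : P, ⁅x, y⁆ ≠ 1) : Cfsg.IsExtraspecial p P := by
  have hP := h.isPGroup
  have hcomm : commutator P = Subgroup.center P := by
    rw [h.center_eq]
    apply le_antisymm
    · rw [commutator_def, Subgroup.commutator_le]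
      intro a _ b _
      exact h.comm_mem a b
    · rw [Subgroup.zpowers_le]
      obtain ⟨x, y, hxy⟩ := hna
      obtain ⟨j, hj⟩ := h.exists_pair hxy
      rw [← hj, commutator_def]
      exact Subgroup.commutator_mem_commutator (Subgroup.mem_top x) (Subgroup.mem_top _)
  refine ⟨⟨hP, ?_, hcomm⟩, ?_⟩
  · apply le_antisymm
    · rw [h.center_eq]
      haveI := h.zpowers_normal
      have hk := Cfsg.Agent.Lib.Helper16.frattini_le_ker' (p := p)
        (E := P ⧸ Subgroup.zpowers z) ?_ ?_ (QuotientGroup.mk' (Subgroup.zpowers z))
      · rwa [QuotientGroup.ker_mk'] at hk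
      · intro a b
        induction a using QuotientGroup.induction_on with
        | H a =>
          induction b using QuotientGroup.induction_on with
          | H b =>
            rw [← QuotientGroup.mk_mul, ← QuotientGroup.mk_mul, QuotientGroup.eq]
            have : (a * b)⁻¹ * (b * a) = ⁅b⁻¹, a⁻¹⁆ := by
              rw [commutatorElement_def]; group
            rw [this]
            exact h.comm_mem _ _
      · intro e
        induction e using QuotientGroup.induction_on with
        | H a =>
          rw [← QuotientGroup.mk_pow, QuotientGroup.eq_one_iff]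
          exact h.pow_mem a
    · rw [← hcomm]
      exact Cfsg.Agent.Lib.Helper1.IsPGroup.commutator_le_frattini hP
  · rw [h.center_eq, h.card_zpowers]

end ESData

end Cfsg.Agent.Lib.Helper20.ES
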