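import Mathlib
import Cfsg.Agent.Lib.Helper1.NarrowOmegaZ2

/-!
Helper lemmas (helper20): if `z` is a central element of prime order `p` of a group `G` and
`E` is a finite subgroup with `⁅G, E⁆ ≤ ⟨z⟩` and `Z(E) ≤ ⟨z⟩`, then `G = E * C_G(E)`.
-/

set_option autoImplicit false
open scoped commutatorElement

namespace Cfsg.Agent.Lib.Helper20.Symp

section CL

variable {G : Type*} [Group G] {p : ℕ}

/-- a nontrivial element of a group of prime order generates it (natural powers) -/
theorem exists_npow_eq [hp : Fact p.Prime] {z w v : G} (hz : orderOf z = p)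
    (hw : w ∈ Subgroup.zpowers z) (hw1 : w ≠ 1) (hv : v ∈ Subgroup.zpowers z) :
    ∃ k : ℕ, w ^ k = v := by
  have hcard : Nat.card (Subgroup.zpowers z) = p := by rw [Nat.card_zpowers, hz]
  have htop := zpowers_eq_top_of_prime_card (G := Subgroup.zpowers z) hcard
    (g := ⟨w, hw⟩) (fun hh => hw1 (congrArg Subtype.val hh))
  have hmem : (⟨v, hv⟩ : Subgroup.zpowers z) ∈
      Subgroup.zpowers (⟨w, hw⟩ : Subgroup.zpowers z) := by
    rw [htop]; exact Subgroup.mem_top _
  have hfin : IsOfFinOrder (⟨w, hw⟩ : Subgroup.zpowers z) := by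
    haveI : Finite (Subgroup.zpowers z) := Nat.finite_of_card_ne_zero (by
      rw [hcard]; exact hp.1.ne_zero)
    exact isOfFinOrder_of_finite _
  rw [← hfin.mem_powers_iff_mem_zpowers, Submonoid.mem_powers_iff] at hmem
  obtain ⟨k, hk⟩ := hmem
  refine ⟨k, ?_⟩
  have := congrArg Subtype.val hk
  simpa using this

/-- the key step: correct `g` by an element of `⟨x, y⟩` to centralize `x` and `y` -/
theorem exists_pow_mul_commute [hp : Fact p.Prime] {z : G} (hz : orderOf z = p)
    (hzc : ∀ g : G, Commute z g) {x y : G}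
    (hx : ∀ g : G, ⁅g, x⁆ ∈ Subgroup.zpowers z) (hy : ∀ g : G, ⁅g, y⁆ ∈ Subgroup.zpowers z)
    (hxy : ¬ Commute x y) (g : G) :
    ∃ i j : ℕ, Commute (g * (x ^ i * y ^ j)) x ∧ Commute (g * (x ^ i * y ^ j)) y := by
  have hcen : ∀ v : G, v ∈ Subgroup.zpowers z → ∀ h : G, Commute v h := by
    intro v hv h
    obtain ⟨k, rfl⟩ := Subgroup.mem_zpowers_iff.mp hv
    exact (hzc h).zpow_left k
  have hw : ⁅x, y⁆ ∈ Subgroup.zpowers z := hy x
  have hw1 : ⁅x, y⁆ ≠ 1 := fun h => hxy (commutatorElement_eq_one_iff_commute.mp h)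
  obtain ⟨j, hj⟩ := exists_npow_eq hz hw hw1 (hx g)
  obtain ⟨i, hi⟩ := exists_npow_eq hz hw hw1 (Subgroup.inv_mem _ (hy g))
  refine ⟨i, j, ?_, ?_⟩
  · apply commutatorElement_eq_one_iff_commute.mp
    rw [Cfsg.Agent.Lib.Helper1.commutatorElement_mul_left_of_central g _ x (hcen _ (hx _)),
      Cfsg.Agent.Lib.Helper1.commutatorElement_mul_left_of_central _ _ x (hcen _ (hx _)),
      Cfsg.Agent.Lib.Helper1.commutatorElement_pow_left_of_central y x (hcen _ (hx _)),
      commutatorElement_eq_one_iff_commute.mpr (Commute.pow_left (Commute.refl x) i), one_mul,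
      ← commutatorElement_inv x y, inv_pow, hj, mul_inv_cancel]
  · apply commutatorElement_eq_one_iff_commute.mp
    rw [Cfsg.Agent.Lib.Helper1.commutatorElement_mul_left_of_central g _ y (hcen _ (hy _)),
      Cfsg.Agent.Lib.Helper1.commutatorElement_mul_left_of_central _ _ y (hcen _ (hy _)),
      Cfsg.Agent.Lib.Helper1.commutatorElement_pow_left_of_central x y (hcen _ (hy _)),
      commutatorElement_eq_one_iff_commute.mpr (Commute.pow_left (Commute.refl y) j), mul_one,
      hi, mul_inv_cancel]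

/-- Lemma CL: `G = E * C_G(E)` -/
theorem exists_mul_mem_centralizer [hp : Fact p.Prime] {z : G} (hz : orderOf z = p)
    (hzc : ∀ g : G, Commute z g) :
    ∀ (n : ℕ) (E : Subgroup G) [Finite E], Nat.card E ≤ n →
      (∀ g : G, ∀ e ∈ E, ⁅g, e⁆ ∈ Subgroup.zpowers z) →
      (∀ e ∈ E, (∀ e' ∈ E, Commute e e') → e ∈ Subgroup.zpowers z) →
      ∀ g : G, ∃ e ∈ E, g * e ∈ Subgroup.centralizer (E : Set G) := by
  have hcen : ∀ v : G, v ∈ Subgroup.zpowers z → ∀ h : G, Commute v h := by
    intro v hv h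
    obtain ⟨k, rfl⟩ := Subgroup.mem_zpowers_iff.mp hv
    exact (hzc h).zpow_left k
  intro n
  induction n with
  | zero =>
    intro E _ hcard
    exfalso
    have := Nat.card_pos (α := E)
    omega
  | succ n ih =>
    intro E _ hcard hcomm hcent g
    by_cases hab : ∀ x ∈ E, ∀ y ∈ E, Commute x y
    · refine ⟨1, E.one_mem, ?_⟩
      rw [mul_one, Subgroup.mem_centralizer_iff]
      intro e he
      exact (hcen e (hcent e he (hab e he)) g).eq
    · push Not at hab
      obtain ⟨x, hxE, y, hyE, hxy⟩ := hab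
      -- the smaller subgroup
      obtain ⟨E₁, hE₁⟩ : ∃ E₁ : Subgroup G,
          E₁ = E ⊓ Subgroup.centralizer ({x, y} : Set G) := ⟨_, rfl⟩
      have hmem₁ : ∀ e : G, e ∈ E₁ ↔ e ∈ E ∧ Commute e x ∧ Commute e y := by
        intro e
        rw [hE₁, Subgroup.mem_inf, Subgroup.mem_centralizer_iff]
        constructor
        · rintro ⟨h1, h2⟩
          exact ⟨h1, (h2 x (by simp)).symm, (h2 y (by simp)).symm⟩
        · rintro ⟨h1, h2, h3⟩
          refine ⟨h1, ?_⟩
          intro s hs
          rcases hs with rfl | rfl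
          · exact h2.eq.symm
          · exact h3.eq.symm
      have hle : E₁ ≤ E := fun e he => ((hmem₁ e).mp he).1
      haveI : Finite E₁ := Finite.of_injective (Subgroup.inclusion hle)
        (Subgroup.inclusion_injective hle)
      have hlt : Nat.card E₁ < Nat.card E := by
        by_contra hge
        have heq : E₁ = E := Subgroup.eq_of_le_of_card_ge hle (not_lt.mp hge)
        have : x ∈ E₁ := by rw [heq]; exact hxE
        exact hxy ((hmem₁ x).mp this).2.2
      have hK : ∀ g : G, ∃ i j : ℕ, Commute (g * (x ^ i * y ^ j)) x ∧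
          Commute (g * (x ^ i * y ^ j)) y :=
        fun g => exists_pow_mul_commute hz hzc (fun g => hcomm g x hxE)
          (fun g => hcomm g y hyE) hxy g
      -- decomposition of elements of `E`
      have hdec : ∀ e ∈ E, ∃ i j : ℕ, e * (x ^ i * y ^ j) ∈ E₁ := by
        intro e he
        obtain ⟨i, j, h1, h2⟩ := hK e
        exact ⟨i, j, (hmem₁ _).mpr ⟨E.mul_mem he (E.mul_mem (E.pow_mem hxE i) (E.pow_mem hyE j)),
          h1, h2⟩⟩
      -- a general commutation principle
      have hprinc : ∀ s : G, Commute s x → Commute s y → (∀ e₁ ∈ E₁, Commute s e₁) →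
          ∀ e ∈ E, Commute s e := by
        intro s hsx hsy hs1 e he
        obtain ⟨i, j, hij⟩ := hdec e he
        have h1 : Commute s (e * (x ^ i * y ^ j)) := hs1 _ hij
        have h2 : Commute s (x ^ i * y ^ j) := (hsx.pow_right i).mul_right (hsy.pow_right j)
        have h3 : e = e * (x ^ i * y ^ j) * (x ^ i * y ^ j)⁻¹ := by group
        rw [h3]
        exact h1.mul_right h2.inv_right
      have hcent₁ : ∀ e ∈ E₁, (∀ e' ∈ E₁, Commute e e') → e ∈ Subgroup.zpowers z := by
        intro e he hall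
        obtain ⟨heE, hex, hey⟩ := (hmem₁ e).mp he
        exact hcent e heE (hprinc e hex hey hall)
      obtain ⟨i, j, hgx, hgy⟩ := hK g
      obtain ⟨e₁, he₁, hc₁⟩ := ih E₁ (by omega) (fun g e he => hcomm g e (hle he)) hcent₁
        (g * (x ^ i * y ^ j))
      obtain ⟨he₁E, he₁x, he₁y⟩ := (hmem₁ e₁).mp he₁
      refine ⟨x ^ i * y ^ j * e₁, E.mul_mem (E.mul_mem (E.pow_mem hxE i) (E.pow_mem hyE j)) he₁E, ?_⟩
      rw [Subgroup.mem_centralizer_iff]
      intro e he
      have hs : Commute (g * (x ^ i * y ^ j) * e₁) e := by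
        apply hprinc _ (hgx.mul_left he₁x) (hgy.mul_left he₁y) _ e he
        intro e' he'
        exact (Subgroup.mem_centralizer_iff.mp hc₁ e' he').symm
      have h5 : g * (x ^ i * y ^ j * e₁) = g * (x ^ i * y ^ j) * e₁ := by group
      rw [h5]
      exact hs.eq.symm

end CL

end Cfsg.Agent.Lib.Helper20.Symp
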