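import Mathlib
import Cfsg.Agent.Lib.Helper20.PGroupBasics
import Cfsg.Agent.Lib.Helper1.Alperin
import Cfsg.Prelude.Def_PLocal
import Cfsg.Prelude.Def_Transfer
import Cfsg.Prelude.Def_CaseTheorems
import Cfsg.Agent.Lib.Helper14.DihedralCrit
import Cfsg.Agent.Lib.Helper18.UniqueInvolution

/-!
Helper lemmas (helper20): the structure of a finite `p`-group `G` with a cyclic normal
self-centralizing subgroup `U = ⟨x⟩` of order `p ^ n` (Huppert III.7.5 style):
number theory (`nt_odd`, `nt_two`, `nt_sq`), the context `Ctx G p x n`, the action of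
`M = C_G(x ^ p)` on `U`, case (B) (`Ω₁(M)` elementary abelian of order `p²`, characteristic)
and case (A) (`p = 2`: dihedral, generalized quaternion, quasidihedral), and the main theorem
`main` (statement S3761).
-/

set_option autoImplicit false

namespace Cfsg.Agent.Lib.Helper20.CSC

/-! ### Number theory -/

theorem nt_odd {p : ℕ} (hp : p.Prime) (hp2 : p ≠ 2) (k : ℤ) (n : ℕ)
    (h : (p : ℤ) ^ n ∣ k ^ p - 1) : (p : ℤ) ^ (n - 1) ∣ k - 1 := by
  rcases Nat.eq_zero_or_pos n with rfl | hn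
  · simp
  have hodd : Odd p := hp.odd_of_ne_two hp2
  haveI : Fact p.Prime := ⟨hp⟩
  have hpd : (p : ℤ) ∣ k ^ p - 1 := dvd_trans (dvd_pow_self _ (by omega)) h
  have h1 : (p : ℤ) ∣ k - 1 := by
    have h2 : ((k ^ p - 1 : ℤ) : ZMod p) = 0 := (ZMod.intCast_zmod_eq_zero_iff_dvd _ _).mpr hpd
    rw [Int.cast_sub, Int.cast_pow, ZMod.pow_card, Int.cast_one] at h2
    apply (ZMod.intCast_zmod_eq_zero_iff_dvd _ _).mp
    rw [Int.cast_sub, Int.cast_one]; exact h2
  have hnk : ¬ (p : ℤ) ∣ k := by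
    intro hdk
    have : (p : ℤ) ∣ 1 := by
      have := dvd_sub hdk h1
      simpa using this
    have h3 := Int.natAbs_dvd_natAbs.mpr this
    simp at h3
    exact hp.one_lt.ne' h3
  have hv := Int.emultiplicity_pow_sub_pow hp hodd (x := k) (y := 1) (by simpa using h1) hnk p
  rw [one_pow] at hv
  have hpp : emultiplicity p p = 1 := hp.emultiplicity_self
  rw [hpp] at hv
  have hle : (n : ℕ∞) ≤ emultiplicity (p : ℤ) (k ^ p - 1) := pow_dvd_iff_le_emultiplicity.mp h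
  rw [hv] at hle
  apply pow_dvd_iff_le_emultiplicity.mpr
  induction h' : emultiplicity (p : ℤ) (k - 1) using ENat.recTopCoe with
  | top => exact le_top
  | coe m =>
    rw [h'] at hle
    have h4 : n ≤ m + 1 := by exact_mod_cast hle
    have h5 : n - 1 ≤ m := by omega
    exact_mod_cast h5

theorem nt_two (k : ℤ) (n : ℕ) (h : (2 : ℤ) ^ n ∣ k ^ 2 - 1) :
    (2 : ℤ) ^ (n - 1) ∣ k - 1 ∨ (2 : ℤ) ^ (n - 1) ∣ k + 1 := by
  rcases Nat.eq_zero_or_pos n with rfl | hn
  · simp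
  have hk : Odd k := by
    by_contra hne
    rw [Int.not_odd_iff_even] at hne
    have h2 : (2 : ℤ) ∣ k ^ 2 - 1 := dvd_trans (dvd_pow_self _ (by omega)) h
    obtain ⟨j, rfl⟩ := hne
    obtain ⟨c, hc⟩ := h2
    have : (j + j) ^ 2 = 2 * (2 * j * j) := by ring
    rw [this] at hc
    omega
  obtain ⟨j, rfl⟩ := hk
  have hpow : (2 : ℤ) ^ n = 2 * 2 ^ (n - 1) := by
    rw [← pow_succ']; congr 1; omega
  have heq : (2 * j + 1) ^ 2 - 1 = 4 * (j * (j + 1)) := by ring
  rw [heq] at h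
  rcases Int.even_or_odd j with hj | hj
  · -- j even, j+1 odd
    left
    have hcop : IsCoprime ((2 : ℤ) ^ n) (j + 1) := by
      apply IsCoprime.pow_left
      have : Odd (j + 1) := hj.add_one
      exact (Int.isCoprime_iff_gcd_eq_one.mpr (by
        obtain ⟨m, hm⟩ := this
        rw [hm]; simp))
    have h2 : (2 : ℤ) ^ n ∣ (4 * j) * (j + 1) := by
      have : 4 * (j * (j + 1)) = (4 * j) * (j + 1) := by ring
      rwa [this] at h
    have h3 := hcop.dvd_of_dvd_mul_right h2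
    rw [hpow] at h3
    have h4 : (2 : ℤ) * 2 ^ (n - 1) ∣ 2 * (2 * j) := by
      have : (4 : ℤ) * j = 2 * (2 * j) := by ring
      rwa [this] at h3
    have h5 := (mul_dvd_mul_iff_left (by norm_num : (2 : ℤ) ≠ 0)).mp h4
    have : 2 * j + 1 - 1 = 2 * j := by ring
    rwa [this]
  · right
    have hcop : IsCoprime ((2 : ℤ) ^ n) j := by
      apply IsCoprime.pow_left
      exact (Int.isCoprime_iff_gcd_eq_one.mpr (by
        obtain ⟨m, hm⟩ := hj
        rw [hm]; simp))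
    have h2 : (2 : ℤ) ^ n ∣ (4 * (j + 1)) * j := by
      have : 4 * (j * (j + 1)) = (4 * (j + 1)) * j := by ring
      rwa [this] at h
    have h3 := hcop.dvd_of_dvd_mul_right h2
    rw [hpow] at h3
    have h4 : (2 : ℤ) * 2 ^ (n - 1) ∣ 2 * (2 * j + 1 + 1) := by
      have : (4 : ℤ) * (j + 1) = 2 * (2 * j + 1 + 1) := by ring
      rwa [this] at h3
    exact (mul_dvd_mul_iff_left (by norm_num : (2 : ℤ) ≠ 0)).mp h4

theorem nt_sq (k : ℤ) : ¬ (4 : ℤ) ∣ k ^ 2 + 1 := by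
  intro h
  have h2 : ((k ^ 2 + 1 : ℤ) : ZMod 4) = 0 := (ZMod.intCast_zmod_eq_zero_iff_dvd _ _).mpr h
  push_cast at h2
  have : ∀ a : ZMod 4, a ^ 2 + 1 ≠ 0 := by decide
  exact this _ h2


/-! ### Conjugation exponents -/

section Conj
variable {G : Type*} [Group G]

theorem conj_zpow_of_conj (g x : G) (k : ℤ) (h : g * x * g⁻¹ = x ^ k) (i : ℤ) :
    g * x ^ i * g⁻¹ = x ^ (k * i) := by
  rw [← conj_zpow, h, ← zpow_mul]

theorem pow_conj_of_conj (g x : G) (k : ℤ) (h : g * x * g⁻¹ = x ^ k) (j : ℕ) :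
    g ^ j * x * (g ^ j)⁻¹ = x ^ (k ^ j) := by
  induction j with
  | zero => simp
  | succ j ih =>
    have h1 : g ^ (j + 1) * x * (g ^ (j + 1))⁻¹ = g * (g ^ j * x * (g ^ j)⁻¹) * g⁻¹ := by
      rw [pow_succ']; group
    rw [h1, ih, conj_zpow_of_conj g x k h, pow_succ']

/-- Elements of `p ^ j`-torsion in a cyclic group of order `p ^ n`. -/
theorem mem_zpowers_pow_of_pow_eq_one {x u : G} {p n j : ℕ} (hp0 : p ≠ 0) (hx : orderOf x = p ^ n)
    (hj : j ≤ n) (hu : u ∈ Subgroup.zpowers x) (hu1 : u ^ (p ^ j) = 1) :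
    u ∈ Subgroup.zpowers (x ^ (p ^ (n - j))) := by
  obtain ⟨i, rfl⟩ := Subgroup.mem_zpowers_iff.mp hu
  have h1 : x ^ (i * ((p ^ j : ℕ) : ℤ)) = 1 := by
    rw [zpow_mul, zpow_natCast]; exact hu1
  have h2 := (orderOf_dvd_iff_zpow_eq_one).mpr h1
  rw [hx] at h2
  have h3 : ((p ^ n : ℕ) : ℤ) = ((p ^ (n - j) : ℕ) : ℤ) * ((p ^ j : ℕ) : ℤ) := by
    rw [← Nat.cast_mul, ← pow_add]; congr 2; omega
  rw [h3] at h2
  have h4 : ((p ^ (n - j) : ℕ) : ℤ) ∣ i :=
    (mul_dvd_mul_iff_right (by positivity)).mp h2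
  obtain ⟨m, rfl⟩ := h4
  rw [Subgroup.mem_zpowers_iff]
  exact ⟨m, by rw [zpow_mul, zpow_natCast]⟩

end Conj

/-! ### The context: a cyclic self-centralizing normal subgroup of a finite `p`-group -/

/-- `x` generates a cyclic normal self-centralizing subgroup of order `p ^ n`, `n ≥ 2`,
of the `p`-group `G`. -/
structure Ctx (G : Type*) [Group G] (p : ℕ) (x : G) (n : ℕ) : Prop where
  pG : IsPGroup p G
  ord : orderOf x = p ^ n
  norm : (Subgroup.zpowers x).Normal
  cent : ∀ g : G, Commute g x → g ∈ Subgroup.zpowers x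
  two_le : 2 ≤ n

namespace Ctx

variable {G : Type*} [Group G] {p : ℕ} {x : G} {n : ℕ}

theorem exists_conj (h : Ctx G p x n) (g : G) : ∃ k : ℤ, g * x * g⁻¹ = x ^ k := by
  have := h.norm.conj_mem x (Subgroup.mem_zpowers x) g
  obtain ⟨k, hk⟩ := Subgroup.mem_zpowers_iff.mp this
  exact ⟨k, hk.symm⟩

theorem conj_mem (h : Ctx G p x n) (g u : G) (hu : u ∈ Subgroup.zpowers x) :
    g * u * g⁻¹ ∈ Subgroup.zpowers x := h.norm.conj_mem u hu g

theorem pow_split (h : Ctx G p x n) : p ^ n = p ^ (n - 1) * p := by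
  rw [← pow_succ]; congr 1; have := h.two_le; omega

theorem z_pow [Fact p.Prime] (h : Ctx G p x n) : (x ^ (p ^ (n - 1))) ^ p = 1 := by
  rw [← pow_mul, ← h.pow_split, ← h.ord]; exact pow_orderOf_eq_one x

theorem z_ne_one [hp : Fact p.Prime] (h : Ctx G p x n) : x ^ (p ^ (n - 1)) ≠ 1 := by
  intro h1
  have h2 := orderOf_dvd_of_pow_eq_one h1
  rw [h.ord] at h2
  have h3 := Nat.pow_dvd_pow_iff_le_right hp.out.one_lt |>.mp h2
  have := h.two_le; omega

theorem z_order [hp : Fact p.Prime] (h : Ctx G p x n) : orderOf (x ^ (p ^ (n - 1))) = p :=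
  orderOf_eq_prime h.z_pow h.z_ne_one

theorem z_mem (_h : Ctx G p x n) : x ^ (p ^ (n - 1)) ∈ Subgroup.zpowers x :=
  Subgroup.pow_mem _ (Subgroup.mem_zpowers x) _

theorem zpowers_z_normal [Fact p.Prime] (h : Ctx G p x n) :
    (Subgroup.zpowers (x ^ (p ^ (n - 1)))).Normal := by
  constructor
  intro u hu g
  obtain ⟨i, rfl⟩ := Subgroup.mem_zpowers_iff.mp hu
  obtain ⟨k, hk⟩ := h.exists_conj g
  rw [← conj_zpow]
  apply Subgroup.zpow_mem
  have h1 : (x ^ k) ^ (p ^ (n - 1)) = (x ^ (p ^ (n - 1))) ^ k := by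
    rw [← zpow_natCast (x ^ k), ← zpow_mul, mul_comm, zpow_mul, zpow_natCast]
  rw [← conj_pow, hk, h1]
  exact Subgroup.zpow_mem_zpowers _ _

theorem z_central [Finite G] [hp : Fact p.Prime] (h : Ctx G p x n) (g : G) :
    Commute g (x ^ (p ^ (n - 1))) := by
  haveI := h.zpowers_z_normal
  have hcard : Nat.card (Subgroup.zpowers (x ^ (p ^ (n - 1)))) = p := by
    rw [Nat.card_zpowers, h.z_order]
  have := Cfsg.Agent.Lib.Helper20.le_center_of_normal_of_card_eq_prime h.pG _ hcard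
    (Subgroup.mem_zpowers _)
  exact (Subgroup.mem_center_iff.mp this g)

/-- Elements of order dividing `p` in `U`. -/
theorem mem_zpowers_z [hp : Fact p.Prime] (h : Ctx G p x n) {u : G}
    (hu : u ∈ Subgroup.zpowers x) (hu1 : u ^ p = 1) :
    u ∈ Subgroup.zpowers (x ^ (p ^ (n - 1))) := by
  have := mem_zpowers_pow_of_pow_eq_one (j := 1) hp.out.ne_zero h.ord (by have := h.two_le; omega) hu
    (by rwa [pow_one])
  exact this


/-- If `g ^ p` commutes with `x` and `g x g⁻¹ = x ^ k`, then `p ^ n ∣ k ^ p - 1`. -/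
theorem dvd_pow_sub_one (h : Ctx G p x n) (g : G) (k : ℤ) (hk : g * x * g⁻¹ = x ^ k)
    (hg : Commute (g ^ p) x) : ((p : ℤ) ^ n) ∣ k ^ p - 1 := by
  have h1 := pow_conj_of_conj g x k hk p
  have h2 : g ^ p * x * (g ^ p)⁻¹ = x := by rw [hg.eq, mul_inv_cancel_right]
  rw [h2] at h1
  have h3 : x ^ (1 : ℤ) = x ^ (k ^ p) := by rw [zpow_one]; exact h1
  have h4 := zpow_eq_zpow_iff_modEq.mp h3
  rw [h.ord] at h4
  have := (Int.modEq_iff_dvd.mp h4)
  push_cast at this; exact this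

/-- Lemma P: for odd `p`, an element whose `p`-th power centralizes `x` acts on `x` as
multiplication by an element of `Ω₁(U)`. -/
theorem conj_eq_of_pow_comm_odd [hp : Fact p.Prime] (h : Ctx G p x n) (hp2 : p ≠ 2) (g : G)
    (hg : Commute (g ^ p) x) : ∃ m : ℤ, g * x * g⁻¹ = x * (x ^ (p ^ (n - 1))) ^ m := by
  obtain ⟨k, hk⟩ := h.exists_conj g
  obtain ⟨m, hm⟩ := nt_odd hp.out hp2 k n (h.dvd_pow_sub_one g k hk hg)
  refine ⟨m, ?_⟩
  rw [hk]
  have : k = 1 + ((p ^ (n - 1) : ℕ) : ℤ) * m := by push_cast; linarith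
  rw [this, zpow_add, zpow_one, zpow_mul, zpow_natCast]

/-- Lemma T: for `p = 2`, an element whose square centralizes `x`. -/
theorem conj_eq_of_sq_comm (h : Ctx G 2 x n) (g : G) (hg : Commute (g ^ 2) x) :
    ∃ m : ℤ, g * x * g⁻¹ = x * (x ^ (2 ^ (n - 1))) ^ m ∨
      g * x * g⁻¹ = x⁻¹ * (x ^ (2 ^ (n - 1))) ^ m := by
  obtain ⟨k, hk⟩ := h.exists_conj g
  have h1 := h.dvd_pow_sub_one g k hk hg
  rcases nt_two k n (by exact_mod_cast h1) with ⟨m, hm⟩ | ⟨m, hm⟩
  · refine ⟨m, Or.inl ?_⟩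
    rw [hk]
    have : k = 1 + ((2 ^ (n - 1) : ℕ) : ℤ) * m := by push_cast; linarith
    rw [this, zpow_add, zpow_one, zpow_mul, zpow_natCast]
  · refine ⟨m, Or.inr ?_⟩
    rw [hk]
    have : k = -1 + ((2 ^ (n - 1) : ℕ) : ℤ) * m := by push_cast; linarith
    rw [this, zpow_add, zpow_neg_one, zpow_mul, zpow_natCast]

theorem comm_pow_of_conj_eq [Fact p.Prime] (h : Ctx G p x n) (g : G) (m : ℤ)
    (hg : g * x * g⁻¹ = x * (x ^ (p ^ (n - 1))) ^ m) : Commute g (x ^ p) := by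
  have hc : Commute x ((x ^ (p ^ (n - 1))) ^ m) :=
    ((Commute.refl x).pow_right _).zpow_right m
  have h1 : g * x ^ p * g⁻¹ = x ^ p := by
    rw [← conj_pow, hg, hc.mul_pow, ← zpow_natCast (_ ^ m), ← zpow_mul, mul_comm, zpow_mul,
      zpow_natCast, h.z_pow, one_zpow, mul_one]
  exact mul_inv_eq_iff_eq_mul.mp h1

theorem conj_eq_of_comm_pow [Fact p.Prime] (h : Ctx G p x n) (g : G) (hg : Commute g (x ^ p)) :
    ∃ m : ℤ, g * x * g⁻¹ = x * (x ^ (p ^ (n - 1))) ^ m := by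
  obtain ⟨k, hk⟩ := h.exists_conj g
  have h1 : (x ^ k) ^ p = x ^ p := by
    rw [← hk, conj_pow, hg.eq, mul_inv_cancel_right]
  have hc : (x ^ (k - 1)) ^ p = 1 := by
    rw [← zpow_natCast, ← zpow_mul, sub_mul, one_mul, zpow_sub, zpow_mul, zpow_natCast,
      zpow_natCast, h1, mul_inv_cancel]
  have h2 := h.mem_zpowers_z (Subgroup.zpow_mem_zpowers x (k - 1)) hc
  obtain ⟨m, hm⟩ := Subgroup.mem_zpowers_iff.mp h2
  refine ⟨m, ?_⟩
  rw [hk, hm, ← zpow_one_add, add_sub_cancel]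

theorem exists_pow_mem [Fact p.Prime] (h : Ctx G p x n) (g : G)
    (hg : g ∉ Subgroup.zpowers x) :
    ∃ e : ℕ, g ^ (p ^ e) ∉ Subgroup.zpowers x ∧ g ^ (p ^ (e + 1)) ∈ Subgroup.zpowers x := by
  classical
  obtain ⟨N, hN⟩ := h.pG g
  have hex : ∃ e : ℕ, g ^ (p ^ e) ∈ Subgroup.zpowers x := ⟨N, by rw [hN]; exact one_mem _⟩
  have hpos : Nat.find hex ≠ 0 := by
    intro h0
    have := Nat.find_spec hex
    rw [h0, pow_zero, pow_one] at this
    exact hg this
  obtain ⟨e, he⟩ := Nat.exists_eq_succ_of_ne_zero hpos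
  refine ⟨e, ?_, ?_⟩
  · exact Nat.find_min hex (by omega)
  · have := Nat.find_spec hex
    rwa [he] at this

theorem pow_conj_of_conj_mul (g c : G) (hc : Commute g c) (hg : g * x * g⁻¹ = x * c) (j : ℕ) :
    g ^ j * x * (g ^ j)⁻¹ = x * c ^ j := by
  induction j with
  | zero => simp
  | succ j ih =>
    have h1 : g ^ (j + 1) * x * (g ^ (j + 1))⁻¹ = g * (g ^ j * x * (g ^ j)⁻¹) * g⁻¹ := by
      rw [pow_succ']; group
    have h2 : g * (x * c ^ j) * g⁻¹ = (g * x * g⁻¹) * (g * c ^ j * g⁻¹) := by group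
    have h3 : g * c ^ j * g⁻¹ = c ^ j := by
      rw [(hc.pow_right j).eq, mul_inv_cancel_right]
    rw [h1, ih, h2, hg, h3, mul_assoc, ← pow_succ']


theorem comm_pow_inv (g : G) (hg : Commute g (x ^ p)) : Commute g⁻¹ (x ^ p) := hg.inv_left

/-- `M = C_G(x ^ p)` acts on `U` by multiplication with elements of `Z = Ω₁(U)`. -/
theorem conj_mem_mul [Fact p.Prime] (h : Ctx G p x n) (m : G) (hm : Commute m (x ^ p)) (u : G)
    (hu : u ∈ Subgroup.zpowers x) :
    ∃ w ∈ Subgroup.zpowers (x ^ (p ^ (n - 1))), m * u * m⁻¹ = u * w := by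
  obtain ⟨j, hj⟩ := h.conj_eq_of_comm_pow m hm
  obtain ⟨i, rfl⟩ := Subgroup.mem_zpowers_iff.mp hu
  have hc : Commute x ((x ^ (p ^ (n - 1))) ^ j) :=
    ((Commute.refl x).pow_right _).zpow_right j
  refine ⟨((x ^ (p ^ (n - 1))) ^ j) ^ i, ?_, ?_⟩
  · rw [← zpow_mul]; exact Subgroup.zpow_mem_zpowers _ _
  · rw [← conj_zpow, hj, hc.mul_zpow]

/-- The power formula in `M`. -/
theorem mul_pow_M [Finite G] [Fact p.Prime] (h : Ctx G p x n) (m : G) (hm : Commute m (x ^ p))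
    (u : G) (hu : u ∈ Subgroup.zpowers x) :
    ∃ w ∈ Subgroup.zpowers (x ^ (p ^ (n - 1))),
      (m * u) ^ p = m ^ p * u ^ p * w ^ (p.choose 2) ∧ (Commute m u → w = 1) := by
  obtain ⟨w, hw, hmw⟩ := h.conj_mem_mul m⁻¹ hm.inv_left u hu
  rw [inv_inv] at hmw
  have hwc : ∀ g : G, Commute w g := by
    intro g
    obtain ⟨i, rfl⟩ := Subgroup.mem_zpowers_iff.mp hw
    exact ((h.z_central g).zpow_right i).symm
  refine ⟨w, hw, ?_, ?_⟩
  · apply Cfsg.Agent.Lib.Helper1.mul_pow_of_commute_commutator _ (hwc m) (hwc u)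
    -- u * m = m * u * w
    rw [mul_assoc, ← hmw]; group
  · intro hcomm
    have h1 : m⁻¹ * u * m = u := by
      rw [mul_assoc, ← hcomm.eq, inv_mul_cancel_left]
    rw [h1] at hmw
    exact (mul_eq_left.mp hmw.symm)

theorem z_pow_eq_one_of_mem [Fact p.Prime] (h : Ctx G p x n) {w : G}
    (hw : w ∈ Subgroup.zpowers (x ^ (p ^ (n - 1)))) : w ^ p = 1 := by
  obtain ⟨i, rfl⟩ := Subgroup.mem_zpowers_iff.mp hw
  rw [← zpow_natCast, ← zpow_mul, mul_comm, zpow_mul, zpow_natCast, h.z_pow, one_zpow]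

theorem zpowers_z_le (h : Ctx G p x n) :
    Subgroup.zpowers (x ^ (p ^ (n - 1))) ≤ Subgroup.zpowers x :=
  Subgroup.zpowers_le.mpr h.z_mem

/-- Existence of an element of order `p` in `M \ U`. -/
theorem exists_t [Finite G] [hp : Fact p.Prime] (h : Ctx G p x n) (hpn : p ≠ 2 ∨ 3 ≤ n)
    (a : G) (haM : Commute a (x ^ p)) (haU : a ∉ Subgroup.zpowers x) :
    ∃ t : G, Commute t (x ^ p) ∧ t ∉ Subgroup.zpowers x ∧ t ^ p = 1 := by
  obtain ⟨ma, hma⟩ := h.conj_eq_of_comm_pow a haM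
  set c := (x ^ (p ^ (n - 1))) ^ ma with hc
  have hcZ : c ∈ Subgroup.zpowers (x ^ (p ^ (n - 1))) := Subgroup.zpow_mem_zpowers _ _
  have hc1 : c ≠ 1 := by
    intro h1
    rw [h1, mul_one] at hma
    exact haU (h.cent a (mul_inv_eq_iff_eq_mul.mp hma))
  have hcp : c ^ p = 1 := h.z_pow_eq_one_of_mem hcZ
  have hcord : orderOf c = p := orderOf_eq_prime hcp hc1
  have hac : Commute a c := (h.z_central a).zpow_right ma
  -- a ^ p ∈ U
  have hapU : a ^ p ∈ Subgroup.zpowers x := by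
    apply h.cent
    have := pow_conj_of_conj_mul a c hac hma p
    rw [hcp, mul_one] at this
    exact mul_inv_eq_iff_eq_mul.mp this
  obtain ⟨i, hi⟩ := Subgroup.mem_zpowers_iff.mp hapU
  -- a commutes with a ^ p = x ^ i, so c ^ i = 1
  have hci : c ^ i = 1 := by
    have h1 : a * x ^ i * a⁻¹ = x ^ i := by
      rw [hi]; exact mul_inv_eq_iff_eq_mul.mpr ((Commute.refl a).pow_right p).eq
    have hxc : Commute x c := ((Commute.refl x).pow_right _).zpow_right ma
    rw [← conj_zpow, hma, hxc.mul_zpow] at h1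
    exact mul_eq_left.mp h1
  have hpi : (p : ℤ) ∣ i := by
    rw [← hcord]; exact orderOf_dvd_iff_zpow_eq_one.mpr hci
  obtain ⟨i', rfl⟩ := hpi
  -- y₀ = x ^ (-i')
  have hy0U : x ^ (-i') ∈ Subgroup.zpowers x := Subgroup.zpow_mem_zpowers _ _
  have hy0p : (x ^ (-i')) ^ p = (a ^ p)⁻¹ := by
    rw [← hi, ← zpow_natCast, ← zpow_mul, ← zpow_neg]; congr 1; ring
  obtain ⟨w, hwZ, hw1, -⟩ := h.mul_pow_M a haM (x ^ (-i')) hy0U
  rw [hy0p, mul_inv_cancel, one_mul] at hw1
  have hwp : w ^ p = 1 := h.z_pow_eq_one_of_mem hwZ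
  have ht1M : Commute (a * x ^ (-i')) (x ^ p) :=
    haM.mul_left (((Commute.refl x).pow_right p).zpow_left (-i'))
  have ht1U : a * x ^ (-i') ∉ Subgroup.zpowers x := by
    intro hmem
    apply haU
    have := Subgroup.mul_mem _ hmem (Subgroup.inv_mem _ hy0U)
    rwa [mul_inv_cancel_right] at this
  by_cases hp2 : p = 2
  · -- p = 2, n ≥ 3
    have hn3 : 3 ≤ n := by
      rcases hpn with h' | h'
      · exact absurd hp2 h'
      · exact h'
    subst hp2
    rw [Nat.choose_self, pow_one] at hw1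
    obtain ⟨j, hj⟩ := Subgroup.mem_zpowers_iff.mp hwZ
    -- q = x ^ (2 ^ (n - 2)), q ^ 2 = z
    have hq2 : (x ^ (2 ^ (n - 2))) ^ 2 = x ^ (2 ^ (n - 1)) := by
      rw [← pow_mul, ← pow_succ]; congr 2; omega
    have hqM : x ^ (2 ^ (n - 2)) = (x ^ 2) ^ (2 ^ (n - 3)) := by
      rw [← pow_mul, ← pow_succ']; congr 2; omega
    set q := x ^ (2 ^ (n - 2)) with hq
    have hqU : q ^ j ∈ Subgroup.zpowers x :=
      Subgroup.zpow_mem _ (Subgroup.pow_mem _ (Subgroup.mem_zpowers x) _) _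
    have hcomm : Commute (a * x ^ (-i')) (q ^ j) := by
      rw [hqM]
      exact (ht1M.pow_right _).zpow_right j
    refine ⟨a * x ^ (-i') * q ^ j, ?_, ?_, ?_⟩
    · exact ht1M.mul_left ((((Commute.refl x).pow_right 2).pow_left _).zpow_left j)
    · intro hmem
      apply ht1U
      have := Subgroup.mul_mem _ hmem (Subgroup.inv_mem _ hqU)
      rwa [mul_inv_cancel_right] at this
    · rw [hcomm.mul_pow, hw1, ← zpow_natCast (q ^ j), ← zpow_mul, mul_comm, zpow_mul, zpow_natCast,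
        hq2, hj, ← pow_two, hwp]
  · refine ⟨a * x ^ (-i'), ht1M, ht1U, ?_⟩
    rw [hw1]
    have hodd := hp.out.odd_of_ne_two hp2
    have hdvd : p ∣ p.choose 2 := by
      apply hp.out.dvd_choose_self (by norm_num)
      have := hp.out.two_le; omega
    obtain ⟨r, hr⟩ := hdvd
    rw [hr, pow_mul, hwp, one_pow]


theorem mem_centralizer_singleton_iff (y g : G) :
    g ∈ Subgroup.centralizer ({y} : Set G) ↔ Commute g y := by
  rw [Subgroup.mem_centralizer_iff]
  constructor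
  · intro hg; exact (hg y rfl).symm
  · intro hg u hu
    rw [Set.mem_singleton_iff] at hu; subst hu; exact hg.eq.symm

theorem conj_comm_pow (h : Ctx G p x n) (m g : G) (hm : Commute m (x ^ p)) :
    Commute (g * m * g⁻¹) (x ^ p) := by
  obtain ⟨k', hk'⟩ := h.exists_conj g⁻¹
  rw [inv_inv] at hk'
  have h4 : g⁻¹ * x ^ p * g = (x ^ p) ^ k' := by
    have := conj_pow (a := g⁻¹) (b := x) (i := p)
    rw [inv_inv] at this
    rw [← this, hk', ← zpow_natCast, ← zpow_mul, mul_comm, zpow_mul, zpow_natCast]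
  have h3 : Commute m ((x ^ p) ^ k') := hm.zpow_right k'
  show g * m * g⁻¹ * x ^ p = x ^ p * (g * m * g⁻¹)
  have h5 : x ^ p = g * (x ^ p) ^ k' * g⁻¹ := by rw [← h4]; group
  calc g * m * g⁻¹ * x ^ p = g * m * g⁻¹ * (g * (x ^ p) ^ k' * g⁻¹) := by rw [← h5]
    _ = g * (m * (x ^ p) ^ k') * g⁻¹ := by group
    _ = g * ((x ^ p) ^ k' * m) * g⁻¹ := by rw [h3.eq]
    _ = (g * (x ^ p) ^ k' * g⁻¹) * (g * m * g⁻¹) := by group
    _ = x ^ p * (g * m * g⁻¹) := by rw [← h5]

/-- Case (B): `M = C_G(x ^ p)` is strictly bigger than `U`, and `p` is odd or `n ≥ 3`. -/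
theorem caseB [Finite G] [hp : Fact p.Prime] (h : Ctx G p x n) (hpn : p ≠ 2 ∨ 3 ≤ n)
    (a : G) (haM : Commute a (x ^ p)) (haU : a ∉ Subgroup.zpowers x) :
    (Subgroup.zpowers x).relIndex (Subgroup.centralizer {x ^ p}) = p ∧
    Cfsg.IsElementaryAbelian p (Cfsg.omegaOne p (Subgroup.centralizer {x ^ p})) ∧
    Nat.card (Cfsg.omegaOne p (Subgroup.centralizer {x ^ p})) = p ^ 2 ∧
    (Cfsg.omegaOne p (Subgroup.centralizer {x ^ p})).Characteristic := by
  obtain ⟨t, htM, htU, htp⟩ := h.exists_t hpn a haM haU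
  have ht1 : t ≠ 1 := by rintro rfl; exact htU (one_mem _)
  have hmemM : ∀ g, g ∈ Subgroup.centralizer ({x ^ p} : Set G) ↔ Commute g (x ^ p) :=
    fun g => mem_centralizer_singleton_iff _ g
  have hZcentral : ∀ w ∈ Subgroup.zpowers (x ^ (p ^ (n - 1))), ∀ g : G, Commute w g := by
    intro w hw g
    obtain ⟨i, rfl⟩ := Subgroup.mem_zpowers_iff.mp hw
    exact ((h.z_central g).zpow_right i).symm
  obtain ⟨mt, hmt⟩ := h.conj_eq_of_comm_pow t htM
  set c := (x ^ (p ^ (n - 1))) ^ mt with hc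
  have hcZ : c ∈ Subgroup.zpowers (x ^ (p ^ (n - 1))) := Subgroup.zpow_mem_zpowers _ _
  have hc1 : c ≠ 1 := by
    intro h1
    rw [h1, mul_one] at hmt
    exact htU (h.cent t (mul_inv_eq_iff_eq_mul.mp hmt))
  have hcp : c ^ p = 1 := h.z_pow_eq_one_of_mem hcZ
  have hcord : orderOf c = p := orderOf_eq_prime hcp hc1
  have htc : Commute t c := (hZcentral c hcZ t).symm
  have hZc : ∀ w ∈ Subgroup.zpowers (x ^ (p ^ (n - 1))), ∃ j : ℕ, w = c ^ j := by
    intro w hw
    have hle : Subgroup.zpowers c ≤ Subgroup.zpowers (x ^ (p ^ (n - 1))) :=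
      Subgroup.zpowers_le.mpr hcZ
    have heq : Subgroup.zpowers c = Subgroup.zpowers (x ^ (p ^ (n - 1))) :=
      Subgroup.eq_of_le_of_card_ge hle (by rw [Nat.card_zpowers, Nat.card_zpowers, hcord, h.z_order])
    rw [← heq, ← mem_powers_iff_mem_zpowers] at hw
    obtain ⟨j, hj⟩ := Submonoid.mem_powers_iff _ _ |>.mp hw
    exact ⟨j, hj.symm⟩
  have hdecomp : ∀ m : G, Commute m (x ^ p) →
      ∃ j : ℕ, ∃ u ∈ Subgroup.zpowers x, m = t ^ j * u := by
    intro m hm
    obtain ⟨mm, hmm⟩ := h.conj_eq_of_comm_pow m hm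
    obtain ⟨j, hj⟩ := hZc _ (Subgroup.zpow_mem_zpowers (x ^ (p ^ (n - 1))) mm)
    refine ⟨j, (t ^ j)⁻¹ * m, ?_, by group⟩
    apply h.cent
    have h1 := pow_conj_of_conj_mul t c htc hmt j
    rw [hj] at hmm
    have h2 : m * x * m⁻¹ = t ^ j * x * (t ^ j)⁻¹ := by rw [hmm, h1]
    show (t ^ j)⁻¹ * m * x = x * ((t ^ j)⁻¹ * m)
    have h3 : m * x = t ^ j * x * (t ^ j)⁻¹ * m := by rw [← h2]; group
    rw [mul_assoc, h3]; group
  have hidx : (Subgroup.zpowers x).relIndex (Subgroup.centralizer {x ^ p}) = p := by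
    have hMeq : Subgroup.centralizer ({x ^ p} : Set G) = Subgroup.zpowers t ⊔ Subgroup.zpowers x := by
      apply le_antisymm
      · intro m hm
        obtain ⟨j, u, hu, rfl⟩ := hdecomp m ((hmemM m).mp hm)
        exact Subgroup.mul_mem _
          (Subgroup.mem_sup_left (Subgroup.pow_mem _ (Subgroup.mem_zpowers t) j))
          (Subgroup.mem_sup_right hu)
      · apply sup_le
        · rw [Subgroup.zpowers_le]; exact (hmemM t).mpr htM
        · rw [Subgroup.zpowers_le]; exact (hmemM x).mpr ((Commute.refl x).pow_right p)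
    haveI := h.norm
    rw [hMeq, Subgroup.relIndex_sup_right]
    have hTcard : Nat.card (Subgroup.zpowers t) = p := by
      rw [Nat.card_zpowers, orderOf_eq_prime htp ht1]
    haveI : Fact (Nat.card (Subgroup.zpowers t)).Prime := ⟨by rw [hTcard]; exact hp.out⟩
    rcases ((Subgroup.zpowers x).subgroupOf (Subgroup.zpowers t)).eq_bot_or_eq_top_of_prime_card
      with hb | htop
    · rw [Subgroup.relIndex, hb, Subgroup.index_bot, hTcard]
    · exfalso
      rw [Subgroup.subgroupOf_eq_top] at htop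
      exact htU (htop (Subgroup.mem_zpowers t))
  have hgen : ∀ s : G, Commute s (x ^ p) → s ^ p = 1 →
      ∃ j : ℕ, ∃ w ∈ Subgroup.zpowers (x ^ (p ^ (n - 1))), s = t ^ j * w := by
    intro s hsM hsp
    obtain ⟨j, u, hu, rfl⟩ := hdecomp s hsM
    refine ⟨j, u, ?_, rfl⟩
    have htjM : Commute (t ^ j) (x ^ p) := htM.pow_left j
    obtain ⟨w, hwZ, hw1, hw2⟩ := h.mul_pow_M (t ^ j) htjM u hu
    have htjp : (t ^ j) ^ p = 1 := by rw [← pow_mul, mul_comm, pow_mul, htp, one_pow]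
    rw [hsp, htjp, one_mul] at hw1
    have hwp := h.z_pow_eq_one_of_mem hwZ
    by_cases hp2 : p = 2
    · have hn3 : 3 ≤ n := by
        rcases hpn with h' | h'
        · exact absurd hp2 h'
        · exact h'
      subst hp2
      rw [Nat.choose_self, pow_one] at hw1
      have hu2 : u ^ 2 = w⁻¹ := eq_inv_of_mul_eq_one_left hw1.symm
      have hu4 : u ^ (2 ^ 2) = 1 := by
        rw [pow_two, pow_mul, hu2, inv_pow, hwp, inv_one]
      have hmem := mem_zpowers_pow_of_pow_eq_one (p := 2) (j := 2) two_ne_zero h.ord (by omega) hu hu4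
      obtain ⟨r, hr⟩ := Subgroup.mem_zpowers_iff.mp hmem
      have hqM : x ^ (2 ^ (n - 2)) = (x ^ 2) ^ (2 ^ (n - 3)) := by
        rw [← pow_mul, ← pow_succ']; congr 2; omega
      have hcomm : Commute (t ^ j) u := by
        rw [← hr, hqM]; exact (htjM.pow_right _).zpow_right r
      have hw1' := hw2 hcomm
      rw [hw1', mul_one] at hw1
      exact h.mem_zpowers_z hu hw1.symm
    · have hdvd : p ∣ p.choose 2 := by
        apply hp.out.dvd_choose_self (by norm_num)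
        have := hp.out.two_le; omega
      obtain ⟨r, hr⟩ := hdvd
      rw [hr, pow_mul, hwp, one_pow, mul_one] at hw1
      exact h.mem_zpowers_z hu hw1.symm
  have hE : ∀ e ∈ Cfsg.omegaOne p (Subgroup.centralizer {x ^ p}),
      ∃ j : ℕ, ∃ w ∈ Subgroup.zpowers (x ^ (p ^ (n - 1))), e = t ^ j * w := by
    intro e he
    unfold Cfsg.omegaOne at he
    induction he using Subgroup.closure_induction with
    | mem s hs => exact hgen s ((hmemM s).mp hs.1) hs.2
    | one => exact ⟨0, 1, one_mem _, by simp⟩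
    | mul a b _ _ iha ihb =>
      obtain ⟨j, w, hw, rfl⟩ := iha
      obtain ⟨j', w', hw', rfl⟩ := ihb
      refine ⟨j + j', w * w', mul_mem hw hw', ?_⟩
      have hcm := (hZcentral w hw (t ^ j')).eq
      calc t ^ j * w * (t ^ j' * w') = t ^ j * (w * t ^ j') * w' := by group
        _ = t ^ j * (t ^ j' * w) * w' := by rw [hcm]
        _ = t ^ (j + j') * (w * w') := by rw [pow_add]; group
    | inv a _ iha =>
      obtain ⟨j, w, hw, rfl⟩ := iha
      refine ⟨(p - 1) * j, w⁻¹, inv_mem hw, ?_⟩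
      have h1 : (t ^ j)⁻¹ = t ^ ((p - 1) * j) := by
        apply inv_eq_of_mul_eq_one_right
        rw [← pow_add]
        have : j + (p - 1) * j = p * j := by
          have h0 := hp.out.pos
          obtain ⟨p', rfl⟩ : ∃ p', p = p' + 1 := ⟨p - 1, by omega⟩
          simp only [Nat.add_sub_cancel]; ring
        rw [this, pow_mul, htp, one_pow]
      rw [mul_inv_rev, h1]
      exact (hZcentral w⁻¹ (inv_mem hw) _).eq
  have hEexp : ∀ e ∈ Cfsg.omegaOne p (Subgroup.centralizer {x ^ p}), e ^ p = 1 := by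
    intro e he
    obtain ⟨j, w, hw, rfl⟩ := hE e he
    rw [((hZcentral w hw (t ^ j)).symm).mul_pow, h.z_pow_eq_one_of_mem hw, ← pow_mul, mul_comm,
      pow_mul, htp, one_pow, one_mul]
  have hEcomm : IsMulCommutative ↥(Cfsg.omegaOne p (Subgroup.centralizer {x ^ p})) := by
    refine ⟨⟨fun a b => ?_⟩⟩
    apply Subtype.ext
    obtain ⟨j, w, hw, ha⟩ := hE a a.2
    obtain ⟨j', w', hw', hb⟩ := hE b b.2
    show (a : G) * b = b * a
    rw [ha, hb]
    have h1 := (hZcentral w hw (t ^ j')).eq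
    have h2 := (hZcentral w' hw' (t ^ j)).eq
    have h3 := (hZcentral w hw w').eq
    calc t ^ j * w * (t ^ j' * w') = t ^ j * (w * t ^ j') * w' := by group
      _ = t ^ j * (t ^ j' * w) * w' := by rw [h1]
      _ = (t ^ j * t ^ j') * (w * w') := by group
      _ = (t ^ j' * t ^ j) * (w' * w) := by rw [← pow_add, add_comm, pow_add, h3]
      _ = t ^ j' * (t ^ j * w') * w := by group
      _ = t ^ j' * (w' * t ^ j) * w := by rw [h2]
      _ = t ^ j' * w' * (t ^ j * w) := by group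
  have hSsub : ∀ s : G, Commute s (x ^ p) → s ^ p = 1 →
      s ∈ Cfsg.omegaOne p (Subgroup.centralizer {x ^ p}) := by
    intro s hs hsp
    exact Subgroup.subset_closure ⟨(hmemM s).mpr hs, hsp⟩
  have hzE : x ^ (p ^ (n - 1)) ∈ Cfsg.omegaOne p (Subgroup.centralizer {x ^ p}) :=
    hSsub _ ((Commute.refl x).pow_right p |>.pow_left _) h.z_pow
  have htE : t ∈ Cfsg.omegaOne p (Subgroup.centralizer {x ^ p}) := hSsub t htM htp
  have hEM : Cfsg.omegaOne p (Subgroup.centralizer {x ^ p}) ≤ Subgroup.centralizer {x ^ p} := by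
    unfold Cfsg.omegaOne
    rw [Subgroup.closure_le]
    intro s hs; exact hs.1
  have hEU : Cfsg.omegaOne p (Subgroup.centralizer {x ^ p}) ⊓ Subgroup.zpowers x
      = Subgroup.zpowers (x ^ (p ^ (n - 1))) := by
    apply le_antisymm
    · intro e he
      exact h.mem_zpowers_z he.2 (hEexp e he.1)
    · exact le_inf (Subgroup.zpowers_le.mpr hzE) h.zpowers_z_le
  have hcard : Nat.card (Cfsg.omegaOne p (Subgroup.centralizer {x ^ p})) = p ^ 2 := by
    set E := Cfsg.omegaOne p (Subgroup.centralizer {x ^ p}) with hEdef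
    have h1 : (Subgroup.zpowers x).relIndex E ≤ p := by
      rw [← hidx]
      exact Subgroup.relIndex_le_of_le_right hEM (by rw [hidx]; exact hp.out.ne_zero)
    have h2 : (Subgroup.zpowers x).relIndex E ∣ Nat.card E := Subgroup.relIndex_dvd_card _ _
    obtain ⟨k, hk⟩ := IsPGroup.iff_card.mp (h.pG.to_subgroup E)
    rw [hk] at h2
    obtain ⟨i, -, hi⟩ := (Nat.dvd_prime_pow hp.out).mp h2
    have hne1 : (Subgroup.zpowers x).relIndex E ≠ 1 := by
      intro h1'
      rw [Subgroup.relIndex_eq_one] at h1'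
      exact htU (h1' htE)
    have hi1 : (Subgroup.zpowers x).relIndex E = p := by
      rw [hi] at h1 hne1 ⊢
      rcases i with _ | _ | i
      · exact absurd rfl hne1
      · simp
      · exfalso
        have : p ^ 1 < p ^ (i + 1 + 1) := Nat.pow_lt_pow_right hp.out.one_lt (by omega)
        rw [pow_one] at this; omega
    have h3 := Subgroup.relIndex_mul_relIndex (H := ⊥) (K := E ⊓ Subgroup.zpowers x) (L := E)
      bot_le inf_le_left
    rw [Subgroup.relIndex_bot_left, Subgroup.relIndex_bot_left, Subgroup.inf_relIndex_left, hi1,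
      hEU, Nat.card_zpowers, h.z_order] at h3
    rw [← h3, pow_two]
  refine ⟨hidx, ⟨hEcomm, hEexp⟩, hcard, ?_⟩
  -- characteristic
  have hEnormal : (Cfsg.omegaOne p (Subgroup.centralizer {x ^ p})).Normal := by
    constructor
    intro e he g
    unfold Cfsg.omegaOne at he ⊢
    induction he using Subgroup.closure_induction with
    | mem s hs =>
      apply Subgroup.subset_closure
      refine ⟨(hmemM _).mpr (h.conj_comm_pow s g ((hmemM s).mp hs.1)), ?_⟩
      rw [conj_pow, hs.2]; group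
    | one => simp
    | mul a b _ _ iha ihb =>
      have : g * (a * b) * g⁻¹ = (g * a * g⁻¹) * (g * b * g⁻¹) := by group
      rw [this]; exact mul_mem iha ihb
    | inv a _ iha =>
      have : g * a⁻¹ * g⁻¹ = (g * a * g⁻¹)⁻¹ := by group
      rw [this]; exact inv_mem iha
  rw [Subgroup.characteristic_iff_map_le]
  intro φ
  rw [Subgroup.map_le_iff_le_comap]
  conv_lhs => unfold Cfsg.omegaOne
  rw [Subgroup.closure_le]
  intro s hs
  have hsE : s ∈ Cfsg.omegaOne p (Subgroup.centralizer {x ^ p}) := Subgroup.subset_closure hs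
  show φ s ∈ Cfsg.omegaOne p (Subgroup.centralizer {x ^ p})
  have hfp : (φ s) ^ p = 1 := by rw [← map_pow, hs.2, map_one]
  -- e' = s * (y s⁻¹ y⁻¹) with y = φ.symm x
  have he' : s * (φ.symm x * s⁻¹ * (φ.symm x)⁻¹) ∈ Cfsg.omegaOne p (Subgroup.centralizer {x ^ p}) :=
    mul_mem hsE (hEnormal.conj_mem _ (inv_mem hsE) _)
  have he'p := hEexp _ he'
  have hcf : φ s * x * (φ s)⁻¹ * x⁻¹ = φ (s * (φ.symm x * s⁻¹ * (φ.symm x)⁻¹)) := by
    simp only [map_mul, map_inv, MulEquiv.apply_symm_apply]; group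
  have hcfp : (φ s * x * (φ s)⁻¹ * x⁻¹) ^ p = 1 := by
    rw [hcf, ← map_pow, he'p, map_one]
  have hcfU : φ s * x * (φ s)⁻¹ * x⁻¹ ∈ Subgroup.zpowers x :=
    mul_mem (h.conj_mem _ _ (Subgroup.mem_zpowers x)) (inv_mem (Subgroup.mem_zpowers x))
  obtain ⟨m, hm⟩ := Subgroup.mem_zpowers_iff.mp (h.mem_zpowers_z hcfU hcfp)
  apply hSsub _ _ hfp
  apply h.comm_pow_of_conj_eq (φ s) m
  have hxz : Commute x ((x ^ (p ^ (n - 1))) ^ m) :=
    ((Commute.refl x).pow_right _).zpow_right m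
  rw [hxz.eq, hm]; group


theorem z_zpow_two (h : Ctx G 2 x n) (m : ℤ) :
    (x ^ (2 ^ (n - 1))) ^ m = 1 ∨ (x ^ (2 ^ (n - 1))) ^ m = x ^ (2 ^ (n - 1)) := by
  have hz2 : (x ^ (2 ^ (n - 1))) ^ (2 : ℤ) = 1 := by
    rw [zpow_ofNat]; exact h.z_pow
  rcases Int.even_or_odd' m with ⟨r, rfl | rfl⟩
  · left; rw [zpow_mul, hz2, one_zpow]
  · right; rw [zpow_add, zpow_mul, hz2, one_zpow, one_mul, zpow_one]

theorem mem_comm (_h : Ctx G p x n) {u : G} (hu : u ∈ Subgroup.zpowers x) : Commute u x := by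
  obtain ⟨i, rfl⟩ := Subgroup.mem_zpowers_iff.mp hu
  exact (Commute.refl x).zpow_left i

/-- Step 1 of case (A). -/
theorem caseA_step1 [Finite G] (h : Ctx G 2 x n)
    (hH : n = 2 ∨ ∀ g, Commute g (x ^ 2) → g ∈ Subgroup.zpowers x)
    (g : G) (hgU : g ∉ Subgroup.zpowers x) (hg : Commute (g ^ 2) x) :
    g * x * g⁻¹ = x⁻¹ ∨ (3 ≤ n ∧ g * x * g⁻¹ = x⁻¹ * x ^ (2 ^ (n - 1))) := by
  have hx4 : n = 2 → x ^ 4 = 1 := by
    intro hn; subst hn
    have := pow_orderOf_eq_one x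
    rw [h.ord] at this; simpa using this
  have hx3 : n = 2 → x * x ^ 2 = x⁻¹ := by
    intro hn
    apply eq_inv_of_mul_eq_one_left
    rw [← pow_succ', ← pow_succ]; exact hx4 hn
  obtain ⟨m, hm | hm⟩ := h.conj_eq_of_sq_comm g hg
  · rcases h.z_zpow_two m with h1 | h1
    · rw [h1, mul_one] at hm
      exact absurd (h.cent g (mul_inv_eq_iff_eq_mul.mp hm)) hgU
    · have hgM : Commute g (x ^ 2) := h.comm_pow_of_conj_eq g m hm
      rw [h1] at hm
      rcases hH with hn | hM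
      · left
        rw [hm]
        have : x ^ (2 ^ (n - 1)) = x ^ 2 := by subst hn; norm_num
        rw [this]; exact hx3 hn
      · exact absurd (hM g hgM) hgU
  · rcases h.z_zpow_two m with h1 | h1
    · rw [h1, mul_one] at hm; exact Or.inl hm
    · rw [h1] at hm
      by_cases hn3 : 3 ≤ n
      · exact Or.inr ⟨hn3, hm⟩
      · exfalso
        have hn : n = 2 := by have := h.two_le; omega
        have : x ^ (2 ^ (n - 1)) = x ^ 2 := by subst hn; norm_num
        rw [this] at hm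
        have h2 : x⁻¹ * x ^ 2 = x := by rw [pow_two, inv_mul_cancel_left]
        rw [h2] at hm
        exact hgU (h.cent g (mul_inv_eq_iff_eq_mul.mp hm))

/-- Step 2 of case (A): every element outside `U` inverts `x` up to `z`. -/
theorem caseA_step2 [Finite G] (h : Ctx G 2 x n)
    (hH : n = 2 ∨ ∀ g, Commute g (x ^ 2) → g ∈ Subgroup.zpowers x)
    (g : G) (hgU : g ∉ Subgroup.zpowers x) :
    g * x * g⁻¹ = x⁻¹ ∨ (3 ≤ n ∧ g * x * g⁻¹ = x⁻¹ * x ^ (2 ^ (n - 1))) := by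
  obtain ⟨e, he1, he2⟩ := h.exists_pow_mem g hgU
  rcases e with _ | e
  · rw [pow_zero, pow_one] at he1
    rw [zero_add, pow_one] at he2
    exact h.caseA_step1 hH g hgU (h.mem_comm he2)
  · exfalso
    have hq2 : (g ^ (2 ^ e)) ^ 2 = g ^ (2 ^ (e + 1)) := by rw [← pow_mul, ← pow_succ]
    have hq4 : ((g ^ (2 ^ e)) ^ 2) ^ 2 = g ^ (2 ^ (e + 1 + 1)) := by
      rw [hq2, ← pow_mul, ← pow_succ]
    rw [← hq2] at he1
    rw [← hq4] at he2
    obtain ⟨k, hk⟩ := h.exists_conj (g ^ (2 ^ e))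
    have hk2 := pow_conj_of_conj (g ^ (2 ^ e)) x k hk 2
    have h4n : (4 : ℤ) ∣ (2 : ℤ) ^ n := by
      have : (2 : ℤ) ^ n = 4 * 2 ^ (n - 2) := by
        have h2 : n = 2 + (n - 2) := by have := h.two_le; omega
        conv_lhs => rw [h2, pow_add]
        norm_num
      rw [this]; exact dvd_mul_right _ _
    rcases h.caseA_step1 hH _ he1 (h.mem_comm he2) with h1 | ⟨hn3, h1⟩
    · rw [h1] at hk2
      have h3 : x ^ (-1 : ℤ) = x ^ (k ^ 2) := by rw [zpow_neg_one]; exact hk2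
      have h5 := zpow_eq_zpow_iff_modEq.mp h3
      rw [h.ord] at h5
      have h6 := Int.modEq_iff_dvd.mp h5
      push_cast at h6
      have h7 : (4 : ℤ) ∣ k ^ 2 + 1 := by
        have := dvd_trans h4n h6
        have h8 : k ^ 2 + 1 = k ^ 2 - -1 := by ring
        rwa [h8]
      exact nt_sq k h7
    · rw [h1] at hk2
      have h3 : x ^ (-1 + ((2 ^ (n - 1) : ℕ) : ℤ)) = x ^ (k ^ 2) := by
        rw [zpow_add, zpow_neg_one, zpow_natCast]; exact hk2
      have h5 := zpow_eq_zpow_iff_modEq.mp h3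
      rw [h.ord] at h5
      have h6 := Int.modEq_iff_dvd.mp h5
      push_cast at h6
      have h4n' : (4 : ℤ) ∣ (2 : ℤ) ^ (n - 1) := by
        have : (2 : ℤ) ^ (n - 1) = 4 * 2 ^ (n - 3) := by
          have h2 : n - 1 = 2 + (n - 3) := by omega
          conv_lhs => rw [h2, pow_add]
          norm_num
        rw [this]; exact dvd_mul_right _ _
      have h7 : (4 : ℤ) ∣ k ^ 2 + 1 := by
        have h9 := dvd_trans h4n h6
        have h8 : k ^ 2 + 1 = (k ^ 2 - (-1 + 2 ^ (n - 1))) + 2 ^ (n - 1) := by ring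
        rw [h8]; exact dvd_add h9 h4n'
      exact nt_sq k h7

/-- Step 3 of case (A): the product of two elements outside `U` lies in `U`. -/
theorem caseA_step3 [Finite G] (h : Ctx G 2 x n)
    (hH : n = 2 ∨ ∀ g, Commute g (x ^ 2) → g ∈ Subgroup.zpowers x)
    (b c : G) (hb : b ∉ Subgroup.zpowers x) (hc : c ∉ Subgroup.zpowers x) :
    b * c ∈ Subgroup.zpowers x := by
  have key : ∀ g : G, g ∉ Subgroup.zpowers x → ∃ m : ℤ,
      g * x * g⁻¹ = x⁻¹ * (x ^ (2 ^ (n - 1))) ^ m ∧ (n = 2 → (x ^ (2 ^ (n - 1))) ^ m = 1) := by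
    intro g hg
    rcases h.caseA_step2 hH g hg with h1 | ⟨hn3, h1⟩
    · exact ⟨0, by rw [zpow_zero, mul_one]; exact h1, fun _ => zpow_zero _⟩
    · exact ⟨1, by rw [zpow_one]; exact h1, fun hn => by omega⟩
  obtain ⟨mb, hmb, hmb2⟩ := key b hb
  obtain ⟨mc, hmc, hmc2⟩ := key c hc
  have hzc : ∀ (g : G) (m : ℤ), g * (x ^ (2 ^ (n - 1))) ^ m * g⁻¹ = (x ^ (2 ^ (n - 1))) ^ m := by
    intro g m
    rw [((h.z_central g).zpow_right m).eq, mul_inv_cancel_right]
  have hxz : ∀ m : ℤ, Commute x ((x ^ (2 ^ (n - 1))) ^ m) := fun m =>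
    ((Commute.refl x).pow_right _).zpow_right m
  have hconj : (b * c) * x * (b * c)⁻¹ = x * (x ^ (2 ^ (n - 1))) ^ (mc - mb) := by
    calc (b * c) * x * (b * c)⁻¹ = b * (c * x * c⁻¹) * b⁻¹ := by group
      _ = b * (x⁻¹ * (x ^ (2 ^ (n - 1))) ^ mc) * b⁻¹ := by rw [hmc]
      _ = (b * x * b⁻¹)⁻¹ * (b * (x ^ (2 ^ (n - 1))) ^ mc * b⁻¹) := by group
      _ = (x⁻¹ * (x ^ (2 ^ (n - 1))) ^ mb)⁻¹ * (x ^ (2 ^ (n - 1))) ^ mc := by rw [hmb, hzc]
      _ = x * (x ^ (2 ^ (n - 1))) ^ (mc - mb) := by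
        rw [mul_inv_rev, inv_inv, ← (hxz mb).inv_right.eq, mul_assoc, zpow_sub,
          ((Commute.refl (x ^ (2 ^ (n - 1)))).zpow_zpow mc mb).inv_right.eq]
  rcases hH with hn | hM
  · apply h.cent
    rw [zpow_sub, hmb2 hn, hmc2 hn, inv_one, mul_one, mul_one] at hconj
    exact mul_inv_eq_iff_eq_mul.mp hconj
  · exact hM _ (h.comm_pow_of_conj_eq _ _ hconj)

theorem caseA_index [Finite G] (h : Ctx G 2 x n) (hne : ∃ g, g ∉ Subgroup.zpowers x)
    (hH : n = 2 ∨ ∀ g, Commute g (x ^ 2) → g ∈ Subgroup.zpowers x) :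
    (Subgroup.zpowers x).index = 2 := by
  obtain ⟨g₀, hg₀⟩ := hne
  rw [Subgroup.index_eq_two_iff]
  refine ⟨g₀, fun b => ?_⟩
  by_cases hb : b ∈ Subgroup.zpowers x
  · refine Or.inr ⟨hb, fun hba => hg₀ ?_⟩
    have := Subgroup.mul_mem _ (Subgroup.inv_mem _ hb) hba
    rwa [inv_mul_cancel_left] at this
  · exact Or.inl ⟨h.caseA_step3 hH b g₀ hb hg₀, hb⟩


/-- Step 5 of case (A): the square of an element outside `U` is `1` or `z`. -/
theorem caseA_sq [Finite G] (h : Ctx G 2 x n)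
    (hH : n = 2 ∨ ∀ g, Commute g (x ^ 2) → g ∈ Subgroup.zpowers x)
    (g : G) (hgU : g ∉ Subgroup.zpowers x) :
    g * g = 1 ∨ g * g = x ^ (2 ^ (n - 1)) := by
  have huU : g * g ∈ Subgroup.zpowers x := h.caseA_step3 hH g g hgU hgU
  have hfix : g * (g * g) * g⁻¹ = g * g := by group
  have hinv : g * (g * g) * g⁻¹ = (g * g)⁻¹ → g * g = 1 ∨ g * g = x ^ (2 ^ (n - 1)) := by
    intro h1
    rw [hfix] at h1
    have h2 : (g * g) ^ 2 = 1 := by
      rw [pow_two]; nth_rewrite 1 [h1]; exact inv_mul_cancel _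
    obtain ⟨m, hm⟩ := Subgroup.mem_zpowers_iff.mp (h.mem_zpowers_z huU h2)
    rw [← hm]; exact h.z_zpow_two m
  rcases h.caseA_step2 hH g hgU with h1 | ⟨hn3, h1⟩
  · apply hinv
    obtain ⟨i, hi⟩ := Subgroup.mem_zpowers_iff.mp huU
    rw [← hi, ← conj_zpow, h1, inv_zpow]
  · apply hinv
    -- first: (g*g)^4 = 1
    obtain ⟨i, hi⟩ := Subgroup.mem_zpowers_iff.mp huU
    have hxz : Commute x⁻¹ (x ^ (2 ^ (n - 1))) := ((Commute.refl x).pow_right _).inv_left
    have h2 : g * (g * g) * g⁻¹ = (g * g)⁻¹ * (x ^ (2 ^ (n - 1))) ^ i := by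
      rw [← hi, ← conj_zpow, h1, hxz.mul_zpow, inv_zpow]
    rw [hfix] at h2
    have h3 : (g * g) ^ 2 = (x ^ (2 ^ (n - 1))) ^ i := by
      rw [pow_two]; nth_rewrite 2 [h2]; rw [mul_inv_cancel_left]
    have h4 : (g * g) ^ (2 ^ 2) = 1 := by
      rw [pow_two 2, pow_mul, h3]
      rcases h.z_zpow_two i with h5 | h5 <;> rw [h5]
      · exact one_pow _
      · exact h.z_pow
    have hmem := mem_zpowers_pow_of_pow_eq_one (p := 2) (j := 2) two_ne_zero h.ord
      (by omega) huU h4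
    obtain ⟨r, hr⟩ := Subgroup.mem_zpowers_iff.mp hmem
    -- g inverts q = x ^ (2 ^ (n - 2))
    have hq : g * x ^ (2 ^ (n - 2)) * g⁻¹ = (x ^ (2 ^ (n - 2)))⁻¹ := by
      rw [← conj_pow, h1, hxz.mul_pow, inv_pow]
      have : (x ^ (2 ^ (n - 1))) ^ (2 ^ (n - 2)) = 1 := by
        have h6 : 2 ^ (n - 2) = 2 * 2 ^ (n - 3) := by
          rw [← pow_succ']; congr 1; omega
        rw [h6, pow_mul, h.z_pow, one_pow]
      rw [this, mul_one]
    rw [← hr, ← conj_zpow, hq, inv_zpow]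

/-- Case (A): `p = 2` and (`n = 2` or `M = U`): `G` is dihedral, generalized quaternion or
quasidihedral of order `2 ^ (n + 1)`. -/
theorem caseA [Finite G] (h : Ctx G 2 x n) (hne : ∃ g, g ∉ Subgroup.zpowers x)
    (hH : n = 2 ∨ ∀ g, Commute g (x ^ 2) → g ∈ Subgroup.zpowers x) :
    Nat.card G = 2 ^ (n + 1) ∧ ((∃ m : ℕ, Nonempty (G ≃* DihedralGroup m)) ∨
      (∃ m : ℕ, Nonempty (G ≃* QuaternionGroup m)) ∨ Cfsg.IsQuasiDihedral G) := by
  have hidx := h.caseA_index hne hH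
  have hcard : Nat.card G = 2 ^ (n + 1) := by
    rw [← Subgroup.card_mul_index (Subgroup.zpowers x), hidx, Nat.card_zpowers, h.ord, pow_succ]
  refine ⟨hcard, ?_⟩
  obtain ⟨g, hgU⟩ := hne
  have hz2 : x ^ (2 ^ (n - 1)) * x ^ (2 ^ (n - 1)) = 1 := by rw [← pow_two]; exact h.z_pow
  have hxn : x ^ (2 ^ n) = 1 := by rw [← h.ord]; exact pow_orderOf_eq_one x
  rcases h.caseA_step2 hH g hgU with h1 | ⟨hn3, h1⟩
  · rcases h.caseA_sq hH g hgU with h2 | h2
    · -- dihedral
      left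
      refine ⟨2 ^ n, ?_⟩
      have hginv : g⁻¹ = g := inv_eq_of_mul_eq_one_right h2
      apply Cfsg.Agent.Lib.Helper14.nonempty_mulEquiv_dihedral (2 ^ n)
        (by rw [hcard, pow_succ']) x g hxn h2 _ h.ord hgU
      nth_rewrite 2 [← hginv]; exact h1
    · -- quaternion
      right; left
      refine ⟨2 ^ (n - 1), ?_⟩
      apply Cfsg.Agent.Lib.Helper18.nonempty_mulEquiv_quaternionGroup x g (2 ^ (n - 1))
        (by rw [h.ord, ← pow_succ']; congr 1; have := h.two_le; omega)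
        (by rw [pow_two]; exact h2) h1 hgU
      intro b
      by_cases hb : b ∈ Subgroup.zpowers x
      · exact Or.inl hb
      · right
        refine ⟨g⁻¹ * b, ?_, by group⟩
        apply h.caseA_step3 hH _ _ _ hb
        intro hg'; exact hgU (by simpa using Subgroup.inv_mem _ hg')
  · right; right
    have hrel : x⁻¹ * x ^ (2 ^ (n - 1)) = x ^ (2 ^ (n - 1) - 1) := by
      apply inv_mul_eq_of_eq_mul
      rw [← pow_succ']
      congr 1
      have : 1 ≤ 2 ^ (n - 1) := Nat.one_le_two_pow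
      omega
    rcases h.caseA_sq hH g hgU with h2 | h2
    · refine ⟨n, hn3, hcard, x, g, h.ord, ?_, ?_⟩
      · apply orderOf_eq_prime (by rw [pow_two]; exact h2)
        rintro rfl; exact hgU (one_mem _)
      · rw [h1, hrel]
    · -- replace g by g * x
      have hy2 : (g * x) * (g * x) = 1 := by
        have h3 : g * x = (g * x * g⁻¹) * g := by group
        calc (g * x) * (g * x) = (g * x * g⁻¹) * (g * g) * x := by group
          _ = x⁻¹ * x ^ (2 ^ (n - 1)) * x ^ (2 ^ (n - 1)) * x := by rw [h1, h2]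
          _ = 1 := by rw [mul_assoc (x⁻¹), hz2, mul_one, inv_mul_cancel]
      have hyU : g * x ∉ Subgroup.zpowers x := by
        intro hmem
        apply hgU
        have := Subgroup.mul_mem _ hmem (Subgroup.inv_mem _ (Subgroup.mem_zpowers x))
        rwa [mul_inv_cancel_right] at this
      refine ⟨n, hn3, hcard, x, g * x, h.ord, ?_, ?_⟩
      · apply orderOf_eq_prime (by rw [pow_two]; exact hy2)
        rintro h0; exact hyU (by rw [h0]; exact one_mem _)
      · rw [← hrel, ← h1]; group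


end Ctx

theorem exists_generator_of_isCyclic {G : Type*} [Group G] (U : Subgroup G) (hU : IsCyclic U) :
    ∃ x : G, U = Subgroup.zpowers x := by
  obtain ⟨x', hx'⟩ := hU.exists_generator
  refine ⟨(x' : G), le_antisymm ?_ (Subgroup.zpowers_le.mpr x'.2)⟩
  intro u hu
  obtain ⟨i, hi⟩ := Subgroup.mem_zpowers_iff.mp (hx' ⟨u, hu⟩)
  rw [Subgroup.mem_zpowers_iff]
  refine ⟨i, ?_⟩
  have := congrArg Subtype.val hi
  simpa using this

theorem centralizer_powerClosure_zpowers {G : Type*} [Group G] (p : ℕ) (x : G) :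
    Subgroup.centralizer (Cfsg.powerClosure p 1 (Subgroup.zpowers x) : Set G)
      = Subgroup.centralizer {x ^ p} := by
  apply le_antisymm
  · apply Subgroup.centralizer_le
    intro y hy
    rw [Set.mem_singleton_iff] at hy; subst hy
    apply Subgroup.subset_closure
    exact ⟨x, Subgroup.mem_zpowers x, by rw [pow_one]⟩
  · intro g hg
    rw [Ctx.mem_centralizer_singleton_iff] at hg
    have hle : Cfsg.powerClosure p 1 (Subgroup.zpowers x) ≤ Subgroup.centralizer {g} := by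
      unfold Cfsg.powerClosure
      rw [Subgroup.closure_le]
      rintro y ⟨u, hu, rfl⟩
      obtain ⟨i, rfl⟩ := Subgroup.mem_zpowers_iff.mp hu
      rw [SetLike.mem_coe, Ctx.mem_centralizer_singleton_iff, pow_one, ← zpow_natCast, ← zpow_mul,
        mul_comm, zpow_mul, zpow_natCast]
      exact (hg.zpow_right i).symm
    rw [Subgroup.mem_centralizer_iff]
    intro y hy
    have := hle hy
    rw [Ctx.mem_centralizer_singleton_iff] at this
    exact this.eq

/-- The main structure theorem for a cyclic self-centralizing normal subgroup of a nonabelian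
`p`-group (statement S3761). -/
theorem main {G : Type*} [Group G] [Finite G] {p : ℕ} [hp : Fact p.Prime] (hG : IsPGroup p G)
    (hna : ¬ IsMulCommutative G) (U : Subgroup G) [hUn' : U.Normal] (hU : IsCyclic U) (n : ℕ)
    (hUn : Nat.card U = p ^ n) (hC : Subgroup.centralizer (U : Set G) = U) :
    (p = 2 ∧ Nat.card G = 2 ^ (n + 1) ∧ ((∃ m : ℕ, Nonempty (G ≃* DihedralGroup m)) ∨
      (∃ m : ℕ, Nonempty (G ≃* QuaternionGroup m)) ∨ Cfsg.IsQuasiDihedral G)) ∨
    (U.relIndex (Subgroup.centralizer (Cfsg.powerClosure p 1 U : Set G)) = p ∧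
      Cfsg.IsElementaryAbelian p
        (Cfsg.omegaOne p (Subgroup.centralizer (Cfsg.powerClosure p 1 U : Set G))) ∧
      Nat.card ↥(Cfsg.omegaOne p (Subgroup.centralizer (Cfsg.powerClosure p 1 U : Set G))) = p ^ 2 ∧
      (Cfsg.omegaOne p (Subgroup.centralizer (Cfsg.powerClosure p 1 U : Set G))).Characteristic) := by
  obtain ⟨x, rfl⟩ := exists_generator_of_isCyclic U hU
  have hord : orderOf x = p ^ n := by rw [← Nat.card_zpowers]; exact hUn
  have hcent : ∀ g : G, Commute g x → g ∈ Subgroup.zpowers x := by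
    intro g hg
    rw [← hC, Subgroup.mem_centralizer_iff]
    intro u hu
    obtain ⟨i, rfl⟩ := Subgroup.mem_zpowers_iff.mp (SetLike.mem_coe.mp hu)
    exact (hg.zpow_right i).eq.symm
  have hnetop : Subgroup.zpowers x ≠ ⊤ := by
    intro htop
    apply hna
    refine ⟨⟨fun a b => ?_⟩⟩
    have ha : a ∈ Subgroup.zpowers x := by rw [htop]; trivial
    have hb : b ∈ Subgroup.zpowers x := by rw [htop]; trivial
    obtain ⟨i, rfl⟩ := Subgroup.mem_zpowers_iff.mp ha
    obtain ⟨j, rfl⟩ := Subgroup.mem_zpowers_iff.mp hb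
    exact ((Commute.refl x).zpow_zpow i j).eq
  have hn2 : 2 ≤ n := by
    by_contra hlt
    apply hnetop
    have hle : Subgroup.zpowers x ≤ Subgroup.center G := by
      have hn01 : n = 0 ∨ n = 1 := by omega
      rcases hn01 with rfl | rfl
      · rw [pow_zero] at hUn
        rw [Subgroup.card_eq_one.mp hUn]; exact bot_le
      · rw [pow_one] at hUn
        exact Cfsg.Agent.Lib.Helper20.le_center_of_normal_of_card_eq_prime hG _ hUn
    rw [← hC]
    exact Subgroup.centralizer_eq_top_iff_subset.mpr hle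
  have hctx : Ctx G p x n := ⟨hG, hord, hUn', hcent, hn2⟩
  have hne : ∃ g, g ∉ Subgroup.zpowers x := by
    by_contra hall
    apply hnetop
    rw [eq_top_iff]; intro g _
    by_contra hg; exact hall ⟨g, hg⟩
  rw [centralizer_powerClosure_zpowers]
  by_cases hp2 : p = 2
  · subst hp2
    by_cases hM : ∃ a, Commute a (x ^ 2) ∧ a ∉ Subgroup.zpowers x
    · by_cases hn : n = 2
      · exact Or.inl ⟨rfl, hctx.caseA hne (Or.inl hn)⟩
      · obtain ⟨a, haM, haU⟩ := hM
        exact Or.inr (hctx.caseB (Or.inr (by omega)) a haM haU)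
    · refine Or.inl ⟨rfl, hctx.caseA hne (Or.inr ?_)⟩
      intro g hg
      by_contra hgU
      exact hM ⟨g, hg, hgU⟩
  · right
    obtain ⟨g, hgU⟩ := hne
    obtain ⟨e, he1, he2⟩ := hctx.exists_pow_mem g hgU
    have hcomm : Commute ((g ^ (p ^ e)) ^ p) x := by
      rw [← pow_mul, ← pow_succ]; exact hctx.mem_comm he2
    obtain ⟨m, hm⟩ := hctx.conj_eq_of_pow_comm_odd hp2 _ hcomm
    exact hctx.caseB (Or.inl hp2) _ (hctx.comm_pow_of_conj_eq _ m hm) he1

end Cfsg.Agent.Lib.Helper20.CSC
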