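import Mathlib

/-!
Helper lemmas (helper20): groups `T` with a central element `z` of order `p` such that all
commutators lie in `⟨z⟩` (class at most two, derived subgroup of order dividing `p`):
the index of the centre is an even power of `p`.
-/

set_option autoImplicit false
open scoped commutatorElement

namespace Cfsg.Agent.Lib.Helper20.Symp

/-- `z` is a central element of order `p` and all commutators of `T` lie in `⟨z⟩` -/
structure C2 (p : ℕ) (T : Type*) [Group T] (z : T) : Prop where
  z_ne : z ≠ 1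
  z_pow : z ^ p = 1
  z_central : z ∈ Subgroup.center T
  comm_mem : ∀ x y : T, ⁅x, y⁆ ∈ Subgroup.zpowers z

namespace C2

variable {p : ℕ} {T : Type*} [Group T] {z : T}

theorem zpowers_le_center (h : C2 p T z) : Subgroup.zpowers z ≤ Subgroup.center T := by
  rw [Subgroup.zpowers_le]; exact h.z_central

theorem comm_central (h : C2 p T z) (x y : T) : ⁅x, y⁆ ∈ Subgroup.center T :=
  h.zpowers_le_center (h.comm_mem x y)

theorem orderOf_z [hp : Fact p.Prime] (h : C2 p T z) : orderOf z = p :=
  orderOf_eq_prime h.z_pow h.z_ne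

theorem card_zpowers [hp : Fact p.Prime] (h : C2 p T z) : Nat.card (Subgroup.zpowers z) = p := by
  rw [Nat.card_zpowers, h.orderOf_z]

theorem comm_mul_right (h : C2 p T z) (x a b : T) : ⁅x, a * b⁆ = ⁅x, a⁆ * ⁅x, b⁆ := by
  have h1 : ⁅x, a * b⁆ = ⁅x, a⁆ * (a * ⁅x, b⁆ * a⁻¹) := by
    simp only [commutatorElement_def]; group
  have h2 := Subgroup.mem_center_iff.mp (h.comm_central x b) a
  rw [h1, h2, mul_inv_cancel_right]

/-- the homomorphism `b ↦ ⁅x, b⁆` -/
def commHom (h : C2 p T z) (x : T) : T →* T where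
  toFun b := ⁅x, b⁆
  map_one' := by simp
  map_mul' a b := h.comm_mul_right x a b

theorem commHom_apply (h : C2 p T z) (x b : T) : h.commHom x b = ⁅x, b⁆ := rfl

theorem range_commHom [hp : Fact p.Prime] [Finite T] (h : C2 p T z) {x y : T} (hxy : ⁅x, y⁆ ≠ 1) :
    (h.commHom x).range = Subgroup.zpowers z := by
  have hle : (h.commHom x).range ≤ Subgroup.zpowers z := by
    rintro _ ⟨b, rfl⟩
    exact h.comm_mem x b
  have hdvd : Nat.card (h.commHom x).range ∣ p := by
    have := Subgroup.card_dvd_of_le hle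
    rwa [h.card_zpowers] at this
  have hne : Nat.card (h.commHom x).range ≠ 1 := by
    intro h1
    have hbot : (h.commHom x).range = ⊥ := Subgroup.card_eq_one.mp h1
    have : ⁅x, y⁆ ∈ (h.commHom x).range := ⟨y, rfl⟩
    rw [hbot, Subgroup.mem_bot] at this
    exact hxy this
  have hcard : Nat.card (h.commHom x).range = p := by
    rcases (Nat.dvd_prime hp.1).mp hdvd with h1 | h1
    · exact absurd h1 hne
    · exact h1
  exact Subgroup.eq_of_le_of_card_ge hle (by rw [hcard, h.card_zpowers])

theorem card_eq_mul_card_ker [hp : Fact p.Prime] [Finite T] (h : C2 p T z) {x y : T} (hxy : ⁅x, y⁆ ≠ 1) :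
    Nat.card T = Nat.card (h.commHom x).ker * p := by
  rw [← Subgroup.card_mul_index (h.commHom x).ker, Subgroup.index_ker, h.range_commHom hxy,
    h.card_zpowers]

/-- the centralizer of `x, y` -/
def cent (x y : T) : Subgroup T := Subgroup.centralizer ({x, y} : Set T)

theorem mem_cent {x y c : T} : c ∈ cent x y ↔ ⁅x, c⁆ = 1 ∧ ⁅y, c⁆ = 1 := by
  unfold cent
  rw [Subgroup.mem_centralizer_iff, commutatorElement_eq_one_iff_mul_comm,
    commutatorElement_eq_one_iff_mul_comm]
  constructor
  · intro h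
    exact ⟨h x (by simp), h y (by simp)⟩
  · rintro ⟨h1, h2⟩ w hw
    rcases hw with rfl | hw
    · exact h1
    · rw [Set.mem_singleton_iff] at hw
      subst hw
      exact h2

theorem z_mem_cent (h : C2 p T z) (x y : T) : z ∈ cent x y := by
  rw [mem_cent, commutatorElement_eq_one_iff_mul_comm, commutatorElement_eq_one_iff_mul_comm]
  exact ⟨Subgroup.mem_center_iff.mp h.z_central x, Subgroup.mem_center_iff.mp h.z_central y⟩

theorem card_eq_sq_mul_card_cent [hp : Fact p.Prime] [Finite T] (h : C2 p T z) {x y : T}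
    (hxy : ⁅x, y⁆ ≠ 1) : Nat.card T = p ^ 2 * Nat.card (cent x y) := by
  have hAmem : ∀ c : T, c ∈ (h.commHom x).ker ↔ ⁅x, c⁆ = 1 := fun c => Iff.rfl
  let g : (h.commHom x).ker →* T := (h.commHom y).comp (h.commHom x).ker.subtype
  have hg : ∀ a : (h.commHom x).ker, g a = ⁅y, (a : T)⁆ := fun a => rfl
  have hxA : x ∈ (h.commHom x).ker := by
    rw [hAmem, commutatorElement_self]
  have hle : g.range ≤ Subgroup.zpowers z := by
    rintro _ ⟨b, rfl⟩
    exact h.comm_mem y b
  have hne : Nat.card g.range ≠ 1 := by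
    intro h1
    have hbot : g.range = ⊥ := Subgroup.card_eq_one.mp h1
    have : ⁅y, x⁆ ∈ g.range := ⟨⟨x, hxA⟩, rfl⟩
    rw [hbot, Subgroup.mem_bot] at this
    apply hxy
    rw [← commutatorElement_inv, this, inv_one]
  have hcard : Nat.card g.range = p := by
    have hdvd : Nat.card g.range ∣ p := by
      have := Subgroup.card_dvd_of_le hle
      rwa [h.card_zpowers] at this
    rcases (Nat.dvd_prime hp.1).mp hdvd with h1 | h1
    · exact absurd h1 hne
    · exact h1
  have hmap : g.ker.map (h.commHom x).ker.subtype = cent x y := by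
    ext c
    rw [mem_cent]
    constructor
    · rintro ⟨a, ha, rfl⟩
      exact ⟨(hAmem _).mp a.2, ha⟩
    · rintro ⟨h1, h2⟩
      exact ⟨⟨c, (hAmem c).mpr h1⟩, h2, rfl⟩
  have hcardA : Nat.card (h.commHom x).ker = Nat.card g.ker * p := by
    rw [← Subgroup.card_mul_index g.ker, Subgroup.index_ker, hcard]
  have hck : Nat.card g.ker = Nat.card (cent x y) := by
    rw [← hmap, Subgroup.card_map_of_injective (h.commHom x).ker.subtype_injective]
  rw [h.card_eq_mul_card_ker hxy, hcardA, hck]
  ring

theorem c2_cent (h : C2 p T z) (x y : T) : C2 p (cent x y) ⟨z, h.z_mem_cent x y⟩ where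
  z_ne := fun hz => h.z_ne (congrArg Subtype.val hz)
  z_pow := Subtype.ext (by rw [Subgroup.coe_pow]; exact h.z_pow)
  z_central := by
    rw [Subgroup.mem_center_iff]
    intro c
    exact Subtype.ext (Subgroup.mem_center_iff.mp h.z_central c)
  comm_mem := by
    intro a b
    obtain ⟨k, hk⟩ := Subgroup.mem_zpowers_iff.mp (h.comm_mem (a : T) b)
    exact Subgroup.mem_zpowers_iff.mpr ⟨k, Subtype.ext (by
      rw [Subgroup.coe_zpow]; exact hk)⟩

theorem comm_zpow_right (h : C2 p T z) (x y : T) (j : ℤ) : ⁅x, y ^ j⁆ = ⁅x, y⁆ ^ j := by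
  rw [← commHom_apply h, map_zpow, commHom_apply]

theorem comm_inv_right (h : C2 p T z) (x y : T) : ⁅x, y⁻¹⁆ = ⁅x, y⁆⁻¹ := by
  rw [← commHom_apply h, map_inv, commHom_apply]

theorem comm_self_zpow (x : T) (j : ℤ) : ⁅x, x ^ j⁆ = 1 := by
  rw [commutatorElement_eq_one_iff_commute]
  exact (Commute.refl x).zpow_right j

/-- a nonidentity element of `⟨z⟩` generates it -/
theorem exists_zpow_eq [hp : Fact p.Prime] [Finite T] (h : C2 p T z) {w v : T}
    (hw : w ∈ Subgroup.zpowers z) (hw1 : w ≠ 1) (hv : v ∈ Subgroup.zpowers z) :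
    ∃ j : ℤ, w ^ j = v := by
  have htop := zpowers_eq_top_of_prime_card (G := Subgroup.zpowers z) h.card_zpowers
    (g := ⟨w, hw⟩) (fun hh => hw1 (congrArg Subtype.val hh))
  have : (⟨v, hv⟩ : Subgroup.zpowers z) ∈
      Subgroup.zpowers (⟨w, hw⟩ : Subgroup.zpowers z) := by
    rw [htop]; exact Subgroup.mem_top _
  obtain ⟨j, hj⟩ := Subgroup.mem_zpowers_iff.mp this
  exact ⟨j, by
    have := congrArg Subtype.val hj
    simpa using this⟩

theorem commute_gen_cent {x y a c : T} (ha : a ∈ Subgroup.closure ({x, y} : Set T))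
    (hc : c ∈ cent x y) : a * c = c * a := by
  have h1 := Subgroup.closure_le_centralizer_centralizer ({x, y} : Set T) ha
  rw [Subgroup.mem_centralizer_iff] at h1
  exact (h1 c hc).symm

theorem exists_mul_decomp [hp : Fact p.Prime] [Finite T] (h : C2 p T z) {x y : T}
    (hxy : ⁅x, y⁆ ≠ 1) (e : T) :
    ∃ a ∈ Subgroup.closure ({x, y} : Set T), ∃ c ∈ cent x y, e = a * c := by
  have hyx : ⁅y, x⁆ ≠ 1 := by
    intro h1
    apply hxy
    rw [← commutatorElement_inv, h1, inv_one]
  obtain ⟨i, hi⟩ := h.exists_zpow_eq (h.comm_mem x y) hxy (h.comm_mem x e)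
  obtain ⟨j, hj⟩ := h.exists_zpow_eq (h.comm_mem y x) hyx (h.comm_mem y e)
  have hx : x ∈ Subgroup.closure ({x, y} : Set T) := Subgroup.subset_closure (by simp)
  have hy : y ∈ Subgroup.closure ({x, y} : Set T) := Subgroup.subset_closure (by simp)
  refine ⟨x ^ j * y ^ i, Subgroup.mul_mem _ (Subgroup.zpow_mem _ hx _) (Subgroup.zpow_mem _ hy _),
    (x ^ j * y ^ i)⁻¹ * e, ?_, by group⟩
  rw [mem_cent, h.comm_mul_right, h.comm_mul_right, h.comm_inv_right, h.comm_inv_right,
    h.comm_mul_right, h.comm_mul_right, h.comm_zpow_right, h.comm_zpow_right, h.comm_zpow_right,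
    h.comm_zpow_right, commutatorElement_self, commutatorElement_self, ← hi, ← hj]
  constructor
  · simp
  · simp

/-- the centre of `C_T(x, y)` is the centre of `T` -/
theorem center_cent [hp : Fact p.Prime] [Finite T] (h : C2 p T z) {x y : T} (hxy : ⁅x, y⁆ ≠ 1) :
    (Subgroup.center (cent x y)).map (cent x y).subtype = Subgroup.center T := by
  ext w
  constructor
  · rintro ⟨w, hw, rfl⟩
    rw [Subgroup.mem_center_iff]
    intro e
    obtain ⟨a, ha, c, hc, rfl⟩ := h.exists_mul_decomp hxy e
    have h1 : a * (w : T) = w * a := commute_gen_cent ha w.2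
    have h2 : (⟨c, hc⟩ : cent x y) * w = w * ⟨c, hc⟩ := Subgroup.mem_center_iff.mp hw ⟨c, hc⟩
    have h2' : c * (w : T) = w * c := congrArg Subtype.val h2
    show a * c * (w : T) = w * (a * c)
    rw [mul_assoc, h2', ← mul_assoc, h1, mul_assoc]
  · intro hw
    have hwc : w ∈ cent x y := by
      rw [mem_cent, commutatorElement_eq_one_iff_mul_comm, commutatorElement_eq_one_iff_mul_comm]
      exact ⟨(Subgroup.mem_center_iff.mp hw x), (Subgroup.mem_center_iff.mp hw y)⟩
    refine ⟨⟨w, hwc⟩, ?_, rfl⟩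
    rw [SetLike.mem_coe, Subgroup.mem_center_iff]
    intro c
    exact Subtype.ext (Subgroup.mem_center_iff.mp hw c)

/-- the index of the centre is an even power of `p` -/
theorem exists_card_eq [hp : Fact p.Prime] : ∀ (n : ℕ) (T : Type*) [Group T] [Finite T] (z : T),
    C2 p T z → Nat.card T ≤ n → ∃ k : ℕ, Nat.card T = p ^ (2 * k) * Nat.card (Subgroup.center T) := by
  intro n
  induction n with
  | zero =>
    intro T _ _ z h hn
    exact absurd hn (by have := Nat.card_pos (α := T); omega)
  | succ n ih =>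
    intro T _ _ z h hn
    by_cases hab : ∀ x y : T, ⁅x, y⁆ = 1
    · refine ⟨0, ?_⟩
      have : Subgroup.center T = ⊤ := by
        rw [eq_top_iff]
        intro w _
        rw [Subgroup.mem_center_iff]
        intro g
        have := hab g w
        rwa [commutatorElement_eq_one_iff_mul_comm] at this
      rw [this, Subgroup.card_top]
      simp
    · push Not at hab
      obtain ⟨x, y, hxy⟩ := hab
      have hcard := h.card_eq_sq_mul_card_cent hxy
      have hlt : Nat.card (cent x y) ≤ n := by
        have hp2 : 2 ≤ p := hp.1.two_le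
        have hpos := Nat.card_pos (α := cent x y)
        have : 4 ≤ p ^ 2 := by nlinarith
        nlinarith
      obtain ⟨k, hk⟩ := ih (cent x y) ⟨z, h.z_mem_cent x y⟩ (h.c2_cent x y) hlt
      refine ⟨k + 1, ?_⟩
      have hc : Nat.card (Subgroup.center (cent x y)) = Nat.card (Subgroup.center T) := by
        rw [← h.center_cent hxy, Subgroup.card_map_of_injective (cent x y).subtype_injective]
      rw [hcard, hk, hc]
      ring

end C2

end Cfsg.Agent.Lib.Helper20.Symp
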