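import Mathlib
import Cfsg.Agent.Lib.Helper20.SympC2
import Cfsg.Agent.Lib.Helper9.Cyclic
import Cfsg.Agent.Lib.Helper1.Alperin
import Cfsg.Agent.Lib.Helper20.CyclicSelfCent

/-!
Helper lemmas (helper20): in a `p`-group of symplectic type (every characteristic abelian
subgroup cyclic), a characteristic subgroup `X` of class at most two with `X / Z(X)` of exponent
`p` has all `p`-th powers in `Z(X) ^ p` (when `p` is odd or `|Z(X)| ≥ p²`).
-/

set_option autoImplicit false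
open scoped commutatorElement

namespace Cfsg.Agent.Lib.Helper20.Symp

/-- centre of a subgroup, in the ambient group -/
theorem map_center_subtype {G : Type*} [Group G] (X : Subgroup G) :
    (Subgroup.center ↥X).map X.subtype = X ⊓ Subgroup.centralizer (X : Set G) := by
  ext w
  rw [Subgroup.mem_map, Subgroup.mem_inf]
  constructor
  · rintro ⟨w, hw, rfl⟩
    refine ⟨w.2, ?_⟩
    rw [Subgroup.mem_centralizer_iff]
    intro x hx
    have := Subgroup.mem_center_iff.mp hw ⟨x, hx⟩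
    exact congrArg Subtype.val this
  · rintro ⟨hwX, hwc⟩
    refine ⟨⟨w, hwX⟩, ?_, rfl⟩
    rw [Subgroup.mem_center_iff]
    intro x
    rw [Subgroup.mem_centralizer_iff] at hwc
    exact Subtype.ext (hwc x x.2)

theorem card_center_subtype {G : Type*} [Group G] (X : Subgroup G) :
    Nat.card (Subgroup.center ↥X) = Nat.card ↥(X ⊓ Subgroup.centralizer (X : Set G)) := by
  rw [← map_center_subtype, Subgroup.card_map_of_injective X.subtype_injective]

/-- if `⁅a, b⁆` commutes with `a` then `⁅a ^ k, b⁆ = ⁅a, b⁆ ^ k` -/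
theorem comm_pow_left_of_commute {G : Type*} [Group G] (a b : G) (hc : Commute ⁅a, b⁆ a) (k : ℕ) :
    ⁅a ^ k, b⁆ = ⁅a, b⁆ ^ k := by
  induction k with
  | zero => simp
  | succ k ih =>
    have h1 : ⁅a ^ (k + 1), b⁆ = a ^ k * ⁅a, b⁆ * (a ^ k)⁻¹ * ⁅a ^ k, b⁆ := by
      simp only [commutatorElement_def, pow_succ]; group
    have h2 : a ^ k * ⁅a, b⁆ * (a ^ k)⁻¹ = ⁅a, b⁆ := by
      rw [← (hc.pow_right k).eq]; group
    rw [h1, h2, ih, pow_succ']

/-- in a cyclic subgroup, the solutions of `t ^ p = 1` are the powers of an element of order `p` -/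
theorem mem_zpowers_of_pow_eq_one {G : Type*} [Group G] (Y : Subgroup G) [Finite Y]
    (hY : IsCyclic Y) {p : ℕ} {a t : G} (ha : a ∈ Y) (hao : orderOf a = p) (ht : t ∈ Y)
    (htp : t ^ p = 1) : t ∈ Subgroup.zpowers a := by
  have hcard : Nat.card (Subgroup.zpowers (⟨a, ha⟩ : Y)) = p := by
    rw [Nat.card_zpowers, Subgroup.orderOf_mk, hao]
  have hmem := (Cfsg.Agent.Lib.Helper9.mem_iff_pow_card_eq_one_of_isCyclic
    (Subgroup.zpowers (⟨a, ha⟩ : Y)) (⟨t, ht⟩ : Y)).mpr (by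
      rw [hcard]; exact Subtype.ext (by rw [Subgroup.coe_pow]; exact htp))
  obtain ⟨k, hk⟩ := Subgroup.mem_zpowers_iff.mp hmem
  exact Subgroup.mem_zpowers_iff.mpr ⟨k, by
    have := congrArg Subtype.val hk
    simpa using this⟩

/-- `Y` cyclic `p`-group, `c ∈ Y` with `c ^ p = 1`: then `c ^ (p choose 2)` is a `p`-th power in
`Y`, provided `p` is odd or `|Y| ≥ p²`. -/
theorem exists_pow_eq_choose {G : Type*} [Group G] {p : ℕ} [hp : Fact p.Prime] (Y : Subgroup G)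
    [Finite Y] (hY : IsCyclic Y) (hYp : IsPGroup p Y)
    (hsize : p ≠ 2 ∨ p ^ 2 ≤ Nat.card Y) {c : G} (hc : c ∈ Y) (hcp : c ^ p = 1) :
    ∃ y ∈ Y, c ^ (p.choose 2) = y ^ p := by
  by_cases hp2 : p = 2
  · subst hp2
    have h4 : 2 ^ 2 ≤ Nat.card Y := by
      rcases hsize with h | h
      · exact absurd rfl h
      · exact h
    obtain ⟨u', hu'⟩ := hY.exists_generator
    have hcardu : orderOf u' = Nat.card Y := orderOf_eq_card_of_forall_mem_zpowers hu'
    obtain ⟨k, hk⟩ := hYp.exists_card_eq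
    have hk2 : 2 ≤ k := by
      by_contra hlt
      have : k = 0 ∨ k = 1 := by omega
      rcases this with rfl | rfl <;> omega
    obtain ⟨k', rfl⟩ : ∃ k', k = k' + 2 := ⟨k - 2, by omega⟩
    have hdvd : 2 ^ k' ∣ orderOf u' := by
      rw [hcardu, hk]; exact ⟨4, by ring⟩
    have hov : orderOf (u' ^ (2 ^ k')) = 4 := by
      rw [orderOf_pow_of_dvd (by positivity) hdvd, hcardu, hk]
      rw [pow_add, Nat.mul_div_cancel_left _ (by positivity)]
      norm_num
    set v : Y := u' ^ (2 ^ k') with hv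
    have hov2 : orderOf (v ^ 2) = 2 := by
      rw [orderOf_pow_of_dvd (by norm_num) (by rw [hov]; norm_num), hov]
    have hov2' : orderOf (((v ^ 2 : Y) : G)) = 2 := by
      rw [Subgroup.orderOf_coe]; exact hov2
    have hmem := mem_zpowers_of_pow_eq_one Y hY (v ^ 2 : Y).2 hov2' hc hcp
    obtain ⟨j, hj⟩ := Subgroup.mem_zpowers_iff.mp hmem
    refine ⟨((v ^ j : Y) : G), (v ^ j : Y).2, ?_⟩
    rw [show Nat.choose 2 2 = 1 from rfl, pow_one, ← hj]
    push_cast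
    rw [← zpow_natCast, ← zpow_natCast, ← zpow_mul, ← zpow_mul, mul_comm]
  · refine ⟨1, Y.one_mem, ?_⟩
    have h3 : 2 < p := by
      have := hp.1.two_le
      omega
    obtain ⟨m, hm⟩ := Nat.Prime.dvd_choose_self hp.1 (by norm_num : (2 : ℕ) ≠ 0) h3
    rw [hm, pow_mul, hcp, one_pow, one_pow]

section power

variable {G : Type*} [Group G] {p : ℕ} (X : Subgroup G)

/-- commutators of `X` have order dividing `p` -/
theorem comm_pow_eq_one
    (hpow : ∀ x ∈ X, x ^ p ∈ Subgroup.centralizer (X : Set G))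
    (hcomm : ∀ x ∈ X, ∀ x' ∈ X, ⁅x, x'⁆ ∈ Subgroup.centralizer (X : Set G))
    {x x' : G} (hx : x ∈ X) (hx' : x' ∈ X) : ⁅x, x'⁆ ^ p = 1 := by
  have h1 : Commute ⁅x, x'⁆ x := by
    have := Subgroup.mem_centralizer_iff.mp (hcomm x hx x' hx') x hx
    exact this.symm
  rw [← comm_pow_left_of_commute x x' h1 p, commutatorElement_eq_one_iff_mul_comm]
  exact (Subgroup.mem_centralizer_iff.mp (hpow x hx) x' hx').symm

/-- the class two power formula in `X` -/
theorem mul_pow_eq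
    (hpow : ∀ x ∈ X, x ^ p ∈ Subgroup.centralizer (X : Set G))
    (hcomm : ∀ x ∈ X, ∀ x' ∈ X, ⁅x, x'⁆ ∈ Subgroup.centralizer (X : Set G))
    {x x' : G} (hx : x ∈ X) (hx' : x' ∈ X) :
    ∃ c ∈ X ⊓ Subgroup.centralizer (X : Set G), c ^ p = 1 ∧
      ∀ n : ℕ, (x * x') ^ n = x ^ n * x' ^ n * c ^ (n.choose 2) := by
  have hxi : x⁻¹ ∈ X := X.inv_mem hx
  have hxi' : x'⁻¹ ∈ X := X.inv_mem hx'
  refine ⟨⁅x'⁻¹, x⁻¹⁆, ⟨?_, hcomm _ hxi' _ hxi⟩, comm_pow_eq_one X hpow hcomm hxi' hxi, ?_⟩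
  · rw [commutatorElement_def]
    exact X.mul_mem (X.mul_mem (X.mul_mem hxi' hxi) (X.inv_mem hxi')) (X.inv_mem hxi)
  · intro n
    have hc := Subgroup.mem_centralizer_iff.mp (hcomm _ hxi' _ hxi)
    apply Cfsg.Agent.Lib.Helper1.mul_pow_of_commute_commutator
    · rw [commutatorElement_def]; group
    · exact (hc x hx).symm
    · exact (hc x' hx').symm

end power

section main

variable {G : Type*} [Group G] [Finite G] {p : ℕ} [hp : Fact p.Prime]

/-- the subgroup `D` of elements of `X` whose `p`-th power is a `p`-th power in `Z(X)` -/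
theorem exists_subgroup_D (hG : IsPGroup p G) (X : Subgroup G)
    (hYcyc : IsCyclic ↥(X ⊓ Subgroup.centralizer (X : Set G)))
    (hpow : ∀ x ∈ X, x ^ p ∈ Subgroup.centralizer (X : Set G))
    (hcomm : ∀ x ∈ X, ∀ x' ∈ X, ⁅x, x'⁆ ∈ Subgroup.centralizer (X : Set G))
    (hsize : p ≠ 2 ∨ p ^ 2 ≤ Nat.card ↥(X ⊓ Subgroup.centralizer (X : Set G))) :
    ∃ D : Subgroup G, ∀ x, x ∈ D ↔
      (x ∈ X ∧ ∃ y ∈ X ⊓ Subgroup.centralizer (X : Set G), x ^ p = y ^ p) := by
  set Y := X ⊓ Subgroup.centralizer (X : Set G) with hYdef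
  have hYp : IsPGroup p Y := hG.to_subgroup Y
  have hYcomm' : ∀ a ∈ Y, ∀ b ∈ Y, a * b = b * a := by
    intro a ha b hb
    exact Subgroup.mem_centralizer_iff.mp hb.2 a ha.1
  refine ⟨{ carrier := {x | x ∈ X ∧ ∃ y ∈ Y, x ^ p = y ^ p}
            mul_mem' := ?_
            one_mem' := ⟨X.one_mem, 1, Y.one_mem, rfl⟩
            inv_mem' := ?_ }, fun x => Iff.rfl⟩
  · rintro a b ⟨haX, ya, hya, hay⟩ ⟨hbX, yb, hyb, hby⟩
    refine ⟨X.mul_mem haX hbX, ?_⟩
    obtain ⟨c, hcY, hcp, hform⟩ := mul_pow_eq X hpow hcomm haX hbX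
    obtain ⟨y'', hy'', hcy⟩ := exists_pow_eq_choose Y hYcyc hYp hsize hcY hcp
    refine ⟨ya * yb * y'', Y.mul_mem (Y.mul_mem hya hyb) hy'', ?_⟩
    have h1 : Commute ya yb := hYcomm' ya hya yb hyb
    have h2 : Commute (ya * yb) y'' := hYcomm' _ (Y.mul_mem hya hyb) _ hy''
    rw [hform p, hay, hby, hcy, h2.mul_pow, h1.mul_pow]
  · rintro a ⟨haX, ya, hya, hay⟩
    exact ⟨X.inv_mem haX, ya⁻¹, Y.inv_mem hya, by rw [inv_pow, inv_pow, hay]⟩

/-- `D` has index `p` in `X` if it is proper -/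
theorem card_eq_mul_card_D (hG : IsPGroup p G) (X : Subgroup G)
    (hYcyc : IsCyclic ↥(X ⊓ Subgroup.centralizer (X : Set G)))
    (hpow : ∀ x ∈ X, x ^ p ∈ Subgroup.centralizer (X : Set G))
    (hcomm : ∀ x ∈ X, ∀ x' ∈ X, ⁅x, x'⁆ ∈ Subgroup.centralizer (X : Set G))
    (hsize : p ≠ 2 ∨ p ^ 2 ≤ Nat.card ↥(X ⊓ Subgroup.centralizer (X : Set G)))
    (D : Subgroup G) (hD : ∀ x, x ∈ D ↔
      (x ∈ X ∧ ∃ y ∈ X ⊓ Subgroup.centralizer (X : Set G), x ^ p = y ^ p))
    {x0 : G} (hx0X : x0 ∈ X) (hx0D : x0 ∉ D) : Nat.card X = p * Nat.card D := by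
  set Y := X ⊓ Subgroup.centralizer (X : Set G) with hYdef
  have hYp : IsPGroup p Y := hG.to_subgroup Y
  have hYcomm' : ∀ a ∈ Y, ∀ b ∈ Y, a * b = b * a := by
    intro a ha b hb
    exact Subgroup.mem_centralizer_iff.mp hb.2 a ha.1
  have hDX : D ≤ X := fun x hx => ((hD x).mp hx).1
  obtain ⟨u, hu⟩ := Cfsg.Agent.Lib.Helper20.CSC.exists_generator_of_isCyclic Y hYcyc
  have huY : u ∈ Y := by rw [hu]; exact Subgroup.mem_zpowers u
  have hpowY : ∀ x ∈ X, ∃ a : ℤ, u ^ a = x ^ p := by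
    intro x hx
    have : x ^ p ∈ Y := ⟨X.pow_mem hx p, hpow x hx⟩
    rw [hu] at this
    exact Subgroup.mem_zpowers_iff.mp this
  obtain ⟨b, hb⟩ := hpowY x0 hx0X
  have hpb : ¬ (p : ℤ) ∣ b := by
    rintro ⟨b', rfl⟩
    apply hx0D
    rw [hD]
    refine ⟨hx0X, u ^ b', Y.zpow_mem huY b', ?_⟩
    rw [← hb, ← zpow_natCast (u ^ b'), ← zpow_mul, mul_comm]
  have hbz : (b : ZMod p) ≠ 0 := by
    rwa [Ne, ZMod.intCast_zmod_eq_zero_iff_dvd]
  have key : ∀ x : X, ∃ i : Fin p, (x : G) * x0 ^ (i : ℕ) ∈ D := by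
    intro x
    obtain ⟨a, ha⟩ := hpowY x x.2
    haveI : NeZero p := ⟨hp.1.ne_zero⟩
    set iz : ZMod p := -(a : ZMod p) * (b : ZMod p)⁻¹ with hiz
    refine ⟨⟨iz.val, ZMod.val_lt iz⟩, ?_⟩
    have hdvd : (p : ℤ) ∣ a + (iz.val : ℤ) * b := by
      rw [← ZMod.intCast_zmod_eq_zero_iff_dvd]
      push_cast
      rw [ZMod.natCast_zmod_val, hiz, mul_assoc, inv_mul_cancel₀ hbz, mul_one, add_neg_cancel]
    obtain ⟨q, hq⟩ := hdvd
    have hxi : x0 ^ iz.val ∈ X := X.pow_mem hx0X _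
    rw [hD]
    refine ⟨X.mul_mem x.2 hxi, ?_⟩
    obtain ⟨c, hcY, hcp, hform⟩ := mul_pow_eq X hpow hcomm x.2 hxi
    obtain ⟨y'', hy'', hcy⟩ := exists_pow_eq_choose Y hYcyc hYp hsize hcY hcp
    refine ⟨u ^ q * y'', Y.mul_mem (Y.zpow_mem huY q) hy'', ?_⟩
    have h2 : Commute (u ^ q) y'' := hYcomm' _ (Y.zpow_mem huY q) _ hy''
    show ((x : G) * x0 ^ iz.val) ^ p = (u ^ q * y'') ^ p
    rw [hform p, hcy, h2.mul_pow, ← ha, ← pow_mul, mul_comm iz.val p, pow_mul, ← hb]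
    congr 1
    rw [← zpow_natCast (u ^ b), ← zpow_mul, ← zpow_add, ← zpow_natCast (u ^ q), ← zpow_mul, mul_comm q,
      ← hq]
    congr 1
    ring
  choose i hi using key
  let f : X → Fin p × D := fun x => (i x, ⟨_, hi x⟩)
  have hf : Function.Injective f := by
    intro x x' hxx'
    have h1 : i x = i x' := congrArg Prod.fst hxx'
    have h2 : (x : G) * x0 ^ (i x : ℕ) = (x' : G) * x0 ^ (i x' : ℕ) :=
      congrArg (fun t => ((t.2 : D) : G)) hxx'
    rw [h1] at h2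
    exact Subtype.ext (mul_right_cancel h2)
  have hle : Nat.card X ≤ p * Nat.card D := by
    have := Nat.card_le_card_of_injective f hf
    rwa [Nat.card_prod, Nat.card_fin] at this
  obtain ⟨a, ha⟩ := (hG.to_subgroup X).exists_card_eq
  obtain ⟨d, hd⟩ := (hG.to_subgroup D).exists_card_eq
  have hlt : Nat.card D < Nat.card X := by
    by_contra hcon
    push Not at hcon
    have := Subgroup.eq_of_le_of_card_ge hDX hcon
    exact hx0D (by rw [this]; exact hx0X)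
  rw [ha, hd] at hlt hle
  have hda : d < a := (Nat.pow_lt_pow_iff_right hp.1.one_lt).mp hlt
  have had : a ≤ d + 1 := by
    rw [← pow_succ'] at hle
    exact (Nat.pow_le_pow_iff_right hp.1.one_lt).mp hle
  have : a = d + 1 := by omega
  rw [ha, hd, this, pow_succ']

/-- C2 data on a subgroup `T` whose commutators lie in `⟨u1⟩` -/
theorem c2_subtype (T : Subgroup G) {u1 : G} (hu1T : u1 ∈ T) (hu1 : orderOf u1 = p)
    (hcentral : ∀ t ∈ T, t * u1 = u1 * t)
    (hcm : ∀ a ∈ T, ∀ b ∈ T, ⁅a, b⁆ ∈ Subgroup.zpowers u1) : C2 p ↥T ⟨u1, hu1T⟩ where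
  z_ne := by
    intro h
    have h1 : u1 = 1 := congrArg Subtype.val h
    rw [h1, orderOf_one] at hu1
    exact hp.1.one_lt.ne hu1
  z_pow := Subtype.ext (by rw [Subgroup.coe_pow, ← hu1]; exact pow_orderOf_eq_one u1)
  z_central := by
    rw [Subgroup.mem_center_iff]
    intro t
    exact Subtype.ext (hcentral t t.2)
  comm_mem := by
    intro a b
    obtain ⟨k, hk⟩ := Subgroup.mem_zpowers_iff.mp (hcm a a.2 b b.2)
    exact Subgroup.mem_zpowers_iff.mpr ⟨k, Subtype.ext (by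
      rw [Subgroup.coe_zpow]; simpa [commutatorElement_def] using hk)⟩

/-- **Key lemma.** In a `p`-group of symplectic type, a characteristic subgroup `X` with
`X / Z(X)` of exponent `p` and class at most two has all `p`-th powers in `Z(X)^p`. -/
theorem power_in_center (hG : IsPGroup p G)
    (hsymp : ∀ A : Subgroup G, A.Characteristic → IsMulCommutative A → IsCyclic A)
    (X : Subgroup G) (hX : X.Characteristic)
    (hpow : ∀ x ∈ X, x ^ p ∈ Subgroup.centralizer (X : Set G))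
    (hcomm : ∀ x ∈ X, ∀ x' ∈ X, ⁅x, x'⁆ ∈ Subgroup.centralizer (X : Set G))
    (hsize : p ≠ 2 ∨ p ^ 2 ≤ Nat.card ↥(X ⊓ Subgroup.centralizer (X : Set G))) :
    ∀ x ∈ X, ∃ y ∈ X ⊓ Subgroup.centralizer (X : Set G), x ^ p = y ^ p := by
  haveI := hX
  set Y := X ⊓ Subgroup.centralizer (X : Set G) with hYdef
  have hYchar : Y.Characteristic := inferInstance
  have hYcomm' : ∀ a ∈ Y, ∀ b ∈ Y, a * b = b * a := by
    intro a ha b hb
    exact Subgroup.mem_centralizer_iff.mp hb.2 a ha.1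
  have hYcomm : IsMulCommutative Y := ⟨⟨fun a b => Subtype.ext (hYcomm' a a.2 b b.2)⟩⟩
  have hYcyc : IsCyclic Y := hsymp Y hYchar hYcomm
  have hYp : IsPGroup p Y := hG.to_subgroup Y
  obtain ⟨D, hD⟩ := exists_subgroup_D hG X hYcyc hpow hcomm hsize
  by_contra hcon
  push Not at hcon
  obtain ⟨x0, hx0X, hx0⟩ := hcon
  have hx0D : x0 ∉ D := by
    rw [hD]
    rintro ⟨-, y, hy, hxy⟩
    exact hx0 y hy hxy
  have hDX : D ≤ X := fun x hx => ((hD x).mp hx).1
  have hYD : Y ≤ D := fun y hy => (hD y).mpr ⟨hy.1, y, hy, rfl⟩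
  -- D is characteristic
  have hDchar : D.Characteristic := by
    rw [Subgroup.characteristic_iff_map_le]
    intro φ
    rintro _ ⟨x, hx, rfl⟩
    obtain ⟨hxX, y, hy, hxy⟩ := (hD x).mp hx
    rw [hD]
    refine ⟨?_, φ y, ?_, ?_⟩
    · exact (Subgroup.characteristic_iff_map_le.mp hX φ) (Subgroup.mem_map_of_mem _ hxX)
    · exact (Subgroup.characteristic_iff_map_le.mp hYchar φ) (Subgroup.mem_map_of_mem _ hy)
    · show (φ x) ^ p = (φ y) ^ p
      rw [← map_pow, ← map_pow, hxy]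
  haveI := hDchar
  set ZD := D ⊓ Subgroup.centralizer (D : Set G) with hZDdef
  have hZDchar : ZD.Characteristic := inferInstance
  have hZDcomm' : ∀ a ∈ ZD, ∀ b ∈ ZD, a * b = b * a := by
    intro a ha b hb
    exact Subgroup.mem_centralizer_iff.mp hb.2 a ha.1
  have hZDcomm : IsMulCommutative ZD := ⟨⟨fun a b => Subtype.ext (hZDcomm' a a.2 b b.2)⟩⟩
  have hZDcyc : IsCyclic ZD := hsymp ZD hZDchar hZDcomm
  have hYZD : Y ≤ ZD := fun y hy => ⟨hYD hy, Subgroup.centralizer_le hDX hy.2⟩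
  -- an element of order p in Y
  have hXnt : Nontrivial X := by
    refine ⟨⟨⟨x0, hx0X⟩, 1, ?_⟩⟩
    intro h
    have h1 : x0 = 1 := congrArg Subtype.val h
    exact hx0 1 Y.one_mem (by rw [h1])
  have hYcard : Nat.card Y ≠ 1 := by
    rw [← card_center_subtype]
    haveI := (hG.to_subgroup X).center_nontrivial
    exact (Finite.one_lt_card_iff_nontrivial.mpr inferInstance).ne'
  obtain ⟨k0, hk0⟩ := hYp.exists_card_eq
  have hpY : p ∣ Nat.card Y := by
    rw [hk0]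
    apply dvd_pow_self
    rintro rfl
    exact hYcard (by rw [hk0, pow_zero])
  obtain ⟨u1', hu1'⟩ := exists_prime_orderOf_dvd_card' p hpY
  set u1 : G := (u1' : G) with hu1def
  have hu1Y : u1 ∈ Y := u1'.2
  have hu1 : orderOf u1 = p := by rw [hu1def, Subgroup.orderOf_coe]; exact hu1'
  have hu1central : ∀ t ∈ X, t * u1 = u1 * t := fun t ht =>
    Subgroup.mem_centralizer_iff.mp hu1Y.2 t ht
  have hcmX : ∀ a ∈ X, ∀ b ∈ X, ⁅a, b⁆ ∈ Subgroup.zpowers u1 := by
    intro a ha b hb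
    have hcY : ⁅a, b⁆ ∈ Y := by
      refine ⟨?_, hcomm a ha b hb⟩
      rw [commutatorElement_def]
      exact X.mul_mem (X.mul_mem (X.mul_mem ha hb) (X.inv_mem ha)) (X.inv_mem hb)
    exact mem_zpowers_of_pow_eq_one Y hYcyc hu1Y hu1 hcY (comm_pow_eq_one X hpow hcomm ha hb)
  have hC2X := c2_subtype X hu1Y.1 hu1 hu1central hcmX
  have hC2D := c2_subtype D (hYD hu1Y) hu1 (fun t ht => hu1central t (hDX ht))
    (fun a ha b hb => hcmX a (hDX ha) b (hDX hb))
  obtain ⟨k, hk⟩ := C2.exists_card_eq (Nat.card X) X _ hC2X le_rfl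
  obtain ⟨k', hk'⟩ := C2.exists_card_eq (Nat.card D) D _ hC2D le_rfl
  rw [card_center_subtype] at hk hk'
  have hidx := card_eq_mul_card_D hG X hYcyc hpow hcomm hsize D hD hx0X hx0D
  have hne : ZD ≠ Y := by
    intro heq
    rw [← hZDdef, heq] at hk'
    rw [hk, hk', ← mul_assoc, ← pow_succ'] at hidx
    have hpos : 0 < Nat.card Y := Nat.card_pos
    have := Nat.eq_of_mul_eq_mul_right hpos hidx
    have := Nat.pow_right_injective hp.1.two_le this
    omega
  obtain ⟨t0, ht0, ht0Y⟩ := SetLike.exists_of_lt (lt_of_le_of_ne hYZD (Ne.symm hne))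
  obtain ⟨-, y, hy, hty⟩ := (hD t0).mp ht0.1
  have hcomm_ty : Commute t0 y := (Subgroup.mem_centralizer_iff.mp hy.2 t0 (hDX ht0.1))
  have htp : (t0 * y⁻¹) ^ p = 1 := by
    rw [hcomm_ty.inv_right.mul_pow, hty, inv_pow, mul_inv_cancel]
  have htZD : t0 * y⁻¹ ∈ ZD := ZD.mul_mem ht0 (ZD.inv_mem (hYZD hy))
  have := mem_zpowers_of_pow_eq_one ZD hZDcyc (hYZD hu1Y) hu1 htZD htp
  have htY : t0 * y⁻¹ ∈ Y := (Subgroup.zpowers_le.mpr hu1Y) this
  apply ht0Y
  have := Y.mul_mem htY hy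
  rwa [inv_mul_cancel_right] at this

end main

end Cfsg.Agent.Lib.Helper20.Symp
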