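import Mathlib
import Cfsg.Agent.Lib.Helper20.SympD
import Cfsg.Agent.Lib.Helper20.SympCL
import Cfsg.Agent.Lib.Helper20.PGroupBasics
import Cfsg.Agent.Lib.Helper16.Extraspecial
import Cfsg.Agent.S0093

/-!
Helper lemmas (helper20): the critical subgroup of a `p`-group of symplectic type and the
subgroup `E` with `C = E * Z(C)`, `E ∩ Z(C) = Ω₁(Z(C))`.
-/

set_option autoImplicit false
open scoped commutatorElement

namespace Cfsg.Agent.Lib.Helper20.Symp

/-- the data of a critical subgroup `C` with cyclic centre `⟨u⟩` of order `p ^ n` -/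
structure Crit (p : ℕ) {G : Type*} [Group G] (C : Subgroup G) (u : G) (n : ℕ) : Prop where
  pG : IsPGroup p G
  symp : ∀ A : Subgroup G, A.Characteristic → IsMulCommutative A → IsCyclic A
  char : C.Characteristic
  pow_mem : ∀ c ∈ C, c ^ p ∈ Subgroup.zpowers u
  comm_mem : ∀ c ∈ C, ∀ g : G, ⁅c, g⁆ ∈ Subgroup.zpowers u
  cent : Subgroup.centralizer (C : Set G) = Subgroup.zpowers u
  le : Subgroup.zpowers u ≤ C
  ord : orderOf u = p ^ n
  pos : 1 ≤ n

section crit

variable {G : Type*} [Group G] [Finite G] {p : ℕ} [hp : Fact p.Prime]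

theorem exists_crit [Nontrivial G] (hG : IsPGroup p G)
    (hsymp : ∀ A : Subgroup G, A.Characteristic → IsMulCommutative A → IsCyclic A) :
    ∃ (C : Subgroup G) (u : G) (n : ℕ), Crit p C u n := by
  obtain ⟨C, hchar, hfr, hcm, hcc⟩ := Cfsg.Agent.S0093.result hG
  haveI := hchar
  have hZchar : (Subgroup.centralizer (C : Set G)).Characteristic := inferInstance
  have hZcomm : IsMulCommutative (Subgroup.centralizer (C : Set G)) :=
    ⟨⟨fun a b => Subtype.ext (Subgroup.mem_centralizer_iff.mp b.2 a (hcc a.2))⟩⟩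
  have hZcyc := hsymp _ hZchar hZcomm
  obtain ⟨u, hu⟩ := CSC.exists_generator_of_isCyclic _ hZcyc
  obtain ⟨n, hn⟩ := (hG.to_subgroup (Subgroup.centralizer (C : Set G))).exists_card_eq
  rw [hu, Nat.card_zpowers] at hn
  refine ⟨C, u, n, hG, hsymp, hchar, ?_, ?_, hu, hu ▸ hcc, hn, ?_⟩
  · intro c hc
    rw [← hu]
    apply hfr
    refine ⟨(⟨c, hc⟩ : C) ^ p, Cfsg.Agent.Lib.Helper16.pow_mem_frattini (hG.to_subgroup C) _, ?_⟩
    simp
  · intro c hc g
    rw [← hu]
    exact (hcm (Subgroup.commutator_mem_commutator hc (Subgroup.mem_top g))).2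
  · by_contra hn0
    have hn0' : n = 0 := by omega
    rw [hn0', pow_zero, orderOf_eq_one_iff] at hn
    have hbot : Subgroup.centralizer (C : Set G) = ⊥ := by rw [hu, hn, Subgroup.zpowers_one_eq_bot]
    haveI := hG.center_nontrivial
    have hcen : Subgroup.center G ≤ Subgroup.centralizer (C : Set G) :=
      Subgroup.center_le_centralizer _
    rw [hbot, le_bot_iff] at hcen
    exact (Subgroup.nontrivial_iff_ne_bot _).mp inferInstance hcen

end crit

namespace Crit

variable {G : Type*} [Group G] [Finite G] {p : ℕ} [hp : Fact p.Prime] {C : Subgroup G} {u : G}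
  {n : ℕ}

theorem pow_split (h : Crit p C u n) : p ^ n = p ^ (n - 1) * p := by
  rw [← pow_succ]; congr 1; have := h.pos; omega

theorem z_pow (h : Crit p C u n) : (u ^ (p ^ (n - 1))) ^ p = 1 := by
  rw [← pow_mul, ← h.pow_split, ← h.ord]; exact pow_orderOf_eq_one u

theorem z_ne_one (h : Crit p C u n) : u ^ (p ^ (n - 1)) ≠ 1 := by
  intro h1
  have h2 := orderOf_dvd_of_pow_eq_one h1
  rw [h.ord] at h2
  have h3 := Nat.le_of_dvd (pow_pos hp.1.pos _) h2
  have h4 : p ^ (n - 1) < p ^ n := Nat.pow_lt_pow_right hp.1.one_lt (by have := h.pos; omega)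
  omega

theorem z_order (h : Crit p C u n) : orderOf (u ^ (p ^ (n - 1))) = p :=
  orderOf_eq_prime h.z_pow h.z_ne_one

theorem z_mem (_h : Crit p C u n) : u ^ (p ^ (n - 1)) ∈ Subgroup.zpowers u :=
  Subgroup.pow_mem _ (Subgroup.mem_zpowers u) _

theorem Z_char (h : Crit p C u n) : (Subgroup.zpowers u).Characteristic := by
  haveI := h.char
  rw [← h.cent]
  infer_instance

theorem Z_normal (h : Crit p C u n) : (Subgroup.zpowers u).Normal := by
  haveI := h.Z_char
  infer_instance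

theorem Z_cyclic (_h : Crit p C u n) : IsCyclic (Subgroup.zpowers u) := inferInstance

/-- elements of `Z` of order dividing `p` lie in `Z₁` -/
theorem mem_Z1 (h : Crit p C u n) {w : G} (hw : w ∈ Subgroup.zpowers u) (hwp : w ^ p = 1) :
    w ∈ Subgroup.zpowers (u ^ (p ^ (n - 1))) :=
  mem_zpowers_of_pow_eq_one (Subgroup.zpowers u) h.Z_cyclic h.z_mem h.z_order hw hwp

theorem Z1_le (h : Crit p C u n) : Subgroup.zpowers (u ^ (p ^ (n - 1))) ≤ Subgroup.zpowers u :=
  Subgroup.zpowers_le.mpr h.z_mem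

theorem Z1_normal (h : Crit p C u n) : (Subgroup.zpowers (u ^ (p ^ (n - 1)))).Normal := by
  haveI := h.Z_normal
  refine ⟨fun w hw g => ?_⟩
  apply h.mem_Z1 (h.Z_normal.conj_mem w (h.Z1_le hw) g)
  rw [conj_pow]
  obtain ⟨k, rfl⟩ := Subgroup.mem_zpowers_iff.mp hw
  rw [← zpow_natCast, ← zpow_mul, mul_comm, zpow_mul, zpow_natCast, h.z_pow, one_zpow]
  group

theorem z_central (h : Crit p C u n) (g : G) : Commute (u ^ (p ^ (n - 1))) g := by
  haveI := h.Z1_normal
  have hcard : Nat.card (Subgroup.zpowers (u ^ (p ^ (n - 1)))) = p := by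
    rw [Nat.card_zpowers, h.z_order]
  have := Cfsg.Agent.Lib.Helper20.le_center_of_normal_of_card_eq_prime h.pG _ hcard
    (Subgroup.mem_zpowers _)
  exact (Subgroup.mem_center_iff.mp this g).symm

theorem Z1_central (h : Crit p C u n) {w : G} (hw : w ∈ Subgroup.zpowers (u ^ (p ^ (n - 1))))
    (g : G) : Commute w g := by
  obtain ⟨k, rfl⟩ := Subgroup.mem_zpowers_iff.mp hw
  exact (h.z_central g).zpow_left k

theorem Z_comm_C (h : Crit p C u n) {y c : G} (hy : y ∈ Subgroup.zpowers u) (hc : c ∈ C) :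
    Commute y c := by
  rw [← h.cent] at hy
  exact (Subgroup.mem_centralizer_iff.mp hy c hc).symm

theorem comm_mem' (h : Crit p C u n) {c : G} (hc : c ∈ C) (g : G) :
    ⁅g, c⁆ ∈ Subgroup.zpowers u := by
  rw [← commutatorElement_inv]
  exact Subgroup.inv_mem _ (h.comm_mem c hc g)

/-- the family of candidate subgroups `E` -/
def Fam (_h : Crit p C u n) (E : Subgroup G) : Prop :=
  E ≤ C ∧ u ^ (p ^ (n - 1)) ∈ E ∧
    ∀ e ∈ E, e ∈ Subgroup.zpowers u → e ∈ Subgroup.zpowers (u ^ (p ^ (n - 1)))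

theorem Fam.pow_mem (h : Crit p C u n) {E : Subgroup G} (hE : h.Fam E) {e : G} (he : e ∈ E) :
    e ^ p ∈ Subgroup.zpowers (u ^ (p ^ (n - 1))) :=
  hE.2.2 _ (E.pow_mem he p) (h.pow_mem e (hE.1 he))

theorem Fam.comm_mem (h : Crit p C u n) {E : Subgroup G} (hE : h.Fam E) (g : G) {e : G}
    (he : e ∈ E) : ⁅g, e⁆ ∈ Subgroup.zpowers (u ^ (p ^ (n - 1))) := by
  have hw : ⁅g, e⁆ ∈ Subgroup.zpowers u := h.comm_mem' (hE.1 he) g
  apply h.mem_Z1 hw
  have hwe : Commute ⁅g, e⁆ e := h.Z_comm_C hw (hE.1 he)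
  have h1 : g * e * g⁻¹ = ⁅g, e⁆ * e := by rw [commutatorElement_def]; group
  have h2 : (g * e * g⁻¹) ^ p = e ^ p := by
    rw [conj_pow]
    have := h.Z1_central (Fam.pow_mem h hE he) g
    rw [← this.eq]; group
  rw [h1, hwe.mul_pow] at h2
  exact mul_eq_right.mp h2

theorem Fam.normal (h : Crit p C u n) {E : Subgroup G} (hE : h.Fam E) : E.Normal := by
  refine ⟨fun e he g => ?_⟩
  have h1 : g * e * g⁻¹ = ⁅g, e⁆ * e := by rw [commutatorElement_def]; group
  rw [h1]
  exact E.mul_mem ((Subgroup.zpowers_le.mpr hE.2.1) (Fam.comm_mem h hE g he)) he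

theorem fam_Z1 (h : Crit p C u n) : h.Fam (Subgroup.zpowers (u ^ (p ^ (n - 1)))) :=
  ⟨h.Z1_le.trans h.le, Subgroup.mem_zpowers _, fun _ he _ => he⟩

theorem inf_eq (h : Crit p C u n) : C ⊓ Subgroup.centralizer (C : Set G) = Subgroup.zpowers u := by
  rw [h.cent]; exact inf_eq_right.mpr h.le

/-- `p`-th powers of `C` are `p`-th powers of `Z`, when `|Z| ≥ p²` -/
theorem exists_pow_eq (h : Crit p C u n) (hn : 2 ≤ n) {c : G} (hc : c ∈ C) :
    ∃ y ∈ Subgroup.zpowers u, c ^ p = y ^ p := by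
  have := power_in_center h.pG h.symp C h.char
    (fun x hx => by rw [h.cent]; exact h.pow_mem x hx)
    (fun x hx x' _ => by rw [h.cent]; exact h.comm_mem x hx x')
    (Or.inr (by
      rw [h.inf_eq, Nat.card_zpowers, h.ord]
      exact Nat.pow_le_pow_right hp.1.pos hn)) c hc
  rw [h.inf_eq] at this
  exact this

/-- the subgroup `E` -/
theorem exists_E (h : Crit p C u n) :
    ∃ E : Subgroup G, h.Fam E ∧ C ≤ E ⊔ Subgroup.zpowers u := by
  obtain ⟨E, hEF, hEmax⟩ := (wellFounded_gt (α := Subgroup G)).has_min {E | h.Fam E}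
    ⟨_, h.fam_Z1⟩
  refine ⟨E, hEF, ?_⟩
  have hEF' : h.Fam E := hEF
  by_cases hn : n = 1
  · -- `Z = Z₁`
    have hCF : h.Fam C := by
      refine ⟨le_rfl, hEF'.1 hEF'.2.1, ?_⟩
      intro e _ he
      subst hn
      simpa using he
    have : ¬ E < C := fun hlt => hEmax C hCF hlt
    have hEC : E = C := by
      by_contra hne
      exact this (lt_of_le_of_ne hEF'.1 hne)
    rw [hEC]
    exact le_sup_left
  · have hn2 : 2 ≤ n := by have := h.pos; omega
    intro c hc
    by_contra hcon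
    obtain ⟨y, hy, hcy⟩ := h.exists_pow_eq hn2 hc
    have hyc : Commute c y := (h.Z_comm_C hy hc).symm
    have hc'p : (c * y⁻¹) ^ p = 1 := by
      rw [hyc.inv_right.mul_pow, hcy, inv_pow, mul_inv_cancel]
    have hc'C : c * y⁻¹ ∈ C := C.mul_mem hc (C.inv_mem (h.le hy))
    have hc'EZ : c * y⁻¹ ∉ E ⊔ Subgroup.zpowers u := by
      intro hmem
      apply hcon
      have := Subgroup.mul_mem _ hmem (Subgroup.mem_sup_right hy)
      rwa [inv_mul_cancel_right] at this
    have hc'1 : c * y⁻¹ ≠ 1 := by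
      intro h1
      apply hc'EZ
      rw [h1]; exact Subgroup.one_mem _
    have hc'ord : orderOf (c * y⁻¹) = p := orderOf_eq_prime hc'p hc'1
    set c' := c * y⁻¹ with hc'def
    haveI := Fam.normal h hEF'
    have hF' : h.Fam (E ⊔ Subgroup.zpowers c') := by
      refine ⟨sup_le hEF'.1 (Subgroup.zpowers_le.mpr hc'C), Subgroup.mem_sup_left hEF'.2.1, ?_⟩
      intro w hw hwZ
      have hw' : w ∈ ((E ⊔ Subgroup.zpowers c' : Subgroup G) : Set G) := hw
      rw [Subgroup.normal_mul] at hw'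
      obtain ⟨e, he, d, hd, rfl⟩ := Set.mem_mul.mp hw'
      have he' : e ∈ E := he
      have hd' : d ∈ Subgroup.zpowers c' := hd
      by_cases hd1 : d = 1
      · rw [hd1, mul_one] at hwZ ⊢
        exact hEF'.2.2 e he' hwZ
      · exfalso
        obtain ⟨k, hk⟩ := exists_npow_eq hc'ord hd' hd1 (Subgroup.mem_zpowers c')
        apply hc'EZ
        rw [← hk]
        apply Subgroup.pow_mem
        have : d = e⁻¹ * (e * d) := by group
        rw [this]
        exact Subgroup.mul_mem _ (Subgroup.mem_sup_left (E.inv_mem he'))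
          (Subgroup.mem_sup_right hwZ)
    apply hEmax _ hF'
    refine lt_of_le_of_ne le_sup_left ?_
    intro heq
    apply hc'EZ
    apply Subgroup.mem_sup_left
    rw [heq]
    exact Subgroup.mem_sup_right (Subgroup.mem_zpowers c')

end Crit

end Cfsg.Agent.Lib.Helper20.Symp
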