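import Mathlib
import Cfsg.Agent.Lib.Helper20.SympE
import Cfsg.Agent.Lib.Helper20.ESCriterion

/-!
Helper lemmas (helper20): the centralizer `R = C_G(E)` in a `p`-group of symplectic type.
-/

set_option autoImplicit false
open scoped commutatorElement

namespace Cfsg.Agent.Lib.Helper20.Symp

/-- `ESData` for a subgroup from ambient data -/
theorem esData_subtype {G : Type*} [Group G] {p : ℕ} [hp : Fact p.Prime] (T : Subgroup G) {z : G}
    (hzT : z ∈ T) (hz : orderOf z = p)
    (hcentral : ∀ t ∈ T, t * z = z * t)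
    (hcen : ∀ t ∈ T, (∀ s ∈ T, s * t = t * s) → t ∈ Subgroup.zpowers z)
    (hcm : ∀ a ∈ T, ∀ b ∈ T, ⁅a, b⁆ ∈ Subgroup.zpowers z)
    (hpw : ∀ a ∈ T, a ^ p ∈ Subgroup.zpowers z) :
    Cfsg.Agent.Lib.Helper20.ES.ESData p ↥T ⟨z, hzT⟩ := by
  have hmem : ∀ w : ↥T, (w : G) ∈ Subgroup.zpowers z →
      w ∈ Subgroup.zpowers (⟨z, hzT⟩ : ↥T) := by
    intro w hw
    obtain ⟨k, hk⟩ := Subgroup.mem_zpowers_iff.mp hw
    rw [Subgroup.mem_zpowers_iff]
    refine ⟨k, Subtype.ext ?_⟩
    rw [Subgroup.coe_zpow]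
    exact hk
  refine ⟨?_, ?_, ?_, ?_, ?_, ?_⟩
  · intro h
    have h1 : z = 1 := congrArg Subtype.val h
    rw [h1, orderOf_one] at hz
    exact hp.1.ne_one hz.symm
  · apply Subtype.ext
    rw [Subgroup.coe_pow]
    show z ^ p = 1
    rw [← hz]; exact pow_orderOf_eq_one z
  · rw [Subgroup.mem_center_iff]
    intro t
    exact Subtype.ext (hcentral t t.2)
  · intro w hw
    apply hmem
    apply hcen w w.2
    intro s hs
    exact congrArg Subtype.val (Subgroup.mem_center_iff.mp hw ⟨s, hs⟩)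
  · intro a b
    apply hmem
    have : ((⁅a, b⁆ : ↥T) : G) = ⁅(a : G), (b : G)⁆ := by
      simp [commutatorElement_def]
    rw [this]
    exact hcm a a.2 b b.2
  · intro a
    apply hmem
    rw [Subgroup.coe_pow]
    exact hpw a a.2

/-- commuting modulo a normal subgroup -/
theorem commute_mk_of_comm_mem {G : Type*} [Group G] (N : Subgroup G) [N.Normal] {a b : G}
    (hab : ⁅a, b⁆ ∈ N) : Commute (QuotientGroup.mk' N a) (QuotientGroup.mk' N b) := by
  have h1 : a * b = ⁅a, b⁆ * (b * a) := by rw [commutatorElement_def]; group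
  show QuotientGroup.mk' N a * QuotientGroup.mk' N b = QuotientGroup.mk' N b * QuotientGroup.mk' N a
  rw [← map_mul, ← map_mul, h1, map_mul]
  have : QuotientGroup.mk' N ⁅a, b⁆ = 1 := (QuotientGroup.eq_one_iff _).mpr hab
  rw [this, one_mul]

theorem comm_mem_of_commute_mk {G : Type*} [Group G] (N : Subgroup G) [N.Normal] {a b : G}
    (hab : Commute (QuotientGroup.mk' N a) (QuotientGroup.mk' N b)) : ⁅a, b⁆ ∈ N := by
  have h1 : QuotientGroup.mk' N ⁅a, b⁆ = 1 := by
    rw [map_commutatorElement]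
    exact commutatorElement_eq_one_iff_commute.mpr hab
  exact (QuotientGroup.eq_one_iff _).mp h1

namespace Crit

variable {G : Type*} [Group G] [Finite G] {p : ℕ} [hp : Fact p.Prime] {C : Subgroup G} {u : G}
  {n : ℕ}

/-- an element centralizing `E` and `u` centralizes `C` -/
theorem mem_Z_of_commute (h : Crit p C u n) {E : Subgroup G}
    (hCE : C ≤ E ⊔ Subgroup.zpowers u) {r : G} (hrE : ∀ e ∈ E, Commute r e)
    (hru : Commute r u) : r ∈ Subgroup.zpowers u := by
  rw [← h.cent, Subgroup.mem_centralizer_iff]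
  intro c hc
  have hle : E ⊔ Subgroup.zpowers u ≤ Subgroup.centralizer ({r} : Set G) := by
    apply sup_le
    · intro e he
      rw [Subgroup.mem_centralizer_iff]
      intro s hs
      rw [Set.mem_singleton_iff] at hs; subst hs
      exact (hrE e he).eq
    · rw [Subgroup.zpowers_le, Subgroup.mem_centralizer_iff]
      intro s hs
      rw [Set.mem_singleton_iff] at hs; subst hs
      exact hru.eq
  have := hle (hCE hc)
  rw [Subgroup.mem_centralizer_iff] at this
  exact (this r rfl).symm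

theorem Fam.center_le (h : Crit p C u n) {E : Subgroup G} (hE : h.Fam E)
    (hCE : C ≤ E ⊔ Subgroup.zpowers u) :
    ∀ e ∈ E, (∀ e' ∈ E, Commute e e') → e ∈ Subgroup.zpowers (u ^ (p ^ (n - 1))) := by
  intro e he hall
  apply hE.2.2 e he
  apply h.mem_Z_of_commute hCE hall
  exact (h.Z_comm_C (Subgroup.mem_zpowers u) (hE.1 he)).symm

theorem Fam.exists_mul (h : Crit p C u n) {E : Subgroup G} (hE : h.Fam E)
    (hCE : C ≤ E ⊔ Subgroup.zpowers u) (g : G) :
    ∃ e ∈ E, g * e ∈ Subgroup.centralizer (E : Set G) :=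
  exists_mul_mem_centralizer h.z_order h.z_central (Nat.card E) E le_rfl
    (fun g _ he => Fam.comm_mem h hE g he) (Fam.center_le h hE hCE) g

theorem Fam.Z_le_R (h : Crit p C u n) {E : Subgroup G} (hE : h.Fam E) :
    Subgroup.zpowers u ≤ Subgroup.centralizer (E : Set G) := by
  rw [← h.cent]
  exact Subgroup.centralizer_le hE.1

theorem Fam.mem_Z (h : Crit p C u n) {E : Subgroup G} (_hE : h.Fam E)
    (hCE : C ≤ E ⊔ Subgroup.zpowers u) {r : G} (hr : r ∈ Subgroup.centralizer (E : Set G))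
    (hru : Commute r u) : r ∈ Subgroup.zpowers u :=
  h.mem_Z_of_commute hCE (fun e he => (Subgroup.mem_centralizer_iff.mp hr e he).symm) hru

theorem Fam.isExtraspecial (h : Crit p C u n) {E : Subgroup G} (hE : h.Fam E)
    (hCE : C ≤ E ⊔ Subgroup.zpowers u) (hna : ¬ ∀ e ∈ E, ∀ e' ∈ E, Commute e e') :
    Cfsg.IsExtraspecial p ↥E := by
  have hes := esData_subtype E hE.2.1 h.z_order (fun t _ => (h.z_central t).eq.symm)
    (fun t ht hall => Fam.center_le h hE hCE t ht (fun s hs => (hall s hs).symm))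
    (fun a _ b hb => Fam.comm_mem h hE a hb) (fun a ha => Fam.pow_mem h hE ha)
  apply hes.isExtraspecial
  push Not at hna
  obtain ⟨e, he, e', he', hee⟩ := hna
  refine ⟨⟨e, he⟩, ⟨e', he'⟩, ?_⟩
  intro h1
  apply hee
  have h2 := commutatorElement_eq_one_iff_commute.mp h1
  have := congrArg Subtype.val h2.eq
  exact this

/-- conjugation by an element centralizing `u ^ p` -/
theorem conj_eq (h : Crit p C u n) (r : G) (hr : Commute r (u ^ p)) :
    ∃ w ∈ Subgroup.zpowers (u ^ (p ^ (n - 1))), r * u * r⁻¹ = u * w := by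
  have h1 : r * u * r⁻¹ ∈ Subgroup.zpowers u := h.Z_normal.conj_mem u (Subgroup.mem_zpowers u) r
  refine ⟨u⁻¹ * (r * u * r⁻¹), ?_, by group⟩
  have h2 : u⁻¹ * (r * u * r⁻¹) ∈ Subgroup.zpowers u :=
    Subgroup.mul_mem _ (Subgroup.inv_mem _ (Subgroup.mem_zpowers u)) h1
  apply h.mem_Z1 h2
  obtain ⟨k, hk⟩ := Subgroup.mem_zpowers_iff.mp h1
  have hc : Commute u⁻¹ (r * u * r⁻¹) := by
    rw [← hk]
    exact ((Commute.refl u).zpow_right k).inv_left
  rw [hc.mul_pow, conj_pow, hr.eq, mul_inv_cancel_right, inv_pow, inv_mul_cancel]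

theorem conj_eq_zpow (h : Crit p C u n) (r : G) (hr : Commute r (u ^ p)) {y : G}
    (hy : y ∈ Subgroup.zpowers u) :
    ∃ w ∈ Subgroup.zpowers (u ^ (p ^ (n - 1))), r * y * r⁻¹ = y * w := by
  obtain ⟨w, hw, hrw⟩ := h.conj_eq r hr
  obtain ⟨k, rfl⟩ := Subgroup.mem_zpowers_iff.mp hy
  refine ⟨w ^ k, Subgroup.zpow_mem _ hw k, ?_⟩
  rw [← conj_zpow, hrw, ((h.Z1_central hw u).symm).mul_zpow]

end Crit

end Cfsg.Agent.Lib.Helper20.Symp
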