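import Mathlib
import Cfsg.Agent.Lib.Helper20.SympR

/-!
Helper lemmas (helper20): in a `p`-group of symplectic type, `C_R(u ^ p) = Z` unless `p = 2`
and `|Z| = 4`.
-/

set_option autoImplicit false
open scoped commutatorElement

namespace Cfsg.Agent.Lib.Helper20.Symp

namespace Crit

variable {G : Type*} [Group G] [Finite G] {p : ℕ} [hp : Fact p.Prime] {C : Subgroup G} {u : G}
  {n : ℕ}

theorem zpowers_pow_char (h : Crit p C u n) : (Subgroup.zpowers (u ^ p)).Characteristic := by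
  rw [Subgroup.characteristic_iff_map_le]
  intro φ
  rintro _ ⟨x, hx, rfl⟩
  obtain ⟨k, rfl⟩ := Subgroup.mem_zpowers_iff.mp hx
  have h1 : φ u ∈ Subgroup.zpowers u :=
    (Subgroup.characteristic_iff_map_le.mp h.Z_char φ)
      (Subgroup.mem_map_of_mem _ (Subgroup.mem_zpowers u))
  obtain ⟨m, hm⟩ := Subgroup.mem_zpowers_iff.mp h1
  show φ ((u ^ p) ^ k) ∈ Subgroup.zpowers (u ^ p)
  have e1 : (u ^ m) ^ p = (u ^ p) ^ m := by
    rw [← zpow_natCast, ← zpow_mul, mul_comm, zpow_mul, zpow_natCast]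
  rw [map_zpow, map_pow, ← hm, e1, ← zpow_mul]
  exact Subgroup.zpow_mem_zpowers _ _

theorem mem_X_iff (x : G) :
    x ∈ Subgroup.centralizer ((Subgroup.zpowers (u ^ p) : Subgroup G) : Set G) ↔
      Commute x (u ^ p) := by
  rw [Subgroup.mem_centralizer_iff]
  constructor
  · intro hx
    exact (hx _ (Subgroup.mem_zpowers _)).symm
  · intro hx y hy
    obtain ⟨k, rfl⟩ := Subgroup.mem_zpowers_iff.mp (SetLike.mem_coe.mp hy)
    exact (hx.zpow_right k).eq.symm

theorem Z1_le_pow (h : Crit p C u n) (hn2 : 2 ≤ n) :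
    u ^ (p ^ (n - 1)) ∈ Subgroup.zpowers (u ^ p) := by
  have : p ^ (n - 1) = p * p ^ (n - 2) := by
    rw [← pow_succ']; congr 1; omega
  rw [this, pow_mul]
  exact Subgroup.pow_mem _ (Subgroup.mem_zpowers _) _

/-- the contradiction -/
theorem no_t (h : Crit p C u n) {E : Subgroup G} (hE : h.Fam E)
    (hCE : C ≤ E ⊔ Subgroup.zpowers u) (hn2 : 2 ≤ n) (hpn : p ≠ 2 ∨ 3 ≤ n) (t : G)
    (htR : t ∈ Subgroup.centralizer (E : Set G)) (htc : Commute t (u ^ p))
    (htZ : t ∉ Subgroup.zpowers u) (_htp : t ^ p = 1) : False := by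
  haveI := h.Z1_normal
  set z := u ^ (p ^ (n - 1)) with hzdef
  -- Step 1
  obtain ⟨c, hcZ1, htu⟩ := h.conj_eq t htc
  have hc1 : c ≠ 1 := by
    intro h1
    rw [h1, mul_one] at htu
    exact htZ (Fam.mem_Z h hE hCE htR (mul_inv_eq_iff_eq_mul.mp htu))
  have hcc : ∀ g : G, Commute c g := h.Z1_central hcZ1
  have hcp : c ^ p = 1 := by
    obtain ⟨k, rfl⟩ := Subgroup.mem_zpowers_iff.mp hcZ1
    rw [← zpow_natCast, ← zpow_mul, mul_comm, zpow_mul, zpow_natCast, h.z_pow, one_zpow]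
  have hcord : orderOf c = p := orderOf_eq_prime hcp hc1
  -- Step 2
  have hMdec : ∀ r ∈ Subgroup.centralizer (E : Set G), Commute r (u ^ p) →
      ∃ i : ℕ, ∃ y ∈ Subgroup.zpowers u, r = t ^ i * y := by
    intro r hr hrc
    obtain ⟨w, hw, hrw⟩ := h.conj_eq r hrc
    obtain ⟨i, hi⟩ := exists_npow_eq h.z_order hcZ1 hc1 hw
    refine ⟨i, (t ^ i)⁻¹ * r, ?_, by group⟩
    apply Fam.mem_Z h hE hCE
    · exact Subgroup.mul_mem _ (Subgroup.inv_mem _ (Subgroup.pow_mem _ htR i)) hr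
    · have h1 := CSC.Ctx.pow_conj_of_conj_mul (x := u) t c (hcc t).symm htu i
      rw [hi] at h1
      have h2 : r * u * r⁻¹ = t ^ i * u * (t ^ i)⁻¹ := by rw [hrw, h1]
      show (t ^ i)⁻¹ * r * u = u * ((t ^ i)⁻¹ * r)
      have h3 : r * u = t ^ i * u * (t ^ i)⁻¹ * r := by rw [← h2]; group
      rw [mul_assoc, h3]; group
  -- Step 3
  have hXdec : ∀ x : G, Commute x (u ^ p) →
      ∃ e ∈ E, ∃ i : ℕ, ∃ y ∈ Subgroup.zpowers u, x = e * (t ^ i * y) := by
    intro x hx
    obtain ⟨e', he', hr⟩ := Fam.exists_mul h hE hCE x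
    have hec : Commute e' (u ^ p) :=
      (h.Z_comm_C (Subgroup.pow_mem _ (Subgroup.mem_zpowers u) p) (hE.1 he')).symm
    obtain ⟨i, y, hy, hry⟩ := hMdec _ hr (hx.mul_left hec)
    refine ⟨e'⁻¹, E.inv_mem he', i, y, hy, ?_⟩
    rw [← hry]
    have := Subgroup.mem_centralizer_iff.mp hr e'⁻¹ (E.inv_mem he')
    rw [this]; group
  -- Step 4
  have hπ : ∀ x x' : G, Commute x (u ^ p) → Commute x' (u ^ p) →
      ⁅x, x'⁆ ∈ Subgroup.zpowers z := by
    intro x x' hx hx'
    obtain ⟨e, he, i, y, hy, rfl⟩ := hXdec x hx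
    obtain ⟨e', he', j, y', hy', rfl⟩ := hXdec x' hx'
    apply comm_mem_of_commute_mk
    have hty : ∀ y ∈ Subgroup.zpowers u, Commute (QuotientGroup.mk' (Subgroup.zpowers z) t)
        (QuotientGroup.mk' (Subgroup.zpowers z) y) := by
      intro y hy
      apply commute_mk_of_comm_mem
      obtain ⟨w, hw, hrw⟩ := h.conj_eq_zpow t htc hy
      have : ⁅t, y⁆ = w := by
        rw [commutatorElement_def, hrw, ← (h.Z1_central hw y).eq, mul_inv_cancel_right]
      rw [this]; exact hw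
    have hee : Commute (QuotientGroup.mk' (Subgroup.zpowers z) e)
        (QuotientGroup.mk' (Subgroup.zpowers z) e') :=
      commute_mk_of_comm_mem _ (Fam.comm_mem h hE e he')
    have hcR : ∀ e ∈ E, ∀ r ∈ Subgroup.centralizer (E : Set G),
        Commute (QuotientGroup.mk' (Subgroup.zpowers z) e)
          (QuotientGroup.mk' (Subgroup.zpowers z) r) := by
      intro e he r hr
      have : Commute e r := Subgroup.mem_centralizer_iff.mp hr e he
      exact this.map _
    have hyy : Commute (QuotientGroup.mk' (Subgroup.zpowers z) y)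
        (QuotientGroup.mk' (Subgroup.zpowers z) y') := by
      have : Commute y y' := by
        obtain ⟨k, rfl⟩ := Subgroup.mem_zpowers_iff.mp hy
        obtain ⟨k', rfl⟩ := Subgroup.mem_zpowers_iff.mp hy'
        exact (Commute.refl u).zpow_zpow k k'
      exact this.map _
    have hZR := Fam.Z_le_R h hE
    simp only [map_mul, map_pow]
    refine Commute.mul_left (Commute.mul_right hee (Commute.mul_right ?_ ?_))
      (Commute.mul_left (Commute.mul_right ?_ (Commute.mul_right ?_ ?_))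
        (Commute.mul_right ?_ (Commute.mul_right ?_ ?_)))
    · exact (hcR e he t htR).pow_right j
    · exact hcR e he y' (hZR hy')
    · exact ((hcR e' he' t htR).pow_right i).symm
    · exact (Commute.refl _).pow_pow i j
    · exact (hty y' hy').pow_left i
    · exact (hcR e' he' y (hZR hy)).symm
    · exact ((hty y hy).pow_left j).symm
    · exact hyy
  have hZ1c : ∀ w ∈ Subgroup.zpowers z, ∀ g : G, Commute w g := fun w hw => h.Z1_central hw
  have hZ1p : ∀ w ∈ Subgroup.zpowers z, w ^ p = 1 := by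
    intro w hw
    obtain ⟨k, rfl⟩ := Subgroup.mem_zpowers_iff.mp hw
    rw [← zpow_natCast, ← zpow_mul, mul_comm, zpow_mul, zpow_natCast, h.z_pow, one_zpow]
  -- the subgroup X
  obtain ⟨X, hXdef⟩ : ∃ X : Subgroup G,
    X = Subgroup.centralizer ((Subgroup.zpowers (u ^ p) : Subgroup G) : Set G) := ⟨_, rfl⟩
  have hmemX : ∀ x, x ∈ X ↔ Commute x (u ^ p) := by
    intro x; rw [hXdef]; exact mem_X_iff x
  have hXchar : X.Characteristic := by
    haveI := h.zpowers_pow_char
    rw [hXdef]; infer_instance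
  have hcommX : ∀ x ∈ X, ∀ x' ∈ X, ⁅x, x'⁆ ∈ Subgroup.centralizer (X : Set G) := by
    intro x hx x' hx'
    rw [Subgroup.mem_centralizer_iff]
    intro g _
    exact ((hZ1c _ (hπ x x' ((hmemX x).mp hx) ((hmemX x').mp hx')) g).eq).symm
  have hpowX : ∀ x ∈ X, x ^ p ∈ Subgroup.centralizer (X : Set G) := by
    intro x hx
    rw [Subgroup.mem_centralizer_iff]
    intro x' hx'
    have hw := hπ x x' ((hmemX x).mp hx) ((hmemX x').mp hx')
    have h1 := Cfsg.Agent.Lib.Helper1.commutatorElement_pow_left_of_central x x' (hZ1c _ hw) p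
    rw [hZ1p _ hw] at h1
    exact (commutatorElement_eq_one_iff_commute.mp h1).eq.symm
  have hupX : Subgroup.zpowers (u ^ p) ≤ X ⊓ Subgroup.centralizer (X : Set G) := by
    rw [Subgroup.zpowers_le]
    refine Subgroup.mem_inf.mpr ⟨(hmemX _).mpr (Commute.refl _), ?_⟩
    rw [Subgroup.mem_centralizer_iff]
    intro x hx
    exact (((hmemX x).mp hx).eq)
  have hsize : p ≠ 2 ∨ p ^ 2 ≤ Nat.card ↥(X ⊓ Subgroup.centralizer (X : Set G)) := by
    by_cases hp2 : p = 2
    · right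
      have hn3 : 3 ≤ n := hpn.resolve_left (fun hne => hne hp2)
      have hcard : Nat.card (Subgroup.zpowers (u ^ p)) = p ^ (n - 1) := by
        rw [Nat.card_zpowers, orderOf_pow_of_dvd hp.1.ne_zero (by
          rw [h.ord]; exact dvd_pow_self p (by omega)), h.ord]
        have : p ^ n = p ^ (n - 1) * p := h.pow_split
        rw [this, Nat.mul_div_cancel _ hp.1.pos]
      calc p ^ 2 ≤ p ^ (n - 1) := Nat.pow_le_pow_right hp.1.pos (by omega)
        _ = Nat.card (Subgroup.zpowers (u ^ p)) := hcard.symm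
        _ ≤ _ := Subgroup.card_le_of_le hupX
    · exact Or.inl hp2
  have huX : u ∈ X := (hmemX u).mpr ((Commute.refl u).pow_right p)
  obtain ⟨y, hyXc, hyp⟩ := power_in_center h.pG h.symp X hXchar hpowX hcommX hsize u huX
  obtain ⟨hyX, hyc⟩ := Subgroup.mem_inf.mp hyXc
  rw [Subgroup.mem_centralizer_iff] at hyc
  -- y centralizes E, u, t
  have hyR : y ∈ Subgroup.centralizer (E : Set G) := by
    rw [Subgroup.mem_centralizer_iff]
    intro e he
    apply hyc e
    apply (hmemX e).mpr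
    exact (h.Z_comm_C (Subgroup.pow_mem _ (Subgroup.mem_zpowers u) p) (hE.1 he)).symm
  have hyu : Commute y u := (hyc u huX).symm
  have hyZ : y ∈ Subgroup.zpowers u := Fam.mem_Z h hE hCE hyR hyu
  have hyt : Commute t y := hyc t ((hmemX t).mpr htc)
  obtain ⟨k, hk⟩ := Subgroup.mem_zpowers_iff.mp hyZ
  have h1 : t * y * t⁻¹ = y * c ^ k := by
    rw [← hk, ← conj_zpow, htu, ((hcc u).symm).mul_zpow]
  have h2 : c ^ k = 1 := by
    rw [hyt.eq, mul_inv_cancel_right] at h1
    exact (mul_eq_left.mp h1.symm)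
  have h3 : (p : ℤ) ∣ k := by
    rw [← hcord]; exact orderOf_dvd_iff_zpow_eq_one.mpr h2
  obtain ⟨k', rfl⟩ := h3
  -- y ^ (p ^ (n - 1)) = 1
  have h4 : y ^ (p ^ (n - 1)) = 1 := by
    rw [← hk, ← zpow_natCast, ← zpow_mul]
    have : (p : ℤ) * k' * ((p ^ (n - 1) : ℕ) : ℤ) = ((p ^ n : ℕ) : ℤ) * k' := by
      rw [h.pow_split]; push_cast; ring
    rw [this, zpow_mul, zpow_natCast, ← h.ord, pow_orderOf_eq_one, one_zpow]
  apply h.z_ne_one
  have h5 : p ^ (n - 1) = p * p ^ (n - 2) := by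
    rw [← pow_succ']; congr 1; omega
  rw [h5, pow_mul, hyp, ← pow_mul, ← h5, h4]

end Crit

end Cfsg.Agent.Lib.Helper20.Symp
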