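import Mathlib
import Cfsg.Agent.Lib.Helper20.SympT

/-!
Helper lemmas (helper20): P. Hall's theorem on `p`-groups of symplectic type.
-/

set_option autoImplicit false
open scoped commutatorElement

namespace Cfsg.Agent.Lib.Helper20.Symp

theorem symp_main {G : Type*} [Group G] [Finite G] {p : ℕ} [hp : Fact p.Prime]
    (hG : IsPGroup p G)
    (hsymp : ∀ A : Subgroup G, A.Characteristic → IsMulCommutative A → IsCyclic A) :
    ∃ E R : Subgroup G, (∀ e ∈ E, ∀ r ∈ R, e * r = r * e) ∧ E ⊔ R = ⊤ ∧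
      (E = ⊥ ∨ Cfsg.IsExtraspecial p ↥E) ∧
      (IsCyclic R ∨ (p = 2 ∧ 16 ≤ Nat.card R ∧
        ((∃ m : ℕ, Nonempty (↥R ≃* DihedralGroup m)) ∨
          (∃ m : ℕ, Nonempty (↥R ≃* QuaternionGroup m)) ∨ Cfsg.IsQuasiDihedral ↥R))) := by
  classical
  by_cases hnt : Nontrivial G
  swap
  · rw [not_nontrivial_iff_subsingleton] at hnt
    refine ⟨⊥, ⊥, ?_, Subsingleton.elim _ _, Or.inl rfl, Or.inl inferInstance⟩
    intro e _ r _; exact Subsingleton.elim _ _
  obtain ⟨C, u, n, h⟩ := exists_crit hG hsymp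
  obtain ⟨E, hEF, hCE⟩ := h.exists_E
  obtain ⟨R, hRdef⟩ : ∃ R : Subgroup G, R = Subgroup.centralizer (E : Set G) := ⟨_, rfl⟩
  have hmemR : ∀ r, r ∈ R ↔ ∀ e ∈ E, e * r = r * e := by
    intro r; rw [hRdef, Subgroup.mem_centralizer_iff]; exact Iff.rfl
  have hZR : Subgroup.zpowers u ≤ R := by rw [hRdef]; exact Crit.Fam.Z_le_R h hEF
  have hmul : ∀ g, ∃ e ∈ E, g * e ∈ R := by
    intro g; rw [hRdef]; exact Crit.Fam.exists_mul h hEF hCE g
  have hR3 : ∀ r ∈ R, Commute r u → r ∈ Subgroup.zpowers u := by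
    intro r hr hru
    rw [hRdef] at hr
    exact Crit.Fam.mem_Z h hEF hCE hr hru
  have hnot_t : ∀ t ∈ R, Commute t (u ^ p) → t ∉ Subgroup.zpowers u → t ^ p = 1 → 2 ≤ n →
      (p ≠ 2 ∨ 3 ≤ n) → False := by
    intro t ht h1 h2 h3 hn2 hpn
    rw [hRdef] at ht
    exact h.no_t hEF hCE hn2 hpn t ht h1 h2 h3
  clear hRdef
  -- finishing
  have hfinish : (IsCyclic R ∨ (p = 2 ∧ 16 ≤ Nat.card R ∧
        ((∃ m : ℕ, Nonempty (↥R ≃* DihedralGroup m)) ∨
          (∃ m : ℕ, Nonempty (↥R ≃* QuaternionGroup m)) ∨ Cfsg.IsQuasiDihedral ↥R))) →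
      ∃ E R : Subgroup G, (∀ e ∈ E, ∀ r ∈ R, e * r = r * e) ∧ E ⊔ R = ⊤ ∧
      (E = ⊥ ∨ Cfsg.IsExtraspecial p ↥E) ∧
      (IsCyclic R ∨ (p = 2 ∧ 16 ≤ Nat.card R ∧
        ((∃ m : ℕ, Nonempty (↥R ≃* DihedralGroup m)) ∨
          (∃ m : ℕ, Nonempty (↥R ≃* QuaternionGroup m)) ∨ Cfsg.IsQuasiDihedral ↥R))) := by
    intro hR
    by_cases hEab : ∀ e ∈ E, ∀ e' ∈ E, Commute e e'
    · refine ⟨⊥, R, ?_, ?_, Or.inl rfl, hR⟩
      · intro e he r _
        rw [Subgroup.mem_bot.mp he, one_mul, mul_one]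
      · rw [bot_sup_eq, eq_top_iff]
        intro g _
        obtain ⟨e, he, hge⟩ := hmul g
        have heR : e ∈ R := hZR (h.Z1_le (Crit.Fam.center_le h hEF hCE e he (hEab e he)))
        have := R.mul_mem hge (R.inv_mem heR)
        rwa [mul_inv_cancel_right] at this
    · refine ⟨E, R, ?_, ?_, Or.inr (Crit.Fam.isExtraspecial h hEF hCE hEab), hR⟩
      · intro e he r hr
        exact (hmemR r).mp hr e he
      · rw [eq_top_iff]
        intro g _
        obtain ⟨e, he, hge⟩ := hmul g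
        have : g = (g * e) * e⁻¹ := by group
        rw [this]
        exact Subgroup.mul_mem _ (Subgroup.mem_sup_right hge)
          (Subgroup.mem_sup_left (E.inv_mem he))
  by_cases hRab : ∀ r ∈ R, Commute r u
  · apply hfinish
    left
    have hRZ : R = Subgroup.zpowers u :=
      le_antisymm (fun r hr => hR3 r hr (hRab r hr)) hZR
    rw [hRZ]
    infer_instance
  push Not at hRab
  obtain ⟨r₀, hr₀R, hr₀u⟩ := hRab
  have hn2 : 2 ≤ n := by
    by_contra hlt
    have hn1 : n = 1 := by have := h.pos; omega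
    apply hr₀u
    have := h.z_central r₀
    rw [hn1] at this
    simpa using this.symm
  -- the context in `R`
  have huR : u ∈ R := hZR (Subgroup.mem_zpowers u)
  obtain ⟨x, hx⟩ : ∃ x : ↥R, x = ⟨u, huR⟩ := ⟨_, rfl⟩
  have hxc : (x : G) = u := by rw [hx]
  have hmemU : ∀ g : ↥R, g ∈ Subgroup.zpowers x ↔ (g : G) ∈ Subgroup.zpowers u := by
    intro g
    constructor
    · intro hg
      obtain ⟨k, rfl⟩ := Subgroup.mem_zpowers_iff.mp hg
      rw [Subgroup.coe_zpow, hxc]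
      exact Subgroup.zpow_mem_zpowers u k
    · intro hg
      obtain ⟨k, hk⟩ := Subgroup.mem_zpowers_iff.mp hg
      exact Subgroup.mem_zpowers_iff.mpr ⟨k, Subtype.ext (by rw [Subgroup.coe_zpow, hxc]; exact hk)⟩
  have hctx : CSC.Ctx ↥R p x n := by
    refine ⟨hG.to_subgroup R, ?_, ?_, ?_, hn2⟩
    · rw [hx, Subgroup.orderOf_mk]; exact h.ord
    · refine ⟨fun g hg a => (hmemU _).mpr ?_⟩
      have := h.Z_normal.conj_mem (g : G) ((hmemU g).mp hg) (a : G)
      simpa using this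
    · intro g hg
      apply (hmemU g).mpr
      apply hR3 g g.2
      have := congrArg Subtype.val hg.eq
      show (g : G) * u = u * (g : G)
      simpa [hxc] using this
  have hr₀U : (⟨r₀, hr₀R⟩ : ↥R) ∉ Subgroup.zpowers x := by
    intro hh
    apply hr₀u
    obtain ⟨k, hk⟩ := Subgroup.mem_zpowers_iff.mp ((hmemU _).mp hh)
    have hk' : u ^ k = r₀ := hk
    rw [← hk']
    exact (Commute.refl u).zpow_left k
  have hne : ∃ g : ↥R, g ∉ Subgroup.zpowers x := ⟨_, hr₀U⟩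
  have hnot : ∀ t : ↥R, Commute t (x ^ p) → t ∉ Subgroup.zpowers x → t ^ p = 1 →
      (p ≠ 2 ∨ 3 ≤ n) → False := by
    intro t ht1 ht2 ht3 hpn
    refine hnot_t (t : G) t.2 ?_ (fun hh => ht2 ((hmemU t).mpr hh)) ?_ hn2 hpn
    · have := congrArg Subtype.val ht1.eq
      show (t : G) * u ^ p = u ^ p * (t : G)
      simpa [hxc] using this
    · have := congrArg Subtype.val ht3
      simpa using this
  have hp2 : p = 2 := by
    by_contra hp2
    obtain ⟨g, hgU⟩ := hne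
    obtain ⟨e, he1, he2⟩ := hctx.exists_pow_mem g hgU
    have hcomm : Commute ((g ^ (p ^ e)) ^ p) x := by
      rw [← pow_mul, ← pow_succ]; exact hctx.mem_comm he2
    obtain ⟨m, hm⟩ := hctx.conj_eq_of_pow_comm_odd hp2 _ hcomm
    obtain ⟨t, ht1, ht2, ht3⟩ :=
      hctx.exists_t (Or.inl hp2) _ (hctx.comm_pow_of_conj_eq _ m hm) he1
    exact hnot t ht1 ht2 ht3 (Or.inl hp2)
  subst hp2
  have hH : n = 2 ∨ ∀ g : ↥R, Commute g (x ^ 2) → g ∈ Subgroup.zpowers x := by
    by_cases hn : n = 2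
    · exact Or.inl hn
    · right
      intro g hg
      by_contra hgU
      obtain ⟨t, ht1, ht2, ht3⟩ := hctx.exists_t (Or.inr (by omega)) g hg hgU
      exact hnot t ht1 ht2 ht3 (Or.inr (by omega))
  obtain ⟨hcard, htri⟩ := hctx.caseA hne hH
  by_cases hn : n = 2
  swap
  · apply hfinish
    right
    refine ⟨rfl, ?_, htri⟩
    rw [hcard]
    calc 16 = 2 ^ 4 := by norm_num
      _ ≤ 2 ^ (n + 1) := Nat.pow_le_pow_right (by norm_num) (by omega)
  -- the small case: `G` is extraspecial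
  subst hn
  obtain ⟨z, hzdef⟩ : ∃ z : G, z = u ^ (2 ^ (2 - 1)) := ⟨_, rfl⟩
  have hz2 : z = u ^ 2 := by rw [hzdef]; norm_num
  have hzord : orderOf z = 2 := by rw [hzdef]; exact h.z_order
  have hZ1c : ∀ w ∈ Subgroup.zpowers z, ∀ g : G, Commute w g := by
    intro w hw g
    rw [hzdef] at hw
    exact h.Z1_central hw g
  have hsqR : ∀ r ∈ R, r * r ∈ Subgroup.zpowers z := by
    intro r hr
    by_cases hrZ : r ∈ Subgroup.zpowers u
    · obtain ⟨k, rfl⟩ := Subgroup.mem_zpowers_iff.mp hrZ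
      have : u ^ k * u ^ k = z ^ k := by
        rw [hz2, ← zpow_natCast u 2, ← zpow_mul, ← zpow_add]
        congr 1; push_cast; ring
      rw [this]
      exact Subgroup.zpow_mem_zpowers z k
    · have hgU : (⟨r, hr⟩ : ↥R) ∉ Subgroup.zpowers x := fun hh => hrZ ((hmemU _).mp hh)
      rcases hctx.caseA_sq hH ⟨r, hr⟩ hgU with h1 | h1
      · have := congrArg Subtype.val h1
        simp only [Subgroup.coe_mul, Subgroup.coe_one] at this
        rw [this]; exact Subgroup.one_mem _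
      · have := congrArg Subtype.val h1
        simp only [Subgroup.coe_mul, Subgroup.coe_pow, hxc] at this
        rw [this, ← hzdef]; exact Subgroup.mem_zpowers z
  have hsq : ∀ g : G, g ^ 2 ∈ Subgroup.zpowers z := by
    intro g
    obtain ⟨e, he, hge⟩ := hmul g
    have hcomm : Commute (g * e) e⁻¹ := ((hmemR _).mp hge e⁻¹ (E.inv_mem he)).symm
    have : g = (g * e) * e⁻¹ := by group
    rw [this, hcomm.mul_pow]
    refine Subgroup.mul_mem _ (by rw [pow_two]; exact hsqR _ hge) ?_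
    rw [hzdef]
    exact Crit.Fam.pow_mem h hEF (E.inv_mem he)
  have hcm : ∀ a b : G, ⁅a, b⁆ ∈ Subgroup.zpowers z := by
    intro a b
    have : ⁅a, b⁆ = a ^ 2 * (a⁻¹ * b) ^ 2 * (b⁻¹) ^ 2 := by
      rw [commutatorElement_def, pow_two, pow_two, pow_two]; group
    rw [this]
    exact Subgroup.mul_mem _ (Subgroup.mul_mem _ (hsq _) (hsq _)) (hsq _)
  have hcen : ∀ w : G, (∀ s : G, s * w = w * s) → w ∈ Subgroup.zpowers z := by
    intro w hw
    have hwZ : w ∈ Subgroup.zpowers u := by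
      rw [← h.cent, Subgroup.mem_centralizer_iff]
      intro c _
      exact hw c
    rw [hzdef]
    apply h.mem_Z1 hwZ
    rcases hctx.caseA_step2 hH ⟨r₀, hr₀R⟩ hr₀U with h1 | ⟨hn3, _⟩
    · have h2 : r₀ * u * r₀⁻¹ = u⁻¹ := by
        have := congrArg Subtype.val h1
        simpa [hxc] using this
      obtain ⟨k, rfl⟩ := Subgroup.mem_zpowers_iff.mp hwZ
      have h3 : r₀ * u ^ k * r₀⁻¹ = (u ^ k)⁻¹ := by rw [← conj_zpow, h2, inv_zpow]
      have h4 : r₀ * u ^ k * r₀⁻¹ = u ^ k := by rw [hw r₀, mul_inv_cancel_right]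
      rw [h4] at h3
      rw [pow_two]
      nth_rewrite 1 [h3]
      exact inv_mul_cancel _
    · omega
  refine ⟨⊤, Subgroup.zpowers z, ?_, top_sup_eq _, Or.inr ?_, Or.inl inferInstance⟩
  · intro e _ r hr
    exact ((hZ1c r hr e).eq).symm
  · have hes := esData_subtype (p := 2) (⊤ : Subgroup G) (Subgroup.mem_top z) hzord
      (fun t _ => ((hZ1c z (Subgroup.mem_zpowers z) t).eq).symm)
      (fun t _ hall => hcen t (fun s => hall s (Subgroup.mem_top s)))
      (fun a _ b _ => hcm a b) (fun a _ => hsq a)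
    apply hes.isExtraspecial
    refine ⟨⟨r₀, Subgroup.mem_top _⟩, ⟨u, Subgroup.mem_top _⟩, ?_⟩
    intro h1
    apply hr₀u
    have h2 := commutatorElement_eq_one_iff_commute.mp h1
    exact congrArg Subtype.val h2.eq

end Cfsg.Agent.Lib.Helper20.Symp
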