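import Mathlib
import Cfsg.Agent.Lib.Helper12.FrobSum

/-!
Helper lemmas (helper20): for an abelian subgroup `Q` of order prime to `p` normalized by an element `z` with
`z ^ p = 1`, the subgroup `[Q, z] = {b⁻¹ (z b z⁻¹)}`; `z` acts on it without fixed points.  Also the expansion of
`(v y) ^ k`.
-/

set_option autoImplicit false

namespace Cfsg.Agent.Lib.Helper20.ExpPLen

variable {H : Type*} [Group H]

/-- the subgroup `[Q, z]` of an abelian subgroup `Q` normalized by `z` -/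
def commSub (Q : Subgroup H) (hQ : ∀ a ∈ Q, ∀ b ∈ Q, a * b = b * a) (z : H)
    (hz : ∀ a ∈ Q, z * a * z⁻¹ ∈ Q) : Subgroup H where
  carrier := {x | ∃ b ∈ Q, x = b⁻¹ * (z * b * z⁻¹)}
  one_mem' := ⟨1, Q.one_mem, by simp⟩
  mul_mem' := by
    rintro _ _ ⟨a, ha, rfl⟩ ⟨b, hb, rfl⟩
    refine ⟨a * b, Q.mul_mem ha hb, ?_⟩
    have h1 := hQ _ (Q.mul_mem (Q.inv_mem ha) (hz a ha)) _ (Q.inv_mem hb)
    calc a⁻¹ * (z * a * z⁻¹) * (b⁻¹ * (z * b * z⁻¹))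
        = (a⁻¹ * (z * a * z⁻¹) * b⁻¹) * (z * b * z⁻¹) := by group
      _ = (b⁻¹ * (a⁻¹ * (z * a * z⁻¹))) * (z * b * z⁻¹) := by rw [h1]
      _ = (a * b)⁻¹ * (z * (a * b) * z⁻¹) := by group
  inv_mem' := by
    rintro _ ⟨a, ha, rfl⟩
    refine ⟨a⁻¹, Q.inv_mem ha, ?_⟩
    have h1 := hQ _ (Q.inv_mem (hz a ha)) _ ha
    calc (a⁻¹ * (z * a * z⁻¹))⁻¹ = (z * a * z⁻¹)⁻¹ * a := by group
      _ = a * (z * a * z⁻¹)⁻¹ := h1
      _ = a⁻¹⁻¹ * (z * a⁻¹ * z⁻¹) := by group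

theorem mem_commSub {Q : Subgroup H} {hQ : ∀ a ∈ Q, ∀ b ∈ Q, a * b = b * a} {z : H}
    {hz : ∀ a ∈ Q, z * a * z⁻¹ ∈ Q} {x : H} :
    x ∈ commSub Q hQ z hz ↔ ∃ b ∈ Q, x = b⁻¹ * (z * b * z⁻¹) := Iff.rfl

theorem commSub_le (Q : Subgroup H) (hQ : ∀ a ∈ Q, ∀ b ∈ Q, a * b = b * a) (z : H)
    (hz : ∀ a ∈ Q, z * a * z⁻¹ ∈ Q) : commSub Q hQ z hz ≤ Q := by
  rintro _ ⟨b, hb, rfl⟩
  exact Q.mul_mem (Q.inv_mem hb) (hz b hb)

/-- `[Q, z]` is invariant under every element normalizing `Q` and commuting with `z` -/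
theorem commSub_invariant (Q : Subgroup H) (hQ : ∀ a ∈ Q, ∀ b ∈ Q, a * b = b * a) (z : H)
    (hz : ∀ a ∈ Q, z * a * z⁻¹ ∈ Q) (y : H) (hy : ∀ a ∈ Q, y * a * y⁻¹ ∈ Q) (hyz : y * z = z * y) :
    ∀ a ∈ commSub Q hQ z hz, y * a * y⁻¹ ∈ commSub Q hQ z hz := by
  rintro _ ⟨b, hb, rfl⟩
  refine ⟨y * b * y⁻¹, hy b hb, ?_⟩
  have h1 : z * (y * b * y⁻¹) * z⁻¹ = y * (z * b * z⁻¹) * y⁻¹ := by
    have e1 : z * (y * b * y⁻¹) * z⁻¹ = (z * y) * b * (z * y)⁻¹ := by group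
    have e2 : y * (z * b * z⁻¹) * y⁻¹ = (y * z) * b * (y * z)⁻¹ := by group
    rw [e1, e2, hyz]
  rw [h1]
  group

/-- `z` has no nontrivial fixed point on `[Q, z]` when `z ^ p = 1` and `Q` has no `p`-torsion -/
theorem commSub_fpf (Q : Subgroup H) (hQ : ∀ a ∈ Q, ∀ b ∈ Q, a * b = b * a) (z : H)
    (hz : ∀ a ∈ Q, z * a * z⁻¹ ∈ Q) (p : ℕ) (hzp : z ^ p = 1)
    (htor : ∀ c ∈ Q, c ^ p = 1 → c = 1) :
    ∀ a ∈ commSub Q hQ z hz, z * a = a * z → a = 1 := by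
  rintro _ ⟨b, hb, rfl⟩ hc
  have hmem : b⁻¹ * (z * b * z⁻¹) ∈ Q := Q.mul_mem (Q.inv_mem hb) (hz b hb)
  have h0 : z * b * z⁻¹ = b * (b⁻¹ * (z * b * z⁻¹)) := by group
  have h1 := Cfsg.Agent.Lib.Helper12.pow_conj_eq_mul_pow z b _ hc h0 p
  rw [hzp] at h1
  have h2 : (b⁻¹ * (z * b * z⁻¹)) ^ p = 1 := by
    have : b = b * (b⁻¹ * (z * b * z⁻¹)) ^ p := by simpa using h1
    exact (mul_eq_left.mp this.symm)
  exact htor _ hmem h2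

theorem commSub_ne_bot (Q : Subgroup H) (hQ : ∀ a ∈ Q, ∀ b ∈ Q, a * b = b * a) (z : H)
    (hz : ∀ a ∈ Q, z * a * z⁻¹ ∈ Q) (hnc : ∃ b ∈ Q, z * b ≠ b * z) :
    commSub Q hQ z hz ≠ ⊥ := by
  intro hbot
  obtain ⟨b, hb, hne⟩ := hnc
  have h1 : b⁻¹ * (z * b * z⁻¹) ∈ commSub Q hQ z hz := ⟨b, hb, rfl⟩
  rw [hbot, Subgroup.mem_bot] at h1
  apply hne
  have h2 : z * b * z⁻¹ = b := by
    have : z * b * z⁻¹ = b * (b⁻¹ * (z * b * z⁻¹)) := by group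
    rw [this, h1, mul_one]
  calc z * b = (z * b * z⁻¹) * z := by group
    _ = b * z := by rw [h2]

/-- the ordered product of the conjugates `y ^ i v y ^ (-i)`, `i < k` -/
def conjProd (v y : H) : ℕ → H
  | 0 => 1
  | k + 1 => conjProd v y k * (y ^ k * v * (y ^ k)⁻¹)

theorem mul_pow_eq_conjProd (v y : H) (k : ℕ) : (v * y) ^ k = conjProd v y k * y ^ k := by
  induction k with
  | zero => simp [conjProd]
  | succ k ih =>
    rw [pow_succ, ih, conjProd, pow_succ]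
    group

theorem conjProd_mem (N : Subgroup H) [N.Normal] (v y : H) (hv : v ∈ N) (k : ℕ) : conjProd v y k ∈ N := by
  induction k with
  | zero => exact N.one_mem
  | succ k ih =>
    rw [conjProd]
    exact N.mul_mem ih (Subgroup.Normal.conj_mem inferInstance v hv _)

end Cfsg.Agent.Lib.Helper20.ExpPLen
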