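import Mathlib
import Cfsg.Prelude.Def_Local
import Cfsg.Agent.Lib.Helper12.HHLite
import Cfsg.Agent.Lib.Helper1.Fitting

/-!
Helper lemmas (helper20) for the bound `p`-length ≤ exponent of a Sylow `p`-subgroup in `p`-soluble groups whose
`p'`-Sylow subgroups are abelian: the predicates `PExp` (all `p`-elements have order dividing `p ^ n`) and `QAb`
(all `q`-subgroups, `q ≠ p`, are abelian) and their passage to quotients.
-/

set_option autoImplicit false

namespace Cfsg.Agent.Lib.Helper20.ExpPLen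

universe u

/-- all `p`-elements have order dividing `p ^ n` -/
def PExp (p n : ℕ) (G : Type*) [Group G] : Prop :=
  ∀ x : G, (∃ j : ℕ, x ^ p ^ j = 1) → x ^ p ^ n = 1

/-- for every prime `q ≠ p` the `q`-subgroups are abelian -/
def QAb (p : ℕ) (G : Type*) [Group G] : Prop :=
  ∀ q : ℕ, q.Prime → q ≠ p → ∀ B : Subgroup G, IsPGroup q B → ∀ a ∈ B, ∀ b ∈ B, a * b = b * a

/-- to bound the orders of the `p`-elements of a homomorphic image it is enough to treat the images of `p`-elements -/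
theorem pexp_of_lift {G H : Type*} [Group G] [Group H] [Finite G] {p : ℕ} (hp : p.Prime) (n : ℕ)
    (f : G →* H) (hf : Function.Surjective f)
    (h : ∀ y : G, (∃ j : ℕ, y ^ p ^ j = 1) → (f y) ^ p ^ n = 1) : PExp p n H := by
  intro x ⟨j, hj⟩
  obtain ⟨g, rfl⟩ := hf x
  have hcard : Nat.card G ≠ 0 := Nat.card_pos.ne'
  obtain ⟨a, u, hu, hau⟩ := Nat.exists_eq_pow_mul_and_not_dvd hcard p hp.ne_one
  have hy : (g ^ u) ^ p ^ a = 1 := by
    rw [← pow_mul, mul_comm, ← hau]
    exact pow_card_eq_one'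
  have h1 := h (g ^ u) ⟨a, hy⟩
  rw [map_pow, ← pow_mul] at h1
  have hcop : Nat.Coprime u (p ^ j) := Nat.Coprime.pow_right j ((Nat.Prime.coprime_iff_not_dvd hp).mpr hu).symm
  have h2 : (f g) ^ Nat.gcd (u * p ^ n) (p ^ j) = 1 := pow_gcd_eq_one.mpr ⟨h1, hj⟩
  rw [Nat.Coprime.gcd_mul_left_cancel _ hcop] at h2
  obtain ⟨c, hc⟩ := Nat.gcd_dvd_left (p ^ n) (p ^ j)
  rw [hc, pow_mul, h2, one_pow]

theorem PExp.of_surjective {G H : Type*} [Group G] [Group H] [Finite G] {p : ℕ} (hp : p.Prime) {n : ℕ}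
    (f : G →* H) (hf : Function.Surjective f) (h : PExp p n G) : PExp p n H := by
  apply pexp_of_lift hp n f hf
  intro y hy
  rw [← map_pow, h y hy, map_one]

theorem QAb.quotient {G : Type*} [Group G] [Finite G] {p : ℕ} (K : Subgroup G) [K.Normal]
    (h : QAb p G) : QAb p (G ⧸ K) := by
  intro q hq hqp B hB
  haveI : Fact q.Prime := ⟨hq⟩
  exact Cfsg.Agent.Lib.Helper12.quotient_qSubgroups_comm K (h q hq hqp) B hB

end Cfsg.Agent.Lib.Helper20.ExpPLen
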