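import Mathlib
import Cfsg.Prelude.Def_Local
import Cfsg.Agent.Lib.Helper20.ExpPLenA
import Cfsg.Agent.Lib.Helper20.ExpPLenB
import Cfsg.Agent.Lib.Helper12.HHLiteGroup0
import Cfsg.Agent.Lib.Helper8.DualHH
import Cfsg.Agent.Lib.Helper26.TateNormA
import Cfsg.Agent.S0023

/-!
Helper lemmas (helper20): the Hall–Higman exponent step when the `p'`-Sylow subgroups are abelian.  If `O_{p'}(X) = 1`
and the `p`-elements of `X` have order dividing `p ^ (n + 1)`, then the `p`-elements of `X / O_p(X)` have order dividing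
`p ^ n`.
-/

set_option autoImplicit false
open scoped BigOperators

namespace Cfsg.Agent.Lib.Helper20.ExpPLen

open Cfsg

variable {X : Type*} [Group X] [Finite X]

theorem pcore_quot_eq_bot (p : ℕ) [hp : Fact p.Prime] [hn : (pCore p X).Normal] :
    pCore p (X ⧸ pCore p X) = ⊥ := by
  set O := pCore p X with hO
  set Nb := pCore p (X ⧸ O) with hNb
  haveI : Nb.Normal := Cfsg.Agent.Lib.Helper1.pCore_normal p _
  have hN : Nb.comap (QuotientGroup.mk' O) ≤ O := by
    apply Cfsg.Agent.Lib.Helper1.le_pCore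
    · infer_instance
    · obtain ⟨a, ha⟩ := IsPGroup.iff_card.mp (Cfsg.Agent.Lib.Helper1.pCore_isPGroup p X)
      obtain ⟨b, hb⟩ := IsPGroup.iff_card.mp (Cfsg.Agent.Lib.Helper1.pCore_isPGroup p (X ⧸ O))
      apply IsPGroup.of_card (n := a + b)
      rw [Cfsg.Agent.Lib.Helper12.card_comap_mk', ha, hb, pow_add]
  rw [eq_bot_iff]
  intro x hx
  obtain ⟨y, rfl⟩ := QuotientGroup.mk'_surjective O x
  have : y ∈ O := hN hx
  rw [Subgroup.mem_bot]
  exact (QuotientGroup.eq_one_iff y).mpr this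

/-- an element commuting with `y ^ i`, `0 < i < p ^ (n+1)`, commutes with `y ^ (p ^ n)` when `y ^ (p ^ (n+1)) = 1` -/
theorem commute_pow_of_commute_pow {H : Type*} [Group H] {p : ℕ} (hp : p.Prime) (n : ℕ) (y a : H)
    (hy : y ^ p ^ (n + 1) = 1) (i : ℕ) (hi1 : 1 ≤ i) (hi : i < p ^ (n + 1))
    (hc : Commute (y ^ i) a) : Commute (y ^ p ^ n) a := by
  obtain ⟨j, hj, hd⟩ := (Nat.dvd_prime_pow hp).1 (Nat.gcd_dvd_right i (p ^ (n + 1)))
  have hdle : Nat.gcd i (p ^ (n + 1)) ≤ i := Nat.gcd_le_left _ (by omega)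
  have hjn : j ≤ n := by
    by_contra hcon
    have : j = n + 1 := by omega
    rw [this] at hd
    omega
  have hb := Nat.gcd_eq_gcd_ab i (p ^ (n + 1))
  have h1 : y ^ ((Nat.gcd i (p ^ (n + 1)) : ℕ) : ℤ) = (y ^ i) ^ (Nat.gcdA i (p ^ (n + 1))) := by
    rw [hb, zpow_add, zpow_mul, zpow_mul, zpow_natCast, zpow_natCast, hy, one_zpow, mul_one]
  have h2 : Commute (y ^ Nat.gcd i (p ^ (n + 1))) a := by
    rw [← zpow_natCast, h1]
    exact hc.zpow_left _
  rw [hd] at h2
  have h3 : y ^ p ^ n = (y ^ p ^ j) ^ p ^ (n - j) := by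
    rw [← pow_mul, ← pow_add]
    congr 2
    omega
  rw [h3]
  exact h2.pow_left _

/-- the action on the Frattini quotient of `O_p(X)`, as a map out of `X / O_p(X)` -/
noncomputable def fqAct (p : ℕ) [hp : Fact p.Prime] [hn : (pCore p X).Normal] :
    X ⧸ pCore p X →* MulAut (↥(pCore p X) ⧸ frattini ↥(pCore p X)) :=
  QuotientGroup.lift (pCore p X)
    ((Cfsg.Agent.Lib.Helper26.fqHom).comp (MulAut.conjNormal (H := pCore p X)))
    (by
      intro r hr
      have hR : IsPGroup p ↥(pCore p X) := Cfsg.Agent.Lib.Helper1.pCore_isPGroup p X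
      have h1 : (MulAut.conjNormal (H := pCore p X)) r = MulAut.conj (⟨r, hr⟩ : ↥(pCore p X)) := by
        ext v
        rfl
      rw [MonoidHom.mem_ker, MonoidHom.comp_apply, h1]
      exact Cfsg.Agent.Lib.Helper26.fqHom_conj hR ⟨r, hr⟩)

theorem fqAct_mk (p : ℕ) [hp : Fact p.Prime] [hn : (pCore p X).Normal] (g : X) (v : ↥(pCore p X)) :
    fqAct p (QuotientGroup.mk g : X ⧸ pCore p X) (QuotientGroup.mk v) =
      QuotientGroup.mk ((MulAut.conjNormal (H := pCore p X) g) v) := rfl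

/-- the additive action of `X / O_p(X)` on the Frattini quotient of `O_p(X)` -/
noncomputable def fqRho (p : ℕ) [hp : Fact p.Prime] [hn : (pCore p X).Normal] :
    letI := Cfsg.Agent.Lib.Helper26.fqCommGroup (Cfsg.Agent.Lib.Helper1.pCore_isPGroup p X)
    X ⧸ pCore p X →* AddMonoid.End (Additive (↥(pCore p X) ⧸ frattini ↥(pCore p X))) :=
  letI := Cfsg.Agent.Lib.Helper26.fqCommGroup (Cfsg.Agent.Lib.Helper1.pCore_isPGroup p X)
  Cfsg.Agent.Lib.Helper12.endOfAut (fqAct p)

theorem fqRho_mk (p : ℕ) [hp : Fact p.Prime] [hn : (pCore p X).Normal] (g : X) (v : ↥(pCore p X)) :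
    fqRho p (QuotientGroup.mk g : X ⧸ pCore p X) (Additive.ofMul (QuotientGroup.mk v)) =
      Additive.ofMul (QuotientGroup.mk ((MulAut.conjNormal (H := pCore p X) g) v)) := rfl

/-- the sum of the `y ^ i`, `i < k`, applied to the class of `v`, is the class of the ordered product of conjugates -/
theorem sum_fqRho_apply (p : ℕ) [hp : Fact p.Prime] [hn : (pCore p X).Normal] (y : X) (v : ↥(pCore p X)) (k : ℕ) :
    letI := Cfsg.Agent.Lib.Helper26.fqCommGroup (Cfsg.Agent.Lib.Helper1.pCore_isPGroup p X)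
    (∑ i ∈ Finset.range k, fqRho p ((QuotientGroup.mk y : X ⧸ pCore p X) ^ i))
        (Additive.ofMul (QuotientGroup.mk v)) =
      Additive.ofMul (QuotientGroup.mk
        (⟨conjProd (v : X) y k, conjProd_mem (pCore p X) (v : X) y v.2 k⟩ : ↥(pCore p X))) := by
  letI := Cfsg.Agent.Lib.Helper26.fqCommGroup (Cfsg.Agent.Lib.Helper1.pCore_isPGroup p X)
  induction k with
  | zero =>
    rw [Finset.sum_range_zero]
    rfl
  | succ k ih =>
    rw [Finset.sum_range_succ]
    have hadd : ∀ (f g : AddMonoid.End (Additive (↥(pCore p X) ⧸ frattini ↥(pCore p X))))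
        (t : Additive (↥(pCore p X) ⧸ frattini ↥(pCore p X))), (f + g) t = f t + g t := fun _ _ _ => rfl
    rw [hadd, ih, ← QuotientGroup.mk_pow, fqRho_mk]
    rfl

end Cfsg.Agent.Lib.Helper20.ExpPLen
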