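import Mathlib
import Cfsg.Prelude.Def_GeometricClasses
import Cfsg.Agent.Lib.Helper25.TensDefs
import Cfsg.Agent.Lib.Helper25.TensStmt

/-!
S5637 leaves TIII-a (`XT_swapA`), TIII-b (`XT_swapB`), TIII-c (`XT_typeA`): conjugation of elementary
transvections by signed swaps in the `A`- and `B`-index.
-/

set_option autoImplicit false
set_option linter.unusedSectionVars false
set_option linter.unusedVariables false

namespace Cfsg.Agent.Lib.Helper20.TensLeaf
open Matrix Cfsg.Agent.Lib.Helper25.Tens Cfsg.Agent.Lib.Helper25.TensLeaves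
open scoped Kronecker

variable {F : Type*} [Field F] {a b : ℕ}

/-- conjugation of the elementary transvections by a signed permutation matrix in `M` -/
lemma XT_conj {ι : Type} [Fintype ι] [DecidableEq ι] (M : Subgroup (GL ι F)) (g : GL ι F)
    (hg : g ∈ M) (σ : ι → ι) (hσ : Function.Injective σ) (ε : ι → F) (hε : ∀ j, ε j * ε j = 1)
    (hcol : ∀ j, (g : Matrix ι ι F) *ᵥ Pi.single j 1 = ε j • Pi.single (σ j) 1)
    (P Q : ι) (h : XT M P Q) : XT M (σ P) (σ Q) := by
  intro c0
  obtain ⟨t, ht, htv⟩ := h (c0 * ε P * ε Q)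
  refine ⟨g * t * g⁻¹, M.mul_mem (M.mul_mem hg ht) (M.inv_mem hg), ?_⟩
  have hent : ∀ x y, (g : Matrix ι ι F) x y = if x = σ y then ε y else 0 := by
    intro x y
    have := congrFun (hcol y) x
    rw [Matrix.mulVec_single_one] at this
    rw [Matrix.col_apply] at this
    rw [this, Pi.smul_apply, Pi.single_apply, smul_eq_mul]
    by_cases hx : x = σ y
    · rw [if_pos hx, if_pos hx, mul_one]
    · rw [if_neg hx, if_neg hx, mul_zero]
  have key : (1 + Matrix.single (σ P) (σ Q) c0) * (g : Matrix ι ι F)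
      = (g : Matrix ι ι F) * (t : Matrix ι ι F) := by
    rw [htv]
    ext x y
    rw [Matrix.add_mul, Matrix.one_mul, Matrix.mul_add, Matrix.mul_one, Matrix.add_apply,
      Matrix.add_apply]
    congr 1
    by_cases hx : x = σ P
    · subst hx
      rw [Matrix.single_mul_apply_same]
      by_cases hy : y = Q
      · subst hy
        rw [Matrix.mul_single_apply_same, hent, hent, if_pos rfl, if_pos rfl]
        linear_combination (-(c0 * ε y)) * hε P
      · rw [Matrix.mul_single_apply_of_ne _ _ _ _ _ hy, hent,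
          if_neg (fun hh => hy (hσ hh).symm), mul_zero]
    · rw [Matrix.single_mul_apply_of_ne _ _ _ _ _ hx]
      by_cases hy : y = Q
      · subst hy
        rw [Matrix.mul_single_apply_same, hent, if_neg hx, zero_mul]
      · rw [Matrix.mul_single_apply_of_ne _ _ _ _ _ hy]
  rw [Units.val_mul, Units.val_mul, ← key, Matrix.mul_assoc, ← Units.val_mul, mul_inv_cancel,
    Units.val_one, Matrix.mul_one]

/-- the signed swap `e_p ↦ -e_q`, `e_q ↦ e_p` as a product of three transvections -/
noncomputable def sswap {n : ℕ} (p q : Fin n) (hpq : p ≠ q) : GL (Fin n) F :=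
  tv (Pi.single p 1) (Pi.single q 1) (by rw [single_dotProduct, Pi.single_apply, if_neg hpq.symm, mul_zero]) *
  tv (Pi.single q 1) (-Pi.single p 1) (by
    rw [neg_dotProduct, single_dotProduct, Pi.single_apply, if_neg hpq, mul_zero, neg_zero]) *
  tv (Pi.single p 1) (Pi.single q 1) (by rw [single_dotProduct, Pi.single_apply, if_neg hpq.symm, mul_zero])

lemma sswap_det {n : ℕ} (p q : Fin n) (hpq : p ≠ q) :
    ((sswap p q hpq : GL (Fin n) F) : Matrix (Fin n) (Fin n) F).det = 1 := by
  unfold sswap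
  rw [Units.val_mul, Units.val_mul, Matrix.det_mul, Matrix.det_mul, tv_det, tv_det, mul_one, mul_one]

lemma sswap_mulVec {n : ℕ} (p q : Fin n) (hpq : p ≠ q) (v : Fin n → F) :
    ((sswap p q hpq : GL (Fin n) F) : Matrix (Fin n) (Fin n) F) *ᵥ v =
      fun x => if x = p then v q else if x = q then - v p else v x := by
  unfold sswap
  rw [Units.val_mul, Units.val_mul, ← Matrix.mulVec_mulVec, ← Matrix.mulVec_mulVec, tv_mulVec,
    tv_mulVec, tv_mulVec]
  funext x
  simp only [single_dotProduct, neg_dotProduct, one_mul, Pi.add_apply, Pi.smul_apply,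
    Pi.single_apply, smul_eq_mul, if_neg hpq.symm, if_true, mul_zero, add_zero,
    mul_one]
  by_cases hxp : x = p
  · subst hxp
    simp [hpq]
  · by_cases hxq : x = q
    · subst hxq
      simp [hxp]
    · simp [hxp, hxq]

lemma sswap_col {n : ℕ} (p q : Fin n) (hpq : p ≠ q) (y : Fin n) :
    ((sswap p q hpq : GL (Fin n) F) : Matrix (Fin n) (Fin n) F) *ᵥ Pi.single y 1 =
      (if y = p then (-1 : F) else 1) • Pi.single (Equiv.swap p q y) 1 := by
  rw [sswap_mulVec]
  funext x
  rw [Pi.smul_apply, smul_eq_mul]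
  by_cases hyp : y = p
  · subst hyp
    rw [Equiv.swap_apply_left, if_pos rfl]
    by_cases hx : x = y
    · subst hx; simp [hpq]
    · by_cases hxq : x = q
      · subst hxq; simp [hx]
      · simp [hx, hxq]
  · by_cases hyq : y = q
    · subst hyq
      rw [Equiv.swap_apply_right, if_neg hyp]
      by_cases hx : x = p
      · subst hx; simp
      · by_cases hxq : x = y
        · subst hxq; simp [hx]
        · simp [hx, hxq]
    · rw [Equiv.swap_apply_of_ne_of_ne hyp hyq, if_neg hyp]
      by_cases hx : x = p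
      · subst hx; simp [Ne.symm hyp, hyq]
      · by_cases hxq : x = q
        · subst hxq; simp [hx, Ne.symm hyq, hyp]
        · simp [hx, hxq]

lemma sswap_eps_sq (y p : Fin a) : (if y = p then (-1 : F) else 1) * (if y = p then (-1 : F) else 1) = 1 := by
  by_cases h : y = p
  · rw [if_pos h]; ring
  · rw [if_neg h]; ring

/-- (TIII-a) swap in the `A`-index. -/
theorem XT_swapA (M : Subgroup (GL (Idx a b) F)) (hKM : KG a b F ⊓ SLG a b F ≤ M)
    (k i : Fin a) (l m : Fin b) (p q : Fin a) (hpq : p ≠ q) (h : XT M (k, l) (i, m)) :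
    XT M (Equiv.swap p q k, l) (Equiv.swap p q i, m) := by
  have hg : kel (sswap p q hpq : GL (Fin a) F) (1 : GL (Fin b) F) ∈ M :=
    hKM (kel_mem_of_det _ _ (sswap_det p q hpq) (by simp))
  refine XT_conj M _ hg (fun P => (Equiv.swap p q P.1, P.2)) ?_
    (fun P => if P.1 = p then (-1 : F) else 1) ?_ ?_ (k, l) (i, m) h
  · rintro ⟨x, y⟩ ⟨x', y'⟩ hh
    simp only [Prod.mk.injEq] at hh
    rw [(Equiv.swap p q).injective hh.1, hh.2]
  · intro j
    by_cases hj : j.1 = p
    · rw [if_pos hj]; ring
    · rw [if_neg hj]; ring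
  · rintro ⟨x, y⟩
    rw [← pt_single_single, kel_mulVec_pt, sswap_col, Units.val_one, Matrix.one_mulVec,
      pt_smul_left, pt_single_single]

/-- (TIII-b) swap in the `B`-index. -/
theorem XT_swapB (M : Subgroup (GL (Idx a b) F)) (hKM : KG a b F ⊓ SLG a b F ≤ M)
    (k i : Fin a) (l m : Fin b) (p q : Fin b) (hpq : p ≠ q) (h : XT M (k, l) (i, m)) :
    XT M (k, Equiv.swap p q l) (i, Equiv.swap p q m) := by
  have hg : kel (1 : GL (Fin a) F) (sswap p q hpq : GL (Fin b) F) ∈ M :=
    hKM (kel_mem_of_det _ _ (by simp) (sswap_det p q hpq))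
  refine XT_conj M _ hg (fun P => (P.1, Equiv.swap p q P.2)) ?_
    (fun P => if P.2 = p then (-1 : F) else 1) ?_ ?_ (k, l) (i, m) h
  · rintro ⟨x, y⟩ ⟨x', y'⟩ hh
    simp only [Prod.mk.injEq] at hh
    rw [(Equiv.swap p q).injective hh.2, hh.1]
  · intro j
    by_cases hj : j.2 = p
    · rw [if_pos hj]; ring
    · rw [if_neg hj]; ring
  · rintro ⟨x, y⟩
    rw [← pt_single_single, kel_mulVec_pt, sswap_col, Units.val_one, Matrix.one_mulVec,
      pt_smul_right, pt_single_single]

/-- a relation invariant under all swaps moves any pair of distinct points to any other -/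
lemma move_of_swap {α : Type*} [DecidableEq α] (R : α → α → Prop)
    (hR : ∀ p q x y, R x y → R (Equiv.swap p q x) (Equiv.swap p q y))
    {x y x' y' : α} (hxy : x ≠ y) (hxy' : x' ≠ y') (h : R x y) : R x' y' := by
  have h1 := hR x x' x y h
  rw [Equiv.swap_apply_left] at h1
  have hy1x' : Equiv.swap x x' y ≠ x' := by
    intro hh
    have h2 := congrArg (Equiv.swap x x') hh
    rw [Equiv.swap_apply_self, Equiv.swap_apply_right] at h2
    exact hxy h2.symm
  have h2 := hR (Equiv.swap x x' y) y' x' (Equiv.swap x x' y) h1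
  rw [Equiv.swap_apply_left, Equiv.swap_apply_of_ne_of_ne hy1x'.symm hxy'] at h2
  exact h2

/-- (TIII-c) from one transvection of type A to all of type A. -/
theorem XT_typeA (M : Subgroup (GL (Idx a b) F)) (hKM : KG a b F ⊓ SLG a b F ≤ M)
    (k i : Fin a) (hki : k ≠ i) (o j : Fin b) (hoj : o ≠ j) (h : XT M (k, o) (i, j))
    (k' i' : Fin a) (hki' : k' ≠ i') (l m : Fin b) (hlm : l ≠ m) : XT M (k', l) (i', m) := by
  have hA : ∀ (l m : Fin b) (p q x y : Fin a), XT M (x, l) (y, m) →
      XT M (Equiv.swap p q x, l) (Equiv.swap p q y, m) := by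
    intro l m p q x y hxy
    by_cases hpq : p = q
    · subst hpq
      rw [Equiv.swap_self, Equiv.refl_apply, Equiv.refl_apply]
      exact hxy
    · exact XT_swapA M hKM x y l m p q hpq hxy
  have hB : ∀ (k i : Fin a) (p q x y : Fin b), XT M (k, x) (i, y) →
      XT M (k, Equiv.swap p q x) (i, Equiv.swap p q y) := by
    intro k i p q x y hxy
    by_cases hpq : p = q
    · subst hpq
      rw [Equiv.swap_self, Equiv.refl_apply, Equiv.refl_apply]
      exact hxy
    · exact XT_swapB M hKM k i x y p q hpq hxy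
  have h1 : XT M (k', o) (i', j) :=
    move_of_swap (fun x y => XT M (x, o) (y, j)) (hA o j) hki hki' h
  exact move_of_swap (fun x y => XT M (k', x) (i', y)) (hB k' i') hoj hlm h1

end Cfsg.Agent.Lib.Helper20.TensLeaf
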