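import Cfsg.Prelude.Def_GeometricClasses

/-!
# "Every maximal subgroup of Ω_n(q), n = 7, 9, 11, q odd, is geometric or residual" (rows S5814 S5835 S5859): definitions (helper20)

`GoodO m F X`: `X` is the (not yet intersected) stabiliser / normaliser defining a member of one of the classes of
`Cfsg.Geo.InOrthogonalOddClass`, with the side conditions of the tables (non-degenerate subspaces: even dimension, not a plus-type
plane when `q = 3`; decompositions into 3-spaces: `q ≥ 5`).  Plan: notes/OmOddMax_plan.md.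
-/

set_option autoImplicit false

namespace Cfsg.Agent.Lib.Helper20.OmM

open Cfsg Cfsg.Geo Matrix

/-- the refined classes (un-intersected) for `Ω_{2m+1}(q)` -/
def GoodO (m : ℕ) (F : Type*) [Field F] [Fintype F] (X : Subgroup (GL (Unit ⊕ (Fin m ⊕ Fin m)) F)) : Prop :=
  (∃ W : Submodule F (Unit ⊕ (Fin m ⊕ Fin m) → F), W ≠ ⊥ ∧ IsTotallySingularQuad (quadFormOdd m F) W ∧
      X = subspaceStabilizer W) ∨
  (∃ W : Submodule F (Unit ⊕ (Fin m ⊕ Fin m) → F), W ≠ ⊥ ∧ Even (Module.finrank F W) ∧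
      IsNondegenerateOn (QuadraticMap.polar (quadFormOdd m F)) W ∧
      ¬ (Fintype.card F = 3 ∧ Module.finrank F W = 2 ∧ IsPlusTypeOn (quadFormOdd m F) W) ∧
      X = subspaceStabilizer W) ∨
  (∃ (t k : ℕ) (D : Fin t → Submodule F (Unit ⊕ (Fin m ⊕ Fin m) → F)), 1 < k ∧
      IsOrthogonalMDecomposition (quadFormOdd m F) k D ∧ (k = 3 → 5 ≤ Fintype.card F) ∧
      X = decompositionStabilizer D) ∨
  (∃ (t : ℕ) (D : Fin t → Submodule F (Unit ⊕ (Fin m ⊕ Fin m) → F)), (Fintype.card F).Prime ∧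
      IsOrthogonalMDecomposition (quadFormOdd m F) 1 D ∧ X = decompositionStabilizer D) ∨
  (∃ (r : ℕ) (K : Subalgebra F (Matrix (Unit ⊕ (Fin m ⊕ Fin m)) (Unit ⊕ (Fin m ⊕ Fin m)) F)), r.Prime ∧
      2 * m + 1 ≠ r ∧ IsFieldSubalgebra r K ∧ IsSelfAdjointFor (QuadraticMap.polar (quadFormOdd m F)) K ∧
      X = subalgebraNormalizer K) ∨
  (∃ (n₁ n₂ : ℕ) (e : (Unit ⊕ (Fin m ⊕ Fin m)) ≃ Fin n₁ × Fin n₂) (P : GL (Unit ⊕ (Fin m ⊕ Fin m)) F)
      (f₁ : (Fin n₁ → F) → (Fin n₁ → F) → F) (f₂ : (Fin n₂ → F) → (Fin n₂ → F) → F),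
      3 ≤ n₁ ∧ n₁ < n₂ ∧ IsSymmetricForm f₁ ∧ IsSymmetricForm f₂ ∧
      IsTensorFormStructure id (QuadraticMap.polar (quadFormOdd m F)) f₁ f₂ e P ∧
      X = tensorProductSubgroup n₁ n₂ e P) ∨
  (∃ (F₀ : Subfield F) (r : ℕ) (P : GL (Unit ⊕ (Fin m ⊕ Fin m)) F), r.Prime ∧ Fintype.card F = Nat.card F₀ ^ r ∧
      IsQuadFormRationalStructure (quadFormOdd m F) F₀ P ∧ X = subfieldSubgroup F₀ P) ∨
  (∃ (k t : ℕ) (e : (Unit ⊕ (Fin m ⊕ Fin m)) ≃ (Fin t → Fin k)) (P : GL (Unit ⊕ (Fin m ⊕ Fin m)) F)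
      (f₁ : (Fin k → F) → (Fin k → F) → F), 3 ≤ k ∧ 2 ≤ t ∧ ¬ (Fintype.card F = 3 ∧ k = 3) ∧ IsSymmetricForm f₁ ∧
      IsTensorPowerFormStructure id (QuadraticMap.polar (quadFormOdd m F)) f₁ e P ∧
      X = tensorWreathSubgroup k t e P)

/-- the conclusion of the refined theorem -/
def ConclO (m : ℕ) (F : Type*) [Field F] [Fintype F] (H : Subgroup (GL (Unit ⊕ (Fin m ⊕ Fin m)) F)) : Prop :=
  (∃ X : Subgroup (GL (Unit ⊕ (Fin m ⊕ Fin m)) F), GoodO m F X ∧ H = X ⊓ omegaGL (quadFormOdd m F)) ∨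
    InOrthogonalResidualClass H

/-- the conclusion of Aschbacher's theorem for `Ω_{2m+1}` (S5673, helper18), used as a black box -/
def AschO (m : ℕ) (F : Type*) [Field F] [Fintype F] (H : Subgroup (GL (Unit ⊕ (Fin m ⊕ Fin m)) F)) : Prop :=
  (∃ M : Subgroup (GL (Unit ⊕ (Fin m ⊕ Fin m)) F), InOrthogonalOddClass m F M ∧ H ≤ M) ∨
    InOrthogonalResidualClass H

/-- the statement of S5673 for the pair `(m, F)` -/
def AschOStmt (m : ℕ) (F : Type*) [Field F] [Fintype F] : Prop :=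
  ∀ H : Subgroup (GL (Unit ⊕ (Fin m ⊕ Fin m)) F), H ≤ omegaGL (quadFormOdd m F) →
    H ⊔ (scalars (Unit ⊕ (Fin m ⊕ Fin m)) F ⊓ omegaGL (quadFormOdd m F)) ≠ omegaGL (quadFormOdd m F) →
    AschO m F H

end Cfsg.Agent.Lib.Helper20.OmM
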