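import Mathlib
import Cfsg.Agent.Lib.Helper20.AschDefs
import Cfsg.Agent.Lib.Helper18.AschA89Defs
import Cfsg.Agent.Lib.Helper26.AschNL

/-!
S5630 (A89), leaf WR `mem_tensorWreathStandard_of_perm`: wreath recognition in standard coordinates.
-/

set_option autoImplicit false
set_option linter.unusedSectionVars false
set_option linter.unusedVariables false

namespace Cfsg.Agent.Lib.Helper20.AschLeaf
open Matrix Cfsg.Geo Cfsg.Agent.Lib.Helper20.Asch Cfsg.Agent.Lib.Helper18.AschA89
open scoped Kronecker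

variable {F : Type*} [Field F]

/-! ### factor permutations -/

lemma wr_fperm_mul (m t : ℕ) (σ τ : Equiv.Perm (Fin t)) :
    fperm (F := F) m t σ * fperm m t τ = fperm m t (σ * τ) := by
  ext x z
  rw [Matrix.mul_apply]
  simp only [fperm_apply]
  rw [Finset.sum_eq_single (x ∘ σ)]
  · simp only [if_true, one_mul]
    congr 1
  · intro y _ hy
    rw [if_neg hy, zero_mul]
  · intro h
    exact absurd (Finset.mem_univ _) h

lemma wr_fperm_one (m t : ℕ) : fperm (F := F) m t 1 = 1 := by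
  ext x y
  rw [fperm_apply, Matrix.one_apply]
  have : (y = x ∘ ((1 : Equiv.Perm (Fin t)) : Fin t → Fin t)) ↔ x = y := by
    constructor
    · rintro rfl; rfl
    · rintro rfl; rfl
  simp only [this]

lemma wr_fperm_mul_inv (m t : ℕ) (σ : Equiv.Perm (Fin t)) :
    fperm (F := F) m t σ * fperm m t σ⁻¹ = 1 := by
  rw [wr_fperm_mul, mul_inv_cancel, wr_fperm_one]

lemma wr_fperm_inv_mul (m t : ℕ) (σ : Equiv.Perm (Fin t)) :
    fperm (F := F) m t σ⁻¹ * fperm m t σ = 1 := by
  rw [wr_fperm_mul, inv_mul_cancel, wr_fperm_one]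

lemma wr_fperm_mul_apply (m t : ℕ) (σ : Equiv.Perm (Fin t))
    (M : Matrix (Fin t → Fin m) (Fin t → Fin m) F) (x z : Fin t → Fin m) :
    (fperm (F := F) m t σ * M) x z = M (x ∘ σ) z := by
  rw [Matrix.mul_apply]
  simp only [fperm_apply]
  rw [Finset.sum_eq_single (x ∘ σ)]
  · simp
  · intro y _ hy
    rw [if_neg hy, zero_mul]
  · intro h
    exact absurd (Finset.mem_univ _) h

lemma wr_mul_fperm_apply (m t : ℕ) (σ : Equiv.Perm (Fin t))
    (M : Matrix (Fin t → Fin m) (Fin t → Fin m) F) (x z : Fin t → Fin m) :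
    (M * fperm (F := F) m t σ⁻¹) x z = M x (z ∘ σ) := by
  rw [Matrix.mul_apply]
  simp only [fperm_apply]
  rw [Finset.sum_eq_single (z ∘ σ)]
  · have : z = (z ∘ σ) ∘ ((σ⁻¹ : Equiv.Perm (Fin t)) : Fin t → Fin t) := by
      funext j
      simp
    rw [if_pos this, mul_one]
  · intro y _ hy
    have : ¬ z = y ∘ ((σ⁻¹ : Equiv.Perm (Fin t)) : Fin t → Fin t) := by
      intro h
      apply hy
      rw [h]
      funext j
      simp
    rw [if_neg this, mul_zero]
  · intro h
    exact absurd (Finset.mem_univ _) h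

/-- conjugation by a factor permutation moves the slots -/
lemma wr_fperm_conj_slot (m t : ℕ) (σ : Equiv.Perm (Fin t)) (i : Fin t)
    (A : Matrix (Fin m) (Fin m) F) :
    fperm (F := F) m t σ * slot m t i A * fperm m t σ⁻¹ = slot m t (σ i) A := by
  ext x z
  rw [wr_mul_fperm_apply, wr_fperm_mul_apply, slot_apply, slot_apply]
  have : (∀ j, j ≠ i → (x ∘ σ) j = (z ∘ σ) j) ↔ (∀ j, j ≠ σ i → x j = z j) := by
    constructor
    · intro h j hj
      have := h (σ⁻¹ j) (by
        intro hji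
        apply hj
        rw [← hji]
        simp)
      simpa using this
    · intro h j hj
      exact h (σ j) (by
        intro hji
        exact hj (σ.injective hji))
  simp only [Function.comp_apply] at this ⊢
  simp only [this]

/-! ### splitting off the first factor -/

/-- `(Fin (t+1) → Fin m) ≃ Fin m × (Fin t → Fin m)` -/
def wrSplit (m t : ℕ) : (Fin (t + 1) → Fin m) ≃ Fin m × (Fin t → Fin m) where
  toFun x := (x 0, fun j => x j.succ)
  invFun p := Fin.cons p.1 p.2
  left_inv x := by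
    funext i
    refine Fin.cases ?_ (fun j => ?_) i
    · simp
    · simp
  right_inv p := by
    ext
    · simp
    · simp

lemma wrSplit_symm_apply (m t : ℕ) (a : Fin m) (u : Fin t → Fin m) :
    (wrSplit m t).symm (a, u) = (Fin.cons a u : Fin (t + 1) → Fin m) := rfl

lemma wr_reindex_slot_zero (m t : ℕ) (A : Matrix (Fin m) (Fin m) F) :
    Matrix.reindex (wrSplit m t) (wrSplit m t) (slot m (t + 1) 0 A) =
      A ⊗ₖ (1 : Matrix (Fin t → Fin m) (Fin t → Fin m) F) := by
  ext ⟨a, u⟩ ⟨b, w⟩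
  rw [Matrix.reindex_apply, Matrix.submatrix_apply, wrSplit_symm_apply, wrSplit_symm_apply,
    slot_apply, Matrix.kroneckerMap_apply, Matrix.one_apply]
  have : (∀ j : Fin (t + 1), j ≠ 0 → (Fin.cons a u : Fin (t + 1) → Fin m) j =
      (Fin.cons b w : Fin (t + 1) → Fin m) j) ↔ u = w := by
    constructor
    · intro h
      funext k
      have := h k.succ (Fin.succ_ne_zero k)
      simpa using this
    · rintro rfl j hj
      obtain ⟨k, rfl⟩ := Fin.exists_succ_eq.mpr hj
      simp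
  simp only [this, Fin.cons_zero]
  split_ifs <;> simp

lemma wr_reindex_slot_succ (m t : ℕ) (j : Fin t) (A : Matrix (Fin m) (Fin m) F) :
    Matrix.reindex (wrSplit m t) (wrSplit m t) (slot m (t + 1) j.succ A) =
      (1 : Matrix (Fin m) (Fin m) F) ⊗ₖ slot m t j A := by
  ext ⟨a, u⟩ ⟨b, w⟩
  rw [Matrix.reindex_apply, Matrix.submatrix_apply, wrSplit_symm_apply, wrSplit_symm_apply,
    slot_apply, Matrix.kroneckerMap_apply, Matrix.one_apply, slot_apply]
  have : (∀ i : Fin (t + 1), i ≠ j.succ → (Fin.cons a u : Fin (t + 1) → Fin m) i =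
      (Fin.cons b w : Fin (t + 1) → Fin m) i) ↔ (a = b ∧ ∀ i, i ≠ j → u i = w i) := by
    constructor
    · intro h
      refine ⟨?_, ?_⟩
      · have := h 0 (Fin.succ_ne_zero j).symm
        simpa using this
      · intro i hi
        have := h i.succ (fun hh => hi (Fin.succ_injective _ hh))
        simpa using this
    · rintro ⟨rfl, h⟩ i hi
      refine Fin.cases ?_ (fun k hk => ?_) i hi
      · intro _; simp
      · simp only [Fin.cons_succ]
        exact h k (fun hh => hk (by rw [hh]))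
  simp only [this, Fin.cons_succ]
  by_cases hab : a = b
  · simp [hab]
  · simp [hab]

lemma wr_reindex_ptens_cons (m t : ℕ) (a : Matrix (Fin m) (Fin m) F)
    (gs : Fin t → Matrix (Fin m) (Fin m) F) :
    Matrix.reindex (wrSplit m t) (wrSplit m t)
      (ptens m (t + 1) (Fin.cons a gs : Fin (t + 1) → Matrix (Fin m) (Fin m) F)) =
      a ⊗ₖ ptens m t gs := by
  ext ⟨x0, u⟩ ⟨y0, w⟩
  rw [Matrix.reindex_apply, Matrix.submatrix_apply, wrSplit_symm_apply, wrSplit_symm_apply,
    ptens_apply, Matrix.kroneckerMap_apply, ptens_apply, Fin.prod_univ_succ]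
  simp

/-- `B ↦ 1 ⊗ B` is injective -/
lemma wr_one_kron_inj {ι κ : Type*} [Fintype ι] [DecidableEq ι] [Fintype κ] [DecidableEq κ]
    [Nonempty ι] {A B : Matrix κ κ F}
    (h : (1 : Matrix ι ι F) ⊗ₖ A = (1 : Matrix ι ι F) ⊗ₖ B) : A = B := by
  obtain ⟨u⟩ := ‹Nonempty ι›
  ext i j
  have := congrFun (congrFun h (u, i)) (u, j)
  simpa [Matrix.kroneckerMap_apply] using this

/-- a matrix normalising every slot algebra is a non-zero scalar multiple of a pure tensor of invertible matrices -/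
lemma wr_pure_of_normalizes (m : ℕ) (hm : 0 < m) : ∀ (t : ℕ)
    (G Gi : Matrix (Fin t → Fin m) (Fin t → Fin m) F), G * Gi = 1 → Gi * G = 1 →
    (∀ i, ∀ A : Matrix (Fin m) (Fin m) F, ∃ A' : Matrix (Fin m) (Fin m) F,
      G * slot m t i A * Gi = slot m t i A') →
    ∃ (c : F) (gs : Fin t → Matrix (Fin m) (Fin m) F), c ≠ 0 ∧ (∀ i, IsUnit (gs i).det) ∧
      G = c • ptens m t gs := by
  have : Nonempty (Fin m) := ⟨⟨0, hm⟩⟩
  intro t
  induction t with
  | zero =>
    intro G Gi h1 h2 _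
    let x₀ : Fin 0 → Fin m := fun i => i.elim0
    refine ⟨G x₀ x₀, fun i => i.elim0, ?_, fun i => i.elim0, ?_⟩
    · intro h0
      have := congrFun (congrFun h1 x₀) x₀
      rw [Matrix.mul_apply, Fintype.sum_unique, Matrix.one_apply_eq] at this
      have hd : (default : Fin 0 → Fin m) = x₀ := Subsingleton.elim _ _
      rw [hd, h0, zero_mul] at this
      exact zero_ne_one this
    · ext x y
      have hx : x = x₀ := Subsingleton.elim _ _
      have hy : y = x₀ := Subsingleton.elim _ _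
      rw [Matrix.smul_apply, ptens_apply, hx, hy]
      simp
  | succ t ih =>
    intro G Gi h1 h2 hG
    set ε := wrSplit m t with hε
    set G' := Matrix.reindex ε ε G with hG'
    set Gi' := Matrix.reindex ε ε Gi with hGi'
    have hre_mul : ∀ M M' : Matrix (Fin (t + 1) → Fin m) (Fin (t + 1) → Fin m) F,
        Matrix.reindex ε ε (M * M') = Matrix.reindex ε ε M * Matrix.reindex ε ε M' := by
      intro M M'
      simp only [Matrix.reindex_apply]
      rw [Matrix.submatrix_mul_equiv]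
    have hre_one : Matrix.reindex ε ε (1 : Matrix (Fin (t + 1) → Fin m) (Fin (t + 1) → Fin m) F) = 1 := by
      simp only [Matrix.reindex_apply]
      rw [Matrix.submatrix_one_equiv]
    have h1' : G' * Gi' = 1 := by rw [hG', hGi', ← hre_mul, h1, hre_one]
    have h2' : Gi' * G' = 1 := by rw [hG', hGi', ← hre_mul, h2, hre_one]
    have hG0 : ∀ A : Matrix (Fin m) (Fin m) F, ∃ A' : Matrix (Fin m) (Fin m) F,
        G' * (A ⊗ₖ (1 : Matrix (Fin t → Fin m) (Fin t → Fin m) F)) * Gi' =
          A' ⊗ₖ (1 : Matrix (Fin t → Fin m) (Fin t → Fin m) F) := by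
      intro A
      obtain ⟨A', hA'⟩ := hG 0 A
      refine ⟨A', ?_⟩
      rw [← wr_reindex_slot_zero, ← wr_reindex_slot_zero, hG', hGi', ← hre_mul, ← hre_mul, hA']
    obtain ⟨a, b, ha, hb, hab⟩ :=
      Cfsg.Agent.Lib.Helper26.AschLeaf.kron_of_normalizes G' Gi' h1' h2' hG0
    have haa : a * a⁻¹ = 1 := Matrix.mul_nonsing_inv a ha
    have hbb : b * b⁻¹ = 1 := Matrix.mul_nonsing_inv b hb
    have hbb' : b⁻¹ * b = 1 := Matrix.nonsing_inv_mul b hb
    have hGi'eq : Gi' = a⁻¹ ⊗ₖ b⁻¹ := by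
      have h3 : G' * (a⁻¹ ⊗ₖ b⁻¹) = 1 := by
        rw [hab, ← Matrix.mul_kronecker_mul, haa, hbb, Matrix.one_kronecker_one]
      calc Gi' = Gi' * (G' * (a⁻¹ ⊗ₖ b⁻¹)) := by rw [h3, mul_one]
        _ = (Gi' * G') * (a⁻¹ ⊗ₖ b⁻¹) := by rw [mul_assoc]
        _ = a⁻¹ ⊗ₖ b⁻¹ := by rw [h2', one_mul]
    have hb_norm : ∀ j : Fin t, ∀ A : Matrix (Fin m) (Fin m) F, ∃ A' : Matrix (Fin m) (Fin m) F,
        b * slot m t j A * b⁻¹ = slot m t j A' := by
      intro j A
      obtain ⟨A', hA'⟩ := hG j.succ A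
      refine ⟨A', ?_⟩
      have h4 := congrArg (Matrix.reindex ε ε) hA'
      rw [hre_mul, hre_mul, wr_reindex_slot_succ, wr_reindex_slot_succ, ← hG', ← hGi', hab, hGi'eq,
        ← Matrix.mul_kronecker_mul, ← Matrix.mul_kronecker_mul, mul_one, haa] at h4
      exact wr_one_kron_inj h4
    obtain ⟨c, gs, hc, hgs, hbeq⟩ := ih b b⁻¹ hbb hbb' hb_norm
    refine ⟨c, Fin.cons a gs, hc, ?_, ?_⟩
    · intro i
      refine Fin.cases ?_ (fun j => ?_) i
      · simpa using ha
      · simpa using hgs j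
    · apply (Matrix.reindex ε ε).injective
      have hsm : Matrix.reindex ε ε (c • ptens m (t + 1)
          (Fin.cons a gs : Fin (t + 1) → Matrix (Fin m) (Fin m) F)) =
          c • Matrix.reindex ε ε (ptens m (t + 1)
          (Fin.cons a gs : Fin (t + 1) → Matrix (Fin m) (Fin m) F)) := by
        simp only [Matrix.reindex_apply]
        rfl
      rw [hsm, wr_reindex_ptens_cons, ← hG', hab, hbeq, Matrix.kronecker_smul]

/-- the factor permutation as an element of `GL` -/
def wrFpermGL (m t : ℕ) (σ : Equiv.Perm (Fin t)) : GL (Fin t → Fin m) F :=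
  ⟨fperm m t σ, fperm m t σ⁻¹, wr_fperm_mul_inv m t σ, wr_fperm_inv_mul m t σ⟩

/-- WR -/
theorem mem_tensorWreathStandard_of_perm {m t : ℕ} (ht : 0 < t) (g : GL (Fin t → Fin m) F)
    (σ : Equiv.Perm (Fin t))
    (hg : ∀ i, ∀ A : Matrix (Fin m) (Fin m) F, ∃ A' : Matrix (Fin m) (Fin m) F,
      (g : Matrix (Fin t → Fin m) (Fin t → Fin m) F) * slot m t i A *
        ((g⁻¹ : GL (Fin t → Fin m) F) : Matrix (Fin t → Fin m) (Fin t → Fin m) F) = slot m t (σ i) A') :
    g ∈ tensorWreathStandard m t F := by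
  rcases Nat.eq_zero_or_pos m with hm | hm
  · subst hm
    have : IsEmpty (Fin t → Fin 0) := ⟨fun x => (x ⟨0, ht⟩).elim0⟩
    have : g = 1 := Units.ext (Subsingleton.elim _ _)
    rw [this]
    exact Subgroup.one_mem _
  set p : GL (Fin t → Fin m) F := wrFpermGL m t σ with hp
  have hpmem : p ∈ tensorWreathStandard m t F :=
    Subgroup.subset_closure (Or.inr ⟨σ, fun x y => rfl⟩)
  set q : GL (Fin t → Fin m) F := p⁻¹ * g with hq
  have hqval : (q : Matrix (Fin t → Fin m) (Fin t → Fin m) F) =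
      fperm m t σ⁻¹ * (g : Matrix (Fin t → Fin m) (Fin t → Fin m) F) := rfl
  have hqival : ((q⁻¹ : GL (Fin t → Fin m) F) : Matrix (Fin t → Fin m) (Fin t → Fin m) F) =
      ((g⁻¹ : GL (Fin t → Fin m) F) : Matrix (Fin t → Fin m) (Fin t → Fin m) F) * fperm m t σ := by
    rw [hq, _root_.mul_inv_rev, inv_inv, Units.val_mul]
    rfl
  have h1 : (q : Matrix (Fin t → Fin m) (Fin t → Fin m) F) *
      ((q⁻¹ : GL (Fin t → Fin m) F) : Matrix (Fin t → Fin m) (Fin t → Fin m) F) = 1 := by
    rw [← Units.val_mul, mul_inv_cancel, Units.val_one]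
  have h2 : ((q⁻¹ : GL (Fin t → Fin m) F) : Matrix (Fin t → Fin m) (Fin t → Fin m) F) *
      (q : Matrix (Fin t → Fin m) (Fin t → Fin m) F) = 1 := by
    rw [← Units.val_mul, inv_mul_cancel, Units.val_one]
  have hnorm : ∀ i, ∀ A : Matrix (Fin m) (Fin m) F, ∃ A' : Matrix (Fin m) (Fin m) F,
      (q : Matrix (Fin t → Fin m) (Fin t → Fin m) F) * slot m t i A *
        ((q⁻¹ : GL (Fin t → Fin m) F) : Matrix (Fin t → Fin m) (Fin t → Fin m) F) =
        slot m t i A' := by
    intro i A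
    obtain ⟨A', hA'⟩ := hg i A
    refine ⟨A', ?_⟩
    rw [hqval, hqival]
    have h3 := wr_fperm_conj_slot (F := F) m t σ⁻¹ (σ i) A'
    have h5 : (σ⁻¹ : Equiv.Perm (Fin t)) (σ i) = i := by simp
    rw [inv_inv, h5] at h3
    rw [← h3, ← hA']
    simp only [mul_assoc]
  obtain ⟨c, gs, hc, hgs, hG⟩ := wr_pure_of_normalizes m hm t _ _ h1 h2 hnorm
  -- absorb the scalar into the slot `i₀`
  let i₀ : Fin t := ⟨0, ht⟩
  let gs' : Fin t → Matrix (Fin m) (Fin m) F := fun i => (if i = i₀ then c else 1) • gs i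
  have hgs' : ∀ i, IsUnit (gs' i).det := by
    intro i
    simp only [gs']
    rw [Matrix.det_smul]
    refine IsUnit.mul (IsUnit.pow _ ?_) (hgs i)
    split_ifs
    · exact isUnit_iff_ne_zero.mpr hc
    · exact isUnit_one
  have hqpure : IsPureTensor m t q := by
    refine ⟨fun i => Matrix.GeneralLinearGroup.mk'' (gs' i) (hgs' i), ?_⟩
    intro x y
    rw [hG, Matrix.smul_apply, ptens_apply]
    have : ∀ i, ((Matrix.GeneralLinearGroup.mk'' (gs' i) (hgs' i) : GL (Fin m) F) :
        Matrix (Fin m) (Fin m) F) (x i) (y i) = (if i = i₀ then c else 1) * gs i (x i) (y i) := by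
      intro i
      rfl
    simp only [this]
    rw [Finset.prod_mul_distrib, Finset.prod_ite_eq' Finset.univ i₀ (fun _ => c)]
    simp
  have hqmem : q ∈ tensorWreathStandard m t F := Subgroup.subset_closure (Or.inl hqpure)
  have : g = p * q := by rw [hq, mul_inv_cancel_left]
  rw [this]
  exact Subgroup.mul_mem _ hpmem hqmem

end Cfsg.Agent.Lib.Helper20.AschLeaf
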