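import Mathlib
import Cfsg.Prelude.Def_GeometricClasses
import Cfsg.Prelude.Def_Classical
import Cfsg.Agent.Lib.Helper25.TensDefs
import Cfsg.Agent.Lib.Helper25.TensQ
import Cfsg.Agent.Lib.Helper5.HermBridge

/-!
S5670 (`SU_a ⊗ SU_b` is maximal in `SU_ab(q)`, `2 ≤ a < b`): the model and the shared definitions.

Model: `V = F^(Fin a × Fin b)` (`|F| = q²`), pure tensors `pt x y` (helper25 `Tens`), all three
hermitian forms are the standard ones `hv q x y = Σ x_i y_i^q` (on `Fin a`, `Fin b`, `Fin a × Fin b`);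
`hv q (pt x y) (pt x' y') = hv q x x' * hv q y y'`.  `GS a b q F` = isometries of determinant one,
`kB`, `kA` = the unitary transvections `1 ⊗ t_y(c)`, `t_x(c) ⊗ 1` of the tensor subgroup,
`SsetI q M` = centres of the full transvection root groups contained in `M`.
-/

set_option autoImplicit false
set_option linter.unusedSectionVars false
set_option linter.unusedVariables false

namespace Cfsg.Agent.Lib.Helper20.UT
open Matrix
open Cfsg.Agent.Lib.Helper25.Tens Cfsg.Agent.Lib.Helper25.TensLeaf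
open scoped Kronecker

variable {F : Type*} [Field F]

/-- the action on column vectors -/
def mv {ι : Type} [Fintype ι] [DecidableEq ι] (g : GL ι F) (v : ι → F) : ι → F :=
  (g : Matrix ι ι F) *ᵥ v

/-- the standard hermitian form `Σ x_i y_i^q` -/
def hv {κ : Type} [Fintype κ] (q : ℕ) (x y : κ → F) : F := ∑ i, x i * (y i) ^ q

/-- coordinatewise `q`-th power -/
def cj {κ : Type} (q : ℕ) (y : κ → F) : κ → F := fun i => (y i) ^ q

/-- contraction of the `A`-index with `ξ` -/
def ctA {a b : ℕ} (ξ : Fin a → F) (w : Idx a b → F) : Fin b → F := fun l => ∑ i, w (i, l) * ξ i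

section basic
variable {ι : Type} [Fintype ι] [DecidableEq ι]

@[simp] lemma mv_one (v : ι → F) : mv (1 : GL ι F) v = v := by
  simp [mv]

lemma mv_mul (g h : GL ι F) (v : ι → F) : mv (g * h) v = mv g (mv h v) := by
  simp [mv, Matrix.mulVec_mulVec]

@[simp] lemma mv_inv_mv (g : GL ι F) (v : ι → F) : mv g⁻¹ (mv g v) = v := by
  rw [← mv_mul, inv_mul_cancel, mv_one]

@[simp] lemma mv_mv_inv (g : GL ι F) (v : ι → F) : mv g (mv g⁻¹ v) = v := by
  rw [← mv_mul, mul_inv_cancel, mv_one]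

lemma mv_add (g : GL ι F) (v w : ι → F) : mv g (v + w) = mv g v + mv g w := by
  simp [mv, Matrix.mulVec_add]

lemma mv_sub (g : GL ι F) (v w : ι → F) : mv g (v - w) = mv g v - mv g w := by
  simp [mv, Matrix.mulVec_sub]

lemma mv_smul (g : GL ι F) (c : F) (v : ι → F) : mv g (c • v) = c • mv g v := by
  simp [mv, Matrix.mulVec_smul]

@[simp] lemma mv_zero (g : GL ι F) : mv g (0 : ι → F) = 0 := by
  simp [mv]

lemma mv_neg (g : GL ι F) (v : ι → F) : mv g (-v) = - mv g v := by
  simp [mv, Matrix.mulVec_neg]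

lemma mv_injective (g : GL ι F) : Function.Injective (mv g) := by
  intro v w h
  have := congrArg (mv g⁻¹) h
  simpa using this

lemma mv_eq_zero_iff (g : GL ι F) (v : ι → F) : mv g v = 0 ↔ v = 0 := by
  constructor
  · intro h
    apply mv_injective g
    rw [h, mv_zero]
  · rintro rfl; exact mv_zero g

/-- two units with the same action are equal -/
lemma ext_mv {g h : GL ι F} (H : ∀ v, mv g v = mv h v) : g = h := by
  apply Units.ext
  apply Matrix.toLin'.injective
  apply LinearMap.ext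
  intro v
  simpa [mv, Matrix.toLin'_apply] using H v

end basic

section form
variable {κ : Type} [Fintype κ] (q : ℕ)

lemma hv_add_left (x x' y : κ → F) : hv q (x + x') y = hv q x y + hv q x' y := by
  simp only [hv, Pi.add_apply, add_mul, Finset.sum_add_distrib]

lemma hv_smul_left (c : F) (x y : κ → F) : hv q (c • x) y = c * hv q x y := by
  simp only [hv, Pi.smul_apply, smul_eq_mul, Finset.mul_sum, mul_assoc]

lemma hv_neg_left (x y : κ → F) : hv q (-x) y = - hv q x y := by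
  simp only [hv, Pi.neg_apply, neg_mul, Finset.sum_neg_distrib]

lemma hv_sub_left (x x' y : κ → F) : hv q (x - x') y = hv q x y - hv q x' y := by
  simp only [hv, Pi.sub_apply, sub_mul, Finset.sum_sub_distrib]

@[simp] lemma hv_zero_left (y : κ → F) : hv q (0 : κ → F) y = 0 := by
  simp [hv]

lemma hv_smul_right (c : F) (x y : κ → F) : hv q x (c • y) = c ^ q * hv q x y := by
  simp only [hv, Pi.smul_apply, smul_eq_mul, mul_pow, Finset.mul_sum]
  apply Finset.sum_congr rfl; intro i _; ring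

lemma hv_eq_dot (x y : κ → F) : hv q x y = cj q y ⬝ᵥ x := by
  simp only [hv, cj, dotProduct]
  apply Finset.sum_congr rfl; intro i _; ring

lemma hv_eq_hermForm {n : ℕ} (x y : Fin n → F) : hv q x y = Cfsg.hermForm n F q x y := rfl

end form

section fin
variable [Fintype F] {q : ℕ}
open Cfsg.Agent.Lib.Helper5.HermBridge

/-- on `Fin n` the form `hv q` is a unitary form in the sense of the prelude -/
lemma hv_unitary {n : ℕ} (hF : Fintype.card F = q ^ 2) :
    Cfsg.Geo.IsUnitaryForm (frobQ hF) (hv q : (Fin n → F) → (Fin n → F) → F) :=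
  herm_unitary hF

lemma pow_q_pow_q' (hF : Fintype.card F = q ^ 2) (x : F) : (x ^ q) ^ q = x :=
  pow_q_pow_q hF x

lemma add_pow_q (hF : Fintype.card F = q ^ 2) (x y : F) : (x + y) ^ q = x ^ q + y ^ q :=
  map_add (frobQ hF) x y

lemma neg_pow_q (hF : Fintype.card F = q ^ 2) (x : F) : (-x) ^ q = - x ^ q :=
  map_neg (frobQ hF) x

lemma sum_pow_q {κ : Type} (hF : Fintype.card F = q ^ 2) (s : Finset κ) (f : κ → F) :
    (∑ i ∈ s, f i) ^ q = ∑ i ∈ s, (f i) ^ q :=
  map_sum (frobQ hF) f s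

variable {κ : Type} [Fintype κ]

lemma hv_add_right (hF : Fintype.card F = q ^ 2) (x y y' : κ → F) :
    hv q x (y + y') = hv q x y + hv q x y' := by
  simp only [hv, Pi.add_apply, add_pow_q hF, mul_add, Finset.sum_add_distrib]

lemma hv_neg_right (hF : Fintype.card F = q ^ 2) (x y : κ → F) :
    hv q x (-y) = - hv q x y := by
  simp only [hv, Pi.neg_apply, neg_pow_q hF, mul_neg, Finset.sum_neg_distrib]

lemma hv_sub_right (hF : Fintype.card F = q ^ 2) (x y y' : κ → F) :
    hv q x (y - y') = hv q x y - hv q x y' := by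
  rw [sub_eq_add_neg, hv_add_right hF, hv_neg_right hF, sub_eq_add_neg]

@[simp] lemma hv_zero_right (hF : Fintype.card F = q ^ 2) (x : κ → F) :
    hv q x (0 : κ → F) = 0 := by
  have h := hv_add_right hF x (0 : κ → F) 0
  rw [add_zero] at h
  exact left_eq_add.mp h

/-- hermitian symmetry -/
lemma hv_conj (hF : Fintype.card F = q ^ 2) (x y : κ → F) : (hv q x y) ^ q = hv q y x := by
  simp only [hv]
  rw [sum_pow_q hF]
  apply Finset.sum_congr rfl
  intro i _
  rw [mul_pow, pow_q_pow_q' hF, mul_comm]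

lemma hv_self_pow (hF : Fintype.card F = q ^ 2) (x : κ → F) : (hv q x x) ^ q = hv q x x :=
  hv_conj hF x x

lemma hv_symm_zero (hF : Fintype.card F = q ^ 2) {x y : κ → F} (h : hv q x y = 0) :
    hv q y x = 0 := by
  have hq : q ≠ 0 := by
    rintro rfl
    have : 2 ≤ Fintype.card F := Fintype.one_lt_card
    omega
  rw [← hv_conj hF, h, zero_pow hq]

end fin

section tensor
variable {a b : ℕ} (q : ℕ)

/-- the form on pure tensors -/
lemma hv_pt (x x' : Fin a → F) (y y' : Fin b → F) :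
    hv q (pt x y) (pt x' y') = hv q x x' * hv q y y' := by
  simp only [hv, pt, Fintype.sum_prod_type, mul_pow]
  rw [Finset.sum_mul_sum]
  apply Finset.sum_congr rfl; intro i _
  apply Finset.sum_congr rfl; intro l _
  ring

/-- `h(v, x ⊗ y) = h_A(c_y(v), x)` with `c_y` the contraction with `y^q` -/
lemma hv_pt_right (v : Idx a b → F) (x : Fin a → F) (y : Fin b → F) :
    hv q v (pt x y) = hv q (ct (cj q y) v) x := by
  simp only [hv, pt, ct, cj, Fintype.sum_prod_type, mul_pow, Finset.sum_mul]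
  apply Finset.sum_congr rfl; intro i _
  apply Finset.sum_congr rfl; intro l _
  ring

lemma hv_pt_right' (v : Idx a b → F) (x : Fin a → F) (y : Fin b → F) :
    hv q v (pt x y) = hv q (ctA (cj q x) v) y := by
  simp only [hv, pt, ctA, cj, Fintype.sum_prod_type, mul_pow, Finset.sum_mul]
  rw [Finset.sum_comm]
  apply Finset.sum_congr rfl; intro l _
  apply Finset.sum_congr rfl; intro i _
  ring

lemma ct_cj_pt (y z : Fin b → F) (x : Fin a → F) : ct (cj q y) (pt x z) = hv q z y • x := by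
  rw [ct_pt, ← hv_eq_dot]

lemma ctA_pt (ξ x : Fin a → F) (z : Fin b → F) : ctA ξ (pt x z) = (ξ ⬝ᵥ x) • z := by
  ext l
  simp only [ctA, pt, dotProduct, Pi.smul_apply, smul_eq_mul, Finset.sum_mul]
  apply Finset.sum_congr rfl; intro i _; ring

lemma ctA_cj_pt (x₀ x : Fin a → F) (z : Fin b → F) : ctA (cj q x₀) (pt x z) = hv q x x₀ • z := by
  rw [ctA_pt, ← hv_eq_dot]

lemma ctA_add (ξ : Fin a → F) (v w : Idx a b → F) : ctA ξ (v + w) = ctA ξ v + ctA ξ w := by
  ext l; simp only [ctA, Pi.add_apply, add_mul, Finset.sum_add_distrib]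

lemma ctA_smul (ξ : Fin a → F) (c : F) (v : Idx a b → F) : ctA ξ (c • v) = c • ctA ξ v := by
  ext l; simp only [ctA, Pi.smul_apply, smul_eq_mul, Finset.mul_sum, mul_assoc]

/-- the fibre `A ⊗ y` -/
def Fib (y : Fin b → F) : Submodule F (Idx a b → F) := LinearMap.range (ptL (a := a) y)

lemma mem_Fib {y : Fin b → F} {v : Idx a b → F} : v ∈ Fib (a := a) y ↔ ∃ x : Fin a → F, v = pt x y := by
  constructor
  · rintro ⟨x, rfl⟩; exact ⟨x, rfl⟩
  · rintro ⟨x, rfl⟩; exact ⟨x, rfl⟩

/-- the fibre `x ⊗ B` -/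
def FibA (x : Fin a → F) : Submodule F (Idx a b → F) := LinearMap.range (ptR (b := b) x)

lemma mem_FibA {x : Fin a → F} {v : Idx a b → F} : v ∈ FibA (b := b) x ↔ ∃ y : Fin b → F, v = pt x y := by
  constructor
  · rintro ⟨y, rfl⟩; exact ⟨y, rfl⟩
  · rintro ⟨y, rfl⟩; exact ⟨y, rfl⟩

end tensor

/-! ### groups -/

/-- the isometry group of `hv q` on `F^(Fin a × Fin b)` -/
def GUI (a b q : ℕ) (F : Type*) [Field F] : Subgroup (GL (Idx a b) F) :=
  Cfsg.preserving (Units.coeHom (Matrix (Idx a b) (Idx a b) F)) (hv q)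

/-- isometries of determinant one -/
def GS (a b q : ℕ) (F : Type*) [Field F] : Subgroup (GL (Idx a b) F) := GUI a b q F ⊓ SLG a b F

lemma mem_GUI {a b q : ℕ} {g : GL (Idx a b) F} :
    g ∈ GUI a b q F ↔ ∀ u v, hv q (mv g u) (mv g v) = hv q u v := Iff.rfl

/-- the unitary transvection `v ↦ v + c h(v,y) y` of an isotropic `y` -/
def tvU {n : ℕ} (q : ℕ) (y : Fin n → F) (c : F) (hy : hv q y y = 0) : GL (Fin n) F :=
  tv y (c • cj q y) (by rw [smul_dotProduct, ← hv_eq_dot, hy, smul_zero])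

lemma tvU_mulVec {n : ℕ} (q : ℕ) (y : Fin n → F) (c : F) (hy : hv q y y = 0) (v : Fin n → F) :
    mv (tvU q y c hy) v = v + (c * hv q v y) • y := by
  unfold mv tvU
  rw [tv_mulVec, smul_dotProduct, ← hv_eq_dot, smul_eq_mul]

/-- `1 ⊗ t_y(c)` -/
def kB {a b : ℕ} (q : ℕ) (y : Fin b → F) (c : F) (hy : hv q y y = 0) : GL (Idx a b) F :=
  kel (1 : GL (Fin a) F) (tvU q y c hy)

/-- `t_x(c) ⊗ 1` -/
def kA {a b : ℕ} (q : ℕ) (x : Fin a → F) (c : F) (hx : hv q x x = 0) : GL (Idx a b) F :=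
  kel (tvU q x c hx) (1 : GL (Fin b) F)

lemma kB_mem_KG {a b : ℕ} (q : ℕ) (y : Fin b → F) (c : F) (hy : hv q y y = 0) :
    (kB q y c hy : GL (Idx a b) F) ∈ KG a b F := kel_mem_KG _ _

lemma kA_mem_KG {a b : ℕ} (q : ℕ) (x : Fin a → F) (c : F) (hx : hv q x x = 0) :
    (kA q x c hx : GL (Idx a b) F) ∈ KG a b F := kel_mem_KG _ _

lemma mv_kB_pt {a b : ℕ} (q : ℕ) (y : Fin b → F) (c : F) (hy : hv q y y = 0) (x : Fin a → F)
    (z : Fin b → F) : mv (kB q y c hy : GL (Idx a b) F) (pt x z) = pt x (z + (c * hv q z y) • y) := by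
  have h := tvU_mulVec q y c hy z
  unfold mv at h ⊢
  unfold kB
  rw [kel_mulVec_pt, h]
  simp

lemma mv_kA_pt {a b : ℕ} (q : ℕ) (x₀ : Fin a → F) (c : F) (hx : hv q x₀ x₀ = 0) (x : Fin a → F)
    (z : Fin b → F) : mv (kA q x₀ c hx : GL (Idx a b) F) (pt x z) = pt (x + (c * hv q x x₀) • x₀) z := by
  have h := tvU_mulVec q x₀ c hx x
  unfold mv at h ⊢
  unfold kA
  rw [kel_mulVec_pt, h]
  simp

/-- `1 ⊗ t_y(c)` acts as `v ↦ v + c • pt (ct (cj q y) v) y` -/
lemma mv_kB {a b : ℕ} (q : ℕ) (y : Fin b → F) (c : F) (hy : hv q y y = 0) (v : Idx a b → F) :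
    mv (kB q y c hy : GL (Idx a b) F) v = v + c • pt (ct (cj q y) v) y := by
  unfold mv kB tvU
  rw [kel_one_tv_mulVec, ct_smul_left, pt_smul_left]

/-! ### contexts and interface predicates -/

/-- the numerical hypotheses of the model -/
structure Ctx (a b q : ℕ) (F : Type*) [Field F] [Fintype F] : Prop where
  hF : Fintype.card F = q ^ 2
  ha : 2 ≤ a
  hab : a < b
  hb : 4 ≤ b
  hn : 8 ≤ a * b
  hex : ¬ (a = 2 ∧ q = 2)

/-- the overgroup context `K ≤ M ≤ GS` -/
structure MCtx [Fintype F] (a b q : ℕ) (M : Subgroup (GL (Idx a b) F)) : Prop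
    extends Ctx a b q F where
  le : KG a b F ⊓ GS a b q F ≤ M
  le_G : M ≤ GS a b q F

/-- result of Stage I: some element of `M` outside `KG` maps an isotropic fibre `A ⊗ y` into an
isotropic fibre `A ⊗ y'` -/
def R1U {a b : ℕ} (q : ℕ) (M : Subgroup (GL (Idx a b) F)) : Prop :=
  ∃ h ∈ M, h ∉ KG a b F ∧ ∃ y y' : Fin b → F, y ≠ 0 ∧ y' ≠ 0 ∧ hv q y y = 0 ∧ hv q y' y' = 0 ∧
    ∀ x : Fin a → F, ∃ x' : Fin a → F, mv h (pt x y) = pt x' y'

/-- centres of the full unitary transvection root groups contained in `M` -/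
def SsetI {a b : ℕ} (q : ℕ) (M : Subgroup (GL (Idx a b) F)) : Set (Idx a b → F) :=
  {s | ∀ c : F, c ^ q = -c → ∀ g : GL (Idx a b) F,
    (∀ v, mv g v = v + (c * hv q v s) • s) → g ∈ M}

/-- result of Stage II: `M` contains the full transvection root group of a pure tensor `x ⊗ y`,
`y` isotropic -/
def T1U {a b : ℕ} (q : ℕ) (M : Subgroup (GL (Idx a b) F)) : Prop :=
  ∃ (x : Fin a → F) (y : Fin b → F), x ≠ 0 ∧ y ≠ 0 ∧ hv q y y = 0 ∧ pt x y ∈ SsetI q M

end Cfsg.Agent.Lib.Helper20.UT
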