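import Mathlib
import Cfsg.Agent.Lib.Helper5.TWS.Defs
import Cfsg.Agent.Lib.Helper19.TWGrow
import Cfsg.Agent.Lib.Helper12.TWTS

/-!
# S5668 Stage III (sub-planner helper19): the `S_t`-symmetry piece (helper20)

* `famS J y`, `nilS_eq_ptens : nilS J y = ptens k t (famS J y)`;
* `XTS_perm`: `XT_J` is transported along a factor permutation lying in `X`;
* `wrFpermGL_mem_GSV`, `wrFpermGL_mem_HS`: ALL factor permutations are isometries of the tensor power form `sfT`
  (no determinant condition), hence lie in `HS = Gstd ⊓ GSV`;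
* `XTS_of_card`: for `HS ≤ X`, `XT_J` only depends on `|J|`.
-/

set_option autoImplicit false
set_option linter.unusedSectionVars false
set_option linter.unusedVariables false

namespace Cfsg.Agent.Lib.Helper20.TWS3
open Matrix Cfsg.Geo Cfsg.Agent.Lib.Helper18.AschA89 Cfsg.Agent.Lib.Helper20.AschLeaf Cfsg.Agent.Lib.Helper8.TW
open Cfsg.Agent.Lib.Helper5.TWS
open Cfsg.Agent.Lib.Helper25.SpT (sf Jm sfv)

variable {F : Type*} [Field F] {t k : ℕ}

/-- the factor family of `nilS J y`: `y_j y_j†` for `j ∈ J`, `1` otherwise -/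
def famS (J : Finset (Fin t)) (y : Fin t → Fin k → F) : Fin t → Matrix (Fin k) (Fin k) F :=
  fun j => if j ∈ J then Matrix.vecMulVec (y j) (sfv (y j)) else 1

lemma famS_mem {J : Finset (Fin t)} (y : Fin t → Fin k → F) {j : Fin t} (hj : j ∈ J) :
    famS J y j = Matrix.vecMulVec (y j) (sfv (y j)) := by
  unfold famS; rw [if_pos hj]

lemma famS_not_mem {J : Finset (Fin t)} (y : Fin t → Fin k → F) {j : Fin t} (hj : j ∉ J) :
    famS J y j = 1 := by
  unfold famS; rw [if_neg hj]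

/-- `nilS J y` is the pure tensor of the family `famS J y` -/
theorem nilS_eq_ptens (J : Finset (Fin t)) (y : Fin t → Fin k → F) :
    nilS J y = ptens k t (famS J y) := by
  classical
  ext x x'
  rw [ptens_apply]
  unfold nilS
  have hsplit : ∏ i, famS J y i (x i) (x' i) =
      (∏ i ∈ J, famS J y i (x i) (x' i)) * ∏ i ∈ Jᶜ, famS J y i (x i) (x' i) :=
    (Finset.prod_mul_prod_compl J _).symm
  rw [hsplit]
  have h1 : ∏ i ∈ J, famS J y i (x i) (x' i) = ∏ j ∈ J, y j (x j) * sfv (y j) (x' j) := by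
    apply Finset.prod_congr rfl
    intro i hi
    rw [famS_mem y hi, Matrix.vecMulVec_apply]
  have h2 : ∏ i ∈ Jᶜ, famS J y i (x i) (x' i) = if ∀ j, j ∉ J → x j = x' j then 1 else 0 := by
    have e : ∀ i ∈ Jᶜ, famS J y i (x i) (x' i) = if x i = x' i then 1 else 0 := by
      intro i hi
      rw [famS_not_mem y (Finset.mem_compl.1 hi), Matrix.one_apply]
    rw [Finset.prod_congr rfl e, Finset.prod_ite_zero]
    simp only [Finset.prod_const_one, Finset.mem_compl]
  rw [h1, h2]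
  split_ifs <;> simp

/-- the factor family of `nilS` transported along a permutation of the positions -/
lemma famS_perm (σ : Equiv.Perm (Fin t)) (J : Finset (Fin t)) (y : Fin t → Fin k → F) :
    (fun j => famS J y (σ⁻¹ j)) = famS (J.map σ.toEmbedding) (fun j => y (σ⁻¹ j)) := by
  funext j
  unfold famS
  have : j ∈ J.map σ.toEmbedding ↔ σ⁻¹ j ∈ J := by
    rw [Finset.mem_map_equiv]
    rfl
  by_cases hj : σ⁻¹ j ∈ J
  · rw [if_pos hj, if_pos (this.2 hj)]
  · rw [if_neg hj, if_neg (fun h => hj (this.1 h))]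

/-- conjugation of `nilS` by a factor permutation -/
theorem fperm_conj_nilS (σ : Equiv.Perm (Fin t)) (J : Finset (Fin t)) (y : Fin t → Fin k → F) :
    fperm (F := F) k t σ * nilS J y * fperm k t σ⁻¹ = nilS (J.map σ.toEmbedding) (fun j => y (σ⁻¹ j)) := by
  rw [nilS_eq_ptens, nilS_eq_ptens, Cfsg.Agent.Lib.Helper19.TWGrow.fperm_conj_ptens, famS_perm]

/-- `XT_J` is transported along a factor permutation lying in `X` -/
theorem XTS_perm (X : Subgroup (GL (Idx t k) F)) (σ : Equiv.Perm (Fin t)) (hσ : wrFpermGL (F := F) k t σ ∈ X)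
    (J : Finset (Fin t)) (h : XTS X J) : XTS X (J.map σ.toEmbedding) := by
  intro y c hy
  have hcond : ∀ j ∈ J, (fun j => y (σ j)) j ≠ 0 := by
    intro j hj
    exact hy (σ j) (Finset.mem_map_of_mem _ hj)
  obtain ⟨u, hu, huv⟩ := h (fun j => y (σ j)) c hcond
  refine ⟨wrFpermGL k t σ * u * (wrFpermGL k t σ)⁻¹, X.mul_mem (X.mul_mem hσ hu) (X.inv_mem hσ), ?_⟩
  have e1 : ((wrFpermGL (F := F) k t σ * u * (wrFpermGL k t σ)⁻¹ : GL (Idx t k) F) :
      Matrix (Idx t k) (Idx t k) F) =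
      fperm k t σ * (u : Matrix (Idx t k) (Idx t k) F) * fperm k t σ⁻¹ := rfl
  rw [e1, huv, mul_add, add_mul, mul_one, wr_fperm_mul_inv, Matrix.mul_smul, Matrix.smul_mul, fperm_conj_nilS]
  have ea : (fun j => (fun j => y (σ j)) (σ⁻¹ j)) = y := by
    funext j
    simp
  rw [ea]

/-- the Gram matrix `JT` is invariant under simultaneous permutation of the positions -/
lemma JT_comp (σ : Equiv.Perm (Fin t)) (a b : Idx t k) :
    JT t k F (a ∘ σ) (b ∘ σ) = JT t k F a b := by
  rw [JT_apply, JT_apply]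
  exact Equiv.prod_comp σ (fun i => (Jm k : Matrix (Fin k) (Fin k) F) (a i) (b i))

/-- ALL factor permutations are isometries of the tensor power form -/
theorem wrFpermGL_mem_GSV (σ : Equiv.Perm (Fin t)) : wrFpermGL (F := F) k t σ ∈ GSV t k F := by
  rw [mem_GSV]
  intro u v
  have hu : mv (wrFpermGL (F := F) k t σ) u = fun x => u (x ∘ σ) := by
    funext x
    exact Cfsg.Agent.Lib.Helper12.TWLeaf.fperm_mulVec σ u x
  have hv : mv (wrFpermGL (F := F) k t σ) v = fun x => v (x ∘ σ) := by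
    funext x
    exact Cfsg.Agent.Lib.Helper12.TWLeaf.fperm_mulVec σ v x
  rw [hu, hv, sfT_eq_sum, sfT_eq_sum]
  have e := Cfsg.Agent.Lib.Helper19.TWGrow.idxPerm k σ
  rw [← Equiv.sum_comp (Cfsg.Agent.Lib.Helper19.TWGrow.idxPerm k σ)
    (fun a => ∑ b, u a * JT t k F a b * v b)]
  apply Finset.sum_congr rfl
  intro a _
  rw [← Equiv.sum_comp (Cfsg.Agent.Lib.Helper19.TWGrow.idxPerm k σ)
    (fun b => u ((Cfsg.Agent.Lib.Helper19.TWGrow.idxPerm k σ) a) *
      JT t k F ((Cfsg.Agent.Lib.Helper19.TWGrow.idxPerm k σ) a) b * v b)]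
  apply Finset.sum_congr rfl
  intro b _
  have ha : (Cfsg.Agent.Lib.Helper19.TWGrow.idxPerm k σ) a = a ∘ σ := rfl
  have hb : (Cfsg.Agent.Lib.Helper19.TWGrow.idxPerm k σ) b = b ∘ σ := rfl
  rw [ha, hb, JT_comp]

/-- any unit whose matrix is a factor permutation is an isometry -/
theorem mem_GSV_of_val_fperm (σ : Equiv.Perm (Fin t)) {g : GL (Idx t k) F}
    (hg : (g : Matrix (Idx t k) (Idx t k) F) = fperm k t σ) : g ∈ GSV t k F := by
  have : g = wrFpermGL (F := F) k t σ := Units.ext hg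
  rw [this]
  exact wrFpermGL_mem_GSV σ

theorem wrFpermGL_mem_Gstd (σ : Equiv.Perm (Fin t)) : wrFpermGL (F := F) k t σ ∈ Gstd t k F :=
  Subgroup.subset_closure (Or.inr ⟨σ, fun x y => rfl⟩)

/-- ALL factor permutations lie in `HS = Gstd ⊓ GSV` -/
theorem wrFpermGL_mem_HS (σ : Equiv.Perm (Fin t)) : wrFpermGL (F := F) k t σ ∈ HS t k F :=
  ⟨wrFpermGL_mem_Gstd σ, wrFpermGL_mem_GSV σ⟩

/-- for `HS ≤ X`: `XT_J` is transported along EVERY permutation of the positions -/
theorem XTS_map (X : Subgroup (GL (Idx t k) F)) (hHX : HS t k F ≤ X) (σ : Equiv.Perm (Fin t))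
    (J : Finset (Fin t)) (h : XTS X J) : XTS X (J.map σ.toEmbedding) :=
  XTS_perm X σ (hHX (wrFpermGL_mem_HS σ)) J h

/-- for `HS ≤ X`: `XT_J` only depends on `|J|` -/
theorem XTS_of_card (X : Subgroup (GL (Idx t k) F)) (hHX : HS t k F ≤ X) (J J' : Finset (Fin t))
    (hc : J.card = J'.card) (h : XTS X J) : XTS X J' := by
  classical
  obtain ⟨σ, hσ⟩ : ∃ σ : Equiv.Perm (Fin t), J.map σ.toEmbedding = J' := by
    let e : {x // x ∈ J} ≃ {x // x ∈ J'} := Finset.equivOfCardEq hc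
    refine ⟨e.extendSubtype, ?_⟩
    apply Finset.eq_of_subset_of_card_le
    · intro j hj
      rw [Finset.mem_map] at hj
      obtain ⟨x, hx, rfl⟩ := hj
      exact Equiv.extendSubtype_mem e x hx
    · rw [Finset.card_map, hc]
  rw [← hσ]
  exact XTS_map X hHX σ J h

end Cfsg.Agent.Lib.Helper20.TWS3
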