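import Mathlib
import Cfsg.Agent.Lib.Helper20.UTDefs
import Cfsg.Agent.Lib.Helper23.UDenseK2b
import Cfsg.Agent.Lib.Helper5.UForm

/-!
S5670 Stage I leaves C1-C6 (closure / group theory) and T1-T3 (tensors) of `notes/S5670_leaves.lean`.
-/

set_option autoImplicit false
set_option linter.unusedSectionVars false
set_option linter.unusedVariables false

namespace Cfsg.Agent.Lib.Helper20.UTLeaf
open Matrix
open Cfsg.Agent.Lib.Helper25.Tens Cfsg.Agent.Lib.Helper25.TensLeaf Cfsg.Agent.Lib.Helper20.UT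
open scoped Kronecker

variable {F : Type*} [Field F] [Fintype F] {a b q : ℕ}

/-- C1: elements of `closure {z, z'}` move vectors only inside `U`, if `z`, `z'` do -/
theorem closure_sub_mem {ι : Type} [Fintype ι] [DecidableEq ι] (z z' : GL ι F)
    (U : Submodule F (ι → F)) (hz : ∀ v, mv z v - v ∈ U) (hz' : ∀ v, mv z' v - v ∈ U) :
    ∀ x ∈ Subgroup.closure ({z, z'} : Set (GL ι F)), ∀ v, mv x v - v ∈ U := by
  intro x hx
  induction hx using Subgroup.closure_induction with
  | mem y hy =>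
    rcases hy with rfl | rfl
    · exact hz
    · exact hz'
  | one => intro v; rw [mv_one, sub_self]; exact U.zero_mem
  | mul y y' _ _ ih ih' =>
    intro v
    rw [mv_mul]
    have : mv y (mv y' v) - v = (mv y (mv y' v) - mv y' v) + (mv y' v - v) := by abel
    rw [this]
    exact U.add_mem (ih _) (ih' v)
  | inv y _ ih =>
    intro v
    have h := ih (mv y⁻¹ v)
    rw [mv_mv_inv] at h
    have : mv y⁻¹ v - v = -(v - mv y⁻¹ v) := by abel
    rw [this]
    exact U.neg_mem h

/-- C2: a common fixed vector of `z`, `z'` is fixed by `closure {z, z'}` -/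
theorem closure_fix {ι : Type} [Fintype ι] [DecidableEq ι] (z z' : GL ι F) (u : ι → F)
    (hz : mv z u = u) (hz' : mv z' u = u) :
    ∀ x ∈ Subgroup.closure ({z, z'} : Set (GL ι F)), mv x u = u := by
  intro x hx
  induction hx using Subgroup.closure_induction with
  | mem y hy =>
    rcases hy with rfl | rfl
    · exact hz
    · exact hz'
  | one => exact mv_one u
  | mul y y' _ _ ih ih' => rw [mv_mul, ih', ih]
  | inv y _ ih =>
    conv_lhs => rw [← ih]
    exact mv_inv_mv y u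

/-- C3: the fixed-point congruence inside a subgroup `M` of `GL` (apply
`Helper23.UDenseLeaf.exists_mem_closure_coset` to the finite group `↥M`, `N = K.subgroupOf M`). -/
theorem exists_closure_mem {ι : Type} [Fintype ι] [DecidableEq ι] (M K : Subgroup (GL ι F))
    (z z' g : GL ι F) (hz : z ∈ M) (hz' : z' ∈ M) (hg : g ∈ M) (p : ℕ) (hp : p.Prime)
    (hzp : z ^ p = 1) (hzp' : z' ^ p = 1) (hzK : z ∈ K)
    (h1 : ∀ h ∈ M, h⁻¹ * z * h ∈ K → h ∈ K) (h2 : ∀ h ∈ M, h⁻¹ * z' * h ∈ K → g⁻¹ * h ∈ K) :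
    ∃ x ∈ Subgroup.closure ({z, z'} : Set (GL ι F)), x ∈ M ∧ g⁻¹ * x ∈ K := by
  classical
  have hfin : Finite (GL ι F) := inferInstance
  obtain ⟨x, hx, hgx⟩ := Cfsg.Agent.Lib.Helper23.UDenseLeaf.exists_mem_closure_coset
    (G := ↥M) (K.subgroupOf M) ⟨z, hz⟩ ⟨z', hz'⟩ ⟨g, hg⟩ p hp
    (by ext; simp [hzp]) (by ext; simp [hzp']) (by simpa [Subgroup.mem_subgroupOf] using hzK)
    (by
      rintro ⟨h, hh⟩ hk
      simp only [Subgroup.mem_subgroupOf] at hk ⊢
      exact h1 h hh (by simpa using hk))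
    (by
      rintro ⟨h, hh⟩ hk
      simp only [Subgroup.mem_subgroupOf] at hk ⊢
      simpa using h2 h hh (by simpa using hk))
  refine ⟨x.1, ?_, x.2, ?_⟩
  · have hmap : (Subgroup.closure ({⟨z, hz⟩, ⟨z', hz'⟩} : Set ↥M)).map M.subtype =
        Subgroup.closure ({z, z'} : Set (GL ι F)) := by
      rw [MonoidHom.map_closure]
      congr 1
      ext y
      simp [Set.image_pair]
    rw [← hmap]
    exact ⟨x, hx, rfl⟩
  · simpa [Subgroup.mem_subgroupOf] using hgx

/-- the action of `(x ξᵀ) ⊗ 1` -/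
lemma kron_vecMulVec_one_mulVec (x ξ : Fin a → F) (v : Idx a b → F) :
    (Matrix.vecMulVec x ξ ⊗ₖ (1 : Matrix (Fin b) (Fin b) F)) *ᵥ v = pt x (ctA ξ v) := by
  ext ⟨i, l⟩
  simp only [Matrix.mulVec, dotProduct, Matrix.kroneckerMap_apply, Matrix.vecMulVec_apply, pt, ctA,
    Fintype.sum_prod_type, Matrix.one_apply]
  rw [Finset.mul_sum]
  apply Finset.sum_congr rfl; intro i' _
  rw [Finset.sum_eq_single l]
  · simp only [if_true, mul_one]; ring
  · intro l' _ hl; simp [Ne.symm hl]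
  · simp

/-- C6: `mv (kA q x₀ c hx) v = v + c • pt x₀ (ctA (cj q x₀) v)` (mirror of `mv_kB`) -/
theorem mv_kA (x₀ : Fin a → F) (c : F) (hx : hv q x₀ x₀ = 0) (v : Idx a b → F) :
    mv (kA q x₀ c hx : GL (Idx a b) F) v = v + c • pt x₀ (ctA (cj q x₀) v) := by
  unfold mv kA tvU
  rw [kel_val, tv_val, Units.val_one, Matrix.add_kronecker, Matrix.one_kronecker_one,
    Matrix.add_mulVec, Matrix.one_mulVec, kron_vecMulVec_one_mulVec]
  congr 1
  ext ⟨i, l⟩
  simp only [pt, ctA, Pi.smul_apply, smul_eq_mul, Finset.mul_sum]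
  apply Finset.sum_congr rfl; intro i' _; ring

/-- the general isometry computation for a "transvection-like" map `v ↦ v + c • T v` -/
lemma iso_of_skew {κ : Type} [Fintype κ] (hF : Fintype.card F = q ^ 2) {c : F} (hc : c ^ q = -c)
    (T : (κ → F) → (κ → F)) (B : (κ → F) → (κ → F) → F)
    (h1 : ∀ u v, hv q u (T v) = B u v) (h2 : ∀ u v, hv q (T u) v = B u v)
    (h3 : ∀ u v, hv q (T u) (T v) = 0) (u v : κ → F) :
    hv q (u + c • T u) (v + c • T v) = hv q u v := by
  rw [hv_add_left, hv_add_right hF, hv_add_right hF, hv_smul_left, hv_smul_left, hv_smul_right,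
    hv_smul_right, h1, h2, h3, hc]
  ring

/-- C5: `kB`, `kA` with trace-zero `c` are isometries of determinant one -/
theorem kB_mem_GS (hF : Fintype.card F = q ^ 2) (y : Fin b → F) {c : F} (hc : c ^ q = -c)
    (hy : hv q y y = 0) : (kB q y c hy : GL (Idx a b) F) ∈ GS a b q F := by
  refine ⟨?_, (kel_one_tv_mem y (c • cj q y) _).2⟩
  apply mem_GUI.mpr
  intro u v
  rw [mv_kB, mv_kB]
  apply iso_of_skew hF hc (fun v => pt (ct (cj q y) v) y)
    (fun u v => hv q (ct (cj q y) u) (ct (cj q y) v))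
  · intro u v; exact hv_pt_right q u _ y
  · intro u v
    rw [← hv_conj hF, hv_pt_right, hv_conj hF]
  · intro u v
    rw [hv_pt, hy, mul_zero]

theorem kA_mem_GS (hF : Fintype.card F = q ^ 2) (x : Fin a → F) {c : F} (hc : c ^ q = -c)
    (hx : hv q x x = 0) : (kA q x c hx : GL (Idx a b) F) ∈ GS a b q F := by
  refine ⟨?_, (kel_tv_one_mem x (c • cj q x) _).2⟩
  apply mem_GUI.mpr
  intro u v
  rw [mv_kA, mv_kA]
  apply iso_of_skew hF hc (fun v => pt x (ctA (cj q x) v))
    (fun u v => hv q (ctA (cj q x) u) (ctA (cj q x) v))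
  · intro u v; exact hv_pt_right' q u x _
  · intro u v
    rw [← hv_conj hF, hv_pt_right', hv_conj hF]
  · intro u v
    rw [hv_pt, hx, zero_mul]

lemma mv_pow_of_sq_zero {ι : Type} [Fintype ι] [DecidableEq ι] (g : GL ι F) (N : (ι → F) →ₗ[F] (ι → F))
    (hg : ∀ v, mv g v = v + N v) (hN : ∀ v, N (N v) = 0) (n : ℕ) (v : ι → F) :
    mv (g ^ n) v = v + (n : F) • N v := by
  induction n generalizing v with
  | zero => simp
  | succ n ih =>
    rw [pow_succ, mv_mul, ih, hg, map_add, hN, add_zero, Nat.cast_succ, add_smul, one_smul]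
    abel

/-- C4: `kB`, `kA` have order dividing the characteristic (`(1+N)^p = 1 + pN` for `N² = 0`) -/
theorem kB_pow_char (p : ℕ) [CharP F p] (y : Fin b → F) (c : F) (hy : hv q y y = 0) :
    (kB q y c hy : GL (Idx a b) F) ^ p = 1 := by
  apply ext_mv
  intro v
  let N : (Idx a b → F) →ₗ[F] (Idx a b → F) :=
    { toFun := fun v => c • pt (ct (cj q y) v) y
      map_add' := fun v w => by rw [ct_add, pt_add_left, smul_add]
      map_smul' := fun d v => by
        rw [ct_smul, pt_smul_left, RingHom.id_apply, smul_comm] }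
  have hg : ∀ v, mv (kB q y c hy : GL (Idx a b) F) v = v + N v := fun v => mv_kB q y c hy v
  have hN : ∀ v, N (N v) = 0 := by
    intro v
    change c • pt (ct (cj q y) (c • pt (ct (cj q y) v) y)) y = 0
    rw [ct_smul, ct_cj_pt, hy, zero_smul, smul_zero, pt_zero_left, smul_zero]
  rw [mv_pow_of_sq_zero _ N hg hN, CharP.cast_eq_zero, zero_smul, add_zero, mv_one]

theorem kA_pow_char (p : ℕ) [CharP F p] (x : Fin a → F) (c : F) (hx : hv q x x = 0) :
    (kA q x c hx : GL (Idx a b) F) ^ p = 1 := by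
  apply ext_mv
  intro v
  let N : (Idx a b → F) →ₗ[F] (Idx a b → F) :=
    { toFun := fun v => c • pt x (ctA (cj q x) v)
      map_add' := fun v w => by rw [ctA_add, pt_add_right, smul_add]
      map_smul' := fun d v => by
        rw [ctA_smul, pt_smul_right, RingHom.id_apply, smul_comm] }
  have hg : ∀ v, mv (kA q x c hx : GL (Idx a b) F) v = v + N v := fun v => mv_kA x c hx v
  have hN : ∀ v, N (N v) = 0 := by
    intro v
    change c • pt x (ctA (cj q x) (c • pt x (ctA (cj q x) v))) = 0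
    rw [ctA_smul, ctA_cj_pt, hx, zero_smul, smul_zero, pt_zero_right, smul_zero]
  rw [mv_pow_of_sq_zero _ N hg hN, CharP.cast_eq_zero, zero_smul, add_zero, mv_one]

/-- T1: equal non-zero pure tensors have proportional factors -/
theorem pt_eq_pt {x x' : Fin a → F} {y y' : Fin b → F} (h : pt x y = pt x' y') (hx : x ≠ 0)
    (hy : y ≠ 0) : ∃ c : F, c ≠ 0 ∧ y' = c • y := by
  obtain ⟨i₀, hi₀⟩ := Function.ne_iff.mp hx
  obtain ⟨l₀, hl₀⟩ := Function.ne_iff.mp hy
  have hi₀' : x i₀ ≠ 0 := hi₀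
  have hl₀' : y l₀ ≠ 0 := hl₀
  have h1 : ∀ l, x i₀ * y l = x' i₀ * y' l := fun l => congrFun h (i₀, l)
  have hx' : x' i₀ ≠ 0 := by
    intro h0
    have := h1 l₀
    rw [h0, zero_mul] at this
    exact mul_ne_zero hi₀' hl₀' this
  refine ⟨x i₀ / x' i₀, div_ne_zero hi₀' hx', ?_⟩
  ext l
  simp only [Pi.smul_apply, smul_eq_mul]
  field_simp
  linear_combination -(h1 l)

lemma ptL_injective {y : Fin b → F} (hy : y ≠ 0) : Function.Injective (ptL (a := a) y) := by
  rw [← LinearMap.ker_eq_bot, LinearMap.ker_eq_bot']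
  intro x hx
  have : pt x y = 0 := hx
  rcases (pt_eq_zero_iff x y).mp this with h | h
  · exact h
  · exact absurd h hy

/-- T2: `finrank (A ⊗ y) = a` -/
theorem finrank_Fib {y : Fin b → F} (hy : y ≠ 0) : Module.finrank F (Fib (a := a) y) = a := by
  unfold Fib
  rw [LinearMap.finrank_range_of_inj (ptL_injective hy), Module.finrank_fin_fun]

/-- T3 -/
theorem le_sup_Fib {W' : Submodule F (Idx a b → F)} (hW' : Module.finrank F W' ≤ a)
    {y y'' : Fin b → F} (hy : y ≠ 0) (hy'' : y'' ≠ 0) (hind : ∀ c : F, y'' ≠ c • y)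
    (h : Fib (a := a) y'' ≤ W' ⊔ Fib y) : W' ≤ Fib y ⊔ Fib y'' := by
  have hdisj : Fib (a := a) y ⊓ Fib (a := a) y'' = ⊥ := by
    rw [eq_bot_iff]
    intro v hv
    obtain ⟨hv1, hv2⟩ := hv
    obtain ⟨x, rfl⟩ := mem_Fib.mp hv1
    obtain ⟨x', hx'⟩ := mem_Fib.mp hv2
    by_cases hx0 : x = 0
    · rw [hx0, pt_zero_left]; exact Submodule.zero_mem _
    · obtain ⟨c, -, hc⟩ := pt_eq_pt hx' hx0 hy
      exact absurd hc (hind c)
  have hle : Fib (a := a) y ⊔ Fib (a := a) y'' ≤ W' ⊔ Fib y := sup_le le_sup_right h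
  have hrk1 : Module.finrank F ↥(Fib (a := a) y ⊔ Fib (a := a) y'') = a + a := by
    have := Submodule.finrank_sup_add_finrank_inf_eq (Fib (a := a) y) (Fib (a := a) y'')
    rw [hdisj, finrank_bot, finrank_Fib hy, finrank_Fib hy'', add_zero] at this
    exact this
  have hrk2 : Module.finrank F ↥(W' ⊔ Fib (a := a) y) ≤ a + a := by
    calc Module.finrank F ↥(W' ⊔ Fib (a := a) y)
        ≤ Module.finrank F W' + Module.finrank F (Fib (a := a) y) := Submodule.finrank_add_le_finrank_add_finrank _ _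
      _ ≤ a + a := by rw [finrank_Fib hy]; omega
  have heq : Fib (a := a) y ⊔ Fib (a := a) y'' = W' ⊔ Fib y :=
    Submodule.eq_of_le_of_finrank_le hle (by rw [hrk1]; exact hrk2)
  rw [heq]
  exact le_sup_left

end Cfsg.Agent.Lib.Helper20.UTLeaf
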