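import Mathlib
import Cfsg.Agent.Lib.Helper20.AschDefs
import Cfsg.Agent.Lib.Helper18.AschA89Defs
import Cfsg.Agent.Lib.Helper20.AschA89F2J
import Cfsg.Agent.Lib.Helper15.AschA89F2T
import Cfsg.Agent.Lib.Helper15.AschA89F2B

/-!
S5630 (A89): F2 `geo_of_tensorWreath_two` (assembly of the landed leaves; text of the assembly by sub-planner helper18, `notes/S5630_A89_F2_leaves.lean`).
-/

set_option autoImplicit false
set_option linter.unusedSectionVars false
set_option linter.unusedVariables false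

namespace Cfsg.Agent.Lib.Helper20.AschA89Asm
open Matrix Cfsg.Geo Cfsg.Agent.Lib.Helper20.Asch Cfsg.Agent.Lib.Helper18.AschA89
open scoped Kronecker
open Cfsg.Agent.Lib.Helper20.AschLeaf (Jt_transpose Jt_mul_self Jt_alternating pure_Jt fperm_Jt)
open Cfsg.Agent.Lib.Helper15.AschLeaf (gramJ_similarity gramJ_transpose gramJ_det gramJ_alternating geo_of_alt_gram geo_of_symm_gram)

variable {F : Type*} [Field F] [Fintype F] {n : ℕ} {H N : Subgroup (GL (Fin n) F)}

/-! ## assembly -/

/-- the similarities of a matrix `B` form a subgroup; closure induction -/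
theorem std_similarity (t : ℕ) : ∀ g₀ ∈ tensorWreathStandard 2 t F, ∃ c : Fˣ,
    (g₀ : Matrix (Fin t → Fin 2) (Fin t → Fin 2) F)ᵀ * Jt t *
      (g₀ : Matrix (Fin t → Fin 2) (Fin t → Fin 2) F) = (c : F) • Jt t := by
  intro g₀ hg₀
  unfold tensorWreathStandard at hg₀
  induction hg₀ using Subgroup.closure_induction with
  | mem g hg =>
    rcases hg with hp | hf
    · exact pure_Jt t g hp
    · exact ⟨1, by rw [fperm_Jt t g hf, Units.val_one, one_smul]⟩
  | one => exact ⟨1, by simp⟩
  | mul a b _ _ iha ihb =>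
    obtain ⟨c, hc⟩ := iha
    obtain ⟨d, hd⟩ := ihb
    refine ⟨c * d, ?_⟩
    rw [Units.val_mul, Matrix.transpose_mul]
    calc (b : Matrix (Fin t → Fin 2) (Fin t → Fin 2) F)ᵀ * (a : Matrix (Fin t → Fin 2) (Fin t → Fin 2) F)ᵀ * Jt t *
          ((a : Matrix (Fin t → Fin 2) (Fin t → Fin 2) F) * (b : Matrix (Fin t → Fin 2) (Fin t → Fin 2) F))
        = (b : Matrix (Fin t → Fin 2) (Fin t → Fin 2) F)ᵀ *
            ((a : Matrix (Fin t → Fin 2) (Fin t → Fin 2) F)ᵀ * Jt t *
              (a : Matrix (Fin t → Fin 2) (Fin t → Fin 2) F)) *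
            (b : Matrix (Fin t → Fin 2) (Fin t → Fin 2) F) := by simp only [mul_assoc]
      _ = ((c * d : Fˣ) : F) • Jt t := by
        rw [hc, Matrix.mul_smul, Matrix.smul_mul, hd, smul_smul, Units.val_mul]
  | inv a _ iha =>
    obtain ⟨c, hc⟩ := iha
    refine ⟨c⁻¹, ?_⟩
    have h1 : (a : Matrix (Fin t → Fin 2) (Fin t → Fin 2) F) *
        ((a⁻¹ : GL (Fin t → Fin 2) F) : Matrix (Fin t → Fin 2) (Fin t → Fin 2) F) = 1 := by
      rw [← Units.val_mul, mul_inv_cancel, Units.val_one]
    have h2 : ((a⁻¹ : GL (Fin t → Fin 2) F) : Matrix (Fin t → Fin 2) (Fin t → Fin 2) F)ᵀ *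
        (a : Matrix (Fin t → Fin 2) (Fin t → Fin 2) F)ᵀ = 1 := by
      rw [← Matrix.transpose_mul, h1, Matrix.transpose_one]
    have h3 : ((a⁻¹ : GL (Fin t → Fin 2) F) : Matrix (Fin t → Fin 2) (Fin t → Fin 2) F)ᵀ *
        ((a : Matrix (Fin t → Fin 2) (Fin t → Fin 2) F)ᵀ * Jt t *
          (a : Matrix (Fin t → Fin 2) (Fin t → Fin 2) F)) *
        ((a⁻¹ : GL (Fin t → Fin 2) F) : Matrix (Fin t → Fin 2) (Fin t → Fin 2) F) = Jt t := by
      calc _ = (((a⁻¹ : GL (Fin t → Fin 2) F) : Matrix (Fin t → Fin 2) (Fin t → Fin 2) F)ᵀ *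
            (a : Matrix (Fin t → Fin 2) (Fin t → Fin 2) F)ᵀ) * Jt t *
            ((a : Matrix (Fin t → Fin 2) (Fin t → Fin 2) F) *
              ((a⁻¹ : GL (Fin t → Fin 2) F) : Matrix (Fin t → Fin 2) (Fin t → Fin 2) F)) := by
            simp only [mul_assoc]
        _ = Jt t := by rw [h1, h2, one_mul, mul_one]
    rw [hc, Matrix.mul_smul, Matrix.smul_mul] at h3
    rw [Units.val_inv_eq_inv_val]
    conv_rhs => rw [← h3, smul_smul, inv_mul_cancel₀ c.ne_zero, one_smul]

/-- F2: the case `m = 2` (EXACT signature of `notes/S5630_A89_leaves.lean`). -/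
theorem geo_of_tensorWreath_two {t : ℕ} (ht : 2 ≤ t) (e : Fin n ≃ (Fin t → Fin 2)) (P : GL (Fin n) F)
    (hH : H ≤ tensorWreathSubgroup 2 t e P) : Geo H := by
  have hcard : n = 2 ^ t := by
    have := Fintype.card_congr e
    simpa using this
  have h4 : 4 ≤ n := by
    rw [hcard]
    calc 4 = 2 ^ 2 := by norm_num
      _ ≤ 2 ^ t := Nat.pow_le_pow_right (by norm_num) ht
  have hev : Even n := by
    rw [hcard]
    exact (Nat.even_pow.mpr ⟨even_two, by omega⟩)
  have hG : ∀ g ∈ H, ∃ c : Fˣ,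
      (g : Matrix (Fin n) (Fin n) F)ᵀ * gramJ e P * (g : Matrix (Fin n) (Fin n) F) = (c : F) • gramJ e P :=
    fun g hg => gramJ_similarity e P (std_similarity t) g (hH hg)
  have hJdet : IsUnit (Jt (F := F) t).det := by
    have h := congrArg Matrix.det (Jt_mul_self (F := F) t)
    rw [Matrix.det_mul, Matrix.det_smul, Matrix.det_one, mul_one] at h
    have hne : ((-1 : F) ^ t) ^ Fintype.card (Fin t → Fin 2) ≠ 0 := pow_ne_zero _ (pow_ne_zero _ (by norm_num))
    rw [← h] at hne
    exact isUnit_iff_ne_zero.mpr (fun h0 => hne (by rw [h0, mul_zero]))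
  have hdet : IsUnit (gramJ e P).det := gramJ_det e P hJdet
  by_cases hcase : Odd t ∨ (2 : F) = 0
  · have hsign : (-1 : F) ^ t = -1 := by
      rcases hcase with ho | h2
      · exact ho.neg_one_pow
      · have h11 : (-1 : F) = 1 := by
          have : (1 : F) + 1 = 0 := by rw [one_add_one_eq_two]; exact h2
          exact (eq_neg_of_add_eq_zero_left this).symm
        rw [h11, one_pow]
    have htr : (gramJ e P)ᵀ = -gramJ e P := by
      rw [gramJ_transpose e P _ (Jt_transpose t), hsign, neg_smul, one_smul]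
    exact geo_of_alt_gram (gramJ e P) hdet htr
      (gramJ_alternating e P (Jt_alternating t (by omega) hcase)) hev h4 hG
  · push Not at hcase
    obtain ⟨hnodd, h2⟩ := hcase
    have hevt : Even t := Nat.not_odd_iff_even.mp hnodd
    have htr : (gramJ e P)ᵀ = gramJ e P := by
      rw [gramJ_transpose e P _ (Jt_transpose t), hevt.neg_one_pow, one_smul]
    have hodd : Odd (Fintype.card F) := by
      have hchar : ringChar F ≠ 2 := by
        intro h
        apply h2
        have := ringChar.spec F 2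
        have h3 : ((2 : ℕ) : F) = 0 := this.mpr (by rw [h])
        exact_mod_cast h3
      exact Nat.odd_iff.mpr (FiniteField.odd_card_of_char_ne_two hchar)
    exact geo_of_symm_gram (gramJ e P) hdet htr hodd (by omega) hG



end Cfsg.Agent.Lib.Helper20.AschA89Asm
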