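import Mathlib
import Cfsg.Agent.Lib.Helper20.AschDefs
import Cfsg.Agent.Lib.Helper18.AschA89Defs
import Cfsg.Agent.Lib.Helper4.AschA89PS1
import Cfsg.Agent.Lib.Helper27.AschA89PS3a
import Cfsg.Agent.Lib.Helper27.AschA89PS3b

/-!
S5630 (A89): PS `product_system` (assembly of the landed leaves; text of the assembly by sub-planner helper18, `notes/S5630_A89_PS_leaves.lean`).
-/

set_option autoImplicit false
set_option linter.unusedSectionVars false
set_option linter.unusedVariables false

namespace Cfsg.Agent.Lib.Helper20.AschA89Asm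
open Matrix Cfsg.Geo Cfsg.Agent.Lib.Helper20.Asch Cfsg.Agent.Lib.Helper18.AschA89
open scoped Kronecker
open Cfsg.Agent.Lib.Helper4.AschLeaf (isUnits_eprod eq_sum_slot_eprod)
open Cfsg.Agent.Lib.Helper27.AschLeaf (exists_unit_basis conjR_of_unit_basis)

variable {F : Type*} [Field F] [Fintype F] {n : ℕ} {H N : Subgroup (GL (Fin n) F)}

/-! ## assembly -/

lemma conjR_sum {κ : Type} [Fintype κ] [DecidableEq κ] (e : Fin n ≃ κ) (P : GL (Fin n) F) {α : Type}
    (t : Finset α) (f : α → Matrix κ κ F) : conjR e P (∑ x ∈ t, f x) = ∑ x ∈ t, conjR e P (f x) := by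
  classical
  induction t using Finset.induction_on with
  | empty =>
    simp only [Finset.sum_empty]
    have := conjR_smul e P (0 : F) (0 : Matrix κ κ F)
    simpa using this
  | insert a t ha ih => rw [Finset.sum_insert ha, Finset.sum_insert ha, conjR_add, ih]

/-- PS: the product system theorem (EXACT signature of `notes/S5630_A89_leaves.lean`, there with `[Fintype F]`). -/
theorem product_system {r s : ℕ} (hn : 0 < n) (E : Fin r → Fin s → Fin s → Matrix (Fin n) (Fin n) F)
    (hE : IsCommUnits E)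
    (hirr : ∀ W : Submodule F (Fin n → F), (∀ i a b, W.map (Matrix.toLin' (E i a b)) ≤ W) →
      W = ⊥ ∨ W = ⊤) :
    ∃ (e : Fin n ≃ (Fin r → Fin s)) (P : GL (Fin n) F), ∀ i a b,
      E i a b = conjR e P (slot s r i (Matrix.single a b (1 : F))) := by
  have hEE := isUnits_eprod E hE
  have hsum := eq_sum_slot_eprod E hE
  have hirr' : ∀ W : Submodule F (Fin n → F),
      (∀ x y : Fin r → Fin s, W.map (Matrix.toLin' (eprod s r E x y)) ≤ W) → W = ⊥ ∨ W = ⊤ := by
    intro W hW
    apply hirr W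
    intro i a b
    rw [hsum i a b]
    rintro _ ⟨w, hw, rfl⟩
    rw [Matrix.toLin'_apply, Matrix.sum_mulVec]
    refine Submodule.sum_mem _ fun x _ => ?_
    rw [Matrix.sum_mulVec]
    refine Submodule.sum_mem _ fun y _ => ?_
    rw [Matrix.smul_mulVec]
    refine Submodule.smul_mem _ _ (hW x y ⟨w, hw, ?_⟩)
    rw [Matrix.toLin'_apply]
  obtain ⟨v, hli, hsp, hact⟩ := exists_unit_basis hn _ hEE hirr'
  obtain ⟨e, P, hEP⟩ := conjR_of_unit_basis _ v hli hsp hact
  refine ⟨e, P, fun i a b => ?_⟩
  rw [hsum i a b]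
  conv_rhs => rw [Matrix.matrix_eq_sum_single (slot s r i (Matrix.single a b (1 : F)))]
  rw [conjR_sum]
  refine Finset.sum_congr rfl fun x _ => ?_
  rw [conjR_sum]
  refine Finset.sum_congr rfl fun y _ => ?_
  rw [hEP x y, ← conjR_smul]
  congr 1
  rw [Matrix.smul_single, smul_eq_mul, mul_one]



end Cfsg.Agent.Lib.Helper20.AschA89Asm
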