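import Mathlib
import Cfsg.Agent.Lib.Helper20.AschDefs
import Cfsg.Agent.Lib.Helper25.TensDefs

/-!
S5630 (A23), sub-leaves ENVS `env_of_multiple` and BLK `zcen_of_multiple`: enveloping algebra and centre of the centraliser
algebra of a multiple `X = P (R ⊗ 1) P⁻¹`.
-/

set_option autoImplicit false
set_option linter.unusedSectionVars false
set_option linter.unusedVariables false

namespace Cfsg.Agent.Lib.Helper20.AschLeaf
open Matrix Cfsg.Geo Cfsg.Agent.Lib.Helper20.Asch Cfsg.Agent.Lib.Helper25.Tens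
open scoped Kronecker

variable {F : Type*} [Field F] {n s k : ℕ}

/-- `A ↦ P (A ⊗ 1) P⁻¹` as an algebra homomorphism -/
def kronHom (e : Fin n ≃ Fin s × Fin k) (P : GL (Fin n) F) :
    Matrix (Fin s) (Fin s) F →ₐ[F] Matrix (Fin n) (Fin n) F where
  toFun A := conjR e P (A ⊗ₖ (1 : Matrix (Fin k) (Fin k) F))
  map_one' := by rw [Matrix.one_kronecker_one, conjR_one]
  map_mul' A B := by
    rw [← conjR_mul, ← Matrix.mul_kronecker_mul, Matrix.one_mul]
  map_zero' := by
    rw [Matrix.zero_kronecker]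
    unfold conjR
    simp
  map_add' A B := by rw [Matrix.add_kronecker, conjR_add]
  commutes' c := by
    rw [Algebra.algebraMap_eq_smul_one, Algebra.algebraMap_eq_smul_one, Matrix.smul_kronecker,
      Matrix.one_kronecker_one, conjR_smul, conjR_one]

lemma kronHom_apply (e : Fin n ≃ Fin s × Fin k) (P : GL (Fin n) F) (A : Matrix (Fin s) (Fin s) F) :
    kronHom e P A = conjR e P (A ⊗ₖ (1 : Matrix (Fin k) (Fin k) F)) := rfl

/-- ENVS -/
theorem env_of_multiple {X : Subgroup (GL (Fin n) F)} {R : Subgroup (GL (Fin s) F)}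
    {e : Fin n ≃ Fin s × Fin k} {P : GL (Fin n) F} (h : IsMultipleOf X R e P)
    (T : Matrix (Fin n) (Fin n) F) :
    T ∈ Env X ↔ ∃ A ∈ Env R, T = conjR e P (A ⊗ₖ (1 : Matrix (Fin k) (Fin k) F)) := by
  have himg : matrixSet X = kronHom e P '' matrixSet R := by
    ext M
    constructor
    · rintro ⟨x, hx, rfl⟩
      obtain ⟨a, ha, hxa⟩ := h.1 x hx
      exact ⟨a, ⟨a, ha, rfl⟩, hxa.symm⟩
    · rintro ⟨_, ⟨a, ha, rfl⟩, rfl⟩
      obtain ⟨x, hx, hxa⟩ := h.2 a ha
      exact ⟨x, hx, hxa⟩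
  unfold Env
  rw [himg, ← AlgHom.map_adjoin]
  constructor
  · rintro ⟨A, hA, rfl⟩
    exact ⟨A, hA, rfl⟩
  · rintro ⟨A, hA, rfl⟩
    exact ⟨A, hA, rfl⟩

/-! ### conjR is onto -/

lemma conjR_surjective {κ : Type} [Fintype κ] [DecidableEq κ] (e : Fin n ≃ κ) (P : GL (Fin n) F)
    (T : Matrix (Fin n) (Fin n) F) : ∃ M : Matrix κ κ F, T = conjR e P M := by
  refine ⟨Matrix.reindex e e (((P⁻¹ : GL (Fin n) F) : Matrix (Fin n) (Fin n) F) * T *
    (P : Matrix (Fin n) (Fin n) F)), ?_⟩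
  unfold conjR
  have h1 : (P : Matrix (Fin n) (Fin n) F) * ((P⁻¹ : GL (Fin n) F) : Matrix (Fin n) (Fin n) F) = 1 := by
    rw [← Units.val_mul, mul_inv_cancel, Units.val_one]
  have h2 : Matrix.reindex e.symm e.symm (Matrix.reindex e e
      (((P⁻¹ : GL (Fin n) F) : Matrix (Fin n) (Fin n) F) * T * (P : Matrix (Fin n) (Fin n) F))) =
      ((P⁻¹ : GL (Fin n) F) : Matrix (Fin n) (Fin n) F) * T * (P : Matrix (Fin n) (Fin n) F) := by
    ext i j
    simp [Matrix.reindex_apply]
  rw [h2]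
  calc T = 1 * T * 1 := by rw [one_mul, mul_one]
    _ = _ := by rw [← h1]; simp only [mul_assoc]

lemma conjR_comm_iff {κ : Type} [Fintype κ] [DecidableEq κ] (e : Fin n ≃ κ) (P : GL (Fin n) F)
    (M M' : Matrix κ κ F) : conjR e P M * conjR e P M' = conjR e P M' * conjR e P M ↔ M * M' = M' * M := by
  rw [← conjR_mul, ← conjR_mul]
  exact (conjR_injective e P).eq_iff

/-! ### blocks -/

lemma blk_kron_one_mul (A : Matrix (Fin s) (Fin s) F) (M : Matrix (Idx s k) (Idx s k) F) (j j' : Fin k) :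
    blk ((A ⊗ₖ (1 : Matrix (Fin k) (Fin k) F)) * M) j j' = A * blk M j j' := by
  rw [blk_mul]
  simp only [blk_kron, Matrix.one_apply]
  rw [Finset.sum_eq_single j]
  · simp
  · intro m _ hm
    rw [if_neg (Ne.symm hm), zero_smul, Matrix.zero_mul]
  · intro h; exact absurd (Finset.mem_univ j) h

lemma blk_mul_kron_one (A : Matrix (Fin s) (Fin s) F) (M : Matrix (Idx s k) (Idx s k) F) (j j' : Fin k) :
    blk (M * (A ⊗ₖ (1 : Matrix (Fin k) (Fin k) F))) j j' = blk M j j' * A := by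
  rw [blk_mul]
  simp only [blk_kron, Matrix.one_apply]
  rw [Finset.sum_eq_single j']
  · simp
  · intro m _ hm
    rw [if_neg hm, zero_smul, Matrix.mul_zero]
  · intro h; exact absurd (Finset.mem_univ j') h

lemma blk_one_kron_mul (B : Matrix (Fin k) (Fin k) F) (M : Matrix (Idx s k) (Idx s k) F) (j j' : Fin k) :
    blk (((1 : Matrix (Fin s) (Fin s) F) ⊗ₖ B) * M) j j' = ∑ m, B j m • blk M m j' := by
  rw [blk_mul]
  simp only [blk_kron, Matrix.smul_mul, Matrix.one_mul]

lemma blk_mul_one_kron (B : Matrix (Fin k) (Fin k) F) (M : Matrix (Idx s k) (Idx s k) F) (j j' : Fin k) :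
    blk (M * ((1 : Matrix (Fin s) (Fin s) F) ⊗ₖ B)) j j' = ∑ m, B m j' • blk M j m := by
  rw [blk_mul]
  simp only [blk_kron, Matrix.mul_smul, Matrix.mul_one]

/-- a matrix commuting with all `1 ⊗ E_{jj'}` is of the form `δ ⊗ 1` -/
lemma eq_kron_one_of_comm (j₀ : Fin k) (M : Matrix (Idx s k) (Idx s k) F)
    (h : ∀ j j' : Fin k, M * ((1 : Matrix (Fin s) (Fin s) F) ⊗ₖ Matrix.single j j' (1 : F)) =
      ((1 : Matrix (Fin s) (Fin s) F) ⊗ₖ Matrix.single j j' (1 : F)) * M) :
    M = blk M j₀ j₀ ⊗ₖ (1 : Matrix (Fin k) (Fin k) F) := by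
  apply ext_blk
  intro j j'
  rw [blk_kron]
  -- compare the blocks `(j, j₀)` of `M (1 ⊗ E_{j' j₀})`... use `E_{j₀ j'}`
  have h1 := congrArg (fun Y => blk Y j₀ j') (h j₀ j)
  simp only [blk_mul_one_kron, blk_one_kron_mul] at h1
  -- left: ∑ m, E m j' • blk M j₀ m  with E = single j₀ j : only m = j₀, and j = j'
  -- right: ∑ m, E j₀ m • blk M m j' : only m = j
  rw [Finset.sum_eq_single j₀, Finset.sum_eq_single j] at h1
  · rw [Matrix.single_apply, Matrix.single_apply] at h1
    simp only [true_and] at h1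
    by_cases hjj : j = j'
    · subst hjj
      simp only [if_true, one_smul] at h1
      rw [Matrix.one_apply_eq, one_smul]
      exact h1.symm
    · rw [if_neg hjj, zero_smul] at h1
      simp only [if_true, one_smul] at h1
      rw [Matrix.one_apply_ne hjj, zero_smul]
      exact h1.symm
  · intro m _ hm
    rw [Matrix.single_apply, if_neg (fun hh => hm hh.2.symm), zero_smul]
  · intro hh; exact absurd (Finset.mem_univ j) hh
  · intro m _ hm
    rw [Matrix.single_apply, if_neg (fun hh => hm hh.1.symm), zero_smul]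
  · intro hh; exact absurd (Finset.mem_univ j₀) hh

/-- BLK -/
theorem zcen_of_multiple (hk : 0 < k) {X : Subgroup (GL (Fin n) F)}
    {R : Subgroup (GL (Fin s) F)}
    {e : Fin n ≃ Fin s × Fin k} {P : GL (Fin n) F} (h : IsMultipleOf X R e P)
    (hcomm : ∀ a ∈ Cen R, ∀ b ∈ Cen R, a * b = b * a) (T : Matrix (Fin n) (Fin n) F) :
    T ∈ ZCen X ↔ ∃ δ ∈ Cen R, T = conjR e P (δ ⊗ₖ (1 : Matrix (Fin k) (Fin k) F)) := by
  -- description of `Cen X`
  have hcen : ∀ M : Matrix (Idx s k) (Idx s k) F,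
      conjR e P M ∈ Cen X ↔ ∀ j j', blk M j j' ∈ Cen R := by
    intro M
    rw [mem_Cen]
    constructor
    · intro hM j j'
      rw [mem_Cen]
      intro a ha
      obtain ⟨x, hx, hxa⟩ := h.2 a ha
      have h1 := hM x hx
      rw [hxa, conjR_comm_iff] at h1
      have h2 := congrArg (fun Y => blk Y j j') h1
      simp only [blk_kron_one_mul, blk_mul_kron_one] at h2
      exact h2
    · intro hM x hx
      obtain ⟨a, ha, hxa⟩ := h.1 x hx
      rw [hxa, conjR_comm_iff]
      apply ext_blk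
      intro j j'
      rw [blk_kron_one_mul, blk_mul_kron_one]
      exact mem_Cen.mp (hM j j') a ha
  constructor
  · intro hT
    rw [mem_ZCen] at hT
    obtain ⟨M, rfl⟩ := conjR_surjective e P T
    have hblocks := (hcen M).mp hT.1
    have j₀ : Fin k := ⟨0, hk⟩
    have hM : M = blk M j₀ j₀ ⊗ₖ (1 : Matrix (Fin k) (Fin k) F) := by
      apply eq_kron_one_of_comm j₀ M
      intro j j'
      have hE : conjR e P ((1 : Matrix (Fin s) (Fin s) F) ⊗ₖ Matrix.single j j' (1 : F)) ∈ Cen X := by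
        rw [hcen]
        intro l l'
        rw [blk_kron]
        exact (Cen R).smul_mem (Cen R).one_mem _
      have := hT.2 _ hE
      rw [conjR_comm_iff] at this
      exact this.symm
    exact ⟨blk M j₀ j₀, hblocks j₀ j₀, by rw [← hM]⟩
  · rintro ⟨δ, hδ, rfl⟩
    rw [mem_ZCen]
    refine ⟨?_, ?_⟩
    · rw [hcen]
      intro j j'
      rw [blk_kron]
      exact (Cen R).smul_mem hδ _
    · intro S hS
      obtain ⟨M, rfl⟩ := conjR_surjective e P S
      rw [conjR_comm_iff]
      have hblocks := (hcen M).mp hS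
      apply ext_blk
      intro j j'
      rw [blk_kron_one_mul, blk_mul_kron_one]
      exact hcomm _ (hblocks j j') _ hδ

end Cfsg.Agent.Lib.Helper20.AschLeaf
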