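import Mathlib
import Cfsg.Agent.Lib.Helper20.AschDefs

/-!
S5630 (A23/TS), leaf STR1 `homog_decomp`: greedy direct decomposition of a homogeneous module.
-/

set_option autoImplicit false
set_option linter.unusedSectionVars false
set_option linter.unusedVariables false

namespace Cfsg.Agent.Lib.Helper20.AschLeaf
open Matrix Cfsg.Geo Cfsg.Agent.Lib.Helper20.Asch
open scoped Kronecker

variable {F : Type*} [Field F] {n : ℕ}

lemma xinv_iff {X : Subgroup (GL (Fin n) F)} {W : Submodule F (Fin n → F)} :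
    XInv X W ↔ ∀ x ∈ X, ∀ w ∈ W, (x : Matrix (Fin n) (Fin n) F).mulVec w ∈ W := by
  unfold XInv
  constructor
  · intro h x hx w hw
    have := h x hx (Submodule.mem_map_of_mem hw)
    simpa [Matrix.toLin'_apply] using this
  · intro h x hx v hv
    obtain ⟨w, hw, rfl⟩ := Submodule.mem_map.mp hv
    simpa [Matrix.toLin'_apply] using h x hx w hw

/-- the sum map `(v_j) ↦ ∑ T_j v_j` -/
def sumMap (S : Submodule F (Fin n → F)) {k : ℕ} (T : Fin k → Matrix (Fin n) (Fin n) F) :
    (Fin k → S) →ₗ[F] (Fin n → F) :=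
  ∑ j, (Matrix.toLin' (T j)).comp (S.subtype.comp (LinearMap.proj j))

lemma sumMap_apply (S : Submodule F (Fin n → F)) {k : ℕ} (T : Fin k → Matrix (Fin n) (Fin n) F)
    (v : Fin k → S) : sumMap S T v = ∑ j, (T j).mulVec (v j : Fin n → F) := by
  simp [sumMap, LinearMap.sum_apply, Matrix.toLin'_apply]

lemma sumMap_cons (S : Submodule F (Fin n → F)) {k : ℕ} (T₀ : Matrix (Fin n) (Fin n) F)
    (T : Fin k → Matrix (Fin n) (Fin n) F) (v : Fin (k + 1) → S) :
    sumMap S (Fin.cons T₀ T : Fin (k + 1) → Matrix (Fin n) (Fin n) F) v =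
      T₀.mulVec (v 0 : Fin n → F) + sumMap S T (fun j => v j.succ) := by
  rw [sumMap_apply, sumMap_apply, Fin.sum_univ_succ]
  simp

/-- the range of the sum map is `X`-invariant -/
lemma sumMap_range_xinv {X : Subgroup (GL (Fin n) F)} {S : Submodule F (Fin n → F)}
    (hSinv : XInv X S) {k : ℕ} (T : Fin k → Matrix (Fin n) (Fin n) F) (hT : ∀ j, T j ∈ Cen X) :
    XInv X (LinearMap.range (sumMap S T)) := by
  rw [xinv_iff] at hSinv ⊢
  rintro x hx _ ⟨v, rfl⟩
  refine ⟨fun j => ⟨(x : Matrix (Fin n) (Fin n) F).mulVec (v j : Fin n → F),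
    hSinv x hx _ (v j).2⟩, ?_⟩
  rw [sumMap_apply, sumMap_apply, Matrix.mulVec_sum]
  refine Finset.sum_congr rfl (fun j _ => ?_)
  have := (mem_Cen.mp (hT j)) x hx
  simp only [Matrix.mulVec_mulVec, this]

/-- STR1 -/
theorem homog_decomp {X : Subgroup (GL (Fin n) F)} {S : Submodule F (Fin n → F)}
    (hS0 : S ≠ ⊥) (hSinv : XInv X S)
    (hmin : ∀ W : Submodule F (Fin n → F), W ≤ S → XInv X W → W = ⊥ ∨ W = S)
    (hspan : (⨆ T : Cen X, S.map (Matrix.toLin' (T : Matrix (Fin n) (Fin n) F))) = ⊤) :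
    ∃ (k : ℕ) (T : Fin k → Matrix (Fin n) (Fin n) F), (∀ j, T j ∈ Cen X) ∧
      Function.Bijective (fun v : Fin k → S => ∑ j, (T j).mulVec (v j : Fin n → F)) := by
  classical
  -- the set of admissible lengths
  let K : Set ℕ := {k | ∃ T : Fin k → Matrix (Fin n) (Fin n) F, (∀ j, T j ∈ Cen X) ∧
    Function.Injective (sumMap S T)}
  have hK0 : (0 : ℕ) ∈ K := by
    refine ⟨fun j => j.elim0, fun j => j.elim0, ?_⟩
    intro v w _
    exact Subsingleton.elim _ _
  have hSpos : 1 ≤ Module.finrank F S := by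
    rw [Nat.succ_le_iff, Module.finrank_pos_iff_exists_ne_zero]
    obtain ⟨v, hv, hv0⟩ := (Submodule.ne_bot_iff S).mp hS0
    exact ⟨⟨v, hv⟩, fun h => hv0 (congrArg Subtype.val h)⟩
  have hKb : ∀ k ∈ K, k ≤ n := by
    rintro k ⟨T, -, hinj⟩
    have h1 := LinearMap.finrank_le_finrank_of_injective hinj
    rw [Module.finrank_pi_fintype, Finset.sum_const, Finset.card_univ, Fintype.card_fin,
      smul_eq_mul, Module.finrank_fintype_fun_eq_card, Fintype.card_fin] at h1
    nlinarith
  have hbdd : BddAbove K := ⟨n, hKb⟩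
  have hmem := Nat.sSup_mem ⟨0, hK0⟩ hbdd
  set k := sSup K with hk
  obtain ⟨T, hT, hinj⟩ := hmem
  refine ⟨k, T, hT, ?_⟩
  have hfun : (fun v : Fin k → S => ∑ j, (T j).mulVec (v j : Fin n → F)) = sumMap S T := by
    funext v
    rw [sumMap_apply]
  rw [hfun]
  refine ⟨hinj, ?_⟩
  rw [← LinearMap.range_eq_top]
  by_contra hW
  set W := LinearMap.range (sumMap S T) with hWdef
  have hWinv : XInv X W := sumMap_range_xinv hSinv T hT
  -- some translate is not contained in `W`
  obtain ⟨T₀, hT₀, hT₀W⟩ : ∃ T₀ ∈ Cen X, ¬ S.map (Matrix.toLin' T₀) ≤ W := by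
    by_contra hall
    push Not at hall
    apply hW
    rw [eq_top_iff, ← hspan]
    exact iSup_le (fun T' => hall T'.1 T'.2)
  -- `S' = {u ∈ S | T₀ u ∈ W}` is `X`-invariant
  set S' : Submodule F (Fin n → F) := S ⊓ W.comap (Matrix.toLin' T₀) with hS'
  have hS'inv : XInv X S' := by
    rw [xinv_iff] at hSinv hWinv ⊢
    rintro x hx u ⟨hu1, hu2⟩
    refine ⟨hSinv x hx u hu1, ?_⟩
    simp only [SetLike.mem_coe, Submodule.mem_comap, Matrix.toLin'_apply] at hu2 ⊢
    have := (mem_Cen.mp hT₀) x hx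
    rw [Matrix.mulVec_mulVec, ← this, ← Matrix.mulVec_mulVec]
    exact hWinv x hx _ hu2
  have hS'bot : S' = ⊥ := by
    rcases hmin S' inf_le_left hS'inv with h | h
    · exact h
    · exfalso
      apply hT₀W
      rintro _ ⟨u, hu, rfl⟩
      have : u ∈ S' := by rw [h]; exact hu
      exact this.2
  -- the longer family is still injective
  have hk1 : k + 1 ∈ K := by
    refine ⟨Fin.cons T₀ T, ?_, ?_⟩
    · intro j
      refine Fin.cases ?_ (fun i => ?_) j
      · simpa using hT₀
      · simpa using hT i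
    · rw [← LinearMap.ker_eq_bot, LinearMap.ker_eq_bot']
      intro v hv
      rw [sumMap_cons] at hv
      have h0 : (v 0 : Fin n → F) ∈ S' := by
        refine ⟨(v 0).2, ?_⟩
        simp only [SetLike.mem_coe, Submodule.mem_comap, Matrix.toLin'_apply]
        have : T₀.mulVec (v 0 : Fin n → F) = - sumMap S T (fun j => v j.succ) :=
          eq_neg_of_add_eq_zero_left hv
        rw [this]
        exact W.neg_mem ⟨_, rfl⟩
      rw [hS'bot, Submodule.mem_bot] at h0
      rw [h0, Matrix.mulVec_zero, zero_add] at hv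
      have h1 : (fun j : Fin k => v j.succ) = 0 := by
        apply hinj
        rw [hv, map_zero]
      funext j
      refine Fin.cases ?_ (fun i => ?_) j
      · exact Subtype.ext h0
      · exact congrFun h1 i
  have := le_csSup hbdd hk1
  omega

end Cfsg.Agent.Lib.Helper20.AschLeaf
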