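import Mathlib
import Cfsg.Agent.Lib.Helper20.AschDefs
import Cfsg.Agent.Lib.Helper20.AschSTR1
import Cfsg.Agent.Lib.Helper29.AschSTR2

/-!
S5630 (A23/TS), leaf STR `homog_structure`: a homogeneous group is a multiple of an irreducible group
(assembly of STR1 `homog_decomp` and STR2 `multiple_of_decomp`).
-/

set_option autoImplicit false
set_option linter.unusedSectionVars false
set_option linter.unusedVariables false

namespace Cfsg.Agent.Lib.Helper20.AschLeaf
open Matrix Cfsg.Geo Cfsg.Agent.Lib.Helper20.Asch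
open scoped Kronecker

variable {F : Type*} [Field F] {n : ℕ}

/-- STR -/
theorem homog_structure {X : Subgroup (GL (Fin n) F)} (hn : 0 < n) (hhom : Homog X) :
    ∃ (s k : ℕ) (e : Fin n ≃ Fin s × Fin k) (P : GL (Fin n) F) (R : Subgroup (GL (Fin s) F)),
      0 < s ∧ 0 < k ∧ Irr R ∧ IsMultipleOf X R e P := by
  obtain ⟨S, hS0, hSinv, hmin, hspan⟩ := hhom
  obtain ⟨k, T, hT, hbij⟩ := Cfsg.Agent.Lib.Helper20.AschLeaf.homog_decomp hS0 hSinv hmin hspan
  obtain ⟨s, e, P, R, hs, hk, hR, hmul⟩ :=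
    Cfsg.Agent.Lib.Helper29.AschLeaf.multiple_of_decomp hn hS0 hSinv hmin T hT hbij
  exact ⟨s, k, e, P, R, hs, hk, hR, hmul⟩

end Cfsg.Agent.Lib.Helper20.AschLeaf
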