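import Mathlib
import Cfsg.Agent.Lib.Helper20.AschDefs
import Cfsg.Agent.Lib.Helper20.AschENVS
import Cfsg.Agent.Lib.Helper20.AschSTR
import Cfsg.Agent.Lib.Helper12.AschBurnside
import Cfsg.Agent.Lib.Helper23.AschSCH
import Cfsg.Agent.Lib.Helper23.AschKR

/-!
S5630, block (A23), sub-block TS/KF1: the structure of a homogeneous group.
`zcen_isField` (KF1) and `tensor_of_homog` (TS), assembled from the leaves STR, SCH, BLK, ENVS, KR and B0.
-/

set_option autoImplicit false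
set_option linter.unusedSectionVars false
set_option linter.unusedVariables false

namespace Cfsg.Agent.Lib.Helper20.AschLeaf
open Matrix Cfsg.Geo Cfsg.Agent.Lib.Helper20.Asch
open scoped Kronecker

variable {F : Type*} [Field F] [Fintype F] {n : ℕ}

/-- KF1 -/
theorem zcen_isField {X : Subgroup (GL (Fin n) F)} (hn : 0 < n) (hhom : Homog X) :
    IsFieldSubalgebra (Module.finrank F (ZCen X)) (ZCen X) := by
  obtain ⟨s, k, e, P, R, hs, hk, hR, hmul⟩ :=
    Cfsg.Agent.Lib.Helper20.AschLeaf.homog_structure hn hhom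
  have hfld := Cfsg.Agent.Lib.Helper23.AschLeaf.cen_isField_of_irr hs hR
  have hz := Cfsg.Agent.Lib.Helper20.AschLeaf.zcen_of_multiple hk hmul hfld.comm
  refine ⟨?_, ?_, rfl⟩
  · intro x hx y hy
    obtain ⟨a, ha, rfl⟩ := (hz x).mp hx
    obtain ⟨b, hb, rfl⟩ := (hz y).mp hy
    rw [← conjR_mul, ← conjR_mul, ← Matrix.mul_kronecker_mul, ← Matrix.mul_kronecker_mul,
      hfld.comm a ha b hb]
  · intro x hx hx0
    obtain ⟨a, ha, rfl⟩ := (hz x).mp hx
    have ha0 : a ≠ 0 := by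
      rintro rfl
      apply hx0
      rw [Matrix.zero_kronecker]
      unfold conjR
      simp
    obtain ⟨b, hb, hab⟩ := hfld.inv a ha ha0
    refine ⟨conjR e P (b ⊗ₖ (1 : Matrix (Fin k) (Fin k) F)), (hz _).mpr ⟨b, hb, rfl⟩, ?_⟩
    rw [← conjR_mul, ← Matrix.mul_kronecker_mul, hab, Matrix.one_mul, Matrix.one_kronecker_one,
      conjR_one]

/-- TS -/
theorem tensor_of_homog {X : Subgroup (GL (Fin n) F)} (hn : 0 < n) (hhom : Homog X)
    (hZ : ∀ T ∈ ZCen X, ∃ c : F, T = c • (1 : Matrix (Fin n) (Fin n) F)) :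
    ∃ (s k : ℕ) (e : Fin n ≃ Fin s × Fin k) (P : GL (Fin n) F),
      (∀ A : Matrix (Fin s) (Fin s) F, conjR e P (A ⊗ₖ (1 : Matrix (Fin k) (Fin k) F)) ∈ Env X) ∧
      (∀ T ∈ Env X, ∃ A : Matrix (Fin s) (Fin s) F,
        T = conjR e P (A ⊗ₖ (1 : Matrix (Fin k) (Fin k) F))) := by
  obtain ⟨s, k, e, P, R, hs, hk, hR, hmul⟩ :=
    Cfsg.Agent.Lib.Helper20.AschLeaf.homog_structure hn hhom
  have hfld := Cfsg.Agent.Lib.Helper23.AschLeaf.cen_isField_of_irr hs hR
  have hz := Cfsg.Agent.Lib.Helper20.AschLeaf.zcen_of_multiple hk hmul hfld.comm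
  have habs : AbsIrr R := by
    refine ⟨hR, ?_⟩
    intro M hM
    have hMc : M ∈ Cen R := by
      rw [mem_Cen]
      intro x hx
      exact (hM _ ⟨x, hx, rfl⟩).symm
    obtain ⟨c, hc⟩ := hZ _ ((hz _).mpr ⟨M, hMc, rfl⟩)
    refine ⟨c, ?_⟩
    apply Cfsg.Agent.Lib.Helper23.AschLeaf.kron_one_injective hk
    apply conjR_injective e P
    rw [hc, Matrix.smul_kronecker, Matrix.one_kronecker_one, conjR_smul, conjR_one]
  have hB := Cfsg.Agent.Lib.Helper12.AschLeaf.burnside habs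
  refine ⟨s, k, e, P, ?_, ?_⟩
  · intro A
    exact (Cfsg.Agent.Lib.Helper20.AschLeaf.env_of_multiple hmul _).mpr
      ⟨A, by rw [hB]; trivial, rfl⟩
  · intro T hT
    obtain ⟨A, -, rfl⟩ := (Cfsg.Agent.Lib.Helper20.AschLeaf.env_of_multiple hmul _).mp hT
    exact ⟨A, rfl⟩

end Cfsg.Agent.Lib.Helper20.AschLeaf
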