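import Mathlib
import Cfsg.Agent.Lib.Helper20.AschDefs
import Cfsg.Agent.Lib.Helper18.AschA89Defs
import Cfsg.Agent.Lib.Helper20.AschA89F2
import Cfsg.Agent.Lib.Helper20.AschA89PS
import Cfsg.Agent.Lib.Helper20.AschA89WR
import Cfsg.Agent.Lib.Helper20.AschTS
import Cfsg.Agent.Lib.Helper15.AschCL
import Cfsg.Agent.Lib.Helper29.AschS1K1
import Cfsg.Agent.Lib.Helper14.AschA89G
import Cfsg.Agent.Lib.Helper14.AschA89G2f
import Cfsg.Agent.Lib.Helper14.AschA89Simp
import Cfsg.Agent.Lib.Helper28.AschA89Irr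
import Cfsg.Agent.Lib.Helper28.AschA89L1
import Cfsg.Agent.Lib.Helper28.AschA89Lin
import Cfsg.Agent.Lib.Helper28.AschA89WRT
import Cfsg.Agent.Lib.Helper4.AschA89L2

/-!
S5630 (A89): block theorem `geo_or_simple` (assembly of the landed leaves; text of the assembly by sub-planner helper18, `notes/S5630_A89_leaves.lean`).
-/

set_option autoImplicit false
set_option linter.unusedSectionVars false
set_option linter.unusedVariables false

namespace Cfsg.Agent.Lib.Helper20.AschA89Asm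
open Matrix Cfsg.Geo Cfsg.Agent.Lib.Helper20.Asch Cfsg.Agent.Lib.Helper18.AschA89
open scoped Kronecker
open Cfsg.Agent.Lib.Helper15.AschLeaf (clifford)
open Cfsg.Agent.Lib.Helper20.AschLeaf (tensor_of_homog mem_tensorWreathStandard_of_perm)
open Cfsg.Agent.Lib.Helper29.AschLeaf (scalar_of_tensor_one)
open Cfsg.Agent.Lib.Helper14.AschLeaf (simple_of_core exists_minNS_le minNS_cj minNS_comm_mod iSup_cj_eq minNS_perfect commute_of_comm_mod cfam_of_conjugates)
open Cfsg.Agent.Lib.Helper28.AschLeaf (homog_of_cfam isUnits_conjR conjR_kron_eq_sum isUnits_conj env_cj env_cj_inv env_commute irr_units_of_cfam slot_eq_sum mem_tensorWreath_of_perm)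
open Cfsg.Agent.Lib.Helper4.AschLeaf (zcen_scalar_of_cfam)

variable {F : Type*} [Field F] [Fintype F] {n : ℕ} {H N : Subgroup (GL (Fin n) F)}

/-! ## assembly -/

/-- GT: the commuting family. -/
theorem cfam_exists {M : Subgroup (GL (Fin n) F)} (hnorm : NormBy H N) (hns : ¬ N ≤ scalars (Fin n) F)
    (hmin : ∀ M : Subgroup (GL (Fin n) F), M ≤ N → NormBy H M → M = N ∨ M ≤ scalars (Fin n) F)
    (hperf : ⁅N, N⁆ = N) (hM : MinNS N M) (hMN : M ≠ N) :
    ∃ (r : ℕ) (Nf : Fin r → Subgroup (GL (Fin n) F)), CFam H N r Nf := by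
  have hsup := iSup_cj_eq hnorm hmin hM
  have hmns : ∀ h ∈ H, MinNS N (cj h M) := fun h hh => minNS_cj hnorm h hh hM
  have hperfM : ∀ h ∈ H, ⁅cj h M, cj h M⁆ = cj h M := by
    intro h hh
    have hsup' : (⨆ h' : H, cj (h' : GL (Fin n) F) (cj h M)) = N :=
      iSup_cj_eq hnorm hmin (hmns h hh)
    refine minNS_perfect hns hperf (hmns h hh) hsup' ?_
    intro h₁ hh₁ h₂ hh₂ hne
    exact minNS_comm_mod (minNS_cj hnorm h₁ hh₁ (hmns h hh)) (minNS_cj hnorm h₂ hh₂ (hmns h hh)) hne
  refine cfam_of_conjugates hMN hsup hmns ?_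
  intro h₁ hh₁ h₂ hh₂ hne
  exact commute_of_comm_mod (hperfM h₂ hh₂) (minNS_comm_mod (hmns h₁ hh₁) (hmns h₂ hh₂) hne)

/-- LIN: the tensor wreath structure. -/
theorem wreath_of_cfam (hn : 3 ≤ n) {r : ℕ} {Nf : Fin r → Subgroup (GL (Fin n) F)}
    (hfam : CFam H N r Nf) (habs : AbsIrr N) :
    ∃ (m : ℕ) (e : Fin n ≃ (Fin r → Fin m)) (P : GL (Fin n) F),
      2 ≤ m ∧ H ≤ tensorWreathSubgroup m r e P := by
  have hn0 : 0 < n := by omega
  have hr : 0 < r := by have := hfam.two_le; omega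
  let i₀ : Fin r := ⟨0, hr⟩
  have hirrN : Irr N := habs.1
  obtain ⟨s, k, e₁, P₁, h1, h2⟩ :=
    tensor_of_homog hn0 (homog_of_cfam hn0 hfam hirrN i₀
      (clifford hn0 hirrN (hfam.le i₀) (hfam.normN i₀))) (zcen_scalar_of_cfam hfam habs i₀)
  choose hs hsH hsc using fun i => hfam.trans i₀ i
  let U : Fin s → Fin s → Matrix (Fin n) (Fin n) F := fun a b =>
    conjR e₁ P₁ (Matrix.single a b (1 : F) ⊗ₖ (1 : Matrix (Fin k) (Fin k) F))
  let E : Fin r → Fin s → Fin s → Matrix (Fin n) (Fin n) F := fun i a b =>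
    ((hs i : GL (Fin n) F) : Matrix (Fin n) (Fin n) F) * U a b *
      (((hs i)⁻¹ : GL (Fin n) F) : Matrix (Fin n) (Fin n) F)
  have hU : IsUnits U := isUnits_conjR e₁ P₁
  have hEmem : ∀ i a b, E i a b ∈ Env (Nf i) := by
    intro i a b
    rw [← hsc i]
    exact env_cj (hs i) (Nf i₀) _ (h1 _)
  have hval : ∀ i, ((hs i : GL (Fin n) F) : Matrix (Fin n) (Fin n) F) *
      (((hs i)⁻¹ : GL (Fin n) F) : Matrix (Fin n) (Fin n) F) = 1 := by
    intro i
    rw [← Units.val_mul, mul_inv_cancel, Units.val_one]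
  have hspan : ∀ i, ∀ T ∈ Env (Nf i), ∃ A : Matrix (Fin s) (Fin s) F,
      T = ∑ a, ∑ b, A a b • E i a b := by
    intro i T hT
    rw [← hsc i] at hT
    obtain ⟨A, hA⟩ := h2 _ (env_cj_inv (hs i) (Nf i₀) T hT)
    refine ⟨A, ?_⟩
    have h3 : T = ((hs i : GL (Fin n) F) : Matrix (Fin n) (Fin n) F) *
        ((((hs i)⁻¹ : GL (Fin n) F) : Matrix (Fin n) (Fin n) F) * T *
          ((hs i : GL (Fin n) F) : Matrix (Fin n) (Fin n) F)) *
        (((hs i)⁻¹ : GL (Fin n) F) : Matrix (Fin n) (Fin n) F) := by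
      rw [← mul_assoc, ← mul_assoc, hval i, one_mul, mul_assoc, hval i, mul_one]
    rw [h3, hA, conjR_kron_eq_sum]
    simp only [E, U, Finset.mul_sum, Finset.sum_mul, Matrix.mul_smul, Matrix.smul_mul]
  have hEunits : IsCommUnits E := by
    refine ⟨fun i => isUnits_conj U hU (hs i), ?_⟩
    intro i j hij a b c d
    exact env_commute (hfam.comm i j hij) _ (hEmem i a b) _ (hEmem j c d)
  obtain ⟨e, P, hEP⟩ := product_system hn0 E hEunits (irr_units_of_cfam hfam hirrN E hspan)
  -- Env (Nf i) = slot i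
  have hslot_mem : ∀ i, ∀ A : Matrix (Fin s) (Fin s) F, conjR e P (slot s r i A) ∈ Env (Nf i) := by
    intro i A
    rw [slot_eq_sum, ← Finset.sum_comm]
    have : conjR e P (∑ b, ∑ a, A a b • slot s r i (Matrix.single a b (1 : F))) =
        ∑ b, ∑ a, A a b • E i a b := by
      have hadd : ∀ (ι : Type) (t : Finset ι) (f : ι → Matrix (Fin r → Fin s) (Fin r → Fin s) F),
          conjR e P (∑ x ∈ t, f x) = ∑ x ∈ t, conjR e P (f x) := by
        intro ι t f
        classical
        induction t using Finset.induction_on with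
        | empty =>
          simp only [Finset.sum_empty]
          have := conjR_smul e P (0 : F) (0 : Matrix (Fin r → Fin s) (Fin r → Fin s) F)
          simpa using this
        | insert a t ha ih => rw [Finset.sum_insert ha, Finset.sum_insert ha, conjR_add, ih]
      rw [hadd]
      refine Finset.sum_congr rfl fun b _ => ?_
      rw [hadd]
      refine Finset.sum_congr rfl fun a _ => ?_
      rw [conjR_smul, hEP]
    rw [this]
    refine Subalgebra.sum_mem _ fun b _ => Subalgebra.sum_mem _ fun a _ => ?_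
    exact Subalgebra.smul_mem _ (hEmem i a b) _
  have hslot_of : ∀ i, ∀ T ∈ Env (Nf i), ∃ A : Matrix (Fin s) (Fin s) F,
      T = conjR e P (slot s r i A) := by
    intro i T hT
    obtain ⟨A, hA⟩ := hspan i T hT
    refine ⟨A, ?_⟩
    rw [hA, slot_eq_sum]
    have hadd : ∀ (ι : Type) (t : Finset ι) (f : ι → Matrix (Fin r → Fin s) (Fin r → Fin s) F),
        conjR e P (∑ x ∈ t, f x) = ∑ x ∈ t, conjR e P (f x) := by
      intro ι t f
      classical
      induction t using Finset.induction_on with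
      | empty =>
        simp only [Finset.sum_empty]
        have := conjR_smul e P (0 : F) (0 : Matrix (Fin r → Fin s) (Fin r → Fin s) F)
        simpa using this
      | insert a t ha ih => rw [Finset.sum_insert ha, Finset.sum_insert ha, conjR_add, ih]
    rw [hadd]
    refine Finset.sum_congr rfl fun a _ => ?_
    rw [hadd]
    refine Finset.sum_congr rfl fun b _ => ?_
    rw [conjR_smul, hEP]
  -- s ≥ 2
  have hs2 : 2 ≤ s := by
    by_contra hlt
    have hs01 : s = 0 ∨ s = 1 := by omega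
    rcases hs01 with h0 | h1'
    · subst h0
      have hcard := Fintype.card_congr e₁
      simp at hcard
      omega
    · subst h1'
      exact hfam.ns i₀ (scalar_of_tensor_one e₁ P₁ h2)
  refine ⟨s, e, P, hs2, ?_⟩
  intro h hh
  obtain ⟨σ, hσ⟩ := hfam.perm h hh
  apply mem_tensorWreath_of_perm e P h σ
    (fun g₀ hg₀ => mem_tensorWreathStandard_of_perm hr g₀ σ hg₀)
  intro i A
  have h4 := env_cj h (Nf i) _ (hslot_mem i A)
  rw [hσ i] at h4
  exact hslot_of (σ i) _ h4

/-- FIN: from the wreath structure to a geometric class. -/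
theorem geo_of_tensorWreath {m t : ℕ} (hm : 2 ≤ m) (ht : 2 ≤ t) (e : Fin n ≃ (Fin t → Fin m))
    (P : GL (Fin n) F) (hH : H ≤ tensorWreathSubgroup m t e P) : Geo H := by
  rcases Nat.lt_or_ge m 3 with h3 | h3
  · have hm2 : m = 2 := by omega
    subst hm2
    exact geo_of_tensorWreath_two ht e P hH
  · exact Geo.of_C7 m t e P h3 ht hH

/-- the core: a proper non-scalar `N`-normal subgroup of `N` forces a geometric class. -/
theorem core (hn : 3 ≤ n) (hqp : QP H) (hN : N ≤ H) (hnorm : NormBy H N)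
    (hns : ¬ N ≤ scalars (Fin n) F)
    (hmin : ∀ M : Subgroup (GL (Fin n) F), M ≤ N → NormBy H M → M = N ∨ M ≤ scalars (Fin n) F)
    (hperf : ⁅N, N⁆ = N) (K : Subgroup (GL (Fin n) F)) (hK : K ≤ N) (hKn : NormBy N K)
    (hKs : ¬ K ≤ scalars (Fin n) F) (hKN : K ≠ N) : Geo H := by
  obtain ⟨M, hMK, hM⟩ := exists_minNS_le K hK hKn hKs
  have hMN : M ≠ N := by
    rintro rfl
    exact hKN (le_antisymm hK hMK)
  obtain ⟨r, Nf, hfam⟩ := cfam_exists hnorm hns hmin hperf hM hMN
  have habs : AbsIrr N := (hqp N hN hnorm).resolve_left hns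
  obtain ⟨m, e, P, hm, hH⟩ := wreath_of_cfam hn hfam habs
  exact geo_of_tensorWreath hm hfam.two_le e P hH

/-- (A89) THE PERFECT CASE - the block theorem, EXACT signature of `notes/S5630_leaves.lean`. -/
theorem geo_or_simple (hn : 3 ≤ n) (hirr : Irr H) (hqp : QP H) (hN : N ≤ H)
    (hnorm : NormBy H N) (hns : ¬ N ≤ scalars (Fin n) F)
    (hmin : ∀ M : Subgroup (GL (Fin n) F), M ≤ N → NormBy H M → M = N ∨ M ≤ scalars (Fin n) F)
    (hperf : ⁅N, N⁆ = N) :
    Geo H ∨ IsSimpleGroup (N ⧸ (scalars (Fin n) F).subgroupOf N) :=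
  simple_of_core hns fun K hK hKn hKs hKN =>
    core hn hqp hN hnorm hns hmin hperf K hK hKn hKs hKN



end Cfsg.Agent.Lib.Helper20.AschA89Asm
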