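import Mathlib
import Cfsg.Prelude.Def_GeometricClasses
import Cfsg.Agent.Lib.Helper20.AschDefs

/-!
FORM-CLIFFORD block (shared by S5662 symplectic, S5663 unitary, S5673 odd orthogonal; sub-planner helper20): definitions.

`V = F^n` (column vectors, index `Fin n`), `f : V → V → F` a reflexive non-degenerate form, linear in the first argument and
`σ`-semilinear in the second (`RSForm σ f`), `Y ≤ GL_n(F)` a group of isometries of `f` (`Isoms Y f`), `X ⊴ Y`.
`CDec X Y m D` = the output of Clifford's theorem with the minimality clause (`D` = the homogeneous components of `V|_X`).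
Outcomes: `OutA f Y` (a non-degenerate decomposition stabilised, and permuted transitively, by `Y`), `OutB f Y` (a pair of
complementary totally singular subspaces stabilised by `Y`).
-/

set_option autoImplicit false
set_option linter.unusedSectionVars false
set_option linter.unusedVariables false

namespace Cfsg.Agent.Lib.Helper20.FC
open Matrix Cfsg.Geo Cfsg.Agent.Lib.Helper20.Asch

variable {F : Type*} [Field F] {n : ℕ}

/-- a reflexive, non-degenerate form, linear in the first and `σ`-semilinear in the second argument -/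
structure RSForm (σ : F →+* F) (f : (Fin n → F) → (Fin n → F) → F) : Prop where
  add_left : ∀ x y v, f (x + y) v = f x v + f y v
  smul_left : ∀ (c : F) (x v : Fin n → F), f (c • x) v = c * f x v
  add_right : ∀ v x y, f v (x + y) = f v x + f v y
  smul_right : ∀ (c : F) (v x : Fin n → F), f v (c • x) = σ c * f v x
  refl : ∀ u v, f u v = 0 → f v u = 0
  nondeg : IsNondegenerateForm f

/-- every element of `Y` is an isometry of `f` -/
def Isoms (Y : Subgroup (GL (Fin n) F)) (f : (Fin n → F) → (Fin n → F) → F) : Prop :=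
  ∀ y ∈ Y, ∀ u v, f ((y : Matrix (Fin n) (Fin n) F) *ᵥ u) ((y : Matrix (Fin n) (Fin n) F) *ᵥ v) = f u v

/-- Clifford data: the homogeneous components of `V|_X`, `X ⊴ Y`, with the minimality clause -/
structure CDec (X Y : Subgroup (GL (Fin n) F)) {t : ℕ} (m : ℕ) (D : Fin t → Submodule F (Fin n → F)) : Prop where
  dec : IsMDecomposition m D
  stab : Y ≤ decompositionStabilizer D
  cen : ∀ T : Matrix (Fin n) (Fin n) F, T ∈ Cen X → ∀ i, (D i).map (Matrix.toLin' T) ≤ D i
  xinv : ∀ x ∈ X, ∀ i, (D i).map (Matrix.toLin' (x : Matrix (Fin n) (Fin n) F)) ≤ D i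
  trans : ∀ i j, ∃ y ∈ Y, (D i).map (Matrix.toLin' (y : Matrix (Fin n) (Fin n) F)) = D j
  hom : ∀ i, ∀ U : Submodule F (Fin n → F), U ≤ D i → XInv X U →
    (∀ T : Matrix (Fin n) (Fin n) F, T ∈ Cen X → U.map (Matrix.toLin' T) ≤ U) → U = ⊥ ∨ U = D i

/-- outcome (A): a non-degenerate decomposition stabilised and permuted transitively by `Y` -/
def OutA (f : (Fin n → F) → (Fin n → F) → F) (Y : Subgroup (GL (Fin n) F)) : Prop :=
  ∃ (t k : ℕ) (D : Fin t → Submodule F (Fin n → F)), IsNondegenerateMDecomposition f k D ∧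
    Y ≤ decompositionStabilizer D ∧
    ∀ i j, ∃ y ∈ Y, (D i).map (Matrix.toLin' (y : Matrix (Fin n) (Fin n) F)) = D j

/-- outcome (B): a pair of complementary totally singular subspaces stabilised by `Y` -/
def OutB (f : (Fin n → F) → (Fin n → F) → F) (Y : Subgroup (GL (Fin n) F)) : Prop :=
  ∃ (k : ℕ) (D : Fin 2 → Submodule F (Fin n → F)), 2 * k = n ∧ IsMDecomposition k D ∧
    (∀ i, IsTotallySingularFor f (D i)) ∧ Y ≤ decompositionStabilizer D

/-! ### basic calculus of an `RSForm` -/

namespace RSForm
variable {σ : F →+* F} {f : (Fin n → F) → (Fin n → F) → F}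

lemma zero_left (hf : RSForm σ f) (v : Fin n → F) : f 0 v = 0 := by
  have := hf.smul_left 0 0 v
  simpa using this

lemma zero_right (hf : RSForm σ f) (v : Fin n → F) : f v 0 = 0 := by
  have := hf.smul_right 0 v 0
  simpa using this

lemma neg_left (hf : RSForm σ f) (u v : Fin n → F) : f (-u) v = - f u v := by
  have := hf.smul_left (-1) u v
  simpa using this

lemma neg_right (hf : RSForm σ f) (u v : Fin n → F) : f u (-v) = - f u v := by
  have := hf.smul_right (-1) u v
  simpa using this

lemma sub_left (hf : RSForm σ f) (u u' v : Fin n → F) : f (u - u') v = f u v - f u' v := by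
  rw [sub_eq_add_neg, hf.add_left, hf.neg_left, ← sub_eq_add_neg]

lemma sub_right (hf : RSForm σ f) (u v v' : Fin n → F) : f u (v - v') = f u v - f u v' := by
  rw [sub_eq_add_neg, hf.add_right, hf.neg_right, ← sub_eq_add_neg]

lemma sum_left (hf : RSForm σ f) {κ : Type*} (s : Finset κ) (u : κ → Fin n → F) (v : Fin n → F) :
    f (∑ k ∈ s, u k) v = ∑ k ∈ s, f (u k) v := by
  classical
  induction s using Finset.induction_on with
  | empty => simp [hf.zero_left]
  | insert a s ha ih => rw [Finset.sum_insert ha, Finset.sum_insert ha, hf.add_left, ih]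

lemma sum_right (hf : RSForm σ f) {κ : Type*} (s : Finset κ) (u : Fin n → F) (v : κ → Fin n → F) :
    f u (∑ k ∈ s, v k) = ∑ k ∈ s, f u (v k) := by
  classical
  induction s using Finset.induction_on with
  | empty => simp [hf.zero_right]
  | insert a s ha ih => rw [Finset.sum_insert ha, Finset.sum_insert ha, hf.add_right, ih]

/-- vectors are separated by the form (first argument) -/
lemma eq_of_left (hf : RSForm σ f) {a b : Fin n → F} (h : ∀ v, f a v = f b v) : a = b := by
  by_contra hne
  have h0 : a - b ≠ 0 := sub_ne_zero.mpr hne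
  obtain ⟨x, hx⟩ := (hf.nondeg _ h0).2
  apply hx
  rw [hf.sub_left, h x, sub_self]

/-- vectors are separated by the form (second argument) -/
lemma eq_of_right (hf : RSForm σ f) {a b : Fin n → F} (h : ∀ u, f u a = f u b) : a = b := by
  by_contra hne
  have h0 : a - b ≠ 0 := sub_ne_zero.mpr hne
  obtain ⟨x, hx⟩ := (hf.nondeg _ h0).1
  apply hx
  rw [hf.sub_right, h x, sub_self]

/-- orthogonality of subspaces is symmetric -/
lemma orth_symm (hf : RSForm σ f) {W W' : Submodule F (Fin n → F)} (h : AreOrthogonalFor f W W') :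
    AreOrthogonalFor f W' W := fun u hu v hv => hf.refl _ _ (h v hv u hu)

end RSForm

/-! ### the three families -/

lemma rs_of_symplectic {f : (Fin n → F) → (Fin n → F) → F} (hf : IsSymplecticForm f) :
    RSForm (RingHom.id F) f where
  add_left := hf.bilinear.add_left
  smul_left := hf.bilinear.smul_left
  add_right := hf.bilinear.add_right
  smul_right := fun c v x => by rw [hf.bilinear.smul_right]; rfl
  refl := fun u v h => by rw [hf.skew, h, neg_zero]
  nondeg := hf.nondegenerate

lemma rs_of_unitary {σ : F ≃+* F} {f : (Fin n → F) → (Fin n → F) → F} (hf : IsUnitaryForm σ f) :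
    RSForm (σ : F →+* F) f where
  add_left := hf.add_left
  smul_left := hf.smul_left
  add_right := fun v x y => by
    rw [hf.herm v (x + y), hf.add_left, map_add, ← hf.herm, ← hf.herm]
  smul_right := fun c v x => by
    rw [hf.herm v (c • x), hf.smul_left, map_mul, ← hf.herm]
    rfl
  refl := fun u v h => by rw [hf.herm, h, map_zero]
  nondeg := hf.nondegenerate

lemma rs_of_quad {Q : (Fin n → F) → F} (hQ : IsNondegenerateQuadraticForm Q) :
    RSForm (RingHom.id F) (QuadraticMap.polar Q) where
  add_left := hQ.polar_bilinear.add_left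
  smul_left := hQ.polar_bilinear.smul_left
  add_right := hQ.polar_bilinear.add_right
  smul_right := fun c v x => by rw [hQ.polar_bilinear.smul_right]; rfl
  refl := fun u v h => by rw [QuadraticMap.polar_comm, h]
  nondeg := hQ.nondegenerate

lemma isoms_of_fixesForm {Y : Subgroup (GL (Fin n) F)} {f : (Fin n → F) → (Fin n → F) → F}
    (h : FixesForm (matrixSet Y) f) : Isoms Y f :=
  fun y hy u v => h _ ⟨y, hy, rfl⟩ u v

lemma isoms_of_fixesQuadForm {Y : Subgroup (GL (Fin n) F)} {Q : (Fin n → F) → F}
    (h : FixesQuadForm (matrixSet Y) Q) : Isoms Y (QuadraticMap.polar Q) := by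
  intro y hy u v
  unfold QuadraticMap.polar
  rw [← Matrix.mulVec_add, h _ ⟨y, hy, rfl⟩, h _ ⟨y, hy, rfl⟩, h _ ⟨y, hy, rfl⟩]

lemma isoms_mono {X Y : Subgroup (GL (Fin n) F)} {f : (Fin n → F) → (Fin n → F) → F} (hX : X ≤ Y)
    (h : Isoms Y f) : Isoms X f := fun x hx => h x (hX hx)

end Cfsg.Agent.Lib.Helper20.FC
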