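import Mathlib

set_option autoImplicit false

/-!
# Miller's bound, part A

A multiply transitive permutation group containing a non-identity element of small
support contains a 3-cycle, hence the alternating group.
-/

namespace Cfsg.Agent.Lib.Helper20.Miller

open Equiv Equiv.Perm MulAction

theorem inv_app {α : Type*} (f : Perm α) (x : α) : f⁻¹ (f x) = x := by simp
theorem app_inv {α : Type*} (f : Perm α) (x : α) : f (f⁻¹ x) = x := by simp

variable {α : Type*} [Fintype α] [DecidableEq α]

/-- the explicit 3-cycle -/
theorem threeCycle_of_conj {y h : Perm α} {a c : α}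
    (hya : y a ≠ a) (hyc : y c = c)
    (hfix : ∀ z, y z ≠ z → z ≠ a → h z = z) (hac : h a = c) :
    IsThreeCycle (y⁻¹ * (h * y * h⁻¹)) := by
  set e := y⁻¹ a with he
  have hca : c ≠ a := fun hh => hya (hh ▸ hyc)
  have hea : e ≠ a := by
    intro hh
    apply hya
    have : y e = a := by simp [he]
    rw [hh] at this; exact this
  have hye : y e = a := by simp [he]
  have hemov : y e ≠ e := by rw [hye]; exact fun hh => hea hh.symm
  have hec : e ≠ c := by
    intro hh; apply hemov; rw [hh]; exact hyc
  have hsupp_inv : ∀ z, y z = z → y⁻¹ z = z := by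
    intro z hz; rw [Perm.inv_eq_iff_eq]; exact hz.symm
  -- d := h⁻¹ a is not moved by y
  have hd : y (h⁻¹ a) = h⁻¹ a := by
    by_contra hne
    by_cases hda : h⁻¹ a = a
    · have : h a = a := by
        have := congrArg h hda; simpa using this.symm
      exact hca (hac ▸ this)
    · have := hfix _ hne hda
      simp at this
      exact hda this.symm
  have key : y⁻¹ * (h * y * h⁻¹) = swap e a * swap e c := by
    ext x
    simp only [Perm.mul_apply]
    by_cases hxa : x = a
    · subst hxa
      rw [hd, app_inv]
      rw [swap_apply_of_ne_of_ne hea.symm hca.symm, swap_apply_right]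
    by_cases hxc : x = c
    · subst hxc
      have h1 : h⁻¹ (h a) = a := by simp
      rw [← hac, h1]
      have hb : y (y a) ≠ y a := fun hh => hya (y.injective hh)
      have hba : y a ≠ a := hya
      rw [hfix _ hb hba, inv_app]
      rw [hac, swap_apply_right, swap_apply_left]
    by_cases hxe : x = e
    · rw [hxe]
      have h1 : h⁻¹ e = e := by
        have := hfix e hemov hea
        rw [Perm.inv_eq_iff_eq]; exact this.symm
      rw [h1, hye, hac, hsupp_inv c hyc, swap_apply_left, swap_apply_of_ne_of_ne hec.symm hca]
    · rw [swap_apply_of_ne_of_ne hxe hxc, swap_apply_of_ne_of_ne hxe hxa]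
      by_cases hxm : y x = x
      · -- x not in support
        have hz : y (h⁻¹ x) = h⁻¹ x := by
          by_contra hne
          by_cases hza : h⁻¹ x = a
          · apply hxc
            have := congrArg h hza
            simp at this
            rw [this, hac]
          · have := hfix _ hne hza
            rw [app_inv] at this
            rw [← this] at hne
            exact hne hxm
        rw [hz, app_inv]
        exact hsupp_inv x hxm
      · have h1 : h⁻¹ x = x := by
          have := hfix x hxm hxa
          rw [Perm.inv_eq_iff_eq]; exact this.symm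
        rw [h1]
        have hyx : y (y x) ≠ y x := fun hh => hxm (y.injective hh)
        have hyxa : y x ≠ a := by
          intro hh; apply hxe; rw [he, ← hh]; simp
        rw [hfix _ hyx hyxa]
        simp
  rw [key]
  exact isThreeCycle_swap_mul_swap_same hea hec hca.symm

/-- A group which is `m`-transitive (`2 ≤ m < n`) and contains a non-identity element
moving at most `m` points contains the alternating group. -/
theorem alt_le_of_small_support (G : Subgroup (Perm α)) {m : ℕ} (hm2 : 2 ≤ m)
    (hG : IsMultiplyPretransitive G α m) (hmn : m < Fintype.card α)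
    {y : Perm α} (hy : y ∈ G) (hy1 : y ≠ 1) (hsupp : y.support.card ≤ m) :
    alternatingGroup α ≤ G := by
  have hcard : m ≤ Nat.card α := by rw [Nat.card_eq_fintype_card]; exact hmn.le
  have h2 : IsMultiplyPretransitive G α 2 := isMultiplyPretransitive_of_le hm2 hcard
  have hprim : IsPreprimitive G α := isPreprimitive_of_is_two_pretransitive h2
  set S := y.support with hS
  set s := S.card with hs
  have hs' : IsMultiplyPretransitive G α s :=
    isMultiplyPretransitive_of_le hsupp hcard
  -- a point in the support
  obtain ⟨a, ha⟩ : ∃ a, y a ≠ a := by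
    by_contra hh
    push Not at hh
    exact hy1 (Perm.ext hh)
  have haS : a ∈ S := by rw [hS, Perm.mem_support]; exact ha
  -- a point outside the support
  obtain ⟨c, hc⟩ : ∃ c, c ∉ S := by
    by_contra hh
    push Not at hh
    have : S = Finset.univ := Finset.eq_univ_iff_forall.mpr hh
    have h3 : s = Fintype.card α := by rw [hs, this, Finset.card_univ]
    omega
  have hyc : y c = c := by
    rw [hS, Perm.mem_support] at hc; push Not at hc; exact hc
  -- the two embeddings
  let e1 : Fin s ↪ α :=
    ⟨fun i => ((S.equivFin).symm i).1, fun i j hij => by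
      have := Subtype.ext hij
      exact (S.equivFin).symm.injective this⟩
  have he1S : ∀ i, e1 i ∈ S := fun i => ((S.equivFin).symm i).2
  let e2 : Fin s ↪ α :=
    ⟨fun i => if e1 i = a then c else e1 i, fun i j hij => by
      dsimp only at hij
      by_cases hi : e1 i = a
      · by_cases hj : e1 j = a
        · exact e1.injective (hi.trans hj.symm)
        · rw [if_pos hi, if_neg hj] at hij
          exact absurd (hij ▸ he1S j) hc
      · by_cases hj : e1 j = a
        · rw [if_neg hi, if_pos hj] at hij
          exact absurd (hij.symm ▸ he1S i) hc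
        · rw [if_neg hi, if_neg hj] at hij
          exact e1.injective hij⟩
  obtain ⟨g, hg⟩ := exists_smul_eq G e1 e2
  have hg' : ∀ i, (g : Perm α) (e1 i) = e2 i := by
    intro i
    have := congrArg (fun f : Fin s ↪ α => f i) hg
    exact this
  have hsurj : ∀ z ∈ S, ∃ i, e1 i = z := by
    intro z hz
    refine ⟨S.equivFin ⟨z, hz⟩, ?_⟩
    show ((S.equivFin).symm (S.equivFin ⟨z, hz⟩)).1 = z
    rw [Equiv.symm_apply_apply]
  have hfix : ∀ z, y z ≠ z → z ≠ a → (g : Perm α) z = z := by
    intro z hz hza
    have hzS : z ∈ S := by rw [hS, Perm.mem_support]; exact hz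
    obtain ⟨i, hi⟩ := hsurj z hzS
    have := hg' i
    rw [hi] at this
    rw [this]
    show (if e1 i = a then c else e1 i) = z
    rw [hi, if_neg hza]
  have hac : (g : Perm α) a = c := by
    obtain ⟨i, hi⟩ := hsurj a haS
    have := hg' i
    rw [hi] at this
    rw [this]
    show (if e1 i = a then c else e1 i) = c
    rw [hi, if_pos rfl]
  have h3 := threeCycle_of_conj ha hyc hfix hac
  have hmem : y⁻¹ * ((g : Perm α) * y * (g : Perm α)⁻¹) ∈ G :=
    G.mul_mem (G.inv_mem hy) (G.mul_mem (G.mul_mem g.2 hy) (G.inv_mem g.2))
  exact alternatingGroup_le_of_isPreprimitive_of_isThreeCycle_mem hprim h3 hmem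

end Cfsg.Agent.Lib.Helper20.Miller
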