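import Mathlib
import Cfsg.Agent.Lib.Helper20.MillerA

set_option autoImplicit false

/-!
# Miller's bound, part B

Orbits of prime length of a `p`-group; affine structure.
-/

namespace Cfsg.Agent.Lib.Helper20.Miller

open Equiv Equiv.Perm MulAction
open scoped commutatorElement

section PGroupOrbit

variable {Q : Type*} [Group Q] [Finite Q] {α : Type*} [MulAction Q α] {p : ℕ}

theorem stab_index (a : α) (hcard : (orbit Q a).ncard = p) :
    (stabilizer Q a).index = p := by
  rw [index_stabilizer, hcard]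

theorem stab_normal (hp : p.Prime) (hQ : IsPGroup p Q) (a : α)
    (hcard : (orbit Q a).ncard = p) : (stabilizer Q a).Normal := by
  have hidx := stab_index (Q := Q) a hcard
  have : Fact p.Prime := ⟨hp⟩
  obtain ⟨n, hn⟩ := IsPGroup.iff_card.mp hQ
  have hdvd : p ∣ Nat.card Q := hidx ▸ Subgroup.index_dvd_card _
  have hn0 : n ≠ 0 := by
    rintro rfl
    rw [hn, pow_zero] at hdvd
    exact hp.one_lt.ne' (Nat.dvd_one.mp hdvd)
  apply Subgroup.normal_of_index_eq_minFac_card
  rw [hidx, hn, hp.pow_minFac hn0]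

theorem stab_fixes_orbit (hp : p.Prime) (hQ : IsPGroup p Q) (a : α)
    (hcard : (orbit Q a).ncard = p) {s : Q} (hs : s ∈ stabilizer Q a) {b : α}
    (hb : b ∈ orbit Q a) : s • b = b := by
  have hN := stab_normal hp hQ a hcard
  obtain ⟨v, rfl⟩ := hb
  have h1 : v⁻¹ * s * v⁻¹⁻¹ ∈ stabilizer Q a := hN.conj_mem s hs v⁻¹
  rw [mem_stabilizer_iff] at h1
  have : s • v • a = v • ((v⁻¹ * s * v⁻¹⁻¹) • a) := by
    simp [mul_smul]
  rw [this, h1]

theorem quot_card (a : α) (hcard : (orbit Q a).ncard = p) :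
    Nat.card (Q ⧸ stabilizer Q a) = p := by
  rw [← Subgroup.index_eq_card]
  exact stab_index a hcard

theorem exists_pow_mem (hp : p.Prime) (hQ : IsPGroup p Q) (a : α)
    (hcard : (orbit Q a).ncard = p) {w : Q} (hw : w • a ≠ a) (v : Q) :
    ∃ j : ℕ, (w ^ j)⁻¹ * v ∈ stabilizer Q a := by
  have hN := stab_normal hp hQ a hcard
  have := hN
  have : Fact p.Prime := ⟨hp⟩
  have hc := quot_card (Q := Q) a hcard
  have hw1 : (QuotientGroup.mk w : Q ⧸ stabilizer Q a) ≠ 1 := by
    intro h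
    rw [QuotientGroup.eq_one_iff, mem_stabilizer_iff] at h
    exact hw h
  have := mem_powers_of_prime_card hc hw1 (g' := (QuotientGroup.mk v : Q ⧸ stabilizer Q a))
  obtain ⟨j, hj⟩ := this
  refine ⟨j, ?_⟩
  rw [← QuotientGroup.eq]
  rw [← hj]
  simp

theorem pow_p_mem (hp : p.Prime) (hQ : IsPGroup p Q) (a : α)
    (hcard : (orbit Q a).ncard = p) (w : Q) : w ^ p ∈ stabilizer Q a := by
  have hN := stab_normal hp hQ a hcard
  have := hN
  have hc := quot_card (Q := Q) a hcard
  rw [← QuotientGroup.eq_one_iff]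
  have : ((QuotientGroup.mk w : Q ⧸ stabilizer Q a)) ^ Nat.card (Q ⧸ stabilizer Q a) = 1 :=
    pow_card_eq_one'
  rw [hc] at this
  simpa using this

/-- every element of `Q` acts on the orbit as a power of `w`. -/
theorem acts_as_pow (hp : p.Prime) (hQ : IsPGroup p Q) (a : α)
    (hcard : (orbit Q a).ncard = p) {w : Q} (hw : w • a ≠ a) (v : Q) :
    ∃ j : ℕ, ∀ b ∈ orbit Q a, v • b = w ^ j • b := by
  obtain ⟨j, hj⟩ := exists_pow_mem hp hQ a hcard hw v
  refine ⟨j, fun b hb => ?_⟩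
  have := stab_fixes_orbit hp hQ a hcard hj hb
  rw [mul_smul] at this
  rw [inv_smul_eq_iff] at this
  exact this

theorem orbit_eq_pow (hp : p.Prime) (hQ : IsPGroup p Q) (a : α)
    (hcard : (orbit Q a).ncard = p) {w : Q} (hw : w • a ≠ a) {b : α} (hb : b ∈ orbit Q a) :
    ∃ i : ℕ, b = w ^ i • a := by
  obtain ⟨v, rfl⟩ := hb
  obtain ⟨j, hj⟩ := acts_as_pow hp hQ a hcard hw v
  exact ⟨j, hj a (mem_orbit_self a)⟩

theorem pow_p_fixes (hp : p.Prime) (hQ : IsPGroup p Q) (a : α)
    (hcard : (orbit Q a).ncard = p) (w : Q) {b : α} (hb : b ∈ orbit Q a) :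
    w ^ p • b = b :=
  stab_fixes_orbit hp hQ a hcard (pow_p_mem hp hQ a hcard w) hb

end PGroupOrbit

section Affine

variable {α : Type*}

/-- abstract data: a set `O`, a permutation `w` and a base point `a` such that `O` is the
set of `w^i a` and `w^p` fixes `O` pointwise. -/
structure CycData (O : Set α) (w : Perm α) (a : α) (p : ℕ) : Prop where
  hp : 0 < p
  ha : a ∈ O
  hw : ∀ b ∈ O, w b ∈ O
  hgen : ∀ b ∈ O, ∃ i : ℕ, b = (w ^ i) a
  hpow : ∀ b ∈ O, (w ^ p) b = b

namespace CycData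

variable {O : Set α} {w : Perm α} {a : α} {p : ℕ} (D : CycData O w a p)
include D

theorem pow_mem (i : ℕ) {b : α} (hb : b ∈ O) : (w ^ i) b ∈ O := by
  induction i with
  | zero => simpa using hb
  | succ n ih =>
    rw [pow_succ', Perm.mul_apply]
    exact D.hw _ ih

theorem pow_mul_p (i t : ℕ) {b : α} (hb : b ∈ O) : (w ^ (i + p * t)) b = (w ^ i) b := by
  induction t with
  | zero => simp
  | succ n ih =>
    have : i + p * (n + 1) = (i + p * n) + p := by ring
    rw [this, pow_add, Perm.mul_apply, D.hpow b hb, ih]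

/-- `g` is semi-affine with multiplier `m` on `O`. -/
def SemiAff (_D : CycData O w a p) (g : Perm α) (m : ℕ) : Prop :=
  (∀ b, b ∈ O ↔ g b ∈ O) ∧ ∀ b ∈ O, g (w b) = (w ^ m) (g b)

theorem semiAff_pow {g : Perm α} {m : ℕ} (hg : D.SemiAff g m) (i : ℕ) {b : α} (hb : b ∈ O) :
    g ((w ^ i) b) = (w ^ (m * i)) (g b) := by
  induction i with
  | zero => simp
  | succ n ih =>
    rw [pow_succ', Perm.mul_apply, hg.2 _ (D.pow_mem n hb), ih, ← Perm.mul_apply, ← pow_add]
    congr 2
    ring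

theorem semiAff_formula {g : Perm α} {m : ℕ} (hg : D.SemiAff g m) :
    ∃ c : ℕ, ∀ i : ℕ, g ((w ^ i) a) = (w ^ (m * i + c)) a := by
  obtain ⟨c, hc⟩ := D.hgen (g a) ((hg.1 a).mp D.ha)
  refine ⟨c, fun i => ?_⟩
  rw [D.semiAff_pow hg i D.ha, hc, ← Perm.mul_apply, ← pow_add]

/-- two semi-affine maps commute up to a translation -/
theorem comm_translation {g h : Perm α} {m m' : ℕ} (hg : D.SemiAff g m)
    (hh : D.SemiAff h m') :
    ∃ d : ℕ, ∀ b ∈ O, (g * h) b = (w ^ d) ((h * g) b) := by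
  obtain ⟨c, hc⟩ := D.semiAff_formula hg
  obtain ⟨c', hc'⟩ := D.semiAff_formula hh
  refine ⟨m * c' + c + (p - 1) * (m' * c + c'), fun b hb => ?_⟩
  obtain ⟨i, rfl⟩ := D.hgen b hb
  rw [Perm.mul_apply, Perm.mul_apply, hc' i, hc i, hc, hc', ← Perm.mul_apply, ← pow_add]
  have hp1 : p - 1 + 1 = p := by have := D.hp; omega
  have e : m * c' + c + (p - 1) * (m' * c + c') + (m' * (m * i + c) + c')
      = (m * (m' * i + c') + c) + p * (m' * c + c') := by
    have : p * (m' * c + c') = (p - 1) * (m' * c + c') + (m' * c + c') := by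
      conv_lhs => rw [← hp1]
      ring
    rw [this]; ring
  rw [e, D.pow_mul_p _ _ D.ha]

/-- if `c` acts on `O` as `w^d` then `c^p` fixes `O` pointwise. -/
theorem pow_p_fix_of_translation {c : Perm α} {d : ℕ} (hc : ∀ b ∈ O, c b = (w ^ d) b)
    {b : α} (hb : b ∈ O) : (c ^ p) b = b := by
  have key : ∀ j : ℕ, (c ^ j) b = (w ^ (d * j)) b := by
    intro j
    induction j with
    | zero => simp
    | succ n ih =>
      rw [pow_succ', Perm.mul_apply, ih, hc _ (D.pow_mem _ hb), ← Perm.mul_apply, ← pow_add]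
      congr 2
      ring
  rw [key p]
  have := D.pow_mul_p 0 d hb
  rw [zero_add, pow_zero] at this
  rw [mul_comm]
  simpa using this

/-- the commutator of two semi-affine maps: its `p`-th power fixes `O` pointwise. -/
theorem commutator_pow_fix {g h : Perm α} {m m' : ℕ} (hg : D.SemiAff g m)
    (hh : D.SemiAff h m') {b : α} (hb : b ∈ O) : ((⁅g, h⁆) ^ p) b = b := by
  obtain ⟨d, hd⟩ := D.comm_translation hg hh
  apply D.pow_p_fix_of_translation (d := d) _ hb
  intro y hy
  -- y = (h*g) x with x ∈ O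
  set x := (h * g)⁻¹ y with hx
  have hxy : (h * g) x = y := by rw [hx]; simp
  have hxO : x ∈ O := by
    rw [hg.1 x, hh.1 (g x)]
    have : h (g x) = y := by rw [← Perm.mul_apply]; exact hxy
    rw [this]; exact hy
  have h1 : ⁅g, h⁆ = (g * h) * (h * g)⁻¹ := by
    rw [commutatorElement_def]; group
  rw [h1, Perm.mul_apply, ← hx, hd x hxO, hxy]

/-- a semi-affine map with multiplier `1`: its `p`-th power fixes `O` pointwise. -/
theorem translation_pow_fix {c : Perm α} (hc : D.SemiAff c 1) {b : α} (hb : b ∈ O) :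
    (c ^ p) b = b := by
  obtain ⟨d, hd⟩ := D.semiAff_formula hc
  apply D.pow_p_fix_of_translation (d := d) _ hb
  intro y hy
  obtain ⟨i, rfl⟩ := D.hgen y hy
  rw [hd i, ← Perm.mul_apply, ← pow_add]
  congr 2
  ring

end CycData

end Affine

end Cfsg.Agent.Lib.Helper20.Miller
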