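import Mathlib
import Cfsg.Agent.Lib.Helper20.MillerB

set_option autoImplicit false

/-!
# Miller's bound, part C

The normalizer of a `p`-subgroup `Q` acting on its fixed point set `Δ` and on the set of
`Q`-orbits outside `Δ`.
-/

namespace Cfsg.Agent.Lib.Helper20.Miller

open Equiv Equiv.Perm MulAction
open scoped Pointwise

variable {α : Type*} [Fintype α] [DecidableEq α]

/-- elements of `G` normalizing `Q` and stabilizing the set `Δ`. -/
def NΔ (G Q : Subgroup (Perm α)) (Δ : Finset α) : Subgroup (Perm α) :=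
  Subgroup.normalizer (Q : Set (Perm α)) ⊓ G ⊓ MulAction.stabilizer (Perm α) (Δ : Set α)

variable {G Q : Subgroup (Perm α)} {Δ : Finset α}

theorem NΔ_mem_G {g : Perm α} (hg : g ∈ NΔ G Q Δ) : g ∈ G :=
  (Subgroup.mem_inf.mp (Subgroup.mem_inf.mp hg).1).2

theorem NΔ_conj_mem {g : Perm α} (hg : g ∈ NΔ G Q Δ) {u : Perm α} (hu : u ∈ Q) :
    g * u * g⁻¹ ∈ Q :=
  (Subgroup.mem_normalizer_iff.mp (Subgroup.mem_inf.mp (Subgroup.mem_inf.mp hg).1).1 u).mp hu

theorem NΔ_mem_iff_apply {g : Perm α} (hg : g ∈ NΔ G Q Δ) (a : α) : g a ∈ Δ ↔ a ∈ Δ := by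
  have h : g • (Δ : Set α) = Δ := MulAction.mem_stabilizer_iff.mp (Subgroup.mem_inf.mp hg).2
  constructor
  · intro ha
    have : g • a ∈ g • (Δ : Set α) := by rw [h]; exact_mod_cast ha
    rw [Set.smul_mem_smul_set_iff] at this
    exact_mod_cast this
  · intro ha
    have : g • a ∈ g • (Δ : Set α) := Set.smul_mem_smul_set (by exact_mod_cast ha)
    rw [h] at this
    exact_mod_cast this

theorem NΔ_nmem_iff_apply {g : Perm α} (hg : g ∈ NΔ G Q Δ) (a : α) : g a ∉ Δ ↔ a ∉ Δ :=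
  not_congr (NΔ_mem_iff_apply hg a)

/-- restriction to `Δ`. -/
def resHom (G Q : Subgroup (Perm α)) (Δ : Finset α) : ↥(NΔ G Q Δ) →* Perm {a // a ∈ Δ} where
  toFun g := (g : Perm α).subtypePerm (fun a => NΔ_mem_iff_apply g.2 a)
  map_one' := rfl
  map_mul' _ _ := rfl

@[simp] theorem resHom_apply (g : ↥(NΔ G Q Δ)) (a : {a // a ∈ Δ}) :
    ((resHom G Q Δ g) a : α) = (g : Perm α) a := rfl

/-- restriction to the complement of `Δ`. -/
def outHom (G Q : Subgroup (Perm α)) (Δ : Finset α) : ↥(NΔ G Q Δ) →* Perm {a // a ∉ Δ} where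
  toFun g := (g : Perm α).subtypePerm (fun a => NΔ_nmem_iff_apply g.2 a)
  map_one' := rfl
  map_mul' _ _ := rfl

@[simp] theorem outHom_apply (g : ↥(NΔ G Q Δ)) (a : {a // a ∉ Δ}) :
    ((outHom G Q Δ g) a : α) = (g : Perm α) a := rfl

/-- the orbit relation of `Q` on the complement of `Δ`. -/
def orbSetoid (Q : Subgroup (Perm α)) (Δ : Finset α) : Setoid {a // a ∉ Δ} where
  r a b := ∃ u ∈ Q, u a.1 = b.1
  iseqv :=
    ⟨fun a => ⟨1, Q.one_mem, rfl⟩,
     fun {a b} ⟨u, hu, h⟩ => ⟨u⁻¹, Q.inv_mem hu, by rw [← h]; simp⟩,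
     fun {a b c} ⟨u, hu, h⟩ ⟨v, hv, h'⟩ => ⟨v * u, Q.mul_mem hv hu, by
        rw [Perm.mul_apply, h, h']⟩⟩

/-- the set of `Q`-orbits outside `Δ`. -/
abbrev Orb (Q : Subgroup (Perm α)) (Δ : Finset α) := Quotient (orbSetoid Q Δ)

theorem orb_rel_iff (g : ↥(NΔ G Q Δ)) (a b : {a // a ∉ Δ}) :
    (orbSetoid Q Δ) a b ↔ (orbSetoid Q Δ) (outHom G Q Δ g a) (outHom G Q Δ g b) := by
  constructor
  · rintro ⟨u, hu, h⟩
    refine ⟨(g : Perm α) * u * (g : Perm α)⁻¹, NΔ_conj_mem g.2 hu, ?_⟩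
    simp only [outHom_apply, Perm.mul_apply]
    rw [← h]
    simp
  · rintro ⟨u, hu, h⟩
    have hg' : (g : Perm α)⁻¹ ∈ NΔ G Q Δ := (NΔ G Q Δ).inv_mem g.2
    refine ⟨(g : Perm α)⁻¹ * u * (g : Perm α)⁻¹⁻¹, NΔ_conj_mem hg' hu, ?_⟩
    simp only [outHom_apply] at h
    simp only [Perm.mul_apply, inv_inv]
    rw [h]
    simp

/-- the action on the set of orbits. -/
def rhoHom (G Q : Subgroup (Perm α)) (Δ : Finset α) : ↥(NΔ G Q Δ) →* Perm (Orb Q Δ) where
  toFun g := Quotient.congr (outHom G Q Δ g) (orb_rel_iff g)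
  map_one' := by
    ext o
    induction o using Quotient.inductionOn with
    | h a => simp
  map_mul' g h := by
    ext o
    induction o using Quotient.inductionOn with
    | h a => simp

theorem rhoHom_mk (g : ↥(NΔ G Q Δ)) (a : {a // a ∉ Δ}) :
    rhoHom G Q Δ g (Quotient.mk _ a) = Quotient.mk _ (outHom G Q Δ g a) := rfl

/-- `g` is in the kernel of the orbit action iff it fixes each orbit. -/
theorem mem_ker_rho_iff (g : ↥(NΔ G Q Δ)) :
    g ∈ (rhoHom G Q Δ).ker ↔ ∀ a : α, a ∉ Δ → ∃ u ∈ Q, u a = (g : Perm α) a := by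
  rw [MonoidHom.mem_ker]
  constructor
  · intro h a ha
    have := congrArg (fun f : Perm (Orb Q Δ) => f (Quotient.mk _ ⟨a, ha⟩)) h
    simp only [rhoHom_mk, Perm.coe_one, id_eq] at this
    have h2 := Quotient.exact this
    obtain ⟨u, hu, h3⟩ := (orbSetoid Q Δ).symm h2
    exact ⟨u, hu, h3⟩
  · intro h
    ext o
    induction o using Quotient.inductionOn with
    | h a =>
      rw [rhoHom_mk]
      simp only [Perm.coe_one, id_eq]
      apply Quotient.sound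
      obtain ⟨u, hu, h3⟩ := h a.1 a.2
      exact (orbSetoid Q Δ).symm ⟨u, hu, h3⟩

end Cfsg.Agent.Lib.Helper20.Miller
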