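import Mathlib
import Cfsg.Agent.Lib.Helper20.MillerC

set_option autoImplicit false

/-!
# Miller's bound, part D

The basic setting `MSet` and the two "routes" producing elements that fix every point
outside `Δ`.
-/

namespace Cfsg.Agent.Lib.Helper20.Miller

open Equiv Equiv.Perm MulAction
open scoped commutatorElement

variable {α : Type*} [Fintype α] [DecidableEq α]

/-- the basic setting: `Q` is a `p`-subgroup of `G` whose fixed point set is exactly `Δ`,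
and there are `k p` further points with `k < p`. -/
structure MSet (G Q : Subgroup (Perm α)) (Δ : Finset α) (p k : ℕ) : Prop where
  hp : p.Prime
  hkp : k < p
  hQG : Q ≤ G
  hQ : IsPGroup p Q
  hfix : ∀ u ∈ Q, ∀ a ∈ Δ, u a = a
  hmov : ∀ a, a ∉ Δ → ∃ u ∈ Q, u a ≠ a
  hcard : Fintype.card α = k * p + Δ.card

namespace MSet

variable {G Q : Subgroup (Perm α)} {Δ : Finset α} {p k : ℕ} (S : MSet G Q Δ p k)
include S

theorem apply_nmem {u : Perm α} (hu : u ∈ Q) {a : α} (ha : a ∉ Δ) : u a ∉ Δ := by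
  intro h
  have := S.hfix u⁻¹ (Q.inv_mem hu) (u a) h
  rw [inv_app] at this
  exact ha (this ▸ h)

theorem smul_eq (u : ↥Q) (a : α) : u • a = (u : Perm α) a := rfl

theorem mem_orbit_iff {a b : α} : b ∈ orbit ↥Q a ↔ ∃ u ∈ Q, u a = b := by
  constructor
  · rintro ⟨u, rfl⟩
    exact ⟨u.1, u.2, rfl⟩
  · rintro ⟨u, hu, rfl⟩
    exact ⟨⟨u, hu⟩, rfl⟩

theorem orbit_subset {a : α} (ha : a ∉ Δ) : orbit ↥Q a ⊆ {b | b ∉ Δ} := by
  rintro b ⟨u, rfl⟩
  exact S.apply_nmem u.2 ha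

theorem compl_ncard : ({b | b ∉ Δ} : Set α).ncard = k * p := by
  have h1 : ({b | b ∉ Δ} : Set α) = ((Δᶜ : Finset α) : Set α) := by
    ext b; simp
  rw [h1, Set.ncard_coe_finset, Finset.card_compl, S.hcard]
  omega

theorem orbit_ncard {a : α} (ha : a ∉ Δ) : (orbit ↥Q a).ncard = p := by
  have hp := S.hp
  have hle : (orbit ↥Q a).ncard ≤ k * p := by
    rw [← S.compl_ncard]
    exact Set.ncard_le_ncard (S.orbit_subset ha) (Set.toFinite _)
  have : Fact p.Prime := ⟨hp⟩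
  obtain ⟨n, hn⟩ := S.hQ.card_orbit a
  rw [Nat.card_coe_set_eq] at hn
  have hlt : p ^ n < p ^ 2 := by
    rw [← hn, pow_two]
    exact lt_of_le_of_lt hle (Nat.mul_lt_mul_of_pos_right S.hkp hp.pos)
  have hn2 : n < 2 := (Nat.pow_lt_pow_iff_right hp.one_lt).mp hlt
  have hn0 : n ≠ 0 := by
    rintro rfl
    rw [pow_zero] at hn
    obtain ⟨x, hx⟩ := Set.ncard_eq_one.mp hn
    obtain ⟨u, hu, hua⟩ := S.hmov a ha
    have h1 : a ∈ orbit ↥Q a := mem_orbit_self a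
    have h2 : u a ∈ orbit ↥Q a := S.mem_orbit_iff.mpr ⟨u, hu, rfl⟩
    rw [hx, Set.mem_singleton_iff] at h1 h2
    exact hua (h2.trans h1.symm)
  have : n = 1 := by omega
  rw [hn, this, pow_one]

/-- the cyclic data on an orbit -/
theorem cycData {a : α} (ha : a ∉ Δ) {w : Perm α} (hw : w ∈ Q) (hwa : w a ≠ a) :
    CycData (orbit ↥Q a) w a p := by
  have hc := S.orbit_ncard ha
  have hwa' : (⟨w, hw⟩ : ↥Q) • a ≠ a := hwa
  refine ⟨S.hp.pos, mem_orbit_self a, ?_, ?_, ?_⟩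
  · intro b hb
    obtain ⟨u, hu, rfl⟩ := S.mem_orbit_iff.mp hb
    exact S.mem_orbit_iff.mpr ⟨w * u, Q.mul_mem hw hu, rfl⟩
  · intro b hb
    obtain ⟨i, hi⟩ := orbit_eq_pow S.hp S.hQ a hc hwa' hb
    exact ⟨i, hi⟩
  · intro b hb
    exact pow_p_fixes S.hp S.hQ a hc (⟨w, hw⟩ : ↥Q) hb

theorem acts_as_pow' {a : α} (ha : a ∉ Δ) {w : Perm α} (hw : w ∈ Q) (hwa : w a ≠ a)
    {v : Perm α} (hv : v ∈ Q) : ∃ j : ℕ, ∀ b ∈ orbit ↥Q a, v b = (w ^ j) b := by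
  have hc := S.orbit_ncard ha
  have hwa' : (⟨w, hw⟩ : ↥Q) • a ≠ a := hwa
  obtain ⟨j, hj⟩ := acts_as_pow S.hp S.hQ a hc hwa' (⟨v, hv⟩ : ↥Q)
  exact ⟨j, fun b hb => hj b hb⟩

/-- elements of the kernel of the orbit action are semi-affine on each orbit -/
theorem semiAff_of_ker {g : ↥(NΔ G Q Δ)} (hg : g ∈ (rhoHom G Q Δ).ker)
    {a : α} (ha : a ∉ Δ) {w : Perm α} (hw : w ∈ Q) (hwa : w a ≠ a) :
    ∃ m : ℕ, (S.cycData ha hw hwa).SemiAff (g : Perm α) m := by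
  rw [mem_ker_rho_iff] at hg
  have hconj : (g : Perm α) * w * (g : Perm α)⁻¹ ∈ Q := NΔ_conj_mem g.2 hw
  obtain ⟨m, hm⟩ := S.acts_as_pow' ha hw hwa hconj
  have hfwd : ∀ b, b ∈ orbit ↥Q a → (g : Perm α) b ∈ orbit ↥Q a := by
    intro b hb
    have hbΔ : b ∉ Δ := S.orbit_subset ha hb
    obtain ⟨u, hu, hub⟩ := hg b hbΔ
    obtain ⟨v, hv, rfl⟩ := S.mem_orbit_iff.mp hb
    exact S.mem_orbit_iff.mpr ⟨u * v, Q.mul_mem hu hv, by rw [Perm.mul_apply, hub]⟩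
  refine ⟨m, ⟨fun b => ⟨hfwd b, ?_⟩, ?_⟩⟩
  · intro hb
    have hgbΔ : (g : Perm α) b ∉ Δ := S.orbit_subset ha hb
    have hbΔ : b ∉ Δ := (NΔ_nmem_iff_apply g.2 b).mp hgbΔ
    obtain ⟨u, hu, hub⟩ := hg b hbΔ
    obtain ⟨v, hv, hva⟩ := S.mem_orbit_iff.mp hb
    refine S.mem_orbit_iff.mpr ⟨u⁻¹ * v, Q.mul_mem (Q.inv_mem hu) hv, ?_⟩
    rw [Perm.mul_apply, hva, ← hub, inv_app]
  · intro b hb
    have := hm _ (hfwd b hb)
    rw [← this]
    simp [Perm.mul_apply]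

/-- **Route A**: the `p`-th power of a commutator of two elements of the kernel of the
orbit action fixes every point outside `Δ`. -/
theorem routeA {g h : ↥(NΔ G Q Δ)} (hg : g ∈ (rhoHom G Q Δ).ker)
    (hh : h ∈ (rhoHom G Q Δ).ker) {a : α} (ha : a ∉ Δ) :
    ((⁅(g : Perm α), (h : Perm α)⁆) ^ p) a = a := by
  obtain ⟨w, hw, hwa⟩ := S.hmov a ha
  obtain ⟨m, hm⟩ := S.semiAff_of_ker hg ha hw hwa
  obtain ⟨m', hm'⟩ := S.semiAff_of_ker hh ha hw hwa
  exact (S.cycData ha hw hwa).commutator_pow_fix hm hm' (mem_orbit_self a)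

/-- **Route B**: the `p`-th power of an element of the kernel of the orbit action
which centralizes `Q` fixes every point outside `Δ`. -/
theorem routeB {c : ↥(NΔ G Q Δ)} (hc : c ∈ (rhoHom G Q Δ).ker)
    (hcomm : ∀ u ∈ Q, (c : Perm α) * u = u * (c : Perm α)) {a : α} (ha : a ∉ Δ) :
    (((c : Perm α)) ^ p) a = a := by
  obtain ⟨w, hw, hwa⟩ := S.hmov a ha
  obtain ⟨m, hm⟩ := S.semiAff_of_ker hc ha hw hwa
  have h1 : (S.cycData ha hw hwa).SemiAff (c : Perm α) 1 := by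
    refine ⟨hm.1, fun b _ => ?_⟩
    have := congrArg (fun f : Perm α => f b) (hcomm w hw)
    simpa [Perm.mul_apply] using this
  exact (S.cycData ha hw hwa).translation_pow_fix h1 (mem_orbit_self a)

end MSet

end Cfsg.Agent.Lib.Helper20.Miller
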