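import Mathlib
import Cfsg.Agent.Lib.Helper20.MillerD
import Cfsg.Agent.S4219

set_option autoImplicit false

/-!
# Miller's bound, part E

Counting the orbits, the fixed point set as a `Finset`, and Witt's lemma in the form
needed.
-/

namespace Cfsg.Agent.Lib.Helper20.Miller

open Equiv Equiv.Perm MulAction
open scoped commutatorElement

variable {α : Type*} [Fintype α] [DecidableEq α]

namespace MSet

variable {G Q : Subgroup (Perm α)} {Δ : Finset α} {p k : ℕ} (S : MSet G Q Δ p k)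
include S

/-- the fibre of the quotient map over the class of `a₀` is the orbit of `a₀`. -/
noncomputable def fiberEquiv (a₀ : {a // a ∉ Δ}) :
    {x : {a // a ∉ Δ} // (Quotient.mk (orbSetoid Q Δ) x) = Quotient.mk _ a₀} ≃
      ↥(orbit ↥Q a₀.1) where
  toFun x := ⟨x.1.1, by
    have h := Quotient.exact x.2
    obtain ⟨u, hu, hux⟩ := (orbSetoid Q Δ).symm h
    exact S.mem_orbit_iff.mpr ⟨u, hu, hux⟩⟩
  invFun b := ⟨⟨b.1, S.orbit_subset a₀.2 b.2⟩, by
    apply Quotient.sound
    obtain ⟨u, hu, hub⟩ := S.mem_orbit_iff.mp b.2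
    exact (orbSetoid Q Δ).symm ⟨u, hu, hub⟩⟩
  left_inv x := rfl
  right_inv b := rfl

theorem card_orb : Nat.card (Orb Q Δ) = k := by
  have hp := S.hp
  have h1 : Nat.card {a // a ∉ Δ} = k * p := by
    have := S.compl_ncard
    rw [← Nat.card_coe_set_eq] at this
    exact this
  have h2 : Nat.card {a // a ∉ Δ} = Nat.card (Orb Q Δ) * p := by
    rw [← Nat.card_congr (Equiv.sigmaFiberEquiv (Quotient.mk (orbSetoid Q Δ)))]
    have := Fintype.ofFinite (Orb Q Δ)
    rw [Nat.card_sigma]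
    have : ∀ o : Orb Q Δ, Nat.card {x : {a // a ∉ Δ} // Quotient.mk (orbSetoid Q Δ) x = o} = p := by
      intro o
      induction o using Quotient.inductionOn with
      | h a₀ =>
        rw [Nat.card_congr (S.fiberEquiv a₀), Nat.card_coe_set_eq]
        exact S.orbit_ncard a₀.2
    simp only [this]
    rw [Finset.sum_const, Finset.card_univ, smul_eq_mul, Nat.card_eq_fintype_card]
  rw [h1] at h2
  exact (Nat.eq_of_mul_eq_mul_right hp.pos h2).symm

theorem card_perm_orb : Nat.card (Perm (Orb Q Δ)) = k.factorial := by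
  rw [Nat.card_perm, S.card_orb]

/-- `g ^ k!` lies in the kernel of the orbit action. -/
theorem pow_factorial_mem_ker (g : ↥(NΔ G Q Δ)) : g ^ k.factorial ∈ (rhoHom G Q Δ).ker := by
  rw [MonoidHom.mem_ker, map_pow, ← S.card_perm_orb]
  exact pow_card_eq_one'

theorem index_ker_dvd : (rhoHom G Q Δ).ker.index ∣ k.factorial := by
  rw [Subgroup.index_ker, ← S.card_perm_orb]
  exact Subgroup.card_subgroup_dvd_card _

omit S in
/-- elements of `G` normalizing `Q` stabilize its fixed point set. -/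
theorem mem_NΔ_of_normalizer' (hfix : ∀ u ∈ Q, ∀ a ∈ Δ, u a = a)
    (hmov : ∀ a, a ∉ Δ → ∃ u ∈ Q, u a ≠ a) {g : Perm α} (hg : g ∈ G)
    (hn : g ∈ Subgroup.normalizer (Q : Set (Perm α))) : g ∈ NΔ G Q Δ := by
  refine Subgroup.mem_inf.mpr ⟨Subgroup.mem_inf.mpr ⟨hn, hg⟩, ?_⟩
  have key : ∀ h : Perm α, h ∈ Subgroup.normalizer (Q : Set (Perm α)) → ∀ a, a ∈ Δ → h a ∈ Δ := by
    intro h hh a ha
    by_contra hne
    obtain ⟨u, hu, hua⟩ := hmov _ hne
    have hconj : h⁻¹ * u * h⁻¹⁻¹ ∈ Q :=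
      (Subgroup.mem_normalizer_iff.mp ((Subgroup.normalizer _).inv_mem hh) u).mp hu
    have := hfix _ hconj a ha
    simp only [inv_inv, Perm.mul_apply] at this
    apply hua
    have h2 := congrArg h this
    rwa [app_inv] at h2
  rw [MulAction.mem_stabilizer_set]
  intro a
  constructor
  · intro ha
    have := key g⁻¹ ((Subgroup.normalizer _).inv_mem hn) _ ha
    have h2 : g⁻¹ (g • a) = a := by rw [Perm.smul_def, inv_app]
    rw [h2] at this
    exact_mod_cast this
  · intro ha
    exact_mod_cast key g hn a (by exact_mod_cast ha)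

theorem mem_NΔ_of_normalizer {g : Perm α} (hg : g ∈ G)
    (hn : g ∈ Subgroup.normalizer (Q : Set (Perm α))) : g ∈ NΔ G Q Δ :=
  mem_NΔ_of_normalizer' S.hfix S.hmov hg hn

end MSet

/-- the fixed point set of `Q`. -/
noncomputable def fixF (Q : Subgroup (Perm α)) : Finset α := by
  classical exact Finset.univ.filter (fun a => ∀ u ∈ Q, u a = a)

theorem mem_fixF {Q : Subgroup (Perm α)} {a : α} : a ∈ fixF Q ↔ ∀ u ∈ Q, u a = a := by
  classical
  unfold fixF
  simp

theorem card_fixF_modEq {Q : Subgroup (Perm α)} {p : ℕ} [Fact p.Prime] (hQ : IsPGroup p Q) :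
    Fintype.card α ≡ (fixF Q).card [MOD p] := by
  have h := hQ.card_modEq_card_fixedPoints α
  rw [Nat.card_eq_fintype_card] at h
  have h2 : Nat.card (fixedPoints ↥Q α) = (fixF Q).card := by
    rw [Nat.card_coe_set_eq, ← Set.ncard_coe_finset]
    congr 1
    ext a
    simp only [mem_fixedPoints, Finset.mem_coe, mem_fixF, Subtype.forall]
    rfl
  rw [h2] at h
  exact h

theorem mset_of_pgroup {G Q : Subgroup (Perm α)} {p k : ℕ} (hp : p.Prime) (hQG : Q ≤ G)
    (hQ : IsPGroup p Q) (hk : k < p) (hcard : Fintype.card α = k * p + (fixF Q).card) :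
    MSet G Q (fixF Q) p k where
  hp := hp
  hkp := hk
  hQG := hQG
  hQ := hQ
  hfix := fun u hu a ha => mem_fixF.mp ha u hu
  hmov := fun a ha => by
    by_contra hne
    push Not at hne
    exact ha (mem_fixF.mpr hne)
  hcard := hcard

section Witt

variable (G : Subgroup (Perm α)) {t : ℕ} (x : Fin t ↪ α) {p : ℕ} [Fact p.Prime]

/-- the Sylow subgroup as a subgroup of `Perm α`. -/
def sylQ (P : Sylow p (stabilizer ↥G x)) : Subgroup (Perm α) :=
  ((P : Subgroup (stabilizer ↥G x)).map (stabilizer ↥G x).subtype).map G.subtype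

variable {G x}

theorem sylQ_le (P : Sylow p (stabilizer ↥G x)) : sylQ G x P ≤ G := by
  rintro u ⟨v, _, rfl⟩
  exact v.2

theorem sylQ_isPGroup (P : Sylow p (stabilizer ↥G x)) : IsPGroup p (sylQ G x P) :=
  (P.isPGroup'.map _).map _

theorem sylQ_fix (P : Sylow p (stabilizer ↥G x)) {u : Perm α} (hu : u ∈ sylQ G x P) (i : Fin t) :
    u (x i) = x i := by
  obtain ⟨v, ⟨w, _, rfl⟩, rfl⟩ := hu
  have := w.2
  rw [mem_stabilizer_iff] at this
  have h2 := congrArg (fun f : Fin t ↪ α => f i) this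
  exact h2

theorem card_sylQ (P : Sylow p (stabilizer ↥G x)) :
    Nat.card (sylQ G x P) = Nat.card (P : Subgroup (stabilizer ↥G x)) := by
  unfold sylQ
  rw [Subgroup.card_map_of_injective G.subtype_injective,
    Subgroup.card_map_of_injective (Subgroup.subtype_injective _)]

theorem range_fix_subset (P : Sylow p (stabilizer ↥G x)) (i : Fin t) :
    x i ∈ fixF (sylQ G x P) :=
  mem_fixF.mpr fun _ hu => sylQ_fix P hu i

/-- **Witt's lemma** in the form we need: the normalizer of the Sylow subgroup is `t`-fold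
transitive on the fixed points. -/
theorem witt_trans' (hG : IsMultiplyPretransitive G α t) (P : Sylow p (stabilizer ↥G x))
    {Δ : Finset α} (hfix : ∀ u ∈ sylQ G x P, ∀ a ∈ Δ, u a = a)
    (hmov : ∀ a, a ∉ Δ → ∃ u ∈ sylQ G x P, u a ≠ a) :
    IsMultiplyPretransitive (resHom G (sylQ G x P) Δ).range {a // a ∈ Δ} t := by
  rw [isMultiplyPretransitive_iff]
  intro a' b'
  let a : Fin t ↪ α := a'.trans (Function.Embedding.subtype _)
  let b : Fin t ↪ α := b'.trans (Function.Embedding.subtype _)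
  have hfixed : ∀ c : α, c ∈ Δ → c ∈ fixedPoints
      ((P : Subgroup (stabilizer ↥G x)).map (stabilizer ↥G x).subtype) α := by
    intro c hc m
    have hm : ((m : ↥G) : Perm α) ∈ sylQ G x P := ⟨m.1, m.2, rfl⟩
    exact hfix _ hm c hc
  obtain ⟨g, hgn, hgab⟩ := Cfsg.Agent.S4219.result hG x P a b
    (fun i => hfixed _ (a' i).2) (fun i => hfixed _ (b' i).2)
  have hgn' : (g : Perm α) ∈ Subgroup.normalizer ((sylQ G x P : Subgroup (Perm α)) : Set (Perm α)) :=
    Subgroup.le_normalizer_map G.subtype ⟨g, hgn, rfl⟩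
  have hgN : (g : Perm α) ∈ NΔ G (sylQ G x P) Δ :=
    MSet.mem_NΔ_of_normalizer' hfix hmov g.2 hgn'
  refine ⟨⟨resHom G (sylQ G x P) Δ ⟨g, hgN⟩, ⟨_, rfl⟩⟩, ?_⟩
  ext i
  have := congrArg (fun f : Fin t ↪ α => f i) hgab
  exact this

theorem witt_trans (hG : IsMultiplyPretransitive G α t) (P : Sylow p (stabilizer ↥G x))
    {Δ : Finset α} {k : ℕ} (S : MSet G (sylQ G x P) Δ p k) :
    IsMultiplyPretransitive (resHom G (sylQ G x P) Δ).range {a // a ∈ Δ} t :=
  witt_trans' hG P S.hfix S.hmov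

end Witt

end Cfsg.Agent.Lib.Helper20.Miller
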