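import Mathlib
import Cfsg.Agent.Lib.Helper20.MillerE

set_option autoImplicit false

/-!
# Miller's bound, part F

Route A: the final assembly in the case where the restriction of the normalizer to the fixed
point set contains the alternating group, which is simple.
-/

namespace Cfsg.Agent.Lib.Helper20.Miller

open Equiv Equiv.Perm MulAction
open scoped commutatorElement

/-- the 3-cycle `(0 1 2)` -/
def cA : Perm (Fin 4) := c[0, 1, 2]
/-- the 3-cycle `(0 1 3)` -/
def cB : Perm (Fin 4) := c[0, 1, 3]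

theorem fin4_comm_sq : (⁅cA, cB⁆) ^ 2 = 1 := by decide

theorem fin4_comm_ne : (⁅cA, cB⁆) ≠ 1 := by decide

theorem fin4_sign1 : Perm.sign cA = 1 := by decide

theorem fin4_sign2 : Perm.sign cB = 1 := by decide

theorem pow_odd_of_sq {M : Type*} [Monoid M] {e : M} (he : e ^ 2 = 1) {p : ℕ} (hp : Odd p) :
    e ^ p = e := by
  obtain ⟨j, rfl⟩ := hp
  rw [pow_succ, pow_mul, he, one_pow, one_mul]

variable {α : Type*} [Fintype α] [DecidableEq α]

namespace MSet

variable {G Q : Subgroup (Perm α)} {Δ : Finset α} {p k : ℕ} (S : MSet G Q Δ p k)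
include S

/-- if the alternating group on `Δ` is simple and contained in the image of the restriction,
it is contained in the image of the kernel of the orbit action. -/
theorem alt_le_map_ker (h5 : 5 ≤ Δ.card) (hpΔ : p ≤ Δ.card) (hp2 : p ≠ 2)
    (hAlt : alternatingGroup {a // a ∈ Δ} ≤ (resHom G Q Δ).range) :
    alternatingGroup {a // a ∈ Δ} ≤ (rhoHom G Q Δ).ker.map (resHom G Q Δ) := by
  have hp := S.hp
  have hcardβ : Nat.card {a // a ∈ Δ} = Δ.card := by
    rw [Nat.card_eq_fintype_card, Fintype.card_coe]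
  have hsimple : IsSimpleGroup (alternatingGroup {a // a ∈ Δ}) :=
    alternatingGroup.isSimpleGroup (by rw [hcardβ]; exact h5)
  set M := (rhoHom G Q Δ).ker.map (resHom G Q Δ) with hM
  have hnormal : (M.subgroupOf (alternatingGroup {a // a ∈ Δ})).Normal := by
    constructor
    intro n hn g
    rw [Subgroup.mem_subgroupOf] at hn ⊢
    obtain ⟨k₁, hk₁, hk₁n⟩ := hn
    obtain ⟨g', hg'⟩ := hAlt g.2
    refine ⟨g' * k₁ * g'⁻¹, ?_, ?_⟩
    · exact (MonoidHom.normal_ker (rhoHom G Q Δ)).conj_mem k₁ hk₁ g'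
    · rw [map_mul, map_mul, map_inv, hk₁n, hg']
      rfl
  rcases hnormal.eq_bot_or_eq_top with hbot | htop
  · exfalso
    -- an element of order p
    have : Nontrivial {a // a ∈ Δ} := by
      rw [← Fintype.one_lt_card_iff_nontrivial, Fintype.card_coe]; omega
    have hdvd : p ∣ Nat.card (alternatingGroup {a // a ∈ Δ}) := by
      have h2 := two_mul_nat_card_alternatingGroup (α := {a // a ∈ Δ})
      rw [Nat.card_perm, hcardβ] at h2
      have h3 : p ∣ 2 * Nat.card (alternatingGroup {a // a ∈ Δ}) := by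
        rw [h2]; exact (hp.dvd_factorial).mpr hpΔ
      rcases (Nat.Prime.dvd_mul hp).mp h3 with h4 | h4
      · exact absurd ((Nat.prime_dvd_prime_iff_eq hp Nat.prime_two).mp h4) hp2
      · exact h4
    have : Fact p.Prime := ⟨hp⟩
    obtain ⟨σ₀, hσ₀⟩ := exists_prime_orderOf_dvd_card' p hdvd
    obtain ⟨g₀, hg₀⟩ := hAlt σ₀.2
    have hmem : σ₀ ^ k.factorial ∈ M.subgroupOf (alternatingGroup {a // a ∈ Δ}) := by
      rw [Subgroup.mem_subgroupOf]
      refine ⟨g₀ ^ k.factorial, S.pow_factorial_mem_ker g₀, ?_⟩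
      rw [map_pow, hg₀]
      rfl
    rw [hbot, Subgroup.mem_bot] at hmem
    have h6 := orderOf_dvd_of_pow_eq_one hmem
    rw [hσ₀, hp.dvd_factorial] at h6
    exact absurd S.hkp (not_lt.mpr h6)
  · intro σ hσ
    have : (⟨σ, hσ⟩ : alternatingGroup {a // a ∈ Δ}) ∈
        M.subgroupOf (alternatingGroup {a // a ∈ Δ}) := by
      rw [htop]; exact Subgroup.mem_top _
    rw [Subgroup.mem_subgroupOf] at this
    exact this

/-- **Route A, final form.** -/
theorem alt_le_of_routeA (hp2 : p ≠ 2) {m : ℕ} (hm4 : 4 ≤ m)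
    (hG : IsMultiplyPretransitive G α m) (hmn : m < Fintype.card α) (h4 : 4 ≤ Δ.card)
    (hAlt : alternatingGroup {a // a ∈ Δ} ≤ (rhoHom G Q Δ).ker.map (resHom G Q Δ)) :
    alternatingGroup α ≤ G := by
  have hp := S.hp
  have hodd : Odd p := hp.odd_of_ne_two hp2
  -- four points
  have hcardβ : Fintype.card (Fin 4) ≤ Fintype.card {a // a ∈ Δ} := by
    rw [Fintype.card_coe, Fintype.card_fin]; exact h4
  obtain ⟨ι⟩ := Function.Embedding.nonempty_of_card_le hcardβ
  let f : Fin 4 ≃ {b : {a // a ∈ Δ} // b ∈ Set.range ι} := Equiv.ofInjective ι ι.injective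
  let V : Perm (Fin 4) →* Perm {a // a ∈ Δ} := extendDomainHom f
  have hV : Function.Injective V := extendDomainHom_injective f
  have hσ : V cA ∈ alternatingGroup {a // a ∈ Δ} := by
    rw [mem_alternatingGroup]
    show Perm.sign (extendDomain _ f) = 1
    rw [sign_extendDomain, fin4_sign1]
  have hτ : V cB ∈ alternatingGroup {a // a ∈ Δ} := by
    rw [mem_alternatingGroup]
    show Perm.sign (extendDomain _ f) = 1
    rw [sign_extendDomain, fin4_sign2]
  obtain ⟨g, hg, hgσ⟩ := hAlt hσ
  obtain ⟨h, hh, hhτ⟩ := hAlt hτ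
  -- the element
  set c : ↥(NΔ G Q Δ) := ⁅g, h⁆ ^ p with hc
  have hcoe : ((c : ↥(NΔ G Q Δ)) : Perm α) = ⁅(g : Perm α), (h : Perm α)⁆ ^ p := by
    rw [hc]; simp [commutatorElement_def]
  have hres : resHom G Q Δ c = V ⁅cA, cB⁆ := by
    rw [hc, map_pow, map_commutatorElement, hgσ, hhτ, ← map_commutatorElement, ← map_pow,
      pow_odd_of_sq fin4_comm_sq hodd]
  have hc1 : (c : Perm α) ≠ 1 := by
    intro h1
    have h2 : c = 1 := Subtype.ext h1
    rw [h2, map_one] at hres
    have := hV (hres.symm.trans (map_one V).symm)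
    exact fin4_comm_ne this
  have hcG : (c : Perm α) ∈ G := NΔ_mem_G c.2
  -- the support
  let F : Finset α := Finset.univ.image (fun i : Fin 4 => ((ι i : {a // a ∈ Δ}) : α))
  have hsupp : (c : Perm α).support ⊆ F := by
    intro a ha
    rw [Perm.mem_support] at ha
    by_contra haF
    apply ha
    by_cases haΔ : a ∈ Δ
    · have h1 : ((resHom G Q Δ c) ⟨a, haΔ⟩ : α) = (c : Perm α) a := rfl
      rw [← h1, hres]
      have hnot : ¬ ((⟨a, haΔ⟩ : {a // a ∈ Δ}) ∈ Set.range ι) := by
        rintro ⟨i, hi⟩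
        apply haF
        rw [Finset.mem_image]
        exact ⟨i, Finset.mem_univ _, by rw [hi]⟩
      show ((extendDomain _ f) ⟨a, haΔ⟩ : α) = a
      rw [extendDomain_apply_not_subtype _ _ hnot]
    · rw [hcoe]
      exact S.routeA hg hh haΔ
  have hFcard : F.card ≤ 4 := by
    have := Finset.card_image_le (s := (Finset.univ : Finset (Fin 4)))
      (f := fun i : Fin 4 => ((ι i : {a // a ∈ Δ}) : α))
    simpa using this
  exact alt_le_of_small_support G (by omega) hG hmn hcG hc1
    (le_trans (Finset.card_le_card hsupp) (le_trans hFcard hm4))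

end MSet

end Cfsg.Agent.Lib.Helper20.Miller
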