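import Mathlib
import Cfsg.Agent.Lib.Helper20.MillerF

set_option autoImplicit false

/-!
# Miller's bound, part G

Route B: the case where `Q` is cyclic with exactly `Δ` as fixed point set and the normalizer
induces the full symmetric group on `Δ`.
-/

namespace Cfsg.Agent.Lib.Helper20.Miller

open Equiv Equiv.Perm MulAction
open scoped commutatorElement

/-- the commutator of two elements normalizing a cyclic subgroup centralizes it. -/
theorem comm_centralizes {Γ : Type*} [Group Γ] {Q : Subgroup Γ} (hcyc : IsCyclic ↥Q) {g x : Γ}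
    (hg : g ∈ Subgroup.normalizer (Q : Set Γ)) (hx : x ∈ Subgroup.normalizer (Q : Set Γ))
    {u : Γ} (hu : u ∈ Q) : ⁅g, x⁆ * u = u * ⁅g, x⁆ := by
  obtain ⟨⟨u₀, hu₀⟩, hgen⟩ := hcyc.exists_generator
  have hpow : ∀ v ∈ Q, ∃ n : ℤ, v = u₀ ^ n := by
    intro v hv
    obtain ⟨n, hn⟩ := Subgroup.mem_zpowers_iff.mp (hgen ⟨v, hv⟩)
    refine ⟨n, ?_⟩
    have := congrArg Subtype.val hn
    simpa using this.symm
  have hconj : ∀ h ∈ Subgroup.normalizer (Q : Set Γ), ∃ n : ℤ, h * u₀ * h⁻¹ = u₀ ^ n := by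
    intro h hh
    exact hpow _ ((Subgroup.mem_normalizer_iff.mp hh u₀).mp hu₀)
  obtain ⟨a, ha⟩ := hconj g⁻¹ (Subgroup.inv_mem _ hg)
  obtain ⟨b, hb⟩ := hconj x⁻¹ (Subgroup.inv_mem _ hx)
  have h1 : (g⁻¹ * x⁻¹) * u₀ * (g⁻¹ * x⁻¹)⁻¹ = u₀ ^ (a * b) := by
    have : (g⁻¹ * x⁻¹) * u₀ * (g⁻¹ * x⁻¹)⁻¹ = g⁻¹ * (x⁻¹ * u₀ * x⁻¹⁻¹) * g⁻¹⁻¹ := by group
    rw [this, hb, ← conj_zpow, ha, ← zpow_mul]
  have h2 : (x⁻¹ * g⁻¹) * u₀ * (x⁻¹ * g⁻¹)⁻¹ = u₀ ^ (a * b) := by
    have : (x⁻¹ * g⁻¹) * u₀ * (x⁻¹ * g⁻¹)⁻¹ = x⁻¹ * (g⁻¹ * u₀ * g⁻¹⁻¹) * x⁻¹⁻¹ := by group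
    rw [this, ha, ← conj_zpow, hb, ← zpow_mul, mul_comm b a]
  have h3 : ⁅g, x⁆ * u₀ = u₀ * ⁅g, x⁆ := by
    have h4 := h1.trans h2.symm
    have h5 : ⁅g, x⁆ = (x⁻¹ * g⁻¹)⁻¹ * (g⁻¹ * x⁻¹) := by
      rw [commutatorElement_def]; group
    rw [h5]
    have h6 : (x⁻¹ * g⁻¹)⁻¹ * ((g⁻¹ * x⁻¹) * u₀ * (g⁻¹ * x⁻¹)⁻¹) * (x⁻¹ * g⁻¹) = u₀ := by
      rw [h4]; group
    calc (x⁻¹ * g⁻¹)⁻¹ * (g⁻¹ * x⁻¹) * u₀
        = ((x⁻¹ * g⁻¹)⁻¹ * ((g⁻¹ * x⁻¹) * u₀ * (g⁻¹ * x⁻¹)⁻¹) * (x⁻¹ * g⁻¹)) *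
            ((x⁻¹ * g⁻¹)⁻¹ * (g⁻¹ * x⁻¹)) := by group
      _ = u₀ * ((x⁻¹ * g⁻¹)⁻¹ * (g⁻¹ * x⁻¹)) := by rw [h6]
  obtain ⟨n, rfl⟩ := hpow u hu
  exact (Commute.zpow_right h3 n).eq

theorem pow_mem_of_index_dvd {Γ : Type*} [Group Γ] (M : Subgroup Γ) [M.Normal] {n : ℕ}
    (h : M.index ∣ n) (g : Γ) : g ^ n ∈ M := by
  rw [← QuotientGroup.eq_one_iff, QuotientGroup.mk_pow]
  obtain ⟨d, rfl⟩ := h
  rw [pow_mul, Subgroup.index_eq_card, pow_card_eq_one', one_pow]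

/-- a `4`-cycle -/
def c4 : Perm (Fin 4) := c[0, 1, 2, 3]

theorem fin4_c4_sq : (⁅c4 ^ 6, cA⁆) ^ 2 = 1 := by decide +kernel
theorem fin4_c4_ne : (⁅c4 ^ 6, cA⁆) ≠ 1 := by decide +kernel

/-- a `3`-cycle in `S₃` -/
def c3 : Perm (Fin 3) := c[0, 1, 2]
/-- a transposition in `S₃` -/
def t3 : Perm (Fin 3) := Equiv.swap 0 1

theorem fin3_cube : (⁅c3 ^ 2, t3⁆) ^ 3 = 1 := by decide +kernel
theorem fin3_ne : (⁅c3 ^ 2, t3⁆) ≠ 1 := by decide +kernel

/-- in a normal subgroup of small index of the symmetric group there is an element having a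
commutator whose `p`-th power is non-trivial. -/
theorem exists_comm_pow_ne_one {β : Type*} [Fintype β] [DecidableEq β] (M : Subgroup (Perm β))
    [M.Normal] {k p : ℕ} (hidx : M.index ∣ k.factorial) (hk : k < Fintype.card β)
    (h3 : 3 ≤ Fintype.card β) (hp : p.Prime) (hp2 : p ≠ 2) (hp3 : p = 3 → 4 ≤ Fintype.card β) :
    ∃ σ ∈ M, ∃ ξ : Perm β, ⁅σ, ξ⁆ ^ p ≠ 1 := by
  have hodd : Odd p := hp.odd_of_ne_two hp2
  rcases Nat.lt_or_ge (Fintype.card β) 5 with h5 | h5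
  · rcases Nat.lt_or_ge (Fintype.card β) 4 with h4 | h4
    · -- card = 3
      have hc : Fintype.card β = 3 := by omega
      have hk2 : k.factorial ∣ 2 := by
        have : k ≤ 2 := by omega
        interval_cases k <;> simp
      have e : β ≃ Fin 3 := Fintype.equivFinOfCardEq hc
      let φ : Perm (Fin 3) ≃* Perm β := e.symm.permCongrHom
      refine ⟨(φ c3) ^ 2, pow_mem_of_index_dvd M (hidx.trans hk2) _, φ t3, ?_⟩
      rw [← map_pow, ← map_commutatorElement, ← map_pow]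
      intro h1
      have h2 : (⁅c3 ^ 2, t3⁆) ^ p = 1 := φ.injective (h1.trans (map_one φ).symm)
      have h3' : orderOf (⁅c3 ^ 2, t3⁆) = 3 :=
        orderOf_eq_prime fin3_cube fin3_ne
      have h4' := orderOf_dvd_of_pow_eq_one h2
      rw [h3'] at h4'
      have h5' := (Nat.prime_dvd_prime_iff_eq Nat.prime_three hp).mp h4'
      have := hp3 h5'.symm
      omega
    · -- card = 4
      have hc : Fintype.card β = 4 := by omega
      have hk6 : k.factorial ∣ 6 := by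
        have : k ≤ 3 := by omega
        interval_cases k <;> simp [Nat.factorial]
      have e : β ≃ Fin 4 := Fintype.equivFinOfCardEq hc
      let φ : Perm (Fin 4) ≃* Perm β := e.symm.permCongrHom
      refine ⟨(φ c4) ^ 6, pow_mem_of_index_dvd M (hidx.trans hk6) _, φ cA, ?_⟩
      rw [← map_pow, ← map_commutatorElement, ← map_pow, pow_odd_of_sq fin4_c4_sq hodd]
      intro h1
      exact fin4_c4_ne (φ.injective (h1.trans (map_one φ).symm))
  · -- card ≥ 5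
    have hne : M ≠ ⊥ := by
      intro hbot
      rw [hbot, Subgroup.index_bot, Nat.card_perm, Nat.card_eq_fintype_card] at hidx
      have h1 : (Fintype.card β).factorial ≤ k.factorial :=
        Nat.le_of_dvd (Nat.factorial_pos _) hidx
      have h2 : k.factorial ≤ (Fintype.card β - 1).factorial :=
        Nat.factorial_le (by omega)
      have h3 : (Fintype.card β - 1).factorial < (Fintype.card β).factorial :=
        (Nat.factorial_lt (by omega)).mpr (by omega)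
      omega
    have hnt : Nontrivial M := (Subgroup.nontrivial_iff_ne_bot M).mpr hne
    have hAlt : alternatingGroup β ≤ M :=
      alternatingGroup_le_of_normal (by rw [Nat.card_eq_fintype_card]; exact h5) hnt
    have hcardβ : Fintype.card (Fin 4) ≤ Fintype.card β := by
      rw [Fintype.card_fin]; omega
    obtain ⟨ι⟩ := Function.Embedding.nonempty_of_card_le hcardβ
    let f : Fin 4 ≃ {b : β // b ∈ Set.range ι} := Equiv.ofInjective ι ι.injective
    let V : Perm (Fin 4) →* Perm β := extendDomainHom f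
    have hV : Function.Injective V := extendDomainHom_injective f
    have hσ : V cA ∈ alternatingGroup β := by
      rw [mem_alternatingGroup]
      show Perm.sign (extendDomain _ f) = 1
      rw [sign_extendDomain, fin4_sign1]
    refine ⟨V cA, hAlt hσ, V cB, ?_⟩
    rw [← map_commutatorElement, ← map_pow, pow_odd_of_sq fin4_comm_sq hodd]
    intro h1
    exact fin4_comm_ne (hV (h1.trans (map_one V).symm))

variable {α : Type*} [Fintype α] [DecidableEq α]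

namespace MSet

variable {G Q : Subgroup (Perm α)} {Δ : Finset α} {p k : ℕ} (S : MSet G Q Δ p k)
include S

/-- **Route B, final form.** -/
theorem alt_le_of_routeB (hcyc : IsCyclic ↥Q) (hp2 : p ≠ 2) (hr3 : 3 ≤ Δ.card)
    (hkr : k < Δ.card) (hp3 : p = 3 → 4 ≤ Δ.card) (hsurj : (resHom G Q Δ).range = ⊤)
    {m : ℕ} (hm : Δ.card ≤ m) (hm2 : 2 ≤ m) (hG : IsMultiplyPretransitive G α m)
    (hmn : m < Fintype.card α) : alternatingGroup α ≤ G := by
  have hp := S.hp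
  have hsurj' : Function.Surjective (resHom G Q Δ) := MonoidHom.range_eq_top.mp hsurj
  have hcardβ : Fintype.card {a // a ∈ Δ} = Δ.card := Fintype.card_coe _
  set M := (rhoHom G Q Δ).ker.map (resHom G Q Δ) with hM
  have hMn : M.Normal := (MonoidHom.normal_ker (rhoHom G Q Δ)).map _ hsurj'
  have hidx : M.index ∣ k.factorial :=
    (Subgroup.index_map_dvd _ hsurj').trans S.index_ker_dvd
  obtain ⟨σ, hσ, ξ, hne⟩ := exists_comm_pow_ne_one M hidx (by rw [hcardβ]; exact hkr)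
    (by rw [hcardβ]; exact hr3) hp hp2 (by rw [hcardβ]; exact hp3)
  obtain ⟨g, hg, rfl⟩ := hσ
  obtain ⟨x, rfl⟩ := hsurj' ξ
  set c : ↥(NΔ G Q Δ) := ⁅g, x⁆ with hc
  have hcker : c ∈ (rhoHom G Q Δ).ker := by
    rw [hc, commutatorElement_def]
    have h1 : x * g⁻¹ * x⁻¹ ∈ (rhoHom G Q Δ).ker :=
      (MonoidHom.normal_ker (rhoHom G Q Δ)).conj_mem _ (Subgroup.inv_mem _ hg) x
    have h2 := Subgroup.mul_mem _ hg h1
    have h3 : g * x * g⁻¹ * x⁻¹ = g * (x * g⁻¹ * x⁻¹) := by group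
    rw [h3]; exact h2
  have hnorm : ∀ h : ↥(NΔ G Q Δ), (h : Perm α) ∈ Subgroup.normalizer (Q : Set (Perm α)) :=
    fun h => (Subgroup.mem_inf.mp (Subgroup.mem_inf.mp h.2).1).1
  have hcoe : (c : Perm α) = ⁅(g : Perm α), (x : Perm α)⁆ := by
    rw [hc]; simp [commutatorElement_def]
  have hcomm : ∀ u ∈ Q, (c : Perm α) * u = u * (c : Perm α) := by
    intro u hu
    rw [hcoe]
    exact comm_centralizes hcyc (hnorm g) (hnorm x) hu
  have hres : resHom G Q Δ (c ^ p) = ⁅resHom G Q Δ g, resHom G Q Δ x⁆ ^ p := by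
    rw [map_pow, hc, map_commutatorElement]
  have hc1 : ((c ^ p : ↥(NΔ G Q Δ)) : Perm α) ≠ 1 := by
    intro h1
    have h2 : c ^ p = 1 := Subtype.ext h1
    rw [h2, map_one] at hres
    exact hne hres.symm
  have hcG : ((c ^ p : ↥(NΔ G Q Δ)) : Perm α) ∈ G := NΔ_mem_G (c ^ p).2
  have hsupp : ((c ^ p : ↥(NΔ G Q Δ)) : Perm α).support ⊆ Δ := by
    intro a ha
    rw [Perm.mem_support] at ha
    by_contra haΔ
    apply ha
    have := S.routeB hcker hcomm haΔ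
    rw [Subgroup.coe_pow]
    exact this
  exact alt_le_of_small_support G hm2 hG hmn hcG hc1
    (le_trans (Finset.card_le_card hsupp) hm)

end MSet

end Cfsg.Agent.Lib.Helper20.Miller
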