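import Mathlib
import Cfsg.Agent.Lib.Helper20.MillerG

set_option autoImplicit false

/-!
# Miller's bound, part H

Orders of stabilizers of tuples, and the two main cases of the induction step.
-/

namespace Cfsg.Agent.Lib.Helper20.Miller

open Equiv Equiv.Perm MulAction
open scoped commutatorElement

section Card

variable {Γ : Type*} [Group Γ] [Finite Γ] {α : Type*} [Finite α] [MulAction Γ α]

theorem stab_eq_fixing {m : ℕ} (x : Fin m ↪ α) :
    stabilizer Γ x = fixingSubgroup Γ (Set.range x) := by
  ext g
  rw [mem_stabilizer_iff, mem_fixingSubgroup_iff]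
  constructor
  · rintro h _ ⟨i, rfl⟩
    exact congrArg (fun f : Fin m ↪ α => f i) h
  · intro h
    ext i
    exact h _ ⟨i, rfl⟩

theorem card_stab_mul {m : ℕ} (hΓ : IsMultiplyPretransitive Γ α m) (x : Fin m ↪ α) :
    Nat.card (stabilizer Γ x) * (Nat.card α).factorial
      = Nat.card Γ * (Nat.card α - m).factorial := by
  have hs : (Set.range x).ncard = m := by
    rw [Set.ncard_range_of_injective x.injective, Nat.card_eq_fintype_card, Fintype.card_fin]
  have h1 := hΓ.index_of_fixingSubgroup_mul hs
  rw [stab_eq_fixing, ← h1, ← Subgroup.index_mul_card (fixingSubgroup Γ (Set.range x))]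
  ring

theorem card_stab_eq {m : ℕ} (hΓ : IsMultiplyPretransitive Γ α m) (x x' : Fin m ↪ α) :
    Nat.card (stabilizer Γ x) = Nat.card (stabilizer Γ x') := by
  have h1 := card_stab_mul hΓ x
  have h2 := card_stab_mul hΓ x'
  exact Nat.eq_of_mul_eq_mul_right (Nat.factorial_pos _) (h1.trans h2.symm)

theorem card_stab_succ {m : ℕ} (hΓ : IsMultiplyPretransitive Γ α (m + 1))
    (hΓ' : IsMultiplyPretransitive Γ α m) (hm : m < Nat.card α)
    (y : Fin m ↪ α) (x : Fin (m + 1) ↪ α) :
    Nat.card (stabilizer Γ y) = (Nat.card α - m) * Nat.card (stabilizer Γ x) := by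
  have h1 := card_stab_mul hΓ' y
  have h2 := card_stab_mul hΓ x
  have h3 : (Nat.card α - m).factorial = (Nat.card α - m) * (Nat.card α - (m + 1)).factorial := by
    have : Nat.card α - m = (Nat.card α - (m + 1)) + 1 := by omega
    rw [this, Nat.factorial_succ]
  apply Nat.eq_of_mul_eq_mul_right (Nat.factorial_pos (Nat.card α))
  rw [h1, h3, mul_assoc, h2]
  ring

end Card

variable {α : Type*} [Fintype α] [DecidableEq α]

/-- **Case A**: the Sylow subgroup of the stabilizer of `r + 1` points is non-trivial. -/
theorem caseA (G : Subgroup (Perm α)) {k p r : ℕ} (hp : p.Prime) (hp2 : p ≠ 2)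
    (hn : Fintype.card α = k * p + r) (hpk : k < p) (hrk : k < r)
    (hG : IsMultiplyPretransitive G α (r + 1)) (x : Fin (r + 1) ↪ α)
    (hdvd : p ∣ Nat.card (stabilizer ↥G x))
    (IH : ∀ k' < k, ∀ (Δ : Finset α) (H : Subgroup (Perm {a // a ∈ Δ})),
      Δ.card = k' * p + r → 1 ≤ k' →
      IsMultiplyPretransitive H {a // a ∈ Δ} (r + 1) → alternatingGroup {a // a ∈ Δ} ≤ H) :
    alternatingGroup α ≤ G := by
  have : Fact p.Prime := ⟨hp⟩
  let P : Sylow p (stabilizer ↥G x) := default
  set Q := sylQ G x P with hQ
  set Δ := fixF Q with hΔ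
  have hQp : IsPGroup p Q := sylQ_isPGroup P
  -- the size of Δ
  have h1 : r + 1 ≤ Δ.card := by
    have hsub : Finset.univ.map x ⊆ Δ := by
      intro a ha
      rw [Finset.mem_map] at ha
      obtain ⟨i, _, rfl⟩ := ha
      exact range_fix_subset P i
    have := Finset.card_le_card hsub
    rwa [Finset.card_map, Finset.card_univ, Fintype.card_fin] at this
  have h2 : Δ.card < Fintype.card α := by
    have hP1 : p ∣ Nat.card (P : Subgroup (stabilizer ↥G x)) := P.dvd_card_of_dvd_card hdvd
    have hQ1 : 1 < Nat.card Q := by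
      rw [hQ, card_sylQ]
      exact lt_of_lt_of_le hp.one_lt (Nat.le_of_dvd Nat.card_pos hP1)
    have hQne : Q ≠ ⊥ := (Subgroup.one_lt_card_iff_ne_bot Q).mp hQ1
    obtain ⟨u, hu1⟩ := (Subgroup.ne_bot_iff_exists_ne_one.mp hQne)
    have hu1' : (u : Perm α) ≠ 1 := fun h => hu1 (Subtype.ext h)
    obtain ⟨a, ha⟩ : ∃ a, (u : Perm α) a ≠ a := by
      by_contra hh
      push Not at hh
      exact hu1' (Perm.ext hh)
    have haΔ : a ∉ Δ := fun h => ha (mem_fixF.mp h _ u.2)
    have : Δ ⊂ Finset.univ := by
      rw [Finset.ssubset_univ_iff]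
      intro h
      exact haΔ (h ▸ Finset.mem_univ a)
    have := Finset.card_lt_card this
    rwa [Finset.card_univ] at this
  have h3 := card_fixF_modEq (α := α) hQp
  rw [← hΔ] at h3
  obtain ⟨k', hk'⟩ : ∃ k', Fintype.card α = k' * p + Δ.card := by
    have := (Nat.modEq_iff_dvd' h2.le).mp h3.symm
    obtain ⟨d, hd⟩ := this
    exact ⟨d, by rw [mul_comm]; omega⟩
  have hk'1 : 1 ≤ k' := by
    rcases Nat.eq_zero_or_pos k' with h | h
    · rw [h] at hk'; omega
    · exact h
  have hk'k : k' < k := by
    by_contra hh
    push Not at hh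
    have : k * p ≤ k' * p := Nat.mul_le_mul_right p hh
    omega
  have hΔcard : Δ.card = (k - k') * p + r := by
    have : k * p = (k - k') * p + k' * p := by
      rw [← Nat.add_mul]; congr 1; omega
    omega
  have hkk' : 1 ≤ k - k' := by omega
  have S : MSet G Q Δ p k' := mset_of_pgroup hp (sylQ_le P) hQp (by omega) hk'
  -- the restriction contains the alternating group
  have htrans := witt_trans hG P S
  have hAlt : alternatingGroup {a // a ∈ Δ} ≤ (resHom G Q Δ).range :=
    IH (k - k') (by omega) Δ _ hΔcard hkk' htrans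
  have hprΔ : p + r ≤ Δ.card := by
    rw [hΔcard]
    have : p ≤ (k - k') * p := Nat.le_mul_of_pos_left p hkk'
    omega
  have hpΔ : p ≤ Δ.card := by omega
  have hp3 : 3 ≤ p := by
    have := hp.two_le
    omega
  have h5Δ : 5 ≤ Δ.card := by omega
  have hAlt' := S.alt_le_map_ker h5Δ hpΔ hp2 hAlt
  exact S.alt_le_of_routeA hp2 (by omega) hG (by omega) (by omega) hAlt'

/-- **Case B**: the stabilizer of `r + 1` points is a `p'`-group. -/
theorem caseB (G : Subgroup (Perm α)) {k p r : ℕ} (hp : p.Prime) (hp2 : p ≠ 2)
    (hn : Fintype.card α = k * p + r) (hk : 1 ≤ k) (hpk : k < p) (hrk : k < r) (hr3 : 3 ≤ r)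
    (hp3 : p = 3 → 4 ≤ r)
    (hG : IsMultiplyPretransitive G α (r + 1)) (x : Fin (r + 1) ↪ α)
    (hndvd : ¬ p ∣ Nat.card (stabilizer ↥G x)) :
    alternatingGroup α ≤ G := by
  have : Fact p.Prime := ⟨hp⟩
  have hcardα : Nat.card α = k * p + r := by rw [Nat.card_eq_fintype_card, hn]
  have hkp : 0 < k * p := Nat.mul_pos hk hp.pos
  have hkp3 : 3 ≤ k * p := by
    have h1 : 3 ≤ p := by
      have := hp.two_le
      omega
    have h2 : p ≤ k * p := Nat.le_mul_of_pos_left p hk
    omega
  have hGr : IsMultiplyPretransitive G α r :=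
    isMultiplyPretransitive_of_le (Nat.le_succ r) (by rw [hcardα]; omega)
  let y : Fin r ↪ α := Fin.castSuccEmb.trans x
  -- orders
  have hcard_y : Nat.card (stabilizer ↥G y) = k * p * Nat.card (stabilizer ↥G x) := by
    have h := card_stab_succ hG hGr (by rw [hcardα]; omega) y x
    rw [hcardα] at h
    have h2 : k * p + r - r = k * p := by omega
    rw [h2] at h
    exact h
  have hall : ∀ x'' : Fin (r + 1) ↪ α, ¬ p ∣ Nat.card (stabilizer ↥G x'') := by
    intro x'' hd
    apply hndvd
    have h : Nat.card (stabilizer ↥G x'') = Nat.card (stabilizer ↥G x) := card_stab_eq hG x'' x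
    rw [← h]
    exact hd
  let P : Sylow p (stabilizer ↥G y) := default
  set Q := sylQ G y P with hQ
  have hQp : IsPGroup p Q := sylQ_isPGroup P
  have hPcard : Nat.card (P : Subgroup (stabilizer ↥G y)) = p := by
    have hd : p ∣ Nat.card (stabilizer ↥G y) := by
      rw [hcard_y]
      exact Dvd.dvd.mul_right (Dvd.intro_left k rfl) _
    have h1 := P.dvd_card_of_dvd_card hd
    obtain ⟨j, hj⟩ := IsPGroup.iff_card.mp P.isPGroup'
    have h2 : Nat.card (P : Subgroup (stabilizer ↥G y)) ∣ Nat.card (stabilizer ↥G y) :=
      Subgroup.card_subgroup_dvd_card _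
    rw [hj] at h1 h2 ⊢
    have hj2 : j < 2 := by
      by_contra hh
      push Not at hh
      have h3 : p ^ 2 ∣ k * p * Nat.card (stabilizer ↥G x) := by
        rw [← hcard_y]
        exact (pow_dvd_pow p hh).trans h2
      have h4 : p ∣ k * Nat.card (stabilizer ↥G x) := by
        have : k * p * Nat.card (stabilizer ↥G x) = p * (k * Nat.card (stabilizer ↥G x)) := by
          ring
        rw [this, pow_two] at h3
        exact Nat.dvd_of_mul_dvd_mul_left hp.pos h3
      rcases (Nat.Prime.dvd_mul hp).mp h4 with h5 | h5
      · exact absurd (Nat.le_of_dvd hk h5) (not_le.mpr hpk)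
      · exact hndvd h5
    have hj0 : j ≠ 0 := by
      rintro rfl
      rw [pow_zero] at h1
      exact hp.one_lt.ne' (Nat.dvd_one.mp h1)
    have : j = 1 := by omega
    rw [this, pow_one]
  have hQcard : Nat.card Q = p := by rw [hQ, card_sylQ, hPcard]
  -- the fixed points of Q
  have hfixQ : fixF Q = Finset.univ.map y := by
    apply Finset.Subset.antisymm
    · intro e he
      by_contra hne
      have hne' : ∀ i, y i ≠ e := by
        intro i hi
        apply hne
        rw [Finset.mem_map]
        exact ⟨i, Finset.mem_univ _, hi⟩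
      -- the extended tuple
      let x'' : Fin (r + 1) ↪ α :=
        ⟨Fin.snoc (α := fun _ => α) (fun i => y i) e, by
          intro i j hij
          induction i using Fin.lastCases with
          | last =>
            induction j using Fin.lastCases with
            | last => rfl
            | cast j =>
              simp only [Fin.snoc_last, Fin.snoc_castSucc] at hij
              exact absurd hij.symm (hne' j)
          | cast i =>
            induction j using Fin.lastCases with
            | last =>
              simp only [Fin.snoc_last, Fin.snoc_castSucc] at hij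
              exact absurd hij (hne' i)
            | cast j =>
              simp only [Fin.snoc_castSucc] at hij
              rw [y.injective hij]⟩
      apply hall x''
      let P₂ : Subgroup ↥G := (P : Subgroup (stabilizer ↥G y)).map (stabilizer ↥G y).subtype
      have hP₂card : Nat.card P₂ = p := by
        rw [Subgroup.card_map_of_injective (Subgroup.subtype_injective _), hPcard]
      have hle : P₂ ≤ stabilizer ↥G x'' := by
        rintro v ⟨w, hw, rfl⟩
        rw [mem_stabilizer_iff]
        ext i
        induction i using Fin.lastCases with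
        | last =>
          show ((w : ↥G) : Perm α) (Fin.snoc (α := fun _ => α) (fun i => y i) e (Fin.last r)) = _
          have hwQ : ((w : ↥G) : Perm α) ∈ Q := ⟨_, ⟨w, hw, rfl⟩, rfl⟩
          have := mem_fixF.mp he _ hwQ
          simp only [Fin.snoc_last]
          refine this.trans ?_
          show e = Fin.snoc (α := fun _ => α) (fun i => y i) e (Fin.last r)
          simp only [Fin.snoc_last]
        | cast i =>
          show ((w : ↥G) : Perm α) (Fin.snoc (α := fun _ => α) (fun i => y i) e (Fin.castSucc i)) = _
          have := w.2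
          rw [mem_stabilizer_iff] at this
          have h2 := congrArg (fun f : Fin r ↪ α => f i) this
          simp only [Fin.snoc_castSucc]
          refine (h2 : ((w : ↥G) : Perm α) (y i) = y i).trans ?_
          show y i = Fin.snoc (α := fun _ => α) (fun i => y i) e (Fin.castSucc i)
          simp only [Fin.snoc_castSucc]
      have := Subgroup.card_dvd_of_le hle
      rwa [hP₂card] at this
    · intro e he
      rw [Finset.mem_map] at he
      obtain ⟨i, _, rfl⟩ := he
      exact range_fix_subset P i
  have hΔcard : (fixF Q).card = r := by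
    rw [hfixQ, Finset.card_map, Finset.card_univ, Fintype.card_fin]
  have S : MSet G Q (fixF Q) p k :=
    mset_of_pgroup hp (sylQ_le P) hQp hpk (by rw [hΔcard]; exact hn)
  have hcyc : IsCyclic ↥Q := isCyclic_of_prime_card hQcard
  -- the restriction is onto
  have htrans := witt_trans hGr P S
  have hsurj : (resHom G Q (fixF Q)).range = ⊤ := by
    apply eq_top_of_isMultiplyPretransitive
    have hc : Nat.card {a // a ∈ fixF Q} = r := by
      rw [Nat.card_eq_fintype_card, Fintype.card_coe, hΔcard]
    rw [hc]
    exact isMultiplyPretransitive_of_le (Nat.sub_le r 1) (by rw [hc])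
  exact S.alt_le_of_routeB hcyc hp2 (by rw [hΔcard]; exact hr3) (by rw [hΔcard]; exact hrk)
    (by rw [hΔcard]; exact hp3) hsurj (m := r + 1) (by rw [hΔcard]; omega) (by omega) hG
    (by omega)

end Cfsg.Agent.Lib.Helper20.Miller
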