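import Mathlib
import Cfsg.Agent.Lib.Helper20.MillerH
import Cfsg.Agent.S0415

set_option autoImplicit false

/-!
# Miller's bound, part I

The special case of a `4`-transitive group of degree `9`.
-/

namespace Cfsg.Agent.Lib.Helper20.Miller

open Equiv Equiv.Perm MulAction
open scoped commutatorElement

variable {α : Type*} [Fintype α] [DecidableEq α]

/-- Jordan: a primitive group of degree `9` containing a `5`-cycle is `5`-transitive. -/
theorem five_trans_of_five_cycle (G : Subgroup (Perm α)) (hn : Fintype.card α = 9)
    (hprim : IsPreprimitive G α) {g : Perm α} (hg : g ∈ G) (hgc : g.IsCycle)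
    (hcard : g.support.card = 5) : IsMultiplyPretransitive G α 5 := by
  classical
  have hsc : Set.ncard ((g.support : Set α)ᶜ) = 3 + 1 := by
    apply Nat.add_left_cancel (n := (g.support : Set α).ncard)
    rw [Set.ncard_add_ncard_compl, Set.ncard_coe_finset, hcard, Nat.card_eq_fintype_card, hn]
  have hmp : IsMultiplyPreprimitive G α (3 + 2) := by
    apply hprim.isMultiplyPreprimitive hsc
    · rw [Nat.card_eq_fintype_card, hn]; norm_num
    have := isPretransitive_of_isCycle_mem hgc hg
    apply IsPreprimitive.of_prime_card
    convert Nat.prime_five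
    rw [Nat.card_eq_fintype_card, Fintype.card_subtype, ← hcard]
    apply congr_arg
    ext x
    simp [SubMulAction.mem_ofFixingSubgroup_iff]
  exact IsMultiplyPreprimitive.isMultiplyPretransitive ..

/-- a prime other than `2`, `3`, `5` is at least `7`. -/
theorem seven_le_of_prime {q : ℕ} (hq : q.Prime) (h2 : q ≠ 2) (h3 : q ≠ 3) (h5 : q ≠ 5) :
    7 ≤ q := by
  by_contra hh
  push Not at hh
  interval_cases q <;> first | omega | (exact absurd hq (by decide))

theorem nine (G : Subgroup (Perm α)) (hn : Fintype.card α = 9)
    (hG : IsMultiplyPretransitive G α 4) (x : Fin 4 ↪ α)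
    (h3 : ¬ 3 ∣ Nat.card (stabilizer ↥G x))
    (IH5 : IsMultiplyPretransitive G α 5 → alternatingGroup α ≤ G) :
    alternatingGroup α ≤ G := by
  have hcardα : Nat.card α = 9 := by rw [Nat.card_eq_fintype_card, hn]
  by_cases h5 : 5 ∣ Nat.card ↥G
  · -- a 5-cycle
    have : Fact (Nat.Prime 5) := ⟨Nat.prime_five⟩
    obtain ⟨g, hg⟩ := exists_prime_orderOf_dvd_card' 5 h5
    have hord : orderOf (g : Perm α) = 5 := by rw [Subgroup.orderOf_coe, hg]
    have hcyc : (g : Perm α).IsCycle :=
      isCycle_of_prime_order' (by rw [hord]; exact Nat.prime_five) (by rw [hord, hn]; norm_num)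
    have hsupp : (g : Perm α).support.card = 5 := by rw [← hcyc.orderOf, hord]
    have h2 : IsMultiplyPretransitive G α 2 :=
      isMultiplyPretransitive_of_le (n := 4) (by norm_num) (by rw [hcardα]; norm_num)
    have hprim : IsPreprimitive G α := isPreprimitive_of_is_two_pretransitive h2
    exact IH5 (five_trans_of_five_cycle G hn hprim g.2 hcyc hsupp)
  · -- the stabilizer is trivial
    exfalso
    have hone : Nat.card (stabilizer ↥G x) = 1 := by
      by_contra hne
      obtain ⟨q, hq, hqd⟩ := Nat.exists_prime_and_dvd hne
      have : Fact q.Prime := ⟨hq⟩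
      by_cases hq3 : q = 3
      · exact h3 (hq3 ▸ hqd)
      by_cases hq5 : q = 5
      · exact h5 ((hq5 ▸ hqd).trans (Subgroup.card_subgroup_dvd_card _))
      by_cases hq2 : q = 2
      · -- Witt
        subst hq2
        let P : Sylow 2 (stabilizer ↥G x) := default
        set Q := sylQ G x P with hQ
        set Δ := fixF Q with hΔ
        have hQp : IsPGroup 2 Q := sylQ_isPGroup P
        have h1 : 4 ≤ Δ.card := by
          have hsub : Finset.univ.map x ⊆ Δ := by
            intro a ha
            rw [Finset.mem_map] at ha
            obtain ⟨i, _, rfl⟩ := ha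
            exact range_fix_subset P i
          have := Finset.card_le_card hsub
          rwa [Finset.card_map, Finset.card_univ, Fintype.card_fin] at this
        have h2 : Δ.card < Fintype.card α := by
          have hP1 : 2 ∣ Nat.card (P : Subgroup (stabilizer ↥G x)) := P.dvd_card_of_dvd_card hqd
          have hQ1 : 1 < Nat.card Q := by
            rw [hQ, card_sylQ]
            exact lt_of_lt_of_le one_lt_two (Nat.le_of_dvd Nat.card_pos hP1)
          have hQne : Q ≠ ⊥ := (Subgroup.one_lt_card_iff_ne_bot Q).mp hQ1
          obtain ⟨u, hu1⟩ := (Subgroup.ne_bot_iff_exists_ne_one.mp hQne)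
          have hu1' : (u : Perm α) ≠ 1 := fun h => hu1 (Subtype.ext h)
          obtain ⟨a, ha⟩ : ∃ a, (u : Perm α) a ≠ a := by
            by_contra hh
            push Not at hh
            exact hu1' (Perm.ext hh)
          have haΔ : a ∉ Δ := fun h => ha (mem_fixF.mp h _ u.2)
          have : Δ ⊂ Finset.univ := by
            rw [Finset.ssubset_univ_iff]
            intro h
            exact haΔ (h ▸ Finset.mem_univ a)
          have := Finset.card_lt_card this
          rwa [Finset.card_univ] at this
        have h3' := card_fixF_modEq (α := α) hQp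
        rw [← hΔ, hn] at h3'
        have h5Δ : 5 ≤ Δ.card := by
          have := h3'
          unfold Nat.ModEq at this
          omega
        rw [hn] at h2
        -- transitivity on Δ
        have hfix : ∀ u ∈ Q, ∀ a ∈ Δ, u a = a := fun u hu a ha => mem_fixF.mp ha u hu
        have hmov : ∀ a, a ∉ Δ → ∃ u ∈ Q, u a ≠ a := fun a ha => by
          by_contra hne
          push Not at hne
          exact ha (mem_fixF.mpr hne)
        have htrans := witt_trans' hG P hfix hmov
        have hcβ : Nat.card {a // a ∈ Δ} = Δ.card := by
          rw [Nat.card_eq_fintype_card, Fintype.card_coe]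
        have hne4 : Fintype.card (Fin 4) ≤ Fintype.card {a // a ∈ Δ} := by
          rw [Fintype.card_coe, Fintype.card_fin]; exact h1
        obtain ⟨z⟩ := Function.Embedding.nonempty_of_card_le hne4
        have hmul := card_stab_mul htrans z
        rw [hcβ] at hmul
        have h5H : 5 ∣ Nat.card (resHom G Q Δ).range := by
          have hd : 5 ∣ Nat.card (resHom G Q Δ).range * (Δ.card - 4).factorial := by
            rw [← hmul]
            exact Dvd.dvd.mul_left ((Nat.Prime.dvd_factorial Nat.prime_five).mpr h5Δ) _
          rcases (Nat.Prime.dvd_mul Nat.prime_five).mp hd with h | h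
          · exact h
          · exfalso
            have := (Nat.Prime.dvd_factorial Nat.prime_five).mp h
            omega
        apply h5
        refine h5H.trans ((Subgroup.card_range_dvd _).trans ?_)
        exact Subgroup.card_dvd_of_le (fun g hg => NΔ_mem_G hg)
      · -- large primes
        have h7 : 7 ≤ q := seven_le_of_prime hq hq2 hq3 hq5
        obtain ⟨v, hv⟩ := exists_prime_orderOf_dvd_card' q hqd
        have hvord : orderOf (((v : ↥G)) : Perm α) = q := by
          rw [Subgroup.orderOf_coe, Subgroup.orderOf_coe, hv]
        set Z := Subgroup.zpowers (((v : ↥G)) : Perm α) with hZ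
        have hZcard : Nat.card Z = q := by rw [hZ, Nat.card_zpowers, hvord]
        have hZp : IsPGroup q Z := IsPGroup.of_card (n := 1) (by rw [hZcard, pow_one])
        have h1 : 4 ≤ (fixF Z).card := by
          have hsub : Finset.univ.map x ⊆ fixF Z := by
            intro a ha
            rw [Finset.mem_map] at ha
            obtain ⟨i, _, rfl⟩ := ha
            rw [mem_fixF]
            intro u hu
            obtain ⟨j, rfl⟩ := Subgroup.mem_zpowers_iff.mp hu
            have hvx : (((v : ↥G)) : Perm α) (x i) = x i := by
              have := v.2
              rw [mem_stabilizer_iff] at this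
              exact congrArg (fun f : Fin 4 ↪ α => f i) this
            have hmem : (((v : ↥G)) : Perm α) ∈ stabilizer (Perm α) (x i) := hvx
            exact (stabilizer (Perm α) (x i)).zpow_mem hmem j
          have := Finset.card_le_card hsub
          rwa [Finset.card_map, Finset.card_univ, Fintype.card_fin] at this
        have h2 : (fixF Z).card ≤ 9 := by
          rw [← hn, ← Finset.card_univ]
          exact Finset.card_le_card (Finset.subset_univ _)
        have h3' := card_fixF_modEq (α := α) hZp
        rw [hn] at h3'
        have h4 : (fixF Z).card = 9 := by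
          have hd := (Nat.modEq_iff_dvd' h2).mp h3'.symm
          rcases Nat.eq_zero_or_pos (9 - (fixF Z).card) with h | h
          · omega
          · have := Nat.le_of_dvd h hd
            omega
        have hall : ∀ a, (((v : ↥G)) : Perm α) a = a := by
          intro a
          have : fixF Z = Finset.univ := by
            apply Finset.eq_univ_of_card
            rw [h4, hn]
          have ha : a ∈ fixF Z := this ▸ Finset.mem_univ a
          exact mem_fixF.mp ha _ (Subgroup.mem_zpowers _)
        have hv1 : (((v : ↥G)) : Perm α) = 1 := Perm.ext hall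
        rw [hv1, orderOf_one] at hvord
        omega
    have hsharp : ∀ x'' : Fin 4 ↪ α, stabilizer ↥G x'' = ⊥ := by
      intro x''
      apply Subgroup.eq_bot_of_card_eq
      have h : Nat.card (stabilizer ↥G x'') = Nat.card (stabilizer ↥G x) := card_stab_eq hG x'' x
      exact h.trans hone
    have := @Cfsg.Agent.S0415.result α _ _ G (by rw [hn]; norm_num) hG hsharp
    rw [hn] at this
    omega

end Cfsg.Agent.Lib.Helper20.Miller
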