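import Mathlib
import Cfsg.Agent.Lib.Helper20.UTDefs
import Cfsg.Agent.Lib.Helper20.UTCT
import Cfsg.Agent.Lib.Helper25.TensStmt

/-!
S5670 Stage II (`R1U ⇒ T1U`): shared definitions.

`y` isotropic in `B`, `W = A ⊗ y`, `c_z v := ct (cj q z) v` (so `h(v, x ⊗ z) = h_A(c_z v, x)`), `W^⊥ = ker c_y`.
`IsZ q y g θ`: `g = E_y(θ) : v ↦ v + θ(c_y v) ⊗ y` (the centre `Z_W` of the unipotent radical of `Stab(W)`; an isometry
iff `θ` is skew-hermitian); `kB q y c = E_y(c • 1)`, the transvection with centre `x ⊗ y` and parameter `c` is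
`E_y(c • rk1 q x)`.  `Th q y M` = the set of `θ` with `E_y(θ) ∈ M`.
-/

set_option autoImplicit false
set_option linter.unusedSectionVars false
set_option linter.unusedVariables false

namespace Cfsg.Agent.Lib.Helper20.UTN
open Matrix
open Cfsg.Agent.Lib.Helper25.Tens Cfsg.Agent.Lib.Helper25.TensLeaf Cfsg.Agent.Lib.Helper25.TensLeaves
open Cfsg.Agent.Lib.Helper20.UT Cfsg.Agent.Lib.Helper20.UTLeaf
open scoped Kronecker

variable {F : Type*} [Field F] {a b : ℕ}

/-- the adjoint of a matrix for the standard hermitian form: conjugate transpose -/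
def adjM (q : ℕ) (H : Matrix (Fin a) (Fin a) F) : Matrix (Fin a) (Fin a) F :=
  (H.map (fun t => t ^ q))ᵀ

lemma adjM_apply (q : ℕ) (H : Matrix (Fin a) (Fin a) F) (i j : Fin a) :
    adjM q H i j = (H j i) ^ q := rfl

/-- `g = E_y(θ)` -/
def IsZ (q : ℕ) (y : Fin b → F) (g : GL (Idx a b) F) (θ : Matrix (Fin a) (Fin a) F) : Prop :=
  ∀ v, mv g v = v + pt (θ *ᵥ ct (cj q y) v) y

/-- the `θ` with `E_y(θ) ∈ M` -/
def Th (q : ℕ) (y : Fin b → F) (M : Subgroup (GL (Idx a b) F)) :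
    Set (Matrix (Fin a) (Fin a) F) :=
  {θ | ∃ g ∈ M, IsZ q y g θ}

/-- `M ∩ Z_W` is not contained in the tensor group -/
def NSc (q : ℕ) (y : Fin b → F) (M : Subgroup (GL (Idx a b) F)) : Prop :=
  ∃ θ ∈ Th q y M, ¬ IsScalarMat θ

/-- some element of `M` outside `KG` stabilises `A ⊗ y` -/
def R2U (q : ℕ) (M : Subgroup (GL (Idx a b) F)) (y : Fin b → F) : Prop :=
  ∃ h ∈ M, h ∉ KG a b F ∧ ∀ x : Fin a → F, ∃ x' : Fin a → F, mv h (pt x y) = pt x' y

/-- an isometry fixing `A ⊗ y` pointwise with `u K u⁻¹ ≤ M` -/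
structure Adm (q : ℕ) (y : Fin b → F) (M : Subgroup (GL (Idx a b) F)) (u : GL (Idx a b) F) :
    Prop where
  iso : u ∈ GUI a b q F
  conj : ∀ k ∈ KG a b F ⊓ GS a b q F, u * k * u⁻¹ ∈ M
  fix : ∀ x : Fin a → F, mv u (pt x y) = pt x y

/-- the rank one hermitian matrix `x x†` -/
def rk1 (q : ℕ) (x : Fin a → F) : Matrix (Fin a) (Fin a) F := Matrix.vecMulVec x (cj q x)

lemma rk1_mulVec (q : ℕ) (x v : Fin a → F) : rk1 q x *ᵥ v = hv q v x • x := by
  unfold rk1
  rw [Matrix.vecMulVec_mulVec, ← hv_eq_dot]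
  ext i; simp [mul_comm]

/-- the block `x ↦ c_{z'} (u (x ⊗ z))` of `u` -/
def blkM (q : ℕ) (u : GL (Idx a b) F) (z z' : Fin b → F) : Matrix (Fin a) (Fin a) F :=
  LinearMap.toMatrix' ((ctR (cj q z')).comp
    ((Matrix.toLin' (u : Matrix (Idx a b) (Idx a b) F)).comp (ptL z)))

lemma blkM_mulVec (q : ℕ) (u : GL (Idx a b) F) (z z' : Fin b → F) (x : Fin a → F) :
    blkM q u z z' *ᵥ x = ct (cj q z') (mv u (pt x z)) := by
  unfold blkM
  rw [← Matrix.toLin'_apply, Matrix.toLin'_toMatrix']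
  rfl

/-- the Siegel element `1 ⊗ σ`, `σ v = v + c (h(v,y) z + h(v,z) y)` (`y`, `z` isotropic and orthogonal) -/
def sB (q : ℕ) (y z : Fin b → F) (c : F) (hy : hv q y y = 0) (hz : hv q z z = 0)
    (hyz : hv q (y + z) (y + z) = 0) : GL (Idx a b) F :=
  kB q (y + z) c hyz * kB q y (-c) hy * kB q z (-c) hz

section fin
variable [Fintype F] {q : ℕ}

lemma hv_adjM (hF : Fintype.card F = q ^ 2) (H : Matrix (Fin a) (Fin a) F) (x x' : Fin a → F) :
    hv q (H *ᵥ x) x' = hv q x (adjM q H *ᵥ x') := by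
  simp only [hv, Matrix.mulVec, dotProduct, adjM_apply, Finset.sum_mul]
  rw [Finset.sum_comm]
  apply Finset.sum_congr rfl; intro j _
  rw [sum_pow_q hF, Finset.mul_sum]
  apply Finset.sum_congr rfl; intro i _
  rw [mul_pow, pow_q_pow_q' hF]
  ring

lemma cj_add (hF : Fintype.card F = q ^ 2) {κ : Type} (y z : κ → F) :
    cj q (y + z) = cj q y + cj q z := by
  ext i; simp only [cj, Pi.add_apply, add_pow_q hF]

lemma cj_smul {κ : Type} (c : F) (y : κ → F) : cj q (c • y) = c ^ q • cj q y := by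
  ext i; simp only [cj, Pi.smul_apply, smul_eq_mul, mul_pow]

lemma iso_add (hF : Fintype.card F = q ^ 2) {y z : Fin b → F} (hy : hv q y y = 0)
    (hz : hv q z z = 0) (hzy : hv q z y = 0) : hv q (y + z) (y + z) = 0 := by
  rw [hv_add_left, hv_add_right hF, hv_add_right hF, hy, hz, hzy, hv_symm_zero hF hzy]
  ring

lemma ct_cj_add_smul_pt (w : Fin b → F) (v : Idx a b → F) (d : F) (x : Fin a → F) (z : Fin b → F) :
    ct (cj q w) (v + d • pt x z) = ct (cj q w) v + (d * hv q z w) • x := by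
  rw [ct_add, ct_smul, ct_cj_pt, smul_smul]

lemma mv_sB (hF : Fintype.card F = q ^ 2) (y z : Fin b → F) (c : F) (hy : hv q y y = 0)
    (hz : hv q z z = 0) (hzy : hv q z y = 0) (hyz : hv q (y + z) (y + z) = 0)
    (v : Idx a b → F) :
    mv (sB q y z c hy hz hyz : GL (Idx a b) F) v =
      v + c • (pt (ct (cj q y) v) z + pt (ct (cj q z) v) y) := by
  have hyz' : hv q y z = 0 := hv_symm_zero hF hzy
  unfold sB
  rw [mv_mul, mv_mul, mv_kB q z, mv_kB q y, mv_kB q (y + z)]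
  have h1y : ct (cj q y) (v + -c • pt (ct (cj q z) v) z) = ct (cj q y) v := by
    rw [ct_cj_add_smul_pt, hzy, mul_zero, zero_smul, add_zero]
  have h1z : ct (cj q z) (v + -c • pt (ct (cj q z) v) z) = ct (cj q z) v := by
    rw [ct_cj_add_smul_pt, hz, mul_zero, zero_smul, add_zero]
  rw [h1y]
  have h2y : ct (cj q y) (v + -c • pt (ct (cj q z) v) z + -c • pt (ct (cj q y) v) y) =
      ct (cj q y) v := by
    rw [ct_cj_add_smul_pt, h1y, hy, mul_zero, zero_smul, add_zero]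
  have h2z : ct (cj q z) (v + -c • pt (ct (cj q z) v) z + -c • pt (ct (cj q y) v) y) =
      ct (cj q z) v := by
    rw [ct_cj_add_smul_pt, h1z, hyz', mul_zero, zero_smul, add_zero]
  rw [cj_add hF, ct_add_left, h2y, h2z, pt_add_left, pt_add_right, pt_add_right]
  simp only [smul_add, neg_smul]
  abel

end fin

end Cfsg.Agent.Lib.Helper20.UTN
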