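import Mathlib
import Cfsg.Agent.Lib.Helper20.UTDefs
import Cfsg.Agent.Lib.Helper20.UTCT
import Cfsg.Agent.Lib.Helper23.UTG

/-!
S5670 Stage I: S1 `fus` (fusion control, B-side), S2 `step3`, S3 `claimA`, S4 `claimC`, S5 `no_pure`
of `notes/S5670_leaves.lean` (paper proof: `notes/C4_stageI_fixedpoint_helper20.md`).
-/

set_option autoImplicit false
set_option linter.unusedSectionVars false
set_option linter.unusedVariables false
set_option linter.style.haveILetI false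

namespace Cfsg.Agent.Lib.Helper20.UTLeaf
open Matrix
open Cfsg.Agent.Lib.Helper25.Tens Cfsg.Agent.Lib.Helper25.TensLeaf Cfsg.Agent.Lib.Helper20.UT
open Cfsg.Agent.Lib.Helper23.UTLeaf
open scoped Kronecker

variable {F : Type*} [Field F] [Fintype F] {a b q : ℕ}

variable {M : Subgroup (GL (Idx a b) F)}

lemma cj_ne_zero {κ : Type} {y : κ → F} (hy : y ≠ 0) : cj q y ≠ 0 := by
  obtain ⟨i, hi⟩ := Function.ne_iff.mp hy
  intro h
  have := congrFun h i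
  simp only [cj, Pi.zero_apply] at this
  exact pow_ne_zero q hi this

lemma hv_single_self {n : ℕ} (i : Fin n) : hv q (Pi.single i (1 : F)) (Pi.single i (1 : F)) = 1 := by
  unfold hv
  rw [Finset.sum_eq_single i]
  · simp
  · intro j _ hj; simp [hj]
  · simp

/-- an element of `M` is an isometry -/
lemma iso_of_mem (hc : MCtx a b q M) {m : GL (Idx a b) F} (hm : m ∈ M) (u v : Idx a b → F) :
    hv q (mv m u) (mv m v) = hv q u v :=
  mem_GUI.mp (hc.le_G hm).1 u v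

/-- if `g` maps `A ⊗ y` into `A ⊗ y''` (`y, y'' ≠ 0`) and is an isometry, `y` isotropic, then `y''` is
isotropic -/
lemma iso_of_fib_map (ha : 1 ≤ a) {g : GL (Idx a b) F}
    (hiso : ∀ u v, hv q (mv g u) (mv g v) = hv q u v) {y y'' : Fin b → F} (hy0 : y ≠ 0)
    (hy''0 : y'' ≠ 0) (hy : hv q y y = 0)
    (hmap : ∀ x : Fin a → F, ∃ x' : Fin a → F, mv g (pt x y) = pt x' y'') : hv q y'' y'' = 0 := by
  classical
  obtain ⟨l, hl⟩ := Function.ne_iff.mp hy''0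
  have hl' : y'' l ≠ 0 := hl
  set η₀ : Fin b → F := Pi.single l (y'' l)⁻¹ with hη₀
  have hη₀y : η₀ ⬝ᵥ y'' = 1 := by
    rw [hη₀, single_dotProduct, inv_mul_cancel₀ hl']
  set φ : (Fin a → F) →ₗ[F] (Fin a → F) :=
    (ctR η₀).comp ((Matrix.toLin' (g : Matrix (Idx a b) (Idx a b) F)).comp (ptL y)) with hφ
  have hφx : ∀ x, mv g (pt x y) = pt (φ x) y'' := by
    intro x
    obtain ⟨x', hx'⟩ := hmap x
    have : φ x = x' := by
      change ct η₀ ((g : Matrix (Idx a b) (Idx a b) F) *ᵥ pt x y) = x'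
      have h1 : (g : Matrix (Idx a b) (Idx a b) F) *ᵥ pt x y = pt x' y'' := hx'
      rw [h1, ct_pt, hη₀y, one_smul]
    rw [this, hx']
  have hinj : Function.Injective φ := by
    rw [← LinearMap.ker_eq_bot, LinearMap.ker_eq_bot']
    intro x hx
    have h1 := hφx x
    rw [hx, pt_zero_left, mv_eq_zero_iff, pt_eq_zero_iff] at h1
    rcases h1 with h | h
    · exact h
    · exact absurd h hy0
  have hsurj : Function.Surjective φ := LinearMap.injective_iff_surjective.mp hinj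
  obtain ⟨x, hx⟩ := hsurj (Pi.single ⟨0, by omega⟩ 1)
  have h1 := hiso (pt x y) (pt x y)
  rw [hφx, hx, hv_pt, hv_pt, hy, mul_zero, hv_single_self, one_mul] at h1
  exact h1

/-- S1 FUSION CONTROL (B-side). -/
theorem fus (hc : MCtx a b q M) (hNS : ¬ R1U q M) {m : GL (Idx a b) F} (hm : m ∈ M)
    {y : Fin b → F} (hy0 : y ≠ 0) (hy : hv q y y = 0) {c : F} (hc0 : c ≠ 0)
    (hk : m⁻¹ * kB q y c hy * m ∈ KG a b F) : m ∈ KG a b F := by
  have ha := hc.ha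
  have hη : c • cj q y ≠ 0 := smul_ne_zero hc0 (cj_ne_zero hy0)
  obtain ⟨y'', hy''0, hmap⟩ := leafQ (by omega) hc.hab m y (c • cj q y) hy0 hη _ hk
  have hmM : m⁻¹ ∈ M := M.inv_mem hm
  have hy'' : hv q y'' y'' = 0 :=
    iso_of_fib_map (by omega) (iso_of_mem hc hmM) hy0 hy''0 hy hmap
  by_contra hmK
  apply hNS
  refine ⟨m⁻¹, hmM, ?_, y, y'', hy0, hy''0, hy, hy'', hmap⟩
  intro h
  exact hmK (by simpa using (KG a b F).inv_mem h)

/-- the image of a submodule under `g` -/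
def img (g : GL (Idx a b) F) (W : Submodule F (Idx a b → F)) : Submodule F (Idx a b → F) :=
  W.map (Matrix.toLin' (g : Matrix (Idx a b) (Idx a b) F))

lemma mem_img {g : GL (Idx a b) F} {W : Submodule F (Idx a b → F)} {v : Idx a b → F} :
    v ∈ img g W ↔ ∃ w ∈ W, mv g w = v := by
  unfold img mv
  rw [Submodule.mem_map]
  simp only [Matrix.toLin'_apply]

lemma finrank_img_le (g : GL (Idx a b) F) (W : Submodule F (Idx a b → F)) :
    Module.finrank F (img g W) ≤ Module.finrank F W :=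
  Submodule.finrank_map_le _ _

lemma exists_char_prime (F : Type*) [Field F] [Fintype F] : ∃ p : ℕ, p.Prime ∧ CharP F p := by
  obtain ⟨p, hp⟩ := CharP.exists F
  haveI := hp
  exact ⟨p, CharP.char_is_prime F p, hp⟩

/-- `kB q y c hy ∈ M` -/
lemma kB_mem (hc : MCtx a b q M) (y : Fin b → F) {c : F} (hcs : c ^ q = -c) (hy : hv q y y = 0) :
    (kB q y c hy : GL (Idx a b) F) ∈ M :=
  hc.le ⟨kB_mem_KG q y c hy, kB_mem_GS hc.hF y hcs hy⟩

lemma kA_mem (hc : MCtx a b q M) (x : Fin a → F) {c : F} (hcs : c ^ q = -c) (hx : hv q x x = 0) :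
    (kA q x c hx : GL (Idx a b) F) ∈ M :=
  hc.le ⟨kA_mem_KG q x c hx, kA_mem_GS hc.hF x hcs hx⟩

/-- an element of `M` fixing an isotropic fibre pointwise lies in `KG` -/
lemma mem_KG_of_fix (hNS : ¬ R1U q M) {h : GL (Idx a b) F} (hh : h ∈ M) {y' : Fin b → F}
    (hy'0 : y' ≠ 0) (hy' : hv q y' y' = 0) (hfix : ∀ x : Fin a → F, mv h (pt x y') = pt x y') :
    h ∈ KG a b F := by
  by_contra hK
  exact hNS ⟨h, hh, hK, y', y', hy'0, hy'0, hy', hy', fun x => ⟨x, hfix x⟩⟩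

/-- S2 (step 3 of the note) -/
theorem step3 (hc : MCtx a b q M) (hNS : ¬ R1U q M) {g x : GL (Idx a b) F} (hg : g ∈ M)
    (hgK : g ∉ KG a b F) (hx : x ∈ M) (hgx : g⁻¹ * x ∈ KG a b F)
    {y y' : Fin b → F} (hy0 : y ≠ 0) (hy'0 : y' ≠ 0) (hy : hv q y y = 0) (hy' : hv q y' y' = 0)
    (hP : ∀ v, ∃ x₁ x₂ : Fin a → F, mv x⁻¹ v = v + pt x₁ y + mv g (pt x₂ y')) :
    ∀ x₂ : Fin a → F, ∃ x₁ : Fin a → F, mv x⁻¹ (mv g (pt x₂ y')) = pt x₁ y := by
  classical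
  -- `x⁻¹ g = α ⊗ β`
  have hk : x⁻¹ * g ∈ KG a b F := by
    have h1 := (KG a b F).inv_mem hgx
    rwa [_root_.mul_inv_rev, inv_inv] at h1
  obtain ⟨α, β, hαβ⟩ := hk
  have hxg : ∀ (x₁ : Fin a → F) (y₁ : Fin b → F), mv x⁻¹ (mv g (pt x₁ y₁)) =
      pt (mv α x₁) (mv β y₁) := by
    intro x₁ y₁
    rw [← mv_mul]
    unfold mv
    rw [hαβ, kron_mulVec_pt]
  set y'' : Fin b → F := mv β y' with hy''
  have hy''0 : y'' ≠ 0 := fun h => hy'0 ((mv_eq_zero_iff β y').mp h)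
  by_cases hmul : ∃ d : F, y'' = d • y
  · obtain ⟨d, hd⟩ := hmul
    intro x₂
    refine ⟨d • mv α x₂, ?_⟩
    rw [hxg, ← hy'', hd, pt_smul_right, pt_smul_left]
  · exfalso
    push Not at hmul
    set W' : Submodule F (Idx a b → F) := img g (Fib (a := a) y') with hW'
    have hW'rk : Module.finrank F W' ≤ a := by
      have := finrank_img_le g (Fib (a := a) y')
      rwa [finrank_Fib hy'0] at this
    have hle : Fib (a := a) y'' ≤ W' ⊔ Fib y := by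
      intro v hv
      obtain ⟨x'', rfl⟩ := mem_Fib.mp hv
      have h1 : pt x'' y'' = mv x⁻¹ (mv g (pt (mv α⁻¹ x'') y')) := by
        rw [hxg, mv_mv_inv]
      obtain ⟨x₁, x₂, h2⟩ := hP (mv g (pt (mv α⁻¹ x'') y'))
      rw [h1, h2]
      have h3 : mv g (pt (mv α⁻¹ x'') y') + pt x₁ y + mv g (pt x₂ y') =
          mv g (pt (mv α⁻¹ x'' + x₂) y') + pt x₁ y := by
        rw [pt_add_left, mv_add]; abel
      rw [h3]
      apply Submodule.add_mem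
      · exact Submodule.mem_sup_left (mem_img.mpr ⟨_, mem_Fib.mpr ⟨_, rfl⟩, rfl⟩)
      · exact Submodule.mem_sup_right (mem_Fib.mpr ⟨_, rfl⟩)
    have hW'le := le_sup_Fib hW'rk hy0 hy''0 hmul hle
    obtain ⟨y₃, hy₃0, hy₃, h1, h2⟩ := exists_iso_perp_two (q := q) hc.hF hc.hb y y''
    obtain ⟨c, hc0, hcs⟩ := exists_skew (q := q) hc.hF
    -- `kB y₃ c` fixes `W'` pointwise
    have hfixW : ∀ w ∈ W', mv (kB q y₃ c hy₃ : GL (Idx a b) F) w = w := by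
      intro w hw
      obtain ⟨u₁, hu₁, u₂, hu₂, rfl⟩ := Submodule.mem_sup.mp (hW'le hw)
      obtain ⟨x₁, rfl⟩ := mem_Fib.mp hu₁
      obtain ⟨x₂, rfl⟩ := mem_Fib.mp hu₂
      rw [mv_kB, ct_add, ct_cj_pt, ct_cj_pt, h1, h2, zero_smul, zero_smul, add_zero, pt_zero_left,
        smul_zero, add_zero]
    -- the conjugate fixes `A ⊗ y'` pointwise
    have hconjM : g⁻¹ * kB q y₃ c hy₃ * g ∈ M :=
      M.mul_mem (M.mul_mem (M.inv_mem hg) (kB_mem hc y₃ hcs hy₃)) hg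
    have hconj : g⁻¹ * kB q y₃ c hy₃ * g ∈ KG a b F := by
      apply mem_KG_of_fix hNS hconjM hy'0 hy'
      intro x₂
      rw [mv_mul, mv_mul, hfixW _ (mem_img.mpr ⟨_, mem_Fib.mpr ⟨_, rfl⟩, rfl⟩), mv_inv_mv]
    exact hgK (fus hc hNS hg hy₃0 hy₃ hc0 hconj)

/-- the conjugate `g (kB y' c) g⁻¹` moves vectors inside `g (A ⊗ y')` -/
lemma conj_kB_sub_mem (g : GL (Idx a b) F) (y' : Fin b → F) (c : F) (hy' : hv q y' y' = 0)
    (v : Idx a b → F) :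
    mv (g * kB q y' c hy' * g⁻¹) v - v ∈ img g (Fib (a := a) y') := by
  rw [mem_img]
  refine ⟨c • pt (ct (cj q y') (mv g⁻¹ v)) y', ?_, ?_⟩
  · rw [← pt_smul_left]
    exact mem_Fib.mpr ⟨_, rfl⟩
  · rw [mv_mul, mv_mul, mv_kB, mv_add, mv_mv_inv, add_sub_cancel_left]

/-- the conjugate `g (kB y' c) g⁻¹` fixes `g (pt x₂ y')` -/
lemma conj_kB_fix (g : GL (Idx a b) F) (y' : Fin b → F) (c : F) (hy' : hv q y' y' = 0)
    (x₂ : Fin a → F) :
    mv (g * kB q y' c hy' * g⁻¹) (mv g (pt x₂ y')) = mv g (pt x₂ y') := by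
  rw [mv_mul, mv_mul, mv_inv_mv, mv_kB_pt, hy', mul_zero, zero_smul, add_zero]

lemma conj_pow_char (p : ℕ) [CharP F p] (g : GL (Idx a b) F) (y' : Fin b → F) (c : F)
    (hy' : hv q y' y' = 0) : (g * kB q y' c hy' * g⁻¹) ^ p = 1 := by
  rw [conj_pow, kB_pow_char, mul_one, mul_inv_cancel]

/-- `h2` of C3 for the conjugate -/
lemma fus_conj (hc : MCtx a b q M) (hNS : ¬ R1U q M) {g : GL (Idx a b) F} (hg : g ∈ M)
    {y' : Fin b → F} (hy'0 : y' ≠ 0) (hy' : hv q y' y' = 0) {c : F} (hc0 : c ≠ 0) :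
    ∀ h ∈ M, h⁻¹ * (g * kB q y' c hy' * g⁻¹) * h ∈ KG a b F → g⁻¹ * h ∈ KG a b F := by
  intro h hh hk
  apply fus hc hNS (M.mul_mem (M.inv_mem hg) hh) hy'0 hy' hc0
  have : (g⁻¹ * h)⁻¹ * kB q y' c hy' * (g⁻¹ * h) = h⁻¹ * (g * kB q y' c hy' * g⁻¹) * h := by
    group
  rw [this]; exact hk

/-- S3 (claim A) -/
theorem claimA (hc : MCtx a b q M) (hNS : ¬ R1U q M) {g : GL (Idx a b) F} (hg : g ∈ M)
    (hgK : g ∉ KG a b F) {y y' : Fin b → F} (hy0 : y ≠ 0) (hy'0 : y' ≠ 0) (hy : hv q y y = 0)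
    (hy' : hv q y' y' = 0) (x₂ : Fin a → F) (h0 : ct (cj q y) (mv g (pt x₂ y')) = 0) :
    ∃ x₁ : Fin a → F, mv g (pt x₂ y') = pt x₁ y := by
  classical
  obtain ⟨c, hc0, hcs⟩ := exists_skew (q := q) hc.hF
  obtain ⟨p, hpp, hp⟩ := exists_char_prime F
  haveI := hp
  set z : GL (Idx a b) F := kB q y c hy with hz
  set z' : GL (Idx a b) F := g * kB q y' c hy' * g⁻¹ with hz'
  have hzM : z ∈ M := kB_mem hc y hcs hy
  have hz'M : z' ∈ M := M.mul_mem (M.mul_mem hg (kB_mem hc y' hcs hy')) (M.inv_mem hg)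
  obtain ⟨x, hxcl, hxM, hgx⟩ := exists_closure_mem M (KG a b F) z z' g hzM hz'M hg p hpp
    (kB_pow_char p y c hy) (conj_pow_char p g y' c hy') (kB_mem_KG q y c hy)
    (fun h hh hk => fus hc hNS hh hy0 hy hc0 hk) (fus_conj hc hNS hg hy'0 hy' hc0)
  have hxcl' : x⁻¹ ∈ Subgroup.closure ({z, z'} : Set (GL (Idx a b) F)) := Subgroup.inv_mem _ hxcl
  -- vectors are moved inside U
  set U : Submodule F (Idx a b → F) := Fib (a := a) y ⊔ img g (Fib (a := a) y') with hU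
  have hzU : ∀ v, mv z v - v ∈ U := by
    intro v
    apply Submodule.mem_sup_left
    rw [hz, mv_kB, add_sub_cancel_left, ← pt_smul_left]
    exact mem_Fib.mpr ⟨_, rfl⟩
  have hz'U : ∀ v, mv z' v - v ∈ U := fun v =>
    Submodule.mem_sup_right (conj_kB_sub_mem g y' c hy' v)
  have hP : ∀ v, ∃ x₁ x₂ : Fin a → F, mv x⁻¹ v = v + pt x₁ y + mv g (pt x₂ y') := by
    intro v
    have hmem := closure_sub_mem z z' U hzU hz'U x⁻¹ hxcl' v
    obtain ⟨u₁, hu₁, u₂, hu₂, hsum⟩ := Submodule.mem_sup.mp hmem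
    obtain ⟨x₁, rfl⟩ := mem_Fib.mp hu₁
    obtain ⟨w, hw, rfl⟩ := mem_img.mp hu₂
    obtain ⟨x₂, rfl⟩ := mem_Fib.mp hw
    refine ⟨x₁, x₂, ?_⟩
    rw [add_assoc, hsum]; abel
  obtain ⟨x₁, hx₁⟩ := step3 hc hNS hg hgK hxM hgx hy0 hy'0 hy hy' hP x₂
  -- the vector is fixed
  have hfix : mv x⁻¹ (mv g (pt x₂ y')) = mv g (pt x₂ y') := by
    apply closure_fix z z' _ _ _ x⁻¹ hxcl'
    · rw [hz, mv_kB, h0, pt_zero_left, smul_zero, add_zero]
    · exact conj_kB_fix g y' c hy' x₂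
  exact ⟨x₁, by rw [← hfix, hx₁]⟩

/-- S4 (claims B, C) -/
theorem claimC (hc : MCtx a b q M) (hNS : ¬ R1U q M) {g : GL (Idx a b) F} (hg : g ∈ M)
    (hgK : g ∉ KG a b F) {y y' : Fin b → F} (hy0 : y ≠ 0) (hy'0 : y' ≠ 0) (hy : hv q y y = 0)
    (hy' : hv q y' y' = 0) {x₂ : Fin a → F} (hx₂ : x₂ ≠ 0) :
    ct (cj q y) (mv g (pt x₂ y')) ≠ 0 := by
  intro h0
  obtain ⟨x₁, hx₁⟩ := claimA hc hNS hg hgK hy0 hy'0 hy hy' x₂ h0
  have hw0 : mv g (pt x₂ y') ≠ 0 := by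
    rw [Ne, mv_eq_zero_iff, pt_eq_zero_iff]
    push Not
    exact ⟨hx₂, hy'0⟩
  have hx₁0 : x₁ ≠ 0 := by
    rintro rfl
    rw [pt_zero_left] at hx₁
    exact hw0 hx₁
  obtain ⟨y₂, hy₂0, hy₂, hyy₂, hne⟩ := exists_iso_perp_ne (q := q) hc.hF hc.hb hy0 hy
  have h0' : ct (cj q y₂) (mv g (pt x₂ y')) = 0 := by
    rw [hx₁, ct_cj_pt, hyy₂, zero_smul]
  obtain ⟨x₁', hx₁'⟩ := claimA hc hNS hg hgK hy₂0 hy'0 hy₂ hy' x₂ h0'
  have heq : pt x₁ y = pt x₁' y₂ := by rw [← hx₁, hx₁']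
  obtain ⟨d, -, hd⟩ := pt_eq_pt heq hx₁0 hy0
  exact hne d hd

/-- S5 -/
theorem no_pure (hc : MCtx a b q M) (hNS : ¬ R1U q M) {m : GL (Idx a b) F} (hm : m ∈ M)
    (hmK : m ∉ KG a b F) {x : Fin a → F} {y : Fin b → F} (hx : x ≠ 0) (hy0 : y ≠ 0)
    (hy : hv q y y = 0) {x₁ : Fin a → F} {y₁ : Fin b → F} (h : mv m (pt x y) = pt x₁ y₁) : False := by
  obtain ⟨y₃, hy₃0, hy₃, h1, -⟩ := exists_iso_perp_two (q := q) hc.hF hc.hb y₁ y₁
  apply claimC hc hNS hm hmK hy₃0 hy0 hy₃ hy hx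
  rw [h, ct_cj_pt, h1, zero_smul]

end Cfsg.Agent.Lib.Helper20.UTLeaf
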