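import Mathlib
import Cfsg.Agent.Lib.Helper20.UTNDefs
import Cfsg.Agent.Lib.Helper20.UTS
import Cfsg.Agent.Lib.Helper5.SUMax
import Cfsg.Agent.Lib.Helper9.UTNNZ
import Cfsg.Agent.Lib.Helper23.UTNNG

/-!
S5670 Stage II, block NT: closure properties of `Th q y M`.
-/

set_option autoImplicit false
set_option linter.unusedSectionVars false
set_option linter.unusedVariables false

namespace Cfsg.Agent.Lib.Helper20.UTNLeaf
open Matrix
open Cfsg.Agent.Lib.Helper25.Tens Cfsg.Agent.Lib.Helper25.TensLeaf Cfsg.Agent.Lib.Helper25.TensLeaves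
open Cfsg.Agent.Lib.Helper20.UT Cfsg.Agent.Lib.Helper20.UTLeaf Cfsg.Agent.Lib.Helper20.UTN
open Cfsg.Agent.Lib.Helper9.UTNLeaf Cfsg.Agent.Lib.Helper23.UTNLeaf
open scoped Kronecker

variable {F : Type*} [Field F] [Fintype F] {a b q : ℕ} {M : Subgroup (GL (Idx a b) F)}


/-- NT1 -/
theorem Th_add (hc : MCtx a b q M) {y : Fin b → F} (hy : hv q y y = 0)
    {θ θ' : Matrix (Fin a) (Fin a) F} (h : θ ∈ Th q y M) (h' : θ' ∈ Th q y M) :
    θ + θ' ∈ Th q y M := by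
  obtain ⟨g, hg, hZ⟩ := h
  obtain ⟨g', hg', hZ'⟩ := h'
  exact ⟨g * g', M.mul_mem hg hg', IsZ_mul hy hZ hZ'⟩

theorem Th_neg (hc : MCtx a b q M) {y : Fin b → F} (hy : hv q y y = 0)
    {θ : Matrix (Fin a) (Fin a) F} (h : θ ∈ Th q y M) : -θ ∈ Th q y M := by
  obtain ⟨g, hg, hZ⟩ := h
  exact ⟨g⁻¹, M.inv_mem hg, IsZ_inv hy hZ⟩

/-- skew scalars: `kB q y c ∈ M` (`UTLeaf.kB_mem`) -/
theorem Th_scalar (hc : MCtx a b q M) {y : Fin b → F} (hy : hv q y y = 0) {c : F}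
    (hcs : c ^ q = -c) : c • (1 : Matrix (Fin a) (Fin a) F) ∈ Th q y M :=
  ⟨kB q y c hy, kB_mem hc y hcs hy, IsZ_kB y c hy⟩

/-- NT2 conjugation by `kA q x c = tvU q x c ⊗ 1 ∈ M` (NZ3 with `β = 1`). -/
theorem Th_conj_tv (hc : MCtx a b q M) {y : Fin b → F} (hy : hv q y y = 0) (x : Fin a → F)
    {c : F} (hcs : c ^ q = -c) (hx : hv q x x = 0) {θ : Matrix (Fin a) (Fin a) F}
    (h : θ ∈ Th q y M) :
    ((tvU q x c hx : GL (Fin a) F) : Matrix (Fin a) (Fin a) F) * θ *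
      (((tvU q x c hx)⁻¹ : GL (Fin a) F) : Matrix (Fin a) (Fin a) F) ∈ Th q y M := by
  obtain ⟨g, hg, hZ⟩ := h
  have hk : (kA q x c hx : GL (Idx a b) F) ∈ M := kA_mem hc x hcs hx
  have h1 := IsZ_conj_kel hc.hF hZ (tvU q x c hx) (1 : GL (Fin b) F) (by intro u v; simp)
  rw [mv_one] at h1
  exact ⟨kA q x c hx * g * (kA q x c hx)⁻¹, M.mul_mem (M.mul_mem hk hg) (M.inv_mem hk), h1⟩

/-- NT3 `Th` does not depend on the isotropic vector (conjugate by `kel 1 β ∈ M`, NG2, NG3, NZ3). -/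
theorem Th_indep (hc : MCtx a b q M) {y y' : Fin b → F} (hy0 : y ≠ 0) (hy'0 : y' ≠ 0)
    (hy : hv q y y = 0) (hy' : hv q y' y' = 0) {θ : Matrix (Fin a) (Fin a) F}
    (h : θ ∈ Th q y M) : θ ∈ Th q y' M := by
  obtain ⟨g, hg, hZ⟩ := h
  have hb3 : 3 ≤ b := by have := hc.hb; omega
  obtain ⟨β, hβ, hdet, hβy⟩ := exists_su_map hc.hF hb3 hy0 hy'0 hy hy'
  have hk : kel (1 : GL (Fin a) F) β ∈ M := by
    apply hc.le
    apply kel_mem_GS hc.hF 1 β (by intro u v; simp) hβ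
    rw [hdet]; simp
  have h1 := IsZ_conj_kel hc.hF hZ (1 : GL (Fin a) F) β hβ
  rw [hβy] at h1
  simp only [Units.val_one, inv_one, Matrix.one_mul, Matrix.mul_one] at h1
  exact ⟨_, M.mul_mem (M.mul_mem hk hg) (M.inv_mem hk), h1⟩

/-- NT4 `Th` is closed under multiplication by the fixed field: `r = d * d^q` (`UForm.norm_surj`),
NT3 for `y' = d • y`, NZ4. -/
theorem Th_smul (hc : MCtx a b q M) {y : Fin b → F} (hy0 : y ≠ 0) (hy : hv q y y = 0) {r : F}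
    (hr : r ^ q = r) {θ : Matrix (Fin a) (Fin a) F} (h : θ ∈ Th q y M) : r • θ ∈ Th q y M := by
  have hF := hc.hF
  by_cases hr0 : r = 0
  · subst hr0
    rw [zero_smul]
    refine ⟨1, M.one_mem, ?_⟩
    intro v
    rw [mv_one, Matrix.zero_mulVec]
    have : pt (0 : Fin a → F) y = 0 := by ext ⟨i, l⟩; simp [pt]
    rw [this, add_zero]
  · have hf := hv_unitary (n := 1) hF
    obtain ⟨d, hd⟩ := Cfsg.Agent.Lib.Helper5.UForm.norm_surj hf.involutive hf.ne_refl r hr0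
      (by rw [Cfsg.Agent.Lib.Helper5.HermBridge.frobQ_apply]; exact hr)
    rw [Cfsg.Agent.Lib.Helper5.HermBridge.frobQ_apply] at hd
    have hd0 : d ≠ 0 := by
      rintro rfl
      rw [zero_mul] at hd
      exact hr0 hd.symm
    have hdy0 : d • y ≠ 0 := smul_ne_zero hd0 hy0
    have hdy : hv q (d • y) (d • y) = 0 := by
      rw [hv_smul_left, hv_smul_right, hy, mul_zero, mul_zero]
    obtain ⟨g, hg, hZ⟩ := Th_indep hc hy0 hdy0 hy hdy h
    have := IsZ_smul_vec d hZ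
    rw [hd] at this
    exact ⟨g, hg, this⟩

/-- NT5 (NZ5, `hc.le_G`). -/
theorem Th_skew (hc : MCtx a b q M) {y : Fin b → F} (hy0 : y ≠ 0) (hy : hv q y y = 0)
    {θ : Matrix (Fin a) (Fin a) F} (h : θ ∈ Th q y M) : adjM q θ = -θ := by
  obtain ⟨g, hg, hZ⟩ := h
  exact IsZ_skew hc.hF hy0 hy (hc.le_G hg).1 hZ

end Cfsg.Agent.Lib.Helper20.UTNLeaf
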