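import Mathlib
import Cfsg.Agent.Lib.Helper11.LSDefs

/-!
# S2333 leaf Q2: the isometry group of a binary quadratic form with non-zero polar form
(characteristic 2) has order at most `2 (q + 1)`.
-/

set_option autoImplicit false

open QuadraticMap Module Cfsg.Agent.Lib.Helper11.LS

universe u

namespace Cfsg.Agent.Lib.Helper20.LSLeaf

variable {F : Type*} [Field F] {V : Type u} [AddCommGroup V] [Module F V]

theorem polar_self_zero [CharP F 2] (Q : QuadraticForm F V) (x : V) : polar Q x x = 0 := by
  rw [QuadraticMap.polar_self, two_nsmul, CharTwo.add_self_eq_zero]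

theorem mul_self_inj_two [CharP F 2] {a b : F} (h : a * a = b * b) : a = b := by
  apply CharTwo.sq_injective (R := F)
  simp only [pow_two]
  exact h

/-- value of the form on a combination of two vectors -/
theorem map_comb (Q : QuadraticForm F V) (a b : F) (x y : V) :
    Q (a • x + b • y) = a * a * Q x + b * b * Q y + a * b * polar Q x y := by
  rw [QuadraticMap.map_add (⇑Q), QuadraticMap.map_smul, QuadraticMap.map_smul, polar_smul_left,
    polar_smul_right]
  simp only [smul_eq_mul]
  ring

theorem polar_comb_left (Q : QuadraticForm F V) (a b : F) (x y z : V) :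
    polar Q (a • x + b • y) z = a * polar Q x z + b * polar Q y z := by
  rw [polar_add_left, polar_smul_left, polar_smul_left]
  simp only [smul_eq_mul]

theorem polar_comb_right (Q : QuadraticForm F V) (a b : F) (x y z : V) :
    polar Q z (a • x + b • y) = a * polar Q z x + b * polar Q z y := by
  rw [polar_add_right, polar_smul_right, polar_smul_right]
  simp only [smul_eq_mul]

/-- in dimension two, two vectors with non-zero polar product span the space -/
theorem exists_comb_of_polar_ne_zero [CharP F 2] [FiniteDimensional F V] (Q : QuadraticForm F V)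
    (h : finrank F V = 2) {v w : V} (hβ : polar Q v w ≠ 0) (z : V) :
    ∃ a b : F, a • v + b • w = z := by
  have hli : LinearIndependent F ![v, w] := by
    rw [LinearIndependent.pair_iff]
    intro s t hst
    have h1 : polar Q (s • v + t • w) w = 0 := by rw [hst]; simp [polar]
    have h2 : polar Q v (s • v + t • w) = 0 := by rw [hst]; simp [polar]
    rw [polar_comb_left, polar_self_zero, mul_zero, add_zero] at h1
    rw [polar_comb_right, polar_self_zero, mul_zero, zero_add] at h2
    exact ⟨(mul_eq_zero.mp h1).resolve_right hβ, (mul_eq_zero.mp h2).resolve_right hβ⟩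
  have hsp := hli.span_eq_top_of_card_eq_finrank (by rw [h]; rfl)
  have hz : z ∈ Submodule.span F (Set.range ![v, w]) := by rw [hsp]; trivial
  have hr : Set.range ![v, w] = {v, w} := by
    ext y
    simp only [Set.mem_range, Set.mem_insert_iff, Set.mem_singleton_iff]
    constructor
    · rintro ⟨i, rfl⟩
      fin_cases i
      · left; rfl
      · right; rfl
    · rintro (rfl | rfl)
      · exact ⟨0, rfl⟩
      · exact ⟨1, rfl⟩
  rw [hr, Submodule.mem_span_pair] at hz
  exact hz

/-- at most `q + 1` vectors take a given non-zero value (dimension two, polar form non-zero) -/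
theorem card_level_le [Fintype F] [CharP F 2] [Fintype V] [DecidableEq V] (Q : QuadraticForm F V)
    (h : finrank F V = 2) {v w : V} (hβ : polar Q v w ≠ 0) {c : F} (hc : c ≠ 0)
    (X : Finset V) (hX : ∀ x ∈ X, Q x = c) : X.card ≤ Fintype.card F + 1 := by
  classical
  have hfd : FiniteDimensional F V := FiniteDimensional.of_finrank_pos (by rw [h]; norm_num)
  set β := polar Q v w with hβdef
  have hwv : polar Q w v = β := by rw [polar_comm]
  let ψ : V → Option F := fun x =>
    if polar Q x w = 0 then none else some (polar Q x v / polar Q x w)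
  have hinj : Set.InjOn ψ (X : Set V) := by
    intro x hx x' hx' hψ
    have hQx : Q x = c := hX x hx
    have hQx' : Q x' = c := hX x' hx'
    obtain ⟨a, b, rfl⟩ := exists_comb_of_polar_ne_zero Q h hβ x
    obtain ⟨a', b', rfl⟩ := exists_comb_of_polar_ne_zero Q h hβ x'
    have e1 : polar Q (a • v + b • w) w = a * β := by
      rw [polar_comb_left, polar_self_zero, mul_zero, add_zero]
    have e2 : polar Q (a • v + b • w) v = b * β := by
      rw [polar_comb_left, polar_self_zero, mul_zero, zero_add, hwv]
    have e1' : polar Q (a' • v + b' • w) w = a' * β := by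
      rw [polar_comb_left, polar_self_zero, mul_zero, add_zero]
    have e2' : polar Q (a' • v + b' • w) v = b' * β := by
      rw [polar_comb_left, polar_self_zero, mul_zero, zero_add, hwv]
    simp only [ψ, e1, e2, e1', e2'] at hψ
    by_cases ha : a = 0
    · subst ha
      rw [zero_mul, if_pos rfl] at hψ
      have ha' : a' = 0 := by
        by_contra hne
        rw [if_neg (mul_ne_zero hne hβ)] at hψ
        exact absurd hψ (by simp)
      subst ha'
      rw [map_comb] at hQx hQx'
      simp only [zero_mul, mul_zero, zero_add, add_zero] at hQx hQx'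
      have hQw : Q w ≠ 0 := by
        intro h0
        rw [h0, mul_zero] at hQx
        exact hc hQx.symm
      have hbb : b * b = b' * b' := by
        apply mul_right_cancel₀ hQw
        rw [hQx, hQx']
      rw [mul_self_inj_two hbb]
    · have haβ : a * β ≠ 0 := mul_ne_zero ha hβ
      rw [if_neg haβ] at hψ
      have ha' : a' ≠ 0 := by
        intro h0
        rw [h0, zero_mul, if_pos rfl] at hψ
        exact absurd hψ (by simp)
      have ha'β : a' * β ≠ 0 := mul_ne_zero ha' hβ
      rw [if_neg ha'β] at hψ
      have hq : b * β / (a * β) = b' * β / (a' * β) := Option.some.inj hψ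
      rw [mul_div_mul_right _ _ hβ, mul_div_mul_right _ _ hβ] at hq
      -- t = b / a
      set t := b / a with ht
      have hb : b = a * t := by rw [ht]; field_simp
      have hb' : b' = a' * t := by rw [hq]; field_simp
      have hx1 : a • v + b • w = a • (v + t • w) := by
        rw [hb, smul_add, smul_smul]
      have hx2 : a' • v + b' • w = a' • (v + t • w) := by
        rw [hb', smul_add, smul_smul]
      rw [hx1, QuadraticMap.map_smul, smul_eq_mul] at hQx
      rw [hx2, QuadraticMap.map_smul, smul_eq_mul] at hQx'
      have hQu : Q (v + t • w) ≠ 0 := by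
        intro h0
        rw [h0, mul_zero] at hQx
        exact hc hQx.symm
      have haa : a * a = a' * a' := by
        apply mul_right_cancel₀ hQu
        rw [hQx, hQx']
      have := mul_self_inj_two haa
      rw [hb, hb', this]
  calc X.card ≤ (Finset.univ : Finset (Option F)).card :=
        Finset.card_le_card_of_injOn ψ (fun x _ => Finset.mem_univ _) hinj
    _ = Fintype.card F + 1 := by
        rw [Finset.card_univ, Fintype.card_option]

/-- **Leaf Q2** of S2333. -/
theorem card_isoGroup_two [Fintype F] [CharP F 2] [Finite V] (Q : QuadraticForm F V)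
    (hb : ∃ v w, polar Q v w ≠ 0) (h : finrank F V = 2) :
    Nat.card (isoGroup Q) ≤ 2 * (Fintype.card F + 1) := by
  classical
  have : Fintype V := Fintype.ofFinite V
  have hfd : FiniteDimensional F V := FiniteDimensional.of_finrank_pos (by rw [h]; norm_num)
  -- WLOG `Q v ≠ 0`
  obtain ⟨v, w, hβ, hc⟩ : ∃ v w, polar Q v w ≠ 0 ∧ Q v ≠ 0 := by
    obtain ⟨v, w, hvw⟩ := hb
    by_cases hv : Q v = 0
    · by_cases hw : Q w = 0
      · refine ⟨v + w, w, ?_, ?_⟩
        · rw [polar_add_left, polar_self_zero, add_zero]; exact hvw
        · rw [QuadraticMap.map_add (⇑Q), hv, hw, zero_add, zero_add]; exact hvw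
      · exact ⟨w, v, by rwa [polar_comm], hw⟩
    · exact ⟨v, w, hvw, hv⟩
  set β := polar Q v w with hβdef
  set c := Q v with hcdef
  let S : Finset (V × V) :=
    Finset.univ.filter (fun p => Q p.1 = c ∧ Q p.2 = Q w ∧ polar Q p.1 p.2 = β)
  -- the isometry group embeds into `S`
  let φ : isoGroup Q → S := fun g =>
    ⟨((g : V ≃ₗ[F] V) v, (g : V ≃ₗ[F] V) w), by
      simp only [S, Finset.mem_filter, Finset.mem_univ, true_and]
      exact ⟨g.2 v, g.2 w, polar_isoGroup g.2 v w⟩⟩
  have hφ : Function.Injective φ := by
    intro g g' hgg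
    have h1 : (g : V ≃ₗ[F] V) v = (g' : V ≃ₗ[F] V) v := congrArg (fun p => p.1.1) hgg
    have h2 : (g : V ≃ₗ[F] V) w = (g' : V ≃ₗ[F] V) w := congrArg (fun p => p.1.2) hgg
    apply Subtype.ext
    apply LinearEquiv.ext
    intro z
    obtain ⟨a, b, rfl⟩ := exists_comb_of_polar_ne_zero Q h hβ z
    rw [map_add, map_add, map_smul, map_smul, map_smul, map_smul, h1, h2]
  have hcard1 : Nat.card (isoGroup Q) ≤ S.card := by
    have := Nat.card_le_card_of_injective φ hφ
    rwa [Nat.card_eq_fintype_card (α := S), Fintype.card_coe] at this
  -- fibres of the first projection have at most two elements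
  have hfib : ∀ x ∈ S.image Prod.fst, (S.filter (fun p => p.1 = x)).card ≤ 2 := by
    intro x hx
    obtain ⟨p₀, hp₀, rfl⟩ := Finset.mem_image.mp hx
    simp only [S, Finset.mem_filter, Finset.mem_univ, true_and] at hp₀
    obtain ⟨hx0, hy0, hxy0⟩ := hp₀
    set x := p₀.1 with hxdef
    set y₀ := p₀.2 with hydef
    have hxy0' : polar Q x y₀ ≠ 0 := by rw [hxy0]; exact hβ
    have hsub : S.filter (fun p => p.1 = x) ⊆ {(x, y₀), (x, (β / c) • x + y₀)} := by
      intro p hp
      simp only [S, Finset.mem_filter, Finset.mem_univ, true_and] at hp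
      obtain ⟨⟨-, hpy, hpxy⟩, hp1⟩ := hp
      obtain ⟨a, b, hab⟩ := exists_comb_of_polar_ne_zero Q h hxy0' p.2
      rw [hp1, ← hab, polar_comb_right, polar_self_zero, mul_zero, zero_add, hxy0] at hpxy
      have hb1 : b = 1 := by
        have : (b - 1) * β = 0 := by rw [sub_mul, hpxy, one_mul, sub_self]
        have := (mul_eq_zero.mp this).resolve_right hβ
        exact sub_eq_zero.mp this
      subst hb1
      rw [← hab, map_comb, hx0, hy0, hxy0] at hpy
      have hroot : a * (a * c + β) = 0 := by
        have : a * a * c + 1 * 1 * Q w + a * 1 * β - Q w = 0 := by rw [hpy, sub_self]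
        calc a * (a * c + β) = a * a * c + 1 * 1 * Q w + a * 1 * β - Q w := by ring
          _ = 0 := this
      simp only [Finset.mem_insert, Finset.mem_singleton]
      rcases mul_eq_zero.mp hroot with ha | ha
      · left
        apply Prod.ext
        · exact hp1
        · show p.2 = y₀
          rw [← hab, ha, zero_smul, zero_add, one_smul]
      · right
        apply Prod.ext
        · exact hp1
        · show p.2 = (β / c) • x + y₀
          have hac : a = β / c := by
            have h1 : a * c = -β := eq_neg_of_add_eq_zero_left ha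
            rw [CharTwo.neg_eq] at h1
            rw [← h1]; field_simp
          rw [← hab, hac, one_smul]
    calc (S.filter (fun p => p.1 = x)).card
        ≤ ({(x, y₀), (x, (β / c) • x + y₀)} : Finset (V × V)).card := Finset.card_le_card hsub
      _ ≤ 2 := Finset.card_le_two
  have hcard2 : S.card ≤ 2 * (S.image Prod.fst).card := Finset.card_le_mul_card_image S 2 hfib
  have hcard3 : (S.image Prod.fst).card ≤ Fintype.card F + 1 := by
    apply card_level_le Q h hβ hc
    intro x hx
    obtain ⟨p, hp, rfl⟩ := Finset.mem_image.mp hx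
    simp only [S, Finset.mem_filter, Finset.mem_univ, true_and] at hp
    exact hp.1
  calc Nat.card (isoGroup Q) ≤ S.card := hcard1
    _ ≤ 2 * (S.image Prod.fst).card := hcard2
    _ ≤ 2 * (Fintype.card F + 1) := Nat.mul_le_mul_left 2 hcard3

end Cfsg.Agent.Lib.Helper20.LSLeaf
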