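import Mathlib
import Cfsg.Agent.Lib.Helper11.LSDefs
import Cfsg.Agent.Lib.Helper20.LSQ2

/-!
# S2333 leaf P2: the number of hyperbolic pairs of a quadratic form in characteristic 2 is at most
`(q^n - 1) q^(n-2)`.
-/

set_option autoImplicit false

open QuadraticMap Module Cfsg.Agent.Lib.Helper11.LS

universe u

namespace Cfsg.Agent.Lib.Helper20.LSLeaf

variable {F : Type*} [Field F] {V : Type u} [AddCommGroup V] [Module F V]

/-- **Leaf P2** of S2333. -/
theorem card_hypPairs_le [Fintype F] [CharP F 2] [Finite V] (Q : QuadraticForm F V)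
    (h : 2 ≤ finrank F V) :
    Nat.card {p : V × V // IsHypPair Q p.1 p.2} ≤
      (Fintype.card F ^ finrank F V - 1) * Fintype.card F ^ (finrank F V - 2) := by
  classical
  have : Fintype V := Fintype.ofFinite V
  set q := Fintype.card F with hq
  set n := finrank F V with hn
  have hqpos : 0 < q := Fintype.card_pos
  have hV : Fintype.card V = q ^ n := Module.card_eq_pow_finrank
  let S : Finset (V × V) := Finset.univ.filter (fun p => IsHypPair Q p.1 p.2)
  have hcard0 : Nat.card {p : V × V // IsHypPair Q p.1 p.2} = S.card := by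
    rw [Nat.card_eq_fintype_card, Fintype.card_subtype]
  -- fibres
  have hfib : ∀ x ∈ S.image Prod.fst, (S.filter (fun p => p.1 = x)).card ≤ q ^ (n - 2) := by
    intro x hx
    obtain ⟨p₀, hp₀, rfl⟩ := Finset.mem_image.mp hx
    simp only [S, Finset.mem_filter, Finset.mem_univ, true_and] at hp₀
    obtain ⟨hx0, hy1, hxy1⟩ := hp₀
    set x := p₀.1 with hxdef
    set y₁ := p₀.2 with hydef
    set T := S.filter (fun p => p.1 = x) with hT
    have hTmem : ∀ p ∈ T, p.1 = x ∧ Q p.2 = 0 ∧ polar Q x p.2 = 1 := by
      intro p hp
      simp only [T, S, Finset.mem_filter, Finset.mem_univ, true_and] at hp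
      obtain ⟨⟨-, h2, h3⟩, h1⟩ := hp
      rw [h1] at h3
      exact ⟨h1, h2, h3⟩
    let ψ : F × F × T → V := fun t => (t.2.2 : V × V).2 + t.1 • x + t.2.1 • y₁
    have hψ : Function.Injective ψ := by
      rintro ⟨a, c, p⟩ ⟨a', c', p'⟩ hpp
      simp only [ψ] at hpp
      obtain ⟨hp1, hp2, hp3⟩ := hTmem p.1 p.2
      obtain ⟨hp1', hp2', hp3'⟩ := hTmem p'.1 p'.2
      -- recover c
      have e1 : polar Q x ((p : V × V).2 + a • x + c • y₁) = 1 + c := by
        rw [polar_add_right, polar_add_right, polar_smul_right, polar_smul_right,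
          polar_self_zero, hp3, hxy1]
        simp
      have e1' : polar Q x ((p' : V × V).2 + a' • x + c' • y₁) = 1 + c' := by
        rw [polar_add_right, polar_add_right, polar_smul_right, polar_smul_right,
          polar_self_zero, hp3', hxy1]
        simp
      have hcc : c = c' := by
        have : 1 + c = 1 + c' := by rw [← e1, ← e1', hpp]
        exact add_left_cancel this
      subst hcc
      have hpp2 : (p : V × V).2 + a • x = (p' : V × V).2 + a' • x := add_right_cancel hpp
      -- recover a
      have e2 : Q ((p : V × V).2 + a • x) = a := by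
        rw [QuadraticMap.map_add (⇑Q), QuadraticMap.map_smul, polar_smul_right, hp2, hx0,
          polar_comm, hp3]
        simp
      have e2' : Q ((p' : V × V).2 + a' • x) = a' := by
        rw [QuadraticMap.map_add (⇑Q), QuadraticMap.map_smul, polar_smul_right, hp2', hx0,
          polar_comm, hp3']
        simp
      have haa : a = a' := by rw [← e2, ← e2', hpp2]
      subst haa
      have hy : (p : V × V).2 = (p' : V × V).2 := add_right_cancel hpp2
      have : p = p' := by
        apply Subtype.ext
        apply Prod.ext
        · rw [hp1, hp1']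
        · exact hy
      rw [this]
    have hle : q * (q * T.card) ≤ q ^ n := by
      have := Fintype.card_le_of_injective ψ hψ
      rwa [Fintype.card_prod, Fintype.card_prod, Fintype.card_coe, hV] at this
    have hsplit : q ^ n = q * (q * q ^ (n - 2)) := by
      have : n = (n - 2) + 2 := by omega
      conv_lhs => rw [this]
      ring
    rw [hsplit] at hle
    exact Nat.le_of_mul_le_mul_left (Nat.le_of_mul_le_mul_left hle hqpos) hqpos
  have hcard1 : S.card ≤ q ^ (n - 2) * (S.image Prod.fst).card :=
    Finset.card_le_mul_card_image S _ hfib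
  have hcard2 : (S.image Prod.fst).card ≤ q ^ n - 1 := by
    have hsub : S.image Prod.fst ⊆ (Finset.univ : Finset V).erase 0 := by
      intro x hx
      obtain ⟨p, hp, rfl⟩ := Finset.mem_image.mp hx
      simp only [S, Finset.mem_filter, Finset.mem_univ, true_and] at hp
      rw [Finset.mem_erase]
      refine ⟨?_, Finset.mem_univ _⟩
      intro h0
      have h1 := hp.2.2
      rw [h0] at h1
      simp [polar] at h1
    calc (S.image Prod.fst).card ≤ ((Finset.univ : Finset V).erase 0).card :=
          Finset.card_le_card hsub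
      _ = q ^ n - 1 := by
          rw [Finset.card_erase_of_mem (Finset.mem_univ _), Finset.card_univ, hV]
  rw [hcard0]
  calc S.card ≤ q ^ (n - 2) * (S.image Prod.fst).card := hcard1
    _ ≤ q ^ (n - 2) * (q ^ n - 1) := Nat.mul_le_mul_left _ hcard2
    _ = (q ^ n - 1) * q ^ (n - 2) := Nat.mul_comm _ _

end Cfsg.Agent.Lib.Helper20.LSLeaf
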