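import Cfsg.Agent.Lib.Helper20.SPT2Defs

/-!
# S3713, super-leaf T2 (sub-planner helper20): the relation structures shared by the `H`-side leaves

`Phi1` (the hom `φ₁` on the point stabiliser), `AddRel`, `SwapRel`, `NMMprop`, `WeylRel`, `ConjRel`, `SOK`.
The statements of the leaves are in `notes/S3713_T2_leaves.lean`.
-/

set_option autoImplicit false

namespace Cfsg.Agent.Lib.Helper20.SPT2

open Matrix Cfsg.Agent.Lib.Helper5 Cfsg.Agent.Lib.Helper14.SpPerfect Cfsg.Agent.Lib.Helper18.SP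

variable {F : Type*} [Field F] {n : ℕ} {H : Type*} [Group H] {o p : Fin n}

/-- the hom `φ₁` on the point stabiliser `Ph1 = PhJ {o,p} o = B · P1` (`B = PhJ {o} o ≤ S_o`) -/
structure Phi1 (A : T2Hyp n F H o p) (φ₁ : Sp n F → H) : Prop where
  hom : HomOn (PhJ n F {o, p} o) φ₁
  onB : ∀ b ∈ PhJ n F {o} o, φ₁ b = A.σo b
  onP : ∀ g ∈ PJ n F {o, p} o, φ₁ g = A.ψ₁ g

/-- **XADD**: additivity of `Xt`, `Yt`, `Zt` (local in `P1` / `P2`) -/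
structure AddRel (A : T2Hyp n F H o p) : Prop where
  Xt_add : ∀ t u : F, A.Xt (t + u) = A.Xt t * A.Xt u
  Yt_add : ∀ t u : F, A.Yt (t + u) = A.Yt t * A.Yt u
  Xt_inv : ∀ t : F, (A.Xt t)⁻¹ = A.Xt (-t)
  Yt_inv : ∀ t : F, (A.Yt t)⁻¹ = A.Yt (-t)
  Zt_inv : ∀ t : F, (A.Zt t)⁻¹ = A.Zt (-t)
  Nt_inv : A.Nt⁻¹ = A.Xt (-1) * A.Yt 1 * A.Xt (-1)
  yt_eq : A.ψ₂ (yE n F o p) = A.Yt 1
  nto_ntp : Commute A.nto A.ntp

/-- **SWAP**: conjugation by `κ̃ = nto * ntp` exchanges `Xt t` and `Yt (-t)`, and `σo (Tr f_o t)` with `σo (Tr e_o t)` -/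
structure SwapRel (A : T2Hyp n F H o p) : Prop where
  X : ∀ t : F, (A.nto * A.ntp)⁻¹ * A.Xt t * (A.nto * A.ntp) = A.Yt (-t)
  Y : ∀ t : F, (A.nto * A.ntp)⁻¹ * A.Yt t * (A.nto * A.ntp) = A.Xt (-t)
  fo : ∀ t : F, (A.nto * A.ntp)⁻¹ * A.σo (Tr (fV n F o) t) * (A.nto * A.ntp) = A.σo (Tr (eV n F o) t)
  fp : ∀ t : F, (A.nto * A.ntp)⁻¹ * A.σp (Tr (fV n F p) t) * (A.nto * A.ntp) = A.σp (Tr (eV n F p) t)

/-- `N` conjugates `ψ₁ = ψ₂` on `MM o p` like `νg` -/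
def NMMprop (A : T2Hyp n F H o p) (N : H) : Prop :=
  ∀ m ∈ MM n F o p, N * A.ψ₁ m * N⁻¹ = A.ψ₁ (νg n F o p * m * (νg n F o p)⁻¹)

/-- how `Nt` conjugates the long root elements and `Zt` -/
structure WeylRel (A : T2Hyp n F H o p) : Prop where
  R1 : ∀ t : F, A.Nt * A.σo (Tr (eV n F o) t) * A.Nt⁻¹ = A.σp (Tr (eV n F p) t)
  R2 : ∀ t : F, A.Nt * A.σo (Tr (fV n F o) t) * A.Nt⁻¹ = A.σp (Tr (fV n F p) t)
  R3 : ∀ t : F, A.Nt * A.σp (Tr (eV n F p) t) * A.Nt⁻¹ = A.σo (Tr (eV n F o) t)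
  R4 : ∀ t : F, A.Nt * A.σp (Tr (fV n F p) t) * A.Nt⁻¹ = A.σo (Tr (fV n F o) t)
  R5 : ∀ s : F, A.Nt * A.Zt s * A.Nt⁻¹ = A.Zt (-s)

/-- `Nt` conjugates `σo` on `S_o` to `σp` on `S_p` like `νg`, and back -/
structure ConjRel (A : T2Hyp n F H o p) : Prop where
  C1 : ∀ g ∈ SS n F o, A.Nt * A.σo g * A.Nt⁻¹ = A.σp (νg n F o p * g * (νg n F o p)⁻¹)
  C2 : ∀ g ∈ SS n F p, A.Nt * A.σp g * A.Nt⁻¹ = A.σo (νg n F o p * g * (νg n F o p)⁻¹)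

/-- the conclusion of the step hypotheses of `ylemma` for T2 -/
def SOK (A : T2Hyp n F H o p) (φ₁ : Sp n F → H) (g : Sp n F) (h : H) : Prop :=
  StepOK (PhJ n F {o, p} o) φ₁ (nW n F o) (yE n F o p) A.nto (A.ψ₂ (yE n F o p)) g h

end Cfsg.Agent.Lib.Helper20.SPT2
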