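import Cfsg.Agent.Lib.Helper20.SPT2Defs

/-!
# S3713, T2: the action of the short root elements, of `νg` and of the torus elements on the basis (helper20)
-/

set_option autoImplicit false

namespace Cfsg.Agent.Lib.Helper20.SPT2

open Matrix Cfsg.Agent.Lib.Helper5 Cfsg.Agent.Lib.Helper14.SpPerfect Cfsg.Agent.Lib.Helper18.SP

variable {n : ℕ} {F : Type*} [Field F] {o p : Fin n}

theorem ω_eo_fp (hop : o ≠ p) : ω n F (eV n F o) (fV n F p) = 0 := by
  rw [ω_eV_fV, if_neg hop.symm]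

theorem ω_fo_ep (hop : o ≠ p) : ω n F (fV n F o) (eV n F p) = 0 := by
  rw [ω_fV_eV, if_neg hop.symm]

theorem act_Xg (hop : o ≠ p) (t : F) (x : V n F) :
    act (Xg n F o p t) x = x + (t * ω n F x (eV n F o)) • fV n F p + (t * ω n F x (fV n F p)) • eV n F o := by
  unfold Xg
  rw [act_E _ _ _ (by rw [ω_smul_right, ω_eo_fp hop, mul_zero]), ω_smul_right]
  module

theorem act_Yg (hop : o ≠ p) (t : F) (x : V n F) :
    act (Yg n F o p t) x = x + (t * ω n F x (fV n F o)) • eV n F p + (t * ω n F x (eV n F p)) • fV n F o := by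
  unfold Yg
  rw [act_E _ _ _ (by rw [ω_smul_right, ω_fo_ep hop, mul_zero]), ω_smul_right]
  module

theorem act_Zg (t : F) (x : V n F) :
    act (Zg n F o p t) x = x + (t * ω n F x (eV n F o)) • eV n F p + (t * ω n F x (eV n F p)) • eV n F o := by
  unfold Zg
  rw [act_E _ _ _ (by rw [ω_smul_right, ω_eV_eV, mul_zero]), ω_smul_right]
  module

/-! ### values on the basis -/

theorem Xg_eo (hop : o ≠ p) (t : F) : act (Xg n F o p t) (eV n F o) = eV n F o := by
  rw [act_Xg hop, ω_eV_eV, ω_eo_fp hop]; module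

theorem Xg_fo (hop : o ≠ p) (t : F) : act (Xg n F o p t) (fV n F o) = fV n F o + t • fV n F p := by
  rw [act_Xg hop, ω_fV_eV, if_pos rfl, ω_fV_fV]; module

theorem Xg_ep (hop : o ≠ p) (t : F) : act (Xg n F o p t) (eV n F p) = eV n F p - t • eV n F o := by
  rw [act_Xg hop, ω_eV_eV, ω_eV_fV, if_pos rfl]; module

theorem Xg_fp (hop : o ≠ p) (t : F) : act (Xg n F o p t) (fV n F p) = fV n F p := by
  rw [act_Xg hop, ω_fV_eV, if_neg hop, ω_fV_fV]; module

theorem Xg_e_other (hop : o ≠ p) (t : F) {k : Fin n} (hkp : k ≠ p) :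
    act (Xg n F o p t) (eV n F k) = eV n F k := by
  rw [act_Xg hop, ω_eV_eV, ω_eV_fV, if_neg hkp.symm]; module

theorem Xg_f_other (hop : o ≠ p) (t : F) {k : Fin n} (hko : k ≠ o) :
    act (Xg n F o p t) (fV n F k) = fV n F k := by
  rw [act_Xg hop, ω_fV_eV, if_neg hko.symm, ω_fV_fV]; module

theorem Yg_eo (hop : o ≠ p) (t : F) : act (Yg n F o p t) (eV n F o) = eV n F o - t • eV n F p := by
  rw [act_Yg hop, ω_eV_fV, if_pos rfl, ω_eV_eV]; module

theorem Yg_fo (hop : o ≠ p) (t : F) : act (Yg n F o p t) (fV n F o) = fV n F o := by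
  rw [act_Yg hop, ω_fV_fV, ω_fo_ep hop]; module

theorem Yg_ep (hop : o ≠ p) (t : F) : act (Yg n F o p t) (eV n F p) = eV n F p := by
  rw [act_Yg hop, ω_eV_fV, if_neg hop, ω_eV_eV]; module

theorem Yg_fp (hop : o ≠ p) (t : F) : act (Yg n F o p t) (fV n F p) = fV n F p + t • fV n F o := by
  rw [act_Yg hop, ω_fV_fV, ω_fV_eV, if_pos rfl]; module

theorem Yg_e_other (hop : o ≠ p) (t : F) {k : Fin n} (hko : k ≠ o) :
    act (Yg n F o p t) (eV n F k) = eV n F k := by
  rw [act_Yg hop, ω_eV_fV, if_neg hko.symm, ω_eV_eV]; module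

theorem Yg_f_other (hop : o ≠ p) (t : F) {k : Fin n} (hkp : k ≠ p) :
    act (Yg n F o p t) (fV n F k) = fV n F k := by
  rw [act_Yg hop, ω_fV_fV, ω_fV_eV, if_neg hkp.symm]; module

theorem Zg_e (t : F) (k : Fin n) : act (Zg n F o p t) (eV n F k) = eV n F k := by
  rw [act_Zg, ω_eV_eV, ω_eV_eV]; module

theorem Zg_fo (hop : o ≠ p) (t : F) : act (Zg n F o p t) (fV n F o) = fV n F o + t • eV n F p := by
  rw [act_Zg, ω_fV_eV, if_pos rfl, ω_fV_eV, if_neg hop.symm]; module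

theorem Zg_fp (hop : o ≠ p) (t : F) : act (Zg n F o p t) (fV n F p) = fV n F p + t • eV n F o := by
  rw [act_Zg, ω_fV_eV, if_neg hop, ω_fV_eV, if_pos rfl]; module

theorem Zg_f_other (t : F) {k : Fin n} (hko : k ≠ o) (hkp : k ≠ p) :
    act (Zg n F o p t) (fV n F k) = fV n F k := by
  rw [act_Zg, ω_fV_eV, if_neg hko.symm, ω_fV_eV, if_neg hkp.symm]; module

/-! ### the Weyl element `νg` -/

theorem νg_eo (hop : o ≠ p) : act (νg n F o p) (eV n F o) = eV n F p := by
  unfold νg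
  rw [act_mul, act_mul, Xg_eo hop, Yg_eo hop, act_sub, act_smul, Xg_eo hop, Xg_ep hop]; module

theorem νg_ep (hop : o ≠ p) : act (νg n F o p) (eV n F p) = -eV n F o := by
  unfold νg
  rw [act_mul, act_mul, Xg_ep hop, act_sub, act_smul, Yg_ep hop, Yg_eo hop, act_sub, act_smul, act_sub,
    act_smul, Xg_ep hop, Xg_eo hop]; module

theorem νg_fo (hop : o ≠ p) : act (νg n F o p) (fV n F o) = fV n F p := by
  unfold νg
  rw [act_mul, act_mul, Xg_fo hop, act_add, act_smul, Yg_fo hop, Yg_fp hop, act_add, act_smul, act_add,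
    act_smul, Xg_fo hop, Xg_fp hop]; module

theorem νg_fp (hop : o ≠ p) : act (νg n F o p) (fV n F p) = -fV n F o := by
  unfold νg
  rw [act_mul, act_mul, Xg_fp hop, Yg_fp hop, act_add, act_smul, Xg_fp hop, Xg_fo hop]; module

theorem νg_e_other (hop : o ≠ p) {k : Fin n} (hko : k ≠ o) (hkp : k ≠ p) :
    act (νg n F o p) (eV n F k) = eV n F k := by
  unfold νg
  rw [act_mul, act_mul, Xg_e_other hop _ hkp, Yg_e_other hop _ hko, Xg_e_other hop _ hkp]

theorem νg_f_other (hop : o ≠ p) {k : Fin n} (hko : k ≠ o) (hkp : k ≠ p) :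
    act (νg n F o p) (fV n F k) = fV n F k := by
  unfold νg
  rw [act_mul, act_mul, Xg_f_other hop _ hko, Yg_f_other hop _ hkp, Xg_f_other hop _ hko]

/-! ### the torus elements -/

theorem Tr_e_e (k j : Fin n) (c : F) : act (Tr (eV n F k) c) (eV n F j) = eV n F j := by
  rw [act_Tr, ω_eV_eV, mul_zero, zero_smul, add_zero]

theorem Tr_e_f (k : Fin n) (c : F) : act (Tr (eV n F k) c) (fV n F k) = fV n F k + c • eV n F k := by
  rw [act_Tr, ω_fV_eV, if_pos rfl, mul_one]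

theorem Tr_e_f_other {k j : Fin n} (h : j ≠ k) (c : F) : act (Tr (eV n F k) c) (fV n F j) = fV n F j := by
  rw [act_Tr, ω_fV_eV, if_neg h.symm, mul_zero, zero_smul, add_zero]

theorem Tr_f_f (k j : Fin n) (c : F) : act (Tr (fV n F k) c) (fV n F j) = fV n F j := by
  rw [act_Tr, ω_fV_fV, mul_zero, zero_smul, add_zero]

theorem Tr_f_e (k : Fin n) (c : F) : act (Tr (fV n F k) c) (eV n F k) = eV n F k - c • fV n F k := by
  rw [act_Tr, ω_eV_fV, if_pos rfl]; module

theorem Tr_f_e_other {k j : Fin n} (h : j ≠ k) (c : F) : act (Tr (fV n F k) c) (eV n F j) = eV n F j := by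
  rw [act_Tr, ω_eV_fV, if_neg h.symm, mul_zero, zero_smul, add_zero]

theorem hT_e (k : Fin n) {c : F} (hc : c ≠ 0) : act (hT n F k c) (eV n F k) = c • eV n F k := by
  unfold hT
  rw [act_mul, act_mul, act_mul, nW_inv_eV, Tr_e_f, act_add, act_smul, Tr_f_f, Tr_f_e, act_add, act_smul, act_sub,
    act_smul, Tr_e_f, Tr_e_e]
  match_scalars <;> field_simp <;> ring

theorem hT_f (k : Fin n) {c : F} (hc : c ≠ 0) : act (hT n F k c) (fV n F k) = c⁻¹ • fV n F k := by
  unfold hT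
  rw [act_mul, act_mul, act_mul, nW_inv_fV, act_neg, Tr_e_e, act_neg, Tr_f_e, act_neg, act_sub, act_smul, Tr_e_e,
    Tr_e_f]
  match_scalars <;> field_simp <;> ring

theorem hT_mem_SS (k : Fin n) (c : F) : hT n F k c ∈ SS n F k := by
  unfold hT
  have he : eV n F k ∈ VJ n F {k} := eV_mem_VJ rfl
  have hf : fV n F k ∈ VJ n F {k} := fV_mem_VJ rfl
  exact mul_mem (mul_mem (mul_mem (Tr_mem_GJ he c) (Tr_mem_GJ hf _)) (Tr_mem_GJ he c)) (inv_mem (nW_mem_SS k))

theorem hT_mem_TT (k : Fin n) {c : F} (hc : c ≠ 0) : hT n F k c ∈ TT n F k :=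
  ⟨hT_mem_SS k c, c, hc, hT_e k hc, hT_f k hc⟩

theorem hT_e_other {k j : Fin n} (h : j ≠ k) (c : F) : act (hT n F k c) (eV n F j) = eV n F j :=
  (hT_mem_SS k c j h).1

theorem hT_f_other {k j : Fin n} (h : j ≠ k) (c : F) : act (hT n F k c) (fV n F j) = fV n F j :=
  (hT_mem_SS k c j h).2

end Cfsg.Agent.Lib.Helper20.SPT2
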