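import Mathlib
import Cfsg.Agent.Lib.Helper11.Su2Tools
import Cfsg.Agent.Lib.Helper14.Su2GEO

/-! S2153 market "SU2", leaf GB (helper20): the geometric configuration of the main proof.
`exists_iso_pair_perp_of` takes the GEO leaf `exists_iso_h_eq_three` as a hypothesis;
`exists_iso_pair_perp` is the exact leaf (over helper14's GEO). -/

set_option autoImplicit false

namespace Cfsg.Agent.Lib.Helper20.Su2Leaf

open MulAction Pointwise Cfsg.Agent.Lib.Helper11.Su2

variable {F V G : Type*} [Field F] [AddCommGroup V] [Module F V] [Group G] [DistribMulAction G V]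
variable (S : Setting F V G)

include S in
/-- a vector outside the span of two given vectors -/
theorem exists_not_mem_span_pair [Finite V] {n : ℕ} (hV : Nat.card V = 4 ^ n) (hn : 6 ≤ n) (v x0 : V) :
    ∃ t : V, ∀ α β : F, t ≠ α • v + β • x0 := by
  classical
  by_contra hcon
  push Not at hcon
  have : Finite F := S.finite_F
  have hsurj : Function.Surjective (fun p : F × F => p.1 • v + p.2 • x0) := by
    intro t
    obtain ⟨α, β, h⟩ := hcon t
    exact ⟨(α, β), h.symm⟩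
  have hle := Nat.card_le_card_of_surjective _ hsurj
  rw [hV, Nat.card_prod, S.natCard_F] at hle
  have h6 : 4 ^ 6 ≤ 4 ^ n := Nat.pow_le_pow_right (by norm_num) hn
  omega

theorem exists_iso_pair_perp_of [Finite V] {n : ℕ} (hV : Nat.card V = 4 ^ n) (hn : 6 ≤ n)
    (geo3 : ∀ {a b c : V}, (∀ α β γ : F, α • a + β • b + γ • c = 0 → α = 0 ∧ β = 0 ∧ γ = 0) →
      ∀ α β γ : F, ∃ u, S.h u u = 0 ∧ S.h u a = α ∧ S.h u b = β ∧ S.h u c = γ)
    {v x0 : V} (hv : S.h v v = 0) (hx0 : S.h x0 x0 = 0) (hvx : S.h v x0 ≠ 0) :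
    ∃ u u' : V, S.h u u = 0 ∧ S.h u' u' = 0 ∧ S.h u v = 0 ∧ S.h u' v = 0 ∧ (∀ a : F, u ≠ a • v) ∧
      (∀ a : F, u' ≠ a • v) ∧ S.h u x0 ≠ 0 ∧ S.h u' u ≠ 0 := by
  have hx0v : S.h x0 v ≠ 0 := fun h0 => hvx (S.h_eq_zero_symm h0)
  -- independence of `v`, `x0`
  have ind2 : ∀ α β : F, α • v + β • x0 = 0 → α = 0 ∧ β = 0 := by
    intro α β h0
    have h1 : S.h (α • v + β • x0) x0 = 0 := by rw [h0, S.h_zero_left]
    rw [S.h_add_left, S.h_smul_left, S.h_smul_left, hx0, mul_zero, add_zero] at h1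
    have hα : α = 0 := by
      rcases mul_eq_zero.mp h1 with h | h
      · exact h
      · exact absurd h hvx
    have h2 : S.h (α • v + β • x0) v = 0 := by rw [h0, S.h_zero_left]
    rw [S.h_add_left, S.h_smul_left, S.h_smul_left, hv, mul_zero, zero_add] at h2
    have hβ : β = 0 := by
      rcases mul_eq_zero.mp h2 with h | h
      · exact h
      · exact absurd h hx0v
    exact ⟨hα, hβ⟩
  -- a third vector
  obtain ⟨t, ht⟩ := exists_not_mem_span_pair S hV hn v x0
  have ind3 : ∀ α β γ : F, α • v + β • x0 + γ • t = 0 → α = 0 ∧ β = 0 ∧ γ = 0 := by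
    intro α β γ h0
    have hγ : γ = 0 := by
      by_contra hγ
      apply ht (γ⁻¹ * α) (γ⁻¹ * β)
      have h1 : γ • t = α • v + β • x0 := (S.veq_of_add_eq_zero h0).symm
      calc t = γ⁻¹ • (γ • t) := by rw [smul_smul, inv_mul_cancel₀ hγ, one_smul]
        _ = (γ⁻¹ * α) • v + (γ⁻¹ * β) • x0 := by rw [h1, smul_add, smul_smul, smul_smul]
    rw [hγ, zero_smul, add_zero] at h0
    obtain ⟨hα, hβ⟩ := ind2 α β h0
    exact ⟨hα, hβ, hγ⟩
  -- `u''` isotropic, nonzero, perpendicular to `v`, `x0`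
  obtain ⟨w, hww, hwv, hwx, hwt⟩ := geo3 ind3 0 0 1
  have hw0 : w ≠ 0 := by
    intro h0
    rw [h0, S.h_zero_left] at hwt
    exact zero_ne_one hwt
  have hvw : S.h v w = 0 := S.h_eq_zero_symm hwv
  have hx0w : S.h x0 w = 0 := S.h_eq_zero_symm hwx
  -- independence of `v`, `x0`, `w`
  have ind3' : ∀ α β γ : F, α • v + β • x0 + γ • w = 0 → α = 0 ∧ β = 0 ∧ γ = 0 := by
    intro α β γ h0
    have h1 : S.h (α • v + β • x0 + γ • w) x0 = 0 := by rw [h0, S.h_zero_left]
    rw [S.h_add_left, S.h_add_left, S.h_smul_left, S.h_smul_left, S.h_smul_left, hx0, hwx,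
      mul_zero, mul_zero, add_zero, add_zero] at h1
    have hα : α = 0 := by
      rcases mul_eq_zero.mp h1 with h | h
      · exact h
      · exact absurd h hvx
    have h2 : S.h (α • v + β • x0 + γ • w) v = 0 := by rw [h0, S.h_zero_left]
    rw [S.h_add_left, S.h_add_left, S.h_smul_left, S.h_smul_left, S.h_smul_left, hv, hwv,
      mul_zero, mul_zero, zero_add, add_zero] at h2
    have hβ : β = 0 := by
      rcases mul_eq_zero.mp h2 with h | h
      · exact h
      · exact absurd h hx0v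
    rw [hα, hβ, zero_smul, zero_smul, zero_add, zero_add] at h0
    have hγ : γ = 0 := by
      rcases smul_eq_zero.mp h0 with h | h
      · exact h
      · exact absurd h hw0
    exact ⟨hα, hβ, hγ⟩
  obtain ⟨u', hu'u', hu'v, _, hu'w⟩ := geo3 ind3' 0 0 1
  refine ⟨v + w, u', ?_, hu'u', ?_, hu'v, ?_, ?_, ?_, ?_⟩
  · rw [S.h_add_left, S.h_add_right, S.h_add_right, hv, hvw, hwv, hww]; simp
  · rw [S.h_add_left, hv, hwv, add_zero]
  · intro a ha
    -- `w = (a + 1) • v`, but `w ⊥ x0` and `h v x0 ≠ 0`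
    have h1 : w = (a + 1) • v := by
      have : v + (v + w) = v + a • v := by rw [ha]
      rw [S.vadd_add_cancel_left] at this
      rw [this, add_smul, one_smul, add_comm]
    have h2 : S.h w x0 = (a + 1) * S.h v x0 := by rw [h1, S.h_smul_left]
    rw [hwx] at h2
    rcases mul_eq_zero.mp h2.symm with h | h
    · apply hw0
      rw [h1, h, zero_smul]
    · exact hvx h
  · intro a ha
    rw [ha, S.h_smul_left, hvw, mul_zero] at hu'w
    exact zero_ne_one hu'w
  · rw [S.h_add_left, hwx, add_zero]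
    exact hvx
  · rw [S.h_add_right, hu'v, hu'w, zero_add]
    exact one_ne_zero

theorem exists_iso_pair_perp [Finite V] {n : ℕ} (hV : Nat.card V = 4 ^ n) (hn : 6 ≤ n) {v x0 : V}
    (hv : S.h v v = 0) (hx0 : S.h x0 x0 = 0) (hvx : S.h v x0 ≠ 0) :
    ∃ u u' : V, S.h u u = 0 ∧ S.h u' u' = 0 ∧ S.h u v = 0 ∧ S.h u' v = 0 ∧ (∀ a : F, u ≠ a • v) ∧
      (∀ a : F, u' ≠ a • v) ∧ S.h u x0 ≠ 0 ∧ S.h u' u ≠ 0 :=
  exists_iso_pair_perp_of S hV hn
    (fun habc α β γ => Cfsg.Agent.Lib.Helper14.Su2Leaf.exists_iso_h_eq_three S hV hn habc α β γ)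
    hv hx0 hvx

end Cfsg.Agent.Lib.Helper20.Su2Leaf
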