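import Mathlib
import Cfsg.Agent.Lib.Helper11.Su2Tools
import Cfsg.Agent.Lib.Helper22.Su2COV
import Cfsg.Agent.Lib.Helper15.Su2QR
import Cfsg.Agent.Lib.Helper15.Su2T2
import Cfsg.Agent.Lib.Helper14.Su2GC
import Cfsg.Agent.Lib.Helper24.Su2P1
import Cfsg.Agent.Lib.Helper25.Su2S2N
import Cfsg.Agent.Lib.Helper25.Su2MULTI
import Cfsg.Agent.Lib.Helper25.Su2MULTIIa
import Cfsg.Agent.Lib.Helper17.Su2MULTIIb

/-! S2153 market "SU2", leaf S2 (helper20): points `x` with `tv x ∈ H`, `Q_x ≰ H`.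
`relIndex_ge_of_tv_mem_of` takes the leaves P1, GC, T2, S2N, MULT as hypotheses (COV and QR are imported);
`relIndex_ge_of_tv_mem` is the exact leaf. -/

set_option autoImplicit false

namespace Cfsg.Agent.Lib.Helper20.Su2Leaf

open MulAction Pointwise Cfsg.Agent.Lib.Helper11.Su2

variable {F V G : Type*} [Field F] [AddCommGroup V] [Module F V] [Group G] [DistribMulAction G V]
variable (S : Setting F V G)

/-- the isotropic class of `x^⊥ ∖ F x` -/
def cls0 (x : V) : Set V := {u | S.h u x = 0 ∧ S.h u u = 0 ∧ ∀ a : F, u ≠ a • x}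

/-- the norm one class of `x^⊥` -/
def cls1 (x : V) : Set V := {u | S.h u x = 0 ∧ S.h u u = 1}

theorem h_smul_stab {g : G} {x : V} (hg : g • x = x) (s : V) : S.h (g • s) x = S.h s x := by
  have := S.iso g s x
  rwa [hg] at this

theorem cls0_inv {x : V} : ∀ g ∈ stabilizer G x, ∀ s ∈ cls0 S x, g • s ∈ cls0 S x := by
  intro g hg s hs
  have hgx : g • x = x := mem_stabilizer_iff.mp hg
  refine ⟨by rw [h_smul_stab S hgx]; exact hs.1, by rw [S.iso]; exact hs.2.1, ?_⟩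
  intro a ha
  apply hs.2.2 a
  have h1 : g⁻¹ • (g • s) = g⁻¹ • (a • x) := by rw [ha]
  rw [inv_smul_smul, S.smul_fsmul, inv_smul_eq_iff.mpr hgx.symm] at h1
  exact h1

theorem cls1_inv {x : V} : ∀ g ∈ stabilizer G x, ∀ s ∈ cls1 S x, g • s ∈ cls1 S x := by
  intro g hg s hs
  have hgx : g • x = x := mem_stabilizer_iff.mp hg
  exact ⟨by rw [h_smul_stab S hgx]; exact hs.1, by rw [S.iso]; exact hs.2⟩

theorem not_smul_of_cls1 {x : V} (hx : S.h x x = 0) {u : V} (hu : u ∈ cls1 S x) :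
    ∀ a : F, u ≠ a • x := by
  intro a ha
  have h1 := hu.2
  rw [ha, S.h_self_smul, hx, mul_zero] at h1
  exact zero_ne_one h1

/-- the covering count with multiplicity one -/
theorem card_le_of_mem_inter [Finite V] [Finite G] {x : V} (E : AddSubgroup V) (T : Set V)
    (hTinv : ∀ g ∈ stabilizer G x, ∀ s ∈ T, g • s ∈ T)
    (hTtr : ∀ s ∈ T, ∀ s' ∈ T, ∃ g ∈ stabilizer G x, g • s = s') {u0 : V} (hu0E : u0 ∈ E)
    (hu0 : u0 ∈ T) :
    Nat.card T ≤
      (stabilizer G (E : Set V)).relIndex (stabilizer G x) * Nat.card ↥((E : Set V) ∩ T) := by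
  have := Cfsg.Agent.Lib.Helper22.Su2Leaf.cov (stabilizer G x) (E : Set V) T hTinv hTtr u0 hu0 1
    (fun _ => 1) (fun _ => one_mem _) (fun _ => by rw [one_smul]; exact hu0E)
    (Function.injective_of_subsingleton _)
  rwa [one_mul] at this

/-- `F x`, `E ∩ S_0`, `E ∩ S_1` are disjoint parts of `E` -/
theorem card_inter_add_card_inter_add_four_le [Finite V] {x : V} (hx0 : x ≠ 0) (hx : S.h x x = 0)
    (E : AddSubgroup V) (hxE : ∀ a : F, a • x ∈ E) :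
    Nat.card ↥((E : Set V) ∩ cls0 S x) + Nat.card ↥((E : Set V) ∩ cls1 S x) + 4 ≤ Nat.card E := by
  classical
  set R : Set V := Set.range (fun a : F => a • x) with hR
  have hRcard : R.ncard = 4 := by
    rw [← Nat.card_coe_set_eq, hR, Nat.card_range_of_injective, S.natCard_F]
    intro a b hab
    have hab' : a • x = b • x := hab
    have h1 : (a - b) • x = 0 := by rw [sub_smul, hab', sub_self]
    rcases smul_eq_zero.mp h1 with h | h
    · exact sub_eq_zero.mp h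
    · exact absurd h hx0
  have hd01 : Disjoint ((E : Set V) ∩ cls0 S x) ((E : Set V) ∩ cls1 S x) := by
    rw [Set.disjoint_left]
    rintro u ⟨_, hu0⟩ ⟨_, hu1⟩
    have := hu0.2.1
    rw [hu1.2] at this
    exact one_ne_zero this
  have hdR : Disjoint (((E : Set V) ∩ cls0 S x) ∪ ((E : Set V) ∩ cls1 S x)) R := by
    rw [Set.disjoint_left]
    rintro u (⟨_, hu0⟩ | ⟨_, hu1⟩) ⟨a, ha⟩
    · exact hu0.2.2 a ha.symm
    · exact not_smul_of_cls1 S hx hu1 a ha.symm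
  have hsub : (((E : Set V) ∩ cls0 S x) ∪ ((E : Set V) ∩ cls1 S x)) ∪ R ⊆ (E : Set V) := by
    rintro u ((⟨hu, _⟩ | ⟨hu, _⟩) | ⟨a, rfl⟩)
    · exact hu
    · exact hu
    · exact hxE a
  have h1 := Set.ncard_le_ncard hsub (Set.toFinite _)
  rw [Set.ncard_union_eq hdR (Set.toFinite _) (Set.toFinite _),
    Set.ncard_union_eq hd01 (Set.toFinite _) (Set.toFinite _), hRcard] at h1
  rw [Nat.card_coe_set_eq, Nat.card_coe_set_eq]
  have h2 : ((E : Set V)).ncard = Nat.card E := by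
    rw [← Nat.card_coe_set_eq]; rfl
  rw [← h2]
  exact h1

/-- arithmetic, case of both classes -/
theorem arith_both {A t ρ o N0 N1 e0 e1 : ℕ} (hA : 1 ≤ A) (h0 : N0 + 4 = 512 * A * A + 32 * A)
    (h1 : N1 + 32 * A = 512 * A * A) (hc0 : N0 ≤ t * e0) (hc1 : N1 ≤ t * e1)
    (he : e0 + e1 + 4 ≤ 4 * ρ) (hto : t * ρ ≤ o) : 32 * A * (16 * A - 1) ≤ 3 * o := by
  obtain ⟨B, hB⟩ : ∃ B, 16 * A = B + 1 := ⟨16 * A - 1, by omega⟩
  have h2 : t * (e0 + e1 + 4) ≤ t * (4 * ρ) := Nat.mul_le_mul_left t he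
  rw [hB, Nat.add_sub_cancel]
  nlinarith [h2, hB, Nat.zero_le (t * e0), Nat.zero_le t]

/-- arithmetic, a single class with `|E| ≤ 16` -/
theorem arith_small {A t ρ o N e1 : ℕ} (hA : 1 ≤ A) (hN : 512 * A * A ≤ N + 32 * A)
    (hc : N ≤ t * e1) (he : e1 + 4 ≤ 4 * ρ) (h16 : 4 * ρ ≤ 16) (hto : t * ρ ≤ o) :
    32 * A * (16 * A - 1) ≤ 3 * o := by
  obtain ⟨B, hB⟩ : ∃ B, 16 * A = B + 1 := ⟨16 * A - 1, by omega⟩
  rw [hB, Nat.add_sub_cancel]
  -- `3 * (4 ρ) ≥ 4 * (4 ρ - 4) ≥ 4 e1`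
  have h3 : 4 * e1 ≤ 12 * ρ := by omega
  have h4 : t * (4 * e1) ≤ t * (12 * ρ) := Nat.mul_le_mul_left t h3
  nlinarith [h4, hB]

/-- arithmetic, the isotropic class with multiplicity three -/
theorem arith_three {A t ρ o N0 e0 : ℕ} (hA : 1 ≤ A) (h0 : N0 + 4 = 512 * A * A + 32 * A)
    (hc : 3 * N0 ≤ t * e0) (he : e0 + 4 ≤ 4 * ρ) (hto : t * ρ ≤ o) :
    32 * A * (16 * A - 1) ≤ 3 * o := by
  obtain ⟨B, hB⟩ : ∃ B, 16 * A = B + 1 := ⟨16 * A - 1, by omega⟩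
  rw [hB, Nat.add_sub_cancel]
  have h3 : e0 ≤ 4 * ρ := by omega
  have h4 : t * e0 ≤ t * (4 * ρ) := Nat.mul_le_mul_left t h3
  nlinarith [h4, hB]

include S in
theorem ncard_range_smul {x : V} (hx0 : x ≠ 0) : (Set.range (fun a : F => a • x)).ncard = 4 := by
  rw [← Nat.card_coe_set_eq, Nat.card_range_of_injective, S.natCard_F]
  intro a b hab
  have hab' : a • x = b • x := hab
  have h1 : (a - b) • x = 0 := by rw [sub_smul, hab', sub_self]
  rcases smul_eq_zero.mp h1 with h | h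
  · exact sub_eq_zero.mp h
  · exact absurd h hx0

theorem relIndex_ge_of_tv_mem_of [Finite V] [Finite G] {n : ℕ} (hV : Nat.card V = 4 ^ n)
    (hn : 6 ≤ n) (H : Subgroup G) {x : V} (hx0 : x ≠ 0) (hx : S.h x x = 0) (htv : S.tv x ∈ H)
    (hQ : ¬ S.Qx hx ≤ H)
    (p1 : ∀ U : AddSubgroup V, Nat.card U * Nat.card (S.perp U) = Nat.card V)
    (gc0 : Nat.card {u : V // S.h u x = 0 ∧ S.h u u = 0 ∧ ∀ a : F, u ≠ a • x} + 4 =
      2 ^ (2 * n - 3) + 2 ^ (n - 1))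
    (gc1 : Nat.card {u : V // S.h u x = 0 ∧ S.h u u = 1} + 2 ^ (n - 1) = 2 ^ (2 * n - 3))
    (t2 : ∀ {a b : V}, S.h a x = 0 → S.h b x = 0 → S.h a a = S.h b b → (∀ c : F, a ≠ c • x) →
      (∀ c : F, b ≠ c • x) → ∃ g : G, g • x = x ∧ g • a = b)
    (s2n : ∀ E : AddSubgroup V, (∀ a : F, a • x ∈ E) → (∀ u ∈ E, S.h u x = 0) →
      (∀ u ∈ E, (∀ a : F, u ≠ a • x) → S.h u u = 1) → Nat.card E ≤ 16)
    (mI : ∀ U : AddSubgroup V, (∀ a : F, a • x ∈ U) → (∀ u ∈ U, S.h u x = 0) →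
      (∀ u ∈ U, S.h u u = 0) → 32 ≤ Nat.card U → (∀ u ∈ U, S.om • u ∈ U) →
      ∃ u0 ∈ U, (∀ a : F, u0 ≠ a • x) ∧ ∃ g : Fin 3 → G, (∀ i, g i • x = x) ∧
        (∀ i, u0 ∈ g i • (U : Set V)) ∧ Function.Injective (fun i => g i • (U : Set V)))
    (mIIa : ∀ U : AddSubgroup V, (∀ a : F, a • x ∈ U) → (∀ u ∈ U, S.h u x = 0) →
      (∀ u ∈ U, S.h u u = 0) → 32 ≤ Nat.card U → ∀ {w1 : V}, w1 ∈ U → S.om • w1 ∉ U →
      (∀ u ∈ U, S.h u w1 = 0) →
      ∃ u0 ∈ U, (∀ a : F, u0 ≠ a • x) ∧ ∃ g : Fin 3 → G, (∀ i, g i • x = x) ∧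
        (∀ i, u0 ∈ g i • (U : Set V)) ∧ Function.Injective (fun i => g i • (U : Set V)))
    (mIIb : ∀ U : AddSubgroup V, (∀ a : F, a • x ∈ U) → (∀ u ∈ U, S.h u x = 0) →
      (∀ u ∈ U, S.h u u = 0) → 32 ≤ Nat.card U → ∀ {w1 : V}, w1 ∈ U → S.om • w1 ∉ U →
      ∀ {z0 : V}, z0 ∈ U → S.h z0 w1 ≠ 0 →
      ∃ u0 ∈ U, (∀ a : F, u0 ≠ a • x) ∧ ∃ g : Fin 3 → G, (∀ i, g i • x = x) ∧
        (∀ i, u0 ∈ g i • (U : Set V)) ∧ Function.Injective (fun i => g i • (U : Set V))) :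
    2 ^ (n - 1) * (2 ^ (n - 2) - 1) ≤ 3 * H.relIndex (stabilizer G x) := by
  classical
  obtain ⟨m, rfl⟩ : ∃ m, n = m + 6 := ⟨n - 6, by omega⟩
  set D := S.Dt H hx with hD
  set E := S.perp D with hE
  set ρ := H.relIndex (S.Qx hx) with hρ
  set t := (stabilizer G (E : Set V)).relIndex (stabilizer G x) with ht
  set o := H.relIndex (stabilizer G x) with ho
  set A : ℕ := 2 ^ m with hA
  have hA1 : 1 ≤ A := Nat.one_le_two_pow
  have hDE : Nat.card D * Nat.card E = Nat.card V := p1 D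
  have hρD : ρ * Nat.card D = 4 ^ (m + 6 - 1) :=
    Cfsg.Agent.Lib.Helper15.Su2Leaf.relIndex_Qx_mul_card_Dt_of_mem S hV H hx0 hx htv
  have e5 : m + 6 - 1 = m + 5 := by omega
  have e4 : m + 6 - 2 = m + 4 := by omega
  have e9 : 2 * (m + 6) - 3 = 2 * m + 9 := by omega
  rw [e5] at hρD
  -- `|E| = 4 ρ`
  have hDpos : 0 < Nat.card D := Nat.card_pos
  have hEcard : Nat.card E = 4 * ρ := by
    have h1 : Nat.card D * Nat.card E = Nat.card D * (4 * ρ) := by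
      rw [hDE, hV]
      calc 4 ^ (m + 6) = 4 * 4 ^ (m + 5) := by rw [pow_succ]; ring
        _ = 4 * (ρ * Nat.card D) := by rw [hρD]
        _ = Nat.card D * (4 * ρ) := by ring
    exact Nat.eq_of_mul_eq_mul_left hDpos h1
  have hρ1 : ρ ≠ 1 := fun h => hQ (Subgroup.relIndex_eq_one.mp h)
  have hρ0 : ρ ≠ 0 := by
    intro h
    rw [h, zero_mul] at hρD
    exact (pow_pos (by norm_num : 0 < 4) (m + 5)).ne hρD
  have hρ2 : 2 ≤ ρ := by omega
  have hρpow : ∃ j, ρ = 2 ^ j := by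
    have hdvd : ρ ∣ 2 ^ (2 * (m + 5)) := by
      rw [pow_mul]
      norm_num
      exact Dvd.intro _ hρD
    obtain ⟨j, -, hj⟩ := (Nat.dvd_prime_pow Nat.prime_two).mp hdvd
    exact ⟨j, hj⟩
  -- properties of `E`
  have hxE : ∀ a : F, a • x ∈ E := by
    intro a u hu
    rw [S.h_smul_right, S.Dt_le_perp hx u hu]
    ring
  have hEx : ∀ u ∈ E, S.h u x = 0 := by
    intro u hu
    have hxD : x ∈ D := by
      have := S.smul_self_mem_Dt H hx 1
      rwa [one_smul] at this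
    have h1 := hu x hxD
    have h2 := hu (S.om • x) (S.smul_self_mem_Dt H hx S.om)
    rw [S.h_smul_left] at h2
    exact S.h_eq_zero_symm (S.eq_zero_of_tr_mul h1 h2)
  have hinv : ∀ p ∈ H, p • x = x → ∀ u ∈ E, p • u ∈ E := by
    intro p hp hpx u hu
    apply S.smul_mem_perp _ hu
    intro w hw
    exact S.smul_mem_Dt hx (H.inv_mem hp) (by rw [inv_smul_eq_iff, hpx]) hw
  have hstab : t * ρ ≤ o := S.stab_bound H hx E hxE hEx hinv
  -- transitivity on the classes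
  have htr0 : ∀ s ∈ cls0 S x, ∀ s' ∈ cls0 S x, ∃ g ∈ stabilizer G x, g • s = s' := by
    intro s hs s' hs'
    obtain ⟨g, hgx, hgs⟩ := t2 hs.1 hs'.1 (by rw [hs.2.1, hs'.2.1]) hs.2.2 hs'.2.2
    exact ⟨g, mem_stabilizer_iff.mpr hgx, hgs⟩
  have htr1 : ∀ s ∈ cls1 S x, ∀ s' ∈ cls1 S x, ∃ g ∈ stabilizer G x, g • s = s' := by
    intro s hs s' hs'
    obtain ⟨g, hgx, hgs⟩ := t2 hs.1 hs'.1 (by rw [hs.2, hs'.2]) (not_smul_of_cls1 S hx hs)
      (not_smul_of_cls1 S hx hs')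
    exact ⟨g, mem_stabilizer_iff.mpr hgx, hgs⟩
  -- the class sizes
  have hp9 : 2 ^ (2 * m + 9) = 512 * A * A := by
    rw [hA, pow_add, two_mul, pow_add]; ring
  have hp5 : 2 ^ (m + 5) = 32 * A := by rw [hA, pow_add]; ring
  have hp4 : 2 ^ (m + 4) = 16 * A := by rw [hA, pow_add]; ring
  have hN0 : Nat.card (cls0 S x) + 4 = 512 * A * A + 32 * A := by
    rw [← hp9, ← hp5, ← e9, ← e5]; exact gc0
  have hN1 : Nat.card (cls1 S x) + 32 * A = 512 * A * A := by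
    rw [← hp9, ← hp5, ← e9, ← e5]; exact gc1
  have hpart := card_inter_add_card_inter_add_four_le S hx0 hx E hxE
  rw [hEcard] at hpart
  rw [e5, e4, hp5, hp4]
  by_cases h0 : ∃ u ∈ E, u ∈ cls0 S x
  · obtain ⟨u0, hu0E, hu0⟩ := h0
    have hc0 := card_le_of_mem_inter E (cls0 S x) (cls0_inv S) htr0 hu0E hu0
    by_cases h1 : ∃ u ∈ E, u ∈ cls1 S x
    · -- both classes
      obtain ⟨u1, hu1E, hu1⟩ := h1
      have hc1 := card_le_of_mem_inter E (cls1 S x) (cls1_inv S) htr1 hu1E hu1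
      exact arith_both hA1 hN0 hN1 hc0 hc1 hpart hstab
    · -- only isotropic vectors
      have hU0 : ∀ u ∈ E, S.h u u = 0 := by
        intro u hu
        rcases S.h_self_mem u with h | h
        · exact h
        · exact absurd ⟨u, hu, hEx u hu, h⟩ h1
      have hpart0 : Nat.card ↥((E : Set V) ∩ cls0 S x) + 4 ≤ 4 * ρ := by omega
      by_cases h32 : 32 ≤ Nat.card E
      · -- multiplicity three
        have hM : ∃ u0 ∈ E, (∀ a : F, u0 ≠ a • x) ∧ ∃ g : Fin 3 → G, (∀ i, g i • x = x) ∧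
            (∀ i, u0 ∈ g i • (E : Set V)) ∧ Function.Injective (fun i => g i • (E : Set V)) := by
          by_cases hom : ∀ u ∈ E, S.om • u ∈ E
          · exact mI E hxE hEx hU0 h32 hom
          · push Not at hom
            obtain ⟨w1, hw1, hw1'⟩ := hom
            by_cases hperp : ∀ u ∈ E, S.h u w1 = 0
            · exact mIIa E hxE hEx hU0 h32 hw1 hw1' hperp
            · push Not at hperp
              obtain ⟨z0, hz0, hz0'⟩ := hperp
              exact mIIb E hxE hEx hU0 h32 hw1 hw1' hz0 hz0'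
        obtain ⟨v0, hv0E, hv0x, g, hgx, hv0g, hginj⟩ := hM
        have hv0 : v0 ∈ cls0 S x := ⟨hEx v0 hv0E, hU0 v0 hv0E, hv0x⟩
        have hc3 := Cfsg.Agent.Lib.Helper22.Su2Leaf.cov (stabilizer G x) (E : Set V) (cls0 S x)
          (cls0_inv S) htr0 v0 hv0 3 g (fun i => mem_stabilizer_iff.mpr (hgx i)) hv0g hginj
        exact arith_three hA1 hN0 hc3 hpart0 hstab
      · -- `|E| ≤ 16`
        have h16 : 4 * ρ ≤ 16 := by
          obtain ⟨j, hj⟩ := hρpow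
          rw [hEcard] at h32
          have h8 : 2 ^ j < 2 ^ 3 := by rw [← hj]; omega
          have hj3 : j < 3 := (Nat.pow_lt_pow_iff_right (by norm_num)).mp h8
          have : 2 ^ j ≤ 2 ^ 2 := Nat.pow_le_pow_right (by norm_num) (by omega)
          rw [hj]; omega
        have hN : 512 * A * A ≤ Nat.card (cls0 S x) + 32 * A := by nlinarith [hN0, hA1]
        exact arith_small hA1 hN hc0 hpart0 h16 hstab
  · by_cases h1 : ∃ u ∈ E, u ∈ cls1 S x
    · -- only norm one vectors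
      obtain ⟨u1, hu1E, hu1⟩ := h1
      have hc1 := card_le_of_mem_inter E (cls1 S x) (cls1_inv S) htr1 hu1E hu1
      have h16 : 4 * ρ ≤ 16 := by
        rw [← hEcard]
        apply s2n E hxE hEx
        intro u hu hux
        rcases S.h_self_mem u with h | h
        · exact absurd ⟨u, hu, hEx u hu, h, hux⟩ h0
        · exact h
      have hpart1 : Nat.card ↥((E : Set V) ∩ cls1 S x) + 4 ≤ 4 * ρ := by omega
      exact arith_small hA1 hN1.ge hc1 hpart1 h16 hstab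
    · -- `E = F x`: impossible
      exfalso
      have hsub : (E : Set V) ⊆ Set.range (fun a : F => a • x) := by
        intro u hu
        by_contra hur
        have hux : ∀ a : F, u ≠ a • x := fun a ha => hur ⟨a, ha.symm⟩
        rcases S.h_self_mem u with h | h
        · exact h0 ⟨u, hu, hEx u hu, h, hux⟩
        · exact h1 ⟨u, hu, hEx u hu, h⟩
      have h4 := Set.ncard_le_ncard hsub (Set.toFinite _)
      rw [ncard_range_smul S hx0] at h4
      have h2 : ((E : Set V)).ncard = Nat.card E := by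
        rw [← Nat.card_coe_set_eq]; rfl
      rw [h2, hEcard] at h4
      omega

theorem relIndex_ge_of_tv_mem [Finite V] [Finite G] {n : ℕ} (hV : Nat.card V = 4 ^ n)
    (hI : Nat.card {v : V // S.h v v = 0} = 2 ^ (2 * n - 1) + 2 ^ (n - 1)) (hn : 6 ≤ n)
    (H : Subgroup G) {x : V} (hx0 : x ≠ 0) (hx : S.h x x = 0) (htv : S.tv x ∈ H)
    (hQ : ¬ S.Qx hx ≤ H) :
    2 ^ (n - 1) * (2 ^ (n - 2) - 1) ≤ 3 * H.relIndex (stabilizer G x) :=
  relIndex_ge_of_tv_mem_of S hV hn H hx0 hx htv hQ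
    (fun U => Cfsg.Agent.Lib.Helper24.Su2Leaf.card_mul_card_perp S U)
    (Cfsg.Agent.Lib.Helper14.Su2Leaf.card_S0 S hV hI hn hx0 hx)
    (Cfsg.Agent.Lib.Helper14.Su2Leaf.card_one_perp S hV hI hn hx0 hx)
    (fun ha hb hN ha' hb' =>
      Cfsg.Agent.Lib.Helper15.Su2Leaf.exists_stab_smul_eq S hV hn hx0 hx ha hb hN ha' hb')
    (fun E hxE hEx h1 => Cfsg.Agent.Lib.Helper25.Su2Leaf.card_le_of_forall_one S hx0 hx E hxE hEx h1)
    (fun U hxU hUx hU0 hcard hom =>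
      Cfsg.Agent.Lib.Helper25.Su2Leaf.mult_I S hV hn hx0 hx U hxU hUx hU0 hcard hom)
    (fun U hxU hUx hU0 hcard _ hw1 hw1' hperp =>
      Cfsg.Agent.Lib.Helper25.Su2Leaf.mult_IIa S hV hn hx0 hx U hxU hUx hU0 hcard hw1 hw1' hperp)
    (fun U hxU hUx hU0 hcard _ hw1 hw1' _ hz0 hz0' =>
      Cfsg.Agent.Lib.Helper17.Su2Leaf.mult_IIb S hV hn hx0 hx U hxU hUx hU0 hcard hw1 hw1' hz0 hz0')

end Cfsg.Agent.Lib.Helper20.Su2Leaf
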