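import Mathlib
import Cfsg.Prelude.Def_ClassicalGeometry
import Cfsg.Prelude.Def_GeometricClasses
import Cfsg.Agent.Lib.Helper11.T23UDefs
import Cfsg.Agent.Lib.Helper17.C4USmall

/-!
# C4U leaves FC-A (`fc_caseA`) and FC-B (`fc_caseB`) for S5801 conjunct (8)
(plan: notes/S5801_C4_plan.md, leaves: notes/S5801_C4_leaves.lean)

* **FC-B** `m⁻¹ * kA q x c * m = 1 ⊗ β` (`c ≠ 0`, `x ≠ 0`) is impossible on `F² ⊗ F³`.
* **FC-A** if `k := m⁻¹ * kA q x c * m = α ⊗ 1` (`c ≠ 0`) stabilises `x ⊗ B` then `m` stabilises `x ⊗ B`.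
-/

set_option autoImplicit false
set_option linter.unusedSectionVars false
set_option linter.unusedVariables false

namespace Cfsg.Agent.Lib.Helper20.C4UFC
open Matrix Module
open Cfsg.Agent.Lib.Helper25.Tens Cfsg.Agent.Lib.Helper25.TensLeaf Cfsg.Agent.Lib.Helper25.TensLeaves
open Cfsg.Agent.Lib.Helper20.UT Cfsg.Agent.Lib.Helper5.UTG Cfsg.Agent.Lib.Helper11.T23U
open scoped Kronecker

variable {F : Type*} [Field F] [Fintype F] {q : ℕ} {M : Subgroup (GL (Idx 2 3) F)}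

/-! ## generic pieces -/

/-- `(1 - α ⊗ 1)` and `(1 - 1 ⊗ β)` blockwise -/
lemma X_mulVec {a b : ℕ} (β : Matrix (Fin b) (Fin b) F) (w : Idx a b → F) (i : Fin a) (k : Fin b) :
    (((1 : Matrix (Idx a b) (Idx a b) F) - (1 : Matrix (Fin a) (Fin a) F) ⊗ₖ β) *ᵥ w) (i, k) =
      ((1 - β) *ᵥ fun l => w (i, l)) k := by
  rw [Matrix.sub_mulVec, Matrix.one_mulVec, Matrix.sub_mulVec, Matrix.one_mulVec, Pi.sub_apply, Pi.sub_apply]
  congr 1
  simp only [Matrix.mulVec, dotProduct, Fintype.sum_prod_type, Matrix.kroneckerMap_apply, Matrix.one_apply]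
  rw [Finset.sum_eq_single i]
  · simp
  · intro j _ hj
    simp [Ne.symm hj]
  · intro h; exact absurd (Finset.mem_univ i) h

/-- a square-zero endomorphism of `F³` has rank at most one -/
lemma finrank_range_sq_zero (ν : Matrix (Fin 3) (Fin 3) F) (hν : ∀ y, ν *ᵥ (ν *ᵥ y) = 0) :
    finrank F (LinearMap.range (Matrix.toLin' ν)) ≤ 1 := by
  have h1 : LinearMap.range (Matrix.toLin' ν) ≤ LinearMap.ker (Matrix.toLin' ν) := by
    rintro _ ⟨y, rfl⟩
    rw [LinearMap.mem_ker, Matrix.toLin'_apply, Matrix.toLin'_apply]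
    exact hν y
  have h2 := Submodule.finrank_mono h1
  have h3 := LinearMap.finrank_range_add_finrank_ker (Matrix.toLin' ν)
  have h4 : finrank F (Fin 3 → F) = 3 := by simp
  omega

/-- the projection to the `i`-th block -/
def blk {a b : ℕ} (i : Fin a) : (Idx a b → F) →ₗ[F] (Fin b → F) := LinearMap.funLeft F F (fun l => (i, l))

lemma blk_apply {a b : ℕ} (i : Fin a) (w : Idx a b → F) : blk i w = fun l => w (i, l) := rfl

/-- the kernel of a map `F³ → F³` through a space of dimension `≤ 1` has dimension `≥ 2` -/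
lemma finrank_ker_ge (L : (Fin 3 → F) →ₗ[F] (Fin 3 → F)) (S : Submodule F (Fin 3 → F))
    (hS : finrank F S ≤ 1) (hL : LinearMap.range L ≤ S) : 2 ≤ finrank F (LinearMap.ker L) := by
  have h2 := Submodule.finrank_mono hL
  have h3 := LinearMap.finrank_range_add_finrank_ker L
  have h4 : finrank F (Fin 3 → F) = 3 := by simp
  omega

/-- two subspaces of `F³` of dimension `≥ 2` meet non-trivially -/
lemma exists_inf_ne_zero (K₁ K₂ : Submodule F (Fin 3 → F)) (h1 : 2 ≤ finrank F K₁) (h2 : 2 ≤ finrank F K₂) :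
    ∃ z : Fin 3 → F, z ≠ 0 ∧ z ∈ K₁ ∧ z ∈ K₂ := by
  have h3 := Submodule.finrank_sup_add_finrank_inf_eq K₁ K₂
  have h4 : finrank F ↥(K₁ ⊔ K₂) ≤ 3 := by
    have := Submodule.finrank_le (K₁ ⊔ K₂)
    simpa using this
  have h5 : 0 < finrank F ↥(K₁ ⊓ K₂) := by omega
  rw [Module.finrank_pos_iff_exists_ne_zero] at h5
  obtain ⟨⟨z, hz⟩, hz0⟩ := h5
  refine ⟨z, ?_, hz.1, hz.2⟩
  intro h
  apply hz0
  exact Subtype.ext h

/-- `(1 - kA) v = -(c • pt x (ctA (cj q x) v))` -/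
lemma one_sub_kA_mulVec {x : Fin 2 → F} (hx : hv q x x = 0) (c : F) (v : Idx 2 3 → F) :
    ((1 : Matrix (Idx 2 3) (Idx 2 3) F) - ((kA q x c hx : GL (Idx 2 3) F) : Matrix (Idx 2 3) (Idx 2 3) F)) *ᵥ v =
      -(c • pt x (ctA (cj q x) v)) := by
  have h := Cfsg.Agent.Lib.Helper20.UTLeaf.mv_kA (q := q) (b := 3) x c hx v
  unfold mv at h
  rw [Matrix.sub_mulVec, Matrix.one_mulVec, h]
  abel

/-- `(1 - kA)² = 0` -/
lemma one_sub_kA_sq {x : Fin 2 → F} (hx : hv q x x = 0) (c : F) (v : Idx 2 3 → F) :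
    ((1 : Matrix (Idx 2 3) (Idx 2 3) F) - ((kA q x c hx : GL (Idx 2 3) F) : Matrix (Idx 2 3) (Idx 2 3) F)) *ᵥ
      (((1 : Matrix (Idx 2 3) (Idx 2 3) F) -
        ((kA q x c hx : GL (Idx 2 3) F) : Matrix (Idx 2 3) (Idx 2 3) F)) *ᵥ v) = 0 := by
  rw [one_sub_kA_mulVec hx c v, one_sub_kA_mulVec hx c]
  rw [ctA_neg', ctA_smul, ctA_cj_pt, hx, zero_smul, smul_zero, neg_zero, pt_zero_right, smul_zero, neg_zero]
where
  ctA_neg' : ∀ (ξ : Fin 2 → F) (w : Idx 2 3 → F), ctA ξ (-w) = -ctA ξ w := by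
    intro ξ w
    have := ctA_smul ξ (-1 : F) w
    rwa [neg_one_smul, neg_one_smul] at this

/-- the conjugation relation: if `m⁻¹ * k * m` has matrix `Kk` then `m⁻¹ (1 - k) = (1 - Kk) m⁻¹` -/
lemma conj_rel (m k : GL (Idx 2 3) F) (Kk : Matrix (Idx 2 3) (Idx 2 3) F)
    (hk : ((m⁻¹ * k * m : GL (Idx 2 3) F) : Matrix (Idx 2 3) (Idx 2 3) F) = Kk) (v : Idx 2 3 → F) :
    ((m⁻¹ : GL (Idx 2 3) F) : Matrix (Idx 2 3) (Idx 2 3) F) *ᵥ
      (((1 : Matrix (Idx 2 3) (Idx 2 3) F) - (k : Matrix (Idx 2 3) (Idx 2 3) F)) *ᵥ v) =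
    ((1 : Matrix (Idx 2 3) (Idx 2 3) F) - Kk) *ᵥ
      (((m⁻¹ : GL (Idx 2 3) F) : Matrix (Idx 2 3) (Idx 2 3) F) *ᵥ v) := by
  set n : Matrix (Idx 2 3) (Idx 2 3) F := ((m⁻¹ : GL (Idx 2 3) F) : Matrix (Idx 2 3) (Idx 2 3) F) with hn
  have hmn : (m : Matrix (Idx 2 3) (Idx 2 3) F) * n = 1 := by
    rw [hn, ← Units.val_mul, mul_inv_cancel, Units.val_one]
  have h1 : n * (k : Matrix (Idx 2 3) (Idx 2 3) F) * (m : Matrix (Idx 2 3) (Idx 2 3) F) = Kk := by
    rw [← hk, Units.val_mul, Units.val_mul]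
  have h2 : n * (k : Matrix (Idx 2 3) (Idx 2 3) F) = Kk * n := by
    rw [← h1, Matrix.mul_assoc, hmn, Matrix.mul_one]
  have hrel : n * (1 - (k : Matrix (Idx 2 3) (Idx 2 3) F)) = (1 - Kk) * n := by
    rw [Matrix.sub_mul, Matrix.one_mul, ← h2, Matrix.mul_sub, Matrix.mul_one]
  rw [Matrix.mulVec_mulVec, Matrix.mulVec_mulVec, hrel]

/-- `(1 - Kk)² = 0` for the conjugate `Kk` of `kA` -/
lemma conj_sq_zero {x : Fin 2 → F} (hx : hv q x x = 0) (c : F) (m : GL (Idx 2 3) F)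
    (Kk : Matrix (Idx 2 3) (Idx 2 3) F)
    (hk : ((m⁻¹ * kA q x c hx * m : GL (Idx 2 3) F) : Matrix (Idx 2 3) (Idx 2 3) F) = Kk)
    (w : Idx 2 3 → F) :
    ((1 : Matrix (Idx 2 3) (Idx 2 3) F) - Kk) *ᵥ (((1 : Matrix (Idx 2 3) (Idx 2 3) F) - Kk) *ᵥ w) = 0 := by
  have hw : w = ((m⁻¹ : GL (Idx 2 3) F) : Matrix (Idx 2 3) (Idx 2 3) F) *ᵥ
      ((m : Matrix (Idx 2 3) (Idx 2 3) F) *ᵥ w) := (gl_inv_mul_mulVec m w).symm
  rw [hw, ← conj_rel m _ Kk hk, ← conj_rel m _ Kk hk, one_sub_kA_sq hx c, Matrix.mulVec_zero]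

/-! ## FC-B -/

/-- **FC-B** -/
theorem fc_caseB {x : Fin 2 → F} (hx0 : x ≠ 0) (hx : hv q x x = 0) {c : F} (hc0 : c ≠ 0)
    (m : GL (Idx 2 3) F) (β : Matrix (Fin 3) (Fin 3) F)
    (hk : ((m⁻¹ * kA q x c hx * m : GL (Idx 2 3) F) : Matrix (Idx 2 3) (Idx 2 3) F) =
      (1 : Matrix (Fin 2) (Fin 2) F) ⊗ₖ β) : False := by
  classical
  set n : Matrix (Idx 2 3) (Idx 2 3) F := ((m⁻¹ : GL (Idx 2 3) F) : Matrix (Idx 2 3) (Idx 2 3) F) with hn
  have hrelv := conj_rel m (kA q x c hx) _ hk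
  have hX2 := conj_sq_zero hx c m _ hk
  -- a partner `x'` with `hv q x' x ≠ 0`
  obtain ⟨i₀, hi₀⟩ := Function.ne_iff.mp hx0
  have hi₀' : x i₀ ≠ 0 := hi₀
  set x' : Fin 2 → F := Pi.single i₀ 1 with hx'
  have hx'x : hv q x' x ≠ 0 := by
    have : hv q x' x = (x i₀) ^ q := by
      unfold hv
      rw [Finset.sum_eq_single i₀]
      · rw [hx', Pi.single_eq_same, one_mul]
      · intro j _ hj
        rw [hx', Pi.single_eq_of_ne hj, zero_mul]
      · intro h; exact absurd (Finset.mem_univ i₀) h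
    rw [this]
    exact pow_ne_zero _ hi₀'
  -- `X (pt e y) = pt e (ν y)`
  have hpt : ∀ (e : Fin 2 → F) (y' : Fin 3 → F),
      ((1 : Matrix (Idx 2 3) (Idx 2 3) F) - (1 : Matrix (Fin 2) (Fin 2) F) ⊗ₖ β) *ᵥ pt e y' =
        pt e ((1 - β) *ᵥ y') := by
    intro e y'
    funext ⟨i, k⟩
    rw [X_mulVec]
    simp only [pt, Matrix.mulVec, dotProduct]
    rw [Finset.mul_sum]
    apply Finset.sum_congr rfl
    intro l _
    ring
  -- `ν² = 0`
  have hν2 : ∀ y : Fin 3 → F, (1 - β) *ᵥ ((1 - β) *ᵥ y) = 0 := by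
    intro y
    have h1 := hX2 (pt x y)
    rw [hpt, hpt, pt_eq_zero_iff] at h1
    rcases h1 with h1 | h1
    · exact absurd h1 hx0
    · exact h1
  have hrange := finrank_range_sq_zero (1 - β) hν2
  set L : Fin 2 → ((Fin 3 → F) →ₗ[F] (Fin 3 → F)) := fun i =>
    (Matrix.toLin' (1 - β)).comp ((blk i).comp ((Matrix.toLin' n).comp (ptR x'))) with hL
  have hLker : ∀ i, 2 ≤ finrank F (LinearMap.ker (L i)) := by
    intro i
    apply finrank_ker_ge (L i) _ hrange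
    exact LinearMap.range_comp_le_range _ _
  obtain ⟨z, hz0, hz1, hz2⟩ := exists_inf_ne_zero _ _ (hLker 0) (hLker 1)
  have hLz : ∀ i : Fin 2, (1 - β) *ᵥ (fun l => (n *ᵥ pt x' z) (i, l)) = 0 := by
    intro i
    have hi : L i z = 0 := by
      fin_cases i
      · exact hz1
      · exact hz2
    exact hi
  have hzero : n *ᵥ pt x z = 0 := by
    have h1 : ((1 : Matrix (Idx 2 3) (Idx 2 3) F) - (1 : Matrix (Fin 2) (Fin 2) F) ⊗ₖ β) *ᵥ (n *ᵥ pt x' z) = 0 := by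
      funext ⟨i, k⟩
      rw [X_mulVec, hLz i]
      rfl
    rw [← hrelv, one_sub_kA_mulVec hx c, ctA_cj_pt, pt_smul_right, smul_smul, Matrix.mulVec_neg,
      Matrix.mulVec_smul, neg_eq_zero, smul_eq_zero] at h1
    rcases h1 with h1 | h1
    · exact absurd h1 (mul_ne_zero hc0 hx'x)
    · exact h1
  have := gl_mulVec_eq_zero (m⁻¹) hzero
  rw [pt_eq_zero_iff] at this
  rcases this with h1 | h1
  · exact hx0 h1
  · exact hz0 h1

/-! ## FC-A -/

/-- for `a = 2` and an isotropic `x ≠ 0`: `ctA (cj q x) w = 0` forces `w ∈ x ⊗ B` -/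
lemma mem_FibA_of_ctA_eq_zero {x : Fin 2 → F} (hx0 : x ≠ 0) (hx : hv q x x = 0) {w : Idx 2 3 → F}
    (hw : ctA (cj q x) w = 0) : w ∈ FibA (b := 3) x := by
  have hxx : x 0 * (x 0) ^ q + x 1 * (x 1) ^ q = 0 := by
    have := hx
    unfold hv at this
    rwa [Fin.sum_univ_two] at this
  have hw' : ∀ l : Fin 3, w (0, l) * (x 0) ^ q + w (1, l) * (x 1) ^ q = 0 := by
    intro l
    have := congrFun hw l
    unfold ctA cj at this
    rwa [Fin.sum_univ_two] at this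
  -- both coordinates of `x` are non-zero
  have hx0' : x 0 ≠ 0 := by
    intro h0
    apply hx0
    have h1 : x 1 * (x 1) ^ q = 0 := by rw [h0, zero_mul, zero_add] at hxx; exact hxx
    have h2 : x 1 = 0 := by
      rcases mul_eq_zero.mp h1 with h | h
      · exact h
      · exact pow_eq_zero_iff (by
          intro hq0; rw [hq0, pow_zero] at h; exact one_ne_zero h) |>.mp h
    funext i
    fin_cases i
    · exact h0
    · exact h2
  have hx1' : x 1 ≠ 0 := by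
    intro h1
    have h2 : x 0 * (x 0) ^ q = 0 := by rw [h1, zero_mul, add_zero] at hxx; exact hxx
    rcases mul_eq_zero.mp h2 with h | h
    · exact hx0' h
    · have hq0 : q ≠ 0 := by
        intro hq0; rw [hq0, pow_zero] at h; exact one_ne_zero h
      exact hx0' ((pow_eq_zero_iff hq0).mp h)
  have hq0' : (x 0) ^ q ≠ 0 := pow_ne_zero _ hx0'
  have hq1' : (x 1) ^ q ≠ 0 := pow_ne_zero _ hx1'
  rw [mem_FibA]
  refine ⟨fun l => w (0, l) / x 0, ?_⟩
  funext ⟨i, l⟩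
  unfold pt
  fin_cases i
  · change w (0, l) = x 0 * (w (0, l) / x 0)
    field_simp
  · change w (1, l) = x 1 * (w (0, l) / x 0)
    have h1 := hw' l
    field_simp
    have h3 : (w (1, l) * x 0 - x 1 * w (0, l)) * (x 1) ^ q = 0 := by
      linear_combination (x 0) * h1 - w (0, l) * hxx
    rcases mul_eq_zero.mp h3 with h | h
    · linear_combination h
    · exact absurd h hq1'

/-- **FC-A** -/
theorem fc_caseA (hF : Fintype.card F = q ^ 2) {x : Fin 2 → F} (hx0 : x ≠ 0) (hx : hv q x x = 0) {c : F} (hc0 : c ≠ 0)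
    {m : GL (Idx 2 3) F} (α : Matrix (Fin 2) (Fin 2) F)
    (hk : ((m⁻¹ * kA q x c hx * m : GL (Idx 2 3) F) : Matrix (Idx 2 3) (Idx 2 3) F) =
      α ⊗ₖ (1 : Matrix (Fin 3) (Fin 3) F))
    (hst : m⁻¹ * kA q x c hx * m ∈ StabA (b := 3) x) : m ∈ StabA (b := 3) x := by
  classical
  set k : GL (Idx 2 3) F := m⁻¹ * kA q x c hx * m with hkdef
  have hkpt : ∀ y : Fin 3 → F, mv k (pt x y) = pt (α *ᵥ x) y := by
    intro y
    unfold mv
    rw [hk, kron_mulVec_pt, Matrix.one_mulVec]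
  -- `α x = λ x`
  set y₀ : Fin 3 → F := Pi.single 0 1 with hy₀
  have hy₀0 : y₀ ≠ 0 := by
    intro h
    have := congrFun h 0
    rw [hy₀, Pi.single_eq_same] at this
    exact one_ne_zero this
  have hαx : ∃ l : F, α *ᵥ x = l • x := by
    have h1 : mv k (pt x y₀) ∈ FibA (b := 3) x :=
      (mem_StabA.mp hst (pt x y₀)).mp (mem_FibA.mpr ⟨y₀, rfl⟩)
    obtain ⟨y', hy'⟩ := mem_FibA.mp h1
    rw [hkpt] at hy'
    -- `pt (α x) y₀ = pt x y'`; evaluate at the coordinate `0` of `y₀`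
    refine ⟨y' 0, ?_⟩
    funext i
    have := congrFun hy' (i, 0)
    unfold pt at this
    simp only [hy₀, Pi.single_eq_same, mul_one] at this
    rw [this, Pi.smul_apply, smul_eq_mul, mul_comm]
  obtain ⟨l, hl⟩ := hαx
  -- `(k - 1)² = 0` gives `l = 1`
  have hX2 := conj_sq_zero hx c m _ hk
  have hXpt : ∀ y : Fin 3 → F,
      ((1 : Matrix (Idx 2 3) (Idx 2 3) F) - α ⊗ₖ (1 : Matrix (Fin 3) (Fin 3) F)) *ᵥ pt x y =
        (1 - l) • pt x y := by
    intro y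
    rw [Matrix.sub_mulVec, Matrix.one_mulVec, kron_mulVec_pt, Matrix.one_mulVec, hl, pt_smul_left, sub_smul,
      one_smul]
  have hl1 : l = 1 := by
    have h1 := hX2 (pt x y₀)
    rw [hXpt, Matrix.mulVec_smul, hXpt, smul_smul, smul_eq_zero] at h1
    rcases h1 with h1 | h1
    · have : 1 - l = 0 := by
        rcases mul_eq_zero.mp h1 with h | h <;> exact h
      exact (sub_eq_zero.mp this).symm
    · rw [pt_eq_zero_iff] at h1
      rcases h1 with h1 | h1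
      · exact absurd h1 hx0
      · exact absurd h1 hy₀0
  -- `k` fixes `x ⊗ B` pointwise, so `kA` fixes `m (x ⊗ B)` pointwise
  have hfix : ∀ y : Fin 3 → F, mv (kA q x c hx : GL (Idx 2 3) F) (mv m (pt x y)) = mv m (pt x y) := by
    intro y
    have h1 : mv k (pt x y) = pt x y := by rw [hkpt, hl, hl1, one_smul]
    have h2 : mv m (mv k (pt x y)) = mv (kA q x c hx : GL (Idx 2 3) F) (mv m (pt x y)) := by
      rw [hkdef, ← mv_mul, ← mv_mul]
      congr 1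
      group
    rw [← h2, h1]
  apply Cfsg.Agent.Lib.Helper17.C4ULeaf.mem_StabA_of_maps
  intro y
  apply mem_FibA_of_ctA_eq_zero hx0 hx
  have h1 := hfix y
  rw [Cfsg.Agent.Lib.Helper20.UTLeaf.mv_kA] at h1
  have h2 : c • pt x (ctA (cj q x) (mv m (pt x y))) = 0 := by
    have := h1
    rwa [add_eq_left] at this
  rw [smul_eq_zero] at h2
  rcases h2 with h2 | h2
  · exact absurd h2 hc0
  · rw [pt_eq_zero_iff] at h2
    rcases h2 with h2 | h2
    · exact absurd h2 hx0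
    · exact h2

end Cfsg.Agent.Lib.Helper20.C4UFC
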