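import Mathlib
import Cfsg.Prelude.Def_ClassicalGeometry
import Cfsg.Prelude.Def_GeometricClasses
import Cfsg.Agent.Lib.Helper5.NDMax
import Cfsg.Agent.Lib.Helper25.OmegaNonMax
import Cfsg.Agent.Lib.Helper1.C3ODefs
import Cfsg.Agent.Lib.Helper1.C3OCalc

/-!
helper20: S5700 leaf F4 (`inA_comm`) for helper1's market: the commutator relation of two `egen` root elements.
-/

set_option autoImplicit false
set_option linter.unusedSectionVars false
set_option linter.unusedVariables false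

namespace Cfsg.Agent.Lib.Helper20.C3OLeaf
open Module QuadraticMap Matrix Cfsg.Agent.Lib.Helper25.CD Cfsg.Agent.Lib.Helper25.Spin
  Cfsg.Agent.Lib.Helper25.Fam Cfsg.Agent.Lib.Helper25.Siegel
  Cfsg.Agent.Lib.Helper25.PS Cfsg.Agent.Lib.Helper25.OGeom Cfsg.Agent.Lib.Helper15
  Cfsg.Agent.Lib.Helper5.TSMax Cfsg.Agent.Lib.Helper5.NSMax Cfsg.Agent.Lib.Helper5.PairMax
  Cfsg.Agent.Lib.Helper5.NDMax Cfsg.Agent.Lib.Helper1.C3O

variable {ι : Type} [Fintype ι] [DecidableEq ι] {F : Type*} [Field F] [Fintype F]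
  {Q : QuadraticForm F (ι → F)}

/-- pointwise form of the commutator identity -/
theorem egen_comm_calc {u u' y y' : ι → F} (hu : Q u = 0) (hu' : Q u' = 0)
    (huu' : polar Q u u' = 0) (huy : polar Q u y = 0) (hu'y' : polar Q u' y' = 0)
    (hyu' : polar Q y u' = 0) (hy'u : polar Q y' u = 0) (c₁ : F) (x : ι → F) :
    egen Q u (c₁ • y) (egen Q u' ((1 : F) • y') (egen Q u ((-c₁) • y)
      (egen Q u' ((-1 : F) • y') x))) = egen Q u ((c₁ * polar Q y y') • u') x := by
  have h1 : polar Q u' u = 0 := by rw [polar_comm]; exact huu'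
  have h2 : polar Q y u = 0 := by rw [polar_comm]; exact huy
  have h3 : polar Q y' u' = 0 := by rw [polar_comm]; exact hu'y'
  have h4 : polar Q u' y = 0 := by rw [polar_comm]; exact hyu'
  have h5 : polar Q u y' = 0 := by rw [polar_comm]; exact hy'u
  have h6 : polar Q y' y = polar Q y y' := polar_comm _ _ _
  have hQu' : Q ((c₁ * polar Q y y') • u') = 0 := by
    rw [QuadraticMap.map_smul, hu']; simp
  have puu : polar Q u u = 0 := by rw [polar_self, hu]; simp
  have pu'u' : polar Q u' u' = 0 := by rw [polar_self, hu']; simp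
  have pyy : polar Q y y = 2 * Q y := by rw [polar_self]; simp
  have py'y' : polar Q y' y' = 2 * Q y' := by rw [polar_self]; simp
  unfold egen
  simp only [polar_add_right, polar_smul_right, polar_sub_right, polar_smul_left, smul_eq_mul,
    QuadraticMap.map_smul, huu', huy, hu'y', hyu', hy'u, h1, h2, h3, h4, h5, h6, hu', puu,
    pu'u', pyy, py'y', mul_zero, zero_mul, add_zero, sub_zero, zero_smul, mul_one, one_mul]
  match_scalars <;> ring

theorem inA_comm {M : Subgroup ↥(Cfsg.isometryGroup F ⇑Q)} {u u' y y' : ι → F} (hu : Q u = 0)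
    (hu' : Q u' = 0) (huu' : polar Q u u' = 0) (h : InA Q M u y) (h' : InA Q M u' y')
    (huy : polar Q u y = 0) (hu'y' : polar Q u' y' = 0) (hyu' : polar Q y u' = 0)
    (hy'u : polar Q y' u = 0) (hyy' : polar Q y y' ≠ 0) : InA Q M u u' := by
  intro c
  obtain ⟨g₁, hg₁, e₁⟩ := h (c / polar Q y y')
  obtain ⟨g₂, hg₂, e₂⟩ := h' 1
  obtain ⟨g₃, hg₃, e₃⟩ := h (-(c / polar Q y y'))
  obtain ⟨g₄, hg₄, e₄⟩ := h' (-1)
  refine ⟨g₁ * g₂ * g₃ * g₄, M.mul_mem (M.mul_mem (M.mul_mem hg₁ hg₂) hg₃) hg₄, fun x => ?_⟩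
  rw [map_mul, map_mul, map_mul, LinearEquiv.mul_apply, LinearEquiv.mul_apply,
    LinearEquiv.mul_apply, e₄, e₃, e₂, e₁,
    egen_comm_calc hu hu' huu' huy hu'y' hyu' hy'u, div_mul_cancel₀ _ hyy']

end Cfsg.Agent.Lib.Helper20.C3OLeaf
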