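import Mathlib
import Cfsg.Prelude.Def_GeometricClasses
import Cfsg.Agent.Lib.Helper20.AschDefs
import Cfsg.Agent.Lib.Helper20.FCDefs
import Cfsg.Agent.Lib.Helper18.C2Defs

/-!
FORM-CLIFFORD block, leaf (B1) `dual_index` (the core): the homogeneous components of `V|_X` are paired by the form.
`dual_index_core` takes the existence of adjoints (leaves A1, A2) as hypotheses.
-/

set_option autoImplicit false
set_option linter.unusedSectionVars false
set_option linter.unusedVariables false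

namespace Cfsg.Agent.Lib.Helper20.FCLeaf
open Matrix Cfsg.Geo Cfsg.Agent.Lib.Helper20.Asch Cfsg.Agent.Lib.Helper20.FC Cfsg.Agent.Lib.Helper18.C2

variable {F : Type*} [Field F] {n : ℕ}

lemma mat_ext {A B : Matrix (Fin n) (Fin n) F} (h : ∀ v, A *ᵥ v = B *ᵥ v) : A = B := by
  apply Matrix.toLin'.injective
  apply LinearMap.ext
  intro v
  rw [Matrix.toLin'_apply, Matrix.toLin'_apply, h]

section adj
variable {σ : F →+* F} {f : (Fin n → F) → (Fin n → F) → F}

/-- `A` is a left adjoint of `B` (equivalently `B` is a right adjoint of `A`) -/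
def IsL (f : (Fin n → F) → (Fin n → F) → F) (A B : Matrix (Fin n) (Fin n) F) : Prop :=
  ∀ u v, f (A *ᵥ u) v = f u (B *ᵥ v)

lemma isL_mul {A B A' B' : Matrix (Fin n) (Fin n) F} (h : IsL f A B) (h' : IsL f A' B') :
    IsL f (A' * A) (B * B') := by
  intro u v
  rw [← Matrix.mulVec_mulVec, h', h, Matrix.mulVec_mulVec]

lemma isL_zero (hf : RSForm σ f) : IsL f 0 0 := by
  intro u v
  rw [Matrix.zero_mulVec, Matrix.zero_mulVec, hf.zero_left, hf.zero_right]

lemma isL_unique_left (hf : RSForm σ f) {A A' B : Matrix (Fin n) (Fin n) F} (h : IsL f A B)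
    (h' : IsL f A' B) : A = A' := by
  apply mat_ext
  intro u
  apply hf.eq_of_left
  intro v
  rw [h, h']

lemma isL_unique_right (hf : RSForm σ f) {A B B' : Matrix (Fin n) (Fin n) F} (h : IsL f A B)
    (h' : IsL f A B') : B = B' := by
  apply mat_ext
  intro v
  apply hf.eq_of_right
  intro u
  rw [← h, ← h']

lemma gl_inv_mulVec (x : GL (Fin n) F) (v : Fin n → F) :
    (x : Matrix (Fin n) (Fin n) F) *ᵥ (((x⁻¹ : GL (Fin n) F) : Matrix (Fin n) (Fin n) F) *ᵥ v) = v := by
  rw [Matrix.mulVec_mulVec, ← Units.val_mul, mul_inv_cancel, Units.val_one, Matrix.one_mulVec]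

lemma isL_inv {x : GL (Fin n) F}
    (hx : ∀ u v, f ((x : Matrix (Fin n) (Fin n) F) *ᵥ u) ((x : Matrix (Fin n) (Fin n) F) *ᵥ v) = f u v) :
    IsL f ((x⁻¹ : GL (Fin n) F) : Matrix (Fin n) (Fin n) F) (x : Matrix (Fin n) (Fin n) F) := by
  intro u v
  have := hx (((x⁻¹ : GL (Fin n) F) : Matrix (Fin n) (Fin n) F) *ᵥ u) v
  rw [gl_inv_mulVec] at this
  exact this.symm

lemma isL_self_inv {x : GL (Fin n) F}
    (hx : ∀ u v, f ((x : Matrix (Fin n) (Fin n) F) *ᵥ u) ((x : Matrix (Fin n) (Fin n) F) *ᵥ v) = f u v) :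
    IsL f (x : Matrix (Fin n) (Fin n) F) ((x⁻¹ : GL (Fin n) F) : Matrix (Fin n) (Fin n) F) := by
  intro u v
  have := hx u (((x⁻¹ : GL (Fin n) F) : Matrix (Fin n) (Fin n) F) *ᵥ v)
  rw [gl_inv_mulVec] at this
  exact this

/-- a left adjoint of an element of the centraliser algebra of a group of isometries lies in it -/
lemma ladj_mem_cen (hf : RSForm σ f) {X : Subgroup (GL (Fin n) F)} (hiso : Isoms X f)
    {A T : Matrix (Fin n) (Fin n) F} (hT : T ∈ Cen X) (h : IsL f A T) : A ∈ Cen X := by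
  rw [mem_Cen] at hT ⊢
  intro x hx
  have h1 : IsL f ((x : Matrix (Fin n) (Fin n) F) * A)
      (T * ((x⁻¹ : GL (Fin n) F) : Matrix (Fin n) (Fin n) F)) := isL_mul h (isL_self_inv (hiso x hx))
  have h2 : IsL f (A * (x : Matrix (Fin n) (Fin n) F))
      (((x⁻¹ : GL (Fin n) F) : Matrix (Fin n) (Fin n) F) * T) := isL_mul (isL_self_inv (hiso x hx)) h
  rw [hT _ (X.inv_mem hx)] at h2
  exact isL_unique_left hf h1 h2

/-- a right adjoint of an element of the centraliser algebra of a group of isometries lies in it -/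
lemma radj_mem_cen (hf : RSForm σ f) {X : Subgroup (GL (Fin n) F)} (hiso : Isoms X f)
    {T B : Matrix (Fin n) (Fin n) F} (hT : T ∈ Cen X) (h : IsL f T B) : B ∈ Cen X := by
  rw [mem_Cen] at hT ⊢
  intro x hx
  have h1 : IsL f (((x⁻¹ : GL (Fin n) F) : Matrix (Fin n) (Fin n) F) * T)
      (B * (x : Matrix (Fin n) (Fin n) F)) := isL_mul h (isL_inv (hiso x hx))
  have h2 : IsL f (T * ((x⁻¹ : GL (Fin n) F) : Matrix (Fin n) (Fin n) F))
      ((x : Matrix (Fin n) (Fin n) F) * B) := isL_mul (isL_inv (hiso x hx)) h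
  rw [← hT _ (X.inv_mem hx)] at h2
  exact isL_unique_right hf h2 h1

end adj

section proj
variable {t m : ℕ} {D : Fin t → Submodule F (Fin n → F)}

/-- the matrix of the projection onto `D i` -/
noncomputable def pm (hD : IsMDecomposition m D) (i : Fin t) : Matrix (Fin n) (Fin n) F :=
  LinearMap.toMatrix' (pr hD i)

lemma pm_mulVec (hD : IsMDecomposition m D) (i : Fin t) (v : Fin n → F) : pm hD i *ᵥ v = pr hD i v := by
  unfold pm
  rw [← Matrix.toLin'_apply, Matrix.toLin'_toMatrix']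

/-- matrices agreeing on every member of the decomposition are equal -/
lemma ext_on_dec (hD : IsMDecomposition m D) {A B : Matrix (Fin n) (Fin n) F}
    (h : ∀ j, ∀ v ∈ D j, A *ᵥ v = B *ᵥ v) : A = B := by
  apply mat_ext
  intro v
  rw [← sum_pr hD v, Matrix.mulVec_sum, Matrix.mulVec_sum]
  apply Finset.sum_congr rfl
  intro j _
  exact h j _ (pr_mem hD j v)

/-- a matrix preserving every member commutes with the projections -/
lemma pm_comm (hD : IsMDecomposition m D) {T : Matrix (Fin n) (Fin n) F}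
    (hT : ∀ j, ∀ v ∈ D j, T *ᵥ v ∈ D j) (i : Fin t) : T * pm hD i = pm hD i * T := by
  apply ext_on_dec hD
  intro j v hv
  rw [← Matrix.mulVec_mulVec, ← Matrix.mulVec_mulVec, pm_mulVec, pm_mulVec]
  by_cases hji : j = i
  · subst hji
    rw [pr_same hD hv, pr_same hD (hT j v hv)]
  · rw [pr_ne hD hji hv, pr_ne hD hji (hT j v hv), Matrix.mulVec_zero]

lemma pm_mul_ne (hD : IsMDecomposition m D) {i k : Fin t} (hik : k ≠ i) : pm hD i * pm hD k = 0 := by
  apply mat_ext
  intro v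
  rw [← Matrix.mulVec_mulVec, pm_mulVec, pm_mulVec, pr_pr_ne hD hik, Matrix.zero_mulVec]

lemma map_le_iff {T : Matrix (Fin n) (Fin n) F} {W W' : Submodule F (Fin n → F)} :
    W.map (Matrix.toLin' T) ≤ W' ↔ ∀ v ∈ W, T *ᵥ v ∈ W' := by
  constructor
  · intro h v hv
    have : Matrix.toLin' T v ∈ W.map (Matrix.toLin' T) := Submodule.mem_map_of_mem hv
    rw [Matrix.toLin'_apply] at this
    exact h this
  · rintro h _ ⟨v, hv, rfl⟩
    rw [Matrix.toLin'_apply]
    exact h v hv

end proj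

section core
variable [Fintype F] {σ : F →+* F} {f : (Fin n → F) → (Fin n → F) → F}

/-- (B1) with the adjoints as hypotheses -/
theorem dual_index_core (hf : RSForm σ f)
    (hl : ∀ T : Matrix (Fin n) (Fin n) F, ∃ T' : Matrix (Fin n) (Fin n) F, ∀ u v, f (T' *ᵥ u) v = f u (T *ᵥ v))
    (hr : ∀ T : Matrix (Fin n) (Fin n) F, ∃ T' : Matrix (Fin n) (Fin n) F, ∀ u v, f (T *ᵥ u) v = f u (T' *ᵥ v))
    {X Y : Subgroup (GL (Fin n) F)} (hiso : Isoms Y f) (hX : X ≤ Y) {t m : ℕ}
    {D : Fin t → Submodule F (Fin n → F)} (h : CDec X Y m D) :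
    ∃ τ : Fin t → Fin t, ∀ i j, j ≠ τ i → AreOrthogonalFor f (D i) (D j) := by
  classical
  have hD := h.dec
  have hisoX : Isoms X f := isoms_mono hX hiso
  -- the projections lie in `Cen X` and commute with it
  have hxD : ∀ x ∈ X, ∀ j, ∀ v ∈ D j, (x : Matrix (Fin n) (Fin n) F) *ᵥ v ∈ D j :=
    fun x hx j => map_le_iff.mp (h.xinv x hx j)
  have hcD : ∀ T ∈ Cen X, ∀ j, ∀ v ∈ D j, T *ᵥ v ∈ D j := fun T hT j => map_le_iff.mp (h.cen T hT j)
  have hpc : ∀ i, pm hD i ∈ Cen X := by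
    intro i
    rw [mem_Cen]
    intro x hx
    exact pm_comm hD (hxD x hx) i
  -- the adjoint idempotents
  choose E hE using fun i => hl (pm hD i)
  have hEL : ∀ i, IsL f (E i) (pm hD i) := hE
  have hEc : ∀ i, E i ∈ Cen X := fun i => ladj_mem_cen hf hisoX (hpc i) (hEL i)
  have hEcomm : ∀ i, ∀ S ∈ Cen X, S * E i = E i * S := by
    intro i S hS
    obtain ⟨S', hS'⟩ := hr S
    have hSL : IsL f S S' := hS'
    have hS'c : S' ∈ Cen X := radj_mem_cen hf hisoX hS hSL
    have h1 : IsL f (S * E i) (pm hD i * S') := isL_mul (hEL i) hSL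
    have h2 : IsL f (E i * S) (S' * pm hD i) := isL_mul hSL (hEL i)
    rw [pm_comm hD (hcD S' hS'c) i] at h2
    exact isL_unique_left hf h1 h2
  have hEE : ∀ i k, i ≠ k → E i * E k = 0 := by
    intro i k hik
    have h1 : IsL f (E i * E k) (pm hD k * pm hD i) := isL_mul (hEL k) (hEL i)
    rw [pm_mul_ne hD hik] at h1
    exact isL_unique_left hf h1 (isL_zero hf)
  -- the images `E i (D j)`
  have hdich : ∀ i j, (D j).map (Matrix.toLin' (E i)) = ⊥ ∨ (D j).map (Matrix.toLin' (E i)) = D j := by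
    intro i j
    apply h.hom j
    · exact h.cen _ (hEc i) j
    · intro x hx
      rw [map_le_iff]
      rintro _ ⟨v, hv, rfl⟩
      rw [Matrix.toLin'_apply, Matrix.mulVec_mulVec, (mem_Cen.mp (hEc i)) x hx, ← Matrix.mulVec_mulVec]
      exact Submodule.mem_map.mpr ⟨_, hxD x hx j v hv, (Matrix.toLin'_apply _ _)⟩
    · intro T hT
      rw [map_le_iff]
      rintro _ ⟨v, hv, rfl⟩
      rw [Matrix.toLin'_apply, Matrix.mulVec_mulVec, hEcomm i T hT, ← Matrix.mulVec_mulVec]
      exact Submodule.mem_map.mpr ⟨_, hcD T hT j v hv, (Matrix.toLin'_apply _ _)⟩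
  have hDne : ∀ j, D j ≠ ⊥ := by
    intro j hj
    have := hD.finrank_eq j
    rw [hj, finrank_bot] at this
    have := hD.pos
    omega
  have huniq : ∀ j i k, (D j).map (Matrix.toLin' (E i)) = D j → (D j).map (Matrix.toLin' (E k)) = D j →
      i = k := by
    intro j i k hi hk
    by_contra hik
    apply hDne j
    rw [eq_bot_iff]
    intro v hv
    rw [← hi] at hv
    obtain ⟨w, hw, rfl⟩ := hv
    rw [← hk] at hw
    obtain ⟨z, hz, rfl⟩ := hw
    rw [Matrix.toLin'_apply, Matrix.toLin'_apply, Matrix.mulVec_mulVec, hEE i k hik, Matrix.zero_mulVec]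
    exact Submodule.zero_mem _
  have ht : 0 < t := by have := hD.two_le; omega
  let τ : Fin t → Fin t := fun j =>
    if hj : ∃ i, (D j).map (Matrix.toLin' (E i)) = D j then hj.choose else ⟨0, ht⟩
  have hτ : ∀ j i, i ≠ τ j → (D j).map (Matrix.toLin' (E i)) = ⊥ := by
    intro j i hi
    rcases hdich i j with h0 | h1
    · exact h0
    · exfalso
      apply hi
      have hj : ∃ i, (D j).map (Matrix.toLin' (E i)) = D j := ⟨i, h1⟩
      have hc : τ j = hj.choose := dif_pos hj
      rw [hc]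
      exact huniq j i _ h1 hj.choose_spec
  refine ⟨τ, fun j i hi u hu v hv => ?_⟩
  have h1 : f u v = f u (pm hD i *ᵥ v) := by rw [pm_mulVec, pr_same hD hv]
  rw [h1, ← hEL i u v]
  have h2 : E i *ᵥ u ∈ (D j).map (Matrix.toLin' (E i)) :=
    Submodule.mem_map.mpr ⟨u, hu, Matrix.toLin'_apply _ _⟩
  rw [hτ j i hi, Submodule.mem_bot] at h2
  rw [h2, hf.zero_left]

end core

end Cfsg.Agent.Lib.Helper20.FCLeaf
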