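import Mathlib
import Cfsg.Prelude.Def_GeometricClasses
import Cfsg.Agent.Lib.Helper20.AschDefs
import Cfsg.Agent.Lib.Helper20.FCDefs
import Cfsg.Agent.Lib.Helper20.FCCore
import Cfsg.Agent.Lib.Helper15.AschCL2
import Cfsg.Agent.Lib.Helper15.AschFormDefs
import Cfsg.Agent.Lib.Helper9.C2L6
import Cfsg.Agent.Lib.Helper26.FCAdj
import Cfsg.Agent.Lib.Helper17.FCDual
import Cfsg.Agent.Lib.Helper17.FCCaseA
import Cfsg.Agent.Lib.Helper17.FCOrth
import Cfsg.Agent.Lib.Helper11.FCCaseB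

/-!
FORM-CLIFFORD block: the assembly.

* `form_clifford` : Clifford data + reflexive form + isometries ⟹ `OutA f Y ∨ OutB f Y`
* `form_clifford_main` : `X ⊴ Y`, `Y` irreducible group of isometries ⟹ `Homog X ∨ OutA f Y ∨ OutB f Y`
* family versions `fc_unitary(_main)`, `fc_orthogonal_odd(_main)`, `fc_orthogonal_main` (symplectic: `FCSp.lean`)
-/

set_option autoImplicit false
set_option linter.unusedSectionVars false
set_option linter.unusedVariables false

namespace Cfsg.Agent.Lib.Helper20.FCLeaf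
open Matrix Cfsg.Geo Cfsg.Agent.Lib.Helper20.Asch Cfsg.Agent.Lib.Helper20.FC

variable {F : Type*} [Field F] [Fintype F] {n : ℕ}

/-- (B1) DUALITY OF THE HOMOGENEOUS COMPONENTS, exact signature of `notes/FC_leaves.lean` -/
theorem dual_index {σ : F →+* F} {f : (Fin n → F) → (Fin n → F) → F} (hf : RSForm σ f)
    {X Y : Subgroup (GL (Fin n) F)} (hiso : Isoms Y f) (hX : X ≤ Y) {t m : ℕ}
    {D : Fin t → Submodule F (Fin n → F)} (h : CDec X Y m D) :
    ∃ τ : Fin t → Fin t, ∀ i j, j ≠ τ i → AreOrthogonalFor f (D i) (D j) :=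
  dual_index_core hf (Cfsg.Agent.Lib.Helper26.FCLeaf.exists_ladj hf)
    (Cfsg.Agent.Lib.Helper26.FCLeaf.exists_radj hf) hiso hX h

/-- FORM-CLIFFORD, from Clifford data -/
theorem form_clifford {σ : F →+* F} {f : (Fin n → F) → (Fin n → F) → F} (hf : RSForm σ f)
    {X Y : Subgroup (GL (Fin n) F)} (hiso : Isoms Y f) (hX : X ≤ Y) {t m : ℕ}
    {D : Fin t → Submodule F (Fin n → F)} (h : CDec X Y m D) : OutA f Y ∨ OutB f Y := by
  obtain ⟨τ, hτ⟩ := dual_index hf hiso hX h
  obtain ⟨hinv, hne, hcompat, hdich⟩ :=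
    Cfsg.Agent.Lib.Helper17.FCLeaf.dual_props hf hiso h.dec h.stab h.trans τ hτ
  rcases hdich with hA | hB
  · left
    refine ⟨t, m, D, Cfsg.Agent.Lib.Helper17.FCLeaf.caseA hf h.dec (fun i j hij => hτ i j ?_), h.stab,
      h.trans⟩
    rw [hA i]
    exact hij.symm
  · by_cases ht : t = 2
    · subst ht
      right
      refine ⟨m, D, ?_, h.dec, fun i => hτ i i (hB i).symm, h.stab⟩
      have := Cfsg.Agent.Lib.Helper9.C2Leaf.card_eq_mul h.dec
      omega
    · left
      exact Cfsg.Agent.Lib.Helper11.FCLeaf.caseB_pair hf hiso h.dec h.stab h.trans τ hinv hB hτ hcompat ht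

/-- Clifford's theorem with minimality (helper15's `clifford'`) in the form of `CDec` -/
theorem clifford_cdec {X Y : Subgroup (GL (Fin n) F)} (hn : 0 < n) (hirr : Irr Y) (hX : X ≤ Y)
    (hnorm : NormBy Y X) :
    Homog X ∨ ∃ (t m : ℕ) (D : Fin t → Submodule F (Fin n → F)), CDec X Y m D := by
  rcases Cfsg.Agent.Lib.Helper15.AschLeaf.clifford' hn hirr hX hnorm with h | ⟨t, m, D, h1, h2, h3, h4, h5, h6⟩
  · exact Or.inl h
  · exact Or.inr ⟨t, m, D, ⟨h1, h2, h3, h4, h5, h6⟩⟩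

/-- FORM-CLIFFORD: `X ⊴ Y`, `Y` an irreducible group of isometries of the reflexive form `f` -/
theorem form_clifford_main {σ : F →+* F} {f : (Fin n → F) → (Fin n → F) → F} (hf : RSForm σ f)
    {X Y : Subgroup (GL (Fin n) F)} (hn : 0 < n) (hirr : Irr Y) (hX : X ≤ Y) (hnorm : NormBy Y X)
    (hiso : Isoms Y f) : Homog X ∨ OutA f Y ∨ OutB f Y := by
  rcases clifford_cdec hn hirr hX hnorm with h | ⟨t, m, D, h⟩
  · exact Or.inl h
  · exact Or.inr (form_clifford hf hiso hX h)

/-- helper15's form datum gives an `RSForm` -/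
theorem rs_of_rform {σ : F →+* F} {ε : F} {f : (Fin n → F) → (Fin n → F) → F}
    (hf : Cfsg.Agent.Lib.Helper15.AschForm.RForm σ ε f) : RSForm σ f where
  add_left := hf.add_left
  smul_left := hf.smul_left
  add_right := hf.add_right
  smul_right := hf.smul_right
  refl := fun u v h => hf.refl h
  nondeg := hf.nondeg

theorem isoms_of_le_Isom {Y : Subgroup (GL (Fin n) F)} {f : (Fin n → F) → (Fin n → F) → F}
    (h : Y ≤ Cfsg.Agent.Lib.Helper15.AschForm.Isom f) : Isoms Y f :=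
  fun y hy => Cfsg.Agent.Lib.Helper15.AschForm.mem_Isom.mp (h hy)

/-! ### the three families -/

/-- unitary -/
theorem fc_unitary {σ : F ≃+* F} {f : (Fin n → F) → (Fin n → F) → F} (hf : IsUnitaryForm σ f)
    {X Y : Subgroup (GL (Fin n) F)} (hiso : Isoms Y f) (hX : X ≤ Y) {t m : ℕ}
    {D : Fin t → Submodule F (Fin n → F)} (h : CDec X Y m D) : OutA f Y ∨ OutB f Y :=
  form_clifford (rs_of_unitary hf) hiso hX h

theorem fc_unitary_main {σ : F ≃+* F} {f : (Fin n → F) → (Fin n → F) → F} (hf : IsUnitaryForm σ f)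
    {X Y : Subgroup (GL (Fin n) F)} (hn : 0 < n) (hirr : Irr Y) (hX : X ≤ Y) (hnorm : NormBy Y X)
    (hiso : Isoms Y f) : Homog X ∨ OutA f Y ∨ OutB f Y :=
  form_clifford_main (rs_of_unitary hf) hn hirr hX hnorm hiso

/-- orthogonal, odd dimension: an orthogonal decomposition -/
theorem fc_orthogonal_odd {Q : (Fin n → F) → F} (hQ : IsNondegenerateQuadraticForm Q) (hn : Odd n)
    {X Y : Subgroup (GL (Fin n) F)} (hY : FixesQuadForm (matrixSet Y) Q) (hX : X ≤ Y) {t m : ℕ}
    {D : Fin t → Submodule F (Fin n → F)} (h : CDec X Y m D) :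
    ∃ (t k : ℕ) (D : Fin t → Submodule F (Fin n → F)), IsOrthogonalMDecomposition Q k D ∧
      Y ≤ decompositionStabilizer D := by
  rcases form_clifford (rs_of_quad hQ) (isoms_of_fixesQuadForm hY) hX h with hA | hB
  · obtain ⟨t', k, D', hD', hst, htr⟩ := hA
    exact ⟨t', k, D', Cfsg.Agent.Lib.Helper17.FCLeaf.orth_decomp hY hD' htr, hst⟩
  · obtain ⟨k, D', hk, -, -, -⟩ := hB
    exfalso
    rw [← hk] at hn
    exact (Nat.not_odd_iff_even.mpr (even_two_mul k)) hn

theorem fc_orthogonal_odd_main {Q : (Fin n → F) → F} (hQ : IsNondegenerateQuadraticForm Q)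
    (hn : Odd n) {X Y : Subgroup (GL (Fin n) F)} (hirr : Irr Y) (hX : X ≤ Y) (hnorm : NormBy Y X)
    (hY : FixesQuadForm (matrixSet Y) Q) :
    Homog X ∨ ∃ (t k : ℕ) (D : Fin t → Submodule F (Fin n → F)), IsOrthogonalMDecomposition Q k D ∧
      Y ≤ decompositionStabilizer D := by
  rcases clifford_cdec hn.pos hirr hX hnorm with h | ⟨t, m, D, h⟩
  · exact Or.inl h
  · exact Or.inr (fc_orthogonal_odd hQ hn hY hX h)

/-- orthogonal, any dimension (for the even-dimensional rows): an orthogonal decomposition, or a pair of complementary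
subspaces totally singular for the polar form -/
theorem fc_orthogonal_main {Q : (Fin n → F) → F} (hQ : IsNondegenerateQuadraticForm Q)
    {X Y : Subgroup (GL (Fin n) F)} (hn : 0 < n) (hirr : Irr Y) (hX : X ≤ Y) (hnorm : NormBy Y X)
    (hY : FixesQuadForm (matrixSet Y) Q) :
    Homog X ∨ (∃ (t k : ℕ) (D : Fin t → Submodule F (Fin n → F)), IsOrthogonalMDecomposition Q k D ∧
      Y ≤ decompositionStabilizer D) ∨ OutB (QuadraticMap.polar Q) Y := by
  rcases form_clifford_main (rs_of_quad hQ) hn hirr hX hnorm (isoms_of_fixesQuadForm hY) with h | hA | hB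
  · exact Or.inl h
  · obtain ⟨t', k, D', hD', hst, htr⟩ := hA
    exact Or.inr (Or.inl ⟨t', k, D', Cfsg.Agent.Lib.Helper17.FCLeaf.orth_decomp hY hD' htr, hst⟩)
  · exact Or.inr (Or.inr hB)

end Cfsg.Agent.Lib.Helper20.FCLeaf
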