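/-
Helper20 library: bridge between a type-level action `[MulDistribMulAction A G]` and the internal
situation `inl(G), inr(A) ≤ G ⋊ A` in the semidirect product.
-/
import Mathlib

set_option autoImplicit false
open Pointwise

namespace Cfsg.Agent.Lib.Helper20

open Subgroup
open scoped commutatorElement

variable {G A : Type*} [Group G] [Group A] [MulDistribMulAction A G]

/-- The semidirect product `G ⋊ A` attached to an action of `A` on `G` by automorphisms. -/
abbrev Sd (A G : Type*) [Group G] [Group A] [MulDistribMulAction A G] :=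
  G ⋊[MulDistribMulAction.toMulAut A G] A

/-- the image of `G` in `G ⋊ A` -/
def sdG (A G : Type*) [Group G] [Group A] [MulDistribMulAction A G] : Subgroup (Sd A G) :=
  (SemidirectProduct.inl : G →* Sd A G).range

/-- the image of `A` in `G ⋊ A` -/
def sdA (A G : Type*) [Group G] [Group A] [MulDistribMulAction A G] : Subgroup (Sd A G) :=
  (SemidirectProduct.inr : A →* Sd A G).range

instance sd_finite [Finite G] [Finite A] : Finite (Sd A G) :=
  Finite.of_equiv _ (SemidirectProduct.equivProd (φ := MulDistribMulAction.toMulAut A G)).symm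

theorem sd_inl_smul (a : A) (g : G) :
    (SemidirectProduct.inl (a • g) : Sd A G) =
      SemidirectProduct.inr a * SemidirectProduct.inl g * (SemidirectProduct.inr a)⁻¹ := by
  have := SemidirectProduct.inl_aut (φ := MulDistribMulAction.toMulAut A G) a g
  rw [map_inv] at this
  exact this

instance sdG_normal : (sdG A G).Normal := by
  unfold sdG
  rw [SemidirectProduct.range_inl_eq_ker_rightHom]
  infer_instance

theorem sdA_le_normalizer : sdA A G ≤ normalizer ((sdG A G : Subgroup (Sd A G)) : Set (Sd A G)) := by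
  rw [Subgroup.normalizer_eq_top]; exact le_top

theorem card_sdG : Nat.card (sdG A G) = Nat.card G :=
  (Nat.card_congr (MonoidHom.ofInjective
    (SemidirectProduct.inl_injective (φ := MulDistribMulAction.toMulAut A G))).toEquiv).symm

theorem card_sdA : Nat.card (sdA A G) = Nat.card A :=
  (Nat.card_congr (MonoidHom.ofInjective
    (SemidirectProduct.inr_injective (φ := MulDistribMulAction.toMulAut A G))).toEquiv).symm

/-- `G ≃* inl(G)` -/
noncomputable def sdGEquiv (A G : Type*) [Group G] [Group A] [MulDistribMulAction A G] :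
    G ≃* sdG A G :=
  MonoidHom.ofInjective (SemidirectProduct.inl_injective (φ := MulDistribMulAction.toMulAut A G))

theorem sd_mem_centralizer_iff (g : G) :
    (SemidirectProduct.inl g : Sd A G) ∈ centralizer ((sdA A G : Subgroup (Sd A G)) : Set (Sd A G)) ↔
      ∀ a : A, a • g = g := by
  rw [Subgroup.mem_centralizer_iff]
  constructor
  · intro h a
    have h1 := h (SemidirectProduct.inr a) ⟨a, rfl⟩
    apply SemidirectProduct.inl_injective (φ := MulDistribMulAction.toMulAut A G)
    rw [sd_inl_smul, h1, mul_assoc, mul_inv_cancel, mul_one]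
  · rintro h _ ⟨a, rfl⟩
    have h1 := sd_inl_smul a g
    rw [h a] at h1
    calc (SemidirectProduct.inr a : Sd A G) * SemidirectProduct.inl g
        = (SemidirectProduct.inr a * SemidirectProduct.inl g * (SemidirectProduct.inr a)⁻¹) *
            SemidirectProduct.inr a := by group
      _ = SemidirectProduct.inl g * SemidirectProduct.inr a := by rw [← h1]

theorem sd_fixedPoints_image :
    (SemidirectProduct.inl : G →* Sd A G) '' (MulAction.fixedPoints A G) =
      ((sdG A G ⊓ centralizer ((sdA A G : Subgroup (Sd A G)) : Set (Sd A G)) : Subgroup (Sd A G)) :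
        Set (Sd A G)) := by
  ext x
  constructor
  · rintro ⟨g, hg, rfl⟩
    exact ⟨⟨g, rfl⟩, (sd_mem_centralizer_iff g).mpr hg⟩
  · rintro ⟨⟨g, rfl⟩, hc⟩
    exact ⟨g, (sd_mem_centralizer_iff g).mp hc, rfl⟩

theorem sd_commutator_eq :
    ⁅sdG A G, sdA A G⁆ =
      (Subgroup.closure {y : G | ∃ (a : A) (g : G), y = g⁻¹ * a • g}).map
        (SemidirectProduct.inl : G →* Sd A G) := by
  rw [MonoidHom.map_closure, Subgroup.commutator_def]
  apply le_antisymm
  · rw [Subgroup.closure_le]
    rintro _ ⟨_, ⟨g, rfl⟩, _, ⟨a, rfl⟩, rfl⟩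
    apply Subgroup.subset_closure
    refine ⟨g * a • g⁻¹, ⟨a, g⁻¹, by rw [inv_inv]⟩, ?_⟩
    rw [map_mul, sd_inl_smul, map_inv, commutatorElement_def]
    group
  · rw [Subgroup.closure_le]
    rintro _ ⟨_, ⟨a, g, rfl⟩, rfl⟩
    apply Subgroup.subset_closure
    refine ⟨SemidirectProduct.inl g⁻¹, ⟨g⁻¹, rfl⟩, SemidirectProduct.inr a, ⟨a, rfl⟩, ?_⟩
    rw [map_mul, sd_inl_smul, map_inv, commutatorElement_def]
    group

/-- invariance of a subgroup of `G` under `A` in terms of the semidirect product -/
theorem sd_invariant_iff (H : Subgroup G) :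
    (∀ a : A, ∀ x ∈ H, a • x ∈ H) ↔
      sdA A G ≤ normalizer ((H.map (SemidirectProduct.inl : G →* Sd A G) : Subgroup (Sd A G)) :
        Set (Sd A G)) := by
  constructor
  · rintro h _ ⟨a, rfl⟩
    rw [Subgroup.mem_normalizer_iff]
    intro y
    constructor
    · rintro ⟨x, hx, rfl⟩
      exact ⟨a • x, h a x hx, by rw [sd_inl_smul]⟩
    · rintro ⟨x, hx, hxy⟩
      refine ⟨a⁻¹ • x, h a⁻¹ x hx, ?_⟩
      rw [sd_inl_smul, hxy, map_inv]
      group
  · intro h a x hx
    have h1 := (Subgroup.mem_normalizer_iff.mp (h ⟨a, rfl⟩) (SemidirectProduct.inl x)).mp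
      (Subgroup.mem_map_of_mem _ hx)
    rw [← sd_inl_smul] at h1
    exact (Subgroup.mem_map_iff_mem
      (SemidirectProduct.inl_injective (φ := MulDistribMulAction.toMulAut A G))).mp h1

end Cfsg.Agent.Lib.Helper20
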