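import Mathlib
import Cfsg.Prelude.Def_Characters

/-!
# S4861 R1 sub-leaf (C) (owner helper25): a function on `W` whose `t`-conjugate is its complex conjugate
induces to a real-valued function.
-/

set_option autoImplicit false

namespace Cfsg.Agent.Lib.Helper20.RealP

open Cfsg
open scoped ComplexConjugate

universe u

theorem extendByZero_of_mem {G : Type u} [Group G] (W : Subgroup G) (ψ : W → ℂ) {y : G}
    (hy : y ∈ W) : extendByZero W ψ y = ψ ⟨y, hy⟩ := by
  unfold extendByZero
  exact Subtype.val_injective.extend_apply ψ 0 ⟨y, hy⟩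

theorem extendByZero_of_not_mem {G : Type u} [Group G] (W : Subgroup G) (ψ : W → ℂ) {y : G}
    (hy : y ∉ W) : extendByZero W ψ y = 0 := by
  unfold extendByZero
  rw [Function.extend_apply']
  · rfl
  · rintro ⟨w, rfl⟩
    exact hy w.2

/-- (C) a function on `W` whose `t`-conjugate is its complex conjugate induces to a real-valued
function. -/
theorem indFun_real_of_conj {G : Type u} [Group G] [Fintype G] (W : Subgroup G) (ψ : W → ℂ) (t : G)
    (htW : ∀ w ∈ W, t * w * t⁻¹ ∈ W) (htW' : ∀ w ∈ W, t⁻¹ * w * t ∈ W)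
    (hψ : ∀ w : W, ψ ⟨t * w * t⁻¹, htW w w.2⟩ = conj (ψ w)) :
    ∀ g : G, conj (indFun W ψ g) = indFun W ψ g := by
  intro g
  have hkey : ∀ y : G, conj (extendByZero W ψ y) = extendByZero W ψ (t * y * t⁻¹) := by
    intro y
    by_cases hy : y ∈ W
    · rw [extendByZero_of_mem W ψ hy, extendByZero_of_mem W ψ (htW y hy)]
      exact (hψ ⟨y, hy⟩).symm
    · have hy' : t * y * t⁻¹ ∉ W := by
        intro h
        apply hy
        have := htW' _ h
        have e : t⁻¹ * (t * y * t⁻¹) * t = y := by group
        rwa [e] at this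
      rw [extendByZero_of_not_mem W ψ hy, extendByZero_of_not_mem W ψ hy', map_zero]
  unfold indFun
  rw [map_mul, map_inv₀, Complex.conj_natCast, map_sum]
  congr 1
  conv_rhs => rw [← Equiv.sum_comp (Equiv.mulRight t⁻¹)]
  apply Finset.sum_congr rfl
  intro x _
  rw [hkey]
  congr 1
  simp only [Equiv.coe_mulRight, mul_inv_rev, inv_inv]
  group

end Cfsg.Agent.Lib.Helper20.RealP
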