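import Mathlib
import Cfsg.Agent.Lib.Helper12.U3Defs
import Cfsg.Agent.Lib.Helper13.U3Line

/-! S2148 market "U3", leaf CAHOM (helper20): the homomorphism `ca : PP → Fˣ` (onto, kernel `QQ`,
injective on `LL`), `|LL| = q^2 - 1`, `LL` cyclic. -/

set_option autoImplicit false

namespace Cfsg.Agent.Lib.Helper20.U3Leaf

open Cfsg.Agent.Lib.Helper12.U3 Cfsg.Agent.Lib.Helper18.PSUMod Cfsg.Agent.Lib.Helper5.HermBridge
open Cfsg.Agent.Lib.Helper13.U3Line

noncomputable section

section gen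

variable {F : Type*} [Field F] [Finite F] {bar : F →+* F}

theorem ca_one' : ca (1 : ↥(SUm bar 1)) = 1 := by
  simp [ca, ve]

theorem ca_mul' {g g' : ↥(SUm bar 1)} (hg : g ∈ Pe bar 1) (hg' : g' ∈ Pe bar 1) :
    ca (g * g') = ca g * ca g' := by
  have h1 : av (g * g') ve = (ca g' * ca g) • (ve : V F 1) := by
    rw [av_mul, av_ve_of_mem_Pe hg', av_smul, av_ve_of_mem_Pe hg, smul_smul]
  rw [ca, h1]
  simp [ve, ca, mul_comm]

/-- an element of `Le` with `ca = 1` is trivial (`m = 1`, determinant one) -/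
theorem eq_one_of_mem_Le_of_ca {l : ↥(SUm bar 1)} (hl : l ∈ Le bar 1) (h1 : ca l = 1) : l = 1 := by
  have he : av l ve = ve := by rw [av_ve_of_mem_Pe hl.1, h1, one_smul]
  have hcb : cb l = 1 := by
    have h2 := ca_mul_cb hl.1
    rw [h1, one_mul] at h2
    have h3 : bar (cb l) = bar 1 := by rw [h2, map_one]
    exact bar.injective h3
  have hf : av l vf = vf := by rw [av_vf_of_mem_Pf hl.2, hcb, one_smul]
  have hw : av l (vw 1) = (Bof (l : V F 1 ≃ₗ[F] V F 1) 1 0) • vw 1 := by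
    rw [av_vw_of_mem_Le hl, vw_eq_smul]
  have hdet := det_Mt_mul l hw
  have hM : (Mt l).det = 1 := by
    rw [Mt, Matrix.det_fin_two_of, he, hf]
    simp [ve, vf]
  rw [hM, mul_one] at hdet
  rw [hdet, one_smul] at hw
  apply av_ext3
  · rw [he, av_one]
  · rw [hf, av_one]
  · intro w
    rw [av_one, vw_eq_smul w, av_smul, hw]

end gen

variable {F : Type*} [Field F] [Fintype F] {q : ℕ} (hF : Fintype.card F = q ^ 2)

/-- the homomorphism `ca` on `PP` -/
def caHom : ↥(PP hF) →* Fˣ where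
  toFun k := Units.mk0 (ca (k : GG hF)) (ca_ne_zero k.2)
  map_one' := Units.ext (ca_one' (bar := frobHom hF))
  map_mul' k k' := Units.ext (ca_mul' k.2 k'.2)

theorem caHom_val (k : ↥(PP hF)) : ((caHom hF k : Fˣ) : F) = ca (k : GG hF) := rfl

theorem caHom_surjective : Function.Surjective (caHom hF) := by
  intro a
  obtain ⟨g, hg⟩ := exists_SUm_ca (barOK_frob hF) (le_refl 1) a.ne_zero
  refine ⟨⟨g, ⟨(a : F), hg⟩⟩, ?_⟩
  apply Units.ext
  rw [caHom_val]
  show ca g = a
  rw [ca, hg]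
  simp [ve]

theorem caHom_ker : (caHom hF).ker = (QQ hF).subgroupOf (PP hF) := by
  have hB := barOK_frob hF
  ext k
  rw [MonoidHom.mem_ker, Subgroup.mem_subgroupOf]
  constructor
  · intro h
    have h1 : ca (k : GG hF) = 1 := by
      have := congrArg (fun u : Fˣ => (u : F)) h
      simpa [caHom_val] using this
    obtain ⟨x, l, hl, hk⟩ := Pe_decomp hB.invol k.2
    have h2 : ca l = 1 := by
      have h3 : ca (k : GG hF) = ca (EG hB.invol x) * ca l := by
        rw [hk]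
        exact ca_mul' (Qe_le_Pe hB.invol ⟨x, rfl⟩) hl.1
      rw [h1] at h3
      have h4 : ca (EG hB.invol x) = 1 := by
        rw [ca, av_EG_ve]; simp [ve]
      rw [h4, one_mul] at h3
      exact h3.symm
    rw [eq_one_of_mem_Le_of_ca hl h2, mul_one] at hk
    rw [hk]
    exact ⟨x, rfl⟩
  · rintro ⟨x, hx⟩
    apply Units.ext
    rw [caHom_val, ← hx, ca, av_EG_ve]
    simp [ve]

theorem caHom_inj_LL (k : ↥(PP hF)) (hk : (k : GG hF) ∈ LL hF) (h : caHom hF k = 1) : k = 1 := by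
  have h1 : ca (k : GG hF) = 1 := by
    have := congrArg (fun u : Fˣ => (u : F)) h
    simpa [caHom_val] using this
  exact Subtype.ext (eq_one_of_mem_Le_of_ca hk h1)

theorem exists_caHom : ∃ φ : ↥(PP hF) →* Fˣ, (∀ k : ↥(PP hF), ((φ k : Fˣ) : F) = ca (k : GG hF)) ∧
    Function.Surjective φ ∧ φ.ker = (QQ hF).subgroupOf (PP hF) ∧
    ∀ k : ↥(PP hF), (k : GG hF) ∈ LL hF → φ k = 1 → k = 1 :=
  ⟨caHom hF, caHom_val hF, caHom_surjective hF, caHom_ker hF, caHom_inj_LL hF⟩

/-- `ca` restricted to `LL` -/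
def caLL : ↥(LL hF) →* Fˣ := (caHom hF).comp (Subgroup.inclusion (inf_le_left : LL hF ≤ PP hF))

theorem caLL_injective : Function.Injective (caLL hF) := by
  rw [injective_iff_map_eq_one]
  intro l hl
  have := caHom_inj_LL hF (Subgroup.inclusion (inf_le_left : LL hF ≤ PP hF) l) l.2 hl
  apply Subtype.ext
  have h2 := congrArg (fun u : ↥(PP hF) => (u : GG hF)) this
  exact h2

theorem caLL_surjective : Function.Surjective (caLL hF) := by
  have hB := barOK_frob hF
  intro a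
  obtain ⟨k, hk⟩ := caHom_surjective hF a
  obtain ⟨x, l, hl, hkl⟩ := Pe_decomp hB.invol k.2
  refine ⟨⟨l, hl⟩, ?_⟩
  apply Units.ext
  have h1 : ((caHom hF k : Fˣ) : F) = a := by rw [hk]
  rw [caHom_val, hkl, ca_mul' (Qe_le_Pe hB.invol ⟨x, rfl⟩) hl.1] at h1
  have h4 : ca (EG hB.invol x) = 1 := by
    rw [ca, av_EG_ve]; simp [ve]
  rw [h4, one_mul] at h1
  show ((caHom hF ⟨l, hl.1⟩ : Fˣ) : F) = a
  rw [caHom_val]
  exact h1

theorem card_LL : Nat.card (LL hF) = q ^ 2 - 1 := by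
  classical
  rw [Nat.card_congr (Equiv.ofBijective _ ⟨caLL_injective hF, caLL_surjective hF⟩),
    Nat.card_eq_fintype_card, Fintype.card_units, hF]

theorem isCyclic_LL : IsCyclic ↥(LL hF) :=
  isCyclic_of_injective (caLL hF) (caLL_injective hF)

end

end Cfsg.Agent.Lib.Helper20.U3Leaf
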