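import Mathlib
import Cfsg.Agent.Lib.Helper12.U3Defs

/-! S2148 market "U3", leaf POW (helper20): `q` is a power of the characteristic. -/

set_option autoImplicit false

namespace Cfsg.Agent.Lib.Helper20.U3Leaf

open Cfsg.Agent.Lib.Helper12.U3 Cfsg.Agent.Lib.Helper18.PSUMod Cfsg.Agent.Lib.Helper5.HermBridge

variable {F : Type*} [Field F] [Fintype F] {q : ℕ}

theorem exists_pow_eq (hF : Fintype.card F = q ^ 2) {p : ℕ} [Fact p.Prime] [CharP F p] :
    ∃ a : ℕ, 0 < a ∧ q = p ^ a := by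
  have hp : p.Prime := Fact.out
  obtain ⟨n, -, hn⟩ := FiniteField.card F p
  rw [hF] at hn
  have hdvd : q ∣ p ^ (n : ℕ) := by
    rw [← hn]
    exact Dvd.intro_left (q ^ 1) (by ring)
  obtain ⟨a, -, ha⟩ := (Nat.dvd_prime_pow hp).mp hdvd
  refine ⟨a, ?_, ha⟩
  rcases Nat.eq_zero_or_pos a with h0 | h0
  · exfalso
    rw [h0, pow_zero] at ha
    rw [ha, one_pow] at hn
    have h1 : 1 < p ^ (n : ℕ) := Nat.one_lt_pow (PNat.ne_zero n) hp.one_lt
    omega
  · exact h0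

end Cfsg.Agent.Lib.Helper20.U3Leaf
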