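import Mathlib
import Cfsg.Agent.Lib.Helper12.U3Defs

/-! S2148 market "U3", leaf CARDQ (helper20): `|QQ| = q^3`, `|TT| = q`.
Counting of the fibres of the trace `c ↦ c + c^q` on a field with `q^2` elements, without polynomials:
the kernel is `c₀ • Fix`, every fibre over `Fix` is a coset of the kernel, so `q^2 = |Fix|^2`. -/

set_option autoImplicit false

namespace Cfsg.Agent.Lib.Helper20.U3Leaf

open Cfsg.Agent.Lib.Helper12.U3 Cfsg.Agent.Lib.Helper18.PSUMod Cfsg.Agent.Lib.Helper5.HermBridge

noncomputable section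

variable {F : Type*} [Field F] [Fintype F] {q : ℕ}

section trace

variable {bar : F →+* F}

/-- a fibre of the trace is a coset of the kernel -/
def trFiberEquiv {z r : F} (hz : z + bar z = r) :
    {c : F // c + bar c = 0} ≃ {c : F // c + bar c = r} where
  toFun c := ⟨z + c.1, by rw [map_add, ← hz]; linear_combination c.2⟩
  invFun c := ⟨c.1 - z, by rw [map_sub]; linear_combination c.2 - hz⟩
  left_inv c := Subtype.ext (by simp)
  right_inv c := Subtype.ext (by simp)

/-- the kernel of the trace is `c₀ • Fix` -/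
def trKerEquiv {c₀ : F} (h0 : c₀ ≠ 0) (hc : c₀ + bar c₀ = 0) :
    {r : F // bar r = r} ≃ {c : F // c + bar c = 0} where
  toFun r := ⟨c₀ * r.1, by rw [map_mul, r.2]; linear_combination r.1 * hc⟩
  invFun c := ⟨c₀⁻¹ * c.1, by
    have h1 : bar c₀ = -c₀ := by linear_combination hc
    have h2 : bar c.1 = -c.1 := by linear_combination c.2
    rw [map_mul, map_inv₀, h1, h2]
    field_simp⟩
  left_inv r := Subtype.ext (by simp [h0])
  right_inv c := Subtype.ext (by simp [h0])

/-- the field is the disjoint union of the fibres of the trace over the fixed field -/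
def trSigmaEquiv (hb : ∀ x, bar (bar x) = x) :
    F ≃ Σ r : {r : F // bar r = r}, {c : F // c + bar c = r.1} where
  toFun c := ⟨⟨c + bar c, by rw [map_add, hb]; ring⟩, ⟨c, rfl⟩⟩
  invFun p := p.2.1
  left_inv c := rfl
  right_inv := by
    rintro ⟨⟨r, hr⟩, ⟨c, hc⟩⟩
    have hc' : c + bar c = r := hc
    subst hc'
    rfl

end trace

/-- the kernel of the trace has `q` elements -/
theorem card_tr_ker (hF : Fintype.card F = q ^ 2) :
    Nat.card {c : F // c + frobHom hF c = 0} = q := by
  classical
  have hB := barOK_frob hF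
  obtain ⟨c₀, h0, hc⟩ := hB.sk
  have hfib : ∀ r : {r : F // frobHom hF r = r},
      Nat.card {c : F // c + frobHom hF c = r.1} = Nat.card {c : F // c + frobHom hF c = 0} := by
    intro r
    obtain ⟨z, hz⟩ := hB.tr r.1 r.2
    exact (Nat.card_congr (trFiberEquiv hz)).symm
  have h1 : Nat.card F = Nat.card {r : F // frobHom hF r = r} *
      Nat.card {c : F // c + frobHom hF c = 0} := by
    rw [Nat.card_congr (trSigmaEquiv hB.invol), Nat.card_sigma]
    simp only [hfib, Finset.sum_const, Finset.card_univ, smul_eq_mul, Nat.card_eq_fintype_card]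
  rw [Nat.card_congr (trKerEquiv h0 hc), Nat.card_eq_fintype_card, hF, ← sq] at h1
  exact (Nat.pow_left_injective (by norm_num : 2 ≠ 0) h1).symm

/-- every fibre of the trace over the fixed field has `q` elements -/
theorem card_tr_fiber (hF : Fintype.card F = q ^ 2) {r : F} (hr : frobHom hF r = r) :
    Nat.card {c : F // c + frobHom hF c = r} = q := by
  obtain ⟨z, hz⟩ := (barOK_frob hF).tr r hr
  rw [← Nat.card_congr (trFiberEquiv hz), card_tr_ker hF]

/-- `HS` as a sigma type -/
def hsSigmaEquiv (hF : Fintype.card F = q ^ 2) :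
    ↥(HS (frobHom hF) (barOK_frob hF).invol 1) ≃
      Σ w : Fin 1 → F, {c : F // c + frobHom hF c = -hW (frobHom hF) w w} where
  toFun x := ⟨x.1.w, ⟨x.1.c, x.2⟩⟩
  invFun p := ⟨⟨p.1, p.2.1⟩, p.2.2⟩
  left_inv x := rfl
  right_inv p := rfl

theorem card_HS (hF : Fintype.card F = q ^ 2) :
    Nat.card ↥(HS (frobHom hF) (barOK_frob hF).invol 1) = q ^ 3 := by
  classical
  have hfib : ∀ w : Fin 1 → F,
      Nat.card {c : F // c + frobHom hF c = -hW (frobHom hF) w w} = q := by
    intro w
    apply card_tr_fiber hF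
    rw [map_neg, bar_hW_self (barOK_frob hF).invol]
  rw [Nat.card_congr (hsSigmaEquiv hF), Nat.card_sigma]
  simp only [hfib, Finset.sum_const, Finset.card_univ, smul_eq_mul, Fintype.card_pi,
    Finset.prod_const, Fintype.card_fin, pow_one, hF]
  ring

/-- `HS0` is the kernel of the trace -/
def hs0Equiv (hF : Fintype.card F = q ^ 2) :
    ↥(HS0 (barOK_frob hF).invol 1) ≃ {c : F // c + frobHom hF c = 0} where
  toFun x := ⟨x.1.1.c, by
    have h1 := x.1.2
    have h2 : (x.1 : HP (frobHom hF) 1).w = 0 := x.2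
    rw [mem_HS, h2, hW_zero_left, neg_zero] at h1
    exact h1⟩
  invFun c := ⟨⟨⟨0, c.1⟩, by rw [mem_HS]; simpa using c.2⟩, rfl⟩
  left_inv x := by
    have h2 : (x.1 : HP (frobHom hF) 1).w = 0 := x.2
    apply Subtype.ext
    apply Subtype.ext
    apply HP.ext
    · exact h2.symm
    · rfl
  right_inv c := rfl

theorem card_QQ (hF : Fintype.card F = q ^ 2) : Nat.card (QQ hF) = q ^ 3 := by
  rw [← card_HS hF]
  exact (Nat.card_congr (Equiv.ofInjective _ (EG_injective (barOK_frob hF).invol))).symm

theorem card_TT (hF : Fintype.card F = q ^ 2) : Nat.card (TT hF) = q := by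
  have h1 : Nat.card (TT hF) = Nat.card ↥(HS0 (barOK_frob hF).invol 1) :=
    (Nat.card_congr ((HS0 (barOK_frob hF).invol 1).equivMapOfInjective _
      (EG_injective (barOK_frob hF).invol)).toEquiv).symm
  rw [h1, Nat.card_congr (hs0Equiv hF), card_tr_ker hF]

end

end Cfsg.Agent.Lib.Helper20.U3Leaf
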