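import Mathlib
import Cfsg.Agent.Lib.Helper12.U3Defs

/-! S2148 market "U3", leaf GEN (helper20): a transitive subgroup containing the root group `TT` is
everything. -/

set_option autoImplicit false

namespace Cfsg.Agent.Lib.Helper20.U3Leaf

open Cfsg.Agent.Lib.Helper12.U3 Cfsg.Agent.Lib.Helper18.PSUMod Cfsg.Agent.Lib.Helper5.HermBridge

variable {F : Type*} [Field F] [Fintype F] {q : ℕ} (hF : Fintype.card F = q ^ 2)

theorem eq_top_of_TT_le (hq : 3 ≤ q) (H : Subgroup (GG hF)) (htr : Trans hF H)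
    (hT : TT hF ≤ H) : H = ⊤ := by
  have hB := barOK_frob hF
  obtain ⟨ζ, τ, hζ, hτ, hN⟩ := exists_consts hF
  have hTe : TT hF = TV (frobHom hF) ve := Te_eq_TV hB.invol
  apply hgen_model hF hζ hτ hN (le_refl 1) (by omega) H
  intro u hu0 hu
  obtain ⟨g, a, ha, rfl⟩ := exists_av_ve hB hu0 hu
  obtain ⟨h, hh, b, hb, rfl⟩ := htr g
  rw [TV_smul hB.invol ha]
  intro t ht
  -- `(h b)⁻¹ t (h b) ∈ TV ve = TT`
  have h1 : (h * b) * ((h * b)⁻¹ * t * (h * b)) * (h * b)⁻¹ ∈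
      TV (frobHom hF) (av (h * b) ve) := by
    have : (h * b) * ((h * b)⁻¹ * t * (h * b)) * (h * b)⁻¹ = t := by group
    rw [this]
    exact ht
  have h2 := (conj_mem_TV_iff (h * b)).1 h1
  have h2' : (h * b)⁻¹ * t * (h * b) ∈ TT hF := by rw [hTe]; exact h2
  have h3 := hT (Pe_normalizes_Te hB.invol hb h2')
  have h4 : t = h * (b * ((h * b)⁻¹ * t * (h * b)) * b⁻¹) * h⁻¹ := by group
  rw [h4]
  exact H.mul_mem (H.mul_mem hh h3) (H.inv_mem hh)

end Cfsg.Agent.Lib.Helper20.U3Leaf
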