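import Mathlib
import Cfsg.Agent.Lib.Helper12.U3Defs

/-! S2148 market "U3", leaf INFTV (helper20): a transitive subgroup meets all root groups in groups of
the same order. -/

set_option autoImplicit false

namespace Cfsg.Agent.Lib.Helper20.U3Leaf

open Cfsg.Agent.Lib.Helper12.U3 Cfsg.Agent.Lib.Helper18.PSUMod Cfsg.Agent.Lib.Helper5.HermBridge

variable {F : Type*} [Field F] [Fintype F] {q : ℕ} (hF : Fintype.card F = q ^ 2)

theorem card_inf_TV (H : Subgroup (GG hF)) (htr : Trans hF H) (u : V F 1) (hu0 : u ≠ 0)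
    (hu : hV (frobHom hF) u u = 0) :
    Nat.card ↥(H ⊓ TV (frobHom hF) u) = Nat.card ↥(H ⊓ TT hF) := by
  have hB := barOK_frob hF
  obtain ⟨g, a, ha, rfl⟩ := exists_av_ve hB hu0 hu
  obtain ⟨h, hh, b, hb, rfl⟩ := htr g
  rw [TV_smul hB.invol ha]
  have hTe : TT hF = TV (frobHom hF) ve := Te_eq_TV hB.invol
  symm
  refine Nat.card_congr ⟨fun t => ⟨h * t.1 * h⁻¹, ?_, ?_⟩, fun t => ⟨h⁻¹ * t.1 * h, ?_, ?_⟩, ?_, ?_⟩
  · exact H.mul_mem (H.mul_mem hh t.2.1) (H.inv_mem hh)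
  · have h1 : b⁻¹ * t.1 * b⁻¹⁻¹ ∈ TT hF :=
      Pe_normalizes_Te hB.invol ((PP hF).inv_mem hb) t.2.2
    have h1' : b⁻¹ * t.1 * b⁻¹⁻¹ ∈ TV (frobHom hF) ve := by rw [← hTe]; exact h1
    have h2 := conj_mem_TV (h * b) h1'
    have h3 : h * b * (b⁻¹ * t.1 * b⁻¹⁻¹) * (h * b)⁻¹ = h * t.1 * h⁻¹ := by group
    rwa [h3] at h2
  · exact H.mul_mem (H.mul_mem (H.inv_mem hh) t.2.1) hh
  · have h1 : (h * b) * ((h * b)⁻¹ * t.1 * (h * b)) * (h * b)⁻¹ ∈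
        TV (frobHom hF) (av (h * b) ve) := by
      have : (h * b) * ((h * b)⁻¹ * t.1 * (h * b)) * (h * b)⁻¹ = t.1 := by group
      rw [this]
      exact t.2.2
    have h2 := (conj_mem_TV_iff (h * b)).1 h1
    have h2' : (h * b)⁻¹ * t.1 * (h * b) ∈ TT hF := by rw [hTe]; exact h2
    have h3 := Pe_normalizes_Te hB.invol hb h2'
    have h4 : b * ((h * b)⁻¹ * t.1 * (h * b)) * b⁻¹ = h⁻¹ * t.1 * h := by group
    rwa [h4] at h3
  · intro t
    apply Subtype.ext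
    show h⁻¹ * (h * t.1 * h⁻¹) * h = t.1
    group
  · intro t
    apply Subtype.ext
    show h * (h⁻¹ * t.1 * h) * h⁻¹ = t.1
    group

end Cfsg.Agent.Lib.Helper20.U3Leaf
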