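import Mathlib
import Cfsg.Agent.Lib.Helper12.U3Defs
import Cfsg.Agent.Lib.Helper20.U3CAHOM
import Cfsg.Agent.Lib.Helper8.U3SWAP

/-! S2148 market "U3", leaf BALPHA (helper20, twin): a subgroup `K ≤ PP` with `K ∩ QQ = 1` and
`|K| ≥ q^2 - 1` is a `QQ`-conjugate of `LL`. -/

set_option autoImplicit false

namespace Cfsg.Agent.Lib.Helper20.U3Leaf

open Cfsg.Agent.Lib.Helper12.U3 Cfsg.Agent.Lib.Helper18.PSUMod Cfsg.Agent.Lib.Helper5.HermBridge

noncomputable section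

variable {F : Type*} [Field F] [Fintype F] {q : ℕ} (hF : Fintype.card F = q ^ 2)

/-- two elements of `LL` with the same `ca` are equal -/
theorem eq_of_ca_eq_LL {l l' : GG hF} (hl : l ∈ LL hF) (hl' : l' ∈ LL hF) (h : ca l = ca l') :
    l = l' := by
  have h1 : caLL hF ⟨l, hl⟩ = caLL hF ⟨l', hl'⟩ := by
    apply Units.ext
    show ((caHom hF ⟨l, hl.1⟩ : Fˣ) : F) = ((caHom hF ⟨l', hl'.1⟩ : Fˣ) : F)
    rw [caHom_val, caHom_val]
    exact h
  exact congrArg Subtype.val (caLL_injective hF h1)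

/-- `LL` is commutative -/
theorem LL_comm {l l' : GG hF} (hl : l ∈ LL hF) (hl' : l' ∈ LL hF) : l * l' = l' * l := by
  apply eq_of_ca_eq_LL hF ((LL hF).mul_mem hl hl') ((LL hF).mul_mem hl' hl)
  rw [ca_mul' hl.1 hl'.1, ca_mul' hl'.1 hl.1, mul_comm]

theorem ca_EG (x : ↥(HS (frobHom hF) (barOK_frob hF).invol 1)) :
    ca (EG (barOK_frob hF).invol x) = 1 := by
  rw [ca, av_EG_ve]; simp [ve]

/-- an element of `LL` with regular `ca` acts fixed point freely on `QQ` -/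
theorem fpf_of_regular {l : GG hF} (hl : l ∈ LL hF) (h1 : ca l ^ (q + 1) ≠ 1)
    (h2 : ca l ^ (2 * q - 1) ≠ 1) {u : GG hF} (hu : u ∈ QQ hF) (hfix : l * u * l⁻¹ = u) : u = 1 := by
  have hB := barOK_frob hF
  set a := ca l with ha
  have ha0 : a ≠ 0 := ca_ne_zero hl.1
  have hba0 : frobHom hF a ≠ 0 := fun h => ha0 ((map_eq_zero (frobHom hF)).1 h)
  obtain ⟨l', hl', hav⟩ := Cfsg.Agent.Lib.Helper8.U3Leaf.exists_diagL hF ha0
  have hca' : ca l' = a := by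
    rw [ca, hav]; simp [ve]
  have hll : l = l' := eq_of_ca_eq_LL hF hl hl' (by rw [hca'])
  obtain ⟨x, rfl⟩ := hu
  rw [Le_conj hB.invol hl] at hfix
  have hx := congrArg (fun y : ↥(HS (frobHom hF) hB.invol 1) => (y : HP (frobHom hF) 1))
    (EG_injective hB.invol hfix)
  simp only at hx
  -- the coefficients
  have hcb : cb l = (frobHom hF a)⁻¹ := by
    rw [hll, cb, hav]; simp [vf]
  have hBof : ∀ w : Fin 1 → F, Bof (l : V F 1 ≃ₗ[F] V F 1) w = fun i => (frobHom hF a / a) * w i := by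
    intro w
    rw [Bof_apply]
    have : ((l : V F 1 ≃ₗ[F] V F 1) (vw w)) = av l (vw w) := rfl
    rw [this, hll, hav]
    simp [vw]
  have hq1 : a * frobHom hF a = a ^ (q + 1) := by rw [frob_apply, pow_succ]; ring
  have hq2 : frobHom hF a * (frobHom hF a / a) = a ^ (2 * q - 1) := by
    rw [frob_apply]
    have h3 : 2 * q - 1 + 1 = 2 * q := by
      have : 0 < q := by
        rcases Nat.eq_zero_or_pos q with h | h
        · exfalso
          rw [h] at hF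
          simp at hF
        · exact h
      omega
    have h4 : a ^ (2 * q - 1) * a = a ^ q * a ^ q := by
      rw [← pow_succ, h3, two_mul, pow_add]
    field_simp
    linear_combination -h4
  have hc : (x : HP (frobHom hF) 1).c = 0 := by
    have h3 := congrArg HP.c hx
    simp only [actL, hcb, inv_inv, ← ha] at h3
    rw [hq1] at h3
    have h4 : (a ^ (q + 1) - 1) * (x : HP (frobHom hF) 1).c = 0 := by linear_combination h3
    rcases mul_eq_zero.1 h4 with h | h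
    · exact absurd (sub_eq_zero.1 h) h1
    · exact h
  have hw : (x : HP (frobHom hF) 1).w = 0 := by
    have h3 := congrArg HP.w hx
    simp only [actL, hcb, inv_inv, hBof] at h3
    funext i
    have h5 := congrFun h3 i
    simp only [Pi.smul_apply, smul_eq_mul, Pi.zero_apply] at h5 ⊢
    rw [← mul_assoc, hq2] at h5
    have h4 : (a ^ (2 * q - 1) - 1) * (x : HP (frobHom hF) 1).w i = 0 := by linear_combination h5
    rcases mul_eq_zero.1 h4 with h | h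
    · exact absurd (sub_eq_zero.1 h) h2
    · exact h
  have hx1 : x = 1 := Subtype.ext (HP.ext hw hc)
  rw [hx1, map_one]

theorem borel_alpha (hq : 3 ≤ q) (K : Subgroup (GG hF)) (hK : K ≤ PP hF)
    (hD : K ⊓ QQ hF = ⊥) (hcard : q ^ 2 - 1 ≤ Nat.card K) :
    ∃ y ∈ QQ hF, cj y K = LL hF := by
  classical
  have hB := barOK_frob hF
  -- `ca` is injective on `K`
  let f : ↥K → Fˣ := fun k => caHom hF ⟨k.1, hK k.2⟩
  have hfinj : Function.Injective f := by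
    intro k k' hkk
    have h1 : caHom hF (⟨k.1, hK k.2⟩⁻¹ * ⟨k'.1, hK k'.2⟩) = 1 := by
      rw [map_mul, map_inv]
      show (f k)⁻¹ * f k' = 1
      rw [hkk, inv_mul_cancel]
    have h2 : (⟨k.1, hK k.2⟩⁻¹ * ⟨k'.1, hK k'.2⟩ : ↥(PP hF)) ∈ (caHom hF).ker := h1
    rw [caHom_ker, Subgroup.mem_subgroupOf] at h2
    have h3 : k.1⁻¹ * k'.1 ∈ K ⊓ QQ hF := ⟨K.mul_mem (K.inv_mem k.2) k'.2, h2⟩
    rw [hD, Subgroup.mem_bot] at h3
    apply Subtype.ext
    exact inv_mul_eq_one.1 h3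
  have hfbij : Function.Bijective f := by
    apply hfinj.bijective_of_nat_card_le
    rw [Nat.card_eq_fintype_card, Fintype.card_units, hF]
    exact hcard
  -- `K` is commutative
  have hKcomm : ∀ k ∈ K, ∀ k' ∈ K, k * k' = k' * k := by
    intro k hk k' hk'
    have h1 : f ⟨k * k', K.mul_mem hk hk'⟩ = f ⟨k' * k, K.mul_mem hk' hk⟩ := by
      show caHom hF (⟨k, hK hk⟩ * ⟨k', hK hk'⟩) = caHom hF (⟨k', hK hk'⟩ * ⟨k, hK hk⟩)
      rw [map_mul, map_mul, mul_comm]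
    exact congrArg Subtype.val (hfinj h1)
  -- a regular element
  obtain ⟨a, ha0, -, ha1, ha2⟩ := Cfsg.Agent.Lib.Helper8.U3Leaf.exists_regular hF hq
  obtain ⟨k, hk⟩ := hfbij.2 (Units.mk0 a ha0)
  have hcak : ca (k : GG hF) = a := by
    have := congrArg (fun u : Fˣ => (u : F)) hk
    simpa [f, caHom_val] using this
  obtain ⟨x₀, l₀, hl₀, hkl⟩ := Pe_decomp hB.invol (hK k.2)
  have hcal : ca l₀ = a := by
    have h3 : ca (k : GG hF) = ca (EG hB.invol x₀) * ca l₀ := by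
      rw [hkl]
      exact ca_mul' (Qe_le_Pe hB.invol ⟨x₀, rfl⟩) hl₀.1
    rw [hcak, ca_EG, one_mul] at h3
    exact h3.symm
  have hfpf : ∀ u ∈ QQ hF, l₀ * u * l₀⁻¹ = u → u = 1 := fun u hu hfix =>
    fpf_of_regular hF hl₀ (by rw [hcal]; exact ha1) (by rw [hcal]; exact ha2) hu hfix
  -- the map `y ↦ y⁻¹ (l₀ y l₀⁻¹)` on `QQ`
  let θ : ↥(QQ hF) → ↥(QQ hF) := fun y =>
    ⟨y.1⁻¹ * (l₀ * y.1 * l₀⁻¹),
      (QQ hF).mul_mem ((QQ hF).inv_mem y.2) (Pe_normalizes_Qe hB.invol hl₀.1 y.2)⟩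
  have hθinj : Function.Injective θ := by
    intro y z hyz
    have h1 : y.1⁻¹ * (l₀ * y.1 * l₀⁻¹) = z.1⁻¹ * (l₀ * z.1 * l₀⁻¹) := congrArg Subtype.val hyz
    have h2 : l₀ * (z.1 * y.1⁻¹) * l₀⁻¹ = z.1 * y.1⁻¹ := by
      have e1 : l₀ * (z.1 * y.1⁻¹) * l₀⁻¹ = (l₀ * z.1 * l₀⁻¹) * (l₀ * y.1 * l₀⁻¹)⁻¹ := by group
      have e2 : l₀ * z.1 * l₀⁻¹ = z.1 * (y.1⁻¹ * (l₀ * y.1 * l₀⁻¹)) := by rw [h1]; group
      rw [e1, e2]; group
    have h3 := hfpf _ ((QQ hF).mul_mem z.2 ((QQ hF).inv_mem y.2)) h2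
    apply Subtype.ext
    exact (mul_inv_eq_one.1 h3).symm
  have hθsurj : Function.Surjective θ := Finite.injective_iff_surjective.1 hθinj
  obtain ⟨y, hy⟩ := hθsurj ⟨EG hB.invol x₀, ⟨x₀, rfl⟩⟩
  have hy' : y.1⁻¹ * (l₀ * y.1 * l₀⁻¹) = EG hB.invol x₀ := congrArg Subtype.val hy
  -- `y k y⁻¹ = l₀`
  have hyk : y.1 * (k : GG hF) * y.1⁻¹ = l₀ := by
    rw [hkl, ← hy']; group
  refine ⟨y.1, y.2, ?_⟩
  have hl₀K : l₀ ∈ cj y.1 K := by
    rw [mem_cj, ← hyk]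
    have : y.1⁻¹ * (y.1 * (k : GG hF) * y.1⁻¹) * y.1 = (k : GG hF) := by group
    rw [this]; exact k.2
  have hle : cj y.1 K ≤ LL hF := by
    intro g hg
    have hg' : y.1⁻¹ * g * y.1 ∈ K := mem_cj.1 hg
    have hgP : g ∈ PP hF := by
      have h1 := (PP hF).mul_mem ((PP hF).mul_mem (Qe_le_Pe hB.invol y.2) (hK hg'))
        ((PP hF).inv_mem (Qe_le_Pe hB.invol y.2))
      have : y.1 * (y.1⁻¹ * g * y.1) * y.1⁻¹ = g := by group
      rwa [this] at h1
    -- `g` commutes with `l₀`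
    have hcomm : l₀ * g = g * l₀ := by
      have h1 := hKcomm _ k.2 _ hg'
      have e1 : l₀ * g = y.1 * ((k : GG hF) * (y.1⁻¹ * g * y.1)) * y.1⁻¹ := by
        rw [← hyk]; group
      have e2 : g * l₀ = y.1 * ((y.1⁻¹ * g * y.1) * (k : GG hF)) * y.1⁻¹ := by
        rw [← hyk]; group
      rw [e1, e2, h1]
    obtain ⟨x₁, l₁, hl₁, hgl⟩ := Pe_decomp hB.invol hgP
    have hfix : l₀ * EG hB.invol x₁ * l₀⁻¹ = EG hB.invol x₁ := by
      have h1 : l₀ * (EG hB.invol x₁ * l₁) = EG hB.invol x₁ * l₁ * l₀ := by rw [← hgl]; exact hcomm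
      have h2 : l₁ * l₀ = l₀ * l₁ := LL_comm hF hl₁ hl₀
      have h3 : l₀ * EG hB.invol x₁ * l₁ = EG hB.invol x₁ * l₀ * l₁ := by
        rw [mul_assoc, h1, mul_assoc, h2, ← mul_assoc]
      have h4 : l₀ * EG hB.invol x₁ = EG hB.invol x₁ * l₀ := mul_right_cancel h3
      rw [h4]; group
    have h5 := hfpf _ ⟨x₁, rfl⟩ hfix
    rw [h5, one_mul] at hgl
    rw [hgl]; exact hl₁
  apply Subgroup.eq_of_le_of_card_ge hle
  have hcj : Nat.card (cj y.1 K) = Nat.card K :=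
    Subgroup.card_map_of_injective (MulAut.conj y.1).injective
  rw [hcj, card_LL hF]
  exact hcard

end

end Cfsg.Agent.Lib.Helper20.U3Leaf
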