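import Mathlib
import Cfsg.Prelude.Def_Classical
import Cfsg.Prelude.Def_ClassicalGeometry
import Cfsg.Prelude.Def_GeometricClasses
import Cfsg.Agent.Lib.Helper5.SUMax
import Cfsg.Agent.Lib.Helper22.C3LDefs
import Cfsg.Agent.Lib.Helper22.C3LTool
import Cfsg.Agent.Lib.Helper16.C3uDefs

/-!
Unitary C3 (cubic field) leaf C3uL0 (`exists_KU`, planner helper16, `notes/C3u_leaves.lean`): the `E`-structure
from the frozen hypotheses, `E := ↥K` with the field structure given by `hK`, `st` := the adjoint (conjugate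
transpose), `τ k := k i₀ i₀`, `fE` by finite-dimensional duality (pattern: helper7's `C3sL0.exists_KS`).
-/

set_option autoImplicit false
set_option linter.unusedSectionVars false
set_option linter.unusedVariables false

namespace Cfsg.Agent.Lib.Helper20.C3uLeaf
open Cfsg Matrix Module Cfsg.Agent.Lib.Helper5.SpMax Cfsg.Agent.Lib.Helper5.SUMax
  Cfsg.Agent.Lib.Helper22.C3L Cfsg.Agent.Lib.Helper16.C3u

universe u
variable {F : Type u} [Field F] [Fintype F] {n q : ℕ}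

local notation "𝕍" => (Fin n → F)
local notation "𝕄" => Matrix (Fin n) (Fin n) F

/-- the conjugate transpose for `x ↦ x^q` -/
def l0uStar (q : ℕ) (A : 𝕄) : 𝕄 := fun i j => (A j i) ^ q

lemma l0uStar_apply (A : 𝕄) (i j : Fin n) : l0uStar q A i j = (A j i) ^ q := rfl

lemma l0u_form_single_right (hq : 2 ≤ q) (u : 𝕍) (i : Fin n) :
    Cfsg.hermForm n F q u (Pi.single i 1) = u i := by
  unfold Cfsg.hermForm
  rw [Finset.sum_eq_single i]
  · rw [Pi.single_eq_same, one_pow, mul_one]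
  · intro j _ hji
    rw [Pi.single_eq_of_ne hji, zero_pow (by omega), mul_zero]
  · intro h; exact absurd (Finset.mem_univ i) h

lemma l0u_form_single_left (v : 𝕍) (j : Fin n) :
    Cfsg.hermForm n F q (Pi.single j 1) v = (v j) ^ q := by
  unfold Cfsg.hermForm
  rw [Finset.sum_eq_single j]
  · rw [Pi.single_eq_same, one_mul]
  · intro i _ hij
    rw [Pi.single_eq_of_ne hij, zero_mul]
  · intro h; exact absurd (Finset.mem_univ j) h

/-- an adjoint for the hermitian form is the conjugate transpose -/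
lemma l0u_adj_eq (hF : Fintype.card F = q ^ 2) {k k' : 𝕄}
    (h : ∀ u v : 𝕍, Cfsg.hermForm n F q (k *ᵥ u) v = Cfsg.hermForm n F q u (k' *ᵥ v)) :
    k' = l0uStar q k := by
  classical
  have hq := Cfsg.Agent.Lib.Helper14.herm_two_le hF
  ext j i
  have h1 := h (Pi.single j 1) (Pi.single i 1)
  rw [l0u_form_single_right hq, l0u_form_single_left] at h1
  simp only [Matrix.mulVec_single_one, Matrix.col_apply] at h1
  rw [l0uStar_apply, h1, Cfsg.Agent.Lib.Helper5.HermBridge.pow_q_pow_q hF]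

lemma l0uStar_mul (hF : Fintype.card F = q ^ 2) (A B : 𝕄) :
    l0uStar q (A * B) = l0uStar q B * l0uStar q A := by
  classical
  ext i j
  simp only [l0uStar_apply, Matrix.mul_apply]
  rw [Cfsg.Agent.Lib.Helper14.herm_sum_pow hF]
  apply Finset.sum_congr rfl
  intro l _
  rw [mul_pow, mul_comm]

lemma l0uStar_add (hF : Fintype.card F = q ^ 2) (A B : 𝕄) :
    l0uStar q (A + B) = l0uStar q A + l0uStar q B := by
  classical
  ext i j
  simp only [l0uStar_apply, Matrix.add_apply]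
  rw [Cfsg.Agent.Lib.Helper14.herm_add_pow hF]

lemma l0uStar_star (hF : Fintype.card F = q ^ 2) (A : 𝕄) : l0uStar q (l0uStar q A) = A := by
  ext i j
  simp only [l0uStar_apply]
  rw [Cfsg.Agent.Lib.Helper5.HermBridge.pow_q_pow_q hF]

lemma l0uStar_algebraMap (hF : Fintype.card F = q ^ 2) (c : F) :
    l0uStar q (algebraMap F 𝕄 c) = algebraMap F 𝕄 (c ^ q) := by
  classical
  have hq := Cfsg.Agent.Lib.Helper14.herm_two_le hF
  ext i j
  simp only [l0uStar_apply, Matrix.algebraMap_matrix_apply]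
  by_cases hij : i = j
  · subst hij
    simp
  · rw [if_neg hij, if_neg (fun h => hij h.symm), zero_pow (by omega)]

/-- `K` is closed under the conjugate transpose, which is the adjoint -/
lemma l0uStar_mem (hF : Fintype.card F = q ^ 2) (K : Subalgebra F 𝕄)
    (hac : Cfsg.Geo.IsAdjointClosedFor (Cfsg.hermForm n F q) K) {k : 𝕄} (hk : k ∈ K) :
    l0uStar q k ∈ K ∧ ∀ u v : 𝕍, Cfsg.hermForm n F q (k *ᵥ u) v =
      Cfsg.hermForm n F q u (l0uStar q k *ᵥ v) := by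
  obtain ⟨k', hk', h⟩ := hac k hk
  have := l0u_adj_eq hF h
  subst this
  exact ⟨hk', h⟩

/-- the involution of `K` -/
def l0uSt (hF : Fintype.card F = q ^ 2) (r : ℕ) (K : Subalgebra F 𝕄)
    (hK : Cfsg.Geo.IsFieldSubalgebra r K)
    (hac : Cfsg.Geo.IsAdjointClosedFor (Cfsg.hermForm n F q) K) : ↥K ≃+* ↥K where
  toFun k := ⟨l0uStar q (k : 𝕄), (l0uStar_mem hF K hac k.2).1⟩
  invFun k := ⟨l0uStar q (k : 𝕄), (l0uStar_mem hF K hac k.2).1⟩
  left_inv k := Subtype.ext (l0uStar_star hF _)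
  right_inv k := Subtype.ext (l0uStar_star hF _)
  map_mul' a b := by
    apply Subtype.ext
    show l0uStar q ((a : 𝕄) * (b : 𝕄)) = l0uStar q (a : 𝕄) * l0uStar q (b : 𝕄)
    rw [l0uStar_mul hF]
    exact hK.comm _ (l0uStar_mem hF K hac b.2).1 _ (l0uStar_mem hF K hac a.2).1
  map_add' a b := by
    apply Subtype.ext
    show l0uStar q ((a : 𝕄) + (b : 𝕄)) = l0uStar q (a : 𝕄) + l0uStar q (b : 𝕄)
    exact l0uStar_add hF _ _

lemma l0uSt_val (hF : Fintype.card F = q ^ 2) (r : ℕ) (K : Subalgebra F 𝕄)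
    (hK : Cfsg.Geo.IsFieldSubalgebra r K)
    (hac : Cfsg.Geo.IsAdjointClosedFor (Cfsg.hermForm n F q) K) (k : ↥K) :
    ((l0uSt hF r K hK hac k : ↥K) : 𝕄) = l0uStar q (k : 𝕄) := rfl

/-- the trace-like functional: a diagonal entry -/
def l0uTau (K : Subalgebra F 𝕄) (i₀ : Fin n) : ↥K →ₗ[F] F where
  toFun k := (k : 𝕄) i₀ i₀
  map_add' a b := rfl
  map_smul' c a := rfl

/-- the functional `k ↦ f (k x, y)` -/
def l0uPhi (K : Subalgebra F 𝕄) (x y : 𝕍) : ↥K →ₗ[F] F where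
  toFun k := Cfsg.hermForm n F q ((k : 𝕄) *ᵥ x) y
  map_add' a b := by
    show Cfsg.hermForm n F q (((a : 𝕄) + (b : 𝕄)) *ᵥ x) y = _
    rw [Matrix.add_mulVec, Cfsg.Agent.Lib.Helper14.hermForm_add_left]
  map_smul' c a := by
    show Cfsg.hermForm n F q ((c • (a : 𝕄)) *ᵥ x) y = _
    rw [Matrix.smul_mulVec, Cfsg.Agent.Lib.Helper14.hermForm_smul_left]
    rfl

/-- the pairing `b ↦ (k ↦ τ (k * b))` -/
def l0uPsi (K : Subalgebra F 𝕄) (i₀ : Fin n) : ↥K →ₗ[F] (↥K →ₗ[F] F) :=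
  ((LinearMap.mul F ↥K).flip).compr₂ (l0uTau K i₀)

lemma l0uPsi_apply (K : Subalgebra F 𝕄) (i₀ : Fin n) (b k : ↥K) :
    l0uPsi K i₀ b k = l0uTau K i₀ (k * b) := rfl

lemma l0uPsi_injective (r : ℕ) (K : Subalgebra F 𝕄) (hK : Cfsg.Geo.IsFieldSubalgebra r K)
    (i₀ : Fin n) : Function.Injective (l0uPsi K i₀) := by
  rw [← LinearMap.ker_eq_bot, LinearMap.ker_eq_bot']
  intro b hb
  by_contra hb0
  have hb0' : (b : 𝕄) ≠ 0 := fun h => hb0 (Subtype.ext h)
  obtain ⟨y, hyK, hy⟩ := hK.inv (b : 𝕄) b.2 hb0'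
  have h1 := congrArg (fun φ : ↥K →ₗ[F] F => φ ⟨y, hyK⟩) hb
  simp only [LinearMap.zero_apply] at h1
  rw [l0uPsi_apply] at h1
  have h2 : ((⟨y, hyK⟩ : ↥K) * b : ↥K) = 1 := by
    apply Subtype.ext
    show y * (b : 𝕄) = 1
    rw [← hK.comm (b : 𝕄) b.2 y hyK, hy]
  rw [h2] at h1
  have h3 : l0uTau K i₀ (1 : ↥K) = 1 := by
    show ((1 : 𝕄)) i₀ i₀ = 1
    exact Matrix.one_apply_eq i₀
  rw [h3] at h1
  exact one_ne_zero h1

lemma l0uPsi_surjective (r : ℕ) (K : Subalgebra F 𝕄) (hK : Cfsg.Geo.IsFieldSubalgebra r K)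
    (i₀ : Fin n) : Function.Surjective (l0uPsi K i₀) := by
  have hfin : finrank F ↥K = finrank F (↥K →ₗ[F] F) := (Subspace.dual_finrank_eq).symm
  exact (LinearMap.injective_iff_surjective_of_finrank_eq_finrank hfin).mp
    (l0uPsi_injective r K hK i₀)

lemma l0u_core (hF : Fintype.card F = q ^ 2) (hn : 0 < n) (r : ℕ) (K : Subalgebra F 𝕄)
    (hK : Cfsg.Geo.IsFieldSubalgebra r K)
    (hac : Cfsg.Geo.IsAdjointClosedFor (Cfsg.hermForm n F q) K) :
    ∃ (τ : ↥K →ₗ[F] F) (fE : 𝕍 → 𝕍 → ↥K),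
      (∀ e, τ (l0uSt hF r K hK hac e) = (τ e) ^ q) ∧
      (∀ x y z, fE (x + y) z = fE x z + fE y z) ∧
      (∀ (e : ↥K) x y, fE ((e : 𝕄) *ᵥ x) y = e * fE x y) ∧
      (∀ x y, fE y x = l0uSt hF r K hK hac (fE x y)) ∧
      (∀ (e : ↥K) x y, Cfsg.hermForm n F q ((e : 𝕄) *ᵥ x) y = τ (e * fE x y)) := by
  classical
  obtain ⟨i₀⟩ : Nonempty (Fin n) := ⟨⟨0, hn⟩⟩
  have hinj := l0uPsi_injective r K hK i₀
  have hsurj := l0uPsi_surjective r K hK i₀
  choose fE hfE using fun x y : 𝕍 => hsurj (l0uPhi (q := q) K x y)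
  have spec : ∀ (x y : 𝕍) (k : ↥K),
      l0uTau K i₀ (k * fE x y) = Cfsg.hermForm n F q ((k : 𝕄) *ᵥ x) y := by
    intro x y k
    have := congrArg (fun φ : ↥K →ₗ[F] F => φ k) (hfE x y)
    exact this
  have hτst : ∀ e : ↥K, l0uTau K i₀ (l0uSt hF r K hK hac e) = (l0uTau K i₀ e) ^ q := by
    intro e
    rfl
  refine ⟨l0uTau K i₀, fE, hτst, ?_, ?_, ?_, ?_⟩
  · intro x y z
    apply hinj
    apply LinearMap.ext
    intro k
    rw [map_add, LinearMap.add_apply, l0uPsi_apply, l0uPsi_apply, l0uPsi_apply, spec, spec, spec,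
      Matrix.mulVec_add, Cfsg.Agent.Lib.Helper14.hermForm_add_left]
  · intro e x y
    apply hinj
    apply LinearMap.ext
    intro k
    rw [l0uPsi_apply, l0uPsi_apply, spec, ← mul_assoc, spec, Matrix.mulVec_mulVec]
    rfl
  · intro x y
    apply hinj
    apply LinearMap.ext
    intro k
    rw [l0uPsi_apply, l0uPsi_apply, spec]
    -- `τ (k * st b) = τ (st (st k * b)) = (τ (st k * b))^q = f((st k) x, y)^q = f(y, (st k) x) = f(k y, x)`
    have h1 : k * l0uSt hF r K hK hac (fE x y) =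
        l0uSt hF r K hK hac (l0uSt hF r K hK hac k * fE x y) := by
      rw [map_mul]
      congr 1
      exact (Subtype.ext (l0uStar_star hF _)).symm
    rw [h1, hτst, spec, Cfsg.Agent.Lib.Helper14.hermForm_conj hF, l0uSt_val]
    exact (l0uStar_mem hF K hac k.2).2 y x
  · intro e x y
    rw [spec]

theorem exists_KU (hF : Fintype.card F = q ^ 2) (hn : 0 < n) (r : ℕ)
    (K : Subalgebra F 𝕄) (hK : Cfsg.Geo.IsFieldSubalgebra r K)
    (hac : Cfsg.Geo.IsAdjointClosedFor (Cfsg.hermForm n F q) K) :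
    ∃ (E : Type u) (_ : Field E) (_ : Algebra F E) (S : KU n q F E),
      S.ρ.range = K ∧ finrank F E = r := by
  classical
  obtain ⟨τ, fE, h1, h2, h3, h4, h5⟩ := l0u_core hF hn r K hK hac
  have hnt : (1 : 𝕄) ≠ 0 := by
    intro h
    have := congrFun (congrFun h ⟨0, hn⟩) ⟨0, hn⟩
    rw [Matrix.one_apply_eq, Matrix.zero_apply] at this
    exact one_ne_zero this
  have hFd : IsField ↥K :=
    { exists_pair_ne := ⟨0, 1, fun h => hnt (congrArg Subtype.val h).symm⟩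
      mul_comm := fun x y => Subtype.ext (hK.comm (x : 𝕄) x.2 (y : 𝕄) y.2)
      mul_inv_cancel := fun {a} ha => by
        have ha' : (a : 𝕄) ≠ 0 := fun h => ha (Subtype.ext h)
        obtain ⟨y, hyK, hy⟩ := hK.inv (a : 𝕄) a.2 ha'
        exact ⟨⟨y, hyK⟩, Subtype.ext hy⟩ }
  let instF : Field ↥K := hFd.toField
  refine ⟨↥K, instF, K.algebra, ?_⟩
  have hstst : ∀ e : ↥K, l0uSt hF r K hK hac (l0uSt hF r K hK hac e) = e :=
    fun e => Subtype.ext (l0uStar_star hF _)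
  have hstalg : ∀ c : F, l0uSt hF r K hK hac (algebraMap F ↥K c) = algebraMap F ↥K (c ^ q) := by
    intro c
    apply Subtype.ext
    exact l0uStar_algebraMap hF c
  refine ⟨@KU.mk n q F _ ↥K instF K.algebra K.val (l0uSt hF r K hK hac) hstst hstalg τ h1 fE h2 h3 h4
    h5, ?_, ?_⟩
  · exact Subalgebra.range_val K
  · exact hK.finrank_eq

end Cfsg.Agent.Lib.Helper20.C3uLeaf
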