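import Mathlib
import Cfsg.Prelude.Def_ClassicalGeometry
import Cfsg.Prelude.Def_GeometricClasses
import Cfsg.Agent.Lib.Helper19.OSubDefs
import Cfsg.Agent.Lib.Helper19.OSubBasic

/-!
S5683 / S5702 (helper19 market), leaf DEC `rt_list_prod`.
-/

set_option autoImplicit false
set_option linter.unusedSectionVars false
set_option linter.unusedVariables false

namespace Cfsg.Agent.Lib.Helper20.OSubLeaf
open Cfsg Matrix QuadraticMap Module Cfsg.Agent.Lib.Helper25.Siegel Cfsg.Agent.Lib.Helper19.OSub
open scoped commutatorElement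

variable {ι : Type} [Fintype ι] [DecidableEq ι] {F : Type*} [Field F] [Fintype F]
  {F₀ : Subfield F} {Q : QuadraticForm F (ι → F)} {M : Subgroup (GL ι F)}

/-- the Eichler transformation with singular centre `a` and direction `b ⊥ a` -/
def eich (Q : QuadraticForm F (ι → F)) (a b x : ι → F) : ι → F :=
  x + polar Q a x • b - polar Q b x • a - (Q b * polar Q a x) • a

lemma eich_eich {a b b' : ι → F} (hQa : Q a = 0) (hab : polar Q a b = 0)
    (hab' : polar Q a b' = 0) (x : ι → F) :
    eich Q a b (eich Q a b' x) = eich Q a (b + b') x := by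
  have haa : polar Q a a = 0 := polar_self_sing hQa
  have hba : polar Q b a = 0 := by rw [polar_comm]; exact hab
  have h1 : polar Q a (eich Q a b' x) = polar Q a x := by
    unfold eich
    rw [polar_sub_right, polar_sub_right, polar_add_right, polar_smul_right, polar_smul_right,
      polar_smul_right, hab', haa, smul_zero, smul_zero, smul_zero, add_zero, sub_zero, sub_zero]
  have h2 : polar Q b (eich Q a b' x) = polar Q b x + polar Q a x * polar Q b b' := by
    unfold eich
    rw [polar_sub_right, polar_sub_right, polar_add_right, polar_smul_right, polar_smul_right,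
      polar_smul_right, hba, smul_zero, smul_zero, sub_zero, sub_zero, smul_eq_mul]
  have h3 : Q (b + b') = Q b + Q b' + polar Q b b' := Cfsg.Agent.Lib.Helper25.MaxTS.Q_add b b'
  have h4 : eich Q a b (eich Q a b' x) = eich Q a b' x + polar Q a (eich Q a b' x) • b
      - polar Q b (eich Q a b' x) • a - (Q b * polar Q a (eich Q a b' x)) • a := rfl
  rw [h4, h1, h2]
  unfold eich
  rw [h3, polar_add_left]
  module

lemma mv_rt_eich {a p : ι → F} (hQa : Q a = 0) (hQp : Q p = 0) (hap : polar Q a p = 0) (c : F)
    (x : ι → F) : mv (rt Q a p c) x = eich Q a (c • p) x := by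
  rw [mv_rt hQa hQp hap]
  unfold eich
  rw [QuadraticMap.map_smul, hQp, polar_smul_left]
  simp only [smul_eq_mul, mul_zero, zero_mul, zero_smul, sub_zero]
  module

lemma eich_add_smul_self {a b : ι → F} (hQa : Q a = 0) (hab : polar Q a b = 0) (θ : F)
    (x : ι → F) : eich Q a (b + θ • a) x = eich Q a b x := by
  have hba : polar Q b a = 0 := by rw [polar_comm]; exact hab
  unfold eich
  rw [Cfsg.Agent.Lib.Helper25.MaxTS.Q_add_smul, hQa, hba, polar_add_left, polar_smul_left]
  simp only [smul_eq_mul, mul_zero, add_zero]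
  module

lemma polar_list_sum {a : ι → F} (l : List ((ι → F) × F))
    (hl : ∀ p ∈ l, Q p.1 = 0 ∧ polar Q a p.1 = 0) :
    polar Q a (l.map (fun p => p.2 • p.1)).sum = 0 := by
  induction l with
  | nil => simp
  | cons p l ih =>
    rw [List.map_cons, List.sum_cons, polar_add_right, polar_smul_right,
      (hl p List.mem_cons_self).2, smul_zero, zero_add]
    exact ih (fun q hq => hl q (List.mem_cons_of_mem p hq))

lemma mv_list_prod {a : ι → F} (hQa : Q a = 0) (l : List ((ι → F) × F))
    (hl : ∀ p ∈ l, Q p.1 = 0 ∧ polar Q a p.1 = 0) (x : ι → F) :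
    mv (l.map (fun p => rt Q a p.1 p.2)).prod x = eich Q a (l.map (fun p => p.2 • p.1)).sum x := by
  induction l generalizing x with
  | nil =>
    simp only [List.map_nil, List.prod_nil, List.sum_nil]
    rw [mv_one]
    unfold eich
    simp
  | cons p l ih =>
    have hl' : ∀ q ∈ l, Q q.1 = 0 ∧ polar Q a q.1 = 0 :=
      fun q hq => hl q (List.mem_cons_of_mem p hq)
    have hp := hl p List.mem_cons_self
    rw [List.map_cons, List.prod_cons, mv_mul, ih hl', mv_rt_eich hQa hp.1 hp.2, List.map_cons,
      List.sum_cons]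
    refine eich_eich hQa ?_ (polar_list_sum l hl') _
    rw [polar_smul_right, hp.2, smul_zero]

/-- DEC: a product of root elements with the same singular centre `a` -/
theorem rt_list_prod {a : ι → F} (hQa : Q a = 0) (l : List ((ι → F) × F))
    (hl : ∀ p ∈ l, Q p.1 = 0 ∧ polar Q a p.1 = 0) {v : ι → F} (hQv : Q v = 0)
    (hav : polar Q a v = 0) {θ : F} (hv : v = (l.map (fun p => p.2 • p.1)).sum + θ • a) :
    rt Q a v 1 = (l.map (fun p => rt Q a p.1 p.2)).prod := by
  apply gl_ext
  intro x
  rw [mv_list_prod hQa l hl, mv_rt_eich hQa hQv hav, one_smul, hv,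
    eich_add_smul_self hQa (polar_list_sum l hl)]

end Cfsg.Agent.Lib.Helper20.OSubLeaf
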