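import Mathlib

set_option autoImplicit false

/-!
# The `1 + ξ` trick for cyclic groups regular on involutions

`P` a finite group, `K ≤ Aut P` cyclic and regular on the involutions of `P`, which are
central and at least two in number.  If `π` is a bimultiplicative `K`-equivariant pairing on
`DX × DY` with values of square one, factoring through equivariant homomorphisms `fX`, `fY` to
the involutions, and vanishing on the "diagonal" `fX x = fY y`, then `π` vanishes.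
-/

namespace Cfsg.Agent.Lib.Helper20.SuzTwist

variable {P : Type*} [Group P]

/-- Products of central elements of square one have square one. -/
theorem sq_mul_of_central (hcen : ∀ x : P, x * x = 1 → ∀ y, x * y = y * x)
    (u v : P) (hu : u * u = 1) (hv : v * v = 1) : (u * v) * (u * v) = 1 := by
  calc u * v * (u * v) = u * (v * u) * v := by group
    _ = u * (u * v) * v := by rw [← hcen u hu v]
    _ = (u * u) * (v * v) := by group
    _ = 1 := by rw [hu, hv, one_mul]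

/-- Every element of a finite cyclic `K ≤ Aut P` is a natural power of a fixed `ξ ∈ K`. -/
theorem exists_gen [Finite P] (K : Subgroup (MulAut P)) (hcyc : IsCyclic K) :
    ∃ ξ ∈ K, ∀ φ ∈ K, ∃ m : ℕ, φ = ξ ^ m := by
  obtain ⟨ξ, hξ⟩ := IsCyclic.exists_monoid_generator (α := K)
  refine ⟨(ξ : MulAut P), ξ.2, ?_⟩
  intro φ hφ
  obtain ⟨m, hm⟩ := hξ ⟨φ, hφ⟩
  refine ⟨m, ?_⟩
  have h0 : ((ξ ^ m : K) : MulAut P) = φ := congrArg Subtype.val hm
  rw [← h0]
  simp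

theorem twist_vanish [Finite P] (K : Subgroup (MulAut P)) (hcyc : IsCyclic K)
    (hreg : ∀ x y : P, x ≠ 1 → x * x = 1 → y ≠ 1 → y * y = 1 →
      ∃! k : K, (k : MulAut P) x = y)
    (hcen : ∀ x : P, x * x = 1 → ∀ y, x * y = y * x)
    (h2 : ∃ x y : P, x ≠ y ∧ x ≠ 1 ∧ x * x = 1 ∧ y ≠ 1 ∧ y * y = 1)
    (DX DY : Subgroup P)
    (hDX : ∀ φ ∈ K, ∀ x ∈ DX, φ x ∈ DX) (hDY : ∀ φ ∈ K, ∀ y ∈ DY, φ y ∈ DY)
    (fX fY : P → P) (π : P → P → P)
    (hfX2 : ∀ x ∈ DX, fX x * fX x = 1)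
    (hfXm : ∀ x ∈ DX, ∀ x' ∈ DX, fX (x * x') = fX x * fX x')
    (hfXe : ∀ φ ∈ K, ∀ x ∈ DX, fX (φ x) = φ (fX x))
    (hfY2 : ∀ y ∈ DY, fY y * fY y = 1)
    (hfYm : ∀ y ∈ DY, ∀ y' ∈ DY, fY (y * y') = fY y * fY y')
    (hfYe : ∀ φ ∈ K, ∀ y ∈ DY, fY (φ y) = φ (fY y))
    (hπ2 : ∀ x ∈ DX, ∀ y ∈ DY, π x y * π x y = 1)
    (hπl : ∀ x ∈ DX, ∀ x' ∈ DX, ∀ y ∈ DY, π (x * x') y = π x y * π x' y)
    (hπr : ∀ x ∈ DX, ∀ y ∈ DY, ∀ y' ∈ DY, π x (y * y') = π x y * π x y')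
    (hπe : ∀ φ ∈ K, ∀ x ∈ DX, ∀ y ∈ DY, π (φ x) (φ y) = φ (π x y))
    (hπX : ∀ x ∈ DX, ∀ y ∈ DY, fX x = 1 → π x y = 1)
    (hπY : ∀ x ∈ DX, ∀ y ∈ DY, fY y = 1 → π x y = 1)
    (hdiag : ∀ x ∈ DX, ∀ y ∈ DY, fX x = fY y → π x y = 1) :
    ∀ x ∈ DX, ∀ y ∈ DY, π x y = 1 := by
  obtain ⟨ξ, hξK, hgen⟩ := exists_gen K hcyc
  -- commutativity of `K`
  have hcomm : ∀ φ ∈ K, ∀ ψ ∈ K, ∀ p : P, φ (ψ p) = ψ (φ p) := by
    intro φ hφ ψ hψ p
    obtain ⟨m, rfl⟩ := hgen φ hφ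
    obtain ⟨m', rfl⟩ := hgen ψ hψ
    have h := (Commute.refl ξ).pow_pow m m'
    have h' : (ξ ^ m * ξ ^ m') p = (ξ ^ m' * ξ ^ m) p := by rw [h.eq]
    simpa [MulAut.mul_apply] using h'
  -- `ξ` moves every involution
  have hmove : ∀ w : P, w ≠ 1 → w * w = 1 → ξ w ≠ w := by
    intro w hw1 hw2 hfix
    obtain ⟨x, y, hxy, hx1, hx2, hy1, hy2⟩ := h2
    obtain ⟨k0, -, huniq⟩ := hreg w w hw1 hw2 hw1 hw2
    have e1 : (⟨ξ, hξK⟩ : K) = k0 := huniq ⟨ξ, hξK⟩ hfix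
    have e2 : (1 : K) = k0 := huniq 1 (by simp)
    have hξ1 : ξ = 1 := by
      have := congrArg Subtype.val (e1.trans e2.symm)
      simpa using this
    have hall : ∀ φ ∈ K, φ = 1 := by
      intro φ hφ
      obtain ⟨m, rfl⟩ := hgen φ hφ
      rw [hξ1, one_pow]
    obtain ⟨k, hk, -⟩ := hreg x y hx1 hx2 hy1 hy2
    have hk1 := hall k k.2
    rw [hk1] at hk
    exact hxy (by simpa using hk)
  -- the element `η = 1 + ξ`
  obtain ⟨η, hηK, hηw⟩ : ∃ η ∈ K, ∀ w : P, w * w = 1 → w * ξ w = η w := by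
    obtain ⟨w0, -, -, hw01, hw02, -, -⟩ := h2
    have h1 : ξ w0 * ξ w0 = 1 := by rw [← map_mul, hw02, map_one]
    have h2' : w0 * ξ w0 ≠ 1 := by
      intro h
      apply hmove w0 hw01 hw02
      have e : ξ w0 = w0⁻¹ := eq_inv_of_mul_eq_one_right h
      rw [e]
      exact inv_eq_of_mul_eq_one_left hw02
    obtain ⟨η, hη, -⟩ := hreg w0 (w0 * ξ w0) hw01 hw02 h2' (sq_mul_of_central hcen _ _ hw02 h1)
    refine ⟨η, η.2, ?_⟩
    intro w hw
    by_cases hw1 : w = 1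
    · subst hw1
      simp
    obtain ⟨k, hk, -⟩ := hreg w0 w hw01 hw02 hw1 hw
    rw [← hk, hcomm ξ hξK k k.2 w0, ← map_mul, ← hη, hcomm (η : MulAut P) η.2 k k.2 w0]
  -- replacing `x * ξ x` by `η x`
  have hX : ∀ x ∈ DX, ∀ y ∈ DY, π (x * ξ x) y = π (η x) y := by
    intro x hx y hy
    have hx' := hDX ξ hξK x hx
    have hηx := hDX η hηK x hx
    have hgD : (x * ξ x) * (η x)⁻¹ ∈ DX := mul_mem (mul_mem hx hx') (inv_mem hηx)
    have hgm : (x * ξ x) * (η x)⁻¹ * η x = x * ξ x := by group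
    have hfg : fX ((x * ξ x) * (η x)⁻¹) = 1 := by
      have e1 : fX (x * ξ x) = fX ((x * ξ x) * (η x)⁻¹) * fX (η x) := by
        rw [← hfXm _ hgD (η x) hηx, hgm]
      have e2 : fX (x * ξ x) = fX (η x) := by
        rw [hfXm x hx _ hx', hfXe ξ hξK x hx, hfXe η hηK x hx, hηw _ (hfX2 x hx)]
      rw [e2] at e1
      exact mul_eq_right.mp e1.symm
    have h3 := hπl _ hgD (η x) hηx y hy
    rw [hgm] at h3
    rw [h3, hπX _ hgD y hy hfg, one_mul]
  have hY : ∀ x ∈ DX, ∀ y ∈ DY, π x (y * ξ y) = π x (η y) := by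
    intro x hx y hy
    have hy' := hDY ξ hξK y hy
    have hηy := hDY η hηK y hy
    have hgD : (y * ξ y) * (η y)⁻¹ ∈ DY := mul_mem (mul_mem hy hy') (inv_mem hηy)
    have hgm : (y * ξ y) * (η y)⁻¹ * η y = y * ξ y := by group
    have hfg : fY ((y * ξ y) * (η y)⁻¹) = 1 := by
      have e1 : fY (y * ξ y) = fY ((y * ξ y) * (η y)⁻¹) * fY (η y) := by
        rw [← hfYm _ hgD (η y) hηy, hgm]
      have e2 : fY (y * ξ y) = fY (η y) := by
        rw [hfYm y hy _ hy', hfYe ξ hξK y hy, hfYe η hηK y hy, hηw _ (hfY2 y hy)]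
      rw [e2] at e1
      exact mul_eq_right.mp e1.symm
    have h3 := hπr x hx _ hgD (η y) hηy
    rw [hgm] at h3
    rw [h3, hπY x hx _ hgD hfg, one_mul]
  -- `ξ` is self-adjoint
  have hadj : ∀ x ∈ DX, ∀ y ∈ DY, π x (ξ y) = π (ξ x) y := by
    intro x hx y hy
    have hx' := hDX ξ hξK x hx
    have hy' := hDY ξ hξK y hy
    have E1 : π (η x) (η y) = π x y * ξ (π x y) := by
      rw [hπe η hηK x hx y hy, ← hηw _ (hπ2 x hx y hy)]
    have E2 : π (η x) (η y) = π x y * π x (ξ y) * (π (ξ x) y * ξ (π x y)) := by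
      rw [← hX x hx (η y) (hDY η hηK y hy), ← hY (x * ξ x) (mul_mem hx hx') y hy,
        hπl x hx _ hx' _ (mul_mem hy hy'), hπr x hx y hy _ hy', hπr _ hx' y hy _ hy',
        hπe ξ hξK x hx y hy]
    rw [E1, mul_assoc (π x y), mul_right_inj] at E2
    -- `E2 : ξ (π x y) = π x (ξ y) * (π (ξ x) y * ξ (π x y))`
    have E3 : π x (ξ y) * π (ξ x) y = 1 := by
      rw [← mul_assoc] at E2
      exact mul_eq_right.mp E2.symm
    have E4 := hπ2 _ hx' y hy
    -- b * c = 1, c * c = 1 ⇒ b = c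
    calc π x (ξ y) = π x (ξ y) * (π (ξ x) y * π (ξ x) y) := by rw [E4, mul_one]
      _ = (π x (ξ y) * π (ξ x) y) * π (ξ x) y := by rw [mul_assoc]
      _ = π (ξ x) y := by rw [E3, one_mul]
  have hadjpow : ∀ m : ℕ, ∀ x ∈ DX, ∀ y ∈ DY, π x ((ξ ^ m) y) = π ((ξ ^ m) x) y := by
    intro m
    induction m with
    | zero => intro x _ y _; simp
    | succ m ih =>
      intro x hx y hy
      have hy' := hDY ξ hξK y hy
      have hxm : (ξ ^ m) x ∈ DX := hDX _ (pow_mem hξK m) x hx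
      have e1 : (ξ ^ (m + 1)) y = (ξ ^ m) (ξ y) := by
        rw [pow_succ, MulAut.mul_apply]
      have e2 : (ξ ^ (m + 1)) x = ξ ((ξ ^ m) x) := by
        rw [pow_succ', MulAut.mul_apply]
      rw [e1, e2, ih x hx _ hy', hadj _ hxm y hy]
  have hadjK : ∀ φ ∈ K, ∀ x ∈ DX, ∀ y ∈ DY, π x (φ y) = π (φ x) y := by
    intro φ hφ x hx y hy
    obtain ⟨m, rfl⟩ := hgen φ hφ
    exact hadjpow m x hx y hy
  -- squaring on `K` is surjective
  have hsqinj : ∀ φ ∈ K, φ * φ = 1 → φ = 1 := by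
    intro φ hφ hφ2
    obtain ⟨w0, -, -, hw01, hw02, -, -⟩ := h2
    by_contra hne
    have hmv : φ w0 ≠ w0 := by
      intro hfix
      obtain ⟨k0, -, huniq⟩ := hreg w0 w0 hw01 hw02 hw01 hw02
      have e1 : (⟨φ, hφ⟩ : K) = k0 := huniq ⟨φ, hφ⟩ hfix
      have e2 : (1 : K) = k0 := huniq 1 (by simp)
      have := congrArg Subtype.val (e1.trans e2.symm)
      exact hne (by simpa using this)
    have h1 : φ w0 * φ w0 = 1 := by rw [← map_mul, hw02, map_one]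
    have hne1 : w0 * φ w0 ≠ 1 := by
      intro h
      apply hmv
      have e : φ w0 = w0⁻¹ := eq_inv_of_mul_eq_one_right h
      rw [e]
      exact inv_eq_of_mul_eq_one_left hw02
    have hsq := sq_mul_of_central hcen _ _ hw02 h1
    have hfix : φ (w0 * φ w0) = w0 * φ w0 := by
      have e : φ (φ w0) = w0 := by
        have := congrArg (fun f : MulAut P => f w0) hφ2
        simpa [MulAut.mul_apply] using this
      rw [map_mul, e, hcen _ h1 w0]
    obtain ⟨k0, -, huniq⟩ := hreg _ _ hne1 hsq hne1 hsq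
    have e1 : (⟨φ, hφ⟩ : K) = k0 := huniq ⟨φ, hφ⟩ hfix
    have e2 : (1 : K) = k0 := huniq 1 (by simp)
    have := congrArg Subtype.val (e1.trans e2.symm)
    exact hne (by simpa using this)
  have hsqsurj : ∀ φ ∈ K, ∃ ψ ∈ K, ψ * ψ = φ := by
    haveI : Finite K := inferInstance
    have hinj : Function.Injective (fun k : K => k * k) := by
      intro a b hab
      have hab' : a * a = b * b := hab
      have hc : ∀ p, (a : MulAut P) ((b : MulAut P) p) = (b : MulAut P) ((a : MulAut P) p) :=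
        hcomm _ a.2 _ b.2
      have hcm : (a : MulAut P) * (b : MulAut P) = (b : MulAut P) * (a : MulAut P) := by
        ext p
        simp only [MulAut.mul_apply]
        exact hc p
      have hcm' : a * b = b * a := Subtype.ext hcm
      have h3 : (a * b⁻¹) * (a * b⁻¹) = 1 := by
        have hcm2 : b⁻¹ * a = a * b⁻¹ := by
          rw [inv_mul_eq_iff_eq_mul, ← mul_assoc, ← hcm', mul_assoc, mul_inv_cancel, mul_one]
        calc (a * b⁻¹) * (a * b⁻¹) = a * (b⁻¹ * a) * b⁻¹ := by group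
          _ = a * (a * b⁻¹) * b⁻¹ := by rw [hcm2]
          _ = (a * a) * (b⁻¹ * b⁻¹) := by group
          _ = (b * b) * (b⁻¹ * b⁻¹) := by rw [hab']
          _ = 1 := by group
      have h4 : ((a * b⁻¹ : K) : MulAut P) = 1 :=
        hsqinj _ (a * b⁻¹).2 (by
          have := congrArg Subtype.val h3
          simpa using this)
      have h5 : a * b⁻¹ = 1 := Subtype.ext h4
      exact mul_inv_eq_one.mp h5
    have hsurj := Finite.surjective_of_injective hinj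
    intro φ hφ
    obtain ⟨ψ, hψ⟩ := hsurj ⟨φ, hφ⟩
    refine ⟨ψ, ψ.2, ?_⟩
    have := congrArg Subtype.val hψ
    simpa using this
  -- conclusion
  intro x hx y hy
  by_cases hfx : fX x = 1
  · exact hπX x hx y hy hfx
  by_cases hfy : fY y = 1
  · exact hπY x hx y hy hfy
  obtain ⟨k0, hk0, -⟩ := hreg (fX x) (fY y) hfx (hfX2 x hx) hfy (hfY2 y hy)
  obtain ⟨ψ, hψK, hψ⟩ := hsqsurj k0 k0.2
  have hψx := hDX ψ hψK x hx
  have h1 : fX (ψ (ψ x)) = fY y := by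
    rw [hfXe ψ hψK _ hψx, hfXe ψ hψK x hx, ← hk0, ← hψ, MulAut.mul_apply]
  have h2 := hdiag _ (hDX ψ hψK _ hψx) y hy h1
  rw [← hadjK ψ hψK _ hψx y hy, hπe ψ hψK x hx y hy] at h2
  -- `ψ (π x y) = 1`
  have h3 : ψ (π x y) = ψ 1 := by rw [h2, map_one]
  exact ψ.injective h3

end Cfsg.Agent.Lib.Helper20.SuzTwist
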