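import Mathlib
import Cfsg.Agent.Lib.Helper20.SuzTwist

set_option autoImplicit false

/-!
# The centre of a Suzuki 2-group consists of its involutions

`P` a finite nonabelian 2-group with a cyclic group `K` of automorphisms regular on the
involutions (at least two).  Then `Z(P) = {x | x² = 1}`.
-/

namespace Cfsg.Agent.Lib.Helper20.SuzTwist

variable {P : Type*} [Group P]

/-- Basic set-up: `K` cyclic, regular on the (at least two) involutions of the finite 2-group `P`. -/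
structure Setup (P : Type*) [Group P] (K : Subgroup (MulAut P)) : Prop where
  fin : Finite P
  pg : IsPGroup 2 P
  cyc : IsCyclic K
  reg : ∀ x y : P, x ≠ 1 → x * x = 1 → y ≠ 1 → y * y = 1 → ∃! k : K, (k : MulAut P) x = y
  two : ∃ x y : P, x ≠ y ∧ x ≠ 1 ∧ x * x = 1 ∧ y ≠ 1 ∧ y * y = 1

/-- Automorphisms preserve centrality. -/
theorem central_map (φ : MulAut P) (z : P) (hz : ∀ y, z * y = y * z) : ∀ y, φ z * y = y * φ z := by
  intro y
  have h := hz (φ.symm y)
  have h2 := congrArg φ h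
  simpa using h2

/-- A nontrivial finite 2-group has a central involution. -/
theorem exists_central_invol {Q : Type*} [Group Q] [Finite Q] [Nontrivial Q] (hQ : IsPGroup 2 Q) :
    ∃ z : Q, (∀ y, z * y = y * z) ∧ z ≠ 1 ∧ z * z = 1 := by
  haveI : Fact (Nat.Prime 2) := ⟨Nat.prime_two⟩
  haveI := hQ.center_nontrivial
  obtain ⟨c, hc⟩ := exists_ne (1 : Subgroup.center Q)
  obtain ⟨k, hk⟩ := (IsPGroup.iff_orderOf.mp hQ) (c : Q)
  have hc1 : (c : Q) ≠ 1 := fun h => hc (Subtype.ext h)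
  have hk0 : k ≠ 0 := by
    intro h
    rw [h, pow_zero, orderOf_eq_one_iff] at hk
    exact hc1 hk
  obtain ⟨k', rfl⟩ := Nat.exists_eq_succ_of_ne_zero hk0
  refine ⟨(c : Q) ^ (2 ^ k'), ?_, ?_, ?_⟩
  · intro y
    have hcm : Commute (c : Q) y := by
      have := Subgroup.mem_center_iff.mp c.2 y
      exact this.symm
    exact (hcm.pow_left _).eq
  · intro h
    have hd := orderOf_dvd_of_pow_eq_one h
    rw [hk] at hd
    have := Nat.le_of_dvd (by positivity) hd
    have hlt : 2 ^ k' < 2 ^ (k' + 1) := Nat.pow_lt_pow_right (by norm_num) (by omega)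
    omega
  · rw [← pow_add, ← two_mul, ← pow_succ', ← hk, pow_orderOf_eq_one]

/-- Involutions are central. -/
theorem Setup.cen {K : Subgroup (MulAut P)} (S : Setup P K) :
    ∀ x : P, x * x = 1 → ∀ y, x * y = y * x := by
  haveI := S.fin
  obtain ⟨x0, -, -, hx01, hx02, -, -⟩ := S.two
  haveI : Nontrivial P := ⟨⟨x0, 1, hx01⟩⟩
  obtain ⟨z, hzc, hz1, hz2⟩ := exists_central_invol S.pg
  intro x hx y
  by_cases hx1 : x = 1
  · subst hx1; simp
  obtain ⟨k, hk, -⟩ := S.reg z x hz1 hz2 hx1 hx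
  rw [← hk]
  exact central_map _ z hzc y

/-- If the centre has an element of order four, every element of order dividing four is central. -/
theorem Setup.o4 {K : Subgroup (MulAut P)} (S : Setup P K)
    (hz : ∃ z : P, (∀ y, z * y = y * z) ∧ z * z ≠ 1) :
    ∀ x : P, x ^ 4 = 1 → ∀ y, x * y = y * x := by
  haveI := S.fin
  haveI : Fact (Nat.Prime 2) := ⟨Nat.prime_two⟩
  -- a central element of order four
  obtain ⟨z1, hz1c, hz14, hz12⟩ : ∃ z1 : P, (∀ y, z1 * y = y * z1) ∧ z1 ^ 4 = 1 ∧ z1 * z1 ≠ 1 := by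
    obtain ⟨z, hzc, hz2⟩ := hz
    obtain ⟨k, hk⟩ := (IsPGroup.iff_orderOf.mp S.pg) z
    have hk2 : 2 ≤ k := by
      by_contra hlt
      apply hz2
      have hd : orderOf z ∣ 2 := by
        rw [hk]
        have h1 : k ≤ 1 := by omega
        calc 2 ^ k ∣ 2 ^ 1 := pow_dvd_pow 2 h1
          _ = 2 := by norm_num
      rw [← pow_two]
      exact orderOf_dvd_iff_pow_eq_one.mp hd
    obtain ⟨k', rfl⟩ : ∃ k', k = k' + 2 := ⟨k - 2, by omega⟩
    refine ⟨z ^ (2 ^ k'), ?_, ?_, ?_⟩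
    · intro y
      have hcm : Commute z y := hzc y
      exact (hcm.pow_left _).eq
    · rw [← pow_mul, show 2 ^ k' * 4 = 2 ^ (k' + 2) by ring, ← hk, pow_orderOf_eq_one]
    · intro h
      rw [← pow_add, ← two_mul, ← pow_succ'] at h
      have hd := orderOf_dvd_of_pow_eq_one h
      rw [hk] at hd
      have := Nat.le_of_dvd (by positivity) hd
      have hlt : 2 ^ (k' + 1) < 2 ^ (k' + 2) := Nat.pow_lt_pow_right (by norm_num) (by omega)
      omega
  have hz1sq : (z1 * z1) * (z1 * z1) = 1 := by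
    rw [← hz14]; simp only [pow_succ, pow_zero, one_mul, mul_assoc]
  intro x hx4
  have hx22 : (x * x) * (x * x) = 1 := by
    rw [← hx4]; simp only [pow_succ, pow_zero, one_mul, mul_assoc]
  by_cases hx2 : x * x = 1
  · exact S.cen x hx2
  obtain ⟨k, hk, -⟩ := S.reg _ _ hz12 hz1sq hx2 hx22
  have hzc' := central_map (k : MulAut P) z1 hz1c
  set z' := (k : MulAut P) z1 with hz'
  have hz'2 : z' * z' = x * x := by rw [hz', ← map_mul, hk]
  have h1 : (x * z'⁻¹) * (x * z'⁻¹) = 1 := by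
    have hc1 : z'⁻¹ * x = x * z'⁻¹ := by
      rw [inv_mul_eq_iff_eq_mul, ← mul_assoc, hzc' x, mul_assoc, mul_inv_cancel, mul_one]
    calc x * z'⁻¹ * (x * z'⁻¹) = x * (z'⁻¹ * x) * z'⁻¹ := by group
      _ = x * (x * z'⁻¹) * z'⁻¹ := by rw [hc1]
      _ = (x * x) * (z' * z')⁻¹ := by group
      _ = 1 := by rw [hz'2, mul_inv_cancel]
  have h2 := S.cen _ h1
  intro y
  calc x * y = (x * z'⁻¹) * (z' * y) := by group
    _ = (x * z'⁻¹) * (y * z') := by rw [hzc' y]
    _ = ((x * z'⁻¹) * y) * z' := by group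
    _ = (y * (x * z'⁻¹)) * z' := by rw [h2 y]
    _ = y * x := by group

/-- `b⁻¹ b^x`. -/
def dl (x b : P) : P := b⁻¹ * (x⁻¹ * b * x)

/-- Abelian normal `K`-invariant subgroups. -/
structure Good (K : Subgroup (MulAut P)) (A : Subgroup P) : Prop where
  comm : ∀ a ∈ A, ∀ b ∈ A, a * b = b * a
  normal : A.Normal
  inv : ∀ φ ∈ K, ∀ a ∈ A, φ a ∈ A

section dl

variable {K : Subgroup (MulAut P)} {A : Subgroup P}

theorem Good.conj_mem (hA : Good K A) (x : P) {b : P} (hb : b ∈ A) : x⁻¹ * b * x ∈ A := by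
  have := hA.normal.conj_mem b hb x⁻¹
  simpa using this

theorem Good.dl_mem (hA : Good K A) (x : P) {b : P} (hb : b ∈ A) : dl x b ∈ A :=
  A.mul_mem (A.inv_mem hb) (hA.conj_mem x hb)

theorem Good.commute (hA : Good K A) {a b : P} (ha : a ∈ A) (hb : b ∈ A) : Commute a b :=
  hA.comm a ha b hb

theorem conj_eq_dl (x b : P) : x⁻¹ * b * x = b * dl x b := by
  unfold dl; group

theorem Good.dl_mul (hA : Good K A) (x : P) {b b' : P} (hb : b ∈ A) (hb' : b' ∈ A) :
    dl x (b * b') = dl x b * dl x b' := by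
  have h1 : Commute (b'⁻¹) (dl x b) := hA.commute (A.inv_mem hb') (hA.dl_mem x hb)
  have h2 : dl x (b * b') = b'⁻¹ * dl x b * (x⁻¹ * b' * x) := by unfold dl; group
  rw [h2, h1.eq, mul_assoc]
  rfl

theorem dl_one (x : P) : dl x 1 = 1 := by unfold dl; group

theorem Good.dl_pow (hA : Good K A) (x : P) {b : P} (hb : b ∈ A) (m : ℕ) :
    dl x (b ^ m) = dl x b ^ m := by
  induction m with
  | zero => simp [dl_one]
  | succ m ih => rw [pow_succ, hA.dl_mul x (A.pow_mem hb m) hb, ih, pow_succ]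

theorem Good.dl_inv (hA : Good K A) (x : P) {b : P} (hb : b ∈ A) :
    dl x b⁻¹ = (dl x b)⁻¹ := by
  have h := hA.dl_mul x hb (A.inv_mem hb)
  rw [mul_inv_cancel, dl_one] at h
  exact (inv_eq_of_mul_eq_one_right h.symm).symm

theorem dl_central (x b : P) (hb : ∀ y, b * y = y * b) : dl x b = 1 := by
  unfold dl
  rw [mul_assoc, hb x, ← mul_assoc x⁻¹, inv_mul_cancel, one_mul, inv_mul_cancel]

theorem dl_map (φ : MulAut P) (x b : P) : φ (dl x b) = dl (φ x) (φ b) := by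
  unfold dl; simp

theorem Good.dl_mul_left (hA : Good K A) (x x' : P) {b : P} (hb : b ∈ A) :
    dl (x * x') b = dl x' b * dl x b * dl x' (dl x b) := by
  have h1 : dl (x * x') b = b⁻¹ * (x'⁻¹ * (x⁻¹ * b * x) * x') := by unfold dl; group
  rw [h1, conj_eq_dl x b]
  have h2 : x'⁻¹ * (b * dl x b) * x' = (x'⁻¹ * b * x') * (x'⁻¹ * dl x b * x') := by group
  rw [h2, conj_eq_dl x' b, conj_eq_dl x' (dl x b)]
  group

theorem dl_self_sq (x : P) : dl x (x * x) = 1 := by unfold dl; group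

theorem Good.dl_of_mem (hA : Good K A) {x b : P} (hx : x ∈ A) (hb : b ∈ A) : dl x b = 1 := by
  unfold dl
  have h := hA.comm b hb x hx
  rw [mul_assoc x⁻¹, h]
  group

end dl

/-- Homocyclicity of a good subgroup of exponent `2 ^ (n + 2)`. -/
theorem homocyclic {K : Subgroup (MulAut P)} (S : Setup P K) {A : Subgroup P} (hA : Good K A)
    (N : ℕ) (hN : 1 ≤ N) (hexp : ∀ b ∈ A, b ^ (2 ^ N) = 1)
    (hwit : ∃ e ∈ A, e ^ (2 ^ (N - 1)) ≠ 1) :
    ∀ r j : ℕ, r + j = N → ∀ b ∈ A, b ^ (2 ^ r) = 1 → ∃ c ∈ A, c ^ (2 ^ j) = b := by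
  obtain ⟨e, heA, he⟩ := hwit
  have he2 : e ^ (2 ^ (N - 1)) * e ^ (2 ^ (N - 1)) = 1 := by
    rw [← pow_add, ← two_mul, ← pow_succ', show N - 1 + 1 = N by omega]
    exact hexp e heA
  intro r
  induction r with
  | zero =>
    intro j _ b _ hb
    rw [pow_zero, pow_one] at hb
    exact ⟨1, A.one_mem, by rw [hb, one_pow]⟩
  | succ r ih =>
    intro j hj b hbA hb
    have ht2 : b ^ (2 ^ r) * b ^ (2 ^ r) = 1 := by
      rw [← pow_add, ← two_mul, ← pow_succ']
      exact hb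
    by_cases ht1 : b ^ (2 ^ r) = 1
    · obtain ⟨c, hcA, hc⟩ := ih (j + 1) (by omega) b hbA ht1
      refine ⟨c ^ 2, A.pow_mem hcA 2, ?_⟩
      rw [← pow_mul, ← pow_succ', hc]
    · obtain ⟨k, hk, -⟩ := S.reg _ _ he he2 ht1 ht2
      have hc0A : (k : MulAut P) e ∈ A := hA.inv _ k.2 e heA
      have hc0 : ((k : MulAut P) e) ^ (2 ^ (N - 1)) = b ^ (2 ^ r) := by
        rw [← map_pow, hk]
      set c0 := (k : MulAut P) e with hc0def
      have hdA : c0 ^ (2 ^ j) ∈ A := A.pow_mem hc0A _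
      have hd : (c0 ^ (2 ^ j)) ^ (2 ^ r) = b ^ (2 ^ r) := by
        rw [← pow_mul, ← pow_add, show j + r = N - 1 by omega, hc0]
      have hcm : Commute b (c0 ^ (2 ^ j))⁻¹ := hA.commute hbA (A.inv_mem hdA)
      have h1 : (b * (c0 ^ (2 ^ j))⁻¹) ^ (2 ^ r) = 1 := by
        rw [hcm.mul_pow, inv_pow, hd, mul_inv_cancel]
      obtain ⟨g, hgA, hg⟩ := ih (j + 1) (by omega) _ (A.mul_mem hbA (A.inv_mem hdA)) h1
      refine ⟨g ^ 2 * c0, A.mul_mem (A.pow_mem hgA 2) hc0A, ?_⟩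
      have hcm2 : Commute (g ^ 2) c0 := hA.commute (A.pow_mem hgA 2) hc0A
      rw [hcm2.mul_pow, ← pow_mul, ← pow_succ', hg]
      group

end Cfsg.Agent.Lib.Helper20.SuzTwist
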