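/-
Helper20 library: Maschke-type results for finite commutative groups.
* `exists_invariant_compl` : coprime operators, invariant complemented subgroup ⇒ invariant complement;
* `exists_compl_of_exponent_prime` : in an elementary abelian `p`-group every subgroup has a complement.
-/
import Mathlib

set_option autoImplicit false

namespace Cfsg.Agent.Lib.Helper20

/-- **Maschke** for a finite group `A` of operators of coprime order on a finite commutative group. -/
theorem exists_invariant_compl {Q A : Type*} [CommGroup Q] [Finite Q] [Group A] [Finite A]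
    (φ : A → (Q →* Q)) (h1 : φ 1 = MonoidHom.id Q) (hmul : ∀ a b, φ (a * b) = (φ a).comp (φ b))
    (hcop : (Nat.card A).Coprime (Nat.card Q)) (U W : Subgroup Q)
    (hU : ∀ a, ∀ x ∈ U, φ a x ∈ U) (hUW : U ⊓ W = ⊥) (hsup : U ⊔ W = ⊤) :
    ∃ W' : Subgroup Q, (∀ a, ∀ x ∈ W', φ a x ∈ W') ∧ U ⊓ W' = ⊥ ∧ U ⊔ W' = ⊤ := by
  classical
  have : Fintype A := Fintype.ofFinite A
  -- the projection onto `U` along `W`
  let e : ↥U × ↥W →* Q := (U.subtype).coprod (W.subtype)
  have he : ∀ x : ↥U × ↥W, e x = (x.1 : Q) * (x.2 : Q) := fun x => rfl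
  have hinj : Function.Injective e := by
    rw [injective_iff_map_eq_one]
    rintro ⟨u, w⟩ h
    rw [he] at h
    have hu : (u : Q) = (w : Q)⁻¹ := eq_inv_of_mul_eq_one_left h
    have huW : (u : Q) ∈ U ⊓ W := ⟨u.2, by rw [hu]; exact W.inv_mem w.2⟩
    rw [hUW, Subgroup.mem_bot] at huW
    have hw : (w : Q) = 1 := by rw [huW, one_mul] at h; exact h
    exact Prod.ext (Subtype.ext huW) (Subtype.ext hw)
  have hsurj : Function.Surjective e := by
    intro v
    have hv : v ∈ U ⊔ W := by rw [hsup]; exact Subgroup.mem_top v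
    obtain ⟨u, hu, w, hw, rfl⟩ := Subgroup.mem_sup.mp hv
    exact ⟨(⟨u, hu⟩, ⟨w, hw⟩), rfl⟩
  let E : ↥U × ↥W ≃* Q := MulEquiv.ofBijective e ⟨hinj, hsurj⟩
  let π₀ : Q →* Q := U.subtype.comp ((MonoidHom.fst ↥U ↥W).comp E.symm.toMonoidHom)
  have hP1 : ∀ v, π₀ v ∈ U := fun v => (E.symm v).1.2
  have hP2 : ∀ u ∈ U, π₀ u = u := by
    intro u hu
    have h : E.symm u = (⟨u, hu⟩, 1) := by
      rw [MulEquiv.symm_apply_eq]
      show u = e (⟨u, hu⟩, 1)
      rw [he]; simp
    show ((E.symm u).1 : Q) = u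
    rw [h]
  -- the averaged map
  let θ : Q →* Q := ∏ a : A, (φ a⁻¹).comp (π₀.comp (φ a))
  have hθ : ∀ v, θ v = ∏ a : A, φ a⁻¹ (π₀ (φ a v)) := fun v => MonoidHom.finsetProd_apply _ _ _
  have hφinv : ∀ (a : A) (v : Q), φ a⁻¹ (φ a v) = v := by
    intro a v
    have := congrArg (fun f : Q →* Q => f v) (hmul a⁻¹ a)
    simp only [inv_mul_cancel, h1, MonoidHom.id_apply, MonoidHom.comp_apply] at this
    exact this.symm
  have hT1 : ∀ v, θ v ∈ U := by
    intro v
    rw [hθ]
    exact Subgroup.prod_mem U (fun a _ => hU a⁻¹ _ (hP1 _))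
  have hT2 : ∀ (b : A) (v : Q), θ (φ b v) = φ b (θ v) := by
    intro b v
    rw [hθ, hθ, map_prod]
    apply Fintype.prod_equiv (Equiv.mulRight b)
    intro a
    have e1 : φ (a * b) v = φ a (φ b v) := by rw [hmul]; rfl
    have e2 : φ b (φ (a * b)⁻¹ (π₀ (φ (a * b) v))) = φ a⁻¹ (π₀ (φ (a * b) v)) := by
      have : φ a⁻¹ = (φ b).comp (φ (a * b)⁻¹) := by
        rw [← hmul]; congr 1; group
      rw [this]; rfl
    simp only [Equiv.coe_mulRight]
    rw [e2, e1]
  have hT3 : ∀ u ∈ U, θ u = u ^ Nat.card A := by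
    intro u hu
    rw [hθ]
    have hfix : ∀ a : A, φ a⁻¹ (π₀ (φ a u)) = u := by
      intro a
      rw [hP2 _ (hU a u hu), hφinv]
    simp [hfix, Finset.card_univ, Nat.card_eq_fintype_card]
  refine ⟨θ.ker, ?_, ?_, ?_⟩
  · intro a x hx
    rw [MonoidHom.mem_ker] at hx ⊢
    rw [hT2, hx, map_one]
  · rw [eq_bot_iff]
    rintro u ⟨huU, huK⟩
    have h2 : u ^ Nat.card A = 1 := by rw [← hT3 u huU]; exact huK
    have h3 : u ^ Nat.card Q = 1 := pow_card_eq_one'
    have h4 : orderOf u ∣ 1 := by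
      have := Nat.dvd_gcd (orderOf_dvd_of_pow_eq_one h2) (orderOf_dvd_of_pow_eq_one h3)
      rwa [hcop] at this
    exact orderOf_eq_one_iff.mp (Nat.dvd_one.mp h4)
  · rw [eq_top_iff]
    intro v _
    have hcopU : (Nat.card ↥U).Coprime (Nat.card A) :=
      (Nat.Coprime.coprime_dvd_right (Subgroup.card_dvd_of_le le_top |>.trans
        (by rw [Subgroup.card_top])) hcop).symm
    obtain ⟨u', hu'⟩ := (powCoprime hcopU).surjective ⟨θ v, hT1 v⟩
    have hu'' : (u' : Q) ^ Nat.card A = θ v := by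
      have := congrArg Subtype.val hu'
      simpa using this
    have hker : v * (u' : Q)⁻¹ ∈ θ.ker := by
      rw [MonoidHom.mem_ker, map_mul, map_inv, hT3 _ u'.2, hu'', mul_inv_cancel]
    have : v = (u' : Q) * (v * (u' : Q)⁻¹) := by
      rw [mul_comm v, mul_inv_cancel_left]
    rw [this]
    exact Subgroup.mul_mem_sup u'.2 hker

/-- In a finite commutative group of prime exponent every subgroup has a complement. -/
theorem exists_compl_of_exponent_prime {Q : Type*} [CommGroup Q] [Finite Q] {p : ℕ}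
    (hp : p.Prime) (hexp : ∀ x : Q, x ^ p = 1) (U : Subgroup Q) :
    ∃ W : Subgroup Q, U ⊓ W = ⊥ ∧ U ⊔ W = ⊤ := by
  classical
  have hfin : Set.Finite {W : Subgroup Q | U ⊓ W = ⊥} := Set.toFinite _
  have hne : {W : Subgroup Q | U ⊓ W = ⊥}.Nonempty := ⟨⊥, inf_bot_eq U⟩
  obtain ⟨W, hW, hmax⟩ := hfin.exists_maximal hne
  refine ⟨W, hW, ?_⟩
  by_contra hne'
  obtain ⟨x, hx⟩ : ∃ x : Q, x ∉ U ⊔ W := by
    by_contra hall
    exact hne' (eq_top_iff.mpr fun v _ => by_contra fun hv => hall ⟨v, hv⟩)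
  have hx1 : x ≠ 1 := fun h => hx (h ▸ Subgroup.one_mem _)
  haveI : Fact p.Prime := ⟨hp⟩
  have hord : orderOf x = p := orderOf_eq_prime (hexp x) hx1
  have hW2 : U ⊓ (W ⊔ Subgroup.zpowers x) = ⊥ := by
    rw [eq_bot_iff]
    rintro u ⟨huU, huW⟩
    obtain ⟨w, hw, y, hy, rfl⟩ := Subgroup.mem_sup.mp huW
    obtain ⟨k, rfl⟩ := Subgroup.mem_zpowers_iff.mp hy
    by_cases hk : x ^ k = 1
    · rw [hk, mul_one] at huU ⊢
      have : w ∈ U ⊓ W := ⟨huU, hw⟩
      rwa [hW] at this
    · exfalso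
      apply hx
      have hxk : x ^ k ∈ U ⊔ W := by
        have : x ^ k = (w * x ^ k) * w⁻¹ := by rw [mul_comm w, mul_inv_cancel_right]
        rw [this]
        exact Subgroup.mul_mem_sup huU (W.inv_mem hw)
      have hnd : ¬ (p : ℤ) ∣ k := by
        intro hd
        apply hk
        rw [← orderOf_dvd_iff_zpow_eq_one, hord]; exact hd
      have hcop : IsCoprime k (p : ℤ) := by
        rw [isCoprime_comm]
        exact (Nat.prime_iff_prime_int.mp hp).coprime_iff_not_dvd.mpr hnd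
      obtain ⟨s, t, hst⟩ := hcop
      have hxx : x = (x ^ k) ^ s := by
        have h2 : x ^ (s * k + t * (p : ℤ)) = x := by rw [hst, zpow_one]
        rw [zpow_add, zpow_mul' x t, zpow_natCast, hexp, one_zpow, mul_one, mul_comm s k,
          zpow_mul] at h2
        exact h2.symm
      rw [hxx]
      exact Subgroup.zpow_mem _ hxk s
  have hle : W ≤ W ⊔ Subgroup.zpowers x := le_sup_left
  have := hmax hW2 hle
  apply hx
  exact Subgroup.mem_sup_right (this (Subgroup.mem_sup_right (Subgroup.mem_zpowers x)))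

end Cfsg.Agent.Lib.Helper20
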