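import Mathlib
import Cfsg.Agent.Lib.Helper5.TWS.Defs
import Cfsg.Agent.Lib.Helper9.TWST3
import Cfsg.Agent.Lib.Helper19.TWGrow
import Cfsg.Agent.Lib.Helper19.TWU3Defs
import Cfsg.Agent.Lib.Helper22.TWExtBasic
import Cfsg.Agent.Lib.Helper22.TWExtMore
import Cfsg.Agent.Lib.Helper20.TWS3Perm

/-!
# S5668 Stage III, the (G0') pieces (helper20): passing to `KB X j = {γ | γ ⊗ 1_j ∈ X}` and back

* `nilS_sq`, `adjT_nilS`, `unipS_mem_GSV`, `XTS_of_GSV_le`: `1 + c nilS J y` is an isometry of `sfT` for ODD `|J|`;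
* `ext_nilS`, `ext_one_add_smul`;
* `XTS_KB`, `XTS_of_KB`;
* `adjT_ext`, `extGL_mem_GSV`, `HS_le_KB`, `KB_le_GSV`.
-/

set_option autoImplicit false
set_option linter.unusedSectionVars false
set_option linter.unusedVariables false

namespace Cfsg.Agent.Lib.Helper20.TWS3
open Matrix Cfsg.Geo Cfsg.Agent.Lib.Helper18.AschA89 Cfsg.Agent.Lib.Helper20.AschLeaf Cfsg.Agent.Lib.Helper8.TW
open Cfsg.Agent.Lib.Helper5.TWS Cfsg.Agent.Lib.Helper19.TWU3
open Cfsg.Agent.Lib.Helper9.TWST (adjT adjA sgT prT sg)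
open Cfsg.Agent.Lib.Helper25.SpT (sf Jm sfv pr)

variable {F : Type*} [Field F] {t k : ℕ}

/-! ### `nilS` squares to zero, is skew for odd `|J|` -/

lemma vecMulVec_sfv_sq (y : Fin k → F) :
    Matrix.vecMulVec y (sfv y) * Matrix.vecMulVec y (sfv y) = 0 := by
  rw [Matrix.vecMulVec_mul_vecMulVec, Cfsg.Agent.Lib.Helper25.SpT.sfv_dot, Cfsg.Agent.Lib.Helper25.SpT.sf_self, zero_smul]
  ext a b
  simp [Matrix.vecMulVec_apply]

/-- `nilS J y` squares to zero when `J ≠ ∅` -/
theorem nilS_sq (J : Finset (Fin t)) (hJ : J.Nonempty) (y : Fin t → Fin k → F) :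
    nilS J y * nilS J y = 0 := by
  obtain ⟨j0, hj0⟩ := hJ
  rw [nilS_eq_ptens, ptens_mul]
  apply Cfsg.Agent.Lib.Helper19.TWGrow.ptens_eq_zero_of_factor _ j0
  show famS J y j0 * famS J y j0 = 0
  rw [famS_mem y hj0, vecMulVec_sfv_sq]

lemma smul_sq_zero {N : Matrix (Idx t k) (Idx t k) F} (h : N * N = 0) (c : F) :
    (c • N) * (c • N) = 0 := by
  rw [Matrix.smul_mul, Matrix.mul_smul, h, smul_zero, smul_zero]

/-- the adjoint of `nilS J y` is `(-1)^|J| nilS J y` -/
theorem adjT_nilS (hk : Even k) (J : Finset (Fin t)) (y : Fin t → Fin k → F) :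
    adjT hk (nilS J y) = (-1 : F) ^ J.card • nilS J y := by
  classical
  rw [nilS_eq_ptens, Cfsg.Agent.Lib.Helper9.TWST.adjT_ptens]
  have hfam : (fun j => adjA hk (famS J y j)) = fun j => (if j ∈ J then (-1 : F) else 1) • famS J y j := by
    funext j
    by_cases hj : j ∈ J
    · rw [famS_mem y hj, if_pos hj, Cfsg.Agent.Lib.Helper9.TWST.adjA_vecMulVec_sfv, neg_one_smul]
    · rw [famS_not_mem y hj, if_neg hj, Cfsg.Agent.Lib.Helper9.TWST.adjA_one, one_smul]
  rw [hfam]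
  ext x x'
  rw [ptens_apply, Matrix.smul_apply, ptens_apply]
  simp only [Matrix.smul_apply, smul_eq_mul]
  rw [Finset.prod_mul_distrib]
  congr 1
  rw [Finset.prod_ite_mem, Finset.univ_inter, Finset.prod_const]

/-- for ODD `|J|` the nilpotent `nilS J y` is SKEW -/
theorem adjT_nilS_odd (hk : Even k) (J : Finset (Fin t)) (hJ : Odd J.card) (y : Fin t → Fin k → F) :
    adjT hk (nilS J y) = - nilS J y := by
  rw [adjT_nilS, hJ.neg_one_pow, neg_one_smul]

lemma odd_card_nonempty {J : Finset (Fin t)} (hJ : Odd J.card) : J.Nonempty := by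
  rw [← Finset.card_pos]
  exact hJ.pos

/-- the unit `1 + c nilS J y` (`|J|` odd) is an isometry of `sfT` -/
theorem unipS_mem_GSV' (hk : Even k) (J : Finset (Fin t)) (hJ : Odd J.card) (y : Fin t → Fin k → F) (c : F) :
    unip (c • nilS J y) (smul_sq_zero (nilS_sq J (odd_card_nonempty hJ) y) c) ∈ GSV t k F := by
  rw [Cfsg.Agent.Lib.Helper9.TWST.mem_GSV_iff hk, unip_val, Cfsg.Agent.Lib.Helper9.TWST.adjT_add,
    Cfsg.Agent.Lib.Helper9.TWST.adjT_one, Cfsg.Agent.Lib.Helper9.TWST.adjT_smul, adjT_nilS_odd hk J hJ]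
  have hsq := nilS_sq J (odd_card_nonempty hJ) y
  rw [add_mul, mul_add, mul_add, mul_one, one_mul, mul_one, Matrix.smul_mul, Matrix.mul_smul, neg_mul, hsq]
  simp

/-- `1 + c nilS J y ∈ GSV` for odd `|J|` -/
theorem unipS_mem_GSV (hk : Even k) (J : Finset (Fin t)) (hJ : Odd J.card) (y : Fin t → Fin k → F) (c : F) :
    InM (GSV t k F) (1 + c • nilS J y) :=
  ⟨_, unipS_mem_GSV' hk J hJ y c, unip_val _ _⟩

/-- an overgroup of the full isometry group has `XT_J` for every odd `J` -/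
theorem XTS_of_GSV_le (hk : Even k) (X : Subgroup (GL (Idx t k) F)) (h : GSV t k F ≤ X) (J : Finset (Fin t))
    (hJ : Odd J.card) : XTS X J := by
  intro y c _
  obtain ⟨g, hg, hgv⟩ := unipS_mem_GSV hk J hJ y c
  exact ⟨g, h hg, hgv⟩

/-! ### `ext` and `nilS` -/

/-- `ext j` is compatible with `1 + c • ·` -/
lemma ext_one_add_smul (j : Fin (t + 1)) (c : F) (N : Matrix (Idx t k) (Idx t k) F) :
    ext j (1 + c • N) = 1 + c • ext j N := by
  rw [← ext_one (m := k) (F := F) j]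
  ext x x'
  show (if x j = x' j then (1 + c • N) (fun i => x (j.succAbove i)) (fun i => x' (j.succAbove i)) else 0) =
    (if x j = x' j then (1 : Matrix (Idx t k) (Idx t k) F) (fun i => x (j.succAbove i))
        (fun i => x' (j.succAbove i)) else 0) +
      c • (if x j = x' j then N (fun i => x (j.succAbove i)) (fun i => x' (j.succAbove i)) else 0)
  by_cases h : x j = x' j
  · rw [if_pos h, if_pos h, if_pos h]
    rfl
  · rw [if_neg h, if_neg h, if_neg h, smul_zero, add_zero]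

/-- `ext j` of the `J`-elementary nilpotent on the positions `≠ j` is the `succAbove j '' J`-elementary nilpotent -/
theorem ext_nilS (j : Fin (t + 1)) (J : Finset (Fin t)) (y : Fin (t + 1) → Fin k → F) :
    ext j (nilS J (fun i => y (j.succAbove i))) = nilS (J.map (Fin.succAboveEmb j)) y := by
  ext x x'
  have hiff : (x j = x' j ∧ ∀ i, i ∉ J → x (j.succAbove i) = x' (j.succAbove i)) ↔
      ∀ l, l ∉ J.map (Fin.succAboveEmb j) → x l = x' l := by
    constructor
    · rintro ⟨h1, h2⟩ l hl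
      rcases Fin.eq_self_or_eq_succAbove j l with rfl | ⟨i, rfl⟩
      · exact h1
      · apply h2
        intro hi
        exact hl (Finset.mem_map.2 ⟨i, hi, rfl⟩)
    · intro h
      refine ⟨h j ?_, fun i hi => h _ ?_⟩
      · intro hmem
        obtain ⟨i, _, hi⟩ := Finset.mem_map.1 hmem
        exact Fin.succAbove_ne j i hi
      · intro hmem
        obtain ⟨i', hi', he⟩ := Finset.mem_map.1 hmem
        have : i' = i := Fin.succAbove_right_injective he
        exact hi (this ▸ hi')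
  show (if x j = x' j then nilS J (fun i => y (j.succAbove i)) (fun i => x (j.succAbove i))
    (fun i => x' (j.succAbove i)) else 0) = _
  unfold nilS
  rw [Finset.prod_map]
  by_cases h1 : x j = x' j
  · by_cases h2 : ∀ i, i ∉ J → x (j.succAbove i) = x' (j.succAbove i)
    · rw [if_pos h1, if_pos h2, if_pos (hiff.1 ⟨h1, h2⟩)]
      rfl
    · rw [if_pos h1, if_neg h2, if_neg (fun h => h2 (hiff.2 h).2)]
  · rw [if_neg h1, if_neg (fun h => h1 (hiff.2 h).1)]

/-! ### `XT` and `KB` -/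

/-- `XT_{succAbove j '' J}(X)` gives `XT_J(KB X j)` -/
theorem XTS_KB (X : Subgroup (GL (Idx (t + 1) k) F)) (j : Fin (t + 1))
    (J : Finset (Fin t)) (hJ : J.Nonempty) (h : XTS X (J.map (Fin.succAboveEmb j))) : XTS (KB X j) J := by
  intro y' c hy
  have hsq : nilS J y' * nilS J y' = 0 := nilS_sq J hJ y'
  refine ⟨unip (c • nilS J y') (smul_sq_zero hsq c), ?_, unip_val _ _⟩
  rw [mem_KB]
  obtain ⟨y, hydef⟩ : ∃ y : Fin (t + 1) → Fin k → F,
      y = Fin.insertNth (α := fun _ => Fin k → F) j (0 : Fin k → F) y' := ⟨_, rfl⟩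
  have hyy' : (fun i => y (j.succAbove i)) = y' := by
    funext i
    rw [hydef, Fin.insertNth_apply_succAbove]
  have hcond : ∀ l ∈ J.map (Fin.succAboveEmb j), y l ≠ 0 := by
    intro l hl
    obtain ⟨i, hi, rfl⟩ := Finset.mem_map.1 hl
    have e : y (Fin.succAboveEmb j i) = y' i := congrFun hyy' i
    rw [e]
    exact hy i hi
  obtain ⟨g, hg, hgv⟩ := h y c hcond
  have hgg : extGL j (unip (c • nilS J y') (smul_sq_zero hsq c)) = g := by
    apply Units.ext
    rw [extGL_val, unip_val, hgv, ext_one_add_smul, ← ext_nilS, hyy']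
  rw [hgg]
  exact hg

/-- `GSV ≤ KB X j` gives `XT_{succAbove j '' J}(X)` for every odd `J` -/
theorem XTS_of_KB (hk : Even k) (X : Subgroup (GL (Idx (t + 1) k) F)) (j : Fin (t + 1))
    (h : GSV t k F ≤ KB X j) (J : Finset (Fin t)) (hJ : Odd J.card) :
    XTS X (J.map (Fin.succAboveEmb j)) := by
  intro y c hy
  have hmem := unipS_mem_GSV' hk J hJ (fun i => y (j.succAbove i)) c
  have hX := h hmem
  rw [mem_KB] at hX
  refine ⟨_, hX, ?_⟩
  rw [extGL_val, unip_val, ext_one_add_smul, ext_nilS]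

/-- going UP: `XT_J(KB X j)` gives `XT_{succAbove j '' J}(X)` -/
theorem XTS_up (X : Subgroup (GL (Idx (t + 1) k) F)) (j : Fin (t + 1)) (J : Finset (Fin t))
    (h : XTS (KB X j) J) : XTS X (J.map (Fin.succAboveEmb j)) := by
  intro y c hy
  have hcond : ∀ i ∈ J, (fun i => y (j.succAbove i)) i ≠ 0 := by
    intro i hi
    exact hy _ (Finset.mem_map.2 ⟨i, hi, rfl⟩)
  obtain ⟨γ, hγ, hγv⟩ := h (fun i => y (j.succAbove i)) c hcond
  rw [mem_KB] at hγ
  refine ⟨_, hγ, ?_⟩
  rw [extGL_val, hγv, ext_one_add_smul, ext_nilS]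

/-! ### `ext` and the isometry groups -/

/-- the adjoint commutes with `ext` -/
theorem adjT_ext (hk : Even k) (j : Fin (t + 1)) (γ : Matrix (Idx t k) (Idx t k) F) :
    adjT hk (ext j γ) = ext j (adjT hk γ) := by
  funext x x'
  simp only [Cfsg.Agent.Lib.Helper9.TWST.adjT_apply, Cfsg.Agent.Lib.Helper22.TWLeaf.ext_apply]
  have hpr : ∀ a b : Fin k, pr hk a = pr hk b ↔ a = b := by
    intro a b
    constructor
    · intro h
      have := congrArg (pr hk) h
      rwa [Cfsg.Agent.Lib.Helper25.SpT.pr_pr, Cfsg.Agent.Lib.Helper25.SpT.pr_pr] at this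
    · rintro rfl; rfl
  by_cases h : x j = x' j
  · have h' : prT hk x' j = prT hk x j := by
      unfold prT
      rw [h]
    rw [if_pos h, if_pos h']
    have e1 : (sgT hk x : F) = sg hk (x j) * sgT hk (fun i => x (j.succAbove i)) := by
      unfold sgT
      rw [Fin.prod_univ_succAbove _ j]
    have e2 : (sgT hk x' : F) = sg hk (x' j) * sgT hk (fun i => x' (j.succAbove i)) := by
      unfold sgT
      rw [Fin.prod_univ_succAbove _ j]
    rw [e1, e2, ← h]
    have hs := Cfsg.Agent.Lib.Helper9.TWST.sg_sq (F := F) hk (x j)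
    have hprx : (fun i => prT hk x' (j.succAbove i)) = prT hk (fun i => x' (j.succAbove i)) := rfl
    have hprx' : (fun i => prT hk x (j.succAbove i)) = prT hk (fun i => x (j.succAbove i)) := rfl
    rw [hprx, hprx']
    calc sg hk (x j) * sgT hk (fun i => x (j.succAbove i)) * (sg hk (x j) * sgT hk (fun i => x' (j.succAbove i))) *
          γ (prT hk fun i => x' (j.succAbove i)) (prT hk fun i => x (j.succAbove i))
        = (sg hk (x j) * sg hk (x j)) * (sgT hk (fun i => x (j.succAbove i)) * sgT hk (fun i => x' (j.succAbove i)) *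
          γ (prT hk fun i => x' (j.succAbove i)) (prT hk fun i => x (j.succAbove i))) := by ring
      _ = _ := by rw [hs, one_mul]
  · have h' : ¬ prT hk x' j = prT hk x j := by
      unfold prT
      intro e
      exact h ((hpr _ _).1 e).symm
    rw [if_neg h, if_neg h', mul_zero]

/-- `γ ⊗ 1` is an isometry if `γ` is -/
theorem extGL_mem_GSV (hk : Even k) (j : Fin (t + 1)) {γ : GL (Idx t k) F} (hγ : γ ∈ GSV t k F) :
    extGL j γ ∈ GSV (t + 1) k F := by
  rw [Cfsg.Agent.Lib.Helper9.TWST.mem_GSV_iff hk, extGL_val, adjT_ext hk, ext_mul,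
    (Cfsg.Agent.Lib.Helper9.TWST.mem_GSV_iff hk γ).1 hγ, ext_one]

/-- `ext j` is injective (for `0 < k`) -/
lemma ext_injective (hk0 : 0 < k) (j : Fin (t + 1)) {M M' : Matrix (Idx t k) (Idx t k) F}
    (h : ext j M = ext j M') : M = M' := by
  ext u u'
  have := congrFun (congrFun h (ins j (⟨0, hk0⟩ : Fin k) u)) (ins j (⟨0, hk0⟩ : Fin k) u')
  rwa [Cfsg.Agent.Lib.Helper22.TWLeaf.ext_ins, Cfsg.Agent.Lib.Helper22.TWLeaf.ext_ins, if_pos rfl, if_pos rfl] at this

/-- `γ` is an isometry if `γ ⊗ 1` is -/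
theorem mem_GSV_of_extGL (hk : Even k) (hk0 : 0 < k) (j : Fin (t + 1)) {γ : GL (Idx t k) F}
    (h : extGL j γ ∈ GSV (t + 1) k F) : γ ∈ GSV t k F := by
  rw [Cfsg.Agent.Lib.Helper9.TWST.mem_GSV_iff hk, extGL_val, adjT_ext hk, ext_mul, ← ext_one (m := k) (F := F) j] at h
  rw [Cfsg.Agent.Lib.Helper9.TWST.mem_GSV_iff hk]
  exact ext_injective hk0 j h

/-- `HS_t ≤ KB X j` for an overgroup `X` of `HS_{t+1}` -/
theorem HS_le_KB (hk : Even k) (X : Subgroup (GL (Idx (t + 1) k) F)) (hHX : HS (t + 1) k F ≤ X)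
    (j : Fin (t + 1)) : HS t k F ≤ KB X j := by
  rintro γ ⟨hγG, hγS⟩
  rw [mem_KB]
  apply hHX
  exact ⟨Cfsg.Agent.Lib.Helper22.TWLeaf.extGL_mem_G j γ hγG, extGL_mem_GSV hk j hγS⟩

/-- `KB X j ≤ GSV_t` for `X ≤ GSV_{t+1}` -/
theorem KB_le_GSV (hk : Even k) (hk2 : 2 ≤ k) (X : Subgroup (GL (Idx (t + 1) k) F))
    (hXG : X ≤ GSV (t + 1) k F) (j : Fin (t + 1)) : KB X j ≤ GSV t k F := by
  intro γ hγ
  rw [mem_KB] at hγ
  exact mem_GSV_of_extGL hk (by omega) j (hXG hγ)

end Cfsg.Agent.Lib.Helper20.TWS3
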