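import Mathlib
import Cfsg.Agent.Lib.Helper7.DHBDefs

/-!
helper20: leaf PAR (`par`) of market "DHB" (S3616 algebraic core, planner helper7): the parameter identities
obtained by summing `E1`, `E2` over all points, and `E1` at `0`.
-/

set_option autoImplicit false

namespace Cfsg.Agent.Lib.Helper20.DHBPAR

open Finset Cfsg.Agent.Lib.Helper7.DHB

variable {n : ℕ} [NeZero n] {X Y : Finset (ZMod n)} {k l m : ℕ}

/-- `∑ i, rep S T i = |S| |T|` -/
theorem sum_rep (S T : Finset (ZMod n)) : ∑ i : ZMod n, rep S T i = S.card * T.card := by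
  classical
  unfold rep
  rw [← Finset.card_product]
  exact (Finset.card_eq_sum_card_fiberwise (f := fun q : ZMod n × ZMod n => q.1 + q.2)
    (s := S ×ˢ T) (t := univ) (fun _ _ => by simp)).symm

/-- `∑ i, dif S T i = |S| |T|` -/
theorem sum_dif (S T : Finset (ZMod n)) : ∑ i : ZMod n, dif S T i = S.card * T.card := by
  classical
  unfold dif
  rw [← Finset.card_product]
  exact (Finset.card_eq_sum_card_fiberwise (f := fun q : ZMod n × ZMod n => q.2 - q.1)
    (s := S ×ˢ T) (t := univ) (fun _ _ => by simp)).symm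

omit [NeZero n] in
/-- `rep X X 0 = |X|` for symmetric `X` -/
theorem rep_self_zero (hneg : ∀ i ∈ X, -i ∈ X) : rep X X 0 = X.card := by
  classical
  unfold rep
  refine Finset.card_bij (fun q _ => q.1) ?_ ?_ ?_
  · intro q hq
    exact (Finset.mem_product.mp (Finset.mem_filter.mp hq).1).1
  · intro q hq q' hq' h
    have h1 := (Finset.mem_filter.mp hq).2
    have h2 := (Finset.mem_filter.mp hq').2
    have h3 : q.2 = q'.2 := by
      have e1 : q.2 = -q.1 := (neg_eq_of_add_eq_zero_right h1).symm
      have e2 : q'.2 = -q'.1 := (neg_eq_of_add_eq_zero_right h2).symm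
      rw [e1, e2, h]
    exact Prod.ext h h3
  · intro a ha
    refine ⟨(a, -a), ?_, rfl⟩
    rw [Finset.mem_filter, Finset.mem_product]
    exact ⟨⟨ha, hneg a ha⟩, by simp⟩

omit [NeZero n] in
/-- `dif Y Y 0 = |Y|` -/
theorem dif_self_zero : dif Y Y 0 = Y.card := by
  classical
  unfold dif
  refine Finset.card_bij (fun q _ => q.1) ?_ ?_ ?_
  · intro q hq
    exact (Finset.mem_product.mp (Finset.mem_filter.mp hq).1).1
  · intro q hq q' hq' h
    have h1 := (Finset.mem_filter.mp hq).2
    have h2 := (Finset.mem_filter.mp hq').2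
    have h3 : q.2 = q'.2 := by
      have e1 : q.2 = q.1 := sub_eq_zero.mp h1
      have e2 : q'.2 = q'.1 := sub_eq_zero.mp h2
      rw [e1, e2, h]
    exact Prod.ext h h3
  · intro a ha
    refine ⟨(a, a), ?_, rfl⟩
    rw [Finset.mem_filter, Finset.mem_product]
    exact ⟨⟨ha, ha⟩, by simp⟩

theorem par (h : Hyp n X Y k l m) :
    X.card + Y.card = k ∧
    2 * X.card * Y.card + m * Y.card = l * Y.card + m * n ∧
    X.card ^ 2 + Y.card ^ 2 + m * (X.card + 1) = k + l * X.card + m * n := by
  classical
  have hcardU : (Finset.univ : Finset (ZMod n)).card = n := by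
    rw [Finset.card_univ, ZMod.card]
  refine ⟨?_, ?_, ?_⟩
  · have h0 := h.E1 0
    rw [if_pos rfl, rep_self_zero h.neg_mem, dif_self_zero] at h0
    exact h0
  · -- sum `E2`
    have hs : ∑ j : ZMod n, 2 * rep X Y j = ∑ j : ZMod n, (if j ∈ Y then l else m) :=
      Finset.sum_congr rfl (fun j _ => h.E2 j)
    rw [← Finset.mul_sum, sum_rep, Finset.sum_ite, Finset.sum_const, Finset.sum_const,
      smul_eq_mul, smul_eq_mul] at hs
    have hY1 : (Finset.univ.filter (fun j : ZMod n => j ∈ Y)).card = Y.card := by
      congr 1; ext j; simp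
    have hY2 : (Finset.univ.filter (fun j : ZMod n => j ∈ Y)).card +
        (Finset.univ.filter (fun j : ZMod n => ¬ j ∈ Y)).card = n := by
      rw [Finset.card_filter_add_card_filter_not, hcardU]
    rw [hY1] at hs hY2
    set c2 := (Finset.univ.filter (fun j : ZMod n => ¬ j ∈ Y)).card
    have e : m * n = m * (Y.card + c2) := congrArg (fun t => m * t) hY2.symm
    rw [e]
    nlinarith [hs]
  · -- sum `E1`
    have hs : ∑ i : ZMod n, (rep X X i + dif Y Y i) =
        ∑ i : ZMod n, (if i = 0 then k else if i ∈ X then l else m) :=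
      Finset.sum_congr rfl (fun i _ => h.E1 i)
    rw [Finset.sum_add_distrib, sum_rep, sum_dif, Finset.sum_ite, Finset.sum_const, smul_eq_mul,
      Finset.sum_ite, Finset.sum_const, Finset.sum_const, smul_eq_mul, smul_eq_mul] at hs
    have h1 : (Finset.univ.filter (fun i : ZMod n => i = 0)).card = 1 := by
      rw [Finset.filter_eq']; simp
    have h2 : ((Finset.univ.filter (fun i : ZMod n => ¬ i = 0)).filter (fun i => i ∈ X)).card
        = X.card := by
      congr 1; ext i
      simp only [Finset.mem_filter, Finset.mem_univ, true_and]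
      constructor
      · exact fun hi => hi.2
      · intro hi
        exact ⟨fun h0 => h.zero_notMem (h0 ▸ hi), hi⟩
    have h3 : ((Finset.univ.filter (fun i : ZMod n => ¬ i = 0)).filter (fun i => i ∈ X)).card +
        ((Finset.univ.filter (fun i : ZMod n => ¬ i = 0)).filter (fun i => ¬ i ∈ X)).card =
        (Finset.univ.filter (fun i : ZMod n => ¬ i = 0)).card :=
      Finset.card_filter_add_card_filter_not _
    have h4 : (Finset.univ.filter (fun i : ZMod n => i = 0)).card +
        (Finset.univ.filter (fun i : ZMod n => ¬ i = 0)).card = n := by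
      rw [Finset.card_filter_add_card_filter_not, hcardU]
    rw [h1] at hs h4
    rw [h2] at hs h3
    set c3 := ((Finset.univ.filter (fun i : ZMod n => ¬ i = 0)).filter (fun i => ¬ i ∈ X)).card
    set c4 := (Finset.univ.filter (fun i : ZMod n => ¬ i = 0)).card
    have this : n = 1 + (X.card + c3) := by omega
    have e : m * n = m * (1 + (X.card + c3)) := congrArg (fun t => m * t) this
    rw [e]
    nlinarith [hs]

end Cfsg.Agent.Lib.Helper20.DHBPAR
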