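import Mathlib
import Cfsg.Agent.Lib.Helper20.ESDecomp

/-!
Helper lemmas (helper20): extraspecial groups of exponent `p` are determined by their order.
-/

set_option autoImplicit false
open scoped commutatorElement

namespace Cfsg.Agent.Lib.Helper20.ES

universe u v

namespace ESData

variable {p : ℕ} {E : Type*} [Group E] {z : E}

theorem p3Data (h : ESData p E z) {x y : E} (hxy : ⁅x, y⁆ = z) {α β : ℕ}
    (hx : x ^ p = z ^ α) (hy : y ^ p = z ^ β) : P3Data p α β x y z where
  z_ne := h.z_ne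
  z_pow := h.z_pow
  zx := (Subgroup.mem_center_iff.mp h.z_central x).symm
  zy := (Subgroup.mem_center_iff.mp h.z_central y).symm
  comm := by rw [← commutatorElement_def]; exact hxy
  x_pow := hx
  y_pow := hy

theorem gen_eq_top_of_cent (h : ESData p E z) {x y : E} (hxy : ⁅x, y⁆ = z)
    (hC : cent x y = Subgroup.zpowers z) : Subgroup.closure ({x, y} : Set E) = ⊤ := by
  rw [eq_top_iff]
  intro e _
  obtain ⟨a, ha, c, hc, rfl⟩ := h.exists_mul_decomp hxy e
  rw [hC] at hc
  have hz : Subgroup.zpowers z ≤ Subgroup.closure ({x, y} : Set E) := by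
    rw [Subgroup.zpowers_le]; exact z_mem_gen hxy
  exact Subgroup.mul_mem _ ha (hz hc)

theorem cent_eq_zpowers_of_card [hp : Fact p.Prime] [Finite E] (h : ESData p E z) (x y : E)
    (hcard : Nat.card (cent x y) = p) : cent x y = Subgroup.zpowers z := by
  symm
  apply Subgroup.eq_of_le_of_card_ge
  · rw [Subgroup.zpowers_le]; exact h.z_mem_cent x y
  · rw [hcard, h.card_zpowers]

end ESData

/-- an isomorphism when both groups are generated by the pairs -/
theorem equiv_of_gen_top {p α β : ℕ} [hp : Fact p.Prime] {E : Type*} {F : Type*} [Group E] [Group F]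
    {x y z : E} {x' y' z' : F} (h : P3Data p α β x y z) (h' : P3Data p α β x' y' z')
    (hE : Subgroup.closure ({x, y} : Set E) = ⊤) (hF : Subgroup.closure ({x', y'} : Set F) = ⊤) :
    ∃ φ : E ≃* F, φ z = z' := by
  obtain ⟨φ₁, -, -, hz⟩ := h.model_equiv h'
  refine ⟨Subgroup.topEquiv.symm.trans ((MulEquiv.subgroupCongr hE.symm).trans
    (φ₁.trans ((MulEquiv.subgroupCongr hF).trans Subgroup.topEquiv))), ?_⟩
  exact hz h.z_mem

/-- noncommutativity of `cent x y` transfers along equal cardinalities -/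
theorem cent_noncomm_transfer {p : ℕ} [hp : Fact p.Prime] {E : Type*} {F : Type*} [Group E]
    [Group F] [Finite E] [Finite F] {z : E} {z' : F} (h : ESData p E z) (h' : ESData p F z')
    {x y : E} {x' y' : F} (hxy : ⁅x, y⁆ = z) (hxy' : ⁅x', y'⁆ = z')
    (hcard : Nat.card (ESData.cent x y) = Nat.card (ESData.cent x' y'))
    (hnc : ¬ ∀ a ∈ ESData.cent x y, ∀ b ∈ ESData.cent x y, a * b = b * a) :
    ¬ ∀ a ∈ ESData.cent x' y', ∀ b ∈ ESData.cent x' y', a * b = b * a := by
  intro hc
  apply hnc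
  have hD := h'.cent_eq_of_comm hxy' hc
  have hcD : Nat.card (ESData.cent x' y') = p := by rw [hD, h'.card_zpowers]
  have hC := h.cent_eq_zpowers_of_card x y (hcard.trans hcD)
  intro a ha b hb
  rw [hC] at ha hb
  obtain ⟨i, rfl⟩ := Subgroup.mem_zpowers_iff.mp ha
  obtain ⟨j, rfl⟩ := Subgroup.mem_zpowers_iff.mp hb
  exact ((Commute.refl z).zpow_zpow i j).eq

theorem exists_comm_ne_one_of_noncomm {E : Type*} [Group E] (C : Subgroup E)
    (hnc : ¬ ∀ a ∈ C, ∀ b ∈ C, a * b = b * a) : ∃ a b : C, ⁅a, b⁆ ≠ 1 := by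
  push Not at hnc
  obtain ⟨a, ha, b, hb, hab⟩ := hnc
  refine ⟨⟨a, ha⟩, ⟨b, hb⟩, ?_⟩
  rw [Ne, commutatorElement_eq_one_iff_mul_comm]
  intro h
  exact hab (congrArg Subtype.val h)

/-- extraspecial-type groups of exponent `p` and the same order are isomorphic -/
theorem equiv_of_exponent {p : ℕ} [hp : Fact p.Prime] :
    ∀ (n : ℕ) {E : Type u} {F : Type v} [Group E] [Group F] [Finite E] [Finite F] (z : E) (z' : F),
      ESData p E z → ESData p F z' → (∃ x y : E, ⁅x, y⁆ ≠ 1) → (∃ x y : F, ⁅x, y⁆ ≠ 1) →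
      (∀ e : E, e ^ p = 1) → (∀ f : F, f ^ p = 1) → Nat.card E = n → Nat.card F = n →
      ∃ φ : E ≃* F, φ z = z' := by
  intro n
  induction n using Nat.strong_induction_on with
  | _ n ih =>
    intro E F _ _ _ _ z z' h h' hna hna' hexp hexp' hcE hcF
    obtain ⟨x, y₀, hxy₀⟩ := hna
    obtain ⟨j, hxy⟩ := h.exists_pair hxy₀
    obtain ⟨x', y₀', hxy₀'⟩ := hna'
    obtain ⟨j', hxy'⟩ := h'.exists_pair hxy₀'
    set y := y₀ ^ j with hy
    set y' := y₀' ^ j' with hy'
    have hP : P3Data p 0 0 x y z := h.p3Data hxy (by rw [hexp, pow_zero]) (by rw [hexp, pow_zero])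
    have hP' : P3Data p 0 0 x' y' z' :=
      h'.p3Data hxy' (by rw [hexp', pow_zero]) (by rw [hexp', pow_zero])
    have hcC := h.card_eq_sq_mul_card_cent hxy
    have hcD := h'.card_eq_sq_mul_card_cent hxy'
    have hp2 : 0 < p ^ 2 := pow_pos hp.1.pos 2
    have hcard : Nat.card (ESData.cent x y) = Nat.card (ESData.cent x' y') := by
      have : p ^ 2 * Nat.card (ESData.cent x y) = p ^ 2 * Nat.card (ESData.cent x' y') := by
        rw [← hcC, ← hcD, hcE, hcF]
      exact Nat.eq_of_mul_eq_mul_left hp2 this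
    by_cases hc : ∀ a ∈ ESData.cent x y, ∀ b ∈ ESData.cent x y, a * b = b * a
    · have hC := h.cent_eq_of_comm hxy hc
      have hcC' : Nat.card (ESData.cent x y) = p := by rw [hC, h.card_zpowers]
      have hD := h'.cent_eq_zpowers_of_card x' y' (hcard.symm.trans hcC')
      exact equiv_of_gen_top hP hP' (h.gen_eq_top_of_cent hxy hC) (h'.gen_eq_top_of_cent hxy' hD)
    · have hc' := cent_noncomm_transfer h h' hxy hxy' hcard hc
      have hlt : Nat.card (ESData.cent x y) < n := by
        rw [← hcE, hcC]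
        have hpos : 0 < Nat.card (ESData.cent x y) := Nat.card_pos
        have h4 : 2 ≤ p ^ 2 := by
          have := hp.1.two_le
          nlinarith
        nlinarith
      obtain ⟨φ₂, hφ₂⟩ := ih _ hlt (⟨z, h.z_mem_cent x y⟩ : ESData.cent x y)
        (⟨z', h'.z_mem_cent x' y'⟩ : ESData.cent x' y') (h.esData_cent hxy) (h'.esData_cent hxy')
        (exists_comm_ne_one_of_noncomm _ hc) (exists_comm_ne_one_of_noncomm _ hc')
        (fun e => Subtype.ext (by rw [Subgroup.coe_pow]; exact hexp e))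
        (fun e => Subtype.ext (by rw [Subgroup.coe_pow]; exact hexp' e)) rfl hcard.symm
      obtain ⟨φ₁, -, -, hφ₁⟩ := hP.model_equiv hP'
      exact glue _ _ _ _ z z' (fun a ha c hc => ESData.commute_gen_cent ha hc)
        (fun a ha c hc => ESData.commute_gen_cent ha hc) (h.exists_mul_decomp hxy)
        (h'.exists_mul_decomp hxy') (h.inf_eq hxy) (h'.inf_eq hxy') φ₁ φ₂ hφ₁
        (fun hz => by rw [hφ₂])

end Cfsg.Agent.Lib.Helper20.ES
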