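import Mathlib
import Cfsg.Agent.Lib.Helper20.ESOdd

/-!
Helper lemmas (helper20): extraspecial 2-groups: counting the elements of square one along a
central decomposition `E = D₈ ∘ C`.
-/

set_option autoImplicit false
open scoped commutatorElement

namespace Cfsg.Agent.Lib.Helper20.ES

universe u v

namespace ESData

variable {E : Type*} [Group E] {z : E}

theorem z_inv (h : ESData 2 E z) : z⁻¹ = z := by
  rw [inv_eq_iff_mul_eq_one, ← pow_two]; exact h.z_pow

theorem mem_zpowers_two (h : ESData 2 E z) {w : E} (hw : w ∈ Subgroup.zpowers z) :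
    w = 1 ∨ w = z := by
  obtain ⟨k, rfl⟩ := Subgroup.mem_zpowers_iff.mp hw
  rcases Int.even_or_odd' k with ⟨m, rfl | rfl⟩
  · left
    rw [zpow_mul, zpow_ofNat, h.z_pow, one_zpow]
  · right
    rw [zpow_add, zpow_mul, zpow_ofNat, h.z_pow, one_zpow, one_mul, zpow_one]

theorem sq_eq (h : ESData 2 E z) (e : E) : e ^ 2 = 1 ∨ e ^ 2 = z :=
  h.mem_zpowers_two (h.pow_mem e)

theorem comm_eq (h : ESData 2 E z) (a b : E) : ⁅a, b⁆ = 1 ∨ ⁅a, b⁆ = z :=
  h.mem_zpowers_two (h.comm_mem a b)

/-- the product map `{1, x} × {1, y} × C → E` -/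
def prodMap (x y : E) (t : (Bool × Bool) × cent x y) : E :=
  (bif t.1.1 then x else 1) * (bif t.1.2 then y else 1) * (t.2 : E)

theorem comm_x_prodMap (h : ESData 2 E z) {x y : E} (hxy : ⁅x, y⁆ = z)
    (t : (Bool × Bool) × cent x y) : ⁅x, prodMap x y t⁆ = bif t.1.2 then z else 1 := by
  obtain ⟨⟨i, j⟩, c⟩ := t
  have hc : ⁅x, (c : E)⁆ = 1 := (mem_cent.mp c.2).1
  unfold prodMap
  rw [h.comm_mul_right, h.comm_mul_right, hc, mul_one]
  cases i <;> cases j <;> simp [hxy]

theorem comm_y_prodMap (h : ESData 2 E z) {x y : E} (hxy : ⁅x, y⁆ = z)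
    (t : (Bool × Bool) × cent x y) : ⁅y, prodMap x y t⁆ = bif t.1.1 then z else 1 := by
  obtain ⟨⟨i, j⟩, c⟩ := t
  have hc : ⁅y, (c : E)⁆ = 1 := (mem_cent.mp c.2).2
  have hyx : ⁅y, x⁆ = z := by rw [← commutatorElement_inv, hxy, h.z_inv]
  unfold prodMap
  rw [h.comm_mul_right, h.comm_mul_right, hc, mul_one]
  cases i <;> cases j <;> simp [hyx]

theorem prodMap_injective (h : ESData 2 E z) {x y : E} (hxy : ⁅x, y⁆ = z) :
    Function.Injective (prodMap x y) := by
  intro t t' htt
  have h1 := h.comm_x_prodMap hxy t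
  have h2 := h.comm_y_prodMap hxy t
  rw [htt, h.comm_x_prodMap hxy t'] at h1
  rw [htt, h.comm_y_prodMap hxy t'] at h2
  obtain ⟨⟨i, j⟩, c⟩ := t
  obtain ⟨⟨i', j'⟩, c'⟩ := t'
  have hz := h.z_ne
  have hj : j = j' := by
    revert h1; cases j <;> cases j' <;> simp [hz, eq_comm]
  have hi : i = i' := by
    revert h2; cases i <;> cases i' <;> simp [hz, eq_comm]
  subst hi hj
  have : (c : E) = c' := by
    unfold prodMap at htt
    exact mul_left_cancel htt
  rw [Subtype.ext this]

theorem prodMap_bijective [Finite E] (h : ESData 2 E z) {x y : E} (hxy : ⁅x, y⁆ = z) :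
    Function.Bijective (prodMap x y) := by
  haveI : Fact (Nat.Prime 2) := ⟨Nat.prime_two⟩
  apply (h.prodMap_injective hxy).bijective_of_nat_card_le
  rw [h.card_eq_sq_mul_card_cent hxy, Nat.card_prod, Nat.card_prod]
  simp

theorem prodMap_sq (h : ESData 2 E z) {x y : E} (hx : x ^ 2 = 1) (hy : y ^ 2 = 1)
    (hxy : ⁅x, y⁆ = z) (t : (Bool × Bool) × cent x y) :
    (prodMap x y t) ^ 2 = (bif (t.1.1 && t.1.2) then z else 1) * (t.2 : E) ^ 2 := by
  obtain ⟨⟨i, j⟩, c⟩ := t
  have hxc : x * (c : E) = c * x := by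
    rw [← commutatorElement_eq_one_iff_mul_comm]; exact (mem_cent.mp c.2).1
  have hyc : y * (c : E) = c * y := by
    rw [← commutatorElement_eq_one_iff_mul_comm]; exact (mem_cent.mp c.2).2
  have hxinv : x⁻¹ = x := by rw [inv_eq_iff_mul_eq_one, ← pow_two]; exact hx
  have hyinv : y⁻¹ = y := by rw [inv_eq_iff_mul_eq_one, ← pow_two]; exact hy
  have hxyxy : x * y * x * y = z := by
    rw [← hxy, commutatorElement_def, hxinv, hyinv]
  unfold prodMap
  cases i <;> cases j
  · simp
  · simp only [cond_false, cond_true, one_mul, Bool.and_true, Bool.false_and]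
    rw [pow_two, pow_two, mul_assoc, ← mul_assoc (c : E), ← hyc, mul_assoc, ← mul_assoc, ← pow_two,
      hy, one_mul]
  · simp only [cond_false, cond_true, mul_one, Bool.and_false, one_mul]
    rw [pow_two, pow_two, mul_assoc, ← mul_assoc (c : E), ← hxc, mul_assoc, ← mul_assoc, ← pow_two,
      hx, one_mul]
  · simp only [cond_true, Bool.and_self]
    have hcomm : (x * y) * (c : E) = c * (x * y) := by
      rw [mul_assoc, hyc, ← mul_assoc, hxc, mul_assoc]
    rw [pow_two, pow_two, mul_assoc, ← mul_assoc (c : E), ← hcomm, mul_assoc, ← mul_assoc,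
      ← mul_assoc, ← hxyxy]
    group

/-- the counting formula along `E = D₈ ∘ C` -/
theorem count_sq [Finite E] (h : ESData 2 E z) {x y : E} (hx : x ^ 2 = 1) (hy : y ^ 2 = 1)
    (hxy : ⁅x, y⁆ = z) :
    Nat.card {e : E // e ^ 2 = 1} =
      2 * Nat.card {c : cent x y // c ^ 2 = 1} + Nat.card (cent x y) := by
  classical
  have e1 : {e : E // e ^ 2 = 1} ≃
      {t : (Bool × Bool) × cent x y // (prodMap x y t) ^ 2 = 1} :=
    ((Equiv.ofBijective _ (h.prodMap_bijective hxy)).subtypeEquiv (fun t => Iff.rfl)).symm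
  have e2 : {t : (Bool × Bool) × cent x y // (prodMap x y t) ^ 2 = 1} ≃
      {t : (Bool × Bool) × cent x y //
        (bif (t.1.1 && t.1.2) then z else 1) * (t.2 : E) ^ 2 = 1} :=
    Equiv.subtypeEquivRight (fun t => by rw [h.prodMap_sq hx hy hxy])
  have e3 := Equiv.subtypeProdEquivSigmaSubtype
    (fun (ij : Bool × Bool) (c : cent x y) => (bif (ij.1 && ij.2) then z else 1) * (c : E) ^ 2 = 1)
  rw [Nat.card_congr e1, Nat.card_congr e2, Nat.card_congr e3, Nat.card_sigma,
    Fintype.sum_prod_type, Fintype.sum_bool, Fintype.sum_bool, Fintype.sum_bool]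
  simp only [Bool.and_true, Bool.and_false, Bool.and_self, cond_true, cond_false, one_mul]
  have hA : Nat.card {c : cent x y // (c : E) ^ 2 = 1} = Nat.card {c : cent x y // c ^ 2 = 1} :=
    Nat.card_congr (Equiv.subtypeEquivRight (fun c => by
      constructor
      · intro hc; exact Subtype.ext (by rw [Subgroup.coe_pow]; exact hc)
      · intro hc
        have := congrArg Subtype.val hc
        rwa [Subgroup.coe_pow] at this))
  have hB : Nat.card {c : cent x y // z * (c : E) ^ 2 = 1} =
      Nat.card {c : cent x y // ¬ c ^ 2 = 1} :=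
    Nat.card_congr (Equiv.subtypeEquivRight (fun c => by
      have hcc : (c ^ 2 = 1) ↔ ((c : E) ^ 2 = 1) := by
        constructor
        · intro hc
          have := congrArg Subtype.val hc
          rwa [Subgroup.coe_pow] at this
        · intro hc; exact Subtype.ext (by rw [Subgroup.coe_pow]; exact hc)
      rw [hcc]
      rcases h.sq_eq (c : E) with h1 | h1
      · rw [h1, mul_one]
        exact ⟨fun hz => absurd hz h.z_ne, fun hn => absurd rfl hn⟩
      · rw [h1, ← pow_two, h.z_pow]
        exact ⟨fun _ => h.z_ne, fun _ => rfl⟩))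
  have hC : Nat.card {c : cent x y // ¬ c ^ 2 = 1} =
      Nat.card (cent x y) - Nat.card {c : cent x y // c ^ 2 = 1} := by
    haveI := Fintype.ofFinite (cent x y)
    rw [Nat.card_eq_fintype_card, Nat.card_eq_fintype_card, Nat.card_eq_fintype_card,
      Fintype.card_subtype_compl]
  have hle : Nat.card {c : cent x y // c ^ 2 = 1} ≤ Nat.card (cent x y) :=
    Nat.card_le_card_of_injective _ Subtype.val_injective
  rw [hA, hB, hC]
  omega

/-- a noncentral involution has a partner involution with commutator `z` -/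
theorem exists_invol_pair (h : ESData 2 E z) {x : E} (hx : x ^ 2 = 1)
    (hxz : x ∉ Subgroup.zpowers z) : ∃ y : E, y ^ 2 = 1 ∧ ⁅x, y⁆ = z := by
  have hxc : x ∉ Subgroup.center E := fun hc => hxz (h.center_le x hc)
  rw [Subgroup.mem_center_iff] at hxc
  push Not at hxc
  obtain ⟨y₀, hy₀⟩ := hxc
  have hcomm : ⁅x, y₀⁆ = z := by
    rcases h.comm_eq x y₀ with h1 | h1
    · rw [commutatorElement_eq_one_iff_mul_comm] at h1
      exact absurd h1.symm hy₀
    · exact h1
  rcases h.sq_eq y₀ with h2 | h2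
  · exact ⟨y₀, h2, hcomm⟩
  · refine ⟨x * y₀, ?_, ?_⟩
    · have hxinv : x⁻¹ = x := by rw [inv_eq_iff_mul_eq_one, ← pow_two]; exact hx
      have h3 : x * y₀ * x = z * y₀ := by
        rw [← hcomm, commutatorElement_def, hxinv]; group
      rw [pow_two, ← mul_assoc, h3, mul_assoc, ← pow_two, h2, ← pow_two, h.z_pow]
    · rw [h.comm_mul_right, commutatorElement_self, one_mul, hcomm]

/-- without noncentral involutions: the quaternion case -/
theorem quat_case (h : ESData 2 E z) (hnci : ∀ e : E, e ^ 2 = 1 → e ∈ Subgroup.zpowers z)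
    {x y : E} (hxy : ⁅x, y⁆ = z) :
    x ^ 2 = z ∧ y ^ 2 = z ∧ cent x y = Subgroup.zpowers z := by
  have hxz : x ∉ Subgroup.zpowers z := by
    intro hx
    have := Subgroup.mem_center_iff.mp (h.zpowers_le_center hx) y
    have h1 : ⁅x, y⁆ = 1 := by rw [commutatorElement_eq_one_iff_mul_comm]; exact this.symm
    rw [hxy] at h1
    exact h.z_ne h1
  have hyz : y ∉ Subgroup.zpowers z := by
    intro hy
    have := Subgroup.mem_center_iff.mp (h.zpowers_le_center hy) x
    have h1 : ⁅x, y⁆ = 1 := by rw [commutatorElement_eq_one_iff_mul_comm]; exact this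
    rw [hxy] at h1
    exact h.z_ne h1
  have hx2 : x ^ 2 = z := by
    rcases h.sq_eq x with h1 | h1
    · exact absurd (hnci x h1) hxz
    · exact h1
  have hy2 : y ^ 2 = z := by
    rcases h.sq_eq y with h1 | h1
    · exact absurd (hnci y h1) hyz
    · exact h1
  refine ⟨hx2, hy2, ?_⟩
  apply le_antisymm
  · intro c hc
    by_contra hcz
    have hc2 : c ^ 2 = z := by
      rcases h.sq_eq c with h1 | h1
      · exact absurd (hnci c h1) hcz
      · exact h1
    have hxc : x * c = c * x := by
      rw [← commutatorElement_eq_one_iff_mul_comm]; exact (mem_cent.mp hc).1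
    have h3 : (x * c) ^ 2 = 1 := by
      rw [pow_two, mul_assoc, ← mul_assoc c, ← hxc, mul_assoc, ← mul_assoc, ← pow_two, ← pow_two,
        hx2, hc2, ← pow_two, h.z_pow]
    have h4 : x * c ∈ cent x y := by
      have := hnci _ h3
      have hle : Subgroup.zpowers z ≤ cent x y := by
        rw [Subgroup.zpowers_le]; exact h.z_mem_cent x y
      exact hle this
    have h5 : x ∈ cent x y := by
      have := (cent x y).mul_mem h4 ((cent x y).inv_mem hc)
      rwa [mul_inv_cancel_right] at this
    have h6 : ⁅y, x⁆ = 1 := (mem_cent.mp h5).2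
    rw [← commutatorElement_inv, hxy, h.z_inv] at h6
    exact h.z_ne h6
  · rw [Subgroup.zpowers_le]; exact h.z_mem_cent x y

theorem card_sq_of_quat (h : ESData 2 E z)
    (hnci : ∀ e : E, e ^ 2 = 1 → e ∈ Subgroup.zpowers z) :
    Nat.card {e : E // e ^ 2 = 1} = 2 := by
  haveI : Fact (Nat.Prime 2) := ⟨Nat.prime_two⟩
  refine (Nat.card_congr ?_).trans h.card_zpowers
  exact Equiv.subtypeEquivRight (fun e => by
    constructor
    · exact hnci e
    · intro he
      rcases h.mem_zpowers_two he with rfl | rfl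
      · exact one_pow 2
      · exact h.z_pow)

theorem two_le_card_cent [Finite E] (h : ESData 2 E z) (x y : E) : 2 ≤ Nat.card (cent x y) := by
  haveI : Fact (Nat.Prime 2) := ⟨Nat.prime_two⟩
  rw [← h.card_zpowers]
  apply Subgroup.card_le_of_le
  rw [Subgroup.zpowers_le]; exact h.z_mem_cent x y

theorem card_sq_cent_of_comm [Finite E] (h : ESData 2 E z) {x y : E}
    (hC : cent x y = Subgroup.zpowers z) : Nat.card {c : cent x y // c ^ 2 = 1} = 2 := by
  haveI : Fact (Nat.Prime 2) := ⟨Nat.prime_two⟩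
  have h1 : Nat.card {c : cent x y // c ^ 2 = 1} = Nat.card (cent x y) := by
    apply Nat.card_congr
    refine Equiv.subtypeUnivEquiv (fun c => ?_)
    have hc : (c : E) ∈ Subgroup.zpowers z := by rw [← hC]; exact c.2
    apply Subtype.ext
    rw [Subgroup.coe_pow]
    rcases h.mem_zpowers_two hc with h2 | h2
    · rw [h2]; exact one_pow 2
    · rw [h2]; exact h.z_pow
  rw [h1, hC, h.card_zpowers]

end ESData

end Cfsg.Agent.Lib.Helper20.ES
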