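import Mathlib
import Cfsg.Prelude.Def_Transfer
import Cfsg.Agent.Lib.Helper20.ESTwo
import Cfsg.Agent.Lib.Helper20.ESCriterion

/-!
Helper lemmas (helper20): an extraspecial 2-subgroup `Q` of an ambient group, elementwise facts.
-/

set_option autoImplicit false
open scoped commutatorElement

namespace Cfsg.Agent.Lib.Helper20.ES

namespace ESData

variable {p : ℕ} {E : Type*} [Group E] {z : E}

theorem comm_mul_left (h : ESData p E z) (a b y : E) : ⁅a * b, y⁆ = ⁅a, y⁆ * ⁅b, y⁆ := by
  have h1 : ⁅a * b, y⁆ = (⁅y, a * b⁆)⁻¹ := (commutatorElement_inv y (a * b)).symm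
  rw [h1, h.comm_mul_right, mul_inv_rev, commutatorElement_inv, commutatorElement_inv]
  exact (Subgroup.mem_center_iff.mp (h.comm_central a y) _)

theorem comm_inv_left (h : ESData p E z) (x y : E) : ⁅x⁻¹, y⁆ = ⁅x, y⁆⁻¹ := by
  have := h.comm_zpow_left x y (-1)
  simpa using this

/-- the double centralizer of a noncentral element -/
theorem cent_cent (h : ESData 2 E z) {u : E} (hu : u ∉ Subgroup.zpowers z) (w : E)
    (hw : ∀ c : E, c * u = u * c → c * w = w * c) :
    w ∈ Subgroup.zpowers z ∨ w * u⁻¹ ∈ Subgroup.zpowers z := by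
  have hnc : ∃ s : E, ⁅s, u⁆ ≠ 1 := by
    by_contra hcon
    push Not at hcon
    apply hu
    apply h.center_le
    rw [Subgroup.mem_center_iff]
    intro e
    exact commutatorElement_eq_one_iff_mul_comm.mp (hcon e)
  obtain ⟨s, hs⟩ := hnc
  have hsu : ⁅s, u⁆ = z := (h.comm_eq s u).resolve_left hs
  have key : ∀ w' : E, (∀ c : E, c * u = u * c → c * w' = w' * c) → ⁅s, w'⁆ = 1 →
      w' ∈ Subgroup.zpowers z := by
    intro w' hw' hsw'
    apply h.center_le
    rw [Subgroup.mem_center_iff]
    intro e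
    have hsw : s * w' = w' * s := commutatorElement_eq_one_iff_mul_comm.mp hsw'
    rcases h.comm_eq e u with he | he
    · exact hw' e (commutatorElement_eq_one_iff_mul_comm.mp he)
    · have h1 : ⁅s⁻¹ * e, u⁆ = 1 := by
        rw [h.comm_mul_left, h.comm_inv_left, hsu, he, inv_mul_cancel]
      have h2 := hw' _ (commutatorElement_eq_one_iff_mul_comm.mp h1)
      have h3 : e = s * (s⁻¹ * e) := by group
      rw [h3, mul_assoc, h2, ← mul_assoc, hsw, mul_assoc]
  rcases h.comm_eq s w with hsw | hsw
  · left; exact key w hw hsw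
  · right
    apply key
    · intro c hc
      have h1 := hw c hc
      have h2 : c * u⁻¹ = u⁻¹ * c := by
        have : u⁻¹ * (c * u) * u⁻¹ = u⁻¹ * (u * c) * u⁻¹ := by rw [hc]
        have := this
        simp [mul_assoc] at this
        exact this.symm
      rw [← mul_assoc, h1, mul_assoc, h2, mul_assoc]
    · rw [h.comm_mul_right, h.comm_inv_right, hsw, hsu, mul_inv_cancel]

/-- an automorphism fixing `C_E(u)` pointwise is the identity or conjugation by `u` -/
theorem aut_of_fix_cent (h : ESData 2 E z) {u : E} (hu : u ∉ Subgroup.zpowers z) (huu : u * u = 1)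
    (α : E ≃* E) (hα : ∀ c : E, c * u = u * c → α c = c) :
    (∀ e, α e = e) ∨ (∀ e, α e = u * e * u⁻¹) := by
  have hnc : ∃ s : E, ⁅s, u⁆ ≠ 1 := by
    by_contra hcon
    push Not at hcon
    apply hu
    apply h.center_le
    rw [Subgroup.mem_center_iff]
    intro e
    exact commutatorElement_eq_one_iff_mul_comm.mp (hcon e)
  obtain ⟨s, hs⟩ := hnc
  have hsu : ⁅s, u⁆ = z := (h.comm_eq s u).resolve_left hs
  have hzfix : ∀ w ∈ Subgroup.zpowers z, α w = w := by
    intro w hw
    apply hα
    exact (Subgroup.mem_center_iff.mp (h.zpowers_le_center hw) u).symm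
  have huinv : u⁻¹ = u := inv_eq_of_mul_eq_one_right huu
  -- decomposition: every element is in `C(u)` or `s * C(u)`
  have hdec : ∀ e : E, e * u = u * e ∨ (s⁻¹ * e) * u = u * (s⁻¹ * e) := by
    intro e
    rcases h.comm_eq e u with he | he
    · left; exact commutatorElement_eq_one_iff_mul_comm.mp he
    · right
      apply commutatorElement_eq_one_iff_mul_comm.mp
      rw [h.comm_mul_left, h.comm_inv_left, hsu, he, inv_mul_cancel]
  -- two automorphisms agreeing on `C(u)` and `s` agree
  have hagree : ∀ β : E ≃* E, (∀ c : E, c * u = u * c → β c = α c) → β s = α s →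
      ∀ e, β e = α e := by
    intro β hβ hβs e
    rcases hdec e with he | he
    · exact hβ e he
    · have h3 : e = s * (s⁻¹ * e) := by group
      rw [h3, map_mul β s, map_mul α s, hβs, hβ _ he]
  set c := s⁻¹ * α s with hc
  have hcP : ∀ p : E, p * u = u * p → p * c = c * p := by
    intro p hp
    have hp' : (s * p * s⁻¹) * u = u * (s * p * s⁻¹) := by
      apply commutatorElement_eq_one_iff_mul_comm.mp
      rw [h.comm_mul_left, h.comm_mul_left, h.comm_inv_left, hsu,
        commutatorElement_eq_one_iff_mul_comm.mpr hp, mul_one, mul_inv_cancel]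
    have e1 : α p = p := hα p hp
    have e2 : α (s * p * s⁻¹) = s * p * s⁻¹ := hα _ hp'
    rw [map_mul, map_mul, map_inv, e1] at e2
    have : c * p * c⁻¹ = p := by
      calc c * p * c⁻¹ = s⁻¹ * (α s * p * (α s)⁻¹) * s := by rw [hc]; group
        _ = s⁻¹ * (s * p * s⁻¹) * s := by rw [e2]
        _ = p := by group
    exact (mul_inv_eq_iff_eq_mul.mp this).symm
  have hsq : α s * α s = s * s := by
    rw [← map_mul]
    apply hzfix
    have := h.pow_mem s
    rwa [pow_two] at this
  have hαs : α s = s * c := by rw [hc]; group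
  -- the identity `(s c)² = s² c² ⁅c, s⁆`
  have hquad : ∀ d : E, (s * d) * (s * d) = s * s * (d * d * ⁅d, s⁆) := by
    intro d
    have hcen := Subgroup.mem_center_iff.mp (h.comm_central d s)
    have h1 : d * s = ⁅d, s⁆ * (s * d) := by rw [commutatorElement_def]; group
    calc (s * d) * (s * d) = s * (d * s) * d := by group
      _ = s * (⁅d, s⁆ * (s * d)) * d := by rw [h1]
      _ = s * (⁅d, s⁆ * s) * (d * d) := by group
      _ = s * (s * ⁅d, s⁆) * (d * d) := by rw [hcen s]
      _ = s * s * (⁅d, s⁆ * (d * d)) := by group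
      _ = s * s * (d * d * ⁅d, s⁆) := by rw [hcen (d * d)]
  have hcond : c * c * ⁅c, s⁆ = 1 := by
    have := hquad c
    rw [← hαs, hsq] at this
    exact (mul_eq_left.mp this.symm)
  have hus : ⁅u, s⁆ = z := by
    rw [← commutatorElement_inv, hsu, h.z_inv]
  rcases h.cent_cent hu c hcP with hcz | hcz
  · rcases h.mem_zpowers_two hcz with h1 | h1
    · left
      intro e
      have := hagree (MulEquiv.refl E) (fun c' hc' => (hα c' hc').symm) (by
        rw [hαs, h1, mul_one]; rfl) e
      exact this.symm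
    · right
      intro e
      have := hagree (MulAut.conj u) (fun c' hc' => by
        rw [MulAut.conj_apply, hα c' hc', ← hc', mul_inv_cancel_right]) (by
        rw [MulAut.conj_apply, hαs, h1]
        have : u * s * u⁻¹ = ⁅u, s⁆ * s := by rw [commutatorElement_def]; group
        rw [this, hus]
        exact Subgroup.mem_center_iff.mp h.z_central s |>.symm) e
      rw [← this, MulAut.conj_apply]
  · exfalso
    rw [huinv] at hcz
    have hcu : c = (c * u) * u := by rw [mul_assoc, huu, mul_one]
    have hzc := Subgroup.mem_center_iff.mp (h.zpowers_le_center hcz)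
    have h1 : ⁅c, s⁆ = z := by
      rw [hcu, h.comm_mul_left, hus,
        commutatorElement_eq_one_iff_mul_comm.mpr (hzc s).symm, one_mul]
    have h2 : c * c = 1 := by
      have h3 : c * c = (c * u) * (c * u) * (u * u) := by
        calc c * c = ((c * u) * u) * ((c * u) * u) := by rw [← hcu]
          _ = (c * u) * (u * (c * u)) * u := by group
          _ = (c * u) * ((c * u) * u) * u := by rw [hzc u]
          _ = (c * u) * (c * u) * (u * u) := by group
      rw [h3, huu, mul_one]
      rcases h.mem_zpowers_two hcz with h4 | h4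
      · rw [h4, one_mul]
      · rw [h4, ← pow_two, h.z_pow]
    rw [h1, h2, one_mul] at hcond
    exact h.z_ne hcond

end ESData

/-- elementwise facts about an extraspecial 2-subgroup of an ambient group -/
structure Amb {G : Type*} [Group G] (Q : Subgroup G) (zG : G) : Prop where
  zQ : zG ∈ Q
  z1 : zG ≠ 1
  zz : zG * zG = 1
  zc : ∀ q ∈ Q, q * zG = zG * q
  comm : ∀ x ∈ Q, ∀ y ∈ Q, ⁅x, y⁆ = 1 ∨ ⁅x, y⁆ = zG
  sq : ∀ x ∈ Q, x * x = 1 ∨ x * x = zG
  cen : ∀ w ∈ Q, (∀ q ∈ Q, q * w = w * q) → w = 1 ∨ w = zG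
  dcen : ∀ u ∈ Q, u ≠ 1 → u ≠ zG → ∀ w ∈ Q, (∀ c ∈ Q, c * u = u * c → c * w = w * c) →
    w = 1 ∨ w = zG ∨ w * u⁻¹ = 1 ∨ w * u⁻¹ = zG
  center_eq : (Subgroup.center ↥Q).map Q.subtype = Subgroup.zpowers zG
  mem_zpowers : ∀ w, w ∈ Subgroup.zpowers zG ↔ w = 1 ∨ w = zG
  pgroup : IsPGroup 2 ↥Q

theorem exists_amb {G : Type*} [Group G] [Finite G] (Q : Subgroup G)
    (hES : Cfsg.IsExtraspecial 2 ↥Q) : ∃ z : ↥Q, ESData 2 ↥Q z ∧ Amb Q (z : G) := by
  haveI : Fact (Nat.Prime 2) := ⟨Nat.prime_two⟩
  obtain ⟨z, hz⟩ := exists_esData hES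
  have hz2 : (z : G) * (z : G) = 1 := by
    have := congrArg Subtype.val hz.z_pow
    simpa [pow_two] using this
  have hmem : ∀ w : G, w ∈ Subgroup.zpowers (z : G) ↔ w = 1 ∨ w = (z : G) := by
    intro w
    constructor
    · intro hw
      obtain ⟨k, rfl⟩ := Subgroup.mem_zpowers_iff.mp hw
      rcases Int.even_or_odd' k with ⟨m, rfl | rfl⟩
      · left
        rw [zpow_mul, zpow_ofNat, pow_two, hz2, one_zpow]
      · right
        rw [zpow_add, zpow_mul, zpow_ofNat, pow_two, hz2, one_zpow, one_mul, zpow_one]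
    · rintro (rfl | rfl)
      · exact Subgroup.one_mem _
      · exact Subgroup.mem_zpowers _
  have hval : ∀ w : ↥Q, w ∈ Subgroup.zpowers z → (w : G) = 1 ∨ (w : G) = (z : G) := by
    intro w hw
    rcases hz.mem_zpowers_two hw with h | h
    · left; rw [h]; rfl
    · right; rw [h]
  refine ⟨z, hz, z.2, fun h => hz.z_ne (Subtype.ext h), hz2, ?_, ?_, ?_, ?_, ?_, ?_, hmem,
    hz.isPGroup⟩
  · intro q hq
    have := Subgroup.mem_center_iff.mp hz.z_central ⟨q, hq⟩
    exact congrArg Subtype.val this
  · intro x hx y hy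
    have := hval _ (hz.comm_mem ⟨x, hx⟩ ⟨y, hy⟩)
    simpa [commutatorElement_def] using this
  · intro x hx
    have := hval _ (hz.pow_mem ⟨x, hx⟩)
    simpa [pow_two] using this
  · intro w hw hcomm
    apply hval ⟨w, hw⟩
    apply hz.center_le
    rw [Subgroup.mem_center_iff]
    intro q
    exact Subtype.ext (hcomm q q.2)
  · intro u hu hu1 huz w hw hcomm
    have hun : (⟨u, hu⟩ : ↥Q) ∉ Subgroup.zpowers z := by
      intro h
      rcases hval _ h with h' | h'
      · exact hu1 h'
      · exact huz h'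
    rcases hz.cent_cent hun ⟨w, hw⟩ (fun c hc => Subtype.ext
        (hcomm c c.2 (congrArg Subtype.val hc))) with h | h
    · rcases hval _ h with h' | h'
      · exact Or.inl h'
      · exact Or.inr (Or.inl h')
    · rcases hval _ h with h' | h'
      · exact Or.inr (Or.inr (Or.inl (by simpa using h')))
      · exact Or.inr (Or.inr (Or.inr (by simpa using h')))
  · rw [hz.center_eq, MonoidHom.map_zpowers]
    rfl

end Cfsg.Agent.Lib.Helper20.ES
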