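import Mathlib
import Cfsg.Agent.Lib.Helper4.Klein1

/-!
Helper lemmas (helper20): index of a centralizer via conjugates; `|N(T) : C(T)| = 6` for a four-group `T`
whose normalizer induces two different transpositions.
-/

set_option autoImplicit false

namespace Cfsg.Agent.Lib.Helper20.KleinIndex

open Cfsg.Agent.Lib.Helper4

variable {G : Type*} [Group G]

/-- orbit–stabilizer for conjugation by a subgroup -/
theorem relIndex_inf_centralizer_eq_ncard (K : Subgroup G) (x : G) :
    (K ⊓ Subgroup.centralizer ({x} : Set G)).relIndex K =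
      {y : G | ∃ k ∈ K, k * x * k⁻¹ = y}.ncard := by
  letI : MulAction ↥K G := MulAction.compHom G ((MulAut.conj).comp K.subtype)
  have hsmul : ∀ (k : ↥K) (y : G), k • y = (k : G) * y * (k : G)⁻¹ := fun k y => rfl
  have h1 : MulAction.stabilizer ↥K x =
      (K ⊓ Subgroup.centralizer ({x} : Set G)).subgroupOf K := by
    ext k
    rw [MulAction.mem_stabilizer_iff, hsmul, Subgroup.mem_subgroupOf, Subgroup.mem_inf,
      Subgroup.mem_centralizer_iff]
    constructor
    · intro h
      refine ⟨k.2, ?_⟩
      intro y hy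
      rw [Set.mem_singleton_iff] at hy
      subst hy
      exact (mul_inv_eq_iff_eq_mul.mp h).symm
    · rintro ⟨-, h⟩
      have := h x (Set.mem_singleton x)
      exact mul_inv_eq_iff_eq_mul.mpr this.symm
  have h2 : MulAction.orbit ↥K x = {y : G | ∃ k ∈ K, k * x * k⁻¹ = y} := by
    ext y
    constructor
    · rintro ⟨k, rfl⟩
      exact ⟨k, k.2, rfl⟩
    · rintro ⟨k, hk, rfl⟩
      exact ⟨⟨k, hk⟩, rfl⟩
  rw [Subgroup.relIndex, ← h1, MulAction.index_stabilizer, h2]

/-- `|N(T) : C(T)| = 6` for a four-group whose normalizer induces two transpositions -/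
theorem relIndex_klein_eq_six (a b : G) (ha : a * a = 1) (hb : b * b = 1) (hab : a * b = b * a)
    (ha1 : a ≠ 1) (hb1 : b ≠ 1) (hne : a ≠ b) (m n : G)
    (hm : m ∈ Subgroup.normalizer ((kleinOf a b ha hb hab : Subgroup G) : Set G))
    (hma : m * a * m⁻¹ = a) (hmb : m * b * m⁻¹ = a * b)
    (hn : n ∈ Subgroup.normalizer ((kleinOf a b ha hb hab : Subgroup G) : Set G))
    (hnb : n * b * n⁻¹ = b) (hna : n * a * n⁻¹ = a * b) :
    (Subgroup.centralizer ((kleinOf a b ha hb hab : Subgroup G) : Set G)).relIndex
      (Subgroup.normalizer ((kleinOf a b ha hb hab : Subgroup G) : Set G)) = 6 := by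
  set T := kleinOf a b ha hb hab with hT
  set N := Subgroup.normalizer (T : Set G) with hN
  set Na := N ⊓ Subgroup.centralizer ({a} : Set G) with hNa
  have haT : a ∈ T := mem_kleinOf.mpr (Or.inr (Or.inl rfl))
  have hbT : b ∈ T := mem_kleinOf.mpr (Or.inr (Or.inr (Or.inl rfl)))
  have hab1 : a * b ≠ 1 := by
    intro h
    apply hne
    have : a = b⁻¹ := eq_inv_of_mul_eq_one_left h
    rw [this, inv_eq_of_mul_eq_one_right hb]
  have haab : a ≠ a * b := fun h => hb1 (by
    have := mul_left_cancel ((mul_one a).trans h)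
    exact this.symm)
  have hbab : b ≠ a * b := fun h => ha1 (by
    have := mul_right_cancel ((one_mul b).trans h)
    exact this.symm)
  have hC : Subgroup.centralizer (T : Set G) = Na ⊓ Subgroup.centralizer ({b} : Set G) := by
    apply le_antisymm
    · intro x hx
      refine ⟨⟨Subgroup.centralizer_le_normalizer _ hx, ?_⟩, ?_⟩
      · show x ∈ Subgroup.centralizer ({a} : Set G)
        rw [Subgroup.mem_centralizer_iff]
        intro y hy
        rw [Set.mem_singleton_iff] at hy
        rw [hy]
        exact Subgroup.mem_centralizer_iff.mp hx a haT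
      · show x ∈ Subgroup.centralizer ({b} : Set G)
        rw [Subgroup.mem_centralizer_iff]
        intro y hy
        rw [Set.mem_singleton_iff] at hy
        rw [hy]
        exact Subgroup.mem_centralizer_iff.mp hx b hbT
    · intro x hx
      have hxa : x ∈ Subgroup.centralizer ({a} : Set G) := hx.1.2
      have hxb : x ∈ Subgroup.centralizer ({b} : Set G) := hx.2
      rw [Subgroup.mem_centralizer_iff] at hxa hxb ⊢
      intro y hy
      exact (commute_kleinOf hy (hxa a rfl).symm (hxb b rfl).symm).symm
  have conj_mem : ∀ k ∈ N, ∀ y ∈ T, k * y * k⁻¹ ∈ T := fun k hk y hy =>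
    (Subgroup.mem_normalizer_iff.mp hk y).mp hy
  have conj_ne : ∀ (k y : G), y ≠ 1 → k * y * k⁻¹ ≠ 1 := fun k y hy h =>
    hy (conj_eq_one_iff.mp h)
  have conj_inj : ∀ (k y y' : G), k * y * k⁻¹ = k * y' * k⁻¹ → y = y' := fun k y y' h =>
    mul_left_cancel (mul_right_cancel h)
  -- first index
  have h3 : Na.relIndex N = 3 := by
    rw [hNa, relIndex_inf_centralizer_eq_ncard]
    have hset : {y : G | ∃ k ∈ N, k * a * k⁻¹ = y} = {a, b, a * b} := by
      ext y
      simp only [Set.mem_setOf_eq, Set.mem_insert_iff, Set.mem_singleton_iff]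
      constructor
      · rintro ⟨k, hk, rfl⟩
        rcases mem_kleinOf.mp (conj_mem k hk a haT) with h | h | h | h
        · exact absurd h (conj_ne k a ha1)
        · exact Or.inl h
        · exact Or.inr (Or.inl h)
        · exact Or.inr (Or.inr h)
      · rintro (h | h | h)
        · rw [h]; exact ⟨1, N.one_mem, by simp⟩
        · rw [h]
          refine ⟨m * n, N.mul_mem hm hn, ?_⟩
          have h1 : m * n * a * (m * n)⁻¹ = m * (n * a * n⁻¹) * m⁻¹ := by group
          have h2 : m * (a * b) * m⁻¹ = (m * a * m⁻¹) * (m * b * m⁻¹) := by group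
          rw [h1, hna, h2, hma, hmb, ← mul_assoc, ha, one_mul]
        · rw [h]; exact ⟨n, hn, hna⟩
    rw [hset]
    exact Set.ncard_eq_three.mpr ⟨a, b, a * b, hne, haab, hbab, rfl⟩
  have h2 : (Subgroup.centralizer (T : Set G)).relIndex Na = 2 := by
    rw [hC, relIndex_inf_centralizer_eq_ncard]
    have hset : {y : G | ∃ k ∈ Na, k * b * k⁻¹ = y} = {b, a * b} := by
      ext y
      simp only [Set.mem_setOf_eq, Set.mem_insert_iff, Set.mem_singleton_iff]
      constructor
      · rintro ⟨k, hkk, rfl⟩
        have hk : k ∈ N := hkk.1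
        have hka : k ∈ Subgroup.centralizer ({a} : Set G) := hkk.2
        have hka' : k * a * k⁻¹ = a := by
          have := Subgroup.mem_centralizer_iff.mp hka a rfl
          rw [← this]; group
        rcases mem_kleinOf.mp (conj_mem k hk b hbT) with h | h | h | h
        · exact absurd h (conj_ne k b hb1)
        · exfalso
          exact hne (conj_inj k a b (hka'.trans h.symm))
        · exact Or.inl h
        · exact Or.inr h
      · rintro (h | h)
        · rw [h]; exact ⟨1, Na.one_mem, by simp⟩
        · rw [h]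
          refine ⟨m, ⟨hm, ?_⟩, hmb⟩
          show m ∈ Subgroup.centralizer ({a} : Set G)
          rw [Subgroup.mem_centralizer_iff]
          intro y hy
          rw [Set.mem_singleton_iff] at hy
          rw [hy]
          exact (mul_inv_eq_iff_eq_mul.mp hma).symm
    rw [hset]
    exact Set.ncard_pair hbab
  have hle1 : Subgroup.centralizer (T : Set G) ≤ Na := by rw [hC]; exact inf_le_left
  have hle2 : Na ≤ N := inf_le_left
  rw [← Subgroup.relIndex_mul_relIndex _ _ _ hle1 hle2, h2, h3]

end Cfsg.Agent.Lib.Helper20.KleinIndex
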