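import Mathlib
import Cfsg.Prelude.Def_MonsterType
import Cfsg.Agent.Lib.Helper20.ESAmbient
import Cfsg.Agent.Lib.Helper20.KleinIndex
import Cfsg.Agent.Lib.Helper17.CoprimeGen

/-!
Helper lemmas (helper20): `z^g ∈ Q ∖ Z` for an extraspecial 2-subgroup `Q` with `C(Q) = Z`, `Q ⊴ C(Z)`:
then `z ∈ Q^g`, `N(V)/C(V) ≅ S₃` for `V = ⟨z, z^g⟩`, and `Q` is large.
-/

set_option autoImplicit false
open scoped commutatorElement

namespace Cfsg.Agent.Lib.Helper20.ES

open Cfsg.Agent.Lib.Helper4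

/-- normalizers grow in finite `p`-groups (ambient form) -/
theorem exists_normalizing_of_ne {G : Type*} [Group G] [Finite G] {p : ℕ} [Fact p.Prime]
    (R S₁ : Subgroup G) (hR : IsPGroup p R) (hle : S₁ ≤ R) (hne : S₁ ≠ R) :
    ∃ m ∈ R, m ∈ Subgroup.normalizer (S₁ : Set G) ∧ m ∉ S₁ := by
  haveI : Group.IsNilpotent ↥R := hR.isNilpotent
  have nc := normalizerCondition_of_isNilpotent (G := ↥R)
  have hlt : S₁.subgroupOf R < ⊤ := by
    rw [lt_top_iff_ne_top]
    intro h
    rw [Subgroup.subgroupOf_eq_top] at h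
    exact hne (le_antisymm hle h)
  obtain ⟨m, hmN, hmS⟩ := SetLike.exists_of_lt (nc _ hlt)
  refine ⟨m, m.2, ?_, fun h => hmS (Subgroup.mem_subgroupOf.mpr h)⟩
  apply Subgroup.mem_normalizer_fintype
  intro n hn
  have hnR : n ∈ R := hle hn
  have h1 := (Subgroup.mem_normalizer_iff.mp hmN ⟨n, hnR⟩).mp (Subgroup.mem_subgroupOf.mpr hn)
  exact Subgroup.mem_subgroupOf.mp h1

/-- a maximal `p`-subgroup of `C` containing a given `p`-subgroup -/
theorem exists_max_pgroup_in {G : Type*} [Group G] [Finite G] (p : ℕ) [Fact p.Prime]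
    (C R₀ : Subgroup G) (hR₀ : IsPGroup p R₀) (hle : R₀ ≤ C) :
    ∃ S₁ : Subgroup G, R₀ ≤ S₁ ∧ S₁ ≤ C ∧ IsPGroup p S₁ ∧
      ∀ R : Subgroup G, IsPGroup p R → S₁ ≤ R → R ≤ C → R = S₁ := by
  have h0 : IsPGroup p (R₀.subgroupOf C) := hR₀.comap_subtype
  obtain ⟨S, hS⟩ := h0.exists_le_sylow
  refine ⟨(S : Subgroup ↥C).map C.subtype, ?_, Subgroup.map_subtype_le _, S.isPGroup'.map _, ?_⟩
  · intro x hx
    exact ⟨⟨x, hle hx⟩, hS (Subgroup.mem_subgroupOf.mpr hx), rfl⟩
  · intro R hR hSR hRC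
    have h1 : IsPGroup p (R.subgroupOf C) := hR.comap_subtype
    have h2 : (S : Subgroup ↥C) ≤ R.subgroupOf C := by
      intro x hx
      rw [Subgroup.mem_subgroupOf]
      exact hSR ⟨x, hx, rfl⟩
    have h3 := S.is_maximal' h1 h2
    rw [← h3, Subgroup.map_subgroupOf_eq_of_le hRC]

/-- an element normalizing `Q` and centralizing `C_Q(u)` lies in `⟨z, u⟩` -/
theorem mem_of_centralizes_cent {G : Type*} [Group G] (Q : Subgroup G) (z : ↥Q)
    (hz : ESData 2 ↥Q z)
    (hL2 : ∀ x : G, (∀ q ∈ Q, x * q = q * x) → x ∈ Subgroup.zpowers (z : G))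
    (u : G) (hu : u ∈ Q) (huz : (⟨u, hu⟩ : ↥Q) ∉ Subgroup.zpowers z) (huu : u * u = 1)
    (x : G) (hxN : x ∈ Subgroup.normalizer (Q : Set G))
    (hxP : ∀ q ∈ Q, q * u = u * q → x * q = q * x) :
    x ∈ Subgroup.zpowers (z : G) ∨ u⁻¹ * x ∈ Subgroup.zpowers (z : G) := by
  let α : MulAut ↥Q := Q.normalizerMonoidHom ⟨x, hxN⟩
  have hα : ∀ q : ↥Q, ((α q : ↥Q) : G) = x * q * x⁻¹ := fun q => rfl
  have hfix : ∀ c : ↥Q, c * ⟨u, hu⟩ = ⟨u, hu⟩ * c → α c = c := by
    intro c hc
    apply Subtype.ext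
    rw [hα]
    have := hxP c c.2 (congrArg Subtype.val hc)
    rw [this, mul_inv_cancel_right]
  rcases hz.aut_of_fix_cent huz (Subtype.ext huu) α hfix with h | h
  · left
    apply hL2
    intro q hq
    have := congrArg Subtype.val (h ⟨q, hq⟩)
    rw [hα] at this
    exact mul_inv_eq_iff_eq_mul.mp this
  · right
    apply hL2
    intro q hq
    have := congrArg Subtype.val (h ⟨q, hq⟩)
    rw [hα] at this
    simp only [Subgroup.coe_mul, Subgroup.coe_inv] at this
    have h2 : u⁻¹ * (x * q * x⁻¹) * u = q := by rw [this]; group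
    calc u⁻¹ * x * q = (u⁻¹ * (x * q * x⁻¹) * u) * (u⁻¹ * x) := by group
      _ = q * (u⁻¹ * x) := by rw [h2]

/-- the configuration data produced by the Sylow argument -/
theorem exists_transpositions {G : Type*} [Group G] [Finite G] (Q : Subgroup G) (z : ↥Q)
    (hz : ESData 2 ↥Q z) (hA : Amb Q (z : G))
    (hL2 : ∀ x : G, (∀ q ∈ Q, x * q = q * x) → x ∈ Subgroup.zpowers (z : G))
    (hL3 : ∀ x : G, x * (z : G) = (z : G) * x → x ∈ Subgroup.normalizer (Q : Set G))
    (g : G) (hu : g * (z : G) * g⁻¹ ∈ Q) (huz : g * (z : G) * g⁻¹ ≠ (z : G))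
    (huu : (g * (z : G) * g⁻¹) * (g * (z : G) * g⁻¹) = 1)
    (hzu : (z : G) * (g * (z : G) * g⁻¹) = (g * (z : G) * g⁻¹) * (z : G)) :
    ∃ m n : G,
      m ∈ Subgroup.normalizer
        ((kleinOf (z : G) (g * (z : G) * g⁻¹) hA.zz huu hzu : Subgroup G) : Set G) ∧
      m * (z : G) * m⁻¹ = (z : G) ∧
      m * (g * (z : G) * g⁻¹) * m⁻¹ = (z : G) * (g * (z : G) * g⁻¹) ∧
      n ∈ Subgroup.normalizer
        ((kleinOf (z : G) (g * (z : G) * g⁻¹) hA.zz huu hzu : Subgroup G) : Set G) ∧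
      n * (g * (z : G) * g⁻¹) * n⁻¹ = g * (z : G) * g⁻¹ ∧
      n * (z : G) * n⁻¹ = (z : G) * (g * (z : G) * g⁻¹) := by
  haveI : Fact (Nat.Prime 2) := ⟨Nat.prime_two⟩
  set zG : G := (z : G) with hzG
  set u : G := g * zG * g⁻¹ with hu_def
  set T := kleinOf zG u hA.zz huu hzu with hT
  have hu1 : u ≠ 1 := fun h => hA.z1 (conj_eq_one_iff.mp h)
  have hzT : zG ∈ T := mem_kleinOf.mpr (Or.inr (Or.inl rfl))
  have huT : u ∈ T := mem_kleinOf.mpr (Or.inr (Or.inr (Or.inl rfl)))
  have huzn : (⟨u, hu⟩ : ↥Q) ∉ Subgroup.zpowers z := by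
    intro h
    rcases hz.mem_zpowers_two h with h' | h'
    · exact hu1 (congrArg Subtype.val h')
    · exact huz (congrArg Subtype.val h')
  have hTQ : T ≤ Q := by
    intro x hx
    rcases mem_kleinOf.mp hx with rfl | rfl | rfl | rfl
    · exact Q.one_mem
    · exact hA.zQ
    · exact hu
    · exact Q.mul_mem hA.zQ hu
  -- the centralizer of `T`
  set C := Subgroup.centralizer (T : Set G) with hC
  have hCmem : ∀ x : G, x ∈ C ↔ x * zG = zG * x ∧ x * u = u * x := by
    intro x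
    constructor
    · intro hx
      exact ⟨(Subgroup.mem_centralizer_iff.mp hx zG hzT).symm,
        (Subgroup.mem_centralizer_iff.mp hx u huT).symm⟩
    · rintro ⟨h1, h2⟩
      rw [hC, Subgroup.mem_centralizer_iff]
      intro y hy
      exact (commute_kleinOf hy h1 h2).symm
  set P := Q ⊓ Subgroup.centralizer ({u} : Set G) with hP
  have hPmem : ∀ x : G, x ∈ P ↔ x ∈ Q ∧ x * u = u * x := by
    intro x
    rw [hP, Subgroup.mem_inf, Subgroup.mem_centralizer_iff]
    constructor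
    · rintro ⟨h1, h2⟩
      exact ⟨h1, (h2 u rfl).symm⟩
    · rintro ⟨h1, h2⟩
      refine ⟨h1, ?_⟩
      intro y hy
      rw [Set.mem_singleton_iff] at hy
      rw [hy]; exact h2.symm
  have hPC : P ≤ C := by
    intro x hx
    obtain ⟨h1, h2⟩ := (hPmem x).mp hx
    exact (hCmem x).mpr ⟨hA.zc x h1, h2⟩
  have hPQ : P ≤ Q := inf_le_left
  have hQ2 : IsPGroup 2 ↥Q := hA.pgroup
  have hP2 : IsPGroup 2 ↥P := hQ2.to_le hPQ
  obtain ⟨S₁, hPS, hSC, hS2, hSmax⟩ := exists_max_pgroup_in 2 C P hP2 hPC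
  have hTP : T ≤ P := by
    intro x hx
    rw [hPmem]
    refine ⟨hTQ hx, ?_⟩
    rcases mem_kleinOf.mp hx with rfl | rfl | rfl | rfl
    · simp
    · exact hzu
    · rfl
    · rw [← mul_assoc u zG u, ← hzu]
  have hTS : T ≤ S₁ := hTP.trans hPS
  -- centre of `S₁`
  have hcen : ∀ x ∈ S₁, (∀ y ∈ S₁, x * y = y * x) → x ∈ T := by
    intro x hx hxy
    have hxC := (hCmem x).mp (hSC hx)
    have hxN := hL3 x hxC.1
    have hxP : ∀ q ∈ Q, q * u = u * q → x * q = q * x := by
      intro q hq hqu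
      exact hxy q (hPS ((hPmem q).mpr ⟨hq, hqu⟩))
    rcases mem_of_centralizes_cent Q z hz hL2 u hu huzn huu x hxN hxP with h | h
    · rcases (hA.mem_zpowers x).mp h with rfl | rfl
      · exact T.one_mem
      · exact hzT
    · have hx' : x = u * (u⁻¹ * x) := by group
      rw [hx']
      exact T.mul_mem huT (by
        rcases (hA.mem_zpowers _).mp h with h' | h'
        · rw [h']; exact T.one_mem
        · rw [h']; exact hzT)
  have hNS : ∀ m ∈ Subgroup.normalizer (S₁ : Set G), m ∈ Subgroup.normalizer (T : Set G) := by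
    intro m hm
    apply Subgroup.mem_normalizer_fintype
    intro v hv
    apply hcen
    · exact (Subgroup.mem_normalizer_iff.mp hm v).mp (hTS hv)
    · intro y hy
      have hy' : m⁻¹ * y * m ∈ S₁ := by
        have := (Subgroup.mem_normalizer_iff.mp (Subgroup.inv_mem _ hm) y).mp hy
        simpa using this
      have hvy := Subgroup.mem_centralizer_iff.mp (hSC hy') v hv
      calc m * v * m⁻¹ * y = m * (v * (m⁻¹ * y * m)) * m⁻¹ := by group
        _ = m * ((m⁻¹ * y * m) * v) * m⁻¹ := by rw [hvy]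
        _ = y * (m * v * m⁻¹) := by group
  -- conjugates in `T`
  have hconjT : ∀ m ∈ Subgroup.normalizer (T : Set G), ∀ v ∈ T, m * v * m⁻¹ ∈ T := fun m hm v hv =>
    (Subgroup.mem_normalizer_iff.mp hm v).mp hv
  have hstep : ∀ Q₁ : Subgroup G, IsPGroup 2 ↥Q₁ → S₁ ≤ Subgroup.normalizer (Q₁ : Set G) →
      ¬ Q₁ ≤ S₁ → ∃ m ∈ S₁ ⊔ Q₁, m ∈ Subgroup.normalizer (S₁ : Set G) ∧ m ∉ C := by
    intro Q₁ hQ₁ hSN hnle
    have hR2 : IsPGroup 2 ↥(S₁ ⊔ Q₁ : Subgroup G) := IsPGroup.to_sup_of_normal_right' hS2 hQ₁ hSN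
    have hne : S₁ ≠ S₁ ⊔ Q₁ := by
      intro h
      apply hnle
      rw [h]
      exact le_sup_right
    obtain ⟨m, hmR, hmN, hmS⟩ := exists_normalizing_of_ne (S₁ ⊔ Q₁) S₁ hR2 le_sup_left hne
    refine ⟨m, hmR, hmN, ?_⟩
    intro hmC
    apply hmS
    have hle : S₁ ⊔ Subgroup.zpowers m ≤ S₁ ⊔ Q₁ :=
      sup_le le_sup_left (by rw [Subgroup.zpowers_le]; exact hmR)
    have h1 := hSmax (S₁ ⊔ Subgroup.zpowers m) (hR2.to_le hle) le_sup_left
      (sup_le hSC (by rw [Subgroup.zpowers_le]; exact hmC))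
    rw [← h1]
    exact Subgroup.mem_sup_right (Subgroup.mem_zpowers m)
  -- the element `m`
  have hSNQ : S₁ ≤ Subgroup.normalizer (Q : Set G) := fun x hx => hL3 x ((hCmem x).mp (hSC hx)).1
  have hQS : ¬ Q ≤ S₁ := by
    intro h
    apply huzn
    apply hz.center_le
    rw [Subgroup.mem_center_iff]
    intro q
    exact Subtype.ext ((hCmem q).mp (hSC (h q.2))).2
  obtain ⟨m, hmR, hmN, hmC⟩ := hstep Q hQ2 hSNQ hQS
  have hmz : m * zG = zG * m := by
    have hle : S₁ ⊔ Q ≤ Subgroup.centralizer ({zG} : Set G) := by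
      apply sup_le
      · intro x hx
        rw [Subgroup.mem_centralizer_iff]
        intro y hy
        rw [Set.mem_singleton_iff] at hy
        rw [hy]
        exact ((hCmem x).mp (hSC hx)).1.symm
      · intro x hx
        rw [Subgroup.mem_centralizer_iff]
        intro y hy
        rw [Set.mem_singleton_iff] at hy
        rw [hy]
        exact (hA.zc x hx).symm
    exact (Subgroup.mem_centralizer_iff.mp (hle hmR) zG rfl).symm
  have hmT := hNS m hmN
  have hmz' : m * zG * m⁻¹ = zG := by rw [hmz, mul_inv_cancel_right]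
  have hmu : m * u * m⁻¹ = zG * u := by
    rcases mem_kleinOf.mp (hconjT m hmT u huT) with h | h | h | h
    · exact absurd (conj_eq_one_iff.mp h) hu1
    · exfalso
      apply huz
      have : m * u * m⁻¹ = m * zG * m⁻¹ := h.trans hmz'.symm
      exact mul_left_cancel (mul_right_cancel this)
    · exfalso
      apply hmC
      rw [hCmem]
      exact ⟨hmz, mul_inv_eq_iff_eq_mul.mp h⟩
    · exact h
  -- the element `n`
  set Q' := Q.map (MulAut.conj g).toMonoidHom with hQ'
  have hQ'mem : ∀ y : G, y ∈ Q' ↔ ∃ q ∈ Q, g * q * g⁻¹ = y := by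
    intro y
    rw [hQ', Subgroup.mem_map]
    rfl
  have hQ'2 : IsPGroup 2 ↥Q' := hQ2.map _
  have hnormQ' : ∀ x : G, x * u = u * x → x ∈ Subgroup.normalizer (Q' : Set G) := by
    intro x hxu
    have h1 : (g⁻¹ * x * g) * zG = zG * (g⁻¹ * x * g) := by
      calc (g⁻¹ * x * g) * zG = g⁻¹ * (x * (g * zG * g⁻¹)) * g := by group
        _ = g⁻¹ * ((g * zG * g⁻¹) * x) * g := by rw [← hu_def, hxu]
        _ = zG * (g⁻¹ * x * g) := by group
    have h2 := hL3 _ h1
    apply Subgroup.mem_normalizer_fintype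
    intro y hy
    obtain ⟨q, hq, rfl⟩ := (hQ'mem y).mp hy
    have h3 := (Subgroup.mem_normalizer_iff.mp h2 q).mp hq
    rw [SetLike.mem_coe, hQ'mem]
    refine ⟨_, h3, ?_⟩
    group
  have hSNQ' : S₁ ≤ Subgroup.normalizer (Q' : Set G) :=
    fun x hx => hnormQ' x ((hCmem x).mp (hSC hx)).2
  have hQ'S : ¬ Q' ≤ S₁ := by
    intro h
    have h1 : ∀ q ∈ Q, (g⁻¹ * zG * g) * q = q * (g⁻¹ * zG * g) := by
      intro q hq
      have h2 := ((hCmem _).mp (hSC (h ((hQ'mem _).mpr ⟨q, hq, rfl⟩)))).1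
      calc (g⁻¹ * zG * g) * q = g⁻¹ * (zG * (g * q * g⁻¹)) * g := by group
        _ = g⁻¹ * ((g * q * g⁻¹) * zG) * g := by rw [h2]
        _ = q * (g⁻¹ * zG * g) := by group
    rcases (hA.mem_zpowers _).mp (hL2 _ h1) with h3 | h3
    · apply hA.z1
      have : g⁻¹ * zG * g = g⁻¹ * 1 * g := by rw [h3]; group
      exact mul_left_cancel (mul_right_cancel this)
    · apply huz
      rw [hu_def]
      have : g * (g⁻¹ * zG * g) * g⁻¹ = g * zG * g⁻¹ := by rw [h3]
      rw [← this]; group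
  obtain ⟨n, hnR, hnN, hnC⟩ := hstep Q' hQ'2 hSNQ' hQ'S
  have hnu : n * u = u * n := by
    have hle : S₁ ⊔ Q' ≤ Subgroup.centralizer ({u} : Set G) := by
      apply sup_le
      · intro x hx
        rw [Subgroup.mem_centralizer_iff]
        intro y hy
        rw [Set.mem_singleton_iff] at hy
        rw [hy]
        exact ((hCmem x).mp (hSC hx)).2.symm
      · intro x hx
        obtain ⟨q, hq, rfl⟩ := (hQ'mem x).mp hx
        rw [Subgroup.mem_centralizer_iff]
        intro y hy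
        rw [Set.mem_singleton_iff] at hy
        rw [hy, hu_def]
        have := hA.zc q hq
        calc g * zG * g⁻¹ * (g * q * g⁻¹) = g * (zG * q) * g⁻¹ := by group
          _ = g * (q * zG) * g⁻¹ := by rw [this]
          _ = g * q * g⁻¹ * (g * zG * g⁻¹) := by group
    exact (Subgroup.mem_centralizer_iff.mp (hle hnR) u rfl).symm
  have hnT := hNS n hnN
  have hnu' : n * u * n⁻¹ = u := by rw [hnu, mul_inv_cancel_right]
  have hnz : n * zG * n⁻¹ = zG * u := by
    rcases mem_kleinOf.mp (hconjT n hnT zG hzT) with h | h | h | h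
    · exact absurd (conj_eq_one_iff.mp h) hA.z1
    · exfalso
      apply hnC
      rw [hCmem]
      exact ⟨mul_inv_eq_iff_eq_mul.mp h, hnu⟩
    · exfalso
      apply huz
      have : n * u * n⁻¹ = n * zG * n⁻¹ := hnu'.trans h.symm
      exact mul_left_cancel (mul_right_cancel this)
    · exact h
  exact ⟨m, n, hmT, hmz', hmu, hnT, hnu', hnz⟩

/-- the theorem (= S5422 without the unused width hypotheses) -/
theorem large_conj {G : Type*} [Group G] [Finite G] (Q : Subgroup G)
    (hL1 : Cfsg.IsExtraspecial 2 ↥Q)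
    (hL2 : Subgroup.centralizer (Q : Set G) = ((Subgroup.center ↥Q).map Q.subtype))
    (hL3 : Subgroup.centralizer (((Subgroup.center ↥Q).map Q.subtype) : Set G) ≤
      Subgroup.normalizer (Q : Set G))
    (g : G) (hg : g ∉ Subgroup.normalizer (((Subgroup.center ↥Q).map Q.subtype) : Set G))
    (hZg : (((Subgroup.center ↥Q).map Q.subtype)).map (MulAut.conj g).toMonoidHom ≤ Q) :
    ((Subgroup.center ↥Q).map Q.subtype) ≤ (Q).map (MulAut.conj g).toMonoidHom ∧
    (Subgroup.centralizer ((((Subgroup.center ↥Q).map Q.subtype) ⊔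
      (((Subgroup.center ↥Q).map Q.subtype)).map (MulAut.conj g).toMonoidHom : Subgroup G) :
        Set G)).relIndex (Subgroup.normalizer ((((Subgroup.center ↥Q).map Q.subtype) ⊔
      (((Subgroup.center ↥Q).map Q.subtype)).map (MulAut.conj g).toMonoidHom : Subgroup G) :
        Set G)) = 6 ∧
    Cfsg.IsLargeExtraspecial Q := by
  haveI : Fact (Nat.Prime 2) := ⟨Nat.prime_two⟩
  obtain ⟨z, hz, hA⟩ := exists_amb Q hL1
  set zG : G := (z : G) with hzG
  have hZ : (Subgroup.center ↥Q).map Q.subtype = Subgroup.zpowers zG := hA.center_eq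
  have hL2' : ∀ x : G, (∀ q ∈ Q, x * q = q * x) → x ∈ Subgroup.zpowers zG := by
    intro x hx
    rw [← hZ, ← hL2, Subgroup.mem_centralizer_iff]
    intro q hq
    exact (hx q hq).symm
  have hL3' : ∀ x : G, x * zG = zG * x → x ∈ Subgroup.normalizer (Q : Set G) := by
    intro x hx
    apply hL3
    rw [hZ, Subgroup.mem_centralizer_iff]
    intro y hy
    rcases (hA.mem_zpowers y).mp hy with rfl | rfl
    · simp
    · exact hx.symm
  set u : G := g * zG * g⁻¹ with hu_def
  have hu : u ∈ Q := by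
    apply hZg
    rw [hZ]
    exact ⟨zG, Subgroup.mem_zpowers zG, rfl⟩
  have huz : u ≠ zG := by
    intro h
    apply hg
    rw [hZ]
    apply Subgroup.mem_normalizer_fintype
    intro y hy
    rw [SetLike.mem_coe] at hy ⊢
    rcases (hA.mem_zpowers y).mp hy with rfl | rfl
    · simp
    · rw [← hu_def, h]; exact Subgroup.mem_zpowers zG
  have hu1 : u ≠ 1 := fun h => hA.z1 (conj_eq_one_iff.mp h)
  have huu : u * u = 1 := by
    rw [hu_def]
    have : g * zG * g⁻¹ * (g * zG * g⁻¹) = g * (zG * zG) * g⁻¹ := by group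
    rw [this, hA.zz]; group
  have hzu : zG * u = u * zG := (hA.zc u hu).symm
  obtain ⟨m, n, hmT, hmz, hmu, hnT, hnu, hnz⟩ :=
    exists_transpositions Q z hz hA hL2' hL3' g hu huz huu hzu
  set T := kleinOf zG u hA.zz huu hzu with hT
  have hzT : zG ∈ T := mem_kleinOf.mpr (Or.inr (Or.inl rfl))
  have huT : u ∈ T := mem_kleinOf.mpr (Or.inr (Or.inr (Or.inl rfl)))
  have hV : ((Subgroup.center ↥Q).map Q.subtype) ⊔
      (((Subgroup.center ↥Q).map Q.subtype)).map (MulAut.conj g).toMonoidHom = T := by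
    rw [hZ, MonoidHom.map_zpowers]
    apply le_antisymm
    · apply sup_le
      · rw [Subgroup.zpowers_le]; exact hzT
      · rw [Subgroup.zpowers_le]; exact huT
    · intro x hx
      rcases mem_kleinOf.mp hx with rfl | rfl | rfl | rfl
      · exact Subgroup.one_mem _
      · exact Subgroup.mem_sup_left (Subgroup.mem_zpowers zG)
      · exact Subgroup.mem_sup_right (Subgroup.mem_zpowers _)
      · exact Subgroup.mul_mem _ (Subgroup.mem_sup_left (Subgroup.mem_zpowers zG))
          (Subgroup.mem_sup_right (Subgroup.mem_zpowers _))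
  -- part (1)
  have hzQ' : zG ∈ Q.map (MulAut.conj g).toMonoidHom := by
    have hk : (m * n) * zG * (m * n)⁻¹ = u := by
      have h1 : (m * n) * zG * (m * n)⁻¹ = m * (n * zG * n⁻¹) * m⁻¹ := by group
      have h2 : m * (zG * u) * m⁻¹ = (m * zG * m⁻¹) * (m * u * m⁻¹) := by group
      rw [h1, hnz, h2, hmz, hmu, ← mul_assoc, hA.zz, one_mul]
    have hkc : (g⁻¹ * (m * n)) * zG = zG * (g⁻¹ * (m * n)) := by
      have h1 : (m * n) * zG = u * (m * n) := by
        rw [← hk]; group
      calc (g⁻¹ * (m * n)) * zG = g⁻¹ * ((m * n) * zG) := by group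
        _ = g⁻¹ * (u * (m * n)) := by rw [h1]
        _ = zG * (g⁻¹ * (m * n)) := by rw [hu_def]; group
    have hkN := hL3' _ hkc
    have hk' : (m * n)⁻¹ * zG * (m * n) = zG * u := by
      have h1 : n⁻¹ * zG * n = zG * u := by
        have h2 : n * (zG * u) * n⁻¹ = (n * zG * n⁻¹) * (n * u * n⁻¹) := by group
        have h3 : n * (zG * u) * n⁻¹ = zG := by
          rw [h2, hnz, hnu, mul_assoc, huu, mul_one]
        calc n⁻¹ * zG * n = n⁻¹ * (n * (zG * u) * n⁻¹) * n := by rw [h3]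
          _ = zG * u := by group
      have h4 : m⁻¹ * zG * m = zG := by
        calc m⁻¹ * zG * m = m⁻¹ * (m * zG * m⁻¹) * m := by rw [hmz]
          _ = zG := by group
      calc (m * n)⁻¹ * zG * (m * n) = n⁻¹ * (m⁻¹ * zG * m) * n := by group
        _ = n⁻¹ * zG * n := by rw [h4]
        _ = zG * u := h1
    have hq : g⁻¹ * zG * g ∈ Q := by
      have h1 : zG * u ∈ Q := Q.mul_mem hA.zQ hu
      have h2 := (Subgroup.mem_normalizer_iff.mp hkN (zG * u)).mp h1
      have h3 : g⁻¹ * (m * n) * (zG * u) * (g⁻¹ * (m * n))⁻¹ = g⁻¹ * zG * g := by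
        rw [← hk']; group
      rwa [h3] at h2
    exact ⟨g⁻¹ * zG * g, hq, by rw [MulEquiv.coe_toMonoidHom, MulAut.conj_apply]; group⟩
  refine ⟨?_, ?_, ?_⟩
  · rw [hZ, Subgroup.zpowers_le]
    exact hzQ'
  · rw [hV]
    exact KleinIndex.relIndex_klein_eq_six zG u hA.zz huu hzu hA.z1 hu1 (Ne.symm huz) m n
      hmT hmz hmu hnT hnu hnz
  · refine ⟨hL1, hL2, hL3, ?_⟩
    intro K hKodd hQK
    have hQ2 : IsPGroup 2 ↥Q := hA.pgroup
    have hcop2 : ∀ R : Subgroup G, IsPGroup 2 ↥R → R ⊓ K = ⊥ := by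
      intro R hR
      apply Subgroup.inf_eq_bot_of_coprime
      obtain ⟨k, hk⟩ := hR.exists_card_eq
      rw [hk]
      exact (Odd.coprime_two_left hKodd).pow_left k
    have hconjK : ∀ q ∈ Q, ∀ x ∈ K, q * x * q⁻¹ ∈ K := fun q hq x hx =>
      (Subgroup.mem_normalizer_iff.mp (hQK hq) x).mp hx
    -- step a
    have stepa : ∀ x ∈ K, x * zG = zG * x → x = 1 := by
      intro x hx hxz
      have hxN := hL3' x hxz
      have hcent : ∀ q ∈ Q, x * q = q * x := by
        intro q hq
        have h1 : ⁅q, x⁆ ∈ Q ⊓ K := by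
          constructor
          · have h2 : x * q⁻¹ * x⁻¹ ∈ Q :=
              (Subgroup.mem_normalizer_iff.mp hxN q⁻¹).mp (Q.inv_mem hq)
            have : ⁅q, x⁆ = q * (x * q⁻¹ * x⁻¹) := by rw [commutatorElement_def]; group
            rw [this]
            exact Q.mul_mem hq h2
          · have : ⁅q, x⁆ = (q * x * q⁻¹) * x⁻¹ := by rw [commutatorElement_def]
            rw [this]
            exact K.mul_mem (hconjK q hq x hx) (K.inv_mem hx)
        rw [hcop2 Q hQ2, Subgroup.mem_bot] at h1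
        exact (commutatorElement_eq_one_iff_mul_comm.mp h1).symm
      have h2 : x ∈ Q ⊓ K := ⟨by
        have := hL2' x hcent
        rcases (hA.mem_zpowers x).mp this with rfl | rfl
        · exact Q.one_mem
        · exact hA.zQ, hx⟩
      rw [hcop2 Q hQ2, Subgroup.mem_bot] at h2
      exact h2
    -- step b
    have hQ'2 : IsPGroup 2 ↥(Q.map (MulAut.conj g).toMonoidHom) := hQ2.map _
    have stepb : ∀ x ∈ K, x * u = u * x → x = 1 := by
      intro x hx hxu
      have h1 : (g⁻¹ * x * g) * zG = zG * (g⁻¹ * x * g) := by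
        calc (g⁻¹ * x * g) * zG = g⁻¹ * (x * (g * zG * g⁻¹)) * g := by group
          _ = g⁻¹ * ((g * zG * g⁻¹) * x) * g := by rw [← hu_def, hxu]
          _ = zG * (g⁻¹ * x * g) := by group
      have h2 := hL3' _ h1
      apply stepa x hx
      have h3 : ⁅zG, x⁆ ∈ Q.map (MulAut.conj g).toMonoidHom ⊓ K := by
        constructor
        · obtain ⟨q, hq, hqz⟩ := hzQ'
          rw [MulEquiv.coe_toMonoidHom, MulAut.conj_apply] at hqz
          have h4 : (g⁻¹ * x * g) * q⁻¹ * (g⁻¹ * x * g)⁻¹ ∈ Q :=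
            (Subgroup.mem_normalizer_iff.mp h2 q⁻¹).mp (Q.inv_mem hq)
          refine ⟨q * ((g⁻¹ * x * g) * q⁻¹ * (g⁻¹ * x * g)⁻¹), Q.mul_mem hq h4, ?_⟩
          rw [MulEquiv.coe_toMonoidHom, MulAut.conj_apply, commutatorElement_def, ← hqz]
          group
        · have : ⁅zG, x⁆ = (zG * x * zG⁻¹) * x⁻¹ := by rw [commutatorElement_def]
          rw [this]
          exact K.mul_mem (hconjK zG hA.zQ x hx) (K.inv_mem hx)
      rw [hcop2 _ hQ'2, Subgroup.mem_bot] at h3
      exact (commutatorElement_eq_one_iff_mul_comm.mp h3).symm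
    -- step c
    have stepc : ∀ x ∈ K, x * (zG * u) = (zG * u) * x → x = 1 := by
      intro x hx hxzu
      have hs : ∃ s ∈ Q, s * u * s⁻¹ = zG * u := by
        by_contra hcon
        push Not at hcon
        have : ∀ q ∈ Q, q * u = u * q := by
          intro q hq
          rcases hA.comm q hq u hu with h | h
          · exact commutatorElement_eq_one_iff_mul_comm.mp h
          · exfalso
            apply hcon q hq
            rw [← h, commutatorElement_def]; group
        rcases hA.cen u hu this with h | h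
        · exact hu1 h
        · exact huz h
      obtain ⟨s, hs, hsu⟩ := hs
      have h1 : s⁻¹ * x * s ∈ K := by
        have := hconjK s⁻¹ (Q.inv_mem hs) x hx
        simpa using this
      have h2 : (s⁻¹ * x * s) * u = u * (s⁻¹ * x * s) := by
        have h3 : s * u = (zG * u) * s := by rw [← hsu]; group
        have h4 : u * s⁻¹ = s⁻¹ * (zG * u) := by
          calc u * s⁻¹ = s⁻¹ * (s * u) * s⁻¹ := by group
            _ = s⁻¹ * ((zG * u) * s) * s⁻¹ := by rw [h3]
            _ = s⁻¹ * (zG * u) := by group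
        calc (s⁻¹ * x * s) * u = s⁻¹ * x * (s * u) := by group
          _ = s⁻¹ * x * ((zG * u) * s) := by rw [h3]
          _ = s⁻¹ * (x * (zG * u)) * s := by group
          _ = s⁻¹ * ((zG * u) * x) * s := by rw [hxzu]
          _ = (s⁻¹ * (zG * u)) * x * s := by group
          _ = (u * s⁻¹) * x * s := by rw [h4]
          _ = u * (s⁻¹ * x * s) := by group
      have h5 := stepb _ h1 h2
      have : x = s * (s⁻¹ * x * s) * s⁻¹ := by group
      rw [this, h5]; group
    -- generation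
    have hTz : ∀ a ∈ T, a * zG = zG * a := fun a ha => (commute_kleinOf ha rfl hzu).symm
    have hTu : ∀ a ∈ T, a * u = u * a := fun a ha => (commute_kleinOf ha hzu.symm rfl).symm
    haveI : IsMulCommutative ↥T := ⟨⟨fun a b => Subtype.ext
      (commute_kleinOf b.2 (hTz a a.2) (hTu a a.2))⟩⟩
    have hTQ : T ≤ Q := by
      intro x hx
      rcases mem_kleinOf.mp hx with rfl | rfl | rfl | rfl
      · exact Q.one_mem
      · exact hA.zQ
      · exact hu
      · exact Q.mul_mem hA.zQ hu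
    have hcopT : (Nat.card ↥T).Coprime (Nat.card ↥K) := by
      obtain ⟨k, hk⟩ := (hQ2.to_le hTQ).exists_card_eq
      rw [hk]
      exact (Odd.coprime_two_left hKodd).pow_left k
    have h2K : ¬ 2 ∣ Nat.card ↥K := fun h => (Nat.not_even_iff_odd.mpr hKodd) (even_iff_two_dvd.mpr h)
    have hgen := Cfsg.Agent.Lib.Helper17.le_iSup_centralizer_pair T K (hTQ.trans hQK) hcopT 2 h2K
      zG u hzT huT (by rw [pow_two, hA.zz]; exact Subgroup.one_mem _)
      (by rw [pow_two, huu]; exact Subgroup.one_mem _)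
    rw [eq_bot_iff]
    refine hgen.trans (sup_le (iSup_le ?_) ?_)
    · intro j x hx
      rw [Subgroup.mem_bot]
      have hxK : x ∈ K := hx.1
      have hxc : x * (zG * u ^ j) = (zG * u ^ j) * x :=
        (Subgroup.mem_centralizer_iff.mp hx.2 _ rfl).symm
      rcases Nat.even_or_odd' j with ⟨k, rfl | rfl⟩
      · rw [pow_mul, pow_two, huu, one_pow, mul_one] at hxc
        exact stepa x hxK hxc
      · rw [pow_succ, pow_mul, pow_two, huu, one_pow, one_mul] at hxc
        exact stepc x hxK hxc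
    · intro x hx
      rw [Subgroup.mem_bot]
      exact stepb x hx.1 (Subgroup.mem_centralizer_iff.mp hx.2 _ rfl).symm

end Cfsg.Agent.Lib.Helper20.ES
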