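import Mathlib
import Cfsg.Agent.Lib.Helper18.Sims3Defs
import Cfsg.Agent.Lib.Helper29.SIMSBase
import Cfsg.Agent.Lib.Helper29.SIMSBase2
import Cfsg.Agent.Lib.Helper23.SIMSAux
import Cfsg.Agent.Lib.Helper4.Basic
import Cfsg.Agent.Lib.Helper18.SIMSL1

set_option autoImplicit false

/-!
# S3685 (SIMS2 market), leaf S8: a subgroup of order 8 of `⟨x_0, ..., x_4⟩` avoiding `x_2` (helper20)
-/

namespace Cfsg.Agent.Lib.Helper20.SIMS2S8

open Cfsg Cfsg.Agent.Lib.Helper29.TWPair Cfsg.Agent.Lib.Helper18.Sims3 MulAction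

variable {G : Type*} [Group G]

theorem card_zpowers_le_two [Finite G] {a : G} (ha : a * a = 1) :
    Nat.card ↥(Subgroup.zpowers a) ≤ 2 := by
  rw [Nat.card_zpowers]
  have : orderOf a ∣ 2 := orderOf_dvd_of_pow_eq_one (by rw [pow_two, ha])
  exact Nat.le_of_dvd (by norm_num) this

theorem eq_one_or_eq_of_mem_zpowers {a s : G} (ha : a * a = 1) (hs : s ∈ Subgroup.zpowers a) :
    s = 1 ∨ s = a := by
  obtain ⟨k, rfl⟩ := Subgroup.mem_zpowers_iff.mp hs
  have h2 : a ^ (2 : ℤ) = 1 := by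
    rw [zpow_ofNat, pow_two, ha]
  rcases Int.even_or_odd' k with ⟨m, rfl | rfl⟩
  · left
    rw [zpow_mul, h2, one_zpow]
  · right
    rw [zpow_add, zpow_mul, h2, one_zpow, one_mul, zpow_one]

theorem zpowers_le_centralizer_of_comm {z : G} {S : Set G} (h : ∀ s ∈ S, s * z = z * s) :
    Subgroup.closure S ≤ Subgroup.normalizer (Subgroup.zpowers z : Set G) := by
  have h1 : Subgroup.closure S ≤ Subgroup.centralizer (Subgroup.zpowers z : Set G) := by
    rw [Subgroup.closure_le]
    intro s hs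
    rw [SetLike.mem_coe, Subgroup.mem_centralizer_iff]
    intro y hy
    obtain ⟨k, rfl⟩ := Subgroup.mem_zpowers_iff.mp hy
    have hc : Commute z s := (h s hs).symm
    exact (hc.zpow_left k).eq
  exact h1.trans (Subgroup.centralizer_le_normalizer _)

/-- the general counting lemma -/
theorem card_eight [Finite G] {a b c z : G} (ha : a * a = 1) (hb : b * b = 1) (hc : c * c = 1)
    (hz : z * z = 1) (hca : c * a = a * c) (hcb : c * b = b * c) (hrel : b * a * b⁻¹ = a * c)
    (hza : a * z = z * a) (hzb : b * z = z * b) (hzc : c * z = z * c)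
    (hM : Nat.card ↥(Subgroup.closure ({c, a, b} : Set G) ⊔ Subgroup.zpowers z) = 16) :
    Nat.card ↥(Subgroup.closure ({c, a, b} : Set G)) = 8 ∧
      z ∉ Subgroup.closure ({c, a, b} : Set G) := by
  -- T = ⟨c, a⟩
  have hT : Subgroup.closure ({c, a} : Set G) = Subgroup.zpowers c ⊔ Subgroup.zpowers a := by
    rw [show ({c, a} : Set G) = {c} ∪ {a} by rfl, Subgroup.closure_union,
      Subgroup.zpowers_eq_closure, Subgroup.zpowers_eq_closure]
  have hTcard : Nat.card ↥(Subgroup.closure ({c, a} : Set G)) ≤ 4 := by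
    have hn : Subgroup.zpowers c ≤ Subgroup.normalizer (Subgroup.zpowers a : Set G) := by
      rw [Subgroup.zpowers_eq_closure]
      apply zpowers_le_centralizer_of_comm
      intro s hs
      rw [Set.mem_singleton_iff] at hs
      rw [hs]; exact hca
    have h1 := Cfsg.Agent.Lib.Helper4.card_sup_mul_card_inf _ _ hn
    have h2 := card_zpowers_le_two hc
    have h3 := card_zpowers_le_two ha
    have h4 : 1 ≤ Nat.card ↥(Subgroup.zpowers c ⊓ Subgroup.zpowers a) := Nat.card_pos
    rw [hT]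
    nlinarith
  have hS : Subgroup.closure ({c, a, b} : Set G)
      = Subgroup.zpowers b ⊔ Subgroup.closure ({c, a} : Set G) := by
    rw [show ({c, a, b} : Set G) = {b} ∪ {c, a} by
      ext y; simp only [Set.mem_insert_iff, Set.mem_singleton_iff, Set.mem_union]; tauto]
    rw [Subgroup.closure_union, Subgroup.zpowers_eq_closure]
  have hScard : Nat.card ↥(Subgroup.closure ({c, a, b} : Set G)) ≤ 8 := by
    have hn : Subgroup.zpowers b ≤ Subgroup.normalizer (Subgroup.closure ({c, a} : Set G) : Set G) := by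
      rw [Subgroup.zpowers_le]
      apply Cfsg.Agent.Lib.Helper23.SIMSAux.mem_normalizer_closure_of_invol hb
      intro s hs
      rcases hs with hs | hs
      · rw [hs]
        have : b * c * b⁻¹ = c := by rw [← hcb]; group
        rw [this]
        exact Subgroup.subset_closure (by simp)
      · rw [Set.mem_singleton_iff] at hs
        rw [hs, hrel]
        exact Subgroup.mul_mem _ (Subgroup.subset_closure (by simp))
          (Subgroup.subset_closure (by simp))
    have h1 := Cfsg.Agent.Lib.Helper4.card_sup_mul_card_inf _ _ hn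
    have h2 := card_zpowers_le_two hb
    have h4 : 1 ≤ Nat.card ↥(Subgroup.zpowers b ⊓ Subgroup.closure ({c, a} : Set G)) :=
      Nat.card_pos
    rw [hS]
    nlinarith
  -- the product with ⟨z⟩
  have hn : Subgroup.closure ({c, a, b} : Set G)
      ≤ Subgroup.normalizer (Subgroup.zpowers z : Set G) := by
    apply zpowers_le_centralizer_of_comm
    intro s hs
    rcases hs with hs | hs | hs
    · rw [hs]; exact hzc
    · rw [hs]; exact hza
    · rw [Set.mem_singleton_iff] at hs
      rw [hs]; exact hzb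
  have h1 := Cfsg.Agent.Lib.Helper4.card_sup_mul_card_inf _ _ hn
  rw [hM] at h1
  have h2 := card_zpowers_le_two hz
  have h4 : 1 ≤ Nat.card ↥(Subgroup.closure ({c, a, b} : Set G) ⊓ Subgroup.zpowers z) :=
    Nat.card_pos
  have h5 : Nat.card ↥(Subgroup.closure ({c, a, b} : Set G) ⊓ Subgroup.zpowers z) = 1 := by
    nlinarith
  rw [h5] at h1
  have h6 : Nat.card ↥(Subgroup.closure ({c, a, b} : Set G)) = 8 := by nlinarith
  refine ⟨h6, ?_⟩
  intro hzS
  have hbot : Subgroup.closure ({c, a, b} : Set G) ⊓ Subgroup.zpowers z = ⊥ :=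
    Subgroup.card_eq_one.mp h5
  have hzmem : z ∈ Subgroup.closure ({c, a, b} : Set G) ⊓ Subgroup.zpowers z :=
    ⟨hzS, Subgroup.mem_zpowers z⟩
  rw [hbot, Subgroup.mem_bot] at hzmem
  have h7 : Nat.card ↥(Subgroup.zpowers z) = 1 := by
    rw [hzmem, Subgroup.zpowers_one_eq_bot, Subgroup.card_bot]
  rw [h7] at h1
  omega

/-- LEAF S8 (`n = 4`: a subgroup of order 8 of `⟨x_0, ..., x_4⟩` avoiding the central `x_2`). -/
theorem exists_card_eight [Finite G] {g : G} {x : ℕ → G} (h : TSData g x 4)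
    (hsq : ∀ i, x i * x i = 1)
    (hcm : ∀ i j, i < j → j < i + 4 → cm (x i) (x j) ∈ Hx x (i + 1) (j - 1))
    (hl : CommLt x 3) (hnc : ¬ Commute (x 0) (x 3)) :
    ∃ S : Subgroup G, S ≤ Hx x 0 4 ∧ Nat.card ↥S = 8 ∧ x 2 ∉ S := by
  have hcomm : ∀ s t : ℕ, s < t + 3 → t < s + 3 → x s * x t = x t * x s := fun s t h1 h2 =>
    Cfsg.Agent.Lib.Helper29.SIMSBase.commLt_comm hl ⟨by omega, by omega, h1, h2⟩
  set c := cm (x 0) (x 3) with hcdef
  have hc12 : c ∈ Hx x 1 2 := by
    have := hcm 0 3 (by norm_num) (by norm_num)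
    simpa using this
  have hc1 : c ≠ 1 := fun h1 =>
    hnc ((Cfsg.Agent.Lib.Helper23.SIMSAux.cm_eq_one_iff _ _).mp h1)
  have hcc : c * c = 1 :=
    Cfsg.Agent.Lib.Helper29.SIMSBase.Hx_sq hl hsq (by norm_num) c hc12
  have hceq : c = x 0 * x 3 * x 0 * x 3 :=
    Cfsg.Agent.Lib.Helper29.SIMSBase.cm_of_sq (hsq 0) (hsq 3)
  -- c commutes with x 0, x 2, x 3
  have hc0 : c * x 0 = x 0 * c :=
    Cfsg.Agent.Lib.Helper29.SIMSBase.Hx_comm hl (i := 0) (j := 2) (by norm_num) c
      (Cfsg.Agent.Lib.Helper29.SIMSBase.Hx_mono (by norm_num) le_rfl hc12) (x 0)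
      (Cfsg.Agent.Lib.Helper29.SIMSBase.mem_Hx le_rfl (by norm_num))
  have hc3 : c * x 3 = x 3 * c :=
    Cfsg.Agent.Lib.Helper29.SIMSBase.Hx_comm hl (i := 1) (j := 3) (by norm_num) c
      (Cfsg.Agent.Lib.Helper29.SIMSBase.Hx_mono le_rfl (by norm_num) hc12) (x 3)
      (Cfsg.Agent.Lib.Helper29.SIMSBase.mem_Hx (by norm_num) le_rfl)
  have hc2 : c * x 2 = x 2 * c :=
    Cfsg.Agent.Lib.Helper29.SIMSBase.Hx_comm hl (i := 1) (j := 2) (by norm_num) c hc12 (x 2)
      (Cfsg.Agent.Lib.Helper29.SIMSBase.mem_Hx (by norm_num) le_rfl)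
  -- c ∈ {x 1, x 2, x 1 * x 2}
  have hcases : c = x 1 ∨ c = x 2 ∨ c * x 2 = x 1 := by
    have h12 : Hx x 1 2 = Hx x 1 1 ⊔ Subgroup.zpowers (x 2) :=
      (Cfsg.Agent.Lib.Helper29.SIMSBase.Hx_succ (by norm_num)).symm
    have hcomm12 := Cfsg.Agent.Lib.Helper29.SIMSBase.Hx_comm hl (i := 1) (j := 2) (by norm_num)
    rw [h12] at hcomm12 hc12
    have := Cfsg.Agent.Lib.Helper29.SIMSBase.mem_or_mul_mem (Hx x 1 1) (x 2) (hsq 2) hcomm12 c hc12
    rw [Cfsg.Agent.Lib.Helper18.SIMSL1.Hx_self] at this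
    rcases this with h1 | h1
    · rcases eq_one_or_eq_of_mem_zpowers (hsq 1) h1 with h2 | h2
      · exact absurd h2 hc1
      · exact Or.inl h2
    · rcases eq_one_or_eq_of_mem_zpowers (hsq 1) h1 with h2 | h2
      · right; left
        have : c = (x 2)⁻¹ := eq_inv_of_mul_eq_one_left h2
        rw [this, Cfsg.Agent.Lib.Helper29.SIMSBase.inv_of_sq (hsq 2)]
      · exact Or.inr (Or.inr h2)
  by_cases hcx2 : c = x 2
  · -- mirror case: S = ⟨x 3, x 4, x 1⟩
    have hc' : cm (x 1) (x 4) = x 3 := by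
      have h1 := Cfsg.Agent.Lib.Helper29.SIMSBase.cm_shift h 0 3
      rw [← hcdef, hcx2, h.shift 2] at h1
      simpa using h1.symm
    have hc'eq : x 1 * x 4 * x 1 * x 4 = x 3 := by
      rw [← Cfsg.Agent.Lib.Helper29.SIMSBase.cm_of_sq (hsq 1) (hsq 4)]
      exact hc'
    have hrel : x 1 * x 4 * (x 1)⁻¹ = x 4 * x 3 := by
      rw [Cfsg.Agent.Lib.Helper29.SIMSBase.inv_of_sq (hsq 1)]
      have h34 : x 4 * x 3 = x 3 * x 4 := hcomm 4 3 (by norm_num) (by norm_num)
      rw [h34, ← hc'eq]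
      calc x 1 * x 4 * x 1 = x 1 * x 4 * x 1 * (x 4 * x 4) := by rw [hsq 4, mul_one]
        _ = x 1 * x 4 * x 1 * x 4 * x 4 := by group
    have hM : Subgroup.closure ({x 3, x 4, x 1} : Set G) ⊔ Subgroup.zpowers (x 2) = Hx x 1 4 := by
      apply le_antisymm
      · refine sup_le ?_ ?_
        · rw [Subgroup.closure_le]
          intro s hs
          rcases hs with hs | hs | hs
          · rw [hs]; exact Cfsg.Agent.Lib.Helper29.SIMSBase.mem_Hx (by norm_num) (by norm_num)
          · rw [hs]; exact Cfsg.Agent.Lib.Helper29.SIMSBase.mem_Hx (by norm_num) (by norm_num)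
          · rw [Set.mem_singleton_iff] at hs
            rw [hs]; exact Cfsg.Agent.Lib.Helper29.SIMSBase.mem_Hx (by norm_num) (by norm_num)
        · rw [Subgroup.zpowers_le]
          exact Cfsg.Agent.Lib.Helper29.SIMSBase.mem_Hx (by norm_num) (by norm_num)
      · rw [Cfsg.Agent.Lib.Helper29.SIMSBase.Hx_le_iff]
        intro k hk1 hk2
        have hk : k = 1 ∨ k = 2 ∨ k = 3 ∨ k = 4 := by omega
        rcases hk with rfl | rfl | rfl | rfl
        · exact Subgroup.mem_sup_left (Subgroup.subset_closure (by simp))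
        · exact Subgroup.mem_sup_right (Subgroup.mem_zpowers _)
        · exact Subgroup.mem_sup_left (Subgroup.subset_closure (by simp))
        · exact Subgroup.mem_sup_left (Subgroup.subset_closure (by simp))
    have hMcard : Nat.card ↥(Subgroup.closure ({x 3, x 4, x 1} : Set G) ⊔ Subgroup.zpowers (x 2))
        = 16 := by
      rw [hM, h.card 1 4 (by norm_num) (by norm_num)]
      norm_num
    obtain ⟨h8, hz⟩ := card_eight (a := x 4) (b := x 1) (c := x 3) (z := x 2) (hsq 4) (hsq 1)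
      (hsq 3) (hsq 2) (hcomm 3 4 (by norm_num) (by norm_num)) (hcomm 3 1 (by norm_num) (by norm_num))
      hrel (hcomm 4 2 (by norm_num) (by norm_num)) (hcomm 1 2 (by norm_num) (by norm_num))
      (hcomm 3 2 (by norm_num) (by norm_num)) hMcard
    refine ⟨_, ?_, h8, hz⟩
    rw [Subgroup.closure_le]
    intro s hs
    rcases hs with hs | hs | hs
    · rw [hs]; exact Cfsg.Agent.Lib.Helper29.SIMSBase.mem_Hx (by norm_num) (by norm_num)
    · rw [hs]; exact Cfsg.Agent.Lib.Helper29.SIMSBase.mem_Hx (by norm_num) (by norm_num)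
    · rw [Set.mem_singleton_iff] at hs
      rw [hs]; exact Cfsg.Agent.Lib.Helper29.SIMSBase.mem_Hx (by norm_num) (by norm_num)
  · -- main case: S = ⟨c, x 0, x 3⟩
    have hrel : x 3 * x 0 * (x 3)⁻¹ = x 0 * c := by
      rw [Cfsg.Agent.Lib.Helper29.SIMSBase.inv_of_sq (hsq 3), hceq]
      calc x 3 * x 0 * x 3 = (x 0 * x 0) * x 3 * x 0 * x 3 := by rw [hsq 0, one_mul]
        _ = x 0 * (x 0 * x 3 * x 0 * x 3) := by group
    have hcH : c ∈ Hx x 0 3 :=
      Cfsg.Agent.Lib.Helper29.SIMSBase.Hx_mono (by norm_num) (by norm_num) hc12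
    have hM : Subgroup.closure ({c, x 0, x 3} : Set G) ⊔ Subgroup.zpowers (x 2) = Hx x 0 3 := by
      apply le_antisymm
      · refine sup_le ?_ ?_
        · rw [Subgroup.closure_le]
          intro s hs
          rcases hs with hs | hs | hs
          · rw [hs]; exact hcH
          · rw [hs]; exact Cfsg.Agent.Lib.Helper29.SIMSBase.mem_Hx (by norm_num) (by norm_num)
          · rw [Set.mem_singleton_iff] at hs
            rw [hs]; exact Cfsg.Agent.Lib.Helper29.SIMSBase.mem_Hx (by norm_num) (by norm_num)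
        · rw [Subgroup.zpowers_le]
          exact Cfsg.Agent.Lib.Helper29.SIMSBase.mem_Hx (by norm_num) (by norm_num)
      · rw [Cfsg.Agent.Lib.Helper29.SIMSBase.Hx_le_iff]
        intro k hk1 hk2
        have hk : k = 0 ∨ k = 1 ∨ k = 2 ∨ k = 3 := by omega
        have hcS : c ∈ Subgroup.closure ({c, x 0, x 3} : Set G) ⊔ Subgroup.zpowers (x 2) :=
          Subgroup.mem_sup_left (Subgroup.subset_closure (by simp))
        have h2S : x 2 ∈ Subgroup.closure ({c, x 0, x 3} : Set G) ⊔ Subgroup.zpowers (x 2) :=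
          Subgroup.mem_sup_right (Subgroup.mem_zpowers _)
        rcases hk with rfl | rfl | rfl | rfl
        · exact Subgroup.mem_sup_left (Subgroup.subset_closure (by simp))
        · rcases hcases with h1 | h1 | h1
          · rw [← h1]; exact hcS
          · exact absurd h1 hcx2
          · rw [← h1]; exact Subgroup.mul_mem _ hcS h2S
        · exact h2S
        · exact Subgroup.mem_sup_left (Subgroup.subset_closure (by simp))
    have hMcard : Nat.card ↥(Subgroup.closure ({c, x 0, x 3} : Set G) ⊔ Subgroup.zpowers (x 2))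
        = 16 := by
      rw [hM, h.card 0 3 (by norm_num) (by norm_num)]
      norm_num
    obtain ⟨h8, hz⟩ := card_eight (a := x 0) (b := x 3) (c := c) (z := x 2) (hsq 0) (hsq 3)
      hcc (hsq 2) hc0 hc3 hrel (hcomm 0 2 (by norm_num) (by norm_num))
      (hcomm 3 2 (by norm_num) (by norm_num)) hc2 hMcard
    refine ⟨_, ?_, h8, hz⟩
    rw [Subgroup.closure_le]
    intro s hs
    rcases hs with hs | hs | hs
    · rw [hs]; exact Cfsg.Agent.Lib.Helper29.SIMSBase.Hx_mono (by norm_num) (by norm_num) hc12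
    · rw [hs]; exact Cfsg.Agent.Lib.Helper29.SIMSBase.mem_Hx (by norm_num) (by norm_num)
    · rw [Set.mem_singleton_iff] at hs
      rw [hs]; exact Cfsg.Agent.Lib.Helper29.SIMSBase.mem_Hx (by norm_num) (by norm_num)

end Cfsg.Agent.Lib.Helper20.SIMS2S8
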