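import Mathlib
import Cfsg.Agent.Lib.Helper20.ESTwo

/-!
Helper lemmas (helper20): classification of extraspecial 2-groups by order and the number of
elements of square one.
-/

set_option autoImplicit false
open scoped commutatorElement

namespace Cfsg.Agent.Lib.Helper20.ES

universe u v

/-- extraspecial-type 2-groups of the same order with the same number of elements of square one
are isomorphic -/
theorem equiv_of_count :
    ∀ (n : ℕ) {E : Type u} {F : Type v} [Group E] [Group F] [Finite E] [Finite F] (z : E) (z' : F),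
      ESData 2 E z → ESData 2 F z' → (∃ x y : E, ⁅x, y⁆ ≠ 1) → (∃ x y : F, ⁅x, y⁆ ≠ 1) →
      Nat.card E = n → Nat.card F = n →
      Nat.card {e : E // e ^ 2 = 1} = Nat.card {f : F // f ^ 2 = 1} →
      ∃ φ : E ≃* F, φ z = z' := by
  haveI : Fact (Nat.Prime 2) := ⟨Nat.prime_two⟩
  intro n
  induction n using Nat.strong_induction_on with
  | _ n ih =>
    intro E F _ _ _ _ z z' h h' hna hna' hcE hcF hN
    by_cases hE : ∃ x : E, x ^ 2 = 1 ∧ x ∉ Subgroup.zpowers z
    · by_cases hF : ∃ x : F, x ^ 2 = 1 ∧ x ∉ Subgroup.zpowers z'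
      · obtain ⟨x, hx, hxz⟩ := hE
        obtain ⟨y, hy, hxy⟩ := h.exists_invol_pair hx hxz
        obtain ⟨x', hx', hxz'⟩ := hF
        obtain ⟨y', hy', hxy'⟩ := h'.exists_invol_pair hx' hxz'
        have hP : P3Data 2 0 0 x y z :=
          h.p3Data hxy (by rw [hx, pow_zero]) (by rw [hy, pow_zero])
        have hP' : P3Data 2 0 0 x' y' z' :=
          h'.p3Data hxy' (by rw [hx', pow_zero]) (by rw [hy', pow_zero])
        have hcC := h.card_eq_sq_mul_card_cent hxy
        have hcD := h'.card_eq_sq_mul_card_cent hxy'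
        have hcard : Nat.card (ESData.cent x y) = Nat.card (ESData.cent x' y') := by
          have : 2 ^ 2 * Nat.card (ESData.cent x y) = 2 ^ 2 * Nat.card (ESData.cent x' y') := by
            rw [← hcC, ← hcD, hcE, hcF]
          exact Nat.eq_of_mul_eq_mul_left (by norm_num) this
        have hNC := h.count_sq hx hy hxy
        have hND := h'.count_sq hx' hy' hxy'
        have hNcard : Nat.card {c : ESData.cent x y // c ^ 2 = 1} =
            Nat.card {c : ESData.cent x' y' // c ^ 2 = 1} := by
          rw [hN, hND, hcard] at hNC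
          omega
        by_cases hc : ∀ a ∈ ESData.cent x y, ∀ b ∈ ESData.cent x y, a * b = b * a
        · have hC := h.cent_eq_of_comm hxy hc
          have hcC' : Nat.card (ESData.cent x y) = 2 := by rw [hC, h.card_zpowers]
          have hD := h'.cent_eq_zpowers_of_card x' y' (hcard.symm.trans hcC')
          exact equiv_of_gen_top hP hP' (h.gen_eq_top_of_cent hxy hC)
            (h'.gen_eq_top_of_cent hxy' hD)
        · have hc' := cent_noncomm_transfer h h' hxy hxy' hcard hc
          have hlt : Nat.card (ESData.cent x y) < n := by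
            rw [← hcE, hcC]
            have hpos : 0 < Nat.card (ESData.cent x y) := Nat.card_pos
            omega
          obtain ⟨φ₂, hφ₂⟩ := ih _ hlt (⟨z, h.z_mem_cent x y⟩ : ESData.cent x y)
            (⟨z', h'.z_mem_cent x' y'⟩ : ESData.cent x' y') (h.esData_cent hxy)
            (h'.esData_cent hxy')
            (exists_comm_ne_one_of_noncomm _ hc) (exists_comm_ne_one_of_noncomm _ hc')
            rfl hcard.symm hNcard
          obtain ⟨φ₁, -, -, hφ₁⟩ := hP.model_equiv hP'
          exact glue _ _ _ _ z z' (fun a ha c hc => ESData.commute_gen_cent ha hc)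
            (fun a ha c hc => ESData.commute_gen_cent ha hc) (h.exists_mul_decomp hxy)
            (h'.exists_mul_decomp hxy') (h.inf_eq hxy) (h'.inf_eq hxy') φ₁ φ₂ hφ₁
            (fun hz => by rw [hφ₂])
      · exfalso
        push Not at hF
        have hF' : ∀ e : F, e ^ 2 = 1 → e ∈ Subgroup.zpowers z' := hF
        have h2 := h'.card_sq_of_quat hF'
        obtain ⟨x, hx, hxz⟩ := hE
        obtain ⟨y, hy, hxy⟩ := h.exists_invol_pair hx hxz
        have hNC := h.count_sq hx hy hxy
        have := h.two_le_card_cent x y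
        have hpos : 0 < Nat.card {c : ESData.cent x y // c ^ 2 = 1} := by
          haveI : Nonempty {c : ESData.cent x y // c ^ 2 = 1} := ⟨⟨1, one_pow 2⟩⟩
          exact Nat.card_pos
        omega
    · push Not at hE
      have hE' : ∀ e : E, e ^ 2 = 1 → e ∈ Subgroup.zpowers z := hE
      by_cases hF : ∃ x : F, x ^ 2 = 1 ∧ x ∉ Subgroup.zpowers z'
      · exfalso
        have h2 := h.card_sq_of_quat hE'
        obtain ⟨x', hx', hxz'⟩ := hF
        obtain ⟨y', hy', hxy'⟩ := h'.exists_invol_pair hx' hxz'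
        have hND := h'.count_sq hx' hy' hxy'
        have := h'.two_le_card_cent x' y'
        have hpos : 0 < Nat.card {c : ESData.cent x' y' // c ^ 2 = 1} := by
          haveI : Nonempty {c : ESData.cent x' y' // c ^ 2 = 1} := ⟨⟨1, one_pow 2⟩⟩
          exact Nat.card_pos
        omega
      · push Not at hF
        have hF' : ∀ e : F, e ^ 2 = 1 → e ∈ Subgroup.zpowers z' := hF
        obtain ⟨x, y₀, hxy₀⟩ := hna
        obtain ⟨j, hxy⟩ := h.exists_pair hxy₀
        obtain ⟨x', y₀', hxy₀'⟩ := hna'
        obtain ⟨j', hxy'⟩ := h'.exists_pair hxy₀'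
        obtain ⟨hx2, hy2, hC⟩ := h.quat_case hE' hxy
        obtain ⟨hx2', hy2', hD⟩ := h'.quat_case hF' hxy'
        have hP : P3Data 2 1 1 x (y₀ ^ j) z :=
          h.p3Data hxy (by rw [hx2, pow_one]) (by rw [hy2, pow_one])
        have hP' : P3Data 2 1 1 x' (y₀' ^ j') z' :=
          h'.p3Data hxy' (by rw [hx2', pow_one]) (by rw [hy2', pow_one])
        exact equiv_of_gen_top hP hP' (h.gen_eq_top_of_cent hxy hC)
          (h'.gen_eq_top_of_cent hxy' hD)

/-- order and number of elements of square one of an extraspecial-type 2-group -/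
theorem card_and_count :
    ∀ (n : ℕ) {E : Type u} [Group E] [Finite E] (z : E),
      ESData 2 E z → (∃ x y : E, ⁅x, y⁆ ≠ 1) → Nat.card E = n →
      ∃ m : ℕ, 1 ≤ m ∧ n = 2 ^ (2 * m + 1) ∧
        (Nat.card {e : E // e ^ 2 = 1} = 2 ^ (2 * m) + 2 ^ m ∨
          Nat.card {e : E // e ^ 2 = 1} = 2 ^ (2 * m) - 2 ^ m) := by
  haveI : Fact (Nat.Prime 2) := ⟨Nat.prime_two⟩
  intro n
  induction n using Nat.strong_induction_on with
  | _ n ih =>
    intro E _ _ z h hna hcE
    by_cases hE : ∃ x : E, x ^ 2 = 1 ∧ x ∉ Subgroup.zpowers z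
    · obtain ⟨x, hx, hxz⟩ := hE
      obtain ⟨y, hy, hxy⟩ := h.exists_invol_pair hx hxz
      have hcC := h.card_eq_sq_mul_card_cent hxy
      have hNC := h.count_sq hx hy hxy
      by_cases hc : ∀ a ∈ ESData.cent x y, ∀ b ∈ ESData.cent x y, a * b = b * a
      · have hC := h.cent_eq_of_comm hxy hc
        have hcC' : Nat.card (ESData.cent x y) = 2 := by rw [hC, h.card_zpowers]
        have hN2 := h.card_sq_cent_of_comm hC
        refine ⟨1, le_refl 1, ?_, Or.inl ?_⟩
        · rw [← hcE, hcC, hcC']; norm_num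
        · rw [hNC, hN2, hcC']; norm_num
      · have hlt : Nat.card (ESData.cent x y) < n := by
          rw [← hcE, hcC]
          have hpos : 0 < Nat.card (ESData.cent x y) := Nat.card_pos
          omega
        obtain ⟨m', hm', hcm', hNm'⟩ := ih _ hlt (⟨z, h.z_mem_cent x y⟩ : ESData.cent x y)
          (h.esData_cent hxy) (exists_comm_ne_one_of_noncomm _ hc) rfl
        have e1 : (2 : ℕ) ^ (2 * (m' + 1) + 1) = 4 * 2 ^ (2 * m' + 1) := by
          rw [show 2 * (m' + 1) + 1 = (2 * m' + 1) + 2 by ring, pow_add]; ring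
        have e2 : (2 : ℕ) ^ (2 * (m' + 1)) = 4 * 2 ^ (2 * m') := by
          rw [show 2 * (m' + 1) = 2 * m' + 2 by ring, pow_add]; ring
        have e3 : (2 : ℕ) ^ (m' + 1) = 2 * 2 ^ m' := by rw [pow_succ]; ring
        have e4 : (2 : ℕ) ^ (2 * m' + 1) = 2 * 2 ^ (2 * m') := by rw [pow_succ]; ring
        have e5 : (2 : ℕ) ^ m' ≤ 2 ^ (2 * m') := Nat.pow_le_pow_right (by norm_num) (by omega)
        refine ⟨m' + 1, by omega, ?_, ?_⟩
        · rw [← hcE, hcC, hcm', e1]; norm_num
        · rw [hNC, hcm', e2, e3, e4]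
          rcases hNm' with h1 | h1
          · left; rw [h1]; ring
          · right; rw [h1]; omega
    · push Not at hE
      have hE' : ∀ e : E, e ^ 2 = 1 → e ∈ Subgroup.zpowers z := hE
      obtain ⟨x, y₀, hxy₀⟩ := hna
      obtain ⟨j, hxy⟩ := h.exists_pair hxy₀
      obtain ⟨-, -, hC⟩ := h.quat_case hE' hxy
      have hcC := h.card_eq_sq_mul_card_cent hxy
      have hcC' : Nat.card (ESData.cent x (y₀ ^ j)) = 2 := by rw [hC, h.card_zpowers]
      refine ⟨1, le_refl 1, ?_, Or.inr ?_⟩
      · rw [← hcE, hcC, hcC']; norm_num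
      · rw [h.card_sq_of_quat hE']; norm_num

end Cfsg.Agent.Lib.Helper20.ES
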