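import Mathlib
import Cfsg.Prelude.Def_MonsterType
import Cfsg.Agent.Lib.Helper20.ESLargeConj

/-!
Helper lemmas (helper20): the configuration `u = z^g ∈ Q ∖ Z` for a large extraspecial `Q`:
`V = ⟨z, u⟩`, `X = ⟨Q, Q^g⟩`, `R = C_{Q^g}(z) C_Q(u)`, `E = Q ∩ Q^g`.
-/

set_option autoImplicit false
open scoped commutatorElement

namespace Cfsg.Agent.Lib.Helper20.ES

open Cfsg.Agent.Lib.Helper4

section generic
variable {G : Type*} [Group G]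

/-- `{y ∈ N(W) | ⁅x, y⁆ ∈ W}` as a subgroup -/
def commSub (W : Subgroup G) (x : G) : Subgroup G where
  carrier := {y | y ∈ Subgroup.normalizer (W : Set G) ∧ ⁅x, y⁆ ∈ W}
  one_mem' := ⟨Subgroup.one_mem _, by simp⟩
  mul_mem' := by
    rintro y y' ⟨hy, hxy⟩ ⟨hy', hxy'⟩
    refine ⟨Subgroup.mul_mem _ hy hy', ?_⟩
    have h1 : ⁅x, y * y'⁆ = ⁅x, y⁆ * (y * ⁅x, y'⁆ * y⁻¹) := by
      simp only [commutatorElement_def]; group
    rw [h1]
    exact W.mul_mem hxy ((Subgroup.mem_normalizer_iff.mp hy _).mp hxy')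
  inv_mem' := by
    rintro y ⟨hy, hxy⟩
    refine ⟨Subgroup.inv_mem _ hy, ?_⟩
    have h1 : ⁅x, y⁻¹⁆ = y⁻¹ * (⁅x, y⁆)⁻¹ * (y⁻¹)⁻¹ := by
      simp only [commutatorElement_def]; group
    rw [h1]
    exact (Subgroup.mem_normalizer_iff.mp (Subgroup.inv_mem _ hy) _).mp (W.inv_mem hxy)

theorem comm_right_mem_of_sup (W A B : Subgroup G) (x : G)
    (hA : A ≤ Subgroup.normalizer (W : Set G)) (hB : B ≤ Subgroup.normalizer (W : Set G))
    (hxA : ∀ a ∈ A, ⁅x, a⁆ ∈ W) (hxB : ∀ b ∈ B, ⁅x, b⁆ ∈ W) : ∀ y ∈ A ⊔ B, ⁅x, y⁆ ∈ W := by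
  have h1 : A ⊔ B ≤ commSub W x :=
    sup_le (fun a ha => ⟨hA ha, hxA a ha⟩) (fun b hb => ⟨hB hb, hxB b hb⟩)
  exact fun y hy => (h1 hy).2

theorem comm_mem_of_sup_sup (W A B : Subgroup G)
    (hA : A ≤ Subgroup.normalizer (W : Set G)) (hB : B ≤ Subgroup.normalizer (W : Set G))
    (hAA : ∀ a ∈ A, ∀ a' ∈ A, ⁅a, a'⁆ ∈ W) (hBB : ∀ b ∈ B, ∀ b' ∈ B, ⁅b, b'⁆ ∈ W)
    (hAB : ∀ a ∈ A, ∀ b ∈ B, ⁅a, b⁆ ∈ W) : ∀ x ∈ A ⊔ B, ∀ y ∈ A ⊔ B, ⁅x, y⁆ ∈ W := by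
  have h1 : ∀ a ∈ A, ∀ y ∈ A ⊔ B, ⁅a, y⁆ ∈ W := fun a ha =>
    comm_right_mem_of_sup W A B a hA hB (hAA a ha) (hAB a ha)
  have h2 : ∀ b ∈ B, ∀ y ∈ A ⊔ B, ⁅b, y⁆ ∈ W := fun b hb =>
    comm_right_mem_of_sup W A B b hA hB (fun a ha => by
      rw [← commutatorElement_inv]; exact W.inv_mem (hAB a ha b hb)) (hBB b hb)
  intro x hx y hy
  rw [← commutatorElement_inv]
  apply W.inv_mem
  exact comm_right_mem_of_sup W A B y hA hB
    (fun a ha => by rw [← commutatorElement_inv]; exact W.inv_mem (h1 a ha y hy))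
    (fun b hb => by rw [← commutatorElement_inv]; exact W.inv_mem (h2 b hb y hy)) x hx

/-- `{x ∈ R | x * x ∈ W}` as a subgroup, when commutators of `R` lie in `W` -/
def sqSub (W R : Subgroup G) (hR : R ≤ Subgroup.normalizer (W : Set G))
    (hcomm : ∀ x ∈ R, ∀ y ∈ R, ⁅x, y⁆ ∈ W) : Subgroup G where
  carrier := {x | x ∈ R ∧ x * x ∈ W}
  one_mem' := ⟨R.one_mem, by simp⟩
  mul_mem' := by
    rintro x y ⟨hx, hxx⟩ ⟨hy, hyy⟩
    refine ⟨R.mul_mem hx hy, ?_⟩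
    have h1 : x * y * (x * y) = (x * ⁅y, x⁆ * x⁻¹) * (x * x) * (y * y) := by
      simp only [commutatorElement_def]; group
    rw [h1]
    exact W.mul_mem (W.mul_mem ((Subgroup.mem_normalizer_iff.mp (hR hx) _).mp
      (hcomm y hy x hx)) hxx) hyy
  inv_mem' := by
    rintro x ⟨hx, hxx⟩
    refine ⟨R.inv_mem hx, ?_⟩
    have h1 : x⁻¹ * x⁻¹ = (x * x)⁻¹ := by group
    rw [h1]
    exact W.inv_mem hxx

theorem sq_mem_of_sup (W A B : Subgroup G)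
    (hR : A ⊔ B ≤ Subgroup.normalizer (W : Set G))
    (hcomm : ∀ x ∈ A ⊔ B, ∀ y ∈ A ⊔ B, ⁅x, y⁆ ∈ W)
    (hA : ∀ a ∈ A, a * a ∈ W) (hB : ∀ b ∈ B, b * b ∈ W) : ∀ x ∈ A ⊔ B, x * x ∈ W := by
  have h1 : A ⊔ B ≤ sqSub W (A ⊔ B) hR hcomm :=
    sup_le (fun a ha => ⟨Subgroup.mem_sup_left ha, hA a ha⟩)
      (fun b hb => ⟨Subgroup.mem_sup_right hb, hB b hb⟩)
  exact fun x hx => (h1 hx).2

end generic

/-- the basic data of the configuration -/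
theorem setup {G : Type*} [Group G] [Finite G] (Q : Subgroup G) (hQ : Cfsg.IsLargeExtraspecial Q)
    (z : G) (hz : ((Subgroup.center ↥Q).map Q.subtype) = Subgroup.zpowers z)
    (hz2 : orderOf z = 2) (g : G) (hgH : g ∉ Subgroup.centralizer ({z} : Set G))
    (hgQ : g * z * g⁻¹ ∈ Q) :
    ∃ z₀ : ↥Q, (z₀ : G) = z ∧ ESData 2 ↥Q z₀ ∧ Amb Q z ∧
      (∀ x : G, (∀ q ∈ Q, x * q = q * x) → x ∈ Subgroup.zpowers z) ∧
      (∀ x : G, x * z = z * x → x ∈ Subgroup.normalizer (Q : Set G)) ∧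
      g * z * g⁻¹ ≠ z ∧ z ∈ Q.map (MulAut.conj g).toMonoidHom := by
  obtain ⟨hL1, hL2, hL3, hL4⟩ := hQ
  obtain ⟨z₀, hz₀, hA₀⟩ := exists_amb Q hL1
  have hz1 : z ≠ 1 := by
    intro h
    rw [h, orderOf_one] at hz2
    omega
  have hzz : z = (z₀ : G) := by
    have h1 : z ∈ Subgroup.zpowers (z₀ : G) := by
      rw [← hA₀.center_eq, hz]; exact Subgroup.mem_zpowers z
    rcases (hA₀.mem_zpowers z).mp h1 with h | h
    · exact absurd h hz1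
    · exact h
  subst hzz
  have hL2' : ∀ x : G, (∀ q ∈ Q, x * q = q * x) → x ∈ Subgroup.zpowers (z₀ : G) := by
    intro x hx
    rw [← hz, ← hL2, Subgroup.mem_centralizer_iff]
    intro q hq
    exact (hx q hq).symm
  have hL3' : ∀ x : G, x * (z₀ : G) = (z₀ : G) * x → x ∈ Subgroup.normalizer (Q : Set G) := by
    intro x hx
    apply hL3
    rw [hz, Subgroup.mem_centralizer_iff]
    intro y hy
    rcases (hA₀.mem_zpowers y).mp hy with rfl | rfl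
    · simp
    · exact hx.symm
  have huz : g * (z₀ : G) * g⁻¹ ≠ (z₀ : G) := by
    intro h
    apply hgH
    rw [Subgroup.mem_centralizer_iff]
    intro y hy
    rw [Set.mem_singleton_iff] at hy
    rw [hy]
    exact (mul_inv_eq_iff_eq_mul.mp h).symm
  have hg : g ∉ Subgroup.normalizer (((Subgroup.center ↥Q).map Q.subtype) : Set G) := by
    intro h
    rw [hz] at h
    have h1 := (Subgroup.mem_normalizer_iff.mp h (z₀ : G)).mp (Subgroup.mem_zpowers _)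
    rcases (hA₀.mem_zpowers _).mp h1 with h2 | h2
    · exact hA₀.z1 (conj_eq_one_iff.mp h2)
    · exact huz h2
  have hZg : (((Subgroup.center ↥Q).map Q.subtype)).map (MulAut.conj g).toMonoidHom ≤ Q := by
    rw [hz, MonoidHom.map_zpowers, Subgroup.zpowers_le]
    exact hgQ
  have h := (large_conj Q hL1 hL2 hL3 g hg hZg).1
  rw [hz, Subgroup.zpowers_le] at h
  exact ⟨z₀, rfl, hz₀, hA₀, hL2', hL3', huz, h⟩

end Cfsg.Agent.Lib.Helper20.ES
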