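import Mathlib
import Cfsg.Prelude.Def_MonsterType
import Cfsg.Agent.Lib.Helper20.ESLargeSetup

/-!
Helper lemmas (helper20): structure of `R = C_{Q^g}(z) C_Q(u)` in the large extraspecial configuration.
-/

set_option autoImplicit false
open scoped commutatorElement

namespace Cfsg.Agent.Lib.Helper20.ES

open Cfsg.Agent.Lib.Helper4

/-- elementwise facts of the configuration, bundled -/
structure Cfg {G : Type*} [Group G] (Q : Subgroup G) (z g : G) : Prop where
  amb : Amb Q z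
  cQ : ∀ x : G, (∀ q ∈ Q, x * q = q * x) → x ∈ Subgroup.zpowers z
  nQ : ∀ x : G, x * z = z * x → x ∈ Subgroup.normalizer (Q : Set G)
  uQ : g * z * g⁻¹ ∈ Q
  uz : g * z * g⁻¹ ≠ z
  zQ' : z ∈ Q.map (MulAut.conj g).toMonoidHom
  es : ∃ z₀ : ↥Q, (z₀ : G) = z ∧ ESData 2 ↥Q z₀

namespace Cfg

variable {G : Type*} [Group G] {Q : Subgroup G} {z g : G}

theorem mem_Q' (y : G) : y ∈ Q.map (MulAut.conj g).toMonoidHom ↔ ∃ q ∈ Q, g * q * g⁻¹ = y := by
  rw [Subgroup.mem_map]; rfl

theorem u1 (h : Cfg Q z g) : g * z * g⁻¹ ≠ 1 := fun h' => h.amb.z1 (conj_eq_one_iff.mp h')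

theorem uu (h : Cfg Q z g) : (g * z * g⁻¹) * (g * z * g⁻¹) = 1 := by
  have : g * z * g⁻¹ * (g * z * g⁻¹) = g * (z * z) * g⁻¹ := by group
  rw [this, h.amb.zz]; group

theorem zu (h : Cfg Q z g) : z * (g * z * g⁻¹) = (g * z * g⁻¹) * z := (h.amb.zc _ h.uQ).symm

theorem Q'u (h : Cfg Q z g) : ∀ y ∈ Q.map (MulAut.conj g).toMonoidHom,
    y * (g * z * g⁻¹) = (g * z * g⁻¹) * y := by
  intro y hy
  obtain ⟨q, hq, rfl⟩ := (mem_Q' y).mp hy
  have := h.amb.zc q hq
  calc g * q * g⁻¹ * (g * z * g⁻¹) = g * (q * z) * g⁻¹ := by group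
    _ = g * (z * q) * g⁻¹ := by rw [this]
    _ = g * z * g⁻¹ * (g * q * g⁻¹) := by group

theorem Q'comm (h : Cfg Q z g) : ∀ x ∈ Q.map (MulAut.conj g).toMonoidHom,
    ∀ y ∈ Q.map (MulAut.conj g).toMonoidHom, ⁅x, y⁆ = 1 ∨ ⁅x, y⁆ = g * z * g⁻¹ := by
  intro x hx y hy
  obtain ⟨a, ha, rfl⟩ := (mem_Q' x).mp hx
  obtain ⟨b, hb, rfl⟩ := (mem_Q' y).mp hy
  have h1 : ⁅g * a * g⁻¹, g * b * g⁻¹⁆ = g * ⁅a, b⁆ * g⁻¹ := by
    simp only [commutatorElement_def]; group
  rw [h1]
  rcases h.amb.comm a ha b hb with h2 | h2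
  · left; rw [h2]; group
  · right; rw [h2]

theorem Q'sq (h : Cfg Q z g) : ∀ x ∈ Q.map (MulAut.conj g).toMonoidHom,
    x * x = 1 ∨ x * x = g * z * g⁻¹ := by
  intro x hx
  obtain ⟨a, ha, rfl⟩ := (mem_Q' x).mp hx
  have h1 : g * a * g⁻¹ * (g * a * g⁻¹) = g * (a * a) * g⁻¹ := by group
  rw [h1]
  rcases h.amb.sq a ha with h2 | h2
  · left; rw [h2]; group
  · right; rw [h2]

theorem nQ' [Finite G] (h : Cfg Q z g) : ∀ x : G, x * (g * z * g⁻¹) = (g * z * g⁻¹) * x →
    x ∈ Subgroup.normalizer ((Q.map (MulAut.conj g).toMonoidHom : Subgroup G) : Set G) := by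
  intro x hxu
  have h1 : (g⁻¹ * x * g) * z = z * (g⁻¹ * x * g) := by
    calc (g⁻¹ * x * g) * z = g⁻¹ * (x * (g * z * g⁻¹)) * g := by group
      _ = g⁻¹ * ((g * z * g⁻¹) * x) * g := by rw [hxu]
      _ = z * (g⁻¹ * x * g) := by group
  have h2 := h.nQ _ h1
  apply Subgroup.mem_normalizer_fintype
  intro y hy
  obtain ⟨q, hq, rfl⟩ := (mem_Q' y).mp hy
  have h3 := (Subgroup.mem_normalizer_iff.mp h2 q).mp hq
  rw [SetLike.mem_coe, mem_Q']
  refine ⟨_, h3, ?_⟩
  group

end Cfg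

theorem cfg_of {G : Type*} [Group G] [Finite G] (Q : Subgroup G) (hQ : Cfsg.IsLargeExtraspecial Q)
    (z : G) (hz : ((Subgroup.center ↥Q).map Q.subtype) = Subgroup.zpowers z)
    (hz2 : orderOf z = 2) (g : G) (hgH : g ∉ Subgroup.centralizer ({z} : Set G))
    (hgQ : g * z * g⁻¹ ∈ Q) : Cfg Q z g := by
  obtain ⟨z₀, h1, h2, h3, h4, h5, h6, h7⟩ := setup Q hQ z hz hz2 g hgH hgQ
  exact ⟨h3, h4, h5, hgQ, h6, h7, z₀, h1, h2⟩

/-- normalizing two subgroups normalizes their intersection -/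
theorem mem_normalizer_inf {G : Type*} [Group G] {A B : Subgroup G} {x : G}
    (hA : x ∈ Subgroup.normalizer (A : Set G)) (hB : x ∈ Subgroup.normalizer (B : Set G)) :
    x ∈ Subgroup.normalizer ((A ⊓ B : Subgroup G) : Set G) := by
  rw [Subgroup.mem_normalizer_iff] at hA hB ⊢
  intro y
  constructor
  · rintro ⟨h1, h2⟩
    exact ⟨(hA y).mp h1, (hB y).mp h2⟩
  · rintro ⟨h1, h2⟩
    exact ⟨(hA y).mpr h1, (hB y).mpr h2⟩

/-- structure of `R` (= S5431) -/
theorem cfg_R {G : Type*} [Group G] [Finite G] (Q : Subgroup G) (z g : G) (h : Cfg Q z g)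
    (V X R E : Subgroup G) (hV : V = Subgroup.closure ({z, g * z * g⁻¹} : Set G))
    (hX : X = Q ⊔ (Q).map (MulAut.conj g).toMonoidHom)
    (hR : R = ((Q).map (MulAut.conj g).toMonoidHom ⊓ Subgroup.centralizer ({z} : Set G)) ⊔
      (Q ⊓ Subgroup.centralizer ({g * z * g⁻¹} : Set G)))
    (hE : E = Q ⊓ (Q).map (MulAut.conj g).toMonoidHom) :
    (Subgroup.center ↥R).map R.subtype = V ∧
    E ≤ (Subgroup.upperCentralSeries ↥R 2).map R.subtype ∧
    Subgroup.upperCentralSeries ↥R 3 = ⊤ ∧ Cfsg.IsElementaryAbelian 2 E ∧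
    (∀ x ∈ R, ∀ y ∈ R, x * y * x⁻¹ * y⁻¹ ∈ E ∧ x ^ 2 ∈ E) ∧
    ((Q).map (MulAut.conj g).toMonoidHom ⊓ Subgroup.centralizer ({z} : Set G)) ⊓
      (Q ⊓ Subgroup.centralizer ({g * z * g⁻¹} : Set G)) = E ∧
    ⁅X, E⁆ ≤ V := by
  have hA := h.amb
  set u : G := g * z * g⁻¹ with hu_def
  set Q' := Q.map (MulAut.conj g).toMonoidHom with hQ'
  have hu : u ∈ Q := h.uQ
  have huQ' : u ∈ Q' := (Cfg.mem_Q' u).mpr ⟨z, hA.zQ, rfl⟩
  have huu : u * u = 1 := h.uu
  have hzu : z * u = u * z := h.zu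
  have hzQ' : z ∈ Q' := h.zQ'
  set T := kleinOf z u hA.zz huu hzu with hT
  have hzT : z ∈ T := mem_kleinOf.mpr (Or.inr (Or.inl rfl))
  have huT : u ∈ T := mem_kleinOf.mpr (Or.inr (Or.inr (Or.inl rfl)))
  have hVT : V = T := by
    rw [hV]
    apply le_antisymm
    · rw [Subgroup.closure_le]
      intro x hx
      rcases hx with rfl | hx
      · exact hzT
      · rw [Set.mem_singleton_iff] at hx; rw [hx]; exact huT
    · intro x hx
      have hz' : z ∈ Subgroup.closure ({z, u} : Set G) := Subgroup.subset_closure (by simp)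
      have hu' : u ∈ Subgroup.closure ({z, u} : Set G) := Subgroup.subset_closure (by simp)
      rcases mem_kleinOf.mp hx with rfl | rfl | rfl | rfl
      · exact Subgroup.one_mem _
      · exact hz'
      · exact hu'
      · exact Subgroup.mul_mem _ hz' hu'
  set P := Q ⊓ Subgroup.centralizer ({u} : Set G) with hP
  set P' := Q' ⊓ Subgroup.centralizer ({z} : Set G) with hP'
  have hPmem : ∀ x : G, x ∈ P ↔ x ∈ Q ∧ x * u = u * x := by
    intro x
    rw [hP, Subgroup.mem_inf, Subgroup.mem_centralizer_iff]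
    constructor
    · rintro ⟨h1, h2⟩
      exact ⟨h1, (h2 u rfl).symm⟩
    · rintro ⟨h1, h2⟩
      refine ⟨h1, ?_⟩
      intro y hy
      rw [Set.mem_singleton_iff] at hy
      rw [hy]; exact h2.symm
  have hP'mem : ∀ x : G, x ∈ P' ↔ x ∈ Q' ∧ x * z = z * x := by
    intro x
    rw [hP', Subgroup.mem_inf, Subgroup.mem_centralizer_iff]
    constructor
    · rintro ⟨h1, h2⟩
      exact ⟨h1, (h2 z rfl).symm⟩
    · rintro ⟨h1, h2⟩
      refine ⟨h1, ?_⟩
      intro y hy
      rw [Set.mem_singleton_iff] at hy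
      rw [hy]; exact h2.symm
  have hEmem : ∀ x : G, x ∈ E ↔ x ∈ Q ∧ x ∈ Q' := by
    intro x; rw [hE, Subgroup.mem_inf]
  have hzE : z ∈ E := (hEmem z).mpr ⟨hA.zQ, hzQ'⟩
  have huE : u ∈ E := (hEmem u).mpr ⟨hu, huQ'⟩
  have hEP : E ≤ P := by
    intro x hx
    obtain ⟨h1, h2⟩ := (hEmem x).mp hx
    exact (hPmem x).mpr ⟨h1, h.Q'u x h2⟩
  have hEP' : E ≤ P' := by
    intro x hx
    obtain ⟨h1, h2⟩ := (hEmem x).mp hx
    exact (hP'mem x).mpr ⟨h2, hA.zc x h1⟩
  have hPR : P ≤ R := by rw [hR]; exact le_sup_right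
  have hP'R : P' ≤ R := by rw [hR]; exact le_sup_left
  -- part (f)
  have hf : P' ⊓ P = E := by
    apply le_antisymm
    · intro x hx
      exact (hEmem x).mpr ⟨((hPmem x).mp hx.2).1, ((hP'mem x).mp hx.1).1⟩
    · exact le_inf hEP' hEP
  -- normalizers
  have hPnQ' : ∀ p ∈ P, p ∈ Subgroup.normalizer (Q' : Set G) := fun p hp =>
    h.nQ' p ((hPmem p).mp hp).2
  have hP'nQ : ∀ p ∈ P', p ∈ Subgroup.normalizer (Q : Set G) := fun p hp =>
    h.nQ p ((hP'mem p).mp hp).2
  have hQnQ : ∀ q ∈ Q, q ∈ Subgroup.normalizer (Q : Set G) := fun q hq =>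
    Subgroup.le_normalizer hq
  have hQ'nQ' : ∀ q ∈ Q', q ∈ Subgroup.normalizer (Q' : Set G) := fun q hq =>
    Subgroup.le_normalizer hq
  have hPnE : P ≤ Subgroup.normalizer (E : Set G) := by
    intro p hp
    rw [hE]
    exact mem_normalizer_inf (hQnQ p ((hPmem p).mp hp).1) (hPnQ' p hp)
  have hP'nE : P' ≤ Subgroup.normalizer (E : Set G) := by
    intro p hp
    rw [hE]
    exact mem_normalizer_inf (hP'nQ p hp) (hQ'nQ' p ((hP'mem p).mp hp).1)
  -- commutators in E
  have hcPP : ∀ a ∈ P, ∀ b ∈ P, ⁅a, b⁆ ∈ E := by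
    intro a ha b hb
    rcases hA.comm a ((hPmem a).mp ha).1 b ((hPmem b).mp hb).1 with h1 | h1 <;> rw [h1]
    · exact E.one_mem
    · exact hzE
  have hcP'P' : ∀ a ∈ P', ∀ b ∈ P', ⁅a, b⁆ ∈ E := by
    intro a ha b hb
    rcases h.Q'comm a ((hP'mem a).mp ha).1 b ((hP'mem b).mp hb).1 with h1 | h1 <;> rw [h1]
    · exact E.one_mem
    · exact huE
  have hcP'P : ∀ a ∈ P', ∀ b ∈ P, ⁅a, b⁆ ∈ E := by
    intro a ha b hb
    rw [hEmem]
    constructor
    · have h1 : ⁅a, b⁆ = (a * b * a⁻¹) * b⁻¹ := by rw [commutatorElement_def]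
      rw [h1]
      exact Q.mul_mem ((Subgroup.mem_normalizer_iff.mp (hP'nQ a ha) b).mp ((hPmem b).mp hb).1)
        (Q.inv_mem ((hPmem b).mp hb).1)
    · have h1 : ⁅a, b⁆ = a * (b * a⁻¹ * b⁻¹) := by rw [commutatorElement_def]; group
      rw [h1]
      exact Q'.mul_mem ((hP'mem a).mp ha).1
        ((Subgroup.mem_normalizer_iff.mp (hPnQ' b hb) a⁻¹).mp (Q'.inv_mem ((hP'mem a).mp ha).1))
  have hcomm : ∀ x ∈ R, ∀ y ∈ R, ⁅x, y⁆ ∈ E := by
    rw [hR]
    exact comm_mem_of_sup_sup E P' P hP'nE hPnE hcP'P' hcPP hcP'P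
  have hsq : ∀ x ∈ R, x * x ∈ E := by
    rw [hR]
    apply sq_mem_of_sup E P' P (sup_le hP'nE hPnE)
    · rw [← hR]; exact hcomm
    · intro a ha
      rcases h.Q'sq a ((hP'mem a).mp ha).1 with h1 | h1 <;> rw [h1]
      · exact E.one_mem
      · exact huE
    · intro a ha
      rcases hA.sq a ((hPmem a).mp ha).1 with h1 | h1 <;> rw [h1]
      · exact E.one_mem
      · exact hzE
  -- R centralizes T
  have hRC : R ≤ Subgroup.centralizer (T : Set G) := by
    rw [hR]
    apply sup_le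
    · intro x hx
      obtain ⟨h1, h2⟩ := (hP'mem x).mp hx
      rw [Subgroup.mem_centralizer_iff]
      intro y hy
      exact (commute_kleinOf hy h2 (h.Q'u x h1)).symm
    · intro x hx
      obtain ⟨h1, h2⟩ := (hPmem x).mp hx
      rw [Subgroup.mem_centralizer_iff]
      intro y hy
      exact (commute_kleinOf hy (hA.zc x h1) h2).symm
  have hTP : T ≤ P := by
    intro x hx
    rcases mem_kleinOf.mp hx with rfl | rfl | rfl | rfl
    · exact P.one_mem
    · exact hEP hzE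
    · exact hEP huE
    · exact P.mul_mem (hEP hzE) (hEP huE)
  have hTR : T ≤ R := hTP.trans hPR
  have hRnT : R ≤ Subgroup.normalizer (T : Set G) :=
    hRC.trans (Subgroup.centralizer_le_normalizer _)
  -- part (a)
  have ha : (Subgroup.center ↥R).map R.subtype = V := by
    rw [hVT]
    ext x
    constructor
    · rintro ⟨c, hc, rfl⟩
      rw [SetLike.mem_coe, Subgroup.mem_center_iff] at hc
      have hxR : (c : G) ∈ R := c.2
      have hcomm' : ∀ y ∈ R, y * (c : G) = (c : G) * y := fun y hy =>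
        congrArg Subtype.val (hc ⟨y, hy⟩)
      have hxz : (c : G) * z = z * (c : G) := (hcomm' z (hTR hzT)).symm
      have hxN := h.nQ _ hxz
      obtain ⟨z₀, hz₀eq, hz₀⟩ := h.es
      have hxP : ∀ q ∈ Q, q * u = u * q → (c : G) * q = q * (c : G) := fun q hq hqu =>
        (hcomm' q (hPR ((hPmem q).mpr ⟨hq, hqu⟩))).symm
      have huzn : (⟨u, hu⟩ : ↥Q) ∉ Subgroup.zpowers z₀ := by
        intro h'
        rcases hz₀.mem_zpowers_two h' with h'' | h''
        · exact h.u1 (congrArg Subtype.val h'')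
        · exact h.uz ((congrArg Subtype.val h'').trans hz₀eq)
      have := mem_of_centralizes_cent Q z₀ hz₀ (by rw [hz₀eq]; exact h.cQ) u hu huzn huu
        (c : G) hxN hxP
      rw [hz₀eq] at this
      rcases this with h1 | h1
      · rcases (hA.mem_zpowers _).mp h1 with h2 | h2
        · show (c : G) ∈ T
          rw [h2]; exact T.one_mem
        · show (c : G) ∈ T
          rw [h2]; exact hzT
      · have hx' : (c : G) = u * (u⁻¹ * (c : G)) := by group
        show (c : G) ∈ T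
        rw [hx']
        exact T.mul_mem huT (by
          rcases (hA.mem_zpowers _).mp h1 with h' | h'
          · rw [h']; exact T.one_mem
          · rw [h']; exact hzT)
    · intro hx
      refine ⟨⟨x, hTR hx⟩, ?_, rfl⟩
      rw [SetLike.mem_coe, Subgroup.mem_center_iff]
      intro y
      apply Subtype.ext
      exact Subgroup.mem_centralizer_iff.mp (hRC y.2) x hx |>.symm
  -- commutators with `E` lie in `T`
  have hET : ∀ e ∈ E, ∀ y ∈ R, ⁅e, y⁆ ∈ T := by
    intro e he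
    rw [hR]
    apply comm_right_mem_of_sup T P' P e (hP'R.trans hRnT) (hPR.trans hRnT)
    · intro a ha'
      rcases h.Q'comm e ((hEmem e).mp he).2 a ((hP'mem a).mp ha').1 with h1 | h1 <;> rw [h1]
      · exact T.one_mem
      · exact huT
    · intro a ha'
      rcases hA.comm e ((hEmem e).mp he).1 a ((hPmem a).mp ha').1 with h1 | h1 <;> rw [h1]
      · exact T.one_mem
      · exact hzT
  have hER : E ≤ R := hEP.trans hPR
  have hTcen : ∀ t : ↥R, (t : G) ∈ T → t ∈ Subgroup.center ↥R := by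
    intro t ht
    rw [Subgroup.mem_center_iff]
    intro y
    apply Subtype.ext
    exact Subgroup.mem_centralizer_iff.mp (hRC y.2) _ ht |>.symm
  have hEucs : ∀ e : ↥R, (e : G) ∈ E → e ∈ Subgroup.upperCentralSeries ↥R 2 := by
    intro e he
    rw [show (2 : ℕ) = 1 + 1 from rfl, Subgroup.mem_upperCentralSeries_succ_iff]
    intro y
    rw [Subgroup.upperCentralSeries_one]
    apply hTcen
    have := hET e he y y.2
    simpa [commutatorElement_def] using this
  -- part (b)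
  have hb : E ≤ (Subgroup.upperCentralSeries ↥R 2).map R.subtype := by
    intro e he
    exact ⟨⟨e, hER he⟩, hEucs _ he, rfl⟩
  -- part (c)
  have hc : Subgroup.upperCentralSeries ↥R 3 = ⊤ := by
    rw [eq_top_iff]
    intro x _
    rw [show (3 : ℕ) = 2 + 1 from rfl, Subgroup.mem_upperCentralSeries_succ_iff]
    intro y
    apply hEucs
    have := hcomm x x.2 y y.2
    simpa [commutatorElement_def] using this
  -- part (d)
  have hd : Cfsg.IsElementaryAbelian 2 E := by
    constructor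
    · constructor
      constructor
      intro a b
      apply Subtype.ext
      rw [Subgroup.coe_mul, Subgroup.coe_mul]
      obtain ⟨ha1, ha2⟩ := (hEmem _).mp a.2
      obtain ⟨hb1, hb2⟩ := (hEmem _).mp b.2
      apply commutatorElement_eq_one_iff_mul_comm.mp
      rcases hA.comm _ ha1 _ hb1 with h1 | h1
      · exact h1
      · rcases h.Q'comm _ ha2 _ hb2 with h2 | h2
        · exact h2
        · exact absurd (h2.symm.trans h1) h.uz
    · intro a ha'
      obtain ⟨ha1, ha2⟩ := (hEmem _).mp ha'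
      rw [pow_two]
      rcases hA.sq _ ha1 with h1 | h1
      · exact h1
      · rcases h.Q'sq _ ha2 with h2 | h2
        · exact h2
        · exact absurd (h2.symm.trans h1) h.uz
  -- part (g)
  have hQnT : Q ≤ Subgroup.normalizer (T : Set G) := by
    intro q hq
    apply Subgroup.mem_normalizer_fintype
    intro t ht
    have hqz : q * z * q⁻¹ = z := by rw [hA.zc q hq, mul_inv_cancel_right]
    have hqu : q * u * q⁻¹ ∈ T := by
      have h1 : q * u * q⁻¹ = ⁅q, u⁆ * u := by rw [commutatorElement_def]; group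
      rw [h1]
      rcases hA.comm q hq u hu with h2 | h2 <;> rw [h2]
      · rw [one_mul]; exact huT
      · exact T.mul_mem hzT huT
    rcases mem_kleinOf.mp ht with rfl | rfl | rfl | rfl
    · simp
    · rw [hqz]; exact hzT
    · exact hqu
    · have h1 : q * (z * u) * q⁻¹ = (q * z * q⁻¹) * (q * u * q⁻¹) := by group
      rw [SetLike.mem_coe, h1, hqz]
      exact T.mul_mem hzT hqu
  have hQ'nT : Q' ≤ Subgroup.normalizer (T : Set G) := by
    intro q hq
    apply Subgroup.mem_normalizer_fintype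
    intro t ht
    have hqu : q * u * q⁻¹ = u := by rw [h.Q'u q hq, mul_inv_cancel_right]
    have hqz : q * z * q⁻¹ ∈ T := by
      have h1 : q * z * q⁻¹ = ⁅q, z⁆ * z := by rw [commutatorElement_def]; group
      rw [h1]
      rcases h.Q'comm q hq z hzQ' with h2 | h2 <;> rw [h2]
      · rw [one_mul]; exact hzT
      · exact T.mul_mem huT hzT
    rcases mem_kleinOf.mp ht with rfl | rfl | rfl | rfl
    · simp
    · exact hqz
    · rw [hqu]; exact huT
    · have h1 : q * (z * u) * q⁻¹ = (q * z * q⁻¹) * (q * u * q⁻¹) := by group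
      rw [SetLike.mem_coe, h1, hqu]
      exact T.mul_mem hqz huT
  have hg : ⁅X, E⁆ ≤ V := by
    rw [hVT, Subgroup.commutator_le]
    intro x hx e he
    rw [← commutatorElement_inv]
    apply T.inv_mem
    rw [hX] at hx
    apply comm_right_mem_of_sup T Q Q' e hQnT hQ'nT _ _ x hx
    · intro a ha'
      rcases hA.comm e ((hEmem e).mp he).1 a ha' with h1 | h1 <;> rw [h1]
      · exact T.one_mem
      · exact hzT
    · intro a ha'
      rcases h.Q'comm e ((hEmem e).mp he).2 a ha' with h1 | h1 <;> rw [h1]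
      · exact T.one_mem
      · exact huT
  refine ⟨ha, hb, hc, hd, ?_, hf, hg⟩
  intro x hx y hy
  refine ⟨?_, ?_⟩
  · have := hcomm x hx y hy
    rwa [commutatorElement_def] at this
  · rw [pow_two]; exact hsq x hx

end Cfsg.Agent.Lib.Helper20.ES
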