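import Mathlib
import Cfsg.Prelude.Def_MonsterType
import Cfsg.Agent.Lib.Helper20.ESCriterion
import Cfsg.Agent.Lib.Helper20.ESTwo
import Cfsg.Agent.Lib.Helper17.CoprimeGen
import Cfsg.Agent.Lib.Helper9.Stability
import Cfsg.Agent.Lib.Helper1.Commutator

/-!
Helper lemmas (helper20): odd-order groups acting on a large extraspecial 2-subgroup `Q`:
`Q = C_Q(A) ∘ [Q, A]` with extraspecial factors.
-/

set_option autoImplicit false
open scoped commutatorElement

namespace Cfsg.Agent.Lib.Helper20.ES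

/-- `ESData` for a subgroup `H` of a subgroup `Q` carrying extraspecial-type data in the ambient group -/
theorem esData_of_ambient {p : ℕ} {G : Type*} [Group G] (Q H : Subgroup G) (zG : G) (hHQ : H ≤ Q)
    (hz : zG ∈ H) (hz1 : zG ≠ 1) (hz2 : zG ^ p = 1) (hzc : ∀ q ∈ Q, q * zG = zG * q)
    (hcomm : ∀ x ∈ Q, ∀ y ∈ Q, ⁅x, y⁆ ∈ Subgroup.zpowers zG)
    (hpow : ∀ x ∈ Q, x ^ p ∈ Subgroup.zpowers zG)
    (hcen : ∀ w ∈ H, (∀ u ∈ H, u * w = w * u) → w ∈ Subgroup.zpowers zG) :
    ESData p ↥H ⟨zG, hz⟩ where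
  z_ne := fun h => hz1 (congrArg Subtype.val h)
  z_pow := Subtype.ext (by rw [Subgroup.coe_pow]; exact hz2)
  z_central := by
    rw [Subgroup.mem_center_iff]
    intro c
    exact Subtype.ext (hzc c (hHQ c.2))
  center_le := by
    intro w hw
    have h1 := hcen w w.2 (fun u hu => by
      have := Subgroup.mem_center_iff.mp hw ⟨u, hu⟩
      exact congrArg Subtype.val this)
    obtain ⟨k, hk⟩ := Subgroup.mem_zpowers_iff.mp h1
    exact Subgroup.mem_zpowers_iff.mpr ⟨k, Subtype.ext (by rw [Subgroup.coe_zpow]; exact hk)⟩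
  comm_mem := by
    intro a b
    obtain ⟨k, hk⟩ := Subgroup.mem_zpowers_iff.mp (hcomm a (hHQ a.2) b (hHQ b.2))
    exact Subgroup.mem_zpowers_iff.mpr ⟨k, Subtype.ext (by rw [Subgroup.coe_zpow]; exact hk)⟩
  pow_mem := by
    intro a
    obtain ⟨k, hk⟩ := Subgroup.mem_zpowers_iff.mp (hpow a (hHQ a.2))
    exact Subgroup.mem_zpowers_iff.mpr ⟨k, Subtype.ext (by
      rw [Subgroup.coe_zpow, Subgroup.coe_pow]; exact hk)⟩


/-- odd-order `A ≤ N(Q)`, `Q` large extraspecial: `Q = C_Q(A) ∘ [Q, A]` with extraspecial factors -/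
theorem large_extraspecial_decomp {G : Type*} [Group G] [Finite G] (Q : Subgroup G)
    (hQ : Cfsg.IsLargeExtraspecial Q) (A : Subgroup G)
    (hA : A ≤ Subgroup.normalizer (Q : Set G)) (hAodd : Odd (Nat.card ↥A)) (hA1 : A ≠ ⊥) :
    (Q ⊓ Subgroup.centralizer (A : Set G)) ⊔ ⁅Q, A⁆ = Q ∧
    (∀ x ∈ Q ⊓ Subgroup.centralizer (A : Set G), ∀ y ∈ ⁅Q, A⁆, x * y = y * x) ∧
    Cfsg.IsExtraspecial 2 ↥⁅Q, A⁆ ∧
    (Q ⊓ Subgroup.centralizer (A : Set G) = ((Subgroup.center ↥Q).map Q.subtype) ∨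
      Cfsg.IsExtraspecial 2 ↥(Q ⊓ Subgroup.centralizer (A : Set G))) := by
  haveI : Fact (Nat.Prime 2) := ⟨Nat.prime_two⟩
  obtain ⟨hES, hCQ, hNZ, hodd⟩ := hQ
  obtain ⟨z, hz⟩ := exists_esData hES
  set zG : G := (z : G) with hzG
  -- F1
  have F1 : (Subgroup.center ↥Q).map Q.subtype = Subgroup.zpowers zG := by
    rw [hz.center_eq, MonoidHom.map_zpowers]
    rfl
  have hzQ : zG ∈ Q := z.2
  have hz1 : zG ≠ 1 := fun h => hz.z_ne (Subtype.ext h)
  have hz2 : zG ^ 2 = 1 := by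
    have := congrArg Subtype.val hz.z_pow
    simpa using this
  have hzc : ∀ q ∈ Q, q * zG = zG * q := by
    intro q hq
    have := Subgroup.mem_center_iff.mp hz.z_central ⟨q, hq⟩
    exact congrArg Subtype.val this
  have hcomm : ∀ x ∈ Q, ∀ y ∈ Q, ⁅x, y⁆ ∈ Subgroup.zpowers zG := by
    intro x hx y hy
    obtain ⟨k, hk⟩ := Subgroup.mem_zpowers_iff.mp (hz.comm_mem ⟨x, hx⟩ ⟨y, hy⟩)
    exact Subgroup.mem_zpowers_iff.mpr ⟨k, by
      have := congrArg Subtype.val hk
      rw [Subgroup.coe_zpow] at this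
      rw [this]; simp [commutatorElement_def]⟩
  have hpow : ∀ x ∈ Q, x ^ 2 ∈ Subgroup.zpowers zG := by
    intro x hx
    obtain ⟨k, hk⟩ := Subgroup.mem_zpowers_iff.mp (hz.pow_mem ⟨x, hx⟩)
    exact Subgroup.mem_zpowers_iff.mpr ⟨k, by
      have := congrArg Subtype.val hk
      simpa using this⟩
  have hmem2 : ∀ w ∈ Subgroup.zpowers zG, w = 1 ∨ w = zG := by
    intro w hw
    obtain ⟨k, rfl⟩ := Subgroup.mem_zpowers_iff.mp hw
    rcases Int.even_or_odd' k with ⟨m, rfl | rfl⟩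
    · left
      rw [zpow_mul, zpow_ofNat, hz2, one_zpow]
    · right
      rw [zpow_add, zpow_mul, zpow_ofNat, hz2, one_zpow, one_mul, zpow_one]
  have hzQle : Subgroup.zpowers zG ≤ Q := by
    rw [Subgroup.zpowers_le]; exact hzQ
  -- F2
  have F2 : ∀ a ∈ A, a * zG = zG * a := by
    intro a ha
    have h1 : a * zG * a⁻¹ ∈ (Subgroup.center ↥Q).map Q.subtype :=
      Cfsg.Agent.Lib.Helper1.conj_mem_map_subtype_of_characteristic Q (Subgroup.center ↥Q)
        (hA ha) (by rw [F1]; exact Subgroup.mem_zpowers zG)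
    rw [F1] at h1
    rcases hmem2 _ h1 with h | h
    · exfalso
      exact hz1 (conj_eq_one_iff.mp h)
    · exact mul_inv_eq_iff_eq_mul.mp h
  have hzCA : zG ∈ Subgroup.centralizer (A : Set G) := by
    rw [Subgroup.mem_centralizer_iff]
    intro a ha
    exact F2 a ha
  -- F4
  have hPQ : IsPGroup 2 ↥Q := hz.isPGroup
  have hcop : (Nat.card ↥A).Coprime (Nat.card ↥Q) := by
    obtain ⟨k, hk⟩ := hPQ.exists_card_eq
    rw [hk]
    exact (Odd.coprime_two_right hAodd).pow_right k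
  have hsolv : Group.IsSolvable ↥Q := by
    haveI := hPQ.isNilpotent
    infer_instance
  -- F5, F6
  have F5 := Cfsg.Agent.Lib.Helper17.le_centralizer_sup_commutator A Q hA hcop (Or.inr hsolv)
  have hRQ : ⁅Q, A⁆ ≤ Q := Cfsg.Agent.Lib.Helper1.commutator_le_of_le_normalizer hA
  have hCQ' : Q ⊓ Subgroup.centralizer (A : Set G) ≤ Q := inf_le_left
  have hsup : (Q ⊓ Subgroup.centralizer (A : Set G)) ⊔ ⁅Q, A⁆ = Q :=
    le_antisymm (sup_le hCQ' hRQ) F5
  -- F7
  have F7 : ⁅⁅Q, A⁆, Q ⊓ Subgroup.centralizer (A : Set G)⁆ = ⊥ := by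
    apply Subgroup.commutator_commutator_eq_bot_of_rotate
    · -- ⁅⁅A, C⁆, Q⁆ = ⊥
      have : ⁅A, Q ⊓ Subgroup.centralizer (A : Set G)⁆ = ⊥ := by
        rw [Subgroup.commutator_eq_bot_iff_le_centralizer]
        intro a ha
        rw [Subgroup.mem_centralizer_iff]
        intro c hc
        exact (Subgroup.mem_centralizer_iff.mp hc.2 a ha).symm
      rw [this, Subgroup.commutator_bot_left]
    · -- ⁅⁅C, Q⁆, A⁆ = ⊥
      rw [Subgroup.commutator_eq_bot_iff_le_centralizer]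
      have h1 : ⁅Q ⊓ Subgroup.centralizer (A : Set G), Q⁆ ≤ Subgroup.zpowers zG := by
        rw [Subgroup.commutator_le]
        intro c hc q hq
        exact hcomm c hc.1 q hq
      refine h1.trans ?_
      rw [Subgroup.zpowers_le, Subgroup.mem_centralizer_iff]
      intro a ha
      exact F2 a ha
  have hRC : ∀ x ∈ Q ⊓ Subgroup.centralizer (A : Set G), ∀ y ∈ ⁅Q, A⁆, x * y = y * x := by
    intro x hx y hy
    have := Subgroup.commutator_eq_bot_iff_le_centralizer.mp F7 hy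
    exact Subgroup.mem_centralizer_iff.mp this x hx
  -- F8
  have F8 : ∀ w ∈ Q, (∀ x ∈ Q ⊓ Subgroup.centralizer (A : Set G), x * w = w * x) →
      (∀ y ∈ ⁅Q, A⁆, y * w = w * y) → w ∈ Subgroup.zpowers zG := by
    intro w hw h1 h2
    rw [← F1, ← hCQ, Subgroup.mem_centralizer_iff]
    intro q hq
    have hle : Q ≤ Subgroup.centralizer ({w} : Set G) := by
      rw [← hsup]
      apply sup_le
      · intro x hx
        rw [Subgroup.mem_centralizer_iff]
        intro t ht
        rw [Set.mem_singleton_iff] at ht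
        subst ht
        exact (h1 x hx).symm
      · intro y hy
        rw [Subgroup.mem_centralizer_iff]
        intro t ht
        rw [Set.mem_singleton_iff] at ht
        subst ht
        exact (h2 y hy).symm
    have := Subgroup.mem_centralizer_iff.mp (hle hq) w (Set.mem_singleton w)
    exact this.symm
  have hcenR : ∀ w ∈ ⁅Q, A⁆, (∀ u ∈ ⁅Q, A⁆, u * w = w * u) → w ∈ Subgroup.zpowers zG := by
    intro w hw h
    exact F8 w (hRQ hw) (fun x hx => hRC x hx w hw) h
  have hcenC : ∀ w ∈ Q ⊓ Subgroup.centralizer (A : Set G),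
      (∀ u ∈ Q ⊓ Subgroup.centralizer (A : Set G), u * w = w * u) →
      w ∈ Subgroup.zpowers zG := by
    intro w hw h
    exact F8 w hw.1 h (fun y hy => (hRC w hw y hy).symm)
  -- F9
  have F9 : ∃ x ∈ ⁅Q, A⁆, ∃ y ∈ ⁅Q, A⁆, ⁅x, y⁆ ≠ 1 := by
    by_contra hcon
    push Not at hcon
    have hRz : ⁅Q, A⁆ ≤ Subgroup.zpowers zG := by
      intro r hr
      apply hcenR r hr
      intro u hu
      have := hcon u hu r hr
      rwa [commutatorElement_eq_one_iff_mul_comm] at this
    apply hA1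
    have hAQ : A ≤ Q := by
      intro a ha
      have hcopa : (orderOf a).Coprime (Nat.card ↥Q) :=
        Nat.Coprime.coprime_dvd_left (Subgroup.orderOf_dvd_natCard A ha) hcop
      have := Cfsg.Agent.Lib.Helper9.mem_centralizer_of_stabilizes_pair Q (Subgroup.zpowers zG)
        hzQle a hcopa ?_ ?_
      · have hacen : a ∈ Subgroup.centralizer (Q : Set G) := by
          rw [Subgroup.mem_centralizer_iff]
          intro q hq
          exact (this q hq).symm
        rw [hCQ, F1] at hacen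
        exact hzQle hacen
      · intro k hk
        rcases hmem2 k hk with rfl | rfl
        · simp
        · exact F2 a ha
      · intro h hh
        exact hRz (Subgroup.commutator_mem_commutator hh ha)
    have hdvd : Nat.card ↥A ∣ Nat.card ↥Q := Subgroup.card_dvd_of_le hAQ
    exact Subgroup.card_eq_one.mp (Nat.Coprime.eq_one_of_dvd hcop hdvd)
  obtain ⟨x, hx, y, hy, hxy⟩ := F9
  have hzR : zG ∈ ⁅Q, A⁆ := by
    rcases hmem2 _ (hcomm x (hRQ hx) y (hRQ hy)) with h | h
    · exact absurd h hxy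
    · rw [← h, commutatorElement_def]
      exact Subgroup.mul_mem _ (Subgroup.mul_mem _ (Subgroup.mul_mem _ hx hy)
        (Subgroup.inv_mem _ hx)) (Subgroup.inv_mem _ hy)
  have hzC : zG ∈ Q ⊓ Subgroup.centralizer (A : Set G) := ⟨hzQ, hzCA⟩
  have hESR : Cfsg.IsExtraspecial 2 ↥⁅Q, A⁆ := by
    have hd := esData_of_ambient (p := 2) Q ⁅Q, A⁆ zG hRQ hzR hz1 hz2 hzc hcomm hpow hcenR
    apply hd.isExtraspecial
    refine ⟨⟨x, hx⟩, ⟨y, hy⟩, ?_⟩
    intro h
    apply hxy
    have := congrArg Subtype.val h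
    simpa [commutatorElement_def] using this
  refine ⟨hsup, hRC, hESR, ?_⟩
  by_cases hab : ∀ u ∈ Q ⊓ Subgroup.centralizer (A : Set G),
      ∀ v ∈ Q ⊓ Subgroup.centralizer (A : Set G), u * v = v * u
  · left
    rw [F1]
    apply le_antisymm
    · intro w hw
      exact hcenC w hw (fun u hu => hab u hu w hw)
    · rw [Subgroup.zpowers_le]; exact hzC
  · right
    push Not at hab
    obtain ⟨u, hu, v, hv, huv⟩ := hab
    have hd := esData_of_ambient (p := 2) Q (Q ⊓ Subgroup.centralizer (A : Set G)) zG hCQ' hzC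
      hz1 hz2 hzc hcomm hpow hcenC
    apply hd.isExtraspecial
    refine ⟨⟨u, hu⟩, ⟨v, hv⟩, ?_⟩
    intro h
    apply huv
    have := congrArg Subtype.val h
    have h2 : ⁅u, v⁆ = 1 := by simpa [commutatorElement_def] using this
    exact commutatorElement_eq_one_iff_mul_comm.mp h2

end Cfsg.Agent.Lib.Helper20.ES
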