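import Mathlib
import Cfsg.Prelude.Def_Blocks
import Cfsg.Prelude.Def_Local
import Cfsg.Agent.Lib.Helper6.Clifford
import Cfsg.Agent.Lib.Helper6.CliffordCorr
import Cfsg.Agent.Lib.Helper24.PSolvable
import Cfsg.Agent.Lib.Helper24.IrrFacts
import Cfsg.Agent.Lib.Helper14.TPDefs
import Cfsg.Agent.Lib.Lead.CharMore

/-!
# S4885 leaf (NV2): `exists_invUnder_over`  (helper20; planner helper14)

`R ≤ K` normal in `Γ`, `K` a `p'`-group, `A` a `p`-subgroup, `ρ ∈ Irr(R)` `A`-invariant: some
`A`-invariant `θ ∈ Irr(K)` lies over `ρ`.  [`∑_θ [θ_R, ρ] θ(1) = |K : R| ρ(1)` is prime to `p`, the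
weight is `A`-invariant, so `A` has a fixed point of nonzero weight.]
-/

set_option autoImplicit false

namespace Cfsg.Agent.Lib.Helper20.TP

open Cfsg Cfsg.Agent.CharLib Cfsg.Agent.Lib.Helper6 Cfsg.Agent.Lib.Helper2.Glaub
open Cfsg.Agent.Lib.Helper14.TP
open scoped ComplexConjugate

universe u

/-- A `p`-group acting on a finite set with an invariant weight whose total is prime to `p` has a
fixed point of nonzero weight. -/
theorem exists_fixed_of_not_dvd_sum {A α : Type*} [Group A] [Fintype α] [MulAction A α] (p : ℕ)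
    [Fact p.Prime] (hA : IsPGroup p A) (w : α → ℕ) (hw : ∀ (a : A) (x : α), w (a • x) = w x)
    (hsum : ¬ p ∣ ∑ x, w x) : ∃ x, w x ≠ 0 ∧ ∀ a : A, a • x = x := by
  classical
  by_contra hcon
  push Not at hcon
  apply hsum
  have h1 : ∑ x, w x = ∑ n ∈ (Finset.univ.image w),
      (Finset.univ.filter (fun x => w x = n)).card • n := by
    have := Finset.sum_comp (s := (Finset.univ : Finset α)) (fun n : ℕ => n) w
    simpa using this
  rw [h1]
  apply Finset.dvd_sum
  intro n _
  by_cases hn : n = 0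
  · rw [hn]; simp
  let S : SubMulAction A α :=
    { carrier := {x | w x = n}
      smul_mem' := fun a x hx => by
        show w (a • x) = n
        rw [hw]
        exact hx }
  have hmod := hA.card_modEq_card_fixedPoints (↥S)
  have hfix : IsEmpty (MulAction.fixedPoints A ↥S) := by
    constructor
    rintro ⟨⟨x, hx⟩, hfx⟩
    have hwx : w x = n := hx
    obtain ⟨a, ha⟩ := hcon x (by rw [hwx]; exact hn)
    apply ha
    have := hfx a
    exact congrArg Subtype.val this
  have h0 : Nat.card (MulAction.fixedPoints A ↥S) = 0 := Nat.card_eq_zero.mpr (Or.inl hfix)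
  rw [h0] at hmod
  have hdvd : p ∣ Nat.card ↥S := (Nat.modEq_zero_iff_dvd).mp hmod
  have hcard : Nat.card ↥S = (Finset.univ.filter (fun x => w x = n)).card := by
    have e : ↥S ≃ {x // w x = n} := Equiv.refl _
    rw [Nat.card_congr e, Nat.card_eq_fintype_card, Fintype.card_subtype]
  rw [hcard] at hdvd
  exact Dvd.dvd.mul_right hdvd n

section
variable {Γ : Type u} [Group Γ] [Finite Γ]

/-- `∑_θ [θ_R, ρ] θ(1) = |K| conj(ρ(1)) / |R|` (the degree of the induced function). -/
theorem sum_classInner_resLE_mul_degree (R K : Subgroup Γ) (hRK : R ≤ K) [Fintype R]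
    [Fintype (IrrCharacter K)] (ρ : R → ℂ) :
    ∑ θ : IrrCharacter K, classInner (resLE hRK (θ : K → ℂ)) ρ * (θ : K → ℂ) 1 =
      (Nat.card R : ℂ)⁻¹ * ((Nat.card K : ℂ) * conj (ρ 1)) := by
  classical
  have : Fintype K := Fintype.ofFinite K
  have hreg : ∀ r : R, ∑ θ : IrrCharacter K, (θ : K → ℂ) 1 * (θ : K → ℂ) ⟨r, hRK r.2⟩ =
      if r = 1 then (Nat.card K : ℂ) else 0 := by
    intro r
    rw [Cfsg.Agent.Lib.Helper24.sum_irr_degree_mul]
    by_cases hr : r = 1
    · rw [if_pos hr, if_pos (by rw [hr]; rfl), Nat.card_eq_fintype_card]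
    · rw [if_neg hr, if_neg]
      intro h
      apply hr
      apply Subtype.ext
      have := congrArg (fun k : K => (k : Γ)) h
      exact this
  calc ∑ θ : IrrCharacter K, classInner (resLE hRK (θ : K → ℂ)) ρ * (θ : K → ℂ) 1
      = ∑ θ : IrrCharacter K, (Nat.card R : ℂ)⁻¹ *
          ∑ r : R, ((θ : K → ℂ) 1 * (θ : K → ℂ) ⟨r, hRK r.2⟩) * conj (ρ r) := by
        apply Finset.sum_congr rfl
        intro θ _
        unfold classInner
        rw [mul_assoc, Finset.sum_mul]
        congr 1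
        apply Finset.sum_congr rfl
        intro r _
        rw [resLE_apply]
        ring
    _ = (Nat.card R : ℂ)⁻¹ * ∑ r : R,
          (∑ θ : IrrCharacter K, (θ : K → ℂ) 1 * (θ : K → ℂ) ⟨r, hRK r.2⟩) * conj (ρ r) := by
        rw [← Finset.mul_sum, Finset.sum_comm]
        congr 1
        apply Finset.sum_congr rfl
        intro r _
        rw [Finset.sum_mul]
    _ = (Nat.card R : ℂ)⁻¹ * ((Nat.card K : ℂ) * conj (ρ 1)) := by
        congr 1
        rw [Finset.sum_eq_single (1 : R)]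
        · rw [hreg, if_pos rfl]
        · intro r _ hr
          rw [hreg, if_neg hr, zero_mul]
        · intro h
          exact absurd (Finset.mem_univ _) h

/-- **S4885 leaf (NV2)** (frozen signature of `notes/S4885_leaves.lean`). -/
theorem exists_invUnder_over (p : ℕ) [Fact p.Prime] (R K A : Subgroup Γ) [R.Normal] [K.Normal]
    (hRK : R ≤ K) (hK : (Nat.card K).Coprime p) (hA : IsPGroup p A) (ρ : IrrCharacter R)
    (hρ : InvUnder R A (ρ : R → ℂ)) :
    ∃ θ : IrrCharacter K, InvUnder K A (θ : K → ℂ) ∧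
      haveI := Fintype.ofFinite R
      classInner (resLE hRK (θ : K → ℂ)) (ρ : R → ℂ) ≠ 0 := by
  classical
  let _ : Fintype R := Fintype.ofFinite R
  let _ : Fintype K := Fintype.ofFinite K
  let _ : Fintype (IrrCharacter K) := Fintype.ofFinite _
  -- the action of `A` on `Irr(K)`
  let act : MulAction ↥A (IrrCharacter K) :=
    { smul := fun a θ => ⟨Cfsg.Agent.Lib.Helper6.conjFun K ((a : Γ)⁻¹) (θ : K → ℂ),
        isIrrCharacter_conjFun K θ.2 _⟩
      one_smul := by
        intro θ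
        apply Subtype.ext
        show Cfsg.Agent.Lib.Helper6.conjFun K (((1 : ↥A) : Γ)⁻¹) (θ : K → ℂ) = θ
        rw [Subgroup.coe_one, inv_one, conjFun_one]
      mul_smul := by
        intro a b θ
        apply Subtype.ext
        show Cfsg.Agent.Lib.Helper6.conjFun K (((a * b : ↥A) : Γ)⁻¹) (θ : K → ℂ) =
          Cfsg.Agent.Lib.Helper6.conjFun K ((a : Γ)⁻¹)
            (Cfsg.Agent.Lib.Helper6.conjFun K ((b : Γ)⁻¹) (θ : K → ℂ))
        rw [Subgroup.coe_mul, mul_inv_rev, conjFun_mul] }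
  have hsmul : ∀ (a : A) (θ : IrrCharacter K), ((a • θ : IrrCharacter K) : K → ℂ) =
      Cfsg.Agent.Lib.Helper6.conjFun K ((a : Γ)⁻¹) (θ : K → ℂ) := fun _ _ => rfl
  -- invariance of `ρ`
  have hρ' : ∀ a ∈ A, Cfsg.Agent.Lib.Helper6.conjFun R a (ρ : R → ℂ) = ρ := by
    intro a ha
    funext r
    rw [conjFun_apply]
    exact hρ a ha r ⟨a * r * a⁻¹, _⟩ rfl
  -- multiplicities and degrees
  have hρc := IsIrrCharacter.isCharacter ρ.2
  choose m hm using fun θ : IrrCharacter K =>
    IsCharacter.classInner_nat (isCharacter_resLE hRK (IsIrrCharacter.isCharacter θ.2)) hρc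
  let w : IrrCharacter K → ℕ := fun θ => m θ * charDegree (θ : K → ℂ)
  have hw : ∀ (a : A) (θ : IrrCharacter K), w (a • θ) = w θ := by
    intro a θ
    have h1 : m (a • θ) = m θ := by
      have h3 : (m (a • θ) : ℂ) = m θ := by
        rw [← hm, ← hm, hsmul]
        have hres : resLE hRK (Cfsg.Agent.Lib.Helper6.conjFun K ((a : Γ)⁻¹) (θ : K → ℂ)) =
            Cfsg.Agent.Lib.Helper6.conjFun R ((a : Γ)⁻¹) (resLE hRK (θ : K → ℂ)) := rfl
        rw [hres]
        conv_lhs => rw [← hρ' (a : Γ)⁻¹ (A.inv_mem a.2)]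
        exact classInner_conjFun R _ _ _
      exact_mod_cast h3
    have h2 : charDegree ((a • θ : IrrCharacter K) : K → ℂ) = charDegree (θ : K → ℂ) := by
      have h3 : ((charDegree ((a • θ : IrrCharacter K) : K → ℂ) : ℕ) : ℂ) =
          charDegree (θ : K → ℂ) := by
        rw [← Cfsg.Agent.Lib.Helper24.irr_apply_one, ← Cfsg.Agent.Lib.Helper24.irr_apply_one,
          hsmul, conjFun_apply_one]
      exact_mod_cast h3
    show m (a • θ) * _ = m θ * _
    rw [h1, h2]
  -- the sum of the weights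
  have hsumC : ((∑ θ, w θ : ℕ) : ℂ) =
      (Nat.card R : ℂ)⁻¹ * ((Nat.card K : ℂ) * conj ((ρ : R → ℂ) 1)) := by
    rw [← sum_classInner_resLE_mul_degree R K hRK (ρ : R → ℂ)]
    push_cast
    apply Finset.sum_congr rfl
    intro θ _
    rw [hm, Cfsg.Agent.Lib.Helper24.irr_apply_one]
    show ((m θ * charDegree (θ : K → ℂ) : ℕ) : ℂ) = _
    rw [Nat.cast_mul]
  have hsumN : Nat.card R * ∑ θ, w θ = Nat.card K * charDegree (ρ : R → ℂ) := by
    have hR0 : (Nat.card R : ℂ) ≠ 0 := by exact_mod_cast Nat.card_pos.ne'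
    have h3 : ((Nat.card R * ∑ θ, w θ : ℕ) : ℂ) =
        ((Nat.card K * charDegree (ρ : R → ℂ) : ℕ) : ℂ) := by
      rw [Nat.cast_mul, hsumC, Cfsg.Agent.Lib.Helper24.irr_apply_one ρ, Complex.conj_natCast,
        Nat.cast_mul]
      field_simp
    exact_mod_cast h3
  have hp := (Fact.out : p.Prime)
  have hKp : ¬ p ∣ Nat.card K := (Nat.Prime.coprime_iff_not_dvd hp).mp hK.symm
  have hnd : ¬ p ∣ ∑ θ, w θ := by
    intro h
    have h1 : p ∣ Nat.card K * charDegree (ρ : R → ℂ) := by
      rw [← hsumN]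
      exact Dvd.dvd.mul_left h _
    rcases hp.dvd_mul.mp h1 with h2 | h2
    · exact hKp h2
    · have h3 : charDegree (ρ : R → ℂ) ∣ Nat.card R :=
        Cfsg.Agent.Lib.Helper24.irr_charDegree_dvd_card ρ
      have h4 : Nat.card R ∣ Nat.card K := Subgroup.card_dvd_of_le hRK
      exact hKp (h2.trans (h3.trans h4))
  obtain ⟨θ, hθw, hθfix⟩ := exists_fixed_of_not_dvd_sum p hA w hw hnd
  refine ⟨θ, ?_, ?_⟩
  · intro t ht g g' hgg'
    have h1 := hθfix ⟨t⁻¹, A.inv_mem ht⟩
    have h2 : Cfsg.Agent.Lib.Helper6.conjFun K t (θ : K → ℂ) = θ := by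
      have h3 := congrArg Subtype.val h1
      rw [hsmul] at h3
      simpa using h3
    have h3 := congrFun h2 g
    rw [conjFun_apply] at h3
    rw [← h3]
    have h4 : g' = ⟨t * g * t⁻¹, (inferInstance : K.Normal).conj_mem g g.2 t⟩ := Subtype.ext hgg'
    rw [h4]
  · have hm0 : m θ ≠ 0 := fun h => hθw (by show m θ * _ = 0; rw [h, zero_mul])
    rw [hm θ]
    exact_mod_cast hm0

end

end Cfsg.Agent.Lib.Helper20.TP
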