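import Mathlib
import Cfsg.Prelude.Def_Blocks
import Cfsg.Prelude.Def_Local
import Cfsg.Agent.Lib.Helper6.Clifford
import Cfsg.Agent.Lib.Helper6.CliffordCorr
import Cfsg.Agent.Lib.Helper24.PSolvable
import Cfsg.Agent.Lib.Helper24.IrrFacts
import Cfsg.Agent.Lib.Helper14.TPDefs
import Cfsg.Agent.Lib.Helper22.TPL1
import Cfsg.Agent.Lib.Lead.BlockBasic

/-!
# S4885 leaf (NV3): `exists_isSylowIn_invUnder`  (helper20; planner helper14)

`θ ∈ Irr(K)` of `q'`-degree over the `A`-invariant `ρ ∈ Irr(R)`: the stabilizer `T` of `ρ` in `K` has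
index dividing `θ(1)` (Clifford), is `A`-invariant, so contains an `A`-invariant Sylow `q`-subgroup
of `K` (helper22 (L1)).
-/

set_option autoImplicit false

namespace Cfsg.Agent.Lib.Helper20.TP

open Cfsg Cfsg.Agent.CharLib Cfsg.Agent.Lib.Helper6 Cfsg.Agent.Lib.Helper2.Glaub
open Cfsg.Agent.Lib.Helper14.TP
open scoped ComplexConjugate

universe u

section
variable {Γ : Type u} [Group Γ] [Finite Γ]

/-- The stabilizer in `K` of a function on the normal subgroup `R`. -/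
def stabIn (R K : Subgroup Γ) [R.Normal] (ρ : R → ℂ) : Subgroup Γ where
  carrier := {g | g ∈ K ∧ Cfsg.Agent.Lib.Helper6.conjFun R g ρ = ρ}
  one_mem' := ⟨K.one_mem, conjFun_one R ρ⟩
  mul_mem' := by
    rintro a b ⟨ha, ha'⟩ ⟨hb, hb'⟩
    refine ⟨K.mul_mem ha hb, ?_⟩
    rw [conjFun_mul, ha', hb']
  inv_mem' := by
    rintro a ⟨ha, ha'⟩
    refine ⟨K.inv_mem ha, ?_⟩
    conv_lhs => rw [← ha']
    exact conjFun_inv_conjFun R a ρ

omit [Finite Γ] in
theorem mem_stabIn (R K : Subgroup Γ) [R.Normal] (ρ : R → ℂ) (g : Γ) :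
    g ∈ stabIn R K ρ ↔ g ∈ K ∧ Cfsg.Agent.Lib.Helper6.conjFun R g ρ = ρ := Iff.rfl

omit [Finite Γ] in
theorem stabIn_le (R K : Subgroup Γ) [R.Normal] (ρ : R → ℂ) : stabIn R K ρ ≤ K :=
  fun _ hg => hg.1

/-- Clifford: the index of the stabilizer divides the degree. -/
theorem relIndex_stabIn_dvd_degree (R K : Subgroup Γ) [R.Normal] (hRK : R ≤ K)
    (ρ : IrrCharacter R) (θ : IrrCharacter K)
    (hθ : haveI := Fintype.ofFinite R
      classInner (resLE hRK (θ : K → ℂ)) (ρ : R → ℂ) ≠ 0) :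
    (stabIn R K (ρ : R → ℂ)).relIndex K ∣ charDegree (θ : K → ℂ) := by
  classical
  let _ : Fintype R := Fintype.ofFinite R
  let _ : Fintype K := Fintype.ofFinite K
  let _ : Fintype (R.subgroupOf K) := Fintype.ofFinite _
  let e := Subgroup.subgroupOfEquivOfLe hRK
  have hnorm : (R.subgroupOf K).Normal := inferInstance
  have hρ' : IsIrrCharacter (R.subgroupOf K) ((ρ : R → ℂ) ∘ e) :=
    isIrrCharacter_comp_mulEquiv' e ρ.2
  have hres : resFun (R.subgroupOf K) (θ : K → ℂ) = resLE hRK (θ : K → ℂ) ∘ e :=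
    resFun_subgroupOf hRK _
  have hinner : classInner (resFun (R.subgroupOf K) (θ : K → ℂ)) ((ρ : R → ℂ) ∘ e) =
      classInner (resLE hRK (θ : K → ℂ)) (ρ : R → ℂ) := by
    rw [hres, classInner_comp_mulEquiv]
  have hc : classInner (resFun (R.subgroupOf K) (θ : K → ℂ)) ((ρ : R → ℂ) ∘ e) ≠ 0 := by
    rw [hinner]
    exact hθ
  have hdeg := clifford_degree (R.subgroupOf K) θ.2 hρ' hc
  obtain ⟨m, hm⟩ := IsCharacter.classInner_nat
    (isCharacter_resFun (R.subgroupOf K) (IsIrrCharacter.isCharacter θ.2))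
    (IsIrrCharacter.isCharacter hρ')
  obtain ⟨d, hd⟩ := IsCharacter.apply_one (IsIrrCharacter.isCharacter hρ')
  have hdegN : charDegree (θ : K → ℂ) =
      m * (conjOrbit (R.subgroupOf K) ((ρ : R → ℂ) ∘ e)).card * d := by
    apply charDegree_eq_of_apply_one
    rw [hdeg, hm, hd]
    push_cast
    ring
  -- the orbit size is the index of the stabilizer
  have horb := card_conjOrbit_mul (R.subgroupOf K) ((ρ : R → ℂ) ∘ e)
  have hstab : Nat.card {g : K // Cfsg.Agent.Lib.Helper6.conjFun (R.subgroupOf K) g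
      ((ρ : R → ℂ) ∘ e) = (ρ : R → ℂ) ∘ e} = Nat.card (stabIn R K (ρ : R → ℂ)) := by
    apply Nat.card_congr
    have hiff : ∀ g : K, Cfsg.Agent.Lib.Helper6.conjFun (R.subgroupOf K) g ((ρ : R → ℂ) ∘ e) =
        (ρ : R → ℂ) ∘ e ↔ Cfsg.Agent.Lib.Helper6.conjFun R (g : Γ) (ρ : R → ℂ) = ρ := by
      intro g
      rw [conjFun_subgroupOf]
      constructor
      · intro h
        funext r
        have h2 : Cfsg.Agent.Lib.Helper6.conjFun R (g : Γ) (ρ : R → ℂ) (e (e.symm r)) =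
            (ρ : R → ℂ) (e (e.symm r)) := congrFun h (e.symm r)
        rwa [e.apply_symm_apply] at h2
      · intro h
        rw [h]
    exact
      { toFun := fun g => ⟨(g.1 : Γ), g.1.2, (hiff g.1).mp g.2⟩
        invFun := fun g => ⟨⟨g.1, g.2.1⟩, (hiff ⟨g.1, g.2.1⟩).mpr g.2.2⟩
        left_inv := fun g => rfl
        right_inv := fun g => rfl }
  rw [hstab] at horb
  have hrel : (stabIn R K (ρ : R → ℂ)).relIndex K * Nat.card (stabIn R K (ρ : R → ℂ)) =
      Nat.card K := by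
    have h2 := Subgroup.relIndex_mul_relIndex (⊥ : Subgroup Γ) (stabIn R K (ρ : R → ℂ)) K bot_le
      (stabIn_le R K _)
    rw [Subgroup.relIndex_bot_left, Subgroup.relIndex_bot_left] at h2
    rw [mul_comm]
    exact h2
  have hpos : 0 < Nat.card (stabIn R K (ρ : R → ℂ)) := Nat.card_pos
  have heq : (conjOrbit (R.subgroupOf K) ((ρ : R → ℂ) ∘ e)).card =
      (stabIn R K (ρ : R → ℂ)).relIndex K :=
    Nat.eq_of_mul_eq_mul_right hpos (horb.trans hrel.symm)
  rw [hdegN, heq]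
  exact ⟨m * d, by ring⟩

/-- **S4885 leaf (NV3)** (frozen signature of `notes/S4885_leaves.lean`). -/
theorem exists_isSylowIn_invUnder (p q : ℕ) [Fact p.Prime] [Fact q.Prime] (R K A : Subgroup Γ)
    [R.Normal] [K.Normal] (hRK : R ≤ K) (hK : (Nat.card K).Coprime p) (hA : IsPGroup p A)
    (ρ : IrrCharacter R) (hρ : InvUnder R A (ρ : R → ℂ)) (θ : IrrCharacter K)
    (hθ : haveI := Fintype.ofFinite R
      classInner (resLE hRK (θ : K → ℂ)) (ρ : R → ℂ) ≠ 0)
    (hq : ¬ q ∣ charDegree (θ : K → ℂ)) :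
    ∃ S : Subgroup Γ, IsSylowIn q S K ∧ A ≤ Subgroup.normalizer (S : Set Γ) ∧
      InvUnder R S (ρ : R → ℂ) := by
  obtain ⟨T, hT⟩ : ∃ T : Subgroup Γ, T = stabIn R K (ρ : R → ℂ) := ⟨_, rfl⟩
  have hTK : T ≤ K := by rw [hT]; exact stabIn_le R K _
  have hTidx : ¬ q ∣ T.relIndex K := by
    rw [hT]
    exact fun h => hq (h.trans (relIndex_stabIn_dvd_degree R K hRK ρ θ hθ))
  have hTmem : ∀ g, g ∈ T ↔ g ∈ K ∧ Cfsg.Agent.Lib.Helper6.conjFun R g (ρ : R → ℂ) = ρ := by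
    intro g
    rw [hT]
    exact mem_stabIn R K _ g
  have hρ' : ∀ a ∈ A, Cfsg.Agent.Lib.Helper6.conjFun R a (ρ : R → ℂ) = ρ := by
    intro a ha
    funext r
    rw [conjFun_apply]
    exact hρ a ha r ⟨a * r * a⁻¹, _⟩ rfl
  have hAT : A ≤ Subgroup.normalizer (T : Set Γ) := by
    intro a ha
    rw [Subgroup.mem_normalizer_iff]
    intro g
    have key : ∀ b : Γ, b ∈ A → ∀ g ∈ T, b * g * b⁻¹ ∈ T := by
      intro b hb g hg
      rw [hTmem] at hg ⊢
      refine ⟨(inferInstance : K.Normal).conj_mem g hg.1 b, ?_⟩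
      rw [conjFun_mul, conjFun_mul, hρ' b hb, hg.2, hρ' b⁻¹ (A.inv_mem hb)]
    constructor
    · exact key a ha g
    · intro h
      have h2 := key a⁻¹ (A.inv_mem ha) _ h
      have h3 : a⁻¹ * (a * g * a⁻¹) * a⁻¹⁻¹ = g := by group
      rwa [h3] at h2
  have hTp : (Nat.card T).Coprime p :=
    Nat.Coprime.coprime_dvd_left (Subgroup.card_dvd_of_le hTK) hK
  obtain ⟨S, hS, hAS⟩ :=
    Cfsg.Agent.Lib.Helper22.TP.exists_isSylowIn_le_normalizer p q T A hAT hTp hA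
  obtain ⟨hST, hSq, hSidx⟩ := hS
  refine ⟨S, ⟨hST.trans hTK, hSq, ?_⟩, hAS, ?_⟩
  · rw [← Subgroup.relIndex_mul_relIndex S T K hST hTK]
    intro h
    rcases (Fact.out : q.Prime).dvd_mul.mp h with h1 | h1
    · exact hSidx h1
    · exact hTidx h1
  · intro s hs r r' hrr'
    have h1 : Cfsg.Agent.Lib.Helper6.conjFun R s (ρ : R → ℂ) = ρ := ((hTmem s).mp (hST hs)).2
    have h2 := congrFun h1 r
    rw [conjFun_apply] at h2
    rw [← h2]
    have h4 : r' = ⟨s * r * s⁻¹, (inferInstance : R.Normal).conj_mem r r.2 s⟩ := Subtype.ext hrr'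
    rw [h4]

end

end Cfsg.Agent.Lib.Helper20.TP
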