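import Mathlib
import Cfsg.Prelude.Def_KGroupFacts
import Cfsg.Agent.Lib.Helper3.OutAut.Basic

/-!
# S2081 abstract leaf (A1): `exists_conj_fix_pair`  (helper20; planner helper15)

`⟨y⟩` a self-centralising Sylow 17-subgroup, `n` acting on it as the `m`-th power map with `m` a
primitive root mod 17: every automorphism can be corrected by an inner one so as to fix `y` and `n`
(Sylow's theorem, then the Frobenius group `17 : 16`).
-/

set_option autoImplicit false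

namespace Cfsg.Agent.Lib.Helper20.F24OAbs

open Cfsg.Agent.Lib.Helper3.OutAut

/-- Solving `j + K ≡ m j (mod 17)` when `m ≢ 1`. -/
theorem exists_solve_mod (m K : ℕ) (hm1 : m % 17 ≠ 1) :
    ∃ j : ℕ, (j + K) % 17 = (m * j) % 17 := by
  have : Fact (Nat.Prime 17) := ⟨by norm_num⟩
  have hne : ((m : ZMod 17) - 1) ≠ 0 := by
    intro h0
    apply hm1
    have h1 : (m : ZMod 17) = ((1 : ℕ) : ZMod 17) := by
      rw [Nat.cast_one]; exact sub_eq_zero.mp h0
    have h2 := (ZMod.natCast_eq_natCast_iff' m 1 17).mp h1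
    simpa using h2
  set j₀ : ZMod 17 := (K : ZMod 17) / ((m : ZMod 17) - 1) with hj₀
  refine ⟨j₀.val, ?_⟩
  apply (ZMod.natCast_eq_natCast_iff' _ _ 17).mp
  push_cast
  rw [ZMod.natCast_zmod_val]
  rw [hj₀]
  field_simp
  ring

/-- **A1**. -/
theorem exists_conj_fix_pair {G : Type*} [Group G] [Finite G] (y n : G) (m : ℕ)
    (hy : orderOf y = 17) (hfac : (Nat.card G).factorization 17 = 1)
    (hn : n * y * n⁻¹ = y ^ m) (hn16 : n ^ 16 = 1)
    (hm : ∀ r : ℕ, r % 17 ≠ 0 → ∃ i : ℕ, (r * m ^ i) % 17 = 1)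
    (hC : ∀ c : G, c * y = y * c → c ∈ Subgroup.zpowers y)
    (α : MulAut G) :
    ∃ g : G, (MulAut.conj g * α) y = y ∧ (MulAut.conj g * α) n = n := by
  have : Fact (Nat.Prime 17) := ⟨by norm_num⟩
  have hy17 : y ^ 17 = 1 := by rw [← hy]; exact pow_orderOf_eq_one y
  have hy1 : y ≠ 1 := by
    intro h1
    rw [h1, orderOf_one] at hy
    norm_num at hy
  have hpowmod : ∀ a : ℕ, y ^ (a % 17) = y ^ a := by
    intro a
    have := pow_mod_orderOf y a
    rwa [hy] at this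
  -- (a) Sylow
  obtain ⟨g₀, r, hr⟩ := exists_conj_pow hfac hy α
  -- (b) `r % 17 ≠ 0`
  have hr0 : r % 17 ≠ 0 := by
    intro h0
    have h1 : y ^ r = 1 := by rw [← hpowmod r, h0, pow_zero]
    rw [h1, mul_one, mul_inv_cancel] at hr
    exact hy1 ((map_eq_one_iff α α.injective).mp hr)
  -- (c)
  obtain ⟨i, hi⟩ := hm r hr0
  -- (d)
  have hni : n ^ i * y * (n ^ i)⁻¹ = y ^ (m ^ i) := conj_pow_iter hn i
  -- (e) `γ` fixes `y`
  set γ : MulAut G := MulAut.conj (n ^ i * g₀⁻¹) * α with hγ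
  have hγy : γ y = y := by
    rw [hγ, MulAut.mul_apply, MulAut.conj_apply, hr]
    have h1 : n ^ i * g₀⁻¹ * (g₀ * y ^ r * g₀⁻¹) * (n ^ i * g₀⁻¹)⁻¹
        = (n ^ i * y * (n ^ i)⁻¹) ^ r := by
      rw [conj_pow]; group
    rw [h1, hni, ← pow_mul, ← hpowmod, Nat.mul_comm, hi, pow_one]
  -- (f) `γ n = n * y ^ k`
  have hcomm : (n⁻¹ * γ n) * y = y * (n⁻¹ * γ n) := by
    have h1 : γ n * y * (γ n)⁻¹ = y ^ m := by
      have h2 : γ (n * y * n⁻¹) = γ n * y * (γ n)⁻¹ := by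
        rw [map_mul, map_mul, map_inv, hγy]
      rw [← h2, hn, map_pow, hγy]
    have h3 : γ n * y = y ^ m * γ n := by
      rw [← h1]; group
    have h4 : n * y = y ^ m * n := by
      rw [← hn]; group
    have h5 : y * n⁻¹ = n⁻¹ * y ^ m := by
      have : n⁻¹ * (n * y) * n⁻¹ = n⁻¹ * (y ^ m * n) * n⁻¹ := by rw [h4]
      calc y * n⁻¹ = n⁻¹ * (n * y) * n⁻¹ := by group
        _ = n⁻¹ * (y ^ m * n) * n⁻¹ := this
        _ = n⁻¹ * y ^ m := by group
    calc n⁻¹ * γ n * y = n⁻¹ * (γ n * y) := by group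
      _ = n⁻¹ * (y ^ m * γ n) := by rw [h3]
      _ = (n⁻¹ * y ^ m) * γ n := by group
      _ = (y * n⁻¹) * γ n := by rw [h5]
      _ = y * (n⁻¹ * γ n) := by group
  have hmem := hC _ hcomm
  obtain ⟨k, hk⟩ := (Submonoid.mem_powers_iff _ _).mp (mem_powers_iff_mem_zpowers.mpr hmem)
  have hγn : γ n = n * y ^ k := by rw [hk]; group
  -- (g)
  have hswap : ∀ a : ℕ, n * y ^ a = y ^ (m * a) * n := by
    intro a
    have h1 : n * y ^ a * n⁻¹ = y ^ (m * a) := by
      rw [← conj_pow, hn, ← pow_mul]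
    rw [← h1]; group
  -- (h)
  have hm1 : m % 17 ≠ 1 := by
    intro h1
    obtain ⟨i₂, hi₂⟩ := hm 2 (by norm_num)
    have h2 : m ^ i₂ % 17 = 1 := by
      rw [Nat.pow_mod, h1, one_pow]
      norm_num
    rw [Nat.mul_mod, h2] at hi₂
    norm_num at hi₂
  obtain ⟨j, hj⟩ := exists_solve_mod m (m * k) hm1
  -- (i)
  refine ⟨y ^ j * (n ^ i * g₀⁻¹), ?_, ?_⟩
  · rw [map_mul, mul_assoc, ← hγ, MulAut.mul_apply, hγy, MulAut.conj_apply]
    group
  · rw [map_mul, mul_assoc, ← hγ, MulAut.mul_apply, hγn, MulAut.conj_apply, hswap k]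
    have h1 : y ^ j * (y ^ (m * k) * n) = n * y ^ j := by
      rw [hswap j, ← mul_assoc, ← pow_add, ← hpowmod (j + m * k), hj, hpowmod]
    rw [h1]; group

end Cfsg.Agent.Lib.Helper20.F24OAbs
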