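import Mathlib
import Cfsg.Prelude.Def_KGroupFacts

/-!
# S2081 abstract leaf (A4): `conjNormal_not_mem_inn`  (helper20; planner helper15)

Conjugation by `l ∉ G` is not an inner automorphism of `G ⊴ K`: an element of `K` centralising `G`
fixes the unique fixed point `o` of `y ∈ G`, hence (transitivity of `G`) every point, hence is `1`.
-/

set_option autoImplicit false

namespace Cfsg.Agent.Lib.Helper20.F24OAbs

/-- **A4**. -/
theorem conjNormal_not_mem_inn {K : Type*} [Group K] (G : Subgroup K) [G.Normal] {X : Type*}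
    (φ : K →* Equiv.Perm X) (hφ : Function.Injective φ) (o : X)
    (htrans : ∀ x : X, ∃ g ∈ G, φ g o = x) (l y : K) (hl : l ∉ G) (hy : y ∈ G)
    (hyo : φ y o = o) (hyfix : ∀ x, φ y x = x → x = o) :
    (MulAut.conjNormal l : MulAut G) ∉ Cfsg.Inn G := by
  rintro ⟨g, hg⟩
  -- `hg : MulAut.conj g = MulAut.conjNormal l`
  obtain ⟨c, hc⟩ : ∃ c : K, c = (g : K)⁻¹ * l := ⟨_, rfl⟩
  have hmul : ∀ (a b : K) (x : X), φ (a * b) x = φ a (φ b x) := by
    intro a b x; rw [map_mul, Equiv.Perm.mul_apply]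
  -- `c` centralises `G`
  have hcent : ∀ h : K, h ∈ G → c * h = h * c := by
    intro h hh
    have h1 := congrArg (fun f : MulAut G => ((f ⟨h, hh⟩ : G) : K)) hg
    simp only [MulAut.conj_apply, MulAut.conjNormal_apply, Subgroup.coe_mul,
      Subgroup.coe_inv] at h1
    -- h1 : g * h * g⁻¹ = l * h * l⁻¹
    have h2 : (g : K)⁻¹ * l * h = h * ((g : K)⁻¹ * l) := by
      have h3 : l * h = (g : K) * h * (g : K)⁻¹ * l := by rw [h1]; group
      calc (g : K)⁻¹ * l * h = (g : K)⁻¹ * (l * h) := by group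
        _ = (g : K)⁻¹ * ((g : K) * h * (g : K)⁻¹ * l) := by rw [h3]
        _ = h * ((g : K)⁻¹ * l) := by group
    rw [hc]; exact h2
  -- `c` fixes `o`
  have hco : φ c o = o := by
    apply hyfix
    rw [← hmul, ← hcent y hy, hmul, hyo]
  -- `c` fixes every point
  have hall : φ c = 1 := by
    ext x
    obtain ⟨h, hh, rfl⟩ := htrans x
    rw [← hmul, hcent h hh, hmul, hco]
    rfl
  have hc1 : c = 1 := hφ (by rw [hall, map_one])
  apply hl
  have : l = (g : K) := by
    have h1 : (g : K) * c = l := by rw [hc]; group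
    rw [← h1, hc1, mul_one]
  rw [this]
  exact g.2

end Cfsg.Agent.Lib.Helper20.F24OAbs
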