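import Mathlib

/-!
# S2082 (Out(HN) = 2; owner helper15), LEAF A `autN_of_data` (helper20)

An automorphism `α` of `G` fixing the central involution `a` of `N = C_G(a)` acts on `N` as an inner automorphism of `N`,
possibly followed by `σ`.  Proof: `α` restricts to `N ≅ P`, giving `β : P →* P` with `β c = c`; `β` induces an injective
endomorphism of the finite group `Γ = P / {1, c}`, which is inner by hypothesis: `= conj (π m₀)`.  Then
`β' := conj m₀⁻¹ ∘ β` is the identity modulo `{1, c}`, so `ζ p := p⁻¹ β' p` is a homomorphism into `{1, c}`; the two relators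
give `ζ x = ζ y = 1`, and `ζ z ∈ {1, c}` distinguishes `id` from `σ`.
-/

set_option autoImplicit false

namespace Cfsg.Agent.Lib.Helper20.HnO

/-- **LEAF A** of `notes/S2082_leaves.lean`. -/
theorem autN_of_data {G : Type*} [Group G] [Finite G] (N : Subgroup G) (a : G) (σ : MulAut G)
    (ha1 : a ≠ 1)
    (hNa : ∀ n ∈ N, n * a = a * n) (hCa : ∀ g : G, g * a = a * g → g ∈ N)
    {P : Type*} [Group P] (φ : P →* G) (hφ : Function.Injective φ) (hrange : φ.range = N)
    {Γ : Type*} [Group Γ] [Finite Γ] (π : P →* Γ) (hπ : Function.Surjective π)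
    (c : P) (hker : ∀ r ∈ π.ker, r = 1 ∨ r = c) (hcker : π c = 1)
    (hcc : ∀ g : P, g * c = c * g) (hφc : φ c = a)
    (hZ : Subgroup.center Γ = ⊥) (hInnΓ : ∀ β : MulAut Γ, ∃ m : Γ, β = MulAut.conj m)
    (x y z : P) (hgen : Subgroup.closure ({x, y, z} : Set P) = ⊤)
    (hσx : σ (φ x) = φ x) (hσy : σ (φ y) = φ y) (hσz : σ (φ z) = φ z * a)
    (hrel1 : z * ((y ^ 3 * x * y * x * y)⁻¹ * z * (y ^ 3 * x * y * x * y) * x) ^ 3 = 1)
    (hrel2 : (x⁻¹ * y ^ 2 * x * y ^ 3) ^ 3 = 1) :
    ∀ α : MulAut G, α a = a →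
      ∃ m ∈ N, ∃ ε : Bool, ∀ n ∈ N, α n = m * (cond ε (σ n) n) * m⁻¹ := by
  intro α hαa
  -- `α` maps `N` into `N`
  have hαN : ∀ n ∈ N, α n ∈ N := by
    intro n hn
    apply hCa
    have := congrArg α (hNa n hn)
    rw [map_mul, map_mul, hαa] at this
    exact this
  have hmemr : ∀ p : P, (α.toMonoidHom.comp φ) p ∈ φ.range := by
    intro p
    rw [hrange]
    apply hαN
    rw [← hrange]
    exact ⟨p, rfl⟩
  -- the induced endomorphism `β` of `P`
  let e : P ≃* φ.range := MonoidHom.ofInjective hφ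
  let β : P →* P := e.symm.toMonoidHom.comp ((α.toMonoidHom.comp φ).codRestrict φ.range hmemr)
  have hβφ : ∀ p, φ (β p) = α (φ p) := by
    intro p
    have h1 : ((e (β p) : φ.range) : G) = φ (β p) := MonoidHom.ofInjective_apply hφ
    have h2 : e (β p) = (α.toMonoidHom.comp φ).codRestrict φ.range hmemr p := by
      show e (e.symm _) = _
      exact e.apply_symm_apply _
    rw [← h1, h2]
    rfl
  have hβc : β c = c := by
    apply hφ
    rw [hβφ, hφc, hαa]
  -- `c * c = 1`
  have hcc1 : c * c = 1 := by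
    have : c * c ∈ π.ker := by rw [MonoidHom.mem_ker, map_mul, hcker, one_mul]
    rcases hker _ this with h | h
    · exact h
    · have : c = 1 := by
        have h' : c * c = c * 1 := by rw [mul_one]; exact h
        exact mul_left_cancel h'
      rw [this, one_mul]
  -- the induced endomorphism of `Γ`
  have hkerle : π.ker ≤ (π.comp β).ker := by
    intro r hr
    rw [MonoidHom.mem_ker, MonoidHom.comp_apply]
    rcases hker r hr with h | h
    · rw [h, map_one, map_one]
    · rw [h, hβc, hcker]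
  let βb : Γ →* Γ := π.liftOfSurjective hπ ⟨π.comp β, hkerle⟩
  have hβb : ∀ p, βb (π p) = π (β p) := by
    intro p
    exact MonoidHom.liftOfRightInverse_comp_apply π _ _ ⟨π.comp β, hkerle⟩ p
  have hβbinj : Function.Injective βb := by
    rw [injective_iff_map_eq_one]
    intro γ hγ
    obtain ⟨p, rfl⟩ := hπ γ
    rw [hβb] at hγ
    have hp : β p = 1 ∨ β p = c := hker _ (MonoidHom.mem_ker.2 hγ)
    have hp' : p = 1 ∨ p = c := by
      rcases hp with h | h
      · left
        apply hφ
        apply α.injective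
        simp only [← hβφ, h, map_one]
      · right
        apply hφ
        apply α.injective
        rw [← hβφ, h, hφc, hαa]
    rcases hp' with h | h
    · rw [h, map_one]
    · rw [h, hcker]
  have hβbbij : Function.Bijective βb := Finite.injective_iff_bijective.1 hβbinj
  obtain ⟨mb, hmb⟩ := hInnΓ (MulEquiv.ofBijective βb hβbbij)
  obtain ⟨m₀, rfl⟩ := hπ mb
  have hconj : ∀ p, π (β p) = π (m₀ * p * m₀⁻¹) := by
    intro p
    have h1 := congrArg (fun f : MulAut Γ => f (π p)) hmb
    simp only [MulEquiv.ofBijective_apply, MulAut.conj_apply] at h1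
    rw [hβb] at h1
    rw [h1, map_mul, map_mul, map_inv]
  -- `β' := conj m₀⁻¹ ∘ β`
  let β' : P →* P := (MulAut.conj m₀⁻¹).toMonoidHom.comp β
  have hβ' : ∀ p, β' p = m₀⁻¹ * β p * m₀ := by
    intro p
    show MulAut.conj m₀⁻¹ (β p) = _
    rw [MulAut.conj_apply, inv_inv]
  have hπβ' : ∀ p, π (β' p) = π p := by
    intro p
    rw [hβ', map_mul, map_mul, hconj, map_mul, map_mul, map_inv]
    group
  have hζ : ∀ p, p⁻¹ * β' p = 1 ∨ p⁻¹ * β' p = c := by
    intro p
    apply hker
    rw [MonoidHom.mem_ker, map_mul, map_inv, hπβ', inv_mul_cancel]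
  have hζcomm : ∀ p q : P, q * (p⁻¹ * β' p) = (p⁻¹ * β' p) * q := by
    intro p q
    rcases hζ p with h | h
    · rw [h, mul_one, one_mul]
    · rw [h]; exact hcc q
  -- `ζ` as a homomorphism
  let ζ : P →* P := MonoidHom.mk' (fun p => p⁻¹ * β' p) (by
    intro p q
    show (p * q)⁻¹ * β' (p * q) = p⁻¹ * β' p * (q⁻¹ * β' q)
    rw [map_mul, mul_inv_rev]
    calc q⁻¹ * p⁻¹ * (β' p * β' q) = q⁻¹ * (p⁻¹ * β' p) * β' q := by group
      _ = (p⁻¹ * β' p) * q⁻¹ * β' q := by rw [hζcomm p q⁻¹]
      _ = p⁻¹ * β' p * (q⁻¹ * β' q) := by group)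
  have hζdef : ∀ p, ζ p = p⁻¹ * β' p := fun p => rfl
  have hζ' : ∀ p, ζ p = 1 ∨ ζ p = c := fun p => hζ p
  have hζc : ∀ p q : P, q * ζ p = ζ p * q := fun p q => hζcomm p q
  have hβ'ζ : ∀ p, β' p = p * ζ p := by
    intro p
    rw [hζdef]; group
  -- the two relators
  have hζx : ζ x = 1 := by
    have h := congrArg ζ hrel1
    rw [map_one, map_mul, map_pow, map_mul, map_mul, map_mul, map_inv] at h
    set w := ζ (y ^ 3 * x * y * x * y) with hw
    have e1 : w⁻¹ * ζ z * w * ζ x = ζ z * ζ x := by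
      have := hζc z w⁻¹
      calc w⁻¹ * ζ z * w * ζ x = (w⁻¹ * ζ z) * w * ζ x := by group
        _ = (ζ z * w⁻¹) * w * ζ x := by rw [this]
        _ = ζ z * ζ x := by group
    rw [e1] at h
    rcases hζ' x with hx | hx
    · exact hx
    · rcases hζ' z with hz | hz
      · rw [hz, hx, one_mul, one_mul] at h
        have : c = 1 := by
          have h3 : c ^ 3 = c * (c * c) := by rw [pow_succ, pow_two, mul_assoc]
          rw [h3, hcc1, mul_one] at h
          exact h
        rw [hx, this]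
      · rw [hz, hx, hcc1, one_pow, mul_one] at h
        rw [hx, h]
  have hζy : ζ y = 1 := by
    have h := congrArg ζ hrel2
    rw [map_one, map_pow, map_mul, map_mul, map_mul, map_inv, map_pow, map_pow] at h
    have e1 : (ζ x)⁻¹ * ζ y ^ 2 * ζ x * ζ y ^ 3 = ζ y ^ 5 := by
      rw [hζx]; group
    rw [e1, ← pow_mul] at h
    rcases hζ' y with hy | hy
    · exact hy
    · rw [hy] at h ⊢
      have h15 : c ^ (5 * 3) = c := by
        have : c ^ (5 * 3) = (c * c) ^ 7 * c := by
          rw [← pow_two, ← pow_mul, ← pow_succ]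
        rw [this, hcc1, one_pow, one_mul]
      rw [h15] at h
      exact h
  have hβ'x : β' x = x := by rw [hβ'ζ, hζx, mul_one]
  have hβ'y : β' y = y := by rw [hβ'ζ, hζy, mul_one]
  -- the conclusion
  have hmN : φ m₀ ∈ N := by rw [← hrange]; exact ⟨m₀, rfl⟩
  have hβeq : ∀ p, β p = m₀ * β' p * m₀⁻¹ := by
    intro p
    rw [hβ']; group
  rcases hζ' z with hz | hz
  · -- `β' = id`
    have hβ'z : β' z = z := by rw [hβ'ζ, hz, mul_one]
    have hid : β' = MonoidHom.id P := by
      apply MonoidHom.eq_of_eqOn_dense hgen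
      intro g hg
      simp only [Set.mem_insert_iff, Set.mem_singleton_iff] at hg
      rcases hg with rfl | rfl | rfl
      · exact hβ'x
      · exact hβ'y
      · exact hβ'z
    refine ⟨φ m₀, hmN, false, ?_⟩
    intro n hn
    rw [← hrange] at hn
    obtain ⟨p, rfl⟩ := hn
    rw [← hβφ, hβeq, hid, MonoidHom.id_apply, map_mul, map_mul, map_inv]
    rfl
  · -- `β' = σ` on `P`
    have hβ'z : β' z = z * c := by rw [hβ'ζ, hz]
    have hσeq : φ.comp β' = σ.toMonoidHom.comp φ := by
      apply MonoidHom.eq_of_eqOn_dense hgen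
      intro g hg
      simp only [Set.mem_insert_iff, Set.mem_singleton_iff] at hg
      rcases hg with rfl | rfl | rfl
      · show φ (β' g) = σ (φ g)
        rw [hβ'x, hσx]
      · show φ (β' g) = σ (φ g)
        rw [hβ'y, hσy]
      · show φ (β' g) = σ (φ g)
        rw [hβ'z, hσz, map_mul, hφc]
    refine ⟨φ m₀, hmN, true, ?_⟩
    intro n hn
    rw [← hrange] at hn
    obtain ⟨p, rfl⟩ := hn
    have h1 : φ (β' p) = σ (φ p) := by
      have := congrArg (fun f : P →* G => f p) hσeq
      exact this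
    rw [← hβφ, hβeq, map_mul, map_mul, map_inv, h1]
    rfl

end Cfsg.Agent.Lib.Helper20.HnO
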