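/- helper20: glue for B&G Theorem 14.2 (S1430 / S1431): everything from the statement of S1428
(`H1428 G`) and the MAIN CLAIM `κ(M) ∩ τ₃(M) = ∅` for all maximal subgroups. -/
import Mathlib
import Cfsg.Agent.Lib.Helper24.BGRegF
import Cfsg.Agent.Lib.Helper2.BGCorN
import Cfsg.Agent.S1425

set_option autoImplicit false
set_option linter.unusedVariables false

namespace Cfsg.Agent.Lib.Helper20.BGGlue

open Cfsg.Agent.Lib.Helper2.BGCor (H28 CorR CorG1 H25 T142 s1430_of_kappa_tau3_empty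
  s1431_of_kappa_tau3_empty)
open Cfsg.Agent.Lib.Helper24.BGReg (h28G_of_h1428 corR_of_h1428 corG1_of_h1428)
open Cfsg.Agent.Lib.Helper17.BGR2 (H1428)

universe u

variable {G : Type u} [Group G]

/-- The MAIN CLAIM of notes/bg14: no prime of `κ(M)` lies in `τ₃(M)`, for every maximal `M`. -/
def MainClaim (G : Type u) [Group G] : Prop :=
  ∀ M : Subgroup G, IsCoatom M → ∀ p : ℕ, p ∈ Cfsg.kappa M → p ∉ Cfsg.tau3 M

theorem h25_of_s1425 [Finite G] (hG : Cfsg.IsMinSimpleOddOrder G) {M : Subgroup G}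
    (hM : IsCoatom M) : H25 M :=
  Cfsg.Agent.S1425.result hG M hM

/-- conclusion of S1430 from `H1428 G` and the main claim. -/
theorem s1430_glue [Finite G] (hG : Cfsg.IsMinSimpleOddOrder G) (h28 : H1428 G)
    (hmc : MainClaim G) {M : Subgroup G} (hM : IsCoatom M) {K : Subgroup G}
    (hK : Cfsg.IsPiHallOf (Cfsg.kappa M) K M) (hK1 : K ≠ ⊥) : T142 M K :=
  s1430_of_kappa_tau3_empty hG hM (h28G_of_h1428 h28 M hM) (corR_of_h1428 hG h28 hM)
    (corG1_of_h1428 hG h28 hM) (hmc M hM) hK hK1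

/-- conclusion of S1431 from `H1428 G` and the main claim. -/
theorem s1431_glue [Finite G] (hG : Cfsg.IsMinSimpleOddOrder G) (h28 : H1428 G)
    (hmc : MainClaim G) {M : Subgroup G} (hM : IsCoatom M) {K : Subgroup G}
    (hK : Cfsg.IsPiHallOf (Cfsg.kappa M) K M) (hK1 : K ≠ ⊥) :
    (∀ g : G, g ∉ M → (Cfsg.sigmaCore M ⊓ Subgroup.centralizer (K : Set G)) ⊓ M.map (MulAut.conj g).toMonoidHom = ⊥) ∧
      (∀ g ∈ M, g ∉ K ⊔ (Cfsg.sigmaCore M ⊓ Subgroup.centralizer (K : Set G)) → K ⊓ K.map (MulAut.conj g).toMonoidHom = ⊥) ∧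
      (∀ (p : ℕ), p.Prime → p ∣ Nat.card ↥(Cfsg.sigmaCore M ⊓ Subgroup.centralizer (K : Set G)) → ∀ S : Sylow p ↥(Cfsg.sigmaCore M),
        Cfsg.InUniqueMaximal ((S : Subgroup ↥(Cfsg.sigmaCore M)).map (Cfsg.sigmaCore M).subtype) ∧
        (S : Subgroup ↥(Cfsg.sigmaCore M)).map (Cfsg.sigmaCore M).subtype ≤ M ∧
        ¬ (S : Subgroup ↥(Cfsg.sigmaCore M)).map (Cfsg.sigmaCore M).subtype ≤ (Cfsg.sigmaCore M ⊓ Subgroup.centralizer (K : Set G))) ∧
      ∀ Y : Subgroup G, (∀ p : ℕ, p.Prime → p ∣ Nat.card Y → p ∈ Cfsg.sigma M) → Y ⊓ (Cfsg.sigmaCore M ⊓ Subgroup.centralizer (K : Set G)) ≠ ⊥ → Y ≤ Cfsg.sigmaCore M :=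
  s1431_of_kappa_tau3_empty hG hM (h28G_of_h1428 h28 M hM) (corR_of_h1428 hG h28 hM)
    (corG1_of_h1428 hG h28 hM) (h25_of_s1425 hG hM) (hmc M hM) hK hK1

end Cfsg.Agent.Lib.Helper20.BGGlue
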