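/- helper20: final assembly for B&G Theorem 14.2 (S1430 / S1431) in hypothesis form:
from the statement of S1428 (`H1428 G`) and the impossibility of type (F) in Case II.
Case split: `κ(M) ∩ τ₃(M) = ∅` (helper2's T1 assemblies) / Case II (helper24's Theorem T2). -/
import Mathlib
import Cfsg.Agent.Lib.Helper20.BGGlue
import Cfsg.Agent.Lib.Helper24.BGC2TC

set_option autoImplicit false
set_option linter.unusedVariables false

namespace Cfsg.Agent.Lib.Helper20.BGFin

open Cfsg.Agent.Lib.Helper2.BGCor (H28 CorR CorG1 H25 T142 s1430_of_kappa_tau3_empty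
  s1431_of_kappa_tau3_empty)
open Cfsg.Agent.Lib.Helper24.BGReg (h28G_of_h1428 corR_of_h1428 corG1_of_h1428)
open Cfsg.Agent.Lib.Helper17.BGR2 (H1428)
open Cfsg.Agent.Lib.Helper17.BGC2 (CaseII FaithfulPair)
open Cfsg.Agent.Lib.Helper24.BGC2T (C1431 t2)
open Cfsg.Agent.Lib.Helper20.BGGlue (h25_of_s1425)

universe u

variable {G : Type u} [Group G]

/-- type (F) of Case II is impossible (for all maximal subgroups). -/
def NoTypeF (G : Type u) [Group G] : Prop :=
  ∀ M : Subgroup G, IsCoatom M → ∀ E E1 E3 : Subgroup G, CaseII M E E1 E3 →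
    FaithfulPair E1 E3 → False

/-- conclusions of S1430 and S1431 from `H1428 G` and the impossibility of type (F). -/
theorem t142_and_c1431 [Finite G] (hG : Cfsg.IsMinSimpleOddOrder G) (h28 : H1428 G)
    (hF : NoTypeF G) {M : Subgroup G} (hM : IsCoatom M) {K : Subgroup G}
    (hK : Cfsg.IsPiHallOf (Cfsg.kappa M) K M) (hK1 : K ≠ ⊥) : T142 M K ∧ C1431 M K := by
  by_cases hκτ : ∀ p : ℕ, p ∈ Cfsg.kappa M → p ∉ Cfsg.tau3 M
  · exact ⟨s1430_of_kappa_tau3_empty hG hM (h28G_of_h1428 h28 M hM) (corR_of_h1428 hG h28 hM)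
        (corG1_of_h1428 hG h28 hM) hκτ hK hK1,
      s1431_of_kappa_tau3_empty hG hM (h28G_of_h1428 h28 M hM) (corR_of_h1428 hG h28 hM)
        (corG1_of_h1428 hG h28 hM) (h25_of_s1425 hG hM) hκτ hK hK1⟩
  · push Not at hκτ
    obtain ⟨s, hsκ, hs3⟩ := hκτ
    exact t2 hG h28 hM hsκ hs3 (hF M hM) hK

end Cfsg.Agent.Lib.Helper20.BGFin
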