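/- helper20: final assembly for B&G Theorem 14.2 (S1430 / S1431), part B: `H1428 G` from the real
S1428, type (F) impossible from helper24's (F-alpha) and an (F-beta) statement `TypeFBeta G`. -/
import Mathlib
import Cfsg.Agent.Lib.Helper20.BGFin
import Cfsg.Agent.Lib.Helper24.BGC2CC
import Cfsg.Agent.S1428

set_option autoImplicit false
set_option linter.unusedVariables false

namespace Cfsg.Agent.Lib.Helper20.BGFin

open Cfsg.Agent.Lib.Helper2.BGCor (T142)
open Cfsg.Agent.Lib.Helper17.BGR2 (H1428)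
open Cfsg.Agent.Lib.Helper17.BGC2 (CaseII FaithfulPair)
open Cfsg.Agent.Lib.Helper24.BGC2T (C1431)

universe u

variable {G : Type u} [Group G]

/-- the statement of S1428, closed over all maximal subgroups. -/
theorem h1428_real [Finite G] (hG : Cfsg.IsMinSimpleOddOrder G) : H1428 G :=
  fun M hM E hE p hp P hPE hP R hRE hR =>
    Cfsg.Agent.S1428.result hG M hM E hE p hp P hPE hP R hRE hR

/-- (F-beta): a faithful pair `(X, x)` whose `x` does not centralize `T₃` is impossible. -/
def TypeFBeta (G : Type u) [Group G] : Prop :=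
  ∀ M E E1 E3 : Subgroup G, CaseII M E E1 E3 → ∀ X : Subgroup G, X ≤ E3 → (Nat.card X).Prime →
    ∀ x : G, x ∈ E1 → (orderOf x).Prime → (∃ a ∈ X, x * a ≠ a * x) →
      ¬ Cfsg.sigmaCore M ⊓ Subgroup.centralizer (E3 : Set G) ≤
        Subgroup.centralizer ({x} : Set G) → False

/-- type (F) is impossible, from (F-alpha) (helper24) and (F-beta). -/
theorem noTypeF_of [Finite G] (hFb : TypeFBeta G) : NoTypeF G := by
  rintro M hM E E1 E3 c ⟨X, hXE3, x, hxE1, hXp, hxo, hxX⟩
  exact hFb M E E1 E3 c X hXE3 hXp x hxE1 hxo hxX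
    (Cfsg.Agent.Lib.Helper24.BGC2C.not_le_centralizer_of_faithful c hXE3 hXp hxE1 hxo hxX)

/-- conclusions of S1430 and S1431 from (F-beta) alone. -/
theorem t142_and_c1431_of [Finite G] (hG : Cfsg.IsMinSimpleOddOrder G) (hFb : TypeFBeta G)
    {M : Subgroup G} (hM : IsCoatom M) {K : Subgroup G}
    (hK : Cfsg.IsPiHallOf (Cfsg.kappa M) K M) (hK1 : K ≠ ⊥) : T142 M K ∧ C1431 M K :=
  t142_and_c1431 hG (h1428_real hG) (noTypeF_of hFb) hM hK hK1

end Cfsg.Agent.Lib.Helper20.BGFin
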