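/- helper20: final assembly for B&G Theorem 14.2 (S1430 / S1431), part C: everything real.
(F-beta) from helper2's `typeFbeta_false` (B&G 13.12 application). -/
import Mathlib
import Cfsg.Agent.Lib.Helper20.BGFinB
import Cfsg.Agent.Lib.Helper2.BGCorW

set_option autoImplicit false
set_option linter.unusedVariables false

namespace Cfsg.Agent.Lib.Helper20.BGFin

open Cfsg.Agent.Lib.Helper2.BGCor (T142)
open Cfsg.Agent.Lib.Helper17.BGC2 (CaseII FaithfulPair)
open Cfsg.Agent.Lib.Helper24.BGC2T (C1431)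

universe u

variable {G : Type u} [Group G]

/-- (F-beta) is impossible (helper2, B&G 13.12). -/
theorem typeFBeta_real [Finite G] (hG : Cfsg.IsMinSimpleOddOrder G) : TypeFBeta G :=
  fun M E E1 E3 c X hX hXp x hx hxo hxX hnc =>
    Cfsg.Agent.Lib.Helper2.BGCor.typeFbeta_false hG (h1428_real hG) c hX hXp hx hxo hxX hnc

/-- type (F) of Case II is impossible. -/
theorem noTypeF_real [Finite G] (hG : Cfsg.IsMinSimpleOddOrder G) : NoTypeF G :=
  noTypeF_of (typeFBeta_real hG)

/-- **B&G Theorem 14.2** (conclusions of S1430 and S1431), unconditionally. -/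
theorem t142_and_c1431_real [Finite G] (hG : Cfsg.IsMinSimpleOddOrder G)
    {M : Subgroup G} (hM : IsCoatom M) {K : Subgroup G}
    (hK : Cfsg.IsPiHallOf (Cfsg.kappa M) K M) (hK1 : K ≠ ⊥) : T142 M K ∧ C1431 M K :=
  t142_and_c1431_of hG (typeFBeta_real hG) hM hK hK1

end Cfsg.Agent.Lib.Helper20.BGFin
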