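/- helper20: B&G 14.7: a pair (M, M*) of partners cannot consist of two maximal subgroups of
type P1 (`U = 1` for both): instance of helper27's counting `false_of_finset` with `F = {M, M*}`,
`Z = K × K*`.  Hypothesis form (the facts of S1367, S1368, S1431(c) are hypotheses). -/
import Mathlib
import Cfsg.Agent.Lib.Helper27.BGPCountD
import Cfsg.Agent.Lib.Helper21.BG147C
import Cfsg.Agent.Lib.Helper2.BGCorF

set_option autoImplicit false
set_option linter.unusedSectionVars false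
set_option linter.unusedVariables false
set_option linter.style.haveILetI false

namespace Cfsg.Agent.Lib.Helper20.BGPair

open Cfsg.Agent.Lib.Helper2.BGCor (primes_card_sigmaCore sigmaCore_le pRankLE_one_of_kappa)
open Cfsg.Agent.Lib.Helper21.BG147 (coprime_kappa_sigma card_sup_of_inf_eq_bot
  exists_mul_of_mem_sup)
open Cfsg.Agent.Lib.Helper27.BGPCount (false_of_finset three_of_not_le sp_real)

universe u

variable {G : Type u} [Group G] [Finite G]

/-- two subgroups of coprime orders meet trivially. -/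
theorem inf_eq_bot_of_coprime' {A B : Subgroup G} (h : (Nat.card A).Coprime (Nat.card B)) :
    A ⊓ B = ⊥ := by
  rw [Subgroup.eq_bot_iff_forall]
  intro x hx
  have h1 : orderOf x ∣ Nat.card A := by
    have := orderOf_dvd_natCard (⟨x, hx.1⟩ : ↥A)
    rwa [Subgroup.orderOf_mk] at this
  have h2 : orderOf x ∣ Nat.card B := by
    have := orderOf_dvd_natCard (⟨x, hx.2⟩ : ↥B)
    rwa [Subgroup.orderOf_mk] at this
  exact orderOf_eq_one_iff.mp (Nat.eq_one_of_dvd_coprimes h h1 h2)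

/-- `(K ⊔ Ks) ⊓ S = Ks` when `Ks ≤ S`, `Ks` centralizes `K` and `K ⊓ S = ⊥`. -/
theorem sup_inf_eq {K Ks S : Subgroup G} (hcomm : Ks ≤ Subgroup.centralizer (K : Set G))
    (hKsS : Ks ≤ S) (hKS : K ⊓ S = ⊥) : (K ⊔ Ks) ⊓ S = Ks := by
  apply le_antisymm
  · rintro z ⟨hzZ, hzS⟩
    obtain ⟨x, hx, y, hy, rfl⟩ := exists_mul_of_mem_sup hcomm hzZ
    have hxS : x ∈ S := by
      have := S.mul_mem hzS (S.inv_mem (hKsS hy))
      rwa [mul_inv_cancel_right] at this
    have hx1 : x = 1 := by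
      have : x ∈ K ⊓ S := ⟨hx, hxS⟩
      rwa [hKS, Subgroup.mem_bot] at this
    rw [hx1, one_mul]; exact hy
  · exact le_inf le_sup_right hKsS

/-- `(K ⊔ Ks) ⊓ S = K` when `K ≤ S`, `Ks` centralizes `K` and `Ks ⊓ S = ⊥`. -/
theorem sup_inf_eq' {K Ks S : Subgroup G} (hcomm : Ks ≤ Subgroup.centralizer (K : Set G))
    (hKS : K ≤ S) (hKsS : Ks ⊓ S = ⊥) : (K ⊔ Ks) ⊓ S = K := by
  apply le_antisymm
  · rintro z ⟨hzZ, hzS⟩
    obtain ⟨x, hx, y, hy, rfl⟩ := exists_mul_of_mem_sup hcomm hzZ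
    have hyS : y ∈ S := by
      have := S.mul_mem (S.inv_mem (hKS hx)) hzS
      rwa [inv_mul_cancel_left] at this
    have hy1 : y = 1 := by
      have : y ∈ Ks ⊓ S := ⟨hy, hyS⟩
      rwa [hKsS, Subgroup.mem_bot] at this
    rw [hy1, mul_one]; exact hx
  · exact le_inf le_sup_left hKS

/-- **P1–P1 pairs are impossible** (B&G 14.7, counting): hypothesis form. -/
theorem pair_p1_false (hG : Cfsg.IsMinSimpleOddOrder G) {M Mstar K Ks : Subgroup G}
    (hM : IsCoatom M) (hMstar : IsCoatom Mstar)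
    (hKκ : ∀ p : ℕ, p.Prime → p ∣ Nat.card K → p ∈ Cfsg.kappa M) (hKM : K ≤ M) (hK1 : K ≠ ⊥)
    (hKsM : Ks ≤ Cfsg.sigmaCore M) (hcomm : Ks ≤ Subgroup.centralizer (K : Set G))
    (hKMs : K ≤ Cfsg.sigmaCore Mstar)
    (hKsκ : ∀ p : ℕ, p.Prime → p ∣ Nat.card Ks → p ∈ Cfsg.kappa Mstar) (hKsMs : Ks ≤ Mstar)
    (hcardM : Nat.card M = Nat.card K * Nat.card (Cfsg.sigmaCore M))
    (hcardMs : Nat.card Mstar = Nat.card Ks * Nat.card (Cfsg.sigmaCore Mstar))
    (hinf : M ⊓ Mstar ≤ K ⊔ Ks)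
    (hgoodM : ∀ a ∈ Ks, a ≠ 1 → Subgroup.centralizer ({a} : Set G) ≤ M)
    (hgoodMs : ∀ a ∈ K, a ≠ 1 → Subgroup.centralizer ({a} : Set G) ≤ Mstar)
    (hnleM : ¬ Cfsg.sigmaCore M ≤ K ⊔ Ks) (hnleMs : ¬ Cfsg.sigmaCore Mstar ≤ K ⊔ Ks)
    (htau2M : ∀ r, r ∉ Cfsg.tau2 M) (htau2Ms : ∀ r, r ∉ Cfsg.tau2 Mstar) : False := by
  classical
  have hcop1 : (Nat.card K).Coprime (Nat.card (Cfsg.sigmaCore M)) :=
    coprime_kappa_sigma hKκ le_rfl
  have hcop2 : (Nat.card Ks).Coprime (Nat.card (Cfsg.sigmaCore Mstar)) :=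
    coprime_kappa_sigma hKsκ le_rfl
  have hKS : K ⊓ Cfsg.sigmaCore M = ⊥ := inf_eq_bot_of_coprime' hcop1
  have hKsS : Ks ⊓ Cfsg.sigmaCore Mstar = ⊥ := inf_eq_bot_of_coprime' hcop2
  have hZM : (K ⊔ Ks) ⊓ Cfsg.sigmaCore M = Ks := sup_inf_eq hcomm hKsM hKS
  have hZMs : (K ⊔ Ks) ⊓ Cfsg.sigmaCore Mstar = K := sup_inf_eq' hcomm hKMs hKsS
  have hKKs : K ⊓ Ks = ⊥ := by
    apply le_antisymm _ bot_le
    rw [← hKS]; exact inf_le_inf_left _ hKsM
  have hnorm : K ≤ Subgroup.normalizer (Ks : Set G) :=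
    (Subgroup.le_centralizer_iff.mp hcomm).trans (Subgroup.centralizer_le_normalizer _)
  have hcardZ : Nat.card ↥(K ⊔ Ks) = Nat.card K * Nat.card Ks :=
    card_sup_of_inf_eq_bot K Ks hnorm hKKs
  -- a prime of `K`
  obtain ⟨q, hq, hqK⟩ : ∃ q : ℕ, q.Prime ∧ q ∣ Nat.card K := by
    apply Nat.exists_prime_and_dvd
    intro h1
    exact hK1 (Subgroup.card_eq_one.mp h1)
  have hqσMs : q ∈ Cfsg.sigma Mstar :=
    primes_card_sigmaCore Mstar q hq (hqK.trans (Subgroup.card_dvd_of_le hKMs))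
  have hqσM : q ∉ Cfsg.sigma M := (hKκ q hq hqK).2.2.1
  -- disjointness of the `σ`'s
  have hdisj : ∀ p, p ∈ Cfsg.sigma M → p ∉ Cfsg.sigma Mstar := by
    intro p hpM hpMs
    obtain ⟨g, hg⟩ := sp_real hG M Mstar hM hMstar ⟨p, hpM, hpMs⟩
    rw [hg] at hqσMs
    exact hqσM ((Cfsg.Agent.Lib.Helper9.BG144.sigma_map_conj_iff g).mp hqσMs)
  have hne : M ≠ Mstar := by
    intro h
    rw [← h] at hqσMs
    exact hqσM hqσMs
  refine false_of_finset hG {M, Mstar} (K ⊔ Ks) ⟨M, by simp, Mstar, by simp, hne⟩ ?_ ?_ ?_ ?_ ?_ ?_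
    ?_ ?_ ?_
  · intro H hH
    rcases Finset.mem_insert.mp hH with rfl | hH
    · exact hM
    · rw [Finset.mem_singleton] at hH; subst hH; exact hMstar
  · intro H hH
    rcases Finset.mem_insert.mp hH with rfl | hH
    · exact sup_le hKM (hKsM.trans (sigmaCore_le _))
    · rw [Finset.mem_singleton] at hH; subst hH
      exact sup_le (hKMs.trans (sigmaCore_le _)) hKsMs
  · intro H hH
    rcases Finset.mem_insert.mp hH with rfl | hH
    · rw [hZM, hcardZ, hcardM]; ring
    · rw [Finset.mem_singleton] at hH; subst hH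
      rw [hZMs, hcardZ, hcardMs]; ring
  · intro p hp hpd
    rw [hcardZ] at hpd
    rcases (Nat.Prime.dvd_mul hp).mp hpd with h1 | h1
    · exact ⟨Mstar, by simp, primes_card_sigmaCore Mstar p hp
        (h1.trans (Subgroup.card_dvd_of_le hKMs))⟩
    · exact ⟨M, by simp, primes_card_sigmaCore M p hp
        (h1.trans (Subgroup.card_dvd_of_le hKsM))⟩
  · intro H hH H' hH' hHH' p hp
    rcases Finset.mem_insert.mp hH with rfl | hH
    · rcases Finset.mem_insert.mp hH' with rfl | hH'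
      · exact absurd rfl hHH'
      · rw [Finset.mem_singleton] at hH'; subst hH'; exact hdisj p hp
    · rw [Finset.mem_singleton] at hH; subst hH
      rcases Finset.mem_insert.mp hH' with rfl | hH'
      · exact fun h => hdisj p h hp
      · rw [Finset.mem_singleton] at hH'; subst hH'; exact absurd rfl hHH'
  · intro H hH H' hH' hHH'
    rcases Finset.mem_insert.mp hH with rfl | hH
    · rcases Finset.mem_insert.mp hH' with rfl | hH'
      · exact absurd rfl hHH'
      · rw [Finset.mem_singleton] at hH'; subst hH'; exact hinf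
    · rw [Finset.mem_singleton] at hH; subst hH
      rcases Finset.mem_insert.mp hH' with rfl | hH'
      · rw [inf_comm]; exact hinf
      · rw [Finset.mem_singleton] at hH'; subst hH'; exact absurd rfl hHH'
  · intro H hH a ha ha1
    rcases Finset.mem_insert.mp hH with rfl | hH
    · rw [hZM] at ha; exact hgoodM a ha ha1
    · rw [Finset.mem_singleton] at hH; subst hH
      rw [hZMs] at ha; exact hgoodMs a ha ha1
  · intro H hH
    rcases Finset.mem_insert.mp hH with rfl | hH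
    · exact three_of_not_le hG hnleM
    · rw [Finset.mem_singleton] at hH; subst hH
      exact three_of_not_le hG hnleMs
  · intro H hH
    rcases Finset.mem_insert.mp hH with rfl | hH
    · exact htau2M
    · rw [Finset.mem_singleton] at hH; subst hH
      exact htau2Ms

end Cfsg.Agent.Lib.Helper20.BGPair
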