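/- helper20: B&G 14.7: consequences of the P1–P1 pair kill (`BGPair.pair_p1_false`) for a maximal
subgroup `M` with standard factorisation `M = K U M_σ` and a partner `M*`:
`pair_false_of_decomp` (both `U = 1`, `U* = 1` impossible) and `conj_of_kappa_nonempty`
(every maximal `H` with `κ(H) ≠ ∅` is conjugate to `M` or `M*`), in hypothesis form. -/
import Mathlib
import Cfsg.Agent.Lib.Helper20.BGPair
import Cfsg.Agent.Lib.Helper24.BGC2TB
import Cfsg.Agent.Lib.Helper16.BGPrimD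

set_option autoImplicit false
set_option linter.unusedSectionVars false
set_option linter.unusedVariables false
set_option linter.style.haveILetI false

namespace Cfsg.Agent.Lib.Helper20.BGPair

open Cfsg.Agent.Lib.Helper2.BGCor (primes_card_sigmaCore sigmaCore_le pRankLE_one_of_kappa
  conj_mem_sigmaCore exists_pow_prime_order')
open Cfsg.Agent.Lib.Helper21.BG147 (coprime_kappa_sigma card_sup_of_inf_eq_bot
  exists_mul_of_mem_sup)
open Cfsg.Agent.Lib.Helper27.BGPCount (sp_real)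
open Cfsg.Agent.Lib.Helper24.BGC2T (C1431)

universe u

variable {G : Type u} [Group G] [Finite G]

/-- rank `≥ 2` forces `r ∣ |M|`. -/
theorem dvd_card_of_not_pRankLE {M : Subgroup G} {r : ℕ} (hr : r.Prime)
    (h : ¬ Cfsg.PRankLE r 1 ↥M) : r ∣ Nat.card M := by
  by_contra hnd
  apply h
  intro A _ hA
  have hA1 : A = ⊥ := by
    rw [Subgroup.eq_bot_iff_forall]
    intro a ha
    have h1 : orderOf a ∣ r := orderOf_dvd_of_pow_eq_one (hA a ha)
    have h2 : orderOf a ∣ Nat.card M := orderOf_dvd_natCard a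
    rcases (Nat.dvd_prime hr).mp h1 with h3 | h3
    · exact orderOf_eq_one_iff.mp h3
    · exact absurd (h3 ▸ h2) hnd
  rw [hA1, Subgroup.card_bot]
  exact Nat.one_le_pow _ _ hr.pos

/-- with `U = 1` the order of `M` is `|K| |M_σ|`. -/
theorem card_eq_of_U_bot {M K U : Subgroup G} (hKU : Cfsg.IsSigmaDecomposition M K U)
    (hU : U = ⊥) : Nat.card M = Nat.card K * Nat.card (Cfsg.sigmaCore M) := by
  have hKM : K ≤ M := hKU.hall.1
  have hle : M ≤ K ⊔ Cfsg.sigmaCore M := by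
    intro m hm
    obtain ⟨a, ha, b, hb, rfl⟩ := hKU.compl.2.2.2 m hm
    rw [hU, Subgroup.mem_bot] at ha
    rw [ha, one_mul]; exact hb
  have heq : M = K ⊔ Cfsg.sigmaCore M := le_antisymm hle (sup_le hKM (sigmaCore_le M))
  have hn : K ≤ Subgroup.normalizer ((Cfsg.sigmaCore M : Subgroup G) : Set G) :=
    Cfsg.Agent.Lib.Helper16.BGPrim.le_normalizer_of_conj_mem
      (fun s hs t ht => conj_mem_sigmaCore (hKM hs) ht)
  have hcop : (Nat.card K).Coprime (Nat.card (Cfsg.sigmaCore M)) :=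
    coprime_kappa_sigma hKU.hall.2.1 le_rfl
  have h1 := card_sup_of_inf_eq_bot K (Cfsg.sigmaCore M) hn (inf_eq_bot_of_coprime' hcop)
  rw [← h1]
  exact congrArg (fun H : Subgroup G => Nat.card H) heq

/-- with `U = 1` there are no `τ₂(M)`-primes. -/
theorem tau2_empty_of_U_bot {M K U : Subgroup G} (hKU : Cfsg.IsSigmaDecomposition M K U)
    (hU : U = ⊥) : ∀ r, r ∉ Cfsg.tau2 M := by
  rintro r ⟨hr, hrσ, -, hr1⟩
  have hd : r ∣ Nat.card M := dvd_card_of_not_pRankLE hr hr1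
  rw [card_eq_of_U_bot hKU hU] at hd
  rcases (Nat.Prime.dvd_mul hr).mp hd with h1 | h1
  · exact hr1 (pRankLE_one_of_kappa (hKU.hall.2.1 r hr h1))
  · exact hrσ (primes_card_sigmaCore M r hr h1)

/-- from prime order subgroups to all nonidentity elements. -/
theorem good_of_prime {A L : Subgroup G}
    (h : ∀ X : Subgroup G, X ≤ A → (Nat.card X).Prime → Subgroup.centralizer (X : Set G) ≤ L) :
    ∀ a ∈ A, a ≠ 1 → Subgroup.centralizer ({a} : Set G) ≤ L := by
  intro a ha ha1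
  obtain ⟨j, q, hq, hjo, -⟩ := exists_pow_prime_order' ha1
  have hX : Subgroup.zpowers (a ^ j) ≤ A := Subgroup.zpowers_le.mpr (A.pow_mem ha j)
  have hXc : (Nat.card (Subgroup.zpowers (a ^ j))).Prime := by
    rw [Nat.card_zpowers, hjo]; exact hq
  refine le_trans ?_ (h _ hX hXc)
  intro g hg
  rw [Subgroup.mem_centralizer_iff]
  intro x hx
  obtain ⟨n, rfl⟩ := Subgroup.mem_zpowers_iff.mp hx
  have hc : Commute g a := Subgroup.mem_centralizer_singleton_iff.mp hg
  exact ((hc.symm.pow_left j).zpow_left n).eq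

/-- `M_σ ⊄ K ⊔ K*` (from S1431(c)). -/
theorem not_sigmaCore_le {M K : Subgroup G} (h31 : C1431 M K)
    (hKκ : ∀ p : ℕ, p.Prime → p ∣ Nat.card K → p ∈ Cfsg.kappa M)
    (hKs1 : Cfsg.sigmaCore M ⊓ Subgroup.centralizer (K : Set G) ≠ ⊥) :
    ¬ Cfsg.sigmaCore M ≤ K ⊔ (Cfsg.sigmaCore M ⊓ Subgroup.centralizer (K : Set G)) := by
  intro hle
  have hcop : (Nat.card K).Coprime (Nat.card (Cfsg.sigmaCore M)) :=
    coprime_kappa_sigma hKκ le_rfl
  have h1 := sup_inf_eq (K := K) (Ks := Cfsg.sigmaCore M ⊓ Subgroup.centralizer (K : Set G))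
    (S := Cfsg.sigmaCore M) inf_le_right inf_le_left (inf_eq_bot_of_coprime' hcop)
  have h2 : Cfsg.sigmaCore M ≤ Cfsg.sigmaCore M ⊓ Subgroup.centralizer (K : Set G) := by
    rw [← h1]; exact le_inf hle le_rfl
  obtain ⟨p, hp, hpd⟩ : ∃ p : ℕ, p.Prime ∧
      p ∣ Nat.card ↥(Cfsg.sigmaCore M ⊓ Subgroup.centralizer (K : Set G)) := by
    apply Nat.exists_prime_and_dvd
    intro h0
    exact hKs1 (Subgroup.card_eq_one.mp h0)
  haveI : Fact p.Prime := ⟨hp⟩
  obtain ⟨S⟩ : Nonempty (Sylow p ↥(Cfsg.sigmaCore M)) := inferInstance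
  exact (h31.2.2.1 p hp hpd S).2.2 ((Subgroup.map_subtype_le _).trans h2)

/-- **both `U = 1` and `U* = 1` is impossible.** -/
theorem pair_false_of_decomp (hG : Cfsg.IsMinSimpleOddOrder G) {M K U Mstar Ustar : Subgroup G}
    (hM : IsCoatom M) (hKU : Cfsg.IsSigmaDecomposition M K U) (hK1 : K ≠ ⊥)
    (hMstar : IsCoatom Mstar)
    (hKst : K = Cfsg.sigmaCore Mstar ⊓ Subgroup.centralizer
      ((Cfsg.sigmaCore M ⊓ Subgroup.centralizer (K : Set G) : Subgroup G) : Set G))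
    (hKU' : Cfsg.IsSigmaDecomposition Mstar
      (Cfsg.sigmaCore M ⊓ Subgroup.centralizer (K : Set G)) Ustar)
    (hKs1 : Cfsg.sigmaCore M ⊓ Subgroup.centralizer (K : Set G) ≠ ⊥)
    (h67a : ∀ X : Subgroup G, X ≤ Cfsg.sigmaCore M ⊓ Subgroup.centralizer (K : Set G) →
      (Nat.card X).Prime → Subgroup.centralizer (X : Set G) ≤ M)
    (h67b : ∀ Y : Subgroup G, Y ≤ K → (Nat.card Y).Prime →
      Subgroup.centralizer (Y : Set G) ≤ Mstar)
    (h68 : M ⊓ Mstar ≤ K ⊔ (Cfsg.sigmaCore M ⊓ Subgroup.centralizer (K : Set G)))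
    (h31 : C1431 M K)
    (h31' : C1431 Mstar (Cfsg.sigmaCore M ⊓ Subgroup.centralizer (K : Set G)))
    (hU : U = ⊥) (hU' : Ustar = ⊥) : False := by
  have hKMs : K ≤ Cfsg.sigmaCore Mstar := hKst.le.trans inf_le_left
  refine pair_p1_false hG hM hMstar hKU.hall.2.1 hKU.hall.1 hK1 inf_le_left inf_le_right hKMs
    hKU'.hall.2.1 hKU'.hall.1 (card_eq_of_U_bot hKU hU) (card_eq_of_U_bot hKU' hU') h68
    (good_of_prime h67a) (good_of_prime h67b) (not_sigmaCore_le h31 hKU.hall.2.1 hKs1) ?_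
    (tau2_empty_of_U_bot hKU hU) (tau2_empty_of_U_bot hKU' hU')
  -- `M*_σ ⊄ K ⊔ K*`
  have hK1' : Cfsg.sigmaCore Mstar ⊓ Subgroup.centralizer
      ((Cfsg.sigmaCore M ⊓ Subgroup.centralizer (K : Set G) : Subgroup G) : Set G) ≠ ⊥ := by
    rw [← hKst]; exact hK1
  have h3 := not_sigmaCore_le h31' hKU'.hall.2.1 hK1'
  rw [← hKst, sup_comm] at h3
  exact h3

end Cfsg.Agent.Lib.Helper20.BGPair
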