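/- helper20: B&G 14.7(f) / first half of S1372, "(alpha)": in a standard factorisation
`M = K U M_σ` with `K ≠ 1` and `U ≠ 1` the cyclic group `K` has prime order.
(S1429: `M` is not of type P1, so `M_σ` is nilpotent and `C_{M_σ}(Ω₁(S)) = 1` for a Sylow subgroup
`S` of `U`; then S1446 for the Frobenius group `U ⋊ K` acting on `M_σ`.) -/
import Mathlib
import Cfsg.Agent.Lib.Helper20.BGPairB
import Cfsg.Agent.Lib.Helper1.BGKap3
import Cfsg.Agent.Lib.Helper27.BGConjA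
import Cfsg.Agent.S1350
import Cfsg.Agent.S1353
import Cfsg.Agent.S1354
import Cfsg.Agent.S1429
import Cfsg.Agent.S1430
import Cfsg.Agent.S1446

set_option autoImplicit false
set_option linter.unusedSectionVars false
set_option linter.unusedVariables false
set_option linter.style.haveILetI false

namespace Cfsg.Agent.Lib.Helper20.BGAlpha

open Cfsg.Agent.Lib.Helper2.BGCor (primes_card_sigmaCore sigmaCore_le conj_mem_sigmaCore
  le_normalizer_sigmaCore)
open Cfsg.Agent.Lib.Helper21.BG147 (coprime_kappa_sigma card_sup_of_inf_eq_bot)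
open Cfsg.Agent.Lib.Helper8 (conj_mem_map_conj)

universe u

variable {G : Type u} [Group G] [Finite G]

/-- `C_{M_σ}(U) = 1` when `U ≠ 1`, and `M_σ` is nilpotent (S1429). -/
theorem cent_U_eq_bot (hG : Cfsg.IsMinSimpleOddOrder G) {M K U : Subgroup G} (hM : IsCoatom M)
    (hKU : Cfsg.IsSigmaDecomposition M K U) (hU1 : U ≠ ⊥) :
    Cfsg.sigmaCore M ⊓ Subgroup.centralizer (U : Set G) = ⊥ ∧
      Group.IsNilpotent (Cfsg.sigmaCore M) := by
  have hHall := (Cfsg.Agent.S1350.result hG M hM).1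
  obtain ⟨p, hp, hpU⟩ : ∃ p : ℕ, p.Prime ∧ p ∣ Nat.card U :=
    Nat.exists_prime_and_dvd (fun h => hU1 (Subgroup.card_eq_one.mp h))
  haveI : Fact p.Prime := ⟨hp⟩
  obtain ⟨hpκ, hpσ⟩ :=
    Cfsg.Agent.Lib.Helper1.BGKap.not_kappa_sigma_of_dvd_card_U hHall hKU hp hpU
  have hUM : U ≤ M := hKU.compl.1
  have hpM : p ∣ Nat.card M := hpU.trans (Subgroup.card_dvd_of_le hUM)
  have hP1 : ¬ (∀ q : ℕ, q.Prime → q ∣ Nat.card M → q ∉ Cfsg.sigma M → q ∈ Cfsg.kappa M) :=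
    fun h => hpκ (h p hp hpM hpσ)
  have hpn : p ∉ Cfsg.sigma M ∪ Cfsg.kappa M := by
    rintro (h | h)
    · exact hpσ h
    · exact hpκ h
  obtain ⟨S⟩ : Nonempty (Sylow p ↥M) := inferInstance
  obtain ⟨-, hC, hnil⟩ := Cfsg.Agent.S1429.result hG M hM hP1 p hpM hpn S
  refine ⟨?_, hnil⟩
  -- conjugate the Sylow subgroup into `U`
  haveI : Group.IsSolvable ↥M := hG.2.2.2 M hM.1
  have hUHall := Cfsg.Agent.Lib.Helper1.BGKap.isPiHallOf_U hHall hKU
  set Y : Subgroup G := (S : Subgroup ↥M).map M.subtype with hY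
  have hYM : Y ≤ M := Subgroup.map_subtype_le _
  have hYp : ∀ q : ℕ, q.Prime → q ∣ Nat.card Y →
      q ∈ {q | q.Prime ∧ q ∉ Cfsg.kappa M ∧ q ∉ Cfsg.sigma M} := by
    intro q hq hqd
    have hYpg : IsPGroup p Y := S.2.map _
    obtain ⟨n, hn⟩ := IsPGroup.iff_card.mp hYpg
    rw [hn] at hqd
    have : q = p := (Nat.prime_dvd_prime_iff_eq hq hp).mp (hq.dvd_of_dvd_pow hqd)
    rw [this]; exact ⟨hp, hpκ, hpσ⟩
  obtain ⟨m, hm, hYm⟩ := Cfsg.Agent.Lib.Helper27.BGConj.exists_conj_le_of_pi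
    {q | q.Prime ∧ q ∉ Cfsg.kappa M ∧ q ∉ Cfsg.sigma M} inferInstance hUM hYM hYp hUHall.2.2
  rw [Subgroup.eq_bot_iff_forall]
  intro c hc
  have hcσ : c ∈ Cfsg.sigmaCore M := hc.1
  have hcU : ∀ u ∈ U, u * c = c * u := fun u hu => Subgroup.mem_centralizer_iff.mp hc.2 u hu
  have hc'σ : m⁻¹ * c * m ∈ Cfsg.sigmaCore M := by
    have := conj_mem_sigmaCore (M.inv_mem hm) hcσ
    rwa [inv_inv] at this
  have hc'C : m⁻¹ * c * m ∈ Subgroup.centralizer
      ((Subgroup.closure {x : G | x ∈ (S : Subgroup ↥M).map M.subtype ∧ x ^ p = 1} :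
        Subgroup G) : Set G) := by
    have hle : Subgroup.closure {x : G | x ∈ (S : Subgroup ↥M).map M.subtype ∧ x ^ p = 1} ≤
        Subgroup.centralizer ({m⁻¹ * c * m} : Set G) := by
      rw [Subgroup.closure_le]
      rintro x ⟨hxY, -⟩
      rw [SetLike.mem_coe, Subgroup.mem_centralizer_singleton_iff]
      have h1 : m * x * m⁻¹ ∈ U := hYm (conj_mem_map_conj hxY)
      have h2 := hcU _ h1
      calc x * (m⁻¹ * c * m) = m⁻¹ * ((m * x * m⁻¹) * c) * m := by group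
        _ = m⁻¹ * (c * (m * x * m⁻¹)) * m := by rw [h2]
        _ = m⁻¹ * c * m * x := by group
    rw [Subgroup.mem_centralizer_iff]
    intro h hh
    exact Subgroup.mem_centralizer_singleton_iff.mp (hle hh)
  have h3 : m⁻¹ * c * m ∈ Cfsg.sigmaCore M ⊓ Subgroup.centralizer
      ((Subgroup.closure {x : G | x ∈ (S : Subgroup ↥M).map M.subtype ∧ x ^ p = 1} :
        Subgroup G) : Set G) := ⟨hc'σ, hc'C⟩
  rw [hC, Subgroup.mem_bot] at h3
  calc c = m * (m⁻¹ * c * m) * m⁻¹ := by group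
    _ = 1 := by rw [h3]; group

/-- **(alpha)**: `K ≠ 1`, `U ≠ 1` ⟹ `|K|` is prime. -/
theorem card_prime_of_U_ne_bot (hG : Cfsg.IsMinSimpleOddOrder G) {M K U : Subgroup G}
    (hM : IsCoatom M) (hKU : Cfsg.IsSigmaDecomposition M K U) (hK1 : K ≠ ⊥) (hU1 : U ≠ ⊥) :
    (Nat.card K).Prime := by
  have hHall := (Cfsg.Agent.S1350.result hG M hM).1
  obtain ⟨hCU, hnil⟩ := cent_U_eq_bot hG hM hKU hU1
  have hUM : U ≤ M := hKU.compl.1
  have hKM : K ≤ M := hKU.hall.1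
  have hUK : U ⊓ K = ⊥ := by
    apply le_antisymm _ bot_le
    rw [← hKU.compl.2.2.1]
    exact inf_le_inf_left _ le_sup_left
  have hKs1 := (Cfsg.Agent.S1354.result hG M hM K hKU.cyclic hKU.hall).1
  have hM1 : Cfsg.sigmaCore M ≠ ⊥ := by
    intro h0
    apply hKs1
    rw [h0, bot_inf_eq]
  haveI : Group.IsSolvable ↥M := hG.2.2.2 M hM.1
  have hle : U ⊔ K ≤ M := sup_le hUM hKM
  have hsolv : Group.IsSolvable ↥(U ⊔ K) :=
    Group.isSolvable_of_isSolvable_injective (Subgroup.inclusion_injective hle)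
  have hodd : Odd (Nat.card ↥(U ⊔ K)) :=
    Odd.of_dvd_nat hG.1 (Subgroup.card_subgroup_dvd_card _)
  have hcard : Nat.card ↥(U ⊔ K) = Nat.card K * Nat.card U := by
    rw [sup_comm]
    apply card_sup_of_inf_eq_bot K U hKU.normal
    rw [inf_comm]; exact hUK
  have hcop : (Nat.card ↥(U ⊔ K)).Coprime (Nat.card (Cfsg.sigmaCore M)) := by
    rw [hcard]
    apply Nat.Coprime.mul_left
    · exact coprime_kappa_sigma hKU.hall.2.1 le_rfl
    · apply Nat.coprime_of_dvd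
      intro q hq hqU hqσ
      exact (Cfsg.Agent.Lib.Helper1.BGKap.not_kappa_sigma_of_dvd_card_U hHall hKU hq hqU).2
        (primes_card_sigmaCore M q hq hqσ)
  exact (Cfsg.Agent.S1446.result (X := G) U K (Cfsg.sigmaCore M) hU1 hK1 hUK hKU.normal
    (Cfsg.Agent.S1353.result hG M hM K U hKU) hsolv hodd hM1 hnil
    (hUM.trans (le_normalizer_sigmaCore M)) (hKM.trans (le_normalizer_sigmaCore M)) hcop hCU
    (Cfsg.Agent.S1430.result hG M hM K hKU.hall hK1).1).1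

end Cfsg.Agent.Lib.Helper20.BGAlpha
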