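import Mathlib
import Cfsg.Agent.Lib.Helper16.NM.Base
import Cfsg.Agent.Lib.Helper17.ClassGraph1

/-!
# S4146: spare copies of three toolkit lemmas (helper20): T4 `exists_conj_commute20`, Lemma Q
`factorization_center_lt20`, Lemma P `central_of_factorization_le20`, Lemma P' `factorization_card_eq20`
-/

set_option autoImplicit false

namespace Cfsg.Agent.Lib.Helper20.NM

open Cfsg.Agent.Lib.Helper22.ClsSet Cfsg.Agent.Lib.Helper16.NM

variable {G : Type*} [Group G] [Finite G]

/-- T4: a `p`-element has a conjugate in the centralizer of `y` if `p ∤ idx y` -/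
theorem exists_conj_commute20 {p : ℕ} [Fact p.Prime] {x y : G} (hx : PEl p x) (hy : ¬ p ∣ idx y) :
    ∃ c : G, Commute (c * x * c⁻¹) y := by
  obtain ⟨k, hk⟩ := hx
  have hP : IsPGroup p (Subgroup.zpowers x) :=
    IsPGroup.of_card (n := k) (by rw [Nat.card_zpowers, hk])
  obtain ⟨P0, hP0⟩ := hP.exists_le_sylow
  obtain ⟨Q', hQ'⟩ := Cfsg.Agent.Lib.Helper17.ClassGraph.exists_sylow_le_of_not_dvd_index
    (Subgroup.centralizer ({y} : Set G)) hy
  obtain ⟨c, hc⟩ := MulAction.exists_smul_eq G P0 Q'
  refine ⟨c, ?_⟩
  have hx0 : x ∈ (P0 : Subgroup G) := hP0 (Subgroup.mem_zpowers x)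
  have h1 : c * x * c⁻¹ ∈ ((c • P0 : Sylow p G) : Subgroup G) := by
    rw [Sylow.smul_def, Sylow.pointwise_smul_def]
    exact ⟨x, hx0, by simp [MulAut.smul_def, MulAut.conj_apply]⟩
  rw [hc] at h1
  have h2 := hQ' h1
  rw [mem_cent_singleton] at h2
  exact h2.symm

/-- Lemma Q: if `k` commutes with a non-central `s`-element then the `s`-part of `|C(k)|` exceeds
that of `|Z(G)|` -/
theorem factorization_center_lt20 {s : ℕ} [Fact s.Prime] {v k : G} (hvs : PEl s v)
    (hvz : v ∉ Subgroup.center G) (hc : Commute v k) :
    (Nat.card (Subgroup.center G)).factorization s <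
      (Nat.card (Subgroup.centralizer ({k} : Set G))).factorization s := by
  have hs : s.Prime := Fact.out
  set C := Subgroup.centralizer ({k} : Set G) with hC
  have hZC : Subgroup.center G ≤ C := Subgroup.center_le_centralizer _
  have hvC : v ∈ C := by
    rw [hC, mem_cent_singleton]
    exact hc.eq.symm
  -- the quotient `C ⧸ Z`
  set Z' := (Subgroup.center G).subgroupOf C with hZ'
  have : Z'.Normal := by
    rw [hZ']
    infer_instance
  have hcard : Nat.card (Subgroup.center G) * Z'.index = Nat.card C := by
    have h1 := Subgroup.card_mul_index Z'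
    have h2 : Nat.card Z' = Nat.card (Subgroup.center G) := by
      rw [hZ']
      exact Nat.card_congr (Subgroup.subgroupOfEquivOfLe hZC).toEquiv
    rw [h2] at h1
    exact h1
  -- the image of `v`
  let v' : C := ⟨v, hvC⟩
  have hv'1 : (QuotientGroup.mk' Z' v') ≠ 1 := by
    intro h1
    rw [QuotientGroup.mk'_apply, QuotientGroup.eq_one_iff] at h1
    rw [hZ', Subgroup.mem_subgroupOf] at h1
    exact hvz h1
  obtain ⟨j, hj⟩ := hvs
  have hord : orderOf (QuotientGroup.mk' Z' v') ∣ s ^ j := by
    have h1 : orderOf (QuotientGroup.mk' Z' v') ∣ orderOf v' := orderOf_map_dvd _ _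
    have h2 : orderOf v' = orderOf v := Subgroup.orderOf_mk v hvC
    rw [h2, hj] at h1
    exact h1
  have hsdvd : s ∣ Z'.index := by
    obtain ⟨i, _, hi⟩ := (Nat.dvd_prime_pow hs).mp hord
    have hi0 : i ≠ 0 := by
      rintro rfl
      rw [pow_zero, orderOf_eq_one_iff] at hi
      exact hv'1 hi
    have h3 : orderOf (QuotientGroup.mk' Z' v') ∣ Nat.card (C ⧸ Z') := orderOf_dvd_natCard _
    rw [hi] at h3
    have : Z'.index = Nat.card (C ⧸ Z') := Subgroup.index_eq_card Z'
    rw [this]
    exact dvd_trans (dvd_pow_self s hi0) h3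
  have hidx0 : Z'.index ≠ 0 := Subgroup.index_ne_zero_of_finite
  rw [← hcard, Nat.factorization_mul Nat.card_pos.ne' hidx0, Finsupp.add_apply]
  have : 0 < Z'.index.factorization s := hs.factorization_pos_of_dvd hidx0 hsdvd
  omega

/-- Lemma P': if all `q`-elements of `C(h0)` are central, `v_q |G| = v_q (idx h0) + v_q |Z(G)|` -/
theorem factorization_card_eq20 {q : ℕ} [Fact q.Prime] {h0 : G}
    (hc : ∀ g : G, PEl q g → Commute g h0 → g ∈ Subgroup.center G) :
    (Nat.card G).factorization q =
      (idx h0).factorization q + (Nat.card (Subgroup.center G)).factorization q := by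
  have hq : q.Prime := Fact.out
  set C := Subgroup.centralizer ({h0} : Set G) with hC
  have hZC : Subgroup.center G ≤ C := Subgroup.center_le_centralizer _
  -- `v_q |C| = v_q |Z|`
  have h1 : (Nat.card (Subgroup.center G)).factorization q ≤ (Nat.card C).factorization q := by
    have hd : Nat.card (Subgroup.center G) ∣ Nat.card C := Subgroup.card_dvd_of_le hZC
    exact (Nat.factorization_le_iff_dvd Nat.card_pos.ne' Nat.card_pos.ne').mpr hd q
  have h2 : (Nat.card C).factorization q ≤ (Nat.card (Subgroup.center G)).factorization q := by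
    obtain ⟨Q0⟩ : Nonempty (Sylow q C) := inferInstance
    have hcard : Nat.card ((Q0 : Subgroup C).map C.subtype) = q ^ (Nat.card C).factorization q := by
      rw [Subgroup.card_map_of_injective C.subtype_injective, Q0.card_eq_multiplicity]
    have hle : (Q0 : Subgroup C).map C.subtype ≤ Subgroup.center G := by
      rintro g ⟨g', hg', rfl⟩
      apply hc
      · obtain ⟨k, hk⟩ := (IsPGroup.iff_orderOf.mp Q0.2) ⟨g', hg'⟩
        refine ⟨k, ?_⟩
        rw [← hk]
        simp
      · have h5 : (g' : G) ∈ Subgroup.centralizer ({h0} : Set G) := g'.2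
        rw [mem_cent_singleton] at h5
        exact h5.symm
    have hd : q ^ (Nat.card C).factorization q ∣ Nat.card (Subgroup.center G) := by
      rw [← hcard]
      exact Subgroup.card_dvd_of_le hle
    exact (hq.pow_dvd_iff_le_factorization Nat.card_pos.ne').mp hd
  have h3 : Nat.card C * idx h0 = Nat.card G := card_cent_mul_idx h0
  rw [← h3, Nat.factorization_mul Nat.card_pos.ne' (idx_ne_zero h0), Finsupp.add_apply]
  omega

/-- Lemma P: if all `q`-elements of `C(h0)` are central, every `q`-element whose index has `q`-part at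
least that of `idx h0` is central -/
theorem central_of_factorization_le20 {q : ℕ} [Fact q.Prime] {h0 : G}
    (hc : ∀ g : G, PEl q g → Commute g h0 → g ∈ Subgroup.center G) {g : G} (hg : PEl q g)
    (hle : (idx h0).factorization q ≤ (idx g).factorization q) : g ∈ Subgroup.center G := by
  by_contra hgz
  have h1 := factorization_center_lt20 hg hgz (Commute.refl g)
  have h2 := factorization_card_eq20 hc
  have h3 : Nat.card (Subgroup.centralizer ({g} : Set G)) * idx g = Nat.card G := card_cent_mul_idx g
  have h4 : (Nat.card G).factorization q =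
      (Nat.card (Subgroup.centralizer ({g} : Set G))).factorization q + (idx g).factorization q := by
    rw [← h3, Nat.factorization_mul Nat.card_pos.ne' (idx_ne_zero g), Finsupp.add_apply]
  omega

end Cfsg.Agent.Lib.Helper20.NM
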