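import Mathlib
import Cfsg.Agent.Lib.Helper16.NM.Base
import Cfsg.Agent.Lib.Helper20.NMTool20

/-!
# S4146 leaf L4B (helper20): in the situation (4B) every prime divisor of `n` is `s`
-/

set_option autoImplicit false

namespace Cfsg.Agent.Lib.Helper20.NM

open Cfsg.Agent.Lib.Helper22.ClsSet Cfsg.Agent.Lib.Helper16.NM

variable {G : Type*} [Group G] [Finite G] {n m : ℕ}

/-- a conjugate of a `p`-element is a `p`-element -/
theorem pEl_conj20 {p : ℕ} {g : G} (hg : PEl p g) (c : G) : PEl p (c * g * c⁻¹) := by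
  obtain ⟨k, hk⟩ := hg
  refine ⟨k, ?_⟩
  rw [← hk]
  have : c * g * c⁻¹ = MulAut.conj c g := by simp [MulAut.conj_apply]
  rw [this]
  exact MulEquiv.orderOf_eq (MulAut.conj c) g

/-- elements of prime power orders for distinct primes have coprime orders -/
theorem pEl_coprime20 {p q : ℕ} (hp : p.Prime) (hq : q.Prime) (hpq : p ≠ q) {a b : G}
    (ha : PEl p a) (hb : PEl q b) : (orderOf a).Coprime (orderOf b) := by
  obtain ⟨k, hk⟩ := ha
  obtain ⟨l, hl⟩ := hb
  rw [hk, hl]
  exact Nat.Coprime.pow _ _ ((Nat.coprime_primes hp hq).mpr hpq)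

/-- L4B: in the situation (4B) every prime divisor of `n` is `s` -/
theorem L4B (h : CS G n m) {s t : ℕ} [Fact s.Prime] [Fact t.Prime] (hst : s ≠ t)
    (hno : ∀ (p q : ℕ) (a b : G), p.Prime → q.Prime → p ≠ q → PEl p a → PEl q b →
      idx a = m → idx b = n → ¬ Commute a b)
    (hEm : ∀ (p : ℕ) (g : G), p.Prime → PEl p g → idx g = m → p = s)
    {u x : G} (hu : PEl s u) (hiu : idx u = m) (hx : PEl t x) (hix : idx x = n)
    {q : ℕ} (hq : q.Prime) (hqn : q ∣ n) : q = s := by
  by_contra hqs
  have hs : s.Prime := Fact.out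
  have ht : t.Prime := Fact.out
  have : Fact q.Prime := ⟨hq⟩
  have hn1 := h.one_lt_n
  have hm1 := h.one_lt_m
  -- `q ∤ m`
  have hqm : ¬ q ∣ m := by
    intro hd
    have h2 : q ∣ Nat.gcd n m := Nat.dvd_gcd hqn hd
    rw [h.cop] at h2
    exact hq.one_lt.ne' (Nat.dvd_one.mp h2)
  -- (i) every non-central `q`-element has index `n * m`
  have hi : ∀ g : G, PEl q g → g ∉ Subgroup.center G → idx g = n * m := by
    intro g hg hgz
    rcases h.cs g with h1 | h1 | h1 | h1
    · exact absurd ((idx_eq_one_iff g).1 h1) hgz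
    · exfalso
      obtain ⟨c, hc⟩ := exists_conj_commute20 (p := q) (x := g) (y := u) hg (by rw [hiu]; exact hqm)
      exact hno s q u (c * g * c⁻¹) hs hq (Ne.symm hqs) hu (pEl_conj20 hg c) hiu
        (by rw [idx_conj, h1]) hc.symm
    · exact absurd (hEm q g hq hg h1) hqs
    · exact h1
  -- (ii) every `q`-element of `C(x)` is central
  have hii : ∀ g : G, PEl q g → Commute g x → g ∈ Subgroup.center G := by
    intro g hg hgx
    by_contra hgz
    have hig : idx g = n * m := hi g hg hgz
    obtain ⟨c, hc⟩ := exists_conj_commute20 (p := q) (x := g) (y := u) hg (by rw [hiu]; exact hqm)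
    -- `u1 := c⁻¹ u c` commutes with `g`
    set u1 := c⁻¹ * u * c⁻¹⁻¹ with hu1
    have hu1s : PEl s u1 := pEl_conj20 hu c⁻¹
    have hiu1 : idx u1 = m := by rw [hu1, idx_conj, hiu]
    have hcomm : Commute u1 g := by
      have h1 : c * g * c⁻¹ * u = u * (c * g * c⁻¹) := hc.eq
      show u1 * g = g * u1
      rw [hu1, inv_inv]
      have h2 : c⁻¹ * (c * g * c⁻¹ * u) * c = c⁻¹ * (u * (c * g * c⁻¹)) * c := by rw [h1]
      have e1 : c⁻¹ * (c * g * c⁻¹ * u) * c = g * (c⁻¹ * u * c) := by group
      have e2 : c⁻¹ * (u * (c * g * c⁻¹)) * c = c⁻¹ * u * c * g := by group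
      rw [e1, e2] at h2
      exact h2.symm
    have hcop : (orderOf u1).Coprime (orderOf g) := pEl_coprime20 hs hq (Ne.symm hqs) hu1s hg
    have hcent := cent_mul_of_coprime hcomm hcop
    -- `idx (u1 * g) = n * m`
    have hdg : idx g ∣ idx (u1 * g) := by
      unfold idx
      rw [hcent]
      exact Subgroup.index_dvd_of_le inf_le_right
    have hnm : idx (u1 * g) = n * m := by
      rw [hig] at hdg
      exact h.idx_of_dvd_dvd (dvd_trans (dvd_mul_right n m) hdg) (dvd_trans (dvd_mul_left m n) hdg)
    -- `C(u1 g) = C(g)`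
    have hle : Subgroup.centralizer ({u1 * g} : Set G) ≤ Subgroup.centralizer ({g} : Set G) := by
      rw [hcent]; exact inf_le_right
    have heq : Subgroup.centralizer ({u1 * g} : Set G) = Subgroup.centralizer ({g} : Set G) := by
      apply Subgroup.eq_of_le_of_card_ge hle
      have h1 := card_cent_mul_idx (u1 * g)
      have h2 := card_cent_mul_idx g
      rw [hnm] at h1
      rw [hig] at h2
      have hpos : 0 < n * m := by positivity
      have : Nat.card (Subgroup.centralizer ({u1 * g} : Set G)) * (n * m) =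
          Nat.card (Subgroup.centralizer ({g} : Set G)) * (n * m) := by rw [h1, h2]
      exact le_of_eq (Nat.eq_of_mul_eq_mul_right hpos this).symm
    -- `x ∈ C(g) ≤ C(u1)`
    have hxg : x ∈ Subgroup.centralizer ({g} : Set G) := by
      rw [mem_cent_singleton]
      exact hgx.eq
    rw [← heq, hcent] at hxg
    have hxu1 : x ∈ Subgroup.centralizer ({u1} : Set G) := hxg.1
    rw [mem_cent_singleton] at hxu1
    exact hno s t u1 x hs ht hst hu1s hx hiu1 hix hxu1
  -- (iii) all `q`-elements are central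
  have hiii : ∀ g : G, PEl q g → g ∈ Subgroup.center G := by
    intro g hg
    by_contra hgz
    have hig : idx g = n * m := hi g hg hgz
    apply hgz
    apply central_of_factorization_le20 (q := q) (h0 := x) hii hg
    rw [hix, hig, Nat.factorization_mul (by omega) (by omega)]
    simp
  -- a Sylow `q`-subgroup is central
  obtain ⟨Q⟩ : Nonempty (Sylow q G) := inferInstance
  have hQZ : (Q : Subgroup G) ≤ Subgroup.center G := by
    intro g hg
    apply hiii
    obtain ⟨k, hk⟩ := (IsPGroup.iff_orderOf.mp Q.2) ⟨g, hg⟩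
    exact ⟨k, by rw [← hk, Subgroup.orderOf_mk]⟩
  have hQcard : Nat.card (Q : Subgroup G) = q ^ (Nat.card G).factorization q := Q.card_eq_multiplicity
  have hQdvd : Nat.card (Q : Subgroup G) ∣ Nat.card (Subgroup.center G) := Subgroup.card_dvd_of_le hQZ
  -- `n ∣ |G : Z|`
  have hZC : Subgroup.center G ≤ Subgroup.centralizer ({x} : Set G) := Subgroup.center_le_centralizer _
  have hndvd : n ∣ (Subgroup.center G).index := by
    rw [← hix]
    exact Subgroup.index_dvd_of_le hZC
  have hqidx : q ∣ (Subgroup.center G).index := dvd_trans hqn hndvd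
  have hmul : Nat.card (Subgroup.center G) * (Subgroup.center G).index = Nat.card G :=
    Subgroup.card_mul_index _
  have h1 : q ^ ((Nat.card G).factorization q + 1) ∣ Nat.card G := by
    rw [pow_succ, ← hQcard]
    calc Nat.card (Q : Subgroup G) * q ∣ Nat.card (Subgroup.center G) * (Subgroup.center G).index :=
          Nat.mul_dvd_mul hQdvd hqidx
      _ = Nat.card G := hmul
  exact Nat.pow_succ_factorization_not_dvd Nat.card_pos.ne' hq h1

end Cfsg.Agent.Lib.Helper20.NM
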