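import Mathlib
import Cfsg.Agent.Lib.Helper16.NM.Base
import Cfsg.Agent.S4127

/-!
# S4146 leaf N1 (helper20): no `s`-element of index `n = s^a` when `M` has a non-central normal `s`-subgroup
-/

set_option autoImplicit false

namespace Cfsg.Agent.Lib.Helper20.NM

open Cfsg.Agent.Lib.Helper22.ClsSet Cfsg.Agent.Lib.Helper16.NM

variable {G : Type*} [Group G] [Finite G] {n m : ℕ}

/-- N1: no `s`-element of index `n = s^a` when `M` has a non-central normal `s`-subgroup -/
theorem N1 (h : CS G n m) (hlt : m < n) {s : ℕ} [Fact s.Prime] {a : ℕ} (hn : n = s ^ a)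
    (V : Subgroup G) [V.Normal] (hVp : IsPGroup s V) (hVM : V ≤ M h hlt)
    (hnt : ¬ V ≤ Subgroup.center G) {g : G} (hg : PEl s g) (hig : idx g = n) : False := by
  have hs : s.Prime := Fact.out
  have ha0 : a ≠ 0 := by
    rintro rfl
    rw [pow_zero] at hn
    have := h.one_lt_n
    omega
  -- `s ∤ m`
  have hsm : ¬ s ∣ m := by
    intro hd
    have h1 : s ∣ n := by rw [hn]; exact dvd_pow_self s ha0
    have h2 : s ∣ Nat.gcd n m := Nat.dvd_gcd h1 hd
    rw [h.cop] at h2
    exact hs.one_lt.ne' (Nat.dvd_one.mp h2)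
  have hcopm : Nat.Coprime m s := ((Nat.Prime.coprime_iff_not_dvd hs).mpr hsm).symm
  -- the hypothesis of S4127
  have hmax : ∀ y : G, ¬ s ^ (a + 1) ∣ (Subgroup.centralizer ({y} : Set G)).index := by
    intro y hd
    have hd' : s ^ (a + 1) ∣ idx y := hd
    rcases h.cs y with h1 | h1 | h1 | h1
    · rw [h1] at hd'
      have := Nat.le_of_dvd one_pos hd'
      have : 1 < s ^ (a + 1) := Nat.one_lt_pow (by omega) hs.one_lt
      omega
    · rw [h1, hn] at hd'
      have := Nat.pow_dvd_pow_iff_le_right hs.one_lt |>.mp hd'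
      omega
    · rw [h1] at hd'
      exact hsm (dvd_trans (dvd_pow_self s (by omega)) hd')
    · rw [h1, hn, pow_succ] at hd'
      have : s ∣ m := Nat.dvd_of_mul_dvd_mul_left (pos_of_ne_zero (pow_ne_zero a hs.ne_zero)) hd'
      exact hsm this
  obtain ⟨P, K, hKn, hKP⟩ := Cfsg.Agent.S4127.result s a hmax ⟨g, hg, by
    show idx g = s ^ a
    rw [hig, hn]⟩
  have := hKn
  -- `V ⊓ K = ⊥`
  have hKidx : K.index = Nat.card (P : Subgroup G) := by
    have := hKP.symm.index_eq_card
    exact this
  have hKcard : Nat.card K * Nat.card (P : Subgroup G) = Nat.card G := hKP.card_mul_card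
  have hPcard : Nat.card (P : Subgroup G) = s ^ (Nat.card G).factorization s := P.card_eq_multiplicity
  have hKs : ¬ s ∣ Nat.card K := by
    intro hd
    have h0 : s ^ (Nat.card G).factorization s * s ∣
        s ^ (Nat.card G).factorization s * Nat.card K := Nat.mul_dvd_mul_left _ hd
    have h1 : s ^ ((Nat.card G).factorization s + 1) ∣ Nat.card G := by
      rw [pow_succ]
      refine dvd_trans h0 ?_
      rw [mul_comm, ← hPcard, hKcard]
    exact Nat.pow_succ_factorization_not_dvd Nat.card_pos.ne' hs h1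
  have hVK : ∀ x : G, x ∈ V → x ∈ K → x = 1 := by
    intro x hxV hxK
    obtain ⟨k, hk⟩ := hVp ⟨x, hxV⟩
    have hk' : x ^ s ^ k = 1 := by
      have := congrArg Subtype.val hk
      simpa using this
    have h1 : orderOf x ∣ s ^ k := orderOf_dvd_of_pow_eq_one hk'
    have h2 : orderOf x ∣ Nat.card K := by
      have := orderOf_dvd_natCard (⟨x, hxK⟩ : K)
      rwa [Subgroup.orderOf_mk] at this
    obtain ⟨j, _, hj⟩ := (Nat.dvd_prime_pow hs).mp h1
    rcases Nat.eq_zero_or_pos j with rfl | hjpos
    · rw [pow_zero, orderOf_eq_one_iff] at hj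
      exact hj
    · exfalso
      apply hKs
      refine dvd_trans ?_ h2
      rw [hj]
      exact dvd_pow_self s (by omega)
  -- a non-central element of `V`
  obtain ⟨v, hvV, hvZ⟩ : ∃ v ∈ V, v ∉ Subgroup.center G := by
    by_contra hcon
    push Not at hcon
    exact hnt hcon
  have hiv : idx v = m := by
    rcases (mem_M h hlt v).1 (hVM hvV) with h1 | h1
    · exact absurd ((idx_eq_one_iff v).1 h1) hvZ
    · exact h1
  -- `K ≤ C(v)`
  have hKC : K ≤ Subgroup.centralizer ({v} : Set G) := by
    intro k hk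
    rw [mem_cent_singleton]
    have h1 : v * k * v⁻¹ * k⁻¹ ∈ V := by
      have : k * v⁻¹ * k⁻¹ ∈ V := Subgroup.Normal.conj_mem inferInstance _ (V.inv_mem hvV) k
      have := V.mul_mem hvV this
      convert this using 1
      group
    have h2 : v * k * v⁻¹ * k⁻¹ ∈ K := by
      have : v * k * v⁻¹ ∈ K := Subgroup.Normal.conj_mem hKn _ hk v
      exact K.mul_mem this (K.inv_mem hk)
    have h3 := hVK _ h1 h2
    have : v * k = k * v := by
      have h4 : v * k * v⁻¹ * k⁻¹ * (k * v) = 1 * (k * v) := by rw [h3]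
      rw [one_mul] at h4
      rw [← h4]
      group
    exact this
  have hdvd : idx v ∣ K.index := Subgroup.index_dvd_of_le hKC
  rw [hiv, hKidx, hPcard] at hdvd
  have : m = 1 := Nat.Coprime.eq_one_of_dvd (Nat.Coprime.pow_right _ hcopm) hdvd
  have := h.one_lt_m
  omega

end Cfsg.Agent.Lib.Helper20.NM
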