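import Mathlib

/-!
helper20: leaf `liftV4` of market "SF" (S2752, planner helper16): coprime lifting of a fixed / inverted
element through an odd centre.  `x₂ := x₀ β(x₀)`, `x := x₂ (β' x₂)⁻¹` maps to `x̄₀⁴ ≠ 1`.
-/

set_option autoImplicit false

namespace Cfsg.Agent.Lib.Helper20.SFLeaf

/-- an automorphism preserves the centre -/
theorem mulAut_mem_center {Q : Type*} [Group Q] (β : MulAut Q) {c : Q} (hc : c ∈ Subgroup.center Q) :
    β c ∈ Subgroup.center Q := by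
  rw [Subgroup.mem_center_iff] at hc ⊢
  intro g
  have h := hc (β⁻¹ g)
  have h2 := congrArg β h
  simpa using h2

theorem liftV4 {Q : Type*} [Group Q] [Finite Q] (hZ : Odd (Nat.card ↥(Subgroup.center Q)))
    (β β' : MulAut Q) (hc : β * β' = β' * β) (h2 : β * β = 1) (h2' : β' * β' = 1) (x₀ : Q)
    (hx₀ : Odd (orderOf (QuotientGroup.mk x₀ : Q ⧸ Subgroup.center Q)))
    (hx₀1 : x₀ ∉ Subgroup.center Q) (hfix : x₀⁻¹ * β x₀ ∈ Subgroup.center Q)
    (hinv : x₀ * β' x₀ ∈ Subgroup.center Q) :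
    ∃ x : Q, x ≠ 1 ∧ Odd (orderOf x) ∧ β x = x ∧ β' x = x⁻¹ := by
  classical
  set Z := Subgroup.center Q with hZdef
  -- pointwise forms of the relations
  have hββ : ∀ y : Q, β (β y) = y := fun y => by
    have := congrArg (fun f : MulAut Q => f y) h2
    simpa using this
  have hβ'β' : ∀ y : Q, β' (β' y) = y := fun y => by
    have := congrArg (fun f : MulAut Q => f y) h2'
    simpa using this
  have hcomm : ∀ y : Q, β (β' y) = β' (β y) := fun y => by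
    have := congrArg (fun f : MulAut Q => f y) hc
    simpa using this
  -- the set `X = ⟨x₀⟩ Z`
  let P : Q → Prop := fun y => ∃ j : ℤ, ∃ c ∈ Z, y = x₀ ^ j * c
  have hcen : ∀ c ∈ Z, ∀ g : Q, g * c = c * g := fun c hc g => (Subgroup.mem_center_iff.mp hc) g
  have hPmul : ∀ y y', P y → P y' → P (y * y') := by
    rintro y y' ⟨j, c, hc, rfl⟩ ⟨i, d, hd, rfl⟩
    refine ⟨j + i, c * d, Z.mul_mem hc hd, ?_⟩
    rw [zpow_add]
    calc x₀ ^ j * c * (x₀ ^ i * d) = x₀ ^ j * (c * x₀ ^ i) * d := by group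
      _ = x₀ ^ j * (x₀ ^ i * c) * d := by rw [← hcen c hc (x₀ ^ i)]
      _ = x₀ ^ j * x₀ ^ i * (c * d) := by group
  have hPinv : ∀ y, P y → P y⁻¹ := by
    rintro y ⟨j, c, hc, rfl⟩
    refine ⟨-j, c⁻¹, Z.inv_mem hc, ?_⟩
    rw [mul_inv_rev, zpow_neg, ← hcen c⁻¹ (Z.inv_mem hc) (x₀ ^ j)⁻¹]
  have hPcomm : ∀ y y', P y → P y' → y * y' = y' * y := by
    rintro y y' ⟨j, c, hc, rfl⟩ ⟨i, d, hd, rfl⟩
    calc x₀ ^ j * c * (x₀ ^ i * d) = x₀ ^ j * (c * x₀ ^ i) * d := by group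
      _ = x₀ ^ j * (x₀ ^ i * c) * d := by rw [← hcen c hc (x₀ ^ i)]
      _ = (x₀ ^ j * x₀ ^ i) * (c * d) := by group
      _ = (x₀ ^ i * x₀ ^ j) * (d * c) := by
          rw [(Commute.zpow_zpow_self x₀ j i).eq, hcen d hd c]
      _ = x₀ ^ i * (x₀ ^ j * d) * c := by group
      _ = x₀ ^ i * (d * x₀ ^ j) * c := by rw [hcen d hd (x₀ ^ j)]
      _ = x₀ ^ i * d * (x₀ ^ j * c) := by group
  have hPx₀ : P x₀ := ⟨1, 1, Z.one_mem, by simp⟩
  have hPZ : ∀ c ∈ Z, P c := fun c hc => ⟨0, c, hc, by simp⟩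
  -- `β x₀ = x₀ z`, `β' x₀ = x₀⁻¹ z'`
  have hβx₀ : β x₀ = x₀ * (x₀⁻¹ * β x₀) := by group
  have hβ'x₀ : β' x₀ = x₀⁻¹ * (x₀ * β' x₀) := by group
  have hPβx₀ : P (β x₀) := by
    rw [hβx₀]; exact hPmul _ _ hPx₀ (hPZ _ hfix)
  have hPβ'x₀ : P (β' x₀) := by
    rw [hβ'x₀]; exact hPmul _ _ (hPinv _ hPx₀) (hPZ _ hinv)
  have hPzpow : ∀ y, P y → ∀ j : ℤ, P (y ^ j) := by
    intro y hy j
    induction j using Int.induction_on with
    | zero => simpa using hPZ 1 Z.one_mem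
    | succ n ih => rw [zpow_add_one]; exact hPmul _ _ ih hy
    | pred n ih => rw [zpow_sub_one]; exact hPmul _ _ ih (hPinv _ hy)
  have hPβ : ∀ y, P y → P (β y) := by
    rintro y ⟨j, c, hc, rfl⟩
    rw [map_mul, map_zpow]
    exact hPmul _ _ (hPzpow _ hPβx₀ j) (hPZ _ (mulAut_mem_center β hc))
  have hPβ' : ∀ y, P y → P (β' y) := by
    rintro y ⟨j, c, hc, rfl⟩
    rw [map_mul, map_zpow]
    exact hPmul _ _ (hPzpow _ hPβ'x₀ j) (hPZ _ (mulAut_mem_center β' hc))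
  -- odd exponent killing `X`
  set k := orderOf (QuotientGroup.mk x₀ : Q ⧸ Z) with hk
  set N := k * Nat.card Z with hN
  have hNodd : Odd N := hx₀.mul hZ
  have hx₀k : x₀ ^ k ∈ Z := by
    have h1 : (QuotientGroup.mk x₀ : Q ⧸ Z) ^ k = 1 := pow_orderOf_eq_one _
    rw [← QuotientGroup.mk_pow] at h1
    exact (QuotientGroup.eq_one_iff _).mp h1
  have hZpow : ∀ c ∈ Z, c ^ Nat.card Z = 1 := by
    intro c hc
    have h1 : (⟨c, hc⟩ : Z) ^ Nat.card Z = 1 := pow_card_eq_one'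
    have h2 := congrArg (Subtype.val) h1
    simpa only [Subgroup.coe_pow, Subgroup.coe_one] using h2
  have hx₀N : x₀ ^ N = 1 := by
    rw [hN, pow_mul]; exact hZpow _ hx₀k
  have hPN : ∀ y, P y → y ^ N = 1 := by
    rintro y ⟨j, c, hc, rfl⟩
    have hcomm' : Commute (x₀ ^ j) c := (hcen c hc (x₀ ^ j))
    rw [hcomm'.mul_pow]
    have h1 : (x₀ ^ j) ^ N = 1 := by
      rw [← zpow_natCast, ← zpow_mul, mul_comm, zpow_mul, zpow_natCast, hx₀N, one_zpow]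
    have h2 : c ^ N = 1 := by
      rw [hN, mul_comm, pow_mul, hZpow c hc, one_pow]
    rw [h1, h2, one_mul]
  -- the element
  set x₂ := x₀ * β x₀ with hx₂
  have hPx₂ : P x₂ := hPmul _ _ hPx₀ hPβx₀
  have hβx₂ : β x₂ = x₂ := by
    rw [hx₂, map_mul, hββ]
    exact hPcomm _ _ hPβx₀ hPx₀
  refine ⟨x₂ * (β' x₂)⁻¹, ?_, ?_, ?_, ?_⟩
  · -- nontrivial: image in `Q ⧸ Z` is `x̄₀ ^ 4`
    intro h1
    have hmkβ : (QuotientGroup.mk (β x₀) : Q ⧸ Z) = QuotientGroup.mk x₀ := by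
      rw [eq_comm, QuotientGroup.eq]; exact hfix
    have hmkβ' : (QuotientGroup.mk (β' x₀) : Q ⧸ Z) = (QuotientGroup.mk x₀)⁻¹ := by
      rw [← QuotientGroup.mk_inv, QuotientGroup.eq]
      have := Z.inv_mem hinv
      simpa only [mul_inv_rev] using this
    have hmkβ'β : (QuotientGroup.mk (β' (β x₀)) : Q ⧸ Z) = (QuotientGroup.mk x₀)⁻¹ := by
      have : β' (β x₀) = β' x₀ * β' (x₀⁻¹ * β x₀) := by
        rw [← map_mul, mul_inv_cancel_left]
      rw [this, QuotientGroup.mk_mul, hmkβ',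
        (QuotientGroup.eq_one_iff _).mpr (mulAut_mem_center β' hfix), mul_one]
    have h3 := congrArg (QuotientGroup.mk : Q → Q ⧸ Z) h1
    rw [QuotientGroup.mk_mul, QuotientGroup.mk_inv, hx₂, map_mul, QuotientGroup.mk_mul,
      QuotientGroup.mk_mul, hmkβ, hmkβ', hmkβ'β, QuotientGroup.mk_one] at h3
    have h4 : (QuotientGroup.mk x₀ : Q ⧸ Z) ^ 4 = 1 := by
      rw [← h3]; group
    have h5 : k ∣ 4 := orderOf_dvd_of_pow_eq_one h4
    have h6 : k = 1 := by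
      have hle : k ≤ 4 := Nat.le_of_dvd (by norm_num) h5
      obtain ⟨r, hr⟩ := hx₀
      interval_cases k <;> omega
    have h7 : (QuotientGroup.mk x₀ : Q ⧸ Z) = 1 := orderOf_eq_one_iff.mp h6
    exact hx₀1 ((QuotientGroup.eq_one_iff _).mp h7)
  · -- odd order
    have hP : P (x₂ * (β' x₂)⁻¹) := hPmul _ _ hPx₂ (hPinv _ (hPβ' _ hPx₂))
    have hd : orderOf (x₂ * (β' x₂)⁻¹) ∣ N := orderOf_dvd_of_pow_eq_one (hPN _ hP)
    exact Odd.of_dvd_nat hNodd hd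
  · rw [map_mul, map_inv, hcomm, hβx₂]
  · have h1 : β' (x₂ * (β' x₂)⁻¹) = β' x₂ * x₂⁻¹ := by rw [map_mul, map_inv, hβ'β']
    rw [h1]; group

end Cfsg.Agent.Lib.Helper20.SFLeaf
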