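import Mathlib

/-!
# Fixed-point-free automorphisms: basic facts

`Fpf σ` : the automorphism `σ` of `G` fixes only the identity.
-/

set_option autoImplicit false

namespace Cfsg.Agent.Lib.Helper20.Fpf4

variable {G : Type*} [Group G]

/-- The automorphism `σ` fixes only the identity. -/
def Fpf (σ : MulAut G) : Prop := ∀ g : G, σ g = g → g = 1

theorem Fpf.injective {σ : MulAut G} (h : Fpf σ) :
    Function.Injective (fun a : G => a⁻¹ * σ a) := by
  intro a b hab
  simp only at hab
  have h1 : σ (a * b⁻¹) = a * b⁻¹ := by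
    rw [map_mul, map_inv]
    have h2 : σ a = a * (b⁻¹ * σ b) := by rw [← hab]; group
    rw [h2]; group
  have h3 := h _ h1
  exact mul_inv_eq_one.mp h3

theorem Fpf.surjective [Finite G] {σ : MulAut G} (h : Fpf σ) :
    Function.Surjective (fun a : G => a⁻¹ * σ a) :=
  Finite.surjective_of_injective h.injective

/-- Fixed-point-freeness passes to quotients by invariant normal subgroups. -/
theorem Fpf.mem_of_comm_mem [Finite G] {σ : MulAut G} (h : Fpf σ) (N : Subgroup G)
    (hN : ∀ n ∈ N, σ n ∈ N) {x : G} (hx : x⁻¹ * σ x ∈ N) : x ∈ N := by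
  let f : N → N := fun a => ⟨(a : G)⁻¹ * σ a, N.mul_mem (N.inv_mem a.2) (hN a a.2)⟩
  have hf : Function.Injective f := by
    intro a b hab
    have := congrArg Subtype.val hab
    exact Subtype.ext (h.injective this)
  obtain ⟨a, ha⟩ := Finite.surjective_of_injective hf ⟨x⁻¹ * σ x, hx⟩
  have h1 : (a : G)⁻¹ * σ a = x⁻¹ * σ x := congrArg Subtype.val ha
  have h2 : (a : G) = x := h.injective h1
  rw [← h2]; exact a.2

theorem Fpf.odd_card [Finite G] {σ : MulAut G} (h : Fpf σ) (h4 : σ ^ 4 = 1) :
    Odd (Nat.card G) := by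
  classical
  haveI : Fintype G := Fintype.ofFinite G
  haveI : Fact (Nat.Prime 2) := ⟨Nat.prime_two⟩
  let π : Equiv.Perm G := σ.toEquiv
  have hπ : π ^ 2 ^ 2 = 1 := by
    ext g
    have : (σ ^ 4) g = g := by rw [h4]; rfl
    have h5 : ∀ n : ℕ, ∀ g : G, (π ^ n) g = (σ ^ n) g := by
      intro n
      induction n with
      | zero => intro g; rfl
      | succ n ih => intro g; rw [pow_succ, pow_succ, Equiv.Perm.mul_apply, MulAut.mul_apply, ih]; rfl
    rw [show (2:ℕ) ^ 2 = 4 from rfl, h5, this]; rfl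
  have h6 := Equiv.Perm.card_compl_support_modEq hπ
  have h7 : π.supportᶜ = {1} := by
    ext g
    simp only [Finset.mem_compl, Equiv.Perm.mem_support, not_not, Finset.mem_singleton]
    constructor
    · intro hg; exact h g hg
    · rintro rfl; exact map_one σ
  rw [h7, Finset.card_singleton] at h6
  rw [Nat.card_eq_fintype_card, Nat.odd_iff]
  exact h6.symm

/-- A fixed-point-free automorphism with `σ (σ x) = x` inverts. -/
theorem Fpf.inv_of_sq [Finite G] {σ : MulAut G} (h : Fpf σ) (h2 : ∀ x, σ (σ x) = x) (x : G) :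
    σ x = x⁻¹ := by
  obtain ⟨a, ha⟩ := h.surjective x
  simp only at ha
  rw [← ha, map_mul, map_inv, h2]; group

end Cfsg.Agent.Lib.Helper20.Fpf4
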