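import Mathlib
import Cfsg.Agent.Lib.Helper20.Fpf4Basic

/-!
# Induced automorphisms on quotients and invariant subgroups; minimal invariant normal subgroups
-/

set_option autoImplicit false

open scoped commutatorElement

namespace Cfsg.Agent.Lib.Helper20.Fpf4

variable {G : Type*} [Group G] [Finite G]

/-- The automorphism induced on the quotient by an invariant normal subgroup. -/
noncomputable def quotAut (σ : MulAut G) (N : Subgroup G) [N.Normal] (hN : ∀ n ∈ N, σ n ∈ N) :
    MulAut (G ⧸ N) :=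
  MulEquiv.ofBijective (QuotientGroup.map N N (σ : G →* G) (fun n hn => hN n hn))
    (by
      rw [← Finite.surjective_iff_bijective]
      intro y
      induction y using QuotientGroup.induction_on with
      | H x =>
        obtain ⟨x', rfl⟩ := σ.surjective x
        exact ⟨QuotientGroup.mk x', rfl⟩)

theorem quotAut_mk (σ : MulAut G) (N : Subgroup G) [N.Normal] (hN : ∀ n ∈ N, σ n ∈ N) (x : G) :
    quotAut σ N hN (QuotientGroup.mk x) = QuotientGroup.mk (σ x) := rfl

theorem quotAut_fpf {σ : MulAut G} (h : Fpf σ) (N : Subgroup G) [N.Normal]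
    (hN : ∀ n ∈ N, σ n ∈ N) : Fpf (quotAut σ N hN) := by
  intro y hy
  induction y using QuotientGroup.induction_on with
  | H x =>
    rw [quotAut_mk, QuotientGroup.eq] at hy
    have h1 : x⁻¹ * σ x ∈ N := by
      have := N.inv_mem hy
      rwa [mul_inv_rev, inv_inv] at this
    have := h.mem_of_comm_mem N hN h1
    exact (QuotientGroup.eq_one_iff x).mpr this

/-- The restriction of an automorphism to an invariant subgroup. -/
noncomputable def restrictAut (σ : MulAut G) (M : Subgroup G) (hM : ∀ m ∈ M, σ m ∈ M) :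
    MulAut M :=
  MulEquiv.ofBijective
    ({ toFun := fun m => ⟨σ (m : G), hM m m.2⟩
       map_one' := Subtype.ext (map_one σ)
       map_mul' := fun a b => Subtype.ext (map_mul σ (a : G) (b : G)) } : M →* M)
    (by
      rw [← Finite.injective_iff_bijective]
      intro a b h
      exact Subtype.ext (σ.injective (congrArg Subtype.val h)))

theorem restrictAut_coe (σ : MulAut G) (M : Subgroup G) (hM : ∀ m ∈ M, σ m ∈ M) (m : M) :
    ((restrictAut σ M hM m : M) : G) = σ m := rfl

theorem restrictAut_fpf {σ : MulAut G} (h : Fpf σ) (M : Subgroup G) (hM : ∀ m ∈ M, σ m ∈ M) :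
    Fpf (restrictAut σ M hM) := by
  intro m hm
  have h1 : σ (m : G) = m := by
    have := congrArg Subtype.val hm
    rwa [restrictAut_coe] at this
  exact Subtype.ext (h _ h1)

/-- invariance under `σ` gives invariance under a preimage -/
theorem exists_preimage_mem (σ : MulAut G) (M : Subgroup G) (hM : ∀ m ∈ M, σ m ∈ M) {m : G}
    (hm : m ∈ M) : ∃ m' ∈ M, σ m' = m := by
  obtain ⟨m', hm'⟩ := (restrictAut σ M hM).surjective ⟨m, hm⟩
  exact ⟨m', m'.2, by have := congrArg Subtype.val hm'; rwa [restrictAut_coe] at this⟩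

/-- A minimal `σ`-invariant normal subgroup. -/
structure MinInv (σ : MulAut G) (M : Subgroup G) : Prop where
  normal : M.Normal
  inv : ∀ m ∈ M, σ m ∈ M
  ne_bot : M ≠ ⊥
  min : ∀ N : Subgroup G, N.Normal → (∀ n ∈ N, σ n ∈ N) → N ≠ ⊥ → N ≤ M → N = M

theorem exists_minInv (σ : MulAut G) [Nontrivial G] : ∃ M : Subgroup G, MinInv σ M := by
  let S : Set (Subgroup G) := {N | N.Normal ∧ (∀ n ∈ N, σ n ∈ N) ∧ N ≠ ⊥}
  have hS : S.Nonempty := ⟨⊤, inferInstance, fun _ _ => Subgroup.mem_top _, top_ne_bot⟩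
  obtain ⟨M, hMS, hmin⟩ := Set.exists_min_image S (fun N => Nat.card N) (Set.toFinite S) hS
  refine ⟨M, hMS.1, hMS.2.1, hMS.2.2, ?_⟩
  intro N hNn hNσ hN1 hNM
  have := hmin N ⟨hNn, hNσ, hN1⟩
  exact Subgroup.eq_of_le_of_card_ge hNM this

theorem MinInv.comm [Group.IsSolvable G] {σ : MulAut G} {M : Subgroup G} (hM : MinInv σ M) :
    ∀ a ∈ M, ∀ b ∈ M, a * b = b * a := by
  haveI := hM.normal
  have h1 : ⁅M, M⁆ < M := Group.IsSolvable.commutator_lt_of_ne_bot hM.ne_bot
  have h2 : ⁅M, M⁆ = ⊥ := by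
    by_contra hne
    have h3 := hM.min ⁅M, M⁆ inferInstance ?_ hne h1.le
    · exact h1.ne h3
    · intro n hn
      have h4 : (⁅M, M⁆).map (σ : G →* G) ≤ ⁅M, M⁆ := by
        rw [Subgroup.map_commutator]
        have h5 : M.map (σ : G →* G) ≤ M := by
          rintro _ ⟨m, hm, rfl⟩
          exact hM.inv m hm
        exact Subgroup.commutator_mono h5 h5
      exact h4 (Subgroup.mem_map_of_mem _ hn)
  intro a ha b hb
  have h3 : ⁅a, b⁆ ∈ ⁅M, M⁆ := Subgroup.commutator_mem_commutator ha hb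
  rw [h2, Subgroup.mem_bot, commutatorElement_eq_one_iff_mul_comm] at h3
  exact h3

theorem MinInv.exists_prime_exp [Group.IsSolvable G] {σ : MulAut G} {M : Subgroup G}
    (hM : MinInv σ M) : ∃ p : ℕ, p.Prime ∧ p ∣ Nat.card M ∧ ∀ m ∈ M, m ^ p = 1 := by
  have hcomm := hM.comm
  have hcard : Nat.card M ≠ 1 := by
    intro h
    exact hM.ne_bot (Subgroup.card_eq_one.mp h)
  obtain ⟨p, hp, hpd⟩ := Nat.exists_prime_and_dvd hcard
  refine ⟨p, hp, hpd, ?_⟩
  haveI : Fact p.Prime := ⟨hp⟩
  obtain ⟨x, hx⟩ := exists_prime_orderOf_dvd_card' p hpd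
  let Mp : Subgroup G :=
    { carrier := {m | m ∈ M ∧ m ^ p = 1}
      one_mem' := ⟨M.one_mem, one_pow _⟩
      mul_mem' := by
        rintro a b ⟨ha, ha2⟩ ⟨hb, hb2⟩
        refine ⟨M.mul_mem ha hb, ?_⟩
        rw [(show Commute a b from hcomm a ha b hb).mul_pow, ha2, hb2, one_mul]
      inv_mem' := by
        rintro a ⟨ha, ha2⟩
        exact ⟨M.inv_mem ha, by rw [inv_pow, ha2, inv_one]⟩ }
  have hMp : Mp = M := by
    apply hM.min
    · constructor
      rintro n ⟨hn, hn2⟩ g
      refine ⟨hM.normal.conj_mem n hn g, ?_⟩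
      rw [conj_pow, hn2, mul_one, mul_inv_cancel]
    · rintro n ⟨hn, hn2⟩
      exact ⟨hM.inv n hn, by rw [← map_pow, hn2, map_one]⟩
    · intro h
      have hx1 : (x : G) ∈ Mp := ⟨x.2, by
        have := pow_orderOf_eq_one x
        rw [hx] at this
        have := congrArg Subtype.val this
        simpa using this⟩
      rw [h, Subgroup.mem_bot] at hx1
      have : x = 1 := Subtype.ext hx1
      rw [this, orderOf_one] at hx
      exact hp.one_lt.ne hx
    · intro m hm; exact hm.1
  intro m hm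
  have : m ∈ Mp := hMp ▸ hm
  exact this.2

end Cfsg.Agent.Lib.Helper20.Fpf4
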