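import Mathlib
import Cfsg.Agent.Lib.Helper20.UTDefs
import Cfsg.Agent.Lib.Helper20.UTCT
import Cfsg.Agent.Lib.Helper20.UTS
import Cfsg.Agent.Lib.Helper23.UTG
import Cfsg.Agent.Lib.Helper15.UTS6

/-!
S5670 Stage I: S7 `mixed` (the pair `kA x₀ c`, `g (kB y' c) g⁻¹` for `b = a + 1`) and the assembly
`stageI (hc : MCtx a b q M) (hne : ¬ M ≤ KG a b F) : R1U q M`.
-/

set_option autoImplicit false
set_option linter.unusedSectionVars false
set_option linter.unusedVariables false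
set_option linter.style.haveILetI false

namespace Cfsg.Agent.Lib.Helper20.UTLeaf
open Matrix
open Cfsg.Agent.Lib.Helper25.Tens Cfsg.Agent.Lib.Helper25.TensLeaf Cfsg.Agent.Lib.Helper20.UT
open Cfsg.Agent.Lib.Helper23.UTLeaf
open scoped Kronecker

variable {F : Type*} [Field F] [Fintype F] {a b q : ℕ} {M : Subgroup (GL (Idx a b) F)}


lemma kA_sub_mem (x₀ : Fin a → F) (c : F) (hx : hv q x₀ x₀ = 0) (v : Idx a b → F) :
    mv (kA q x₀ c hx : GL (Idx a b) F) v - v ∈ FibA (b := b) x₀ := by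
  rw [mv_kA, add_sub_cancel_left, ← pt_smul_right]
  exact mem_FibA.mpr ⟨_, rfl⟩

/-- S7 the mixed pair -/
theorem mixed (hc : MCtx a b q M) (hNS : ¬ R1U q M) (hb : b = a + 1)
    (hne : ¬ M ≤ KG a b F) : False := by
  classical
  obtain ⟨g, hgM, hgK⟩ := SetLike.not_le_iff_exists.mp hne
  obtain ⟨c, hc0, hcs⟩ := exists_skew (q := q) hc.hF
  obtain ⟨p, hpp, hp⟩ := exists_char_prime F
  have := hp
  have ha := hc.ha
  have hb4 := hc.hb
  obtain ⟨y', -, hy'0, hy'⟩ := exists_iso_mem (q := q) hc.hF (⊤ : Submodule F (Fin b → F))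
    (by rw [finrank_top, Module.finrank_fin_fun]; omega)
  obtain ⟨x₀, -, hx₀0, hx₀⟩ := exists_iso_mem (q := q) hc.hF (⊤ : Submodule F (Fin a → F))
    (by rw [finrank_top, Module.finrank_fin_fun]; omega)
  set z : GL (Idx a b) F := kA q x₀ c hx₀ with hz
  set z' : GL (Idx a b) F := g * kB q y' c hy' * g⁻¹ with hz'
  have hzM : z ∈ M := kA_mem hc x₀ hcs hx₀
  have hz'M : z' ∈ M := M.mul_mem (M.mul_mem hgM (kB_mem hc y' hcs hy')) (M.inv_mem hgM)
  obtain ⟨x, hxcl, hxM, hgx⟩ := exists_closure_mem M (KG a b F) z z' g hzM hz'M hgM p hpp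
    (kA_pow_char p x₀ c hx₀) (conj_pow_char p g y' c hy') (kA_mem_KG q x₀ c hx₀)
    (fun h hh hk => Cfsg.Agent.Lib.Helper15.UTLeaf.fusA hc hNS hb hh hx₀0 hx₀ hc0 hk) (fus_conj hc hNS hgM hy'0 hy' hc0)
  have hxcl' : x⁻¹ ∈ Subgroup.closure ({z, z'} : Set (GL (Idx a b) F)) := Subgroup.inv_mem _ hxcl
  -- `x⁻¹ g = α ⊗ β`
  have hk : x⁻¹ * g ∈ KG a b F := by
    have h1 := (KG a b F).inv_mem hgx
    rwa [_root_.mul_inv_rev, inv_inv] at h1
  obtain ⟨α, β, hαβ⟩ := hk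
  have hxg : ∀ (x₁ : Fin a → F) (y₁ : Fin b → F), mv x⁻¹ (mv g (pt x₁ y₁)) =
      pt ((α : Matrix (Fin a) (Fin a) F) *ᵥ x₁) ((β : Matrix (Fin b) (Fin b) F) *ᵥ y₁) := by
    intro x₁ y₁
    rw [← mv_mul]
    unfold mv
    rw [hαβ, kron_mulVec_pt]
  set y'' : Fin b → F := (β : Matrix (Fin b) (Fin b) F) *ᵥ y' with hy''
  have hy''0 : y'' ≠ 0 := by
    intro h
    apply hy'0
    have h1 : mv β y' = 0 := h
    exact (mv_eq_zero_iff β y').mp h1
  -- a vector of A which is not a multiple of x₀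
  obtain ⟨i₀, hi₀⟩ := Function.ne_iff.mp hx₀0
  obtain ⟨j, hj⟩ : ∃ j : Fin a, j ≠ i₀ := by
    by_cases h0 : i₀.val = 0
    · exact ⟨⟨1, by omega⟩, fun h => by have := congrArg Fin.val h; simp at this; omega⟩
    · exact ⟨⟨0, by omega⟩, fun h => by have := congrArg Fin.val h; simp at this; omega⟩
  set x₁' : Fin a → F := Pi.single j 1 with hx₁'
  have hx₁'ne : ∀ d : F, x₁' ≠ d • x₀ := by
    intro d h
    have h1 := congrFun h i₀
    have h2 := congrFun h j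
    simp only [hx₁', Pi.smul_apply, smul_eq_mul, Pi.single_eq_same] at h1 h2
    rw [Pi.single_eq_of_ne (Ne.symm hj)] at h1
    rcases mul_eq_zero.mp h1.symm with hd | hd
    · rw [hd, zero_mul] at h2
      exact one_ne_zero h2
    · exact hi₀ hd
  -- the vector `v = g (pt (α⁻¹ x₁') y')` is mapped to `pt x₁' y''` by `x⁻¹`
  set x₃' : Fin a → F := ((α⁻¹ : GL (Fin a) F) : Matrix (Fin a) (Fin a) F) *ᵥ x₁' with hx₃'
  have hαx : (α : Matrix (Fin a) (Fin a) F) *ᵥ x₃' = x₁' := by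
    have h1 : mv α (mv α⁻¹ x₁') = x₁' := mv_mv_inv α x₁'
    exact h1
  have himg : mv x⁻¹ (mv g (pt x₃' y')) = pt x₁' y'' := by
    rw [hxg, hαx]
  -- decomposition
  set U : Submodule F (Idx a b → F) := FibA (b := b) x₀ ⊔ img g (Fib (a := a) y') with hU
  have hzU : ∀ v, mv z v - v ∈ U := fun v => Submodule.mem_sup_left (kA_sub_mem x₀ c hx₀ v)
  have hz'U : ∀ v, mv z' v - v ∈ U := fun v =>
    Submodule.mem_sup_right (conj_kB_sub_mem g y' c hy' v)
  have hmem := closure_sub_mem z z' U hzU hz'U x⁻¹ hxcl' (mv g (pt x₃' y'))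
  obtain ⟨u₁, hu₁, u₂, hu₂, hsum⟩ := Submodule.mem_sup.mp hmem
  obtain ⟨z₁, rfl⟩ := mem_FibA.mp hu₁
  obtain ⟨w, hw, rfl⟩ := mem_img.mp hu₂
  obtain ⟨x₂, rfl⟩ := mem_Fib.mp hw
  -- `pt x₁' y'' = pt x₀ z₁ + g (pt (x₂ + x₃') y')`
  have hdec : pt x₁' y'' = pt x₀ z₁ + mv g (pt (x₂ + x₃') y') := by
    rw [pt_add_left, mv_add, ← himg]
    have := hsum
    rw [eq_sub_iff_add_eq] at this
    rw [← this]; abel
  -- the `g`-component vanishes
  obtain ⟨y₃, hy₃0, hy₃, h1, h2⟩ := exists_iso_perp_two (q := q) hc.hF hc.hb y'' z₁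
  have hx23 : x₂ + x₃' = 0 := by
    by_contra hne0
    apply claimC hc hNS hgM hgK hy₃0 hy'0 hy₃ hy' hne0
    have : mv g (pt (x₂ + x₃') y') = pt x₁' y'' - pt x₀ z₁ := by rw [hdec]; abel
    rw [this]
    have hsub : ∀ v w : Idx a b → F, ct (cj q y₃) (v - w) = ct (cj q y₃) v - ct (cj q y₃) w := by
      intro v w
      rw [sub_eq_add_neg, ct_add, ← neg_one_smul F w, ct_smul, neg_one_smul, ← sub_eq_add_neg]
    rw [hsub, ct_cj_pt, ct_cj_pt, h1, h2, zero_smul, zero_smul, sub_zero]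
  rw [hx23, pt_zero_left, mv_zero, add_zero] at hdec
  -- `x₁'` is a multiple of `x₀`
  obtain ⟨l, hl⟩ := Function.ne_iff.mp hy''0
  apply hx₁'ne (z₁ l / y'' l)
  ext i
  have h3 := congrFun hdec (i, l)
  simp only [pt] at h3
  simp only [Pi.smul_apply, smul_eq_mul]
  have hl' : y'' l ≠ 0 := hl
  field_simp
  linear_combination h3

/-- Stage I -/
theorem stageI (hc : MCtx a b q M) (hne : ¬ M ≤ KG a b F) : R1U q M := by
  by_contra hNS
  by_cases hb : b = a + 1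
  · exact mixed hc hNS hb hne
  · have hab2 : a + 2 ≤ b := by have := hc.hab; omega
    obtain ⟨g, hgM, hgK⟩ := SetLike.not_le_iff_exists.mp hne
    -- an isotropic vector of B
    obtain ⟨y', -, hy'0, hy'⟩ := exists_iso_mem (q := q) hc.hF (⊤ : Submodule F (Fin b → F))
      (by rw [finrank_top, Module.finrank_fin_fun]; have := hc.hb; omega)
    -- a non-zero vector of A
    have ha := hc.ha
    let x₂ : Fin a → F := Pi.single ⟨0, by omega⟩ 1
    have hx₂ : x₂ ≠ 0 := by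
      intro h
      have := congrFun h ⟨0, by omega⟩
      simp [x₂] at this
    obtain ⟨y, hy0, hy, hct⟩ := exists_iso_ct_eq_zero (q := q) hc.hF hab2 (mv g (pt x₂ y'))
    exact claimC hc hNS hgM hgK hy0 hy'0 hy hy' hx₂ hct

end Cfsg.Agent.Lib.Helper20.UTLeaf
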