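import Mathlib
import Cfsg.Agent.Lib.Helper20.UTDefs
import Cfsg.Agent.Lib.Helper20.UTStageI
import Cfsg.Agent.Lib.Helper5.UTGMain
import Cfsg.Agent.Lib.Helper7.UTTP
import Cfsg.Agent.Lib.Helper7.UTTT

/-!
S5670: assembly of the model statement and of the frozen statement from Stage I (helper20), Stage III (helper5's
market), properness and transport (helper7), with Stage II (`R1U ⇒ T1U`) as a hypothesis.
-/

set_option autoImplicit false
set_option linter.unusedSectionVars false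
set_option linter.unusedVariables false

namespace Cfsg.Agent.Lib.Helper20.UTCore
open Matrix
open Cfsg.Agent.Lib.Helper25.Tens Cfsg.Agent.Lib.Helper25.TensLeaf Cfsg.Agent.Lib.Helper20.UT
open scoped Kronecker

variable {F : Type*} [Field F] [Fintype F] {a b q : ℕ}

/-- the model statement, given Stage II -/
theorem core_of (hc : Ctx a b q F)
    (hN : ∀ M : Subgroup (GL (Idx a b) F), MCtx a b q M → R1U q M → T1U q M) :
    Cfsg.Geo.IsMaximalIn (GS a b q F) (KG a b F ⊓ GS a b q F) := by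
  refine ⟨Cfsg.Agent.Lib.Helper7.UTTLeaf.KG_GS_lt hc, ?_⟩
  intro M hKM hMG
  by_cases hne : M ≤ KG a b F
  · left
    exact le_antisymm (le_inf hne hMG) hKM
  · right
    have hctx : MCtx a b q M := { toCtx := hc, le := hKM, le_G := hMG }
    exact le_antisymm hMG (Cfsg.Agent.Lib.Helper5.UTGMain.stageIII hctx
      (hN M hctx (Cfsg.Agent.Lib.Helper20.UTLeaf.stageI hctx hne)))

/-- the frozen statement, given Stage II -/
theorem final_of (n q : ℕ) (hF : Fintype.card F = q ^ 2) (hn : 13 ≤ n) (n₁ n₂ : ℕ) (h1 : 2 ≤ n₁)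
    (h12 : n₁ < n₂) (hex : ¬ (n₁ = 2 ∧ q = 2)) (e : Fin n ≃ Fin n₁ × Fin n₂)
    (P : Matrix.GeneralLinearGroup (Fin n) F) (f₁ : (Fin n₁ → F) → (Fin n₁ → F) → F)
    (f₂ : (Fin n₂ → F) → (Fin n₂ → F) → F) (hf₁ : Cfsg.Geo.IsUnitaryFormPow q f₁)
    (hf₂ : Cfsg.Geo.IsUnitaryFormPow q f₂)
    (hT : Cfsg.Geo.IsTensorFormStructure (fun x : F => x ^ q) (Cfsg.hermForm n F q) f₁ f₂ e P)
    (hN : ∀ M : Subgroup (GL (Idx n₁ n₂) F), MCtx n₁ n₂ q M → R1U q M → T1U q M) :
    Cfsg.Geo.IsMaximalIn (Cfsg.GU n F q ⊓ Cfsg.Geo.specialLinear (Fin n) F)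
      (Cfsg.Geo.tensorProductSubgroup n₁ n₂ e P ⊓
        (Cfsg.GU n F q ⊓ Cfsg.Geo.specialLinear (Fin n) F)) := by
  have hcard : n = n₁ * n₂ := by
    have := Fintype.card_congr e
    simpa using this
  have hb : 4 ≤ n₂ := by
    by_contra hlt
    have h3 : n₂ ≤ 3 := by omega
    have h2 : n₁ ≤ 2 := by omega
    have : n₁ * n₂ ≤ 2 * 3 := Nat.mul_le_mul h2 h3
    omega
  have hc : Ctx n₁ n₂ q F :=
    { hF := hF, ha := h1, hab := h12, hb := hb, hn := by rw [← hcard]; omega, hex := hex }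
  exact Cfsg.Agent.Lib.Helper7.UTTLeaf.transportU hF n₁ n₂ e P f₁ f₂ hf₁ hf₂ hT (core_of hc hN)

end Cfsg.Agent.Lib.Helper20.UTCore
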