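import Mathlib
import Cfsg.Agent.Lib.Helper20.UTNDefs
import Cfsg.Agent.Lib.Helper20.UTS
import Cfsg.Agent.Lib.Helper5.SUMax
import Cfsg.Agent.Lib.Helper6.UTNN3b
import Cfsg.Agent.Lib.Helper6.UTNN3a
import Cfsg.Agent.Lib.Helper6.UTNN3d
import Cfsg.Agent.Lib.Helper23.UTNNG
import Cfsg.Agent.Lib.Helper7.UTNN3c

/-!
S5670 Stage II, leaf N3e: purity of an admissible `u` on `A ⊗ y^⊥`.
-/

set_option autoImplicit false
set_option linter.unusedSectionVars false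
set_option linter.unusedVariables false

namespace Cfsg.Agent.Lib.Helper20.UTNLeaf
open Matrix
open Cfsg.Agent.Lib.Helper25.Tens Cfsg.Agent.Lib.Helper25.TensLeaf Cfsg.Agent.Lib.Helper25.TensLeaves
open Cfsg.Agent.Lib.Helper20.UT Cfsg.Agent.Lib.Helper20.UTLeaf Cfsg.Agent.Lib.Helper20.UTN
open Cfsg.Agent.Lib.Helper6.UTNLeaf Cfsg.Agent.Lib.Helper23.UTNLeaf Cfsg.Agent.Lib.Helper7.UTNLeaf
open scoped Kronecker

variable {F : Type*} [Field F] [Fintype F] {a b q : ℕ} {M : Subgroup (GL (Idx a b) F)}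


/-- a Siegel element with skew parameter lies in `KG ⊓ GS` -/
lemma sB_mem_K (hF : Fintype.card F = q ^ 2) (y z : Fin b → F) {c : F} (hcs : c ^ q = -c)
    (hy : hv q y y = 0) (hz : hv q z z = 0) (hyz : hv q (y + z) (y + z) = 0) :
    (sB q y z c hy hz hyz : GL (Idx a b) F) ∈ KG a b F ⊓ GS a b q F := by
  have hncs : (-c) ^ q = -(-c) := by rw [neg_pow_q hF, hcs]
  unfold sB
  refine Subgroup.mul_mem _ (Subgroup.mul_mem _ ?_ ?_) ?_
  · exact ⟨kB_mem_KG q _ c hyz, kB_mem_GS hF _ hcs hyz⟩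
  · exact ⟨kB_mem_KG q _ _ hy, kB_mem_GS hF _ hncs hy⟩
  · exact ⟨kB_mem_KG q _ _ hz, kB_mem_GS hF _ hncs hz⟩

lemma blkM_smul_left (u : GL (Idx a b) F) (μ : F) (z z' : Fin b → F) :
    blkM q u (μ • z) z' = μ • blkM q u z z' := by
  apply Matrix.mulVec_injective
  funext x
  rw [blkM_mulVec, Matrix.smul_mulVec, blkM_mulVec, pt_smul_right, mv_smul, ct_smul]

lemma adjM_smul (μ : F) (X : Matrix (Fin a) (Fin a) F) : adjM q (μ • X) = μ ^ q • adjM q X := by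
  ext i j
  simp only [adjM_apply, Matrix.smul_apply, smul_eq_mul, mul_pow]

lemma isScalarMat_of_smul {c : F} (hc0 : c ≠ 0) {X : Matrix (Fin a) (Fin a) F}
    (h : IsScalarMat (c • X)) : IsScalarMat X := by
  obtain ⟨s, hs⟩ := h
  refine ⟨c⁻¹ * s, ?_⟩
  rw [mul_smul, ← hs, smul_smul, inv_mul_cancel₀ hc0, one_smul]

/-- N3e -/
theorem pure_on_perp (hc : MCtx a b q M) {y : Fin b → F} (hy0 : y ≠ 0) (hy : hv q y y = 0)
    {u : GL (Idx a b) F} (hA : Adm q y M u) (hns : ¬ NSc q y M) :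
    ∀ z : Fin b → F, hv q z y = 0 → ∃ z'' : Fin b → F, ∀ x : Fin a → F,
      mv u (pt x z) = pt x z'' := by
  have hF := hc.hF
  have ha1 : 1 ≤ a := by have := hc.ha; omega
  have hsc : ∀ θ ∈ Th q y M, IsScalarMat θ := by
    intro θ hθ
    by_contra h
    exact hns ⟨θ, hθ, h⟩
  obtain ⟨c₀, hc₀0, hc₀s⟩ := Cfsg.Agent.Lib.Helper23.UTLeaf.exists_skew (q := q) hF
  obtain ⟨ys, hysys, hys, hyys⟩ := exists_partner hF hy0 hy
  -- Step 1: the blocks are scalar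
  have step1 : ∀ z z' : Fin b → F, hv q z z = 0 → hv q z' z' = 0 → hv q z y = 0 → hv q z' y = 0 →
      IsScalarMat (blkM q u z z') := by
    intro z z' hz hz' hzy hz'y
    apply scalar_of_twist_sub hF
    intro μ
    have hμz : hv q (μ • z) (μ • z) = 0 := by
      rw [hv_smul_left, hv_smul_right, hz, mul_zero, mul_zero]
    have hμzy : hv q (μ • z) y = 0 := by rw [hv_smul_left, hzy, mul_zero]
    have h1 := IsZ_comm hF hy hμz hz' hμzy hz'y hA.iso hA.fix c₀ c₀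
    have hg1 : u * sB q y (μ • z) c₀ hy hμz (iso_add hF hy hμz hμzy) * u⁻¹ ∈ M :=
      hA.conj _ (sB_mem_K hF y (μ • z) hc₀s hy hμz _)
    have hg2 : (sB q y z' c₀ hy hz' (iso_add hF hy hz' hz'y) : GL (Idx a b) F) ∈ M :=
      hc.le (sB_mem_K hF y z' hc₀s hy hz' _)
    have h2 := hsc _ ⟨_, M.mul_mem (M.mul_mem (M.mul_mem hg1 hg2) (M.inv_mem hg1)) (M.inv_mem hg2), h1⟩
    rw [blkM_smul_left, adjM_smul] at h2
    exact isScalarMat_of_smul (mul_ne_zero hc₀0 hc₀0) h2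
  -- Step 2-5: isotropic `z`
  have step5 : ∀ z : Fin b → F, hv q z y = 0 → hv q z z = 0 → ∃ z'' : Fin b → F, ∀ x : Fin a → F,
      mv u (pt x z) = pt x z'' := by
    intro z hzy hz
    -- all contractions with `z' ⊥ y` are scalar
    have h2 : ∀ z' : Fin b → F, hv q z' y = 0 → ∃ l : F, ∀ x : Fin a → F,
        ct (cj q z') (mv u (pt x z)) = l • x := by
      apply perp_induction hF hc.hb hy0 hy
      · rintro z' z'₂ ⟨l, hl⟩ ⟨l', hl'⟩
        refine ⟨l + l', fun x => ?_⟩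
        rw [cj_add hF, ct_add_left, hl, hl', add_smul]
      · intro z' hz'y hz'
        obtain ⟨s, hs⟩ := step1 z z' hz hz' hzy hz'y
        refine ⟨s, fun x => ?_⟩
        rw [← blkM_mulVec, hs, Matrix.smul_mulVec, Matrix.one_mulVec]
    obtain ⟨z₁, Φ, hΦ⟩ := pure_mod hF ha1 hy hys
      ((Matrix.toLin' (u : Matrix (Idx a b) (Idx a b) F)).comp (ptL z)) h2
    have hΦ' : ∀ x : Fin a → F, mv u (pt x z) = pt x z₁ + pt (Φ *ᵥ x) y := hΦ
    -- `z₁ ⊥ y`, `z₁` isotropic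
    have ha0 : 0 < a := ha1
    set e₀ : Fin a → F := Pi.single ⟨0, ha0⟩ 1 with he₀
    have he₀1 : hv q e₀ e₀ = 1 := hv_single_self ⟨0, ha0⟩
    have hz₁y : hv q z₁ y = 0 := by
      have h3 := mem_GUI.mp hA.iso (pt e₀ z) (pt e₀ y)
      rw [hA.fix, hΦ', hv_add_left, hv_pt, hv_pt, hv_pt, hy, mul_zero, add_zero, he₀1, one_mul,
        one_mul, hzy] at h3
      exact h3
    have hyz₁ : hv q y z₁ = 0 := hv_symm_zero hF hz₁y
    have hz₁ : hv q z₁ z₁ = 0 := by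
      have h3 := mem_GUI.mp hA.iso (pt e₀ z) (pt e₀ z)
      rw [hΦ', hv_add_left, hv_add_right hF, hv_add_right hF, hv_pt, hv_pt, hv_pt, hv_pt, hv_pt, hy,
        hz₁y, hyz₁, hz, he₀1] at h3
      simpa using h3
    -- `Φ` is scalar
    have hΦs : IsScalarMat Φ := by
      apply scalar_of_twist_add hF
      intro μ
      have hμz : hv q (μ • z) (μ • z) = 0 := by
        rw [hv_smul_left, hv_smul_right, hz, mul_zero, mul_zero]
      have hμzy : hv q (μ • z) y = 0 := by rw [hv_smul_left, hzy, mul_zero]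
      have hμz₁ : hv q (μ • z₁) (μ • z₁) = 0 := by
        rw [hv_smul_left, hv_smul_right, hz₁, mul_zero, mul_zero]
      have hμz₁y : hv q (μ • z₁) y = 0 := by rw [hv_smul_left, hz₁y, mul_zero]
      have hΦμ : ∀ x : Fin a → F, mv u (pt x (μ • z)) = pt x (μ • z₁) + pt ((μ • Φ) *ᵥ x) y := by
        intro x
        rw [pt_smul_right, mv_smul, hΦ', smul_add, pt_smul_right, Matrix.smul_mulVec, pt_smul_left]
      have h1 := IsZ_zpart hF hy hμz hμz₁ hμzy hμz₁y hA.iso hA.fix (μ • Φ) hΦμ c₀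
      have hg1 : u * sB q y (μ • z) c₀ hy hμz (iso_add hF hy hμz hμzy) * u⁻¹ ∈ M :=
        hA.conj _ (sB_mem_K hF y (μ • z) hc₀s hy hμz _)
      have hg2 : (sB q y (μ • z₁) c₀ hy hμz₁ (iso_add hF hy hμz₁ hμz₁y) : GL (Idx a b) F) ∈ M :=
        hc.le (sB_mem_K hF y (μ • z₁) hc₀s hy hμz₁ _)
      have h2 := hsc _ ⟨_, M.mul_mem hg1 (M.inv_mem hg2), h1⟩
      rw [adjM_smul] at h2
      exact isScalarMat_of_smul hc₀0 h2
    obtain ⟨s, hs⟩ := hΦs
    refine ⟨z₁ + s • y, fun x => ?_⟩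
    rw [hΦ', hs, Matrix.smul_mulVec, Matrix.one_mulVec, pt_smul_left, pt_add_right, pt_smul_right]
  -- Step 6: all `z ⊥ y`
  apply perp_induction hF hc.hb hy0 hy
  · rintro z z' ⟨w, hw⟩ ⟨w', hw'⟩
    refine ⟨w + w', fun x => ?_⟩
    rw [pt_add_right, mv_add, hw, hw', pt_add_right]
  · intro z hzy hz
    exact step5 z hzy hz

end Cfsg.Agent.Lib.Helper20.UTNLeaf
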