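import Mathlib
import Cfsg.Agent.Lib.Helper20.UTNDefs
import Cfsg.Agent.Lib.Helper20.UTS
import Cfsg.Agent.Lib.Helper20.UTNNT
import Cfsg.Agent.Lib.Helper20.UTNN3e
import Cfsg.Agent.Lib.Helper6.UTNN3a
import Cfsg.Agent.Lib.Helper23.UTNNG

/-!
S5670 Stage II, leaf NT6: the product closure of `Th q y M`.
-/

set_option autoImplicit false
set_option linter.unusedSectionVars false
set_option linter.unusedVariables false

namespace Cfsg.Agent.Lib.Helper20.UTNLeaf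
open Matrix
open Cfsg.Agent.Lib.Helper25.Tens Cfsg.Agent.Lib.Helper25.TensLeaf Cfsg.Agent.Lib.Helper25.TensLeaves
open Cfsg.Agent.Lib.Helper20.UT Cfsg.Agent.Lib.Helper20.UTLeaf Cfsg.Agent.Lib.Helper20.UTN
open scoped Kronecker

variable {F : Type*} [Field F] [Fintype F] {a b q : ℕ} {M : Subgroup (GL (Idx a b) F)}

lemma adjM_mul (hF : Fintype.card F = q ^ 2) (A B : Matrix (Fin a) (Fin a) F) :
    adjM q (A * B) = adjM q B * adjM q A := by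
  ext i j
  simp only [adjM_apply, Matrix.mul_apply]
  rw [sum_pow_q hF]
  apply Finset.sum_congr rfl
  intro k _
  rw [mul_pow, mul_comm]

lemma adjM_add (hF : Fintype.card F = q ^ 2) (A B : Matrix (Fin a) (Fin a) F) :
    adjM q (A + B) = adjM q A + adjM q B := by
  ext i j
  simp only [adjM_apply, Matrix.add_apply, add_pow_q hF]

lemma adjM_one (hF : Fintype.card F = q ^ 2) : adjM q (1 : Matrix (Fin a) (Fin a) F) = 1 := by
  have hq : q ≠ 0 := by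
    rintro rfl
    have : 2 ≤ Fintype.card F := Fintype.one_lt_card
    omega
  ext i j
  simp only [adjM_apply, Matrix.one_apply]
  by_cases hij : i = j
  · subst hij; simp
  · rw [if_neg hij, if_neg (Ne.symm hij), zero_pow hq]

/-- NT6 -/
theorem Th_mul (hc : MCtx a b q M) {y : Fin b → F} (hy0 : y ≠ 0) (hy : hv q y y = 0)
    {θ θ' : Matrix (Fin a) (Fin a) F} (h : θ ∈ Th q y M) (h' : θ' ∈ Th q y M) (μ : F) :
    μ • (θ * θ') - μ ^ q • (θ' * θ) ∈ Th q y M := by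
  have hF := hc.hF
  obtain ⟨y₂, y₃, hy₂y, hy₃y, hy₂, hy₃, h23, h32⟩ :=
    Cfsg.Agent.Lib.Helper23.UTNLeaf.exists_hyp_perp hF hc.hb hy0 hy
  have hy₂0 : y₂ ≠ 0 := by
    rintro rfl
    rw [hv_zero_left] at h23
    exact zero_ne_one h23
  have hy₃0 : y₃ ≠ 0 := by
    rintro rfl
    rw [hv_zero_left] at h32
    exact zero_ne_one h32
  have hyy₂ : hv q y y₂ = 0 := hv_symm_zero hF hy₂y
  have hyy₃ : hv q y y₃ = 0 := hv_symm_zero hF hy₃y
  have hθskew : adjM q θ = -θ := Th_skew hc hy0 hy h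
  have hθ'skew : adjM q θ' = -θ' := Th_skew hc hy0 hy h'
  obtain ⟨g₂, hg₂, hZ₂⟩ := Th_indep hc hy0 hy₂0 hy hy₂ h
  obtain ⟨g₃, hg₃, hZ₃⟩ := Th_indep hc hy0 hy₃0 hy hy₃ h'
  have huM : g₂ * g₃ ∈ M := M.mul_mem hg₂ hg₃
  have hu : g₂ * g₃ ∈ GUI a b q F := (hc.le_G huM).1
  have hpt0 : ∀ w : Fin b → F, pt (0 : Fin a → F) w = 0 := by
    intro w; ext ⟨i, l⟩; simp [pt]
  have hfix : ∀ x : Fin a → F, mv (g₂ * g₃) (pt x y) = pt x y := by
    intro x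
    rw [mv_mul, hZ₃, ct_cj_pt, hyy₃, zero_smul, Matrix.mulVec_zero, hpt0, add_zero, hZ₂, ct_cj_pt,
      hyy₂, zero_smul, Matrix.mulVec_zero, hpt0, add_zero]
  obtain ⟨c₀, hc₀0, hc₀s⟩ := Cfsg.Agent.Lib.Helper23.UTLeaf.exists_skew (q := q) hF
  have hμz : hv q (μ • y₂) (μ • y₂) = 0 := by
    rw [hv_smul_left, hv_smul_right, hy₂, mul_zero, mul_zero]
  have hμzy : hv q (μ • y₂) y = 0 := by rw [hv_smul_left, hy₂y, mul_zero]
  have h1 := Cfsg.Agent.Lib.Helper6.UTNLeaf.IsZ_comm hF hy hμz hy₃ hμzy hy₃y hu hfix c₀ c₀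
  have hs1 : (sB q y (μ • y₂) c₀ hy hμz (iso_add hF hy hμz hμzy) : GL (Idx a b) F) ∈ M :=
    hc.le (sB_mem_K hF y (μ • y₂) hc₀s hy hμz _)
  have hs2 : (sB q y y₃ c₀ hy hy₃ (iso_add hF hy hy₃ hy₃y) : GL (Idx a b) F) ∈ M :=
    hc.le (sB_mem_K hF y y₃ hc₀s hy hy₃ _)
  have hg1 : g₂ * g₃ * sB q y (μ • y₂) c₀ hy hμz (iso_add hF hy hμz hμzy) * (g₂ * g₃)⁻¹ ∈ M :=
    M.mul_mem (M.mul_mem huM hs1) (M.inv_mem huM)
  have h2 : (c₀ * c₀) • (adjM q (blkM q (g₂ * g₃) (μ • y₂) y₃) - blkM q (g₂ * g₃) (μ • y₂) y₃) ∈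
      Th q y M :=
    ⟨_, M.mul_mem (M.mul_mem (M.mul_mem hg1 hs2) (M.inv_mem hg1)) (M.inv_mem hs2), h1⟩
  -- the block
  have hblk : blkM q (g₂ * g₃) (μ • y₂) y₃ = μ • (1 + θ * θ') := by
    apply Matrix.mulVec_injective
    funext x
    rw [blkM_mulVec, pt_smul_right, mv_smul, mv_mul, hZ₃, ct_cj_pt, h23, one_smul, hZ₂, ct_add,
      ct_cj_pt, ct_cj_pt, hy₂, h32, zero_smul, zero_add, one_smul, ct_smul, ct_add, ct_add,
      ct_cj_pt, ct_cj_pt, ct_cj_pt, h23, hy₃, one_smul, one_smul, zero_smul, add_zero,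
      Matrix.smul_mulVec, Matrix.add_mulVec, Matrix.one_mulVec, ← Matrix.mulVec_mulVec]
  rw [hblk, adjM_smul, adjM_add hF, adjM_one hF, adjM_mul hF, hθskew, hθ'skew, neg_mul_neg] at h2
  -- divide by `c₀ * c₀`
  have hr : ((c₀ * c₀)⁻¹) ^ q = (c₀ * c₀)⁻¹ := by
    rw [inv_pow, mul_pow, hc₀s, neg_mul_neg]
  have h3 := Th_smul hc hy0 hy hr h2
  rw [smul_smul, inv_mul_cancel₀ (mul_ne_zero hc₀0 hc₀0), one_smul] at h3
  -- remove the scalar part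
  have hs : (μ - μ ^ q) ^ q = -(μ - μ ^ q) := by
    rw [sub_eq_add_neg, add_pow_q hF, neg_pow_q hF, pow_q_pow_q' hF]
    ring
  have h4 := Th_scalar (a := a) hc hy hs
  have h5 := Th_neg hc hy (Th_add hc hy h3 h4)
  have : -(μ ^ q • (1 + θ' * θ) - μ • (1 + θ * θ') + (μ - μ ^ q) • (1 : Matrix (Fin a) (Fin a) F)) =
      μ • (θ * θ') - μ ^ q • (θ' * θ) := by
    rw [smul_add, smul_add, sub_smul]
    abel
  rwa [this] at h5

end Cfsg.Agent.Lib.Helper20.UTNLeaf
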