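import Mathlib
import Cfsg.Agent.Lib.Helper20.UTNDefs
import Cfsg.Agent.Lib.Helper20.UTS
import Cfsg.Agent.Lib.Helper20.UTNNT
import Cfsg.Agent.Lib.Helper20.UTNN3e
import Cfsg.Agent.Lib.Helper20.UTNNT6
import Cfsg.Agent.Lib.Helper23.UTNNG
import Cfsg.Agent.Lib.Helper23.UTNN3h
import Cfsg.Agent.Lib.Helper7.UTNN0
import Cfsg.Agent.Lib.Helper7.UTNN1a
import Cfsg.Agent.Lib.Helper7.UTNN3i
import Cfsg.Agent.Lib.Helper7.UTNN6
import Cfsg.Agent.Lib.Helper11.UTNN1b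
import Cfsg.Agent.Lib.Helper11.UTNN2
import Cfsg.Agent.Lib.Helper12.UTNN3f
import Cfsg.Agent.Lib.Helper12.UTNN3g
import Cfsg.Agent.Lib.Helper23.UTNN5a
import Cfsg.Agent.Lib.Helper12.UTNN5b

/-!
S5670 Stage II: `lemmaNU (hc : MCtx a b q M) (hR : R1U q M) : T1U q M` (assembly of the (N) market leaves).
-/

set_option autoImplicit false
set_option linter.unusedSectionVars false
set_option linter.unusedVariables false

namespace Cfsg.Agent.Lib.Helper20.UTStageII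
open Matrix
open Cfsg.Agent.Lib.Helper25.Tens Cfsg.Agent.Lib.Helper25.TensLeaf Cfsg.Agent.Lib.Helper25.TensLeaves
open Cfsg.Agent.Lib.Helper20.UT Cfsg.Agent.Lib.Helper20.UTLeaf Cfsg.Agent.Lib.Helper20.UTN
open scoped Kronecker

variable {F : Type*} [Field F] [Fintype F] {a b q : ℕ} {M : Subgroup (GL (Idx a b) F)}


open Cfsg.Agent.Lib.Helper20.UTNLeaf

/-- N3: an admissible `u` lies in `KG` if `M ∩ Z_W ≤ KG`. -/
theorem adm_mem_KG (hc : MCtx a b q M) {y : Fin b → F} (hy0 : y ≠ 0) (hy : hv q y y = 0)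
    {u : GL (Idx a b) F} (hA : Adm q y M u) (hns : ¬ NSc q y M) : u ∈ KG a b F := by
  have hF := hc.hF
  have ha1 : 1 ≤ a := by have := hc.ha; omega
  obtain ⟨ys, hysys, hys, hyys⟩ := Cfsg.Agent.Lib.Helper23.UTNLeaf.exists_partner hF hy0 hy
  have hpure := pure_on_perp hc hy0 hy hA hns
  obtain ⟨z₁, ζ, hcol⟩ := Cfsg.Agent.Lib.Helper12.UTNLeaf.ystar_col hF ha1 hy0 hy hys hA.iso hA.fix hpure
  -- `ζ` is scalar
  have hζ : IsScalarMat ζ := by
    apply Cfsg.Agent.Lib.Helper23.UTNLeaf.scalar_of_conj_tv hF hc.ha (fun h => hc.hex h) ζ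
    intro x₀ c hx hcs
    by_contra hsc
    apply hns
    refine ⟨_, ⟨_, ?_, Cfsg.Agent.Lib.Helper12.UTNLeaf.IsZ_comm_kA hF hy0 hy hys hA.iso hA.fix hpure z₁ ζ hcol x₀ c hx⟩, hsc⟩
    exact M.mul_mem (hA.conj _ ⟨kA_mem_KG q x₀ c hx, kA_mem_GS hF x₀ hcs hx⟩)
      (M.inv_mem (kA_mem hc x₀ hcs hx))
  obtain ⟨s, hs⟩ := hζ
  -- purity on all of `B`
  apply Cfsg.Agent.Lib.Helper7.UTNLeaf.mem_KG_of_pure ha1
  intro z
  obtain ⟨z'', hz''⟩ := hpure (z - hv q z y • ys) (by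
    rw [hv_sub_left, hv_smul_left, hys, mul_one, sub_self])
  refine ⟨z'' + hv q z y • (ys + z₁ + s • y), ?_⟩
  intro x
  have hz : z = (z - hv q z y • ys) + hv q z y • ys := by abel
  conv_lhs => rw [hz]
  rw [pt_add_right, mv_add, hz'', pt_smul_right, mv_smul, hcol, hs]
  rw [Matrix.smul_mulVec, Matrix.one_mulVec, pt_smul_left, ← pt_smul_right s, ← pt_add_right,
    ← pt_smul_right, ← pt_add_right]

/-- Stage II -/
theorem lemmaNU (hc : MCtx a b q M) (hR : R1U q M) : T1U q M := by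
  have hF := hc.hF
  obtain ⟨y, hy0, hy, h, hhM, hhK, hmap⟩ := Cfsg.Agent.Lib.Helper7.UTNLeaf.exists_R2U hc hR
  obtain ⟨H, hH⟩ := Cfsg.Agent.Lib.Helper7.UTNLeaf.exists_stab_matrix hy0 hmap
  obtain ⟨c₀, hc₀0, hc₀s⟩ := Cfsg.Agent.Lib.Helper23.UTLeaf.exists_skew (q := q) hF
  -- `M ∩ Z_W` contains a non-scalar element
  have hNS : NSc q y M := by
    by_contra hns
    have h1 : c₀ • ((H : Matrix (Fin a) (Fin a) F) * adjM q (H : Matrix (Fin a) (Fin a) F)) ∈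
        Th q y M :=
      ⟨_, M.mul_mem (M.mul_mem hhM (kB_mem hc y hc₀s hy)) (M.inv_mem hhM),
        Cfsg.Agent.Lib.Helper11.UTNLeaf.IsZ_conj_kB hF (hc.le_G hhM).1 hy H hH c₀⟩
    have h2 : IsScalarMat (c₀ • ((H : Matrix (Fin a) (Fin a) F) *
        adjM q (H : Matrix (Fin a) (Fin a) F))) := by
      by_contra hsc
      exact hns ⟨_, h1, hsc⟩
    have h3 : IsScalarMat ((H : Matrix (Fin a) (Fin a) F) *
        adjM q (H : Matrix (Fin a) (Fin a) F)) := by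
      obtain ⟨s, hs⟩ := h2
      refine ⟨c₀⁻¹ * s, ?_⟩
      rw [mul_smul, ← hs, smul_smul, inv_mul_cancel₀ hc₀0, one_smul]
    obtain ⟨u, hA, huK⟩ := Cfsg.Agent.Lib.Helper11.UTNLeaf.exists_adm hc hhM hhK hy0 hy H hH h3
    exact huK (adm_mem_KG hc hy0 hy hA hns)
  obtain ⟨θ, hθ, hθns⟩ := hNS
  by_cases hq : q = 2
  · subst hq
    have ha3 : 3 ≤ a := by
      have h1 := hc.ha
      have h2 := hc.hex
      omega
    obtain ⟨x, hx0, hx⟩ := Cfsg.Agent.Lib.Helper12.UTNLeaf.lemmaAH_two hF ha3 (Th 2 y M)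
      (fun θ θ' h h' => Th_add hc hy h h')
      (by
        have := Th_scalar (a := a) hc hy (Cfsg.Agent.Lib.Helper7.UTNLeaf.one_skew_two hF)
        rwa [one_smul] at this)
      (fun x c hx hcs θ h => Th_conj_tv hc hy x hcs hx h)
      (fun θ h => Th_skew hc hy0 hy h)
      (fun θ θ' h h' μ => Th_mul hc hy0 hy h h' μ) hθ hθns
    apply Cfsg.Agent.Lib.Helper7.UTNLeaf.T1U_of_rk1 hx0 hy0 hy
    intro c hcs
    rcases Cfsg.Agent.Lib.Helper7.UTNLeaf.skew_two hF hcs with rfl | rfl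
    · rw [zero_smul]
      have := Th_add hc hy hx hx
      have h2 : rk1 2 x + rk1 2 x = 0 := by
        have : (2 : F) = 0 := by
          have h3 := Cfsg.Agent.Lib.Helper7.UTNLeaf.one_skew_two hF
          rw [one_pow] at h3
          linear_combination h3
        rw [← two_smul F, this, zero_smul]
      rwa [h2] at this
    · rwa [one_smul]
  · have hq3 : 3 ≤ q := by
      have h2 : 2 ≤ q := by
        by_contra hlt
        have : q = 0 ∨ q = 1 := by omega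
        have hcard : 2 ≤ Fintype.card F := Fintype.one_lt_card
        rcases this with rfl | rfl <;> simp at hF <;> omega
      omega
    obtain ⟨x, hx0, hx⟩ := Cfsg.Agent.Lib.Helper23.UTNLeaf.lemmaAH hF hq3 hc.ha (Th q y M)
      (fun θ θ' h h' => Th_add hc hy h h') (fun θ h => Th_neg hc hy h)
      (fun r hr θ h => Th_smul hc hy0 hy hr h)
      (fun x c hx hcs θ h => Th_conj_tv hc hy x hcs hx h)
      (fun θ h => Th_skew hc hy0 hy h) hθ hθns
    exact Cfsg.Agent.Lib.Helper7.UTNLeaf.T1U_of_rk1 hx0 hy0 hy hx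

end Cfsg.Agent.Lib.Helper20.UTStageII
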