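/- helper20: B&G 14.7(g): every maximal subgroup `H` with `κ(H) ≠ ∅` is conjugate to `M` or `M*`,
from the fact that the classes of `Ẑ_M` and `Ẑ_H` both have more than `|G|/2` elements.
Hypothesis form. -/
import Mathlib
import Cfsg.Agent.Lib.Helper20.BGPairB

set_option autoImplicit false
set_option linter.unusedSectionVars false
set_option linter.unusedVariables false
set_option linter.style.haveILetI false

namespace Cfsg.Agent.Lib.Helper20.BGPair

open Cfsg.Agent.Lib.Helper2.BGCor (primes_card_sigmaCore)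
open Cfsg.Agent.Lib.Helper21.BG147 (exists_mul_of_mem_sup)
open Cfsg.Agent.Lib.Helper27.BGPCount (sp_real)

universe u

variable {G : Type u} [Group G] [Finite G]

/-- two subsets of a finite type whose sizes add up to more than the size of the type meet. -/
theorem exists_mem_inter_of_card_lt {A B : Set G} (hA : Nat.card G < 2 * A.ncard)
    (hB : Nat.card G < 2 * B.ncard) : ∃ a, a ∈ A ∧ a ∈ B := by
  by_contra hcon
  push Not at hcon
  have hdisj : Disjoint A B := Set.disjoint_left.mpr hcon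
  have h1 : (A ∪ B).ncard = A.ncard + B.ncard :=
    Set.ncard_union_eq hdisj (Set.toFinite A) (Set.toFinite B)
  have h2 : (A ∪ B).ncard ≤ Nat.card G := by
    rw [← Set.ncard_univ]
    exact Set.ncard_le_ncard (Set.subset_univ _) (Set.toFinite _)
  omega

theorem orderOf_dvd_card_of_mem {A : Subgroup G} {x : G} (hx : x ∈ A) :
    orderOf x ∣ Nat.card A := by
  have := orderOf_dvd_natCard (⟨x, hx⟩ : ↥A)
  rwa [Subgroup.orderOf_mk] at this

/-- B&G 14.7(g) in hypothesis form. -/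
theorem conj_of_zhat_classes (hG : Cfsg.IsMinSimpleOddOrder G)
    {M Mstar K Ks H KH KHs : Subgroup G}
    (hM : IsCoatom M) (hMstar : IsCoatom Mstar) (hH : IsCoatom H)
    (hKsM : Ks ≤ Cfsg.sigmaCore M) (hKMs : K ≤ Cfsg.sigmaCore Mstar)
    (hcommK : Ks ≤ Subgroup.centralizer (K : Set G))
    (hKHsH : KHs ≤ Cfsg.sigmaCore H) (hcommH : KHs ≤ Subgroup.centralizer (KH : Set G))
    (hcopH : (Nat.card KH).Coprime (Nat.card KHs))
    (hcM : Nat.card G < 2 * Set.ncard {a : G | ∃ g : G, ∃ z ∈ ((↑(K ⊔ Ks) : Set G) \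
      ((K : Set G) ∪ ↑Ks)), a = g * z * g⁻¹})
    (hcH : Nat.card G < 2 * Set.ncard {a : G | ∃ g : G, ∃ z ∈ ((↑(KH ⊔ KHs) : Set G) \
      ((KH : Set G) ∪ ↑KHs)), a = g * z * g⁻¹}) :
    ∃ g : G, H = M.map (MulAut.conj g).toMonoidHom ∨
      H = Mstar.map (MulAut.conj g).toMonoidHom := by
  obtain ⟨a, ⟨g, z, hz, hag⟩, ⟨g', z', hz', hag'⟩⟩ := exists_mem_inter_of_card_lt hcM hcH
  have ho : orderOf z = orderOf z' := by
    have h1 : orderOf (g * z * g⁻¹) = orderOf z := by
      have := (MulAut.conj g).orderOf_eq z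
      rwa [MulAut.conj_apply] at this
    have h2 : orderOf (g' * z' * g'⁻¹) = orderOf z' := by
      have := (MulAut.conj g').orderOf_eq z'
      rwa [MulAut.conj_apply] at this
    rw [← h1, ← h2, ← hag, ← hag']
  -- decompose `z'`
  obtain ⟨x', hx', y', hy', rfl⟩ := exists_mul_of_mem_sup hcommH hz'.1
  have hy'1 : y' ≠ 1 := by
    intro h
    apply hz'.2
    left
    rw [h, mul_one]; exact hx'
  have hcomm' : Commute x' y' := (Subgroup.mem_centralizer_iff.mp (hcommH hy')) x' hx'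
  have hcop' : (orderOf x').Coprime (orderOf y') :=
    Nat.Coprime.coprime_dvd_left (orderOf_dvd_card_of_mem hx')
      (Nat.Coprime.coprime_dvd_right (orderOf_dvd_card_of_mem hy') hcopH)
  have ho' : orderOf (x' * y') = orderOf x' * orderOf y' :=
    hcomm'.orderOf_mul_eq_mul_orderOf_of_coprime hcop'
  obtain ⟨q, hq, hqy⟩ : ∃ q : ℕ, q.Prime ∧ q ∣ orderOf y' :=
    Nat.exists_prime_and_dvd (fun h => hy'1 (orderOf_eq_one_iff.mp h))
  have hqH : q ∈ Cfsg.sigma H :=
    primes_card_sigmaCore H q hq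
      ((hqy.trans (orderOf_dvd_card_of_mem hy')).trans (Subgroup.card_dvd_of_le hKHsH))
  have hqz : q ∣ orderOf z := by
    rw [ho, ho']; exact Dvd.dvd.mul_left hqy _
  -- decompose `z`
  obtain ⟨x, hx, y, hy, rfl⟩ := exists_mul_of_mem_sup hcommK hz.1
  have hcomm : Commute x y := (Subgroup.mem_centralizer_iff.mp (hcommK hy)) x hx
  have hd : q ∣ orderOf x * orderOf y :=
    (hqz.trans hcomm.orderOf_mul_dvd_lcm).trans (Nat.lcm_dvd_mul _ _)
  rcases (Nat.Prime.dvd_mul hq).mp hd with h1 | h1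
  · have hqMs : q ∈ Cfsg.sigma Mstar :=
      primes_card_sigmaCore Mstar q hq
        ((h1.trans (orderOf_dvd_card_of_mem hx)).trans (Subgroup.card_dvd_of_le hKMs))
    obtain ⟨c, hc⟩ := sp_real hG Mstar H hMstar hH ⟨q, hqMs, hqH⟩
    exact ⟨c, Or.inr hc⟩
  · have hqM : q ∈ Cfsg.sigma M :=
      primes_card_sigmaCore M q hq
        ((h1.trans (orderOf_dvd_card_of_mem hy)).trans (Subgroup.card_dvd_of_le hKsM))
    obtain ⟨c, hc⟩ := sp_real hG M H hM hH ⟨q, hqM, hqH⟩
    exact ⟨c, Or.inl hc⟩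

/-- a Hall `κ(H)`-subgroup is nontrivial when `κ(H) ≠ ∅`. -/
theorem hall_ne_bot_of_kappa_nonempty {H KH : Subgroup G}
    (hKH : Cfsg.IsPiHallOf (Cfsg.kappa H) KH H) (hκ : (Cfsg.kappa H).Nonempty) : KH ≠ ⊥ := by
  obtain ⟨p, hp⟩ := hκ
  intro h0
  apply hKH.2.2 p hp.1 hp
  rw [h0, Subgroup.relIndex_bot_left]
  exact hp.2.1

end Cfsg.Agent.Lib.Helper20.BGPair
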