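/-
helper20: S5286 (Leary–Stancu, planner helper21) leaf ST: the stabilizers of the two kinds of letters.
-/
import Mathlib
import Cfsg.Agent.Lib.Helper21.LSBasic

set_option autoImplicit false
universe u
open Cfsg
open Cfsg.Agent.Lib.Helper21.LS

namespace Cfsg.Agent.Lib.Helper20.LSST

variable {Ω : Type u} [Group Ω] {S : Subgroup Ω} (F : FusionSystem S)

/-- the stabilizer of `x_i` in `Sig S` is `λ(Q_i)` -/
theorem smul_xi_iff (i : Idx F) (τ : Sig S) : τ • xi F i = xi F i ↔ τ ∈ Qhat F i := by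
  constructor
  · intro h
    have h' : (⟨i, τ • ((1 : Sig S) : Sig S ⧸ Qhat F i)⟩ : Σ j : Idx F, Sig S ⧸ Qhat F j) =
        ⟨i, ((1 : Sig S) : Sig S ⧸ Qhat F i)⟩ := h
    have h3 : τ • ((1 : Sig S) : Sig S ⧸ Qhat F i) = ((1 : Sig S) : Sig S ⧸ Qhat F i) :=
      eq_of_heq (Sigma.mk.inj_iff.mp h').2
    rw [MulAction.Quotient.smul_mk, smul_eq_mul, mul_one, QuotientGroup.eq, mul_one, inv_mem_iff] at h3
    exact h3
  · intro h
    show (⟨i, τ • ((1 : Sig S) : Sig S ⧸ Qhat F i)⟩ : X F) = ⟨i, ((1 : Sig S) : Sig S ⧸ Qhat F i)⟩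
    congr 1
    rw [MulAction.Quotient.smul_mk, smul_eq_mul, mul_one, QuotientGroup.eq, mul_one, inv_mem_iff]
    exact h

/-- `λ(y) ∈ λ(Q_i)` iff `y ∈ Q_i` -/
theorem lam_mem_Qhat_iff (i : Idx F) (y : ↥S) : lam S y ∈ Qhat F i ↔ (y : Ω) ∈ i.Q := by
  unfold Qhat
  rw [Subgroup.mem_map]
  constructor
  · rintro ⟨q, hq, hqy⟩
    have : q = y := lam_injective hqy
    rw [← this]
    exact Subgroup.mem_subgroupOf.mp hq
  · intro h
    exact ⟨y, Subgroup.mem_subgroupOf.mpr h, rfl⟩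

theorem lam_smul_xi_iff (i : Idx F) (y : ↥S) : lam S y • xi F i = xi F i ↔ (y : Ω) ∈ i.Q := by
  rw [smul_xi_iff, lam_mem_Qhat_iff]

theorem lam_smul_sig_inv_xi_iff (i : Idx F) (hσ : SigGood F i (sig F i)) (y : ↥S) :
    lam S y • ((sig F i)⁻¹ • xi F i) = (sig F i)⁻¹ • xi F i ↔ (y : Ω) ∈ i.P := by
  have hiff : lam S y • ((sig F i)⁻¹ • xi F i) = (sig F i)⁻¹ • xi F i ↔
      (sig F i * lam S y * (sig F i)⁻¹) • xi F i = xi F i := by
    rw [mul_smul, mul_smul]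
    constructor
    · intro h
      rw [h, smul_inv_smul]
    · intro h
      have := congrArg (fun x => (sig F i)⁻¹ • x) h
      simpa only [inv_smul_smul] using this
  rw [hiff, smul_xi_iff]
  constructor
  · intro h
    unfold Qhat at h
    rw [Subgroup.mem_map] at h
    obtain ⟨q, hq, hqy⟩ := h
    have hqQ : (q : Ω) ∈ i.Q := Subgroup.mem_subgroupOf.mp hq
    obtain ⟨u, hu⟩ := hqQ
    have h1 := sig_mul_lam F i hσ u
    have hq' : q = ⟨i.φ u, i.φ_mem u⟩ := Subtype.ext hu.symm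
    rw [hq'] at hqy
    -- `σ λ(u) σ⁻¹ = λ(φ u) = σ λ(y) σ⁻¹`
    have h2 : sig F i * lam S ⟨(u : Ω), i.P_le u.2⟩ * (sig F i)⁻¹ = sig F i * lam S y * (sig F i)⁻¹ := by
      rw [h1, mul_inv_cancel_right]
      exact hqy
    have h3 : lam S ⟨(u : Ω), i.P_le u.2⟩ = lam S y := by
      have := congrArg (fun x => (sig F i)⁻¹ * x * sig F i) h2
      simpa only [mul_assoc, inv_mul_cancel_left, inv_mul_cancel, mul_one] using this
    have h4 : (⟨(u : Ω), i.P_le u.2⟩ : ↥S) = y := lam_injective h3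
    rw [← h4]
    exact u.2
  · intro h
    have h1 := sig_mul_lam F i hσ ⟨(y : Ω), h⟩
    have h2 : sig F i * lam S y * (sig F i)⁻¹ = lam S ⟨i.φ ⟨(y : Ω), h⟩, i.φ_mem ⟨(y : Ω), h⟩⟩ := by
      have : (⟨((⟨(y : Ω), h⟩ : i.P) : Ω), i.P_le h⟩ : ↥S) = y := Subtype.ext rfl
      rw [this] at h1
      rw [h1, mul_inv_cancel_right]
    rw [h2, lam_mem_Qhat_iff]
    exact ⟨⟨(y : Ω), h⟩, rfl⟩

end Cfsg.Agent.Lib.Helper20.LSST
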