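/-
helper20: S5286 (Leary–Stancu, planner helper21) leaf PC: no pinch, no cancellation of the two letters.
-/
import Mathlib
import Cfsg.Agent.Lib.Helper21.LSBasic
import Cfsg.Agent.Lib.Helper20.LSST

set_option autoImplicit false
universe u
open Cfsg
open Cfsg.Agent.Lib.Helper21.LS

namespace Cfsg.Agent.Lib.Helper20.LSPC

variable {Ω : Type u} [Group Ω] {S : Subgroup Ω} (F : FusionSystem S)

theorem letter_snd (i : Idx F) (ε : Bool) : (letter F i ε).2 = ε := by
  cases ε <;> rfl

theorem letter_fst_fst (i : Idx F) (ε : Bool) : ((letter F i ε).1).1 = i := by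
  cases ε <;> rfl

theorem not_cancel_of_not_pinch (hσ : ∀ i : Idx F, SigGood F i (sig F i)) (b a : Step F)
    (h : ¬ Pinch F b a) : ¬ Cancel F b a := by
  intro hc
  apply h
  obtain ⟨bi, bε, bs⟩ := b
  obtain ⟨ai, aε, as⟩ := a
  obtain ⟨h1, h2⟩ := hc
  simp only [lsmul] at h1 h2
  rw [letter_snd, letter_snd] at h2
  have hi : ai = bi := by
    have := congrArg (fun x : X F => x.1) h1
    simp only [smul_fst, letter_fst_fst] at this
    exact this
  subst hi
  refine ⟨rfl, h2, ?_⟩
  cases bε <;> cases aε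
  · exact absurd h2 (by decide)
  · -- `b.ε = false`, `a.ε = true`
    simp only [Bool.false_eq_true, if_false]
    have h3 : ((sig F ai)⁻¹ * lam S bs) • xi F ai = (sig F ai)⁻¹ • xi F ai := h1
    rw [mul_smul] at h3
    have h4 : lam S bs • xi F ai = xi F ai := by
      have := congrArg (fun x => sig F ai • x) h3
      simpa only [smul_inv_smul] using this
    exact (Cfsg.Agent.Lib.Helper20.LSST.lam_smul_xi_iff F ai bs).mp h4
  · -- `b.ε = true`, `a.ε = false`
    simp only [if_true]
    have h3 : (sig F ai * lam S bs) • ((sig F ai)⁻¹ • xi F ai) = xi F ai := h1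
    rw [mul_smul] at h3
    have h4 : lam S bs • ((sig F ai)⁻¹ • xi F ai) = (sig F ai)⁻¹ • xi F ai := by
      have := congrArg (fun x => (sig F ai)⁻¹ • x) h3
      simpa only [inv_smul_smul] using this
    exact (Cfsg.Agent.Lib.Helper20.LSST.lam_smul_sig_inv_xi_iff F ai (hσ ai) bs).mp h4
  · exact absurd h2 (by decide)

end Cfsg.Agent.Lib.Helper20.LSPC
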