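import Mathlib
import Cfsg.Agent.Lib.Lead.CharInd
import Cfsg.Agent.Lib.Lead.CharDecomp
import Cfsg.Agent.Lib.Helper6.LinChar

/-!
# S4923 leaf (IND): `sum_pow_mem_adjoin`  (helper20; planner helper17)

For `g : G` and `ζ` with `ζ ^ |g| = 1` the sum `∑ ζ ^ k` over the `k < |g|` with `g ^ k ~ g` lies in the
field generated by the values `χ g`, `χ ∈ Irr G`: it is `(|g| / M) (λ^G)(g)` for the linear character
`λ (g ^ j) = ζ ^ j` of `⟨g⟩` and `M = #{x : x⁻¹ g x = g}`, and `λ^G` is an `ℕ`-combination of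
irreducible characters.
-/

set_option autoImplicit false

namespace Cfsg.Agent.Lib.Helper20.MCF

open Cfsg Cfsg.Agent.CharLib

universe u
variable {G : Type u} [Group G] [Finite G]

/-- The linear character `g ^ j ↦ ζ ^ j` of `⟨g⟩`. -/
theorem exists_hom_zpowers (g : G) (ζ : ℂ) (hζ : ζ ^ orderOf g = 1) :
    ∃ lam : ↥(Subgroup.zpowers g) →* ℂˣ, ∀ j : ℕ,
      ((lam ⟨g ^ j, Subgroup.npow_mem_zpowers g j⟩ : ℂˣ) : ℂ) = ζ ^ j := by
  have hpos : 0 < orderOf g := orderOf_pos g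
  let u : ℂˣ := Units.ofPowEqOne ζ (orderOf g) hζ hpos.ne'
  have hu : (u : ℂ) = ζ := rfl
  let c : ↥(Subgroup.zpowers g) := ⟨g, Subgroup.mem_zpowers g⟩
  have hgen : ∀ x : ↥(Subgroup.zpowers g), x ∈ Subgroup.zpowers c := by
    intro x
    obtain ⟨n, hn⟩ := Subgroup.mem_zpowers_iff.mp x.2
    refine Subgroup.mem_zpowers_iff.mpr ⟨n, Subtype.ext ?_⟩
    rw [Subgroup.coe_zpow]
    exact hn
  have hord : orderOf u ∣ orderOf c := by
    have h1 : orderOf c = orderOf g := (Subgroup.orderOf_coe c).symm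
    rw [h1]
    apply orderOf_dvd_of_pow_eq_one
    apply Units.ext
    rw [Units.val_pow_eq_pow_val, hu, hζ, Units.val_one]
  refine ⟨monoidHomOfForallMemZpowers hgen hord, fun j => ?_⟩
  have h2 : (⟨g ^ j, Subgroup.npow_mem_zpowers g j⟩ : ↥(Subgroup.zpowers g)) = c ^ j :=
    Subtype.ext (by rw [Subgroup.coe_pow])
  rw [h2, map_pow, monoidHomOfForallMemZpowers_apply_gen, Units.val_pow_eq_pow_val, hu]

omit [Finite G] in
/-- All fibres of `x ↦ x⁻¹ g x` over conjugates of `g` have the same size. -/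
theorem card_filter_conj_eq [Fintype G] [DecidableEq G] (g y : G) (h : IsConj y g) :
    (Finset.univ.filter (fun x : G => x⁻¹ * g * x = y)).card
      = (Finset.univ.filter (fun x : G => x⁻¹ * g * x = g)).card := by
  obtain ⟨c, hc⟩ := isConj_iff.mp h
  -- `c * y * c⁻¹ = g`
  refine Finset.card_equiv (Equiv.mulRight c⁻¹) (fun x => ?_)
  simp only [Finset.mem_filter, Finset.mem_univ, true_and, Equiv.coe_mulRight]
  constructor
  · intro hx
    have h1 : (x * c⁻¹)⁻¹ * g * (x * c⁻¹) = c * (x⁻¹ * g * x) * c⁻¹ := by group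
    rw [h1, hx, hc]
  · intro hx
    have h1 : x⁻¹ * g * x = c⁻¹ * ((x * c⁻¹)⁻¹ * g * (x * c⁻¹)) * c := by group
    rw [h1, hx, ← hc]
    group

omit [Finite G] in
theorem extendByZero_mem' (H : Subgroup G) (θ : H → ℂ) (y : G) (hy : y ∈ H) :
    extendByZero H θ y = θ ⟨y, hy⟩ := by
  unfold extendByZero
  exact Subtype.val_injective.extend_apply θ 0 ⟨y, hy⟩

omit [Finite G] in
theorem extendByZero_not_mem' (H : Subgroup G) (θ : H → ℂ) (y : G) (hy : y ∉ H) :
    extendByZero H θ y = 0 := by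
  unfold extendByZero
  rw [Function.extend_apply']
  · rfl
  · rintro ⟨a, ha⟩
    exact hy (ha ▸ a.2)

/-- **(IND)** -/
theorem sum_pow_mem_adjoin (g : G) (ζ : ℂ) (hζ : ζ ^ orderOf g = 1) (s : Finset ℕ)
    (hs : ∀ k, k ∈ s ↔ k < orderOf g ∧ IsConj (g ^ k) g) :
    (∑ k ∈ s, ζ ^ k) ∈
      IntermediateField.adjoin ℚ {z : ℂ | ∃ χ : IrrCharacter G, (χ : G → ℂ) g = z} := by
  classical
  let _ : Fintype G := Fintype.ofFinite G
  let _ := fintypeIrr G
  set F := IntermediateField.adjoin ℚ {z : ℂ | ∃ χ : IrrCharacter G, (χ : G → ℂ) g = z} with hF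
  obtain ⟨lam, hlam⟩ := exists_hom_zpowers g ζ hζ
  let θ : ↥(Subgroup.zpowers g) → ℂ := fun c => ((lam c : ℂˣ) : ℂ)
  have hθ : IsCharacter ↥(Subgroup.zpowers g) θ :=
    IsIrrCharacter.isCharacter (Cfsg.Agent.Lib.Helper6.isIrrCharacter_of_hom lam)
  have hψ : IsCharacter G (indFun (Subgroup.zpowers g) θ) := IsCharacter.indFun _ hθ
  -- `ψ g ∈ F`
  have hmem : indFun (Subgroup.zpowers g) θ g ∈ F := by
    obtain ⟨m, hm⟩ := IsCharacter.exists_decomp hψ
    rw [finsum_eq_sum_of_fintype] at hm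
    rw [hm, Finset.sum_apply]
    refine sum_mem (fun χ _ => ?_)
    rw [Pi.smul_apply]
    refine nsmul_mem ?_ _
    exact IntermediateField.subset_adjoin ℚ _ ⟨χ, rfl⟩
  -- the pointwise formula
  have hpt : ∀ x : G, extendByZero (Subgroup.zpowers g) θ (x⁻¹ * g * x)
      = ∑ k ∈ s, if x⁻¹ * g * x = g ^ k then ζ ^ k else 0 := by
    intro x
    by_cases hx : x⁻¹ * g * x ∈ Subgroup.zpowers g
    · obtain ⟨n, hn⟩ := (Submonoid.mem_powers_iff _ _).mp (mem_powers_iff_mem_zpowers.mpr hx)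
      have hk0 : g ^ (n % orderOf g) = x⁻¹ * g * x := by rw [pow_mod_orderOf]; exact hn
      have hlt : n % orderOf g < orderOf g := Nat.mod_lt _ (orderOf_pos g)
      have hk0s : n % orderOf g ∈ s := by
        rw [hs]
        refine ⟨hlt, isConj_iff.mpr ⟨x, ?_⟩⟩
        rw [hk0]; group
      rw [Finset.sum_eq_single (n % orderOf g)]
      · rw [if_pos hk0.symm, extendByZero_mem' _ _ _ hx]
        have h3 : (⟨x⁻¹ * g * x, hx⟩ : ↥(Subgroup.zpowers g))
            = ⟨g ^ (n % orderOf g), Subgroup.npow_mem_zpowers g _⟩ := Subtype.ext hk0.symm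
        rw [h3]
        exact hlam _
      · intro k hk hne
        rw [if_neg]
        intro hxk
        apply hne
        have hklt : k < orderOf g := ((hs k).mp hk).1
        exact pow_injOn_Iio_orderOf (Set.mem_Iio.mpr hklt) (Set.mem_Iio.mpr hlt)
          (hxk.symm.trans hk0.symm)
      · intro hns; exact absurd hk0s hns
    · rw [extendByZero_not_mem' _ _ _ hx]
      symm
      apply Finset.sum_eq_zero
      intro k _
      rw [if_neg]
      intro hxk
      exact hx (hxk ▸ Subgroup.npow_mem_zpowers g k)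
  set M : ℕ := (Finset.univ.filter (fun x : G => x⁻¹ * g * x = g)).card with hM
  have hMpos : 0 < M := by
    apply Finset.card_pos.mpr
    exact ⟨1, by simp⟩
  have hsum : ∑ x : G, extendByZero (Subgroup.zpowers g) θ (x⁻¹ * g * x)
      = (M : ℂ) * ∑ k ∈ s, ζ ^ k := by
    simp_rw [hpt]
    rw [Finset.sum_comm, Finset.mul_sum]
    refine Finset.sum_congr rfl (fun k hk => ?_)
    rw [← Finset.sum_filter, Finset.sum_const, nsmul_eq_mul,
      card_filter_conj_eq g (g ^ k) ((hs k).mp hk).2]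
  have hcard : (Nat.card ↥(Subgroup.zpowers g) : ℂ) ≠ 0 := by
    exact_mod_cast (Nat.card_pos (α := ↥(Subgroup.zpowers g))).ne'
  have hMne : (M : ℂ) ≠ 0 := by exact_mod_cast hMpos.ne'
  have hfinal : ∑ k ∈ s, ζ ^ k
      = (Nat.card ↥(Subgroup.zpowers g) : ℂ) * (M : ℂ)⁻¹ * indFun (Subgroup.zpowers g) θ g := by
    unfold indFun
    rw [hsum]
    field_simp
  rw [hfinal]
  exact mul_mem (mul_mem (natCast_mem F _) (inv_mem (natCast_mem F _))) hmem

end Cfsg.Agent.Lib.Helper20.MCF
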