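import Cfsg.Agent.Lib.Helper17.OC2Defs
import Cfsg.Agent.Lib.Helper17.OC2Tool

/-!
helper20: S5677 leaves F1 (`exists_c0`) and F2 (`c0_of_sq`) for helper17's market: the square class `c₀` of the
vectors `a` with `-r_a ∈ Ω`.
-/

set_option autoImplicit false
set_option linter.unusedSectionVars false
set_option linter.unusedVariables false

namespace Cfsg.Agent.Lib.Helper20.OC2Leaf

open Module QuadraticMap Matrix Cfsg.Agent.Lib.Helper25.CD Cfsg.Agent.Lib.Helper25.Spin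
  Cfsg.Agent.Lib.Helper15 Cfsg.Agent.Lib.Helper5.NSMax Cfsg.Agent.Lib.Helper5.PairMax
  Cfsg.Agent.Lib.Helper17.OC2 Cfsg.Agent.Lib.Helper17.OC2Leaf

variable {ι : Type} [Fintype ι] [DecidableEq ι] {F : Type*} [Field F] [Fintype F]
  {Q : QuadraticForm F (ι → F)} {t : ℕ} {D : Fin t → Submodule F (ι → F)} {k : ℕ}
  {M : Subgroup ↥(Cfsg.isometryGroup F ⇑Q)}

/-- F2 -/
theorem c0_of_sq (hG : Geo Q D k) {a b : ι → F} (ha : Q a ≠ 0) (haΩ : negRefl Q a ∈ Cfsg.Omega F ⇑Q)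
    (hb : Q b ≠ 0) (hab : IsSquare (Q a * Q b)) : negRefl Q b ∈ Cfsg.Omega F ⇑Q := by
  have h1 : negRefl Q b = negRefl Q a * (reflM Q a * reflM Q b) := by
    rw [← negRefl_mul, ← mul_assoc, negRefl_mul_self, one_mul]
  rw [h1]
  exact (Cfsg.Omega F ⇑Q).mul_mem haΩ ((pair_mem_omega_iff hG ha hb).2 hab)

/-- the matrix of `negOne` is `-1` -/
theorem negOne_coe : (((negOne Q : ↥(Cfsg.isometryGroup F ⇑Q)) : GL ι F) : Matrix ι ι F) = -1 := by
  apply Matrix.toLin'.injective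
  apply LinearMap.ext
  intro x
  rw [Matrix.toLin'_apply, ← toOG_apply, toOG_negOne]
  simp

/-- a negative reflection has determinant one in odd dimension -/
theorem negRefl_mem_special (hodd : Odd (Fintype.card ι)) (h2 : (2 : F) ≠ 0) {a : ι → F}
    (ha : Q a ≠ 0) : negRefl Q a ∈ Cfsg.specialIsometryGroup F ⇑Q := by
  unfold Cfsg.specialIsometryGroup
  rw [MonoidHom.mem_ker, Units.ext_iff]
  have e : ((Matrix.GeneralLinearGroup.det.comp (Cfsg.isometryGroup F ⇑Q).subtype)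
      (negRefl Q a) : Fˣ).val = ((negRefl Q a : GL ι F) : Matrix ι ι F).det := rfl
  rw [e, Units.val_one]
  unfold negRefl
  rw [Subgroup.coe_mul, Units.val_mul, Matrix.det_mul, negOne_coe, reflM_coe,
    det_reflectionMatrix Q h2 ha, Matrix.det_neg, Matrix.det_one, mul_one, hodd.neg_one_pow]
  ring

/-- F1 -/
theorem exists_c0 (hG : Geo Q D k) (i : Fin t) :
    ∃ a ∈ D i, Q a ≠ 0 ∧ negRefl Q a ∈ Cfsg.Omega F ⇑Q := by
  have h2 := hG.h2
  have hnd := ndOn hG i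
  have hfr : 2 ≤ finrank F (D i) := by rw [hG.fr i]; have := hG.k3; omega
  obtain ⟨u, huD, hu⟩ := Cfsg.Agent.Lib.Helper25.OGeom.universal Q hnd hfr 1
  obtain ⟨c, hc⟩ := FiniteField.exists_nonsquare (Cfsg.Agent.Lib.Helper25.Spin.ringChar_ne_two h2)
  obtain ⟨w, hwD, hw⟩ := Cfsg.Agent.Lib.Helper25.OGeom.universal Q hnd hfr c
  have hc0 : c ≠ 0 := by
    rintro rfl
    exact hc ⟨0, by simp⟩
  have hu0 : Q u ≠ 0 := by rw [hu]; exact one_ne_zero
  have hw0 : Q w ≠ 0 := by rw [hw]; exact hc0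
  have hns : ¬ IsSquare (Q u * Q w) := by rw [hu, hw, one_mul]; exact hc
  have hidx := omega_relIndex_two Q h2 hG.nd hu0 hw0 hns
  have hsu := negRefl_mem_special hG.oddn h2 hu0
  have hsw := negRefl_mem_special hG.oddn h2 hw0
  -- the product is `r_u r_w ∉ Ω`
  have hprod : negRefl Q u * negRefl Q w ∉ Cfsg.Omega F ⇑Q := by
    rw [negRefl_mul, pair_mem_omega_iff hG hu0 hw0]
    exact hns
  have key := Subgroup.mul_mem_iff_of_index_two hidx
    (a := (⟨negRefl Q u, hsu⟩ : ↥(Cfsg.specialIsometryGroup F ⇑Q)))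
    (b := (⟨negRefl Q w, hsw⟩ : ↥(Cfsg.specialIsometryGroup F ⇑Q)))
  rw [Subgroup.mem_subgroupOf, Subgroup.mem_subgroupOf, Subgroup.mem_subgroupOf] at key
  by_cases huΩ : negRefl Q u ∈ Cfsg.Omega F ⇑Q
  · exact ⟨u, huD, hu0, huΩ⟩
  · refine ⟨w, hwD, hw0, ?_⟩
    by_contra hwΩ
    apply hprod
    apply key.2
    exact ⟨fun h => absurd h huΩ, fun h => absurd h hwΩ⟩

end Cfsg.Agent.Lib.Helper20.OC2Leaf
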