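import Cfsg.Agent.Lib.Helper17.OC2Defs
import Cfsg.Agent.Lib.Helper17.OC2Tool
import Cfsg.Agent.Lib.Helper20.OC2F

/-!
helper20: S5677 leaf A1 (`perm_of_noMixed`) for helper17's market, core form with L2 (`no_split`) as a hypothesis.
-/

set_option autoImplicit false
set_option linter.unusedSectionVars false
set_option linter.unusedVariables false

namespace Cfsg.Agent.Lib.Helper20.OC2Leaf

open Module QuadraticMap Matrix Cfsg.Agent.Lib.Helper25.CD Cfsg.Agent.Lib.Helper25.Spin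
  Cfsg.Agent.Lib.Helper15 Cfsg.Agent.Lib.Helper5.NSMax Cfsg.Agent.Lib.Helper5.PairMax
  Cfsg.Agent.Lib.Helper17.OC2 Cfsg.Agent.Lib.Helper17.OC2Leaf

variable {ι : Type} [Fintype ι] [DecidableEq ι] {F : Type*} [Field F] [Fintype F]
  {Q : QuadraticForm F (ι → F)} {t : ℕ} {D : Fin t → Submodule F (ι → F)} {k : ℕ}
  {M : Subgroup ↥(Cfsg.isometryGroup F ⇑Q)}

/-- the statement of leaf L2 (`no_split`) -/
def L2Stmt (Q : QuadraticForm F (ι → F)) : Prop :=
  ∀ (h2 : (2 : F) ≠ 0) {U : Submodule F (ι → F)} (hU : NdOn Q U)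
    (h3 : 3 ≤ finrank F U) (hex : 5 ≤ Fintype.card F ∨ 5 ≤ finrank F U) {τ : F} (hτ : τ ≠ 0)
    {R : Submodule F (ι → F)} (hR : R ≤ U)
    (h : ∀ c ∈ U, Q c ≠ 0 → IsSquare (τ * Q c) → c ∈ R ∨ ∀ r ∈ R, polar Q c r = 0),
    R = ⊥ ∨ R = U

/-- every element of `M` maps each block into a block -/
theorem block_map_of_noMixed (L2 : L2Stmt Q) (hS : MS Q M D k)
    (hno : ∀ a, InS Q M a → ∃ i, a ∈ D i)
    {g : ↥(Cfsg.isometryGroup F ⇑Q)} (hg : g ∈ M) (i : Fin t) :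
    ∃ j, ∀ x ∈ D i, toOG Q g x ∈ D j := by
  have hG := hS.toGeo
  obtain ⟨a₀, ha₀D, hQa₀, ha₀Ω⟩ := exists_c0 hG i
  -- class-`τ` vectors of `D i` are mapped into blocks
  have hcls : ∀ c ∈ D i, Q c ≠ 0 → IsSquare (Q a₀ * Q c) → ∃ j, toOG Q g c ∈ D j := by
    intro c hcD hQc hsq
    have hcΩ : negRefl Q c ∈ Cfsg.Omega F ⇑Q := c0_of_sq hG hQa₀ ha₀Ω hQc hsq
    have hcM : negRefl Q c ∈ M := hS.stab _ hcΩ (negRefl_fixes hG hcD).isPerm
    have hconj : negRefl Q (toOG Q g c) ∈ M := by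
      rw [← conj_negRefl]
      exact M.mul_mem (M.mul_mem hg hcM) (M.inv_mem hg)
    exact hno _ ⟨by rw [Cfsg.Agent.Lib.Helper25.PS.Q_toOG]; exact hQc, hconj⟩
  obtain ⟨j₀, hj₀⟩ := hcls a₀ ha₀D hQa₀ ⟨Q a₀, rfl⟩
  refine ⟨j₀, ?_⟩
  -- `R = D i ⊓ g⁻¹ (D j₀)`
  set R : Submodule F (ι → F) :=
    D i ⊓ (D j₀).comap ((toOG Q g : (ι → F) ≃ₗ[F] (ι → F)) : (ι → F) →ₗ[F] (ι → F)) with hR
  have hRle : R ≤ D i := inf_le_left
  have hfr : finrank F (D i) = k := hG.fr i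
  have hsplit := L2 hG.h2 (ndOn hG i) (by rw [hfr]; exact hG.k3)
    (by rw [hfr]; exact hG.hex) hQa₀ hRle (by
      intro c hcD hQc hsq
      obtain ⟨j, hj⟩ := hcls c hcD hQc hsq
      by_cases hjj : j = j₀
      · left
        rw [hjj] at hj
        exact ⟨hcD, hj⟩
      · right
        intro r hr
        have hr2 : toOG Q g r ∈ D j₀ := hr.2
        rw [← Cfsg.Agent.Lib.Helper25.PS.polar_toOG Q g c r]
        exact hG.orth j j₀ hjj _ hj _ hr2)
  have ha₀R : a₀ ∈ R := ⟨ha₀D, hj₀⟩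
  rcases hsplit with h | h
  · exfalso
    rw [h, Submodule.mem_bot] at ha₀R
    rw [ha₀R] at hQa₀
    exact hQa₀ (by simp)
  · intro x hx
    have : x ∈ R := by rw [h]; exact hx
    exact this.2

/-- A1, core form -/
theorem perm_of_noMixed_of (L2 : L2Stmt Q) (hS : MS Q M D k)
    (hno : ∀ a, InS Q M a → ∃ i, a ∈ D i)
    {g : ↥(Cfsg.isometryGroup F ⇑Q)} (hg : g ∈ M) : IsPerm Q D g := by
  classical
  have hG := hS.toGeo
  choose φ hφ using block_map_of_noMixed L2 hS hno hg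
  -- the image of a block is the whole target block
  have hmap : ∀ i, (D i).map ((toOG Q g : (ι → F) ≃ₗ[F] (ι → F)) : (ι → F) →ₗ[F] (ι → F)) =
      D (φ i) := fun i =>
    map_eq_of_mem (toOG Q g) (by rw [hG.fr i, hG.fr (φ i)]) (hφ i)
  have hinj : Function.Injective φ := by
    intro i i' hii'
    by_contra hne
    -- a nonzero vector of `D i`
    have hpos : 0 < finrank F (D i) := by rw [hG.fr i]; have := hG.k3; omega
    obtain ⟨x, hxD, hx0⟩ : ∃ x ∈ D i, x ≠ 0 := by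
      by_contra hcon
      push Not at hcon
      have : D i = ⊥ := by
        rw [eq_bot_iff]
        intro x hx
        exact (Submodule.mem_bot F).2 (hcon x hx)
      rw [this, finrank_bot] at hpos
      exact lt_irrefl _ hpos
    have h1 : toOG Q g x ∈ D (φ i') := by rw [← hii']; exact hφ i x hxD
    rw [← hmap i'] at h1
    obtain ⟨x', hx'D, hx'⟩ := h1
    have hxx' : x' = x := (toOG Q g).injective hx'
    rw [hxx'] at hx'D
    exact hx0 (disjoint_blocks hG hne hxD hx'D)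
  have hbij : Function.Bijective φ := Finite.injective_iff_bijective.1 hinj
  exact ⟨Equiv.ofBijective φ hbij, fun i x hx => by
    rw [Equiv.ofBijective_apply]; exact hφ i x hx⟩

end Cfsg.Agent.Lib.Helper20.OC2Leaf
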