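import Cfsg.Agent.Lib.Helper17.OC2Defs
import Cfsg.Agent.Lib.Helper17.OC2Tool

/-!
helper20: S5677 leaves C0 (`inE_block`), C1a (`inE_add`, `inE_neg`), C1b (`inE_sq`), C1 (`inA_of_inE`)
for helper17's market.
-/

set_option autoImplicit false
set_option linter.unusedSectionVars false
set_option linter.unusedVariables false

namespace Cfsg.Agent.Lib.Helper20.OC2Leaf

open Module QuadraticMap Matrix Cfsg.Agent.Lib.Helper25.CD Cfsg.Agent.Lib.Helper25.Spin
  Cfsg.Agent.Lib.Helper15 Cfsg.Agent.Lib.Helper5.NSMax Cfsg.Agent.Lib.Helper5.PairMax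
  Cfsg.Agent.Lib.Helper17.OC2 Cfsg.Agent.Lib.Helper17.OC2Leaf

variable {ι : Type} [Fintype ι] [DecidableEq ι] {F : Type*} [Field F] [Fintype F]
  {Q : QuadraticForm F (ι → F)} {t : ℕ} {D : Fin t → Submodule F (ι → F)} {k : ℕ}
  {M : Subgroup ↥(Cfsg.isometryGroup F ⇑Q)}

/-- C0 -/
theorem inE_block (hS : MS Q M D k) {i : Fin t} {z y : ι → F} (hz : z ∈ D i) (hz0 : z ≠ 0)
    (hQz : Q z = 0) (hy : y ∈ D i) (hzy : polar Q z y = 0) : InE Q M z y := by
  obtain ⟨g, hgΩ, hg⟩ := exists_egen Q hS.nd hS.card hz0 hQz hzy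
  exact ⟨g, hS.stab g hgΩ (egen_fixes hS.toGeo hz hy hg).isPerm, hg⟩

/-- C1a -/
theorem inE_add {z y y' : ι → F} (hQz : Q z = 0) (hy : polar Q z y = 0) (hy' : polar Q z y' = 0)
    (h : InE Q M z y) (h' : InE Q M z y') : InE Q M z (y + y') := by
  obtain ⟨g, hg, e⟩ := h
  obtain ⟨g', hg', e'⟩ := h'
  refine ⟨g * g', M.mul_mem hg hg', fun x => ?_⟩
  rw [map_mul, LinearEquiv.mul_apply, e', e, egen_add Q hQz hy hy']

/-- `egen z 0` is the identity -/
theorem egen_zero_right (z x : ι → F) : egen Q z 0 x = x := by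
  unfold egen
  simp

/-- C1a' -/
theorem inE_neg {z y : ι → F} (hQz : Q z = 0) (hy : polar Q z y = 0) (h : InE Q M z y) :
    InE Q M z (-y) := by
  obtain ⟨g, hg, e⟩ := h
  refine ⟨g⁻¹, M.inv_mem hg, fun x => ?_⟩
  have hy' : polar Q z (-y) = 0 := by rw [polar_neg_right, hy, neg_zero]
  have h1 : toOG Q g (egen Q z (-y) x) = x := by
    rw [e, egen_add Q hQz hy hy', add_neg_cancel, egen_zero_right]
  have h2 : toOG Q g⁻¹ (toOG Q g (egen Q z (-y) x)) = egen Q z (-y) x := by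
    rw [← LinearEquiv.mul_apply, ← map_mul, inv_mul_cancel, map_one]
    rfl
  rw [← h2, h1]

/-- the trivial Siegel element -/
theorem inE_zero (z : ι → F) : InE Q M z 0 :=
  ⟨1, M.one_mem, fun x => by rw [map_one, egen_zero_right]; rfl⟩

/-- C1b : the torus of the block of `z` scales the part of the root group outside the block by squares -/
theorem inE_sq (hS : MS Q M D k) {i : Fin t} {z y : ι → F} (hz : z ∈ D i) (hz0 : z ≠ 0)
    (hQz : Q z = 0) (hy : pr hS.toGeo i y = 0) (h : InE Q M z y) {c : F} (hc : c ≠ 0) :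
    InE Q M z (c ^ 2 • y) := by
  have hG := hS.toGeo
  obtain ⟨z', hz', hQz', hzz'⟩ := exists_hyp_partner Q (D i) (ndOn hG i) hz hz0 hQz
  -- the two reflection vectors
  set a := z - z' with ha
  set b := z - c ^ 2 • z' with hb
  have haD : a ∈ D i := (D i).sub_mem hz hz'
  have hbD : b ∈ D i := (D i).sub_mem hz ((D i).smul_mem _ hz')
  have hQa : Q a = -1 := by
    rw [ha, sub_eq_add_neg, Cfsg.Agent.Lib.Helper25.MaxTS.Q_add, QuadraticMap.map_neg, hQz, hQz',
      polar_neg_right, hzz']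
    ring
  have hQb : Q b = -c ^ 2 := by
    rw [hb, sub_eq_add_neg, ← neg_smul, Cfsg.Agent.Lib.Helper25.MaxTS.Q_add, QuadraticMap.map_smul,
      hQz, hQz', polar_smul_right, hzz']
    simp only [smul_eq_mul]
    ring
  have hQa0 : Q a ≠ 0 := by rw [hQa]; exact neg_ne_zero.2 one_ne_zero
  have hQb0 : Q b ≠ 0 := by rw [hQb]; exact neg_ne_zero.2 (pow_ne_zero 2 hc)
  set τ := reflM Q a * reflM Q b with hτ
  have hτΩ : τ ∈ Cfsg.Omega F ⇑Q := by
    rw [hτ, pair_mem_omega_iff hG hQa0 hQb0, hQa, hQb]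
    exact ⟨c, by ring⟩
  have hτM : τ ∈ M :=
    hS.stab τ hτΩ ((reflM_fixes hG haD).mul (reflM_fixes hG hbD)).isPerm
  -- `τ z = c² z`
  have pzz : polar Q z z = 0 := by rw [polar_self, hQz]; simp
  have pz'z' : polar Q z' z' = 0 := by rw [polar_self, hQz']; simp
  have pz'z : polar Q z' z = 1 := by rw [polar_comm]; exact hzz'
  have hbz : reflE Q b z = c ^ 2 • z' := by
    rw [reflE_apply, hQb]
    have e1 : polar Q b z = -c ^ 2 := by
      rw [hb, polar_sub_left, polar_smul_left, pzz, pz'z]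
      simp
    rw [e1, inv_mul_cancel₀ (neg_ne_zero.2 (pow_ne_zero 2 hc)), one_smul, hb]
    module
  have haz' : reflE Q a z' = z := by
    rw [reflE_apply, hQa]
    have e3 : polar Q a z' = 1 := by
      rw [ha, polar_sub_left, hzz', pz'z']
      ring
    rw [e3, ha, mul_one, inv_neg, inv_one]
    module
  have hτz : toOG Q τ z = c ^ 2 • z := by
    rw [hτ, map_mul, LinearEquiv.mul_apply, toOG_reflM, toOG_reflM, hbz, map_smul, haz']
  -- `τ y = y`
  have hperp : ∀ v ∈ D i, polar Q v y = 0 := by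
    intro v hv
    rw [polar_pr' hG hv y, hy]
    simp
  have hτy : toOG Q τ y = y := by
    rw [hτ, map_mul, LinearEquiv.mul_apply, toOG_reflM_of_perp (hperp b hbD),
      toOG_reflM_of_perp (hperp a haD)]
  obtain ⟨g, hg, e⟩ := h
  refine ⟨τ * g * τ⁻¹, M.mul_mem (M.mul_mem hτM hg) (M.inv_mem hτM), fun x => ?_⟩
  have e0 : toOG Q τ ((toOG Q τ)⁻¹ x) = x := by
    rw [← LinearEquiv.mul_apply, mul_inv_cancel]
    rfl
  rw [map_mul, map_mul, LinearEquiv.mul_apply, LinearEquiv.mul_apply, e,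
    egen_map Q (toOG_mem_OG Q τ), map_inv, e0, hτz, hτy, egen_smul_left]

/-- C1 -/
theorem inA_of_inE (hS : MS Q M D k) {i : Fin t} {z y : ι → F} (hz : z ∈ D i) (hz0 : z ≠ 0)
    (hQz : Q z = 0) (hy : pr hS.toGeo i y = 0) (h : InE Q M z y) : InA Q M z y := by
  have hG := hS.toGeo
  have h2 : (2 : F) ≠ 0 := hS.h2
  have hzy : polar Q z y = 0 := by
    rw [polar_pr' hG hz y, hy]
    simp
  have hsq : ∀ s : F, InE Q M z (s ^ 2 • y) := by
    intro s
    by_cases hs : s = 0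
    · rw [hs]
      simp only [ne_eq, OfNat.ofNat_ne_zero, not_false_eq_true, zero_pow, zero_smul]
      exact inE_zero z
    · exact inE_sq hS hz hz0 hQz hy h hs
  intro d
  have h1 := hsq ((d + 1) / 2)
  have h2' := inE_neg hQz (by rw [polar_smul_right, hzy, smul_zero]) (hsq ((d - 1) / 2))
  have h3 := inE_add hQz (by rw [polar_smul_right, hzy, smul_zero])
    (by rw [polar_neg_right, polar_smul_right, hzy, smul_zero, neg_zero]) h1 h2'
  have e : ((d + 1) / 2) ^ 2 • y + -(((d - 1) / 2) ^ 2 • y) = d • y := by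
    rw [← neg_smul, ← add_smul]
    congr 1
    field_simp
    ring
  rw [e] at h3
  obtain ⟨g, hg, hgx⟩ := h3
  exact ⟨g, hg, hgx⟩

end Cfsg.Agent.Lib.Helper20.OC2Leaf
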