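import Mathlib
import Cfsg.Agent.Lib.Helper20.NormalRankTwo
import Cfsg.Agent.Lib.Helper11.UniqueSubgroup
import Cfsg.Agent.Lib.Helper19.Index

/-!
# Normal elementary abelian subgroups of order `p ^ 4` (helper20), part A: basic tools

* class two, odd `p`: product of two elements of order dividing `p` has order dividing `p`;
* normal subgroups of every order inside a normal subgroup of exponent `p` of a `p`-group;
* `[V, G] ≤ D` when `D < V` are normal with `|V : D| = p`;
* index of `C_L(e)` divides `|Z|` when `[e, L] ⊆ Z` and `L` centralizes `Z`;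
* `|E : C_E(D)| ≤ p` for `D` normal of exponent `p` and order at most `p ^ 2`.
-/

set_option autoImplicit false

namespace Cfsg.Agent.Lib.Helper20.NR4

open scoped commutatorElement

variable {G : Type*} [Group G]

/-- Class two, odd `p`: if `x ^ p = y ^ p = 1` and `z = (x y)⁻¹ (y x)` commutes with `x`, `y` and
`z ^ p = 1`, then `(x y) ^ p = 1`. -/
theorem mul_pow_prime_eq_one {p : ℕ} (hp : p.Prime) (hp2 : p ≠ 2) {x y : G} (hx : x ^ p = 1)
    (hy : y ^ p = 1) (hzx : Commute ((x * y)⁻¹ * (y * x)) x)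
    (hzy : Commute ((x * y)⁻¹ * (y * x)) y) (hz : ((x * y)⁻¹ * (y * x)) ^ p = 1) :
    (x * y) ^ p = 1 := by
  have h : y * x = x * y * ((x * y)⁻¹ * (y * x)) := by group
  rw [Cfsg.Agent.Lib.Helper11.mul_pow_of_commutator_central h hzx hzy p, hx, hy, one_mul, one_mul]
  have h2 : p ∣ p.choose 2 :=
    hp.dvd_choose_self (by norm_num) (lt_of_le_of_ne hp.two_le (Ne.symm hp2))
  obtain ⟨k, hk⟩ := h2
  rw [hk, pow_mul, hz, one_pow]

/-- One step up: a normal subgroup `D < V` (with `V` normal of exponent `p`) is contained in a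
normal subgroup `D' ≤ V` with `|D'| = p |D|`. -/
theorem exists_normal_succ [Finite G] {p : ℕ} [Fact p.Prime] (hG : IsPGroup p G)
    (V D : Subgroup G) [V.Normal] [D.Normal] (hexp : ∀ x ∈ V, x ^ p = 1) (hDV : D < V) :
    ∃ D' : Subgroup G, D ≤ D' ∧ D' ≤ V ∧ D'.Normal ∧ Nat.card D' = p * Nat.card D := by
  have hp : p.Prime := Fact.out
  haveI : (V.map (QuotientGroup.mk' D)).Normal :=
    Subgroup.Normal.map inferInstance _ (QuotientGroup.mk'_surjective _)
  have hne : V.map (QuotientGroup.mk' D) ≠ ⊥ := by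
    intro h
    rw [Subgroup.map_eq_bot_iff, QuotientGroup.ker_mk'] at h
    exact (not_le_of_gt hDV) h
  obtain ⟨ybar, hyV, hy1, hyc⟩ :=
    Cfsg.Agent.Lib.Helper12.exists_ne_one_mem_center_of_normal (hG.to_quotient D) _ hne
  obtain ⟨y, hyV', rfl⟩ := Subgroup.mem_map.mp hyV
  have hyp : (QuotientGroup.mk' D y) ^ p = 1 := by rw [← map_pow, hexp y hyV', map_one]
  have hKcard : Nat.card (Subgroup.zpowers (QuotientGroup.mk' D y)) = p := by
    rw [Nat.card_zpowers, orderOf_eq_prime hyp hy1]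
  haveI hKn : (Subgroup.zpowers (QuotientGroup.mk' D y)).Normal :=
    Cfsg.Agent.Lib.Helper20.normal_of_le_center' _ (Subgroup.zpowers_le.mpr hyc)
  refine ⟨(Subgroup.zpowers (QuotientGroup.mk' D y)).comap (QuotientGroup.mk' D), ?_, ?_,
    inferInstance, ?_⟩
  · intro d hd
    rw [Subgroup.mem_comap]
    have h1 : QuotientGroup.mk' D d = 1 := (QuotientGroup.eq_one_iff d).mpr hd
    rw [h1]; exact one_mem _
  · intro g hg
    rw [Subgroup.mem_comap, Subgroup.mem_zpowers_iff] at hg
    obtain ⟨k, hk⟩ := hg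
    have h1 : (y ^ k)⁻¹ * g ∈ D := by
      rw [← QuotientGroup.eq_one_iff, ← QuotientGroup.mk'_apply, map_mul, map_inv, map_zpow, hk,
        inv_mul_cancel]
    have h2 : g = y ^ k * ((y ^ k)⁻¹ * g) := by group
    rw [h2]; exact V.mul_mem (V.zpow_mem hyV' k) (hDV.le h1)
  · rw [Cfsg.Agent.Lib.Helper20.card_comap_mk'_eq, hKcard]

/-- A normal subgroup of exponent `p` of a finite `p`-group contains normal subgroups of every
possible order. -/
theorem exists_normal_le_card [Finite G] {p : ℕ} [Fact p.Prime] (hG : IsPGroup p G)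
    (V : Subgroup G) [V.Normal] (hexp : ∀ x ∈ V, x ^ p = 1) :
    ∀ k : ℕ, p ^ k ≤ Nat.card V → ∃ D : Subgroup G, D ≤ V ∧ D.Normal ∧ Nat.card D = p ^ k
  | 0, _ => ⟨⊥, bot_le, inferInstance, by simp⟩
  | k + 1, h => by
    have hp : p.Prime := Fact.out
    obtain ⟨D, hDV, hDn, hDc⟩ := exists_normal_le_card hG V hexp k
      (le_trans (Nat.pow_le_pow_right hp.pos (Nat.le_succ k)) h)
    haveI := hDn
    have hlt : D < V := by
      refine lt_of_le_of_ne hDV ?_
      rintro rfl
      rw [hDc] at h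
      exact absurd h (not_le.mpr (Nat.pow_lt_pow_right hp.one_lt (Nat.lt_succ_self k)))
    obtain ⟨D', _, hD'V, hD'n, hD'c⟩ := exists_normal_succ hG V D hexp hlt
    exact ⟨D', hD'V, hD'n, by rw [hD'c, hDc, pow_succ, mul_comm]⟩

/-- If `D ≤ V` are normal in the `p`-group `G` with `|V| = p |D|` then `[V, G] ≤ D`. -/
theorem comm_mem_of_card_eq_mul [Finite G] {p : ℕ} [Fact p.Prime] (hG : IsPGroup p G)
    (V D : Subgroup G) [V.Normal] [D.Normal] (hDV : D ≤ V) (hcard : Nat.card V = p * Nat.card D)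
    (v : G) (hv : v ∈ V) (g : G) : g * v * g⁻¹ * v⁻¹ ∈ D := by
  haveI : (V.map (QuotientGroup.mk' D)).Normal :=
    Subgroup.Normal.map inferInstance _ (QuotientGroup.mk'_surjective _)
  have h1 : (V.map (QuotientGroup.mk' D)).comap (QuotientGroup.mk' D) = V := by
    rw [Subgroup.comap_map_eq, QuotientGroup.ker_mk']
    exact sup_eq_left.mpr hDV
  have h2 : Nat.card (V.map (QuotientGroup.mk' D)) = p := by
    have h3 := Cfsg.Agent.Lib.Helper20.card_comap_mk'_eq D (V.map (QuotientGroup.mk' D))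
    rw [h1, hcard] at h3
    have hpos : 0 < Nat.card D := Nat.card_pos
    exact (Nat.eq_of_mul_eq_mul_right hpos h3).symm
  have h4 := Cfsg.Agent.Lib.Helper20.le_center_of_normal_of_card_eq_prime (hG.to_quotient D) _ h2
  have h5 : QuotientGroup.mk' D v ∈ Subgroup.center (G ⧸ D) := h4 (Subgroup.mem_map_of_mem _ hv)
  have h6 := Subgroup.mem_center_iff.mp h5 (QuotientGroup.mk' D g)
  rw [← QuotientGroup.eq_one_iff, ← QuotientGroup.mk'_apply, map_mul, map_mul, map_mul, map_inv,
    map_inv, h6, mul_inv_cancel_right, mul_inv_cancel]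

/-- If `v ∈ V \ D` and `|V| = p |D|` then `V = D ⊔ ⟨v⟩`. -/
theorem eq_sup_zpowers [Finite G] {p : ℕ} [Fact p.Prime] (V D : Subgroup G) (hDV : D ≤ V)
    (hcard : Nat.card V = p * Nat.card D) (v : G) (hv : v ∈ V) (hvD : v ∉ D) :
    V = D ⊔ Subgroup.zpowers v := by
  have hp : p.Prime := Fact.out
  have hTV : D ⊔ Subgroup.zpowers v ≤ V := sup_le hDV (Subgroup.zpowers_le.mpr hv)
  obtain ⟨m, hm⟩ := Subgroup.card_dvd_of_le (le_sup_left : D ≤ D ⊔ Subgroup.zpowers v)
  have h2 := Subgroup.card_dvd_of_le hTV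
  rw [hm, hcard, mul_comm p] at h2
  have hpos : 0 < Nat.card D := Nat.card_pos
  have h3 : m ∣ p := (Nat.mul_dvd_mul_iff_left hpos).mp h2
  rcases (Nat.dvd_prime hp).mp h3 with h4 | h4
  · exfalso
    rw [h4, mul_one] at hm
    have h5 : D = D ⊔ Subgroup.zpowers v := Subgroup.eq_of_le_of_card_ge le_sup_left hm.le
    apply hvD
    rw [h5]
    exact (le_sup_right : Subgroup.zpowers v ≤ D ⊔ Subgroup.zpowers v) (Subgroup.mem_zpowers v)
  · rw [h4] at hm
    exact (Subgroup.eq_of_le_of_card_ge hTV (by rw [hm, hcard, mul_comm])).symm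

/-- An element centralizing `D` and `v` centralizes `D ⊔ ⟨v⟩`. -/
theorem mem_centralizer_sup_zpowers (D : Subgroup G) (v g : G)
    (hgD : g ∈ Subgroup.centralizer (D : Set G)) (hgv : g * v = v * g) :
    g ∈ Subgroup.centralizer ((D ⊔ Subgroup.zpowers v : Subgroup G) : Set G) := by
  have h1 : D ⊔ Subgroup.zpowers v ≤ Subgroup.centralizer ({g} : Set G) := by
    apply sup_le
    · intro d hd
      rw [Subgroup.mem_centralizer_iff]
      intro x hx
      rw [Set.mem_singleton_iff] at hx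
      subst hx
      exact (Subgroup.mem_centralizer_iff.mp hgD d hd).symm
    · rw [Subgroup.zpowers_le, Subgroup.mem_centralizer_iff]
      intro x hx
      rw [Set.mem_singleton_iff] at hx
      subst hx
      exact hgv
  rw [Subgroup.mem_centralizer_iff]
  intro h hh
  have h2 := Subgroup.mem_centralizer_iff.mp (h1 hh) g (Set.mem_singleton g)
  exact h2.symm

/-- If `L` centralizes `Z` and `e g e⁻¹ g⁻¹ ∈ Z` for all `g ∈ L`, then `|L : C_L(e)|` divides `|Z|`. -/
theorem relIndex_centralizer_dvd_card' [Finite G] (Z L : Subgroup G) (e : G)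
    (hZ : ∀ g ∈ L, ∀ z ∈ Z, g * z = z * g) (he : ∀ g ∈ L, e * g * e⁻¹ * g⁻¹ ∈ Z) :
    (Subgroup.centralizer ({e} : Set G)).relIndex L ∣ Nat.card Z := by
  let f : L →* Z :=
    { toFun := fun g => ⟨e * g * e⁻¹ * (g : G)⁻¹, he g g.2⟩
      map_one' := by
        apply Subtype.ext
        simp
      map_mul' := by
        intro g h
        apply Subtype.ext
        simp only [Subgroup.coe_mul]
        have h1 := hZ g g.2 _ (he h h.2)
        have h2 : (e * h * e⁻¹ * (h : G)⁻¹) * (g : G)⁻¹ = (g : G)⁻¹ * (e * h * e⁻¹ * (h : G)⁻¹) := by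
          rw [eq_inv_mul_iff_mul_eq, ← mul_assoc, h1, mul_inv_cancel_right]
        calc e * ((g : G) * h) * e⁻¹ * ((g : G) * h)⁻¹
            = e * g * e⁻¹ * ((e * h * e⁻¹ * (h : G)⁻¹) * (g : G)⁻¹) := by group
          _ = e * g * e⁻¹ * ((g : G)⁻¹ * (e * h * e⁻¹ * (h : G)⁻¹)) := by rw [h2]
          _ = e * g * e⁻¹ * (g : G)⁻¹ * (e * h * e⁻¹ * (h : G)⁻¹) := by group }
  have hker : f.ker = (Subgroup.centralizer ({e} : Set G)).subgroupOf L := by
    ext g
    rw [MonoidHom.mem_ker, Subgroup.mem_subgroupOf, Subgroup.mem_centralizer_iff]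
    constructor
    · intro h x hx
      rw [Set.mem_singleton_iff] at hx
      subst hx
      have h1 : x * g * x⁻¹ * (g : G)⁻¹ = 1 := congrArg Subtype.val h
      have h2 : x * g = (x * g * x⁻¹ * (g : G)⁻¹) * (g * x) := by group
      rw [h2, h1, one_mul]
    · intro h
      apply Subtype.ext
      have h1 := h e (Set.mem_singleton e)
      show e * g * e⁻¹ * (g : G)⁻¹ = 1
      rw [h1]; group
  have h1 : (Subgroup.centralizer ({e} : Set G)).relIndex L = Nat.card f.range := by
    rw [Subgroup.relIndex, ← hker, Subgroup.index_ker]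
  rw [h1]
  exact Subgroup.card_subgroup_dvd_card f.range

/-- `|E : C_E(D)| ≤ p` for a normal subgroup `D` of exponent `p` and order at most `p ^ 2`. -/
theorem card_le_mul_card_inf_centralizer [Finite G] {p : ℕ} [Fact p.Prime] (hG : IsPGroup p G)
    (D : Subgroup G) [D.Normal] (hexp : ∀ x ∈ D, x ^ p = 1) (hcard : Nat.card D ≤ p ^ 2)
    (E : Subgroup G) :
    Nat.card E ≤ p * Nat.card (E ⊓ Subgroup.centralizer (D : Set G) : Subgroup G) := by
  have hp : p.Prime := Fact.out
  -- central case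
  have hcentral : D ≤ Subgroup.center G →
      Nat.card E ≤ p * Nat.card (E ⊓ Subgroup.centralizer (D : Set G) : Subgroup G) := by
    intro hc
    have h1 : Subgroup.centralizer (D : Set G) = ⊤ :=
      Subgroup.centralizer_eq_top_iff_subset.mpr hc
    rw [h1, inf_top_eq]
    exact Nat.le_mul_of_pos_left _ hp.pos
  obtain ⟨r, hr⟩ := (hG.to_subgroup D).exists_card_eq
  have hr2 : r ≤ 2 := by
    by_contra hcon
    push Not at hcon
    have : p ^ 2 < p ^ r := Nat.pow_lt_pow_right hp.one_lt hcon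
    omega
  interval_cases r
  · apply hcentral
    rw [pow_zero] at hr
    rw [Subgroup.card_eq_one.mp hr]; exact bot_le
  · apply hcentral
    rw [pow_one] at hr
    exact Cfsg.Agent.Lib.Helper20.le_center_of_normal_of_card_eq_prime hG D hr
  · obtain ⟨D1, hD1D, hD1n, hD1c⟩ := exists_normal_le_card hG D hexp 1 (by
      rw [hr]; exact Nat.pow_le_pow_right hp.pos (by norm_num))
    have := hD1n
    rw [pow_one] at hD1c
    have hD1Z : D1 ≤ Subgroup.center G :=
      Cfsg.Agent.Lib.Helper20.le_center_of_normal_of_card_eq_prime hG D1 hD1c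
    have hcard' : Nat.card D = p * Nat.card D1 := by rw [hr, hD1c, pow_two]
    obtain ⟨d, hdD, hdD1⟩ : ∃ d ∈ D, d ∉ D1 := by
      by_contra hcon
      push Not at hcon
      have h1 : D ≤ D1 := hcon
      have h2 := Subgroup.card_le_of_le h1
      rw [hcard'] at h2
      have hpos : 0 < Nat.card D1 := Nat.card_pos
      have : 2 * Nat.card D1 ≤ p * Nat.card D1 := Nat.mul_le_mul_right _ hp.two_le
      omega
    have hDsup := eq_sup_zpowers D D1 hD1D hcard' d hdD hdD1
    have hcomm : ∀ g : G, ⁅g, d⁆ ∈ D1 := by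
      intro g
      rw [commutatorElement_def]
      exact comm_mem_of_card_eq_mul hG D D1 hD1D hcard' d hdD g
    have h1 := Cfsg.Agent.Lib.Helper20.relIndex_centralizer_dvd_card D1 hD1Z d hcomm E
    rw [hD1c] at h1
    have h2 : (Subgroup.centralizer ({d} : Set G)).relIndex E ≤ p := Nat.le_of_dvd hp.pos h1
    have h3 := Cfsg.Agent.Lib.Helper19.relIndex_mul_card_inf (Subgroup.centralizer ({d} : Set G)) E
    have h4 : (Subgroup.centralizer ({d} : Set G) ⊓ E : Subgroup G) ≤
        E ⊓ Subgroup.centralizer (D : Set G) := by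
      intro g hg
      refine ⟨hg.2, ?_⟩
      rw [hDsup]
      apply mem_centralizer_sup_zpowers
      · rw [Subgroup.mem_centralizer_iff]
        intro x hx
        exact (Subgroup.mem_center_iff.mp (hD1Z hx) g).symm
      · exact (Subgroup.mem_centralizer_iff.mp hg.1 d (Set.mem_singleton d)).symm
    have h5 := Subgroup.card_le_of_le h4
    calc Nat.card E = (Subgroup.centralizer ({d} : Set G)).relIndex E *
          Nat.card (Subgroup.centralizer ({d} : Set G) ⊓ E : Subgroup G) := h3.symm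
      _ ≤ p * Nat.card (E ⊓ Subgroup.centralizer (D : Set G) : Subgroup G) :=
          Nat.mul_le_mul h2 h5

end Cfsg.Agent.Lib.Helper20.NR4
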