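import Mathlib
import Cfsg.Agent.Lib.Helper20.QuatSylow
import Cfsg.Agent.Lib.Helper13.SL2

/-!
Helper lemmas (helper20): `SL₂(3) ≅ Q₈ ⋊ C₃`, concretely; a subgroup `Q ≅ Q₈` normalized but
not centralized by an element of odd order yields a section isomorphic to `SL₂(3)`.
-/

set_option autoImplicit false

namespace Cfsg.Agent.Lib.Helper20.SL23

open QuaternionGroup Cfsg.Agent.Lib.Helper20.Q8

/-- the group `SL₂(3)` -/
abbrev SL := Matrix.SpecialLinearGroup (Fin 2) (ZMod 3)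

/-- an element of order four -/
def mI : SL := ⟨!![0, 1; 2, 0], by decide⟩
/-- a second element of order four -/
def mJ : SL := ⟨!![1, 1; 1, 2], by decide⟩
/-- an element of order three -/
def mC : SL := ⟨!![0, 1; 2, 2], by decide⟩

/-- the embedding of `Q₈` in `SL₂(3)`, as a map -/
def thetaMap : Q8c → SL
  | .a k => mI ^ k.val
  | .xa k => mJ * mI ^ k.val

set_option maxRecDepth 100000 in
theorem thetaMap_mul : ∀ q q' : Q8c, thetaMap (q * q') = thetaMap q * thetaMap q' := by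
  decide

set_option maxRecDepth 100000 in
theorem thetaMap_inj : ∀ q q' : Q8c, thetaMap q = thetaMap q' → q = q' := by
  decide

set_option maxRecDepth 100000 in
theorem thetaMap_sigma : ∀ q : Q8c,
    mC * thetaMap q * mC⁻¹ = thetaMap (stdMap (xa 0) (xa 3) q) := by
  decide

set_option maxRecDepth 100000 in
theorem mC_facts : mC ^ 3 = 1 ∧ mC ≠ 1 := by decide

set_option maxRecDepth 100000 in
theorem sigma_cube_facts :
    stdMap (xa 0) (xa 3) (stdMap (xa 0) (xa 3) (stdMap (xa 0) (xa 3) (a 1))) = (a 1 : Q8c) ∧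
    stdMap (xa 0) (xa 3) (stdMap (xa 0) (xa 3) (stdMap (xa 0) (xa 3) (xa 0))) = (xa 0 : Q8c) := by
  decide

/-- the embedding of `Q₈` in `SL₂(3)` -/
def theta : Q8c →* SL := MonoidHom.mk' thetaMap thetaMap_mul

theorem theta_apply (q : Q8c) : theta q = thetaMap q := rfl

theorem theta_injective : Function.Injective theta := fun q q' h => thetaMap_inj q q' h

theorem theta_sigma (q : Q8c) : mC * theta q * mC⁻¹ = theta (sigma q) := thetaMap_sigma q

theorem orderOf_mC : orderOf mC = 3 :=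
  orderOf_eq_prime mC_facts.1 mC_facts.2

theorem sigma_pow_three : sigma ^ 3 = 1 := by
  apply aut_ext
  · show (sigma ^ 3) (a 1) = a 1
    rw [pow_succ, pow_two, MulAut.mul_apply, MulAut.mul_apply]
    exact sigma_cube_facts.1
  · show (sigma ^ 3) (xa 0) = xa 0
    rw [pow_succ, pow_two, MulAut.mul_apply, MulAut.mul_apply]
    exact sigma_cube_facts.2

theorem sigma_ne_one : sigma ≠ 1 := by
  intro h
  have := sigma_a_one
  rw [h, MulAut.one_apply] at this
  exact absurd this (by decide)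

theorem orderOf_sigma : orderOf sigma = 3 :=
  orderOf_eq_prime sigma_pow_three sigma_ne_one

theorem card_SL23 : Nat.card SL = 24 := by
  haveI : Fact (Nat.Prime 3) := ⟨by norm_num⟩
  rw [Cfsg.Agent.Lib.Helper13.card_SL2, ZMod.card]
  norm_num

/-- a subgroup of `SL₂(3)` containing the image of `Q₈` and the element `mC` is everything -/
theorem eq_top_of_range_le (R : Subgroup SL) (h1 : theta.range ≤ R) (h2 : mC ∈ R) : R = ⊤ := by
  apply Subgroup.eq_top_of_card_eq
  rw [card_SL23]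
  have hd1 : 8 ∣ Nat.card R := by
    have h8 : Nat.card theta.range = 8 := by
      rw [← Nat.card_congr (MonoidHom.ofInjective theta_injective).toEquiv,
        Nat.card_eq_fintype_card, QuaternionGroup.card]
    rw [← h8]; exact Subgroup.card_dvd_of_le h1
  have hd2 : 3 ∣ Nat.card R := by
    have := orderOf_dvd_natCard (⟨mC, h2⟩ : R)
    rwa [Subgroup.orderOf_mk, orderOf_mC] at this
  have hd3 : Nat.card R ∣ 24 := by rw [← card_SL23]; exact Subgroup.card_subgroup_dvd_card R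
  have h24 : 24 ∣ Nat.card R := by
    have : Nat.Coprime 8 3 := by norm_num
    exact this.mul_dvd_of_dvd_of_dvd hd1 hd2
  exact Nat.dvd_antisymm hd3 h24

section Main

variable {G : Type*} [Group G]

/-- A subgroup `Q ≅ Q₈` normalized but not centralized by an element of odd order gives a
section isomorphic to `SL₂(3)`. -/
theorem exists_section (Q : Subgroup G) (hQ2 : IsPGroup 2 Q) (ψ : Q ≃* Q8c) (g : G)
    (hgN : g ∈ Subgroup.normalizer (Q : Set G)) (hodd : Odd (orderOf g))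
    (hgC : g ∉ Subgroup.centralizer (Q : Set G)) :
    ∃ (H K : Subgroup G) (_ : (K.subgroupOf H).Normal),
      Nonempty ((H ⧸ K.subgroupOf H) ≃* SL) := by
  classical
  obtain ⟨α, hα⟩ : ∃ α : MulAut Q, α = conjAut Q g hgN := ⟨_, rfl⟩
  obtain ⟨β, hβdef⟩ : ∃ β : MulAut Q8c, β = MulAut.congr ψ α := ⟨_, rfl⟩
  have hβm : β ^ orderOf g = 1 := by
    rw [hβdef, ← map_pow, hα, conjAut_pow_orderOf, map_one]
  have hβ1 : β ≠ 1 := by
    intro h
    apply hgC
    rw [← conjAut_eq_one_iff _ g hgN, ← hα]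
    apply (MulAut.congr ψ).injective
    rw [map_one, ← hβdef]; exact h
  obtain ⟨γ, hγ⟩ := exists_conj_sigma β (orderOf g) hodd hβm hβ1
  -- the adjusted isomorphism
  obtain ⟨ψ', hψ'⟩ : ∃ ψ' : Q ≃* Q8c, ∀ q : Q, ψ' q = (γ⁻¹ : MulAut Q8c) (ψ q) :=
    ⟨ψ.trans (γ⁻¹ : MulAut Q8c), fun q => rfl⟩
  have hstar : ∀ q : Q, ψ' (α q) = sigma (ψ' q) := by
    intro q
    rw [hψ', hψ', ← hγ, MulAut.mul_apply, MulAut.mul_apply, MulAut.apply_inv_self, hβdef]
    simp [MulAut.congr_apply]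
  have h3 : 3 ∣ orderOf g := by
    have hσm : sigma ^ orderOf g = 1 := by
      have : γ⁻¹ * β * γ = γ⁻¹ * β * (γ⁻¹)⁻¹ := by rw [inv_inv]
      rw [← hγ, this, conj_pow, hβm, mul_one, mul_inv_cancel]
    rw [← orderOf_sigma]; exact orderOf_dvd_of_pow_eq_one hσm
  -- the semidirect product
  have hZN : Subgroup.zpowers g ≤ Subgroup.normalizer (Q : Set G) :=
    (Subgroup.zpowers_le).mpr hgN
  obtain ⟨gZ, hgZ⟩ : ∃ gZ : Subgroup.zpowers g, (gZ : G) = g := ⟨⟨g, Subgroup.mem_zpowers g⟩, rfl⟩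
  have hgen : ∀ x : Subgroup.zpowers g, x ∈ Subgroup.zpowers gZ := by
    intro x
    obtain ⟨k, hk⟩ := Subgroup.mem_zpowers_iff.mp x.2
    refine Subgroup.mem_zpowers_iff.mpr ⟨k, ?_⟩
    apply Subtype.ext
    rw [Subgroup.coe_zpow, hgZ, hk]
  have hordZ : orderOf gZ = orderOf g := by rw [← Subgroup.orderOf_coe, hgZ]
  obtain ⟨fg, hfg⟩ : ∃ fg : Subgroup.zpowers g →* SL, fg gZ = mC :=
    ⟨monoidHomOfForallMemZpowers hgen (g' := mC) (by rw [orderOf_mC, hordZ]; exact h3),
      monoidHomOfForallMemZpowers_apply_gen _ _⟩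
  obtain ⟨fn, hfn⟩ : ∃ fn : Q →* SL, ∀ q : Q, fn q = theta (ψ' q) :=
    ⟨theta.comp ψ'.toMonoidHom, fun q => rfl⟩
  obtain ⟨φ, hφ⟩ : ∃ φ : Subgroup.zpowers g →* MulAut Q,
      φ = (Q.normalizerMonoidHom).comp (Subgroup.inclusion hZN) := ⟨_, rfl⟩
  have hφg : φ gZ = α := by
    rw [hφ, hα]
    ext q
    show (gZ : G) * q * (gZ : G)⁻¹ = g * q * g⁻¹
    rw [hgZ]
  have hP1 : ∀ q : Q, fn (φ gZ q) = fg gZ * fn q * (fg gZ)⁻¹ := by
    intro q
    rw [hφg, hfn, hfn, hstar, hfg, theta_sigma]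
  have hPmul : ∀ x y : Subgroup.zpowers g,
      (∀ q : Q, fn (φ x q) = fg x * fn q * (fg x)⁻¹) →
      (∀ q : Q, fn (φ y q) = fg y * fn q * (fg y)⁻¹) →
      ∀ q : Q, fn (φ (x * y) q) = fg (x * y) * fn q * (fg (x * y))⁻¹ := by
    intro x y hx hy q
    rw [map_mul, MulAut.mul_apply, hx, hy, map_mul, mul_inv_rev]
    group
  have hPinv : ∀ x : Subgroup.zpowers g,
      (∀ q : Q, fn (φ x q) = fg x * fn q * (fg x)⁻¹) →
      ∀ q : Q, fn (φ x⁻¹ q) = fg x⁻¹ * fn q * (fg x⁻¹)⁻¹ := by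
    intro x hx q
    have h1 := hx (φ x⁻¹ q)
    rw [← MulAut.mul_apply, ← map_mul, mul_inv_cancel, map_one, MulAut.one_apply] at h1
    have e : fg x⁻¹ = (fg x)⁻¹ := map_inv fg x
    rw [e, inv_inv, h1]
    group
  have hPz : ∀ k : ℤ, ∀ q : Q, fn (φ (gZ ^ k) q) = fg (gZ ^ k) * fn q * (fg (gZ ^ k))⁻¹ := by
    intro k
    induction k using Int.induction_on with
    | zero =>
      intro q
      rw [zpow_zero, map_one, map_one, MulAut.one_apply]; group
    | succ k ih =>
      rw [zpow_add_one]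
      exact hPmul _ _ ih hP1
    | pred k ih =>
      rw [zpow_sub_one]
      exact hPmul _ _ ih (hPinv _ hP1)
  have hcompat : ∀ z : Subgroup.zpowers g,
      fn.comp (φ z).toMonoidHom = (MulAut.conj (fg z)).toMonoidHom.comp fn := by
    intro z
    obtain ⟨k, hk⟩ := Subgroup.mem_zpowers_iff.mp (hgen z)
    refine MonoidHom.ext fun q => ?_
    show fn (φ z q) = fg z * fn q * (fg z)⁻¹
    rw [← hk]
    exact hPz k q
  subst hφ
  obtain ⟨Φ₀, hΦ₀⟩ : ∃ Φ₀ : Q ⋊[(Q.normalizerMonoidHom).comp (Subgroup.inclusion hZN)]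
      Subgroup.zpowers g →* SL, Φ₀ = SemidirectProduct.lift fn fg hcompat := ⟨_, rfl⟩
  have hΦ₀surj : Function.Surjective Φ₀ := by
    rw [← MonoidHom.range_eq_top]
    apply eq_top_of_range_le
    · rintro _ ⟨q, rfl⟩
      refine ⟨SemidirectProduct.inl (ψ'.symm q), ?_⟩
      rw [hΦ₀, SemidirectProduct.lift_inl, hfn, MulEquiv.apply_symm_apply]
    · refine ⟨SemidirectProduct.inr gZ, ?_⟩
      rw [hΦ₀, SemidirectProduct.lift_inr, hfg]
  -- the embedding into `G`
  obtain ⟨F, hF⟩ : ∃ F : Q ⋊[(Q.normalizerMonoidHom).comp (Subgroup.inclusion hZN)]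
      Subgroup.zpowers g →* G, F = SemidirectProduct.monoidHomSubgroup hZN := ⟨_, rfl⟩
  have hFinj : Function.Injective F := by
    rw [injective_iff_map_eq_one]
    intro x hx
    rw [hF, SemidirectProduct.monoidHomSubgroup_apply] at hx
    have h1 : (x.left : G) = ((x.right : G))⁻¹ := eq_inv_of_mul_eq_one_left hx
    obtain ⟨k, hk⟩ := IsPGroup.iff_orderOf.mp hQ2 x.left
    have h2 : orderOf (x.left : G) = 2 ^ k := by rw [Subgroup.orderOf_coe, hk]
    have h3' : orderOf ((x.right : G)) ∣ orderOf g :=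
      orderOf_dvd_of_mem_zpowers x.right.2
    have h4 : orderOf (x.left : G) ∣ orderOf g := by rw [h1, orderOf_inv]; exact h3'
    have h5 : orderOf (x.left : G) = 1 := by
      have hcop : Nat.Coprime (2 ^ k) (orderOf g) :=
        Nat.Coprime.pow_left k (Nat.coprime_two_left.mpr hodd)
      rw [h2] at h4 ⊢
      exact Nat.Coprime.eq_one_of_dvd hcop h4
    have h6 : (x.left : G) = 1 := orderOf_eq_one_iff.mp h5
    have h7 : (x.right : G) = 1 := by
      rw [h6] at h1
      exact inv_eq_one.mp h1.symm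
    ext
    · exact h6
    · exact h7
  obtain ⟨iso, hiso⟩ : ∃ iso : (Q ⋊[(Q.normalizerMonoidHom).comp (Subgroup.inclusion hZN)]
      Subgroup.zpowers g) ≃* F.range, iso = MonoidHom.ofInjective hFinj := ⟨_, rfl⟩
  obtain ⟨Φ, hΦ⟩ : ∃ Φ : F.range →* SL, Φ = Φ₀.comp iso.symm.toMonoidHom := ⟨_, rfl⟩
  have hΦsurj : Function.Surjective Φ := by
    rw [hΦ]
    exact hΦ₀surj.comp iso.symm.surjective
  have hKeq : ((Φ.ker).map F.range.subtype).subgroupOf F.range = Φ.ker :=
    Subgroup.comap_map_eq_self_of_injective (Subgroup.subtype_injective _) _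
  have hKn : (((Φ.ker).map F.range.subtype).subgroupOf F.range).Normal := by
    rw [hKeq]; exact MonoidHom.normal_ker Φ
  refine ⟨F.range, (Φ.ker).map F.range.subtype, hKn, ⟨?_⟩⟩
  exact (QuotientGroup.quotientMulEquivOfEq hKeq).trans
    (QuotientGroup.quotientKerEquivOfSurjective Φ hΦsurj)

end Main

end Cfsg.Agent.Lib.Helper20.SL23
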