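import Mathlib
import Cfsg.Agent.Lib.Helper27.GGDefs

/-!
# S2318 leaf B2 (helper20): `c(s n) = c(s) c(n)` when `ℓ(s w) > ℓ(w)`
-/

set_option autoImplicit false

namespace Cfsg.Agent.Lib.Helper20.GG

open Cfsg Cfsg.Agent.Lib.Helper3.BN Cfsg.Agent.Lib.Helper3.WordLen Cfsg.Agent.Lib.Helper6.BNSt
open Cfsg.Agent.Lib.Helper27.GG
open scoped ComplexConjugate

variable {G : Type*} [Group G] [Finite G] {P : Cfsg.BNPair G} {U : Subgroup G} {q : ℕ}

/-- the `U`-average of a constant function -/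
theorem avg_const (U : Subgroup G) (f : U → ℂ) (a : ℂ) (hf : ∀ u, f u = a) :
    (Nat.card U : ℂ)⁻¹ * ∑ᶠ u : U, f u = a := by
  classical
  haveI : Fintype U := Fintype.ofFinite U
  rw [finsum_eq_sum_of_fintype]
  simp only [hf, Finset.sum_const, Finset.card_univ, nsmul_eq_mul]
  rw [Nat.card_eq_fintype_card, ← mul_assoc, inv_mul_cancel₀, one_mul]
  exact_mod_cast Fintype.card_ne_zero

/-- **B2**. `c(s) c(n) = |U|⁻¹ Σ_u c(s u n)`, `u = y x`, `s y x n = (s y s⁻¹) (s n) (n⁻¹ x n)`. -/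
theorem sph_mul_of_lt (R : SplitBN P U q) {c : G → ℂ} (hc : IsSph U c) (i : R.ι)
    (hs : R.sOf i ∈ P.S) (n : G) (hn : n ∈ P.N)
    (hlt : len (Sbar P) (mkW P n hn) < len (Sbar P) (sb P (R.sOf i) hs * mkW P n hn)) :
    c (R.sOf i * n) = c (R.sOf i) * c n := by
  rw [← hc.conv (R.sOf i) n]
  symm
  apply avg_const
  intro u
  obtain ⟨y, hy, x, hx, hux⟩ := R.hXU i (u : G) u.2
  have h1 : R.sOf i * y * (R.sOf i)⁻¹ ∈ U := R.hsUs i y hy
  have h2 : n⁻¹ * x * n ∈ U := R.hpos i hs n hn hlt x hx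
  have e : R.sOf i * (u : G) * n = (R.sOf i * y * (R.sOf i)⁻¹) * ((R.sOf i * n) * (n⁻¹ * x * n)) := by
    rw [hux]
    group
  rw [e, hc.left _ h1, hc.right _ h2]

end Cfsg.Agent.Lib.Helper20.GG
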