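import Mathlib
import Cfsg.Agent.Lib.Helper27.GGDefs
import Cfsg.Agent.Lib.Helper20.GGB2
import Cfsg.Agent.Lib.Helper27.GGRankOne

/-!
# S2318 leaf B4 (helper20): `1 ≤ q^ℓ(w) ‖c(n_w)‖`
-/

set_option autoImplicit false

namespace Cfsg.Agent.Lib.Helper20.GG

open Cfsg Cfsg.Agent.Lib.Helper3.BN Cfsg.Agent.Lib.Helper3.WordLen Cfsg.Agent.Lib.Helper6.BNSt
open Cfsg.Agent.Lib.Helper27.GG
open scoped ComplexConjugate

variable {G : Type*} [Group G] [Finite G] {P : Cfsg.BNPair G} {U : Subgroup G} {q : ℕ}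

/-- **B4** with B1 and B3 (first part) as hypotheses. Induction on `ℓ(mkW n)` with `exists_cons`, B2. -/
theorem sph_lower_of (R : SplitBN P U q) {c : G → ℂ} (hc : IsSph U c)
    (hB1 : ∀ h ∈ P.B ⊓ P.N, (∀ g, c (h * g) = c h * c g) ∧ (∀ g, c (g * h) = c g * c h) ∧ ‖c h‖ = 1)
    (hB3 : ∀ i : R.ι, 1 ≤ (q : ℝ) * ‖c (R.sOf i)‖)
    (n : G) (hn : n ∈ P.N) :
    1 ≤ (q : ℝ) ^ (len (Sbar P) (mkW P n hn)) * ‖c n‖ := by
  have hS := Sbar_sq P
  have hgen := Sbar_closure P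
  have key : ∀ k : ℕ, ∀ (n : G) (hn : n ∈ P.N), len (Sbar P) (mkW P n hn) = k →
      1 ≤ (q : ℝ) ^ k * ‖c n‖ := by
    intro k
    induction k with
    | zero =>
      intro n hn hk
      rw [len_eq_zero_iff hS hgen, mkW_eq_one_iff] at hk
      have h1 := (hB1 n ⟨hk, hn⟩).2.2
      rw [pow_zero, one_mul, h1]
    | succ k ih =>
      intro n hn hk
      obtain ⟨sbar, hsbar, hlen⟩ := exists_cons hS hgen hk
      obtain ⟨s, hs, rfl⟩ := hsbar
      have hsN : s ∈ P.N := P.subset hs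
      have hsr : s ∈ Set.range R.sOf := by rw [← R.hS]; exact hs
      obtain ⟨i, rfl⟩ := hsr
      -- `n' = s n`
      have hn' : R.sOf i * n ∈ P.N := P.N.mul_mem hsN hn
      have hmk : mkW P (R.sOf i * n) hn' = sb P (R.sOf i) hs * mkW P n hn := rfl
      have hlen' : len (Sbar P) (mkW P (R.sOf i * n) hn') = k := by rw [hmk]; exact hlen
      have ih' := ih (R.sOf i * n) hn' hlen'
      -- B2 for `(s, n')`
      have hlt : len (Sbar P) (mkW P (R.sOf i * n) hn') <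
          len (Sbar P) (sb P (R.sOf i) hs * mkW P (R.sOf i * n) hn') := by
        rw [hlen', hmk, sb_mul_cancel, hk]
        omega
      have h2 := sph_mul_of_lt R hc i hs (R.sOf i * n) hn' hlt
      -- `s * (s * n) = s² n`, `s² ∈ H`
      have hsq : R.sOf i * R.sOf i ∈ P.B ⊓ P.N := ⟨P.sq_mem _ hs, P.N.mul_mem hsN hsN⟩
      have hH := hB1 (R.sOf i * R.sOf i) hsq
      have h3 : c (R.sOf i * (R.sOf i * n)) = c (R.sOf i * R.sOf i) * c n := by
        rw [← mul_assoc]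
        exact hH.1 n
      have h4 : ‖c n‖ = ‖c (R.sOf i)‖ * ‖c (R.sOf i * n)‖ := by
        have : ‖c (R.sOf i * R.sOf i) * c n‖ = ‖c (R.sOf i) * c (R.sOf i * n)‖ := by
          rw [← h3, h2]
        rw [norm_mul, norm_mul, hH.2.2, one_mul] at this
        exact this
      have h5 := hB3 i
      rw [h4, pow_succ]
      have e : (q : ℝ) ^ k * q * (‖c (R.sOf i)‖ * ‖c (R.sOf i * n)‖) =
          ((q : ℝ) * ‖c (R.sOf i)‖) * ((q : ℝ) ^ k * ‖c (R.sOf i * n)‖) := by ring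
      rw [e]
      exact one_le_mul_of_one_le_of_one_le h5 ih'
  exact key _ n hn rfl

/-- **B4**. Induction on `ℓ(mkW n)` with `exists_cons`, B2, B3 (first part), B1 (change of
representative). -/
theorem sph_lower (R : SplitBN P U q) {c : G → ℂ} (hc : IsSph U c) (n : G) (hn : n ∈ P.N) :
    1 ≤ (q : ℝ) ^ (len (Sbar P) (mkW P n hn)) * ‖c n‖ :=
  sph_lower_of R hc (Cfsg.Agent.Lib.Helper27.GG.sph_H R hc)
    (fun i => (Cfsg.Agent.Lib.Helper27.GG.sph_rank_one R hc i).1) n hn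

end Cfsg.Agent.Lib.Helper20.GG
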