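import Mathlib
import Cfsg.Agent.Lib.Helper27.GGDefs
import Cfsg.Agent.Lib.Helper27.GGRankOne
import Cfsg.Agent.Lib.Helper20.GGB4
import Cfsg.Agent.Lib.Helper14.GGB6
import Cfsg.Agent.Lib.Helper7.BNCount
import Cfsg.Agent.Lib.Helper6.BNRedB
import Cfsg.Agent.Lib.Helper3.BNSimple
import Cfsg.Agent.Lib.Helper29.GGB5

/-!
# S2318 leaf B7 (helper20, spare): extremality `q ‖c(s)‖ = 1`
-/

set_option autoImplicit false

namespace Cfsg.Agent.Lib.Helper20.GG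

open Cfsg Cfsg.Agent.Lib.Helper3.BN Cfsg.Agent.Lib.Helper3.WordLen Cfsg.Agent.Lib.Helper6.BNSt
open Cfsg.Agent.Lib.Helper6.CoxRed Cfsg.Agent.Lib.Helper27.GG
open scoped ComplexConjugate

variable {G : Type*} [Group G] [Finite G] {P : Cfsg.BNPair G} {U : Subgroup G} {q : ℕ}

/-- **B7** with B5 as a hypothesis -/
theorem sph_extremal_of (R : SplitBN P U q) {c : G → ℂ} (hc : IsSph U c) [Fintype (W P)]
    (hB5 : ∑ᶠ g : G, ‖c g‖ ^ 2 = ∑ w : W P, (Nat.card (C P w) : ℝ) * ‖c (repW P w)‖ ^ 2)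
    (hnorm : ∑ᶠ g : G, c g * c g⁻¹ = (Nat.card G : ℂ) / (Nat.card U : ℂ)) (i : R.ι) :
    (q : ℝ) * ‖c (R.sOf i)‖ = 1 := by
  classical
  have hS := Sbar_sq P
  have hgen := Sbar_closure P
  have hq2 := R.hq
  have hqpos : (0 : ℝ) < q := by exact_mod_cast (by omega : 0 < q)
  set L := len (Sbar P) (w0 P) with hL
  -- (1) `Σ_g ‖c g‖² = |G| / |U|`
  have h1 : ∑ᶠ g : G, ‖c g‖ ^ 2 = (Nat.card G : ℝ) / (Nat.card U : ℝ) := by
    have : Fintype G := Fintype.ofFinite G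
    rw [finsum_eq_sum_of_fintype] at hnorm ⊢
    have e : ∀ g : G, c g * c g⁻¹ = ((‖c g‖ ^ 2 : ℝ) : ℂ) := by
      intro g
      rw [hc.inv g, Complex.mul_conj, Complex.normSq_eq_norm_sq]
    simp only [e] at hnorm
    rw [← Complex.ofReal_sum] at hnorm
    have : ((∑ g : G, ‖c g‖ ^ 2 : ℝ) : ℂ) = (((Nat.card G : ℝ) / (Nat.card U : ℝ) : ℝ) : ℂ) := by
      rw [hnorm]
      push_cast
      rfl
    exact Complex.ofReal_injective this
  -- (3) cell sizes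
  have hcq : ∀ s, ∀ hs : s ∈ P.S, Nat.card (C P (sb P s hs)) = q * Nat.card P.B := by
    intro s hs
    have hsr : s ∈ Set.range R.sOf := by rw [← R.hS]; exact hs
    obtain ⟨j, rfl⟩ := hsr
    exact R.hcardC j hs
  have hcell : ∀ w : W P, (Nat.card (C P w) : ℝ) =
      (q : ℝ) ^ (len (Sbar P) w) * (Nat.card P.B : ℝ) := by
    intro w
    have := Cfsg.Agent.Lib.Helper7.card_C P q hcq _ w rfl
    rw [this]
    push_cast
    rfl
  have hBpos : (0 : ℝ) < (Nat.card P.B : ℝ) := by exact_mod_cast Nat.card_pos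
  -- `|G| = |B| Σ q^ℓ`, `|U| = q^L`
  have hG : (Nat.card G : ℝ) = ∑ w : W P, (q : ℝ) ^ (len (Sbar P) w) * (Nat.card P.B : ℝ) := by
    have := Cfsg.Agent.Lib.Helper7.card_eq_sum_cells P
    rw [this]
    push_cast
    exact Finset.sum_congr rfl (fun w _ => hcell w)
  have hU : (Nat.card U : ℝ) = (q : ℝ) ^ L := by
    rw [R.hcardU]
    push_cast
    rfl
  -- B6: `q^ℓ(w₀ w) q^ℓ(w) = q^L`
  have hB6 : ∀ w : W P, (q : ℝ) ^ (len (Sbar P) (w0 P * w)) * (q : ℝ) ^ (len (Sbar P) w) = (q : ℝ) ^ L := by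
    intro w
    rw [← pow_add, Cfsg.Agent.Lib.Helper14.GG.len_w0_mul P w]
  -- `|G| / |U| = |B| Σ_w 1 / q^ℓ(w)`
  have hGU : (Nat.card G : ℝ) / (Nat.card U : ℝ) =
      ∑ w : W P, (Nat.card P.B : ℝ) / (q : ℝ) ^ (len (Sbar P) w) := by
    rw [hG, hU, Finset.sum_div]
    rw [← Equiv.sum_comp (Equiv.mulLeft (w0 P))]
    apply Finset.sum_congr rfl
    intro w _
    simp only [Equiv.coe_mulLeft]
    have hp1 : (q : ℝ) ^ (len (Sbar P) w) ≠ 0 := pow_ne_zero _ hqpos.ne'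
    have hp2 : (q : ℝ) ^ L ≠ 0 := pow_ne_zero _ hqpos.ne'
    rw [div_eq_div_iff hp2 hp1, ← hB6 w]
    ring
  -- the lower bounds
  have ha : ∀ w : W P, 1 ≤ (q : ℝ) ^ (len (Sbar P) w) * ‖c (repW P w)‖ := by
    intro w
    have := sph_lower R hc (repW P w) (repW_mem P w)
    rwa [mkW_repW] at this
  -- the sum of nonnegative terms vanishes
  have hsum : ∑ w : W P, ((Nat.card P.B : ℝ) / (q : ℝ) ^ (len (Sbar P) w)) *
      (((q : ℝ) ^ (len (Sbar P) w) * ‖c (repW P w)‖) ^ 2 - 1) = 0 := by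
    have e : ∀ w : W P, ((Nat.card P.B : ℝ) / (q : ℝ) ^ (len (Sbar P) w)) *
        (((q : ℝ) ^ (len (Sbar P) w) * ‖c (repW P w)‖) ^ 2 - 1) =
        (Nat.card (C P w) : ℝ) * ‖c (repW P w)‖ ^ 2 -
          (Nat.card P.B : ℝ) / (q : ℝ) ^ (len (Sbar P) w) := by
      intro w
      have hp1 : (q : ℝ) ^ (len (Sbar P) w) ≠ 0 := pow_ne_zero _ hqpos.ne'
      rw [hcell w]
      field_simp
    simp only [e]
    rw [Finset.sum_sub_distrib, ← hB5, h1, hGU, sub_self]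
  have hnonneg : ∀ w ∈ (Finset.univ : Finset (W P)), 0 ≤ ((Nat.card P.B : ℝ) / (q : ℝ) ^ (len (Sbar P) w)) *
      (((q : ℝ) ^ (len (Sbar P) w) * ‖c (repW P w)‖) ^ 2 - 1) := by
    intro w _
    apply mul_nonneg
    · exact div_nonneg hBpos.le (pow_nonneg hqpos.le _)
    · have := ha w
      nlinarith
  have hzero := (Finset.sum_eq_zero_iff_of_nonneg hnonneg).mp hsum
  -- the cell of `s`
  have hs : R.sOf i ∈ P.S := sOf_mem R i
  have hsN : R.sOf i ∈ P.N := P.subset hs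
  set w := sb P (R.sOf i) hs with hw
  have hz := hzero w (Finset.mem_univ w)
  have hlen : len (Sbar P) w = 1 := len_sb P hs
  have haw : (q : ℝ) ^ (len (Sbar P) w) * ‖c (repW P w)‖ = 1 := by
    have h5 : ((q : ℝ) ^ (len (Sbar P) w) * ‖c (repW P w)‖) ^ 2 - 1 = 0 := by
      rcases mul_eq_zero.mp hz with h6 | h6
      · exfalso
        have : (Nat.card P.B : ℝ) / (q : ℝ) ^ (len (Sbar P) w) ≠ 0 :=
          div_ne_zero hBpos.ne' (pow_ne_zero _ hqpos.ne')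
        exact this h6
      · exact h6
    have h7 := ha w
    nlinarith
  rw [hlen, pow_one] at haw
  -- `repW w = s h` with `h ∈ H`
  have hmk : mkW P (R.sOf i) hsN = mkW P (repW P w) (repW_mem P w) := by
    rw [mkW_repW]
    rfl
  rw [mkW_eq_iff] at hmk
  have hH : (R.sOf i)⁻¹ * repW P w ∈ P.B ⊓ P.N :=
    ⟨hmk, P.N.mul_mem (P.N.inv_mem hsN) (repW_mem P w)⟩
  have hB1 := sph_H R hc _ hH
  have e2 : repW P w = R.sOf i * ((R.sOf i)⁻¹ * repW P w) := by group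
  have h8 : ‖c (repW P w)‖ = ‖c (R.sOf i)‖ := by
    rw [e2, hB1.2.1, norm_mul, hB1.2.2, mul_one]
  rw [h8] at haw
  exact haw

/-- **B7** (extremality). `|G|/|U| = Σ_g ‖c g‖² = Σ_w q^{ℓ w} |B| ‖c(n_w)‖² ≥ |B| Σ_w q^{-ℓ w} =
|B| q^{-ℓ w₀} Σ_w q^{ℓ w} = |G|/|U|`, so every term is extremal; take `w = sb s`. -/
theorem sph_extremal (R : SplitBN P U q) {c : G → ℂ} (hc : IsSph U c)
    (hnorm : ∑ᶠ g : G, c g * c g⁻¹ = (Nat.card G : ℂ) / (Nat.card U : ℂ)) (i : R.ι) :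
    (q : ℝ) * ‖c (R.sOf i)‖ = 1 := by
  classical
  letI : Fintype (W P) := Fintype.ofFinite _
  exact sph_extremal_of R hc (Cfsg.Agent.Lib.Helper29.GG.sph_sum_cells R hc) hnorm i

end Cfsg.Agent.Lib.Helper20.GG
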