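import Cfsg.Agent.Lib.Helper20.A8SubI

/-!
A simple group of order `n!/2` with a subgroup of index `n` is `Aₙ` (glue lemma, e.g. for
order `2520` and index `7`).
-/

set_option autoImplicit false

namespace Cfsg.Agent.Lib.Helper20.A8Sub

open Equiv Equiv.Perm Subgroup

/-- a finite simple group of non-prime order is not solvable. -/
theorem not_isSolvable_of_simple_of_not_prime {G : Type*} [Group G] [Finite G] [IsSimpleGroup G]
    (h : ¬ (Nat.card G).Prime) : ¬ Group.IsSolvable G := by
  intro hs
  have hcomm : ∀ a b : G, a * b = b * a := IsSimpleGroup.comm_iff_isSolvable.mpr hs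
  let _ : CommGroup G := { (inferInstance : Group G) with mul_comm := hcomm }
  exact h IsSimpleGroup.prime_card

/-- a non-solvable simple group of order `n!/2` with a subgroup of index `n` is `Aₙ`. -/
theorem iso_alt_of_index {G : Type*} [Group G] [Finite G] [IsSimpleGroup G] (n : ℕ) (hn2 : 2 ≤ n)
    (hG : 2 * Nat.card G = n.factorial) (hns : ¬ Group.IsSolvable G) (H : Subgroup G)
    (hH : H.index = n) : Nonempty (G ≃* alternatingGroup (Fin n)) := by
  classical
  let _ : Fintype (G ⧸ H) := Fintype.ofFinite _
  let ρ : G →* Perm (G ⧸ H) := MulAction.toPermHom G (G ⧸ H)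
  have hcard : Fintype.card (G ⧸ H) = n := by
    rw [← Nat.card_eq_fintype_card, ← Subgroup.index_eq_card, hH]
  have hker : ρ.ker = ⊥ := by
    rcases ρ.normal_ker.eq_bot_or_eq_top with h | h
    · exact h
    · exfalso
      have hHtop : H = ⊤ := by
        rw [eq_top_iff]
        intro g _
        have hg : g ∈ ρ.ker := by rw [h]; trivial
        rw [MonoidHom.mem_ker] at hg
        have h1 : ρ g ((1 : G) : G ⧸ H) = ((1 : G) : G ⧸ H) := by rw [hg]; rfl
        have h2 : ρ g ((1 : G) : G ⧸ H) = ((g * 1 : G) : G ⧸ H) := rfl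
        rw [h2, mul_one] at h1
        have h3 := QuotientGroup.eq.mp h1
        have h4 : g⁻¹ ∈ H := by simpa using h3
        simpa using H.inv_mem h4
      rw [hHtop, Subgroup.index_top] at hH
      omega
  have hρ : Function.Injective ρ := (MonoidHom.ker_eq_bot_iff ρ).mp hker
  exact nonempty_iso_alt ρ hρ n hcard hn2 hG (fun g => sign_eq_one_of_simple hns ρ g)

/-- a simple group of order `2520` with a subgroup of index `7` is `A₇`. -/
theorem iso_alt7_of_index_seven {G : Type*} [Group G] [Finite G] [IsSimpleGroup G]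
    (hG : Nat.card G = 2520) (H : Subgroup G) (hH : H.index = 7) :
    Nonempty (G ≃* alternatingGroup (Fin 7)) := by
  refine iso_alt_of_index 7 (by norm_num) ?_ ?_ H hH
  · rw [hG]; rfl
  · apply not_isSolvable_of_simple_of_not_prime
    rw [hG]; norm_num

end Cfsg.Agent.Lib.Helper20.A8Sub
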