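import Mathlib
import Cfsg.Prelude.Def_GeometricClasses
import Cfsg.Agent.Lib.Helper5.TMCalc
import Cfsg.Agent.Lib.Helper18.C2Defs
import Cfsg.Agent.Lib.Helper18.C2Ex
import Cfsg.Agent.Lib.Helper18.C2L1

/-!
# S5634, m ≥ 2: leaf L4a (one cross-block pure transvection gives all for that ordered pair of blocks)
-/

set_option autoImplicit false
set_option linter.unusedSectionVars false
set_option linter.unusedVariables false

namespace Cfsg.Agent.Lib.Helper20.C2Leaf
open Cfsg Matrix Cfsg.Agent.Lib.Helper5.TMCalc Cfsg.Agent.Lib.Helper18.C2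

variable {F : Type*} [Field F] {n t m : ℕ} {D : Fin t → Submodule F (Fin n → F)}

/-- L4a: one cross-block pure transvection gives all transvections for that ordered pair of blocks. -/
theorem full_of_cross (hD : Cfsg.Geo.IsMDecomposition m D) (hm : 2 ≤ m)
    {M : Subgroup (GL (Fin n) F)} (hHM : Hs D ≤ M) {k i : Fin t} (hki : k ≠ i)
    {z : Fin n → F} (hz : z ∈ D k) (hz0 : z ≠ 0) {φ : (Fin n → F) →ₗ[F] F} (hφ0 : φ ≠ 0)
    (hφ : InBlock D i φ) (hT : TM M φ z) : Full D M k i := by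
  have hφk : ∀ x ∈ D k, φ x = 0 := fun x hx => hφ k hki x hx
  -- (A1a) centres `x'` with `z ∉ F x'`
  have A1a : ∀ x' ∈ D k, (∀ c : F, z ≠ c • x') → TM M φ x' := by
    intro x' hx' hsep
    obtain ⟨φ', hφ', h0, h1⟩ := exists_inBlock_sep hD hx' hz hsep
    have hT' : TM M φ' x' :=
      TM_mono hHM (Cfsg.Agent.Lib.Helper18.C2Leaf.inblock_TM hD hx' hφ' h0)
    have := TM_comm hT' hT (hφk x' hx')
    rw [h1, one_smul] at this
    exact this
  obtain ⟨φ'', hφ'', hφ''z⟩ := exists_inBlock_one hD hz hz0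
  obtain ⟨w, hw, hw0, hφ''w⟩ := exists_ne_zero_kill1 hD hm k φ''
  -- (A1) all centres in `D k`
  have A1 : ∀ x' ∈ D k, TM M φ x' := by
    intro x' hx'
    by_cases hsep : ∀ c : F, z ≠ c • x'
    · exact A1a x' hx' hsep
    · push Not at hsep
      obtain ⟨c, hc⟩ := hsep
      have hw1 : TM M φ w := A1a w hw (fun c' hh => by
        have := congrArg φ'' hh
        rw [hφ''z, map_smul, hφ''w, smul_zero] at this
        exact one_ne_zero this)
      have hw2 : TM M φ (x' + w) := A1a (x' + w) ((D k).add_mem hx' hw) (fun c' hh => by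
        have e1 := congrArg φ'' hh
        have e2 := congrArg φ'' hc
        rw [hφ''z, map_smul, map_add, hφ''w, add_zero, smul_eq_mul] at e1
        rw [hφ''z, map_smul, smul_eq_mul] at e2
        have hne : φ'' x' ≠ 0 := by
          intro h0; rw [h0, mul_zero] at e2; exact one_ne_zero e2
        have hcc : c' = c := by
          apply mul_right_cancel₀ hne; rw [← e1, ← e2]
        rw [hcc, smul_add, ← hc] at hh
        have hcw : c • w = 0 := by
          have h2 : z + c • w = z + 0 := by rw [add_zero]; exact hh.symm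
          exact add_left_cancel h2
        rcases smul_eq_zero.mp hcw with h | h
        · rw [h, zero_smul] at hc; exact hz0 hc
        · exact hw0 h)
      have := TM_sub_center hw2 hw1
      rwa [add_sub_cancel_right] at this
  -- a vector `x₀ ∈ D i` with `φ x₀ = 1`
  obtain ⟨v, hv⟩ : ∃ v, φ v ≠ 0 := by
    by_contra hcon
    push Not at hcon
    exact hφ0 (LinearMap.ext hcon)
  rw [hφ.apply hD] at hv
  have hx₀i : (φ (pr hD i v))⁻¹ • pr hD i v ∈ D i := (D i).smul_mem _ (pr_mem hD i v)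
  have hφx₀ : φ ((φ (pr hD i v))⁻¹ • pr hD i v) = 1 := by
    rw [map_smul, smul_eq_mul, inv_mul_cancel₀ hv]
  generalize (φ (pr hD i v))⁻¹ • pr hD i v = x₀ at hx₀i hφx₀
  -- (A2) all functionals in block `i`
  intro x' hx' ψ hψ
  have hψ₁b : InBlock D i (ψ - ψ x₀ • φ) := by
    rw [sub_eq_add_neg]; exact hψ.add ((hφ.smul _).neg)
  have hψ₁x₀ : (ψ - ψ x₀ • φ) x₀ = 0 := by
    rw [LinearMap.sub_apply, LinearMap.smul_apply, hφx₀, smul_eq_mul, mul_one, sub_self]
  have hT1 : TM M (ψ - ψ x₀ • φ) x₀ :=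
    TM_mono hHM (Cfsg.Agent.Lib.Helper18.C2Leaf.inblock_TM hD hx₀i hψ₁b hψ₁x₀)
  have hT2 := TM_comm (A1 x' hx') hT1 (hψ₁b k hki x' hx')
  rw [hφx₀, one_smul] at hT2
  have hT3 : TM M (ψ x₀ • φ) x' := TM_center_smul (A1 _ ((D k).smul_mem _ hx'))
  have hT4 := TM_add hT2 hT3
  refine TM_of_eq (fun u => ?_) hT4
  rw [LinearMap.add_apply, LinearMap.sub_apply, sub_add_cancel]

end Cfsg.Agent.Lib.Helper20.C2Leaf
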