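import Mathlib
import Cfsg.Prelude.Def_GeometricClasses
import Cfsg.Agent.Lib.Helper5.TMCalc
import Cfsg.Agent.Lib.Helper18.C2Defs
import Cfsg.Agent.Lib.Helper18.C2Ex
import Cfsg.Agent.Lib.Helper18.C2L1

/-!
# S5634, m ≥ 2: leaf L4e (all cross-block pure transvections give all transvections)
-/

set_option autoImplicit false
set_option linter.unusedSectionVars false
set_option linter.unusedVariables false

namespace Cfsg.Agent.Lib.Helper20.C2Leaf
open Cfsg Matrix Cfsg.Agent.Lib.Helper5.TMCalc Cfsg.Agent.Lib.Helper18.C2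

variable {F : Type*} [Field F] {n t m : ℕ} {D : Fin t → Submodule F (Fin n → F)}

/-- (D1) pure centre, arbitrary functional -/
lemma TM_of_full_pure (hD : Cfsg.Geo.IsMDecomposition m D) {M : Subgroup (GL (Fin n) F)}
    (hHM : Hs D ≤ M) (h : ∀ k i : Fin t, k ≠ i → Full D M k i) {k : Fin t} {z : Fin n → F}
    (hz : z ∈ D k) (s : (Fin n → F) →ₗ[F] F) (hsz : s z = 0) : TM M s z := by
  have hsum : TM M (∑ i, s ∘ₗ pr hD i) z := by
    apply TM_sum
    intro i _
    by_cases hik : i = k
    · subst hik
      refine TM_mono hHM (Cfsg.Agent.Lib.Helper18.C2Leaf.inblock_TM hD hz (inBlock_comp_pr hD i s) ?_)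
      rw [LinearMap.comp_apply, pr_same hD hz, hsz]
    · exact h k i (Ne.symm hik) z hz _ (inBlock_comp_pr hD i s)
  rwa [sum_comp_pr hD s] at hsum

/-- (D2) arbitrary centre, by induction on the set of blocks supporting it -/
lemma TM_of_full_supp (hD : Cfsg.Geo.IsMDecomposition m D) {M : Subgroup (GL (Fin n) F)}
    (hHM : Hs D ≤ M) (h : ∀ k i : Fin t, k ≠ i → Full D M k i) (S : Finset (Fin t)) :
    ∀ a : Fin n → F, (∀ j, j ∉ S → pr hD j a = 0) → ∀ s : (Fin n → F) →ₗ[F] F, s a = 0 →
      TM M s a := by
  classical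
  induction S using Finset.induction_on with
  | empty =>
    intro a ha s hsa
    have ha0 : a = 0 := by
      rw [← sum_pr hD a]
      apply Finset.sum_eq_zero
      intro j _
      exact ha j (Finset.notMem_empty j)
    rw [ha0]
    exact TM_zero_center M s
  | insert k S' hk ih =>
    intro a ha s hsa
    by_cases hak : pr hD k a = 0
    · refine ih a (fun j hj => ?_) s hsa
      by_cases hjk : j = k
      · rw [hjk]; exact hak
      · exact ha j (fun hh => by
          rcases Finset.mem_insert.mp hh with h1 | h1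
          · exact hjk h1
          · exact hj h1)
    · have ha' : ∀ j, j ∉ S' → pr hD j (a - pr hD k a) = 0 := by
        intro j hj
        rw [map_sub]
        by_cases hjk : j = k
        · rw [hjk, pr_pr_same, sub_self]
        · rw [pr_pr_ne hD (Ne.symm hjk), sub_zero]
          exact ha j (fun hh => by
            rcases Finset.mem_insert.mp hh with h1 | h1
            · exact hjk h1
            · exact hj h1)
      obtain ⟨χ, hχ, hχ1⟩ := exists_inBlock_one hD (pr_mem hD k a) hak
      have hχa' : χ (a - pr hD k a) = 0 := by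
        rw [hχ.apply hD, ha' k hk, map_zero]
      have hT1 : TM M χ (a - pr hD k a) := ih _ ha' χ hχa'
      have hs0 : (s + s (a - pr hD k a) • χ) (pr hD k a) = 0 := by
        rw [LinearMap.add_apply, LinearMap.smul_apply, hχ1, smul_eq_mul, mul_one, ← map_add,
          add_sub_cancel, hsa]
      have hT2 : TM M (s + s (a - pr hD k a) • χ) (pr hD k a) :=
        TM_of_full_pure hD hHM h (pr_mem hD k a) _ hs0
      have hT3 := TM_conj_tv hT1 hT2
      rw [hχ1, one_smul, add_sub_cancel] at hT3
      refine TM_of_eq (fun v => ?_) hT3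
      rw [LinearMap.sub_apply, LinearMap.add_apply, LinearMap.smul_apply, LinearMap.smul_apply,
        LinearMap.add_apply, LinearMap.smul_apply, hχa', smul_zero, add_zero]
      simp only [smul_eq_mul]
      ring

/-- L4e: all cross-block pure transvections (and `Hs D`) give all transvections. -/
theorem all_TM_of_full (hD : Cfsg.Geo.IsMDecomposition m D) {M : Subgroup (GL (Fin n) F)}
    (hHM : Hs D ≤ M) (h : ∀ k i : Fin t, k ≠ i → Full D M k i) :
    ∀ (a : Fin n → F) (s : (Fin n → F) →ₗ[F] F), s a = 0 → TM M s a := by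
  intro a s hsa
  exact TM_of_full_supp hD hHM h Finset.univ a
    (fun j hj => absurd (Finset.mem_univ j) hj) s hsa

end Cfsg.Agent.Lib.Helper20.C2Leaf
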