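/-
helper20: leaf (A-irr) of S3894 (planner helper18).  A nilpotent subgroup of `GL_2(F)` containing
`d = diag(a, a⁻¹)` with `a` not of 2-power order consists of DIAGONAL matrices; in particular it fixes the
line `F e_1` (and the line `F e_2`).  Induction on the upper central series: for `z` in the next term,
`z d z⁻¹ = [z,d] d` is diagonal, so `Z D = T Z` entrywise forces `Z` diagonal or `z d z⁻¹ = d⁻¹`; the latter
is impossible in a nilpotent group unless `d` has 2-power order.
-/
import Mathlib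

set_option autoImplicit false

namespace Cfsg.Agent.Lib.Helper20.NilCovA

open Matrix
open scoped commutatorElement

/-- In a nilpotent group an element inverted by conjugation has 2-power order. -/
theorem pow_two_pow_eq_one_of_inverts {G : Type*} [Group G] (hG : Group.IsNilpotent G) (x y : G)
    (hxy : x * y * x⁻¹ = y⁻¹) : ∃ k : ℕ, y ^ (2 ^ k) = 1 := by
  obtain ⟨n, hn⟩ := Subgroup.nilpotent_iff_lowerCentralSeries.mp hG
  have key : ∀ k : ℕ, y ^ (2 ^ k) ∈ Subgroup.lowerCentralSeries (⊤ : Subgroup G) k := by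
    intro k
    induction k with
    | zero => simp
    | succ k ih =>
      rw [Subgroup.lowerCentralSeries_succ]
      have hconj : x * y ^ (2 ^ k) * x⁻¹ = (y ^ (2 ^ k))⁻¹ := by
        rw [← conj_pow, hxy, inv_pow]
      have hcomm : ⁅y ^ (2 ^ k), x⁆ = y ^ (2 ^ (k + 1)) := by
        rw [commutatorElement_def]
        have h1 : y ^ (2 ^ k) * x * (y ^ (2 ^ k))⁻¹ * x⁻¹ =
            y ^ (2 ^ k) * (x * (y ^ (2 ^ k))⁻¹ * x⁻¹) := by group
        have h2 : x * (y ^ (2 ^ k))⁻¹ * x⁻¹ = y ^ (2 ^ k) := by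
          have : x * (y ^ (2 ^ k))⁻¹ * x⁻¹ = (x * y ^ (2 ^ k) * x⁻¹)⁻¹ := by group
          rw [this, hconj, inv_inv]
        rw [h1, h2, pow_succ 2 k, pow_mul, pow_two]
      rw [← hcomm]
      exact Subgroup.commutator_mem_commutator ih (Subgroup.mem_top x)
  refine ⟨n, ?_⟩
  have := key n
  rw [hn, Subgroup.mem_bot] at this
  exact this

variable {F : Type*} [Field F]

/-- **(A-irr), strong form.**  Every element of a nilpotent subgroup of `GL_2(F)` containing
`diag(a, a⁻¹)`, `a` not of 2-power order, is diagonal. -/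
theorem diagonal_of_nilpotent_diag (A : Subgroup (GL (Fin 2) F)) (hA : Group.IsNilpotent ↥A) (a : Fˣ)
    (ha2 : ¬ ∃ k : ℕ, orderOf a = 2 ^ k) (d : GL (Fin 2) F)
    (hd : (d : Matrix (Fin 2) (Fin 2) F) = Matrix.diagonal ![(a : F), ((a⁻¹ : Fˣ) : F)]) (hdA : d ∈ A) :
    ∀ x ∈ A, (x : Matrix (Fin 2) (Fin 2) F) 0 1 = 0 ∧ (x : Matrix (Fin 2) (Fin 2) F) 1 0 = 0 := by
  obtain ⟨c, hc⟩ := hA.nilpotent'
  -- basic facts on `a`
  have hab : (a : F) * ((a⁻¹ : Fˣ) : F) = 1 := by rw [← Units.val_mul, mul_inv_cancel, Units.val_one]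
  have hba : ((a⁻¹ : Fˣ) : F) * (a : F) = 1 := by rw [← Units.val_mul, inv_mul_cancel, Units.val_one]
  have hane : (a : F) ≠ ((a⁻¹ : Fˣ) : F) := by
    intro h
    apply ha2
    have h2 : a ^ 2 = 1 := by
      apply Units.ext
      rw [Units.val_pow_eq_pow_val, Units.val_one, pow_two]
      nth_rewrite 2 [h]
      exact hab
    have hdvd : orderOf a ∣ 2 ^ 1 := by rw [pow_one]; exact orderOf_dvd_of_pow_eq_one h2
    obtain ⟨j, -, hj⟩ := (Nat.dvd_prime_pow Nat.prime_two).mp hdvd
    exact ⟨j, hj⟩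
  -- entries of d
  have hd00 : (d : Matrix (Fin 2) (Fin 2) F) 0 0 = (a : F) := by rw [hd]; simp
  have hd11 : (d : Matrix (Fin 2) (Fin 2) F) 1 1 = ((a⁻¹ : Fˣ) : F) := by rw [hd]; simp
  have hd01 : (d : Matrix (Fin 2) (Fin 2) F) 0 1 = 0 := by rw [hd]; simp
  have hd10 : (d : Matrix (Fin 2) (Fin 2) F) 1 0 = 0 := by rw [hd]; simp
  -- d is not inverted by anything in A
  have hnoinv : ∀ z : GL (Fin 2) F, z ∈ A → z * d * z⁻¹ ≠ d⁻¹ := by
    intro z hz hzd
    have hinv : (⟨z, hz⟩ : ↥A) * ⟨d, hdA⟩ * (⟨z, hz⟩ : ↥A)⁻¹ = (⟨d, hdA⟩ : ↥A)⁻¹ := by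
      apply Subtype.ext
      simpa using hzd
    obtain ⟨k, hk⟩ := pow_two_pow_eq_one_of_inverts hA _ _ hinv
    have hk' : d ^ (2 ^ k) = 1 := by
      have := congrArg Subtype.val hk
      simpa using this
    have hk'' : (d : Matrix (Fin 2) (Fin 2) F) ^ (2 ^ k) = 1 := by
      rw [← Units.val_pow_eq_pow_val, hk', Units.val_one]
    rw [hd, Matrix.diagonal_pow] at hk''
    have h00 := congrFun (congrFun hk'' 0) 0
    simp only [Matrix.diagonal_apply_eq, Pi.pow_apply, Matrix.cons_val_zero, Matrix.one_apply_eq] at h00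
    apply ha2
    have hak : a ^ (2 ^ k) = 1 := by
      apply Units.ext
      rw [Units.val_pow_eq_pow_val, Units.val_one]
      exact h00
    have hdvd : orderOf a ∣ 2 ^ k := orderOf_dvd_of_pow_eq_one hak
    obtain ⟨j, -, hj⟩ := (Nat.dvd_prime_pow Nat.prime_two).mp hdvd
    exact ⟨j, hj⟩
  -- induction on the upper central series
  have main : ∀ k : ℕ, ∀ z : ↥A, z ∈ Subgroup.upperCentralSeries ↥A k →
      ((z : GL (Fin 2) F) : Matrix (Fin 2) (Fin 2) F) 0 1 = 0 ∧
        ((z : GL (Fin 2) F) : Matrix (Fin 2) (Fin 2) F) 1 0 = 0 := by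
    intro k
    induction k with
    | zero =>
      intro z hz
      rw [Subgroup.upperCentralSeries_zero, Subgroup.mem_bot] at hz
      rw [hz]
      simp
    | succ k ih =>
      intro z hz
      rw [Subgroup.mem_upperCentralSeries_succ_iff] at hz
      obtain ⟨hc01, hc10⟩ := ih _ (hz ⟨d, hdA⟩)
      -- t = [z,d] d = z d z⁻¹
      obtain ⟨t, ht⟩ : ∃ t : GL (Fin 2) F, t = ((⁅z, (⟨d, hdA⟩ : ↥A)⁆ : ↥A) : GL (Fin 2) F) * d := ⟨_, rfl⟩
      have htz : t = (z : GL (Fin 2) F) * d * (z : GL (Fin 2) F)⁻¹ := by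
        rw [ht, commutatorElement_def]
        simp only [Subgroup.coe_mul, Subgroup.coe_inv]
        group
      have ht01 : (t : Matrix (Fin 2) (Fin 2) F) 0 1 = 0 := by
        rw [ht, Units.val_mul, Matrix.mul_apply, Fin.sum_univ_two, hd01, hd11, hc01]
        ring
      have ht10 : (t : Matrix (Fin 2) (Fin 2) F) 1 0 = 0 := by
        rw [ht, Units.val_mul, Matrix.mul_apply, Fin.sum_univ_two, hd00, hd10, hc10]
        ring
      -- Z D = T Z
      have hint : ((z : GL (Fin 2) F) : Matrix (Fin 2) (Fin 2) F) * (d : Matrix (Fin 2) (Fin 2) F) =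
          (t : Matrix (Fin 2) (Fin 2) F) * ((z : GL (Fin 2) F) : Matrix (Fin 2) (Fin 2) F) := by
        rw [← Units.val_mul, ← Units.val_mul, htz]
        congr 1
        group
      obtain ⟨Z, hZ⟩ : ∃ Z : Matrix (Fin 2) (Fin 2) F, Z = ((z : GL (Fin 2) F) : Matrix (Fin 2) (Fin 2) F) :=
        ⟨_, rfl⟩
      obtain ⟨T, hT⟩ : ∃ T : Matrix (Fin 2) (Fin 2) F, T = (t : Matrix (Fin 2) (Fin 2) F) := ⟨_, rfl⟩
      rw [← hZ, ← hT] at hint
      rw [← hT] at ht01 ht10
      have e00 : Z 0 0 * (a : F) = T 0 0 * Z 0 0 := by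
        have := congrFun (congrFun hint 0) 0
        rw [Matrix.mul_apply, Matrix.mul_apply, Fin.sum_univ_two, Fin.sum_univ_two, hd00, hd10, ht01] at this
        linear_combination this
      have e01 : Z 0 1 * ((a⁻¹ : Fˣ) : F) = T 0 0 * Z 0 1 := by
        have := congrFun (congrFun hint 0) 1
        rw [Matrix.mul_apply, Matrix.mul_apply, Fin.sum_univ_two, Fin.sum_univ_two, hd01, hd11, ht01] at this
        linear_combination this
      have e10 : Z 1 0 * (a : F) = T 1 1 * Z 1 0 := by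
        have := congrFun (congrFun hint 1) 0
        rw [Matrix.mul_apply, Matrix.mul_apply, Fin.sum_univ_two, Fin.sum_univ_two, hd00, hd10, ht10] at this
        linear_combination this
      have e11 : Z 1 1 * ((a⁻¹ : Fˣ) : F) = T 1 1 * Z 1 1 := by
        have := congrFun (congrFun hint 1) 1
        rw [Matrix.mul_apply, Matrix.mul_apply, Fin.sum_univ_two, Fin.sum_univ_two, hd01, hd11, ht10] at this
        linear_combination this
      have hdet : Z.det ≠ 0 := by
        rw [hZ]
        have hu : IsUnit ((z : GL (Fin 2) F) : Matrix (Fin 2) (Fin 2) F).det :=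
          (Matrix.isUnit_iff_isUnit_det _).mp (Units.isUnit _)
        exact hu.ne_zero
      rw [Matrix.det_fin_two] at hdet
      rw [← hZ]
      by_cases h00 : Z 0 0 = 0
      · -- then Z 0 1 ≠ 0 and Z 1 0 ≠ 0 : the inverting case
        exfalso
        have h01 : Z 0 1 ≠ 0 := by
          intro h; apply hdet; rw [h00, h]; ring
        have h10 : Z 1 0 ≠ 0 := by
          intro h; apply hdet; rw [h00, h]; ring
        have hT00 : T 0 0 = ((a⁻¹ : Fˣ) : F) := by
          have : Z 0 1 * (((a⁻¹ : Fˣ) : F) - T 0 0) = 0 := by linear_combination e01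
          rcases mul_eq_zero.mp this with h | h
          · exact absurd h h01
          · exact (sub_eq_zero.mp h).symm
        have hT11 : T 1 1 = (a : F) := by
          have : Z 1 0 * ((a : F) - T 1 1) = 0 := by linear_combination e10
          rcases mul_eq_zero.mp this with h | h
          · exact absurd h h10
          · exact (sub_eq_zero.mp h).symm
        -- t * d = 1
        have htd : t * d = 1 := by
          apply Units.ext
          rw [Units.val_mul, Units.val_one, ← hT]
          ext i j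
          fin_cases i <;> fin_cases j
          · simp only [Fin.zero_eta, Matrix.mul_apply, Fin.sum_univ_two, Matrix.one_apply_eq]
            rw [hd00, hd10, hT00]; linear_combination hba
          · simp only [Fin.zero_eta, Fin.mk_one, Matrix.mul_apply, Fin.sum_univ_two]
            rw [hd01, hd11, ht01]; simp
          · simp only [Fin.zero_eta, Fin.mk_one, Matrix.mul_apply, Fin.sum_univ_two]
            rw [hd00, hd10, ht10]; simp
          · simp only [Fin.mk_one, Matrix.mul_apply, Fin.sum_univ_two, Matrix.one_apply_eq]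
            rw [hd01, hd11, hT11]; linear_combination hab
        have htinv : t = d⁻¹ := eq_inv_of_mul_eq_one_left htd
        exact hnoinv (z : GL (Fin 2) F) z.2 (by rw [← htz, htinv])
      · -- Z 0 0 ≠ 0: then T 0 0 = a and Z 0 1 = 0
        have hT00 : T 0 0 = (a : F) := by
          have : Z 0 0 * ((a : F) - T 0 0) = 0 := by linear_combination e00
          rcases mul_eq_zero.mp this with h | h
          · exact absurd h h00
          · exact (sub_eq_zero.mp h).symm
        have hZ01 : Z 0 1 = 0 := by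
          have : Z 0 1 * (((a⁻¹ : Fˣ) : F) - (a : F)) = 0 := by
            rw [hT00] at e01; linear_combination e01
          rcases mul_eq_zero.mp this with h | h
          · exact h
          · exact absurd (sub_eq_zero.mp h).symm hane
        have h11 : Z 1 1 ≠ 0 := by
          intro h; apply hdet; rw [hZ01, h]; ring
        have hT11 : T 1 1 = ((a⁻¹ : Fˣ) : F) := by
          have : Z 1 1 * (((a⁻¹ : Fˣ) : F) - T 1 1) = 0 := by linear_combination e11
          rcases mul_eq_zero.mp this with h | h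
          · exact absurd h h11
          · exact (sub_eq_zero.mp h).symm
        have hZ10 : Z 1 0 = 0 := by
          have : Z 1 0 * ((a : F) - ((a⁻¹ : Fˣ) : F)) = 0 := by
            rw [hT11] at e10; linear_combination e10
          rcases mul_eq_zero.mp this with h | h
          · exact h
          · exact absurd (sub_eq_zero.mp h) hane
        exact ⟨hZ01, hZ10⟩
  intro x hx
  have hmem : (⟨x, hx⟩ : ↥A) ∈ Subgroup.upperCentralSeries ↥A c := by rw [hc]; exact Subgroup.mem_top _
  exact main c ⟨x, hx⟩ hmem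

/-- **(A-irr)**, helper18's shape: the group fixes the line `F e_1` or the line `F e_2` (in fact both). -/
theorem fixes_line_of_nilpotent_diag (A : Subgroup (GL (Fin 2) F)) (hA : Group.IsNilpotent ↥A) (a : Fˣ)
    (ha2 : ¬ ∃ k : ℕ, orderOf a = 2 ^ k) (d : GL (Fin 2) F)
    (hd : (d : Matrix (Fin 2) (Fin 2) F) = Matrix.diagonal ![(a : F), ((a⁻¹ : Fˣ) : F)]) (hdA : d ∈ A) :
    (∃ c : GL (Fin 2) F → F, ∀ x ∈ A, (x : Matrix (Fin 2) (Fin 2) F) *ᵥ ![1, 0] = c x • ![1, 0]) ∨
      (∃ c : GL (Fin 2) F → F, ∀ x ∈ A, (x : Matrix (Fin 2) (Fin 2) F) *ᵥ ![0, 1] = c x • ![0, 1]) := by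
  left
  refine ⟨fun x => (x : Matrix (Fin 2) (Fin 2) F) 0 0, ?_⟩
  intro x hx
  obtain ⟨-, h10⟩ := diagonal_of_nilpotent_diag A hA a ha2 d hd hdA x hx
  ext i
  fin_cases i
  · simp [Matrix.mulVec, dotProduct, Fin.sum_univ_two]
  · simp [Matrix.mulVec, dotProduct, Fin.sum_univ_two, h10]

/-- both lines are fixed -/
theorem fixes_both_lines_of_nilpotent_diag (A : Subgroup (GL (Fin 2) F)) (hA : Group.IsNilpotent ↥A) (a : Fˣ)
    (ha2 : ¬ ∃ k : ℕ, orderOf a = 2 ^ k) (d : GL (Fin 2) F)
    (hd : (d : Matrix (Fin 2) (Fin 2) F) = Matrix.diagonal ![(a : F), ((a⁻¹ : Fˣ) : F)]) (hdA : d ∈ A) :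
    ∀ x ∈ A, (x : Matrix (Fin 2) (Fin 2) F) *ᵥ ![1, 0] = ((x : Matrix (Fin 2) (Fin 2) F) 0 0) • ![1, 0] ∧
      (x : Matrix (Fin 2) (Fin 2) F) *ᵥ ![0, 1] = ((x : Matrix (Fin 2) (Fin 2) F) 1 1) • ![0, 1] := by
  intro x hx
  obtain ⟨h01, h10⟩ := diagonal_of_nilpotent_diag A hA a ha2 d hd hdA x hx
  constructor
  · ext i
    fin_cases i
    · simp [Matrix.mulVec, dotProduct, Fin.sum_univ_two]
    · simp [Matrix.mulVec, dotProduct, Fin.sum_univ_two, h10]
  · ext i
    fin_cases i
    · simp [Matrix.mulVec, dotProduct, Fin.sum_univ_two, h01]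
    · simp [Matrix.mulVec, dotProduct, Fin.sum_univ_two]

end Cfsg.Agent.Lib.Helper20.NilCovA
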