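import Cfsg.Agent.Lib.Helper20.SPT2Calc
import Cfsg.Agent.Lib.Helper12.SPT2Id
import Cfsg.Agent.Lib.Helper25.SPGENP

/-!
# S3713, super-leaf T2 (sub-planner helper20): leaves GMEM (memberships) and GID (helper12's identities under the names
`Xg Yg Zg νg hT`)
-/

set_option autoImplicit false
set_option linter.unusedSimpArgs false
set_option linter.unusedVariables false

namespace Cfsg.Agent.Lib.Helper20.SPT2

open Matrix Cfsg.Agent.Lib.Helper5 Cfsg.Agent.Lib.Helper14.SpPerfect Cfsg.Agent.Lib.Helper18.SP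

variable {F : Type*} [Field F] {n : ℕ} {o p : Fin n}

/-! ### the bridge to helper12's names -/

theorem Xg_eq_xR (o p : Fin n) (t : F) : Xg n F o p t = Cfsg.Agent.Lib.Helper12.SPT2.xR o p t := rfl

theorem Yg_eq_yR (o p : Fin n) (t : F) : Yg n F o p t = Cfsg.Agent.Lib.Helper12.SPT2.yR o p t := rfl

theorem νg_eq_nR (o p : Fin n) : νg n F o p = Cfsg.Agent.Lib.Helper12.SPT2.nR o p := rfl

theorem hT_eq_hT (k : Fin n) (c : F) : hT n F k c = Cfsg.Agent.Lib.Helper12.SPT2.hT k c := rfl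

/-! ### GMEM: memberships -/

theorem Xg_mem_PJ (hop : o ≠ p) (t : F) : Xg n F o p t ∈ PJ n F {o, p} o :=
  E_eV_mem_PJ (J := {p}) (fun h => hop (Set.mem_singleton_iff.mp h))
    ((VJ n F {p}).smul_mem t (fV_mem_VJ rfl))

theorem Yg_mem_PJ (hop : o ≠ p) (t : F) : Yg n F o p t ∈ PJ n F {o, p} p :=
  ⟨Cfsg.Agent.Lib.Helper12.SPT2.yR_mem o p t, Yg_ep hop t⟩

theorem Zg_mem_MM (hop : o ≠ p) (t : F) : Zg n F o p t ∈ MM n F o p :=
  ⟨fun k => Zg_e t k, fun _ hko hkp => Zg_f_other t hko hkp⟩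

theorem νg_mem_GJ (o p : Fin n) : νg n F o p ∈ GJ n F {o, p} :=
  Cfsg.Agent.Lib.Helper12.SPT2.nR_mem o p

theorem SS_o_le_P2 (hop : o ≠ p) : SS n F o ≤ PJ n F {o, p} p :=
  GJ_le_PJ (Set.singleton_subset_iff.mpr (Set.mem_insert o {p}))
    (fun h => hop (Set.mem_singleton_iff.mp h).symm)

theorem SS_p_le_P1 (hop : o ≠ p) : SS n F p ≤ PJ n F {o, p} o :=
  GJ_le_PJ (Set.singleton_subset_iff.mpr (Set.mem_insert_of_mem o rfl))
    (fun h => hop (Set.mem_singleton_iff.mp h))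

theorem MM_le_P1 (o p : Fin n) : MM n F o p ≤ PJ n F {o, p} o :=
  MM_le_PJ (Set.mem_insert o {p}) (Set.mem_insert_of_mem o rfl) o

theorem MM_le_P2 (o p : Fin n) : MM n F o p ≤ PJ n F {o, p} p :=
  MM_le_PJ (Set.mem_insert o {p}) (Set.mem_insert_of_mem o rfl) p

theorem Tr_eo_mem_MM (o p : Fin n) (c : F) : Tr (eV n F o) c ∈ MM n F o p :=
  Cfsg.Agent.Lib.Helper25.SPGENP.Tr_eV_mem_MM o p c

theorem Tr_ep_mem_MM (o p : Fin n) (c : F) : Tr (eV n F p) c ∈ MM n F o p := by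
  rw [MM_comm]
  exact Cfsg.Agent.Lib.Helper25.SPGENP.Tr_eV_mem_MM p o c

/-- an element of `GJ {o,p}` fixing `e_o` and `e_p` lies in `MM o p` -/
theorem mem_MM_of_fix {g : Sp n F} (hg : g ∈ GJ n F {o, p}) (h1 : act g (eV n F o) = eV n F o)
    (h2 : act g (eV n F p) = eV n F p) : g ∈ MM n F o p := by
  refine ⟨fun k => ?_, fun k hko hkp => ?_⟩
  · by_cases hko : k = o
    · rw [hko]; exact h1
    · by_cases hkp : k = p
      · rw [hkp]; exact h2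
      · exact (hg k (fun h => (Set.mem_insert_iff.mp h).elim hko hkp)).1
  · exact (hg k (fun h => (Set.mem_insert_iff.mp h).elim hko hkp)).2

/-! ### GID: identities -/

theorem yE_eq_Yg (o p : Fin n) : yE n F o p = Yg n F o p 1 :=
  Cfsg.Agent.Lib.Helper12.SPT2.yE_eq_yR o p

theorem Xg_add (hop : o ≠ p) (t s : F) : Xg n F o p t * Xg n F o p s = Xg n F o p (t + s) :=
  Cfsg.Agent.Lib.Helper12.SPT2.xR_add hop t s

theorem Yg_add (hop : o ≠ p) (t s : F) : Yg n F o p t * Yg n F o p s = Yg n F o p (t + s) :=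
  Cfsg.Agent.Lib.Helper12.SPT2.yR_add hop t s

theorem Zg_zero (o p : Fin n) : Zg n F o p 0 = 1 := by
  unfold Zg
  rw [zero_smul, E_zero_right]

theorem Zg_add (hop : o ≠ p) (t s : F) : Zg n F o p t * Zg n F o p s = Zg n F o p (t + s) := by
  have h : ∀ t : F, ω n F (eV n F o) (t • eV n F p) = 0 := fun t => by rw [ω_smul_right, ω_eV_eV, mul_zero]
  unfold Zg
  rw [E_mul_right _ _ _ (h t) (h s), ω_smul_left, ω_smul_right, ω_eV_eV, mul_zero, mul_zero, Tr_zero, mul_one,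
    add_smul]

theorem Xg_inv (hop : o ≠ p) (t : F) : (Xg n F o p t)⁻¹ = Xg n F o p (-t) :=
  Cfsg.Agent.Lib.Helper12.SPT2.xR_inv hop t

theorem Yg_inv (hop : o ≠ p) (t : F) : (Yg n F o p t)⁻¹ = Yg n F o p (-t) :=
  Cfsg.Agent.Lib.Helper12.SPT2.yR_inv hop t

theorem Zg_inv (hop : o ≠ p) (t : F) : (Zg n F o p t)⁻¹ = Zg n F o p (-t) := by
  rw [inv_eq_iff_mul_eq_one, Zg_add hop, add_neg_cancel, Zg_zero]

theorem νg_inv (hop : o ≠ p) : (νg n F o p)⁻¹ = Xg n F o p (-1) * Yg n F o p 1 * Xg n F o p (-1) :=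
  Cfsg.Agent.Lib.Helper12.SPT2.nR_inv hop

/-- the degenerate Bruhat identity (`γ = -1`) -/
theorem Xg_neg_one_mul_Yg_one (hop : o ≠ p) :
    Xg n F o p (-1) * Yg n F o p 1 = (νg n F o p)⁻¹ * Xg n F o p 1 :=
  Cfsg.Agent.Lib.Helper12.SPT2.xR_yR_eq_nR_inv hop

/-- the Bruhat identity (`δ = 1 + γ ≠ 0`) -/
theorem Xg_mul_Yg (hop : o ≠ p) (γ : F) (hδ : 1 + γ ≠ 0) :
    Xg n F o p γ * Yg n F o p 1
      = Yg n F o p (1 + γ)⁻¹ * (hT n F o (1 + γ) * hT n F p (1 + γ)⁻¹) * Xg n F o p (γ * (1 + γ)⁻¹) :=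
  Cfsg.Agent.Lib.Helper12.SPT2.xR_mul_yR hop γ hδ

/-- the braid relation -/
theorem braid (hop : o ≠ p) : Yg n F o p (-1) * Xg n F o p 1 * Yg n F o p (-1) = νg n F o p := by
  have hY : ∀ t : F, Yg n F o p t ∈ GJ n F {o, p} := fun t => Cfsg.Agent.Lib.Helper12.SPT2.yR_mem o p t
  have hX : ∀ t : F, Xg n F o p t ∈ GJ n F {o, p} := fun t => Cfsg.Agent.Lib.Helper12.SPT2.xR_mem o p t
  apply Cfsg.Agent.Lib.Helper12.SPT2.ext_GJ2 (mul_mem (mul_mem (hY _) (hX _)) (hY _)) (νg_mem_GJ o p)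
  · rw [νg_eo hop]
    simp only [act_mul, act_add, act_sub, act_smul, act_neg, Yg_eo hop, Yg_ep hop, Xg_eo hop, Xg_ep hop]
    module
  · rw [νg_ep hop]
    simp only [act_mul, act_add, act_sub, act_smul, act_neg, Yg_eo hop, Yg_ep hop, Xg_eo hop, Xg_ep hop]
    module
  · rw [νg_fo hop]
    simp only [act_mul, act_add, act_sub, act_smul, act_neg, Yg_fo hop, Yg_fp hop, Xg_fo hop, Xg_fp hop]
    module
  · rw [νg_fp hop]
    simp only [act_mul, act_add, act_sub, act_smul, act_neg, Yg_fo hop, Yg_fp hop, Xg_fo hop, Xg_fp hop]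
    module

theorem hT_one' (k : Fin n) : hT n F k 1 = 1 :=
  Cfsg.Agent.Lib.Helper12.SPT2.hT_one k

theorem hT_mul' (k : Fin n) {s s' : F} (hs : s ≠ 0) (hs' : s' ≠ 0) :
    hT n F k (s * s') = hT n F k s * hT n F k s' :=
  (Cfsg.Agent.Lib.Helper12.SPT2.hT_mul k hs hs').symm

theorem hT_inv' (k : Fin n) {s : F} (hs : s ≠ 0) : (hT n F k s)⁻¹ = hT n F k s⁻¹ :=
  Cfsg.Agent.Lib.Helper12.SPT2.hT_inv k hs

theorem hTo_conj_Xg (hop : o ≠ p) {s : F} (hs : s ≠ 0) (t : F) :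
    hT n F o s * Xg n F o p t * (hT n F o s)⁻¹ = Xg n F o p (s * t) :=
  Cfsg.Agent.Lib.Helper12.SPT2.hT_o_conj_xR hop hs t

theorem hTp_conj_Xg (hop : o ≠ p) {s : F} (hs : s ≠ 0) (t : F) :
    hT n F p s * Xg n F o p t * (hT n F p s)⁻¹ = Xg n F o p (s⁻¹ * t) :=
  Cfsg.Agent.Lib.Helper12.SPT2.hT_p_conj_xR hop hs t

theorem hTo_conj_Yg (hop : o ≠ p) {s : F} (hs : s ≠ 0) (t : F) :
    hT n F o s * Yg n F o p t * (hT n F o s)⁻¹ = Yg n F o p (s⁻¹ * t) :=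
  Cfsg.Agent.Lib.Helper12.SPT2.hT_o_conj_yR hop hs t

theorem hTp_conj_Yg (hop : o ≠ p) {s : F} (hs : s ≠ 0) (t : F) :
    hT n F p s * Yg n F o p t * (hT n F p s)⁻¹ = Yg n F o p (s * t) :=
  Cfsg.Agent.Lib.Helper12.SPT2.hT_p_conj_yR hop hs t

end Cfsg.Agent.Lib.Helper20.SPT2
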