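import Cfsg.Agent.Lib.Helper20.SPT2Calc
import Cfsg.Agent.Lib.Helper20.SPT2Rel
import Cfsg.Agent.Lib.Helper20.SPT2G
import Cfsg.Agent.Lib.Helper11.SL2Hom
import Cfsg.Agent.Lib.Helper18.SPAsm2
import Cfsg.Agent.Lib.Helper25.SPGENP
import Cfsg.Agent.Lib.Helper5.SPT2StepCore
import Cfsg.Agent.Lib.Helper18.SPT2PH1
import Cfsg.Agent.Lib.Helper8.SPT2XADD
import Cfsg.Agent.Lib.Helper8.SPT2HMUL
import Cfsg.Agent.Lib.Helper29.SPT2SWAP
import Cfsg.Agent.Lib.Helper29.SPT2NMM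
import Cfsg.Agent.Lib.Helper18.SPT2WEYL
import Cfsg.Agent.Lib.Helper8.SPT2CONJ
import Cfsg.Agent.Lib.Helper8.SPT2HX
import Cfsg.Agent.Lib.Helper8.SPT2HY
import Cfsg.Agent.Lib.Helper17.SPT2NEQ
import Cfsg.Agent.Lib.Helper17.SPT2NSQ
import Cfsg.Agent.Lib.Helper17.SPT2NX
import Cfsg.Agent.Lib.Helper29.SPT2MATID
import Cfsg.Agent.Lib.Helper17.SPT2REDT
import Cfsg.Agent.Lib.Helper17.SPT2LOCSTEP
import Cfsg.Agent.Lib.Helper18.SPT2HARD1
import Cfsg.Agent.Lib.Helper20.SPT2HARD0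

/-!
# S3713, super-leaf T2 (sub-planner helper20): the assembly of `t2`

The leaves (statements frozen in `notes/S3713_T2_leaves.lean`) were proved by helper5, helper8, helper11, helper12, helper17,
helper18, helper22, helper25, helper29; here they are wired together: `φ₁` on the point stabiliser (PH1), the short root
`SL₂` in `H` (`rankOne`, helper11's `RankOnePre`), the Bruhat identity in `H` (`bruhat_H`), the hard case, and `ylemma`.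
-/

set_option autoImplicit false

namespace Cfsg.Agent.Lib.Helper20.SPT2

open Matrix Cfsg.Agent.Lib.Helper5 Cfsg.Agent.Lib.Helper14.SpPerfect Cfsg.Agent.Lib.Helper18.SP
open Cfsg.Agent.Lib.Helper11.SL2Hom (RankOnePre xS yS hS wS)

/-! ## the leaves -/

section leaves
variable {F : Type*} [Field F] {n : ℕ} {H : Type*} [Group H] {o p : Fin n}

end leaves

open Cfsg.Agent.Lib.Helper18.SPT2PH1 (exists_phi1)
open Cfsg.Agent.Lib.Helper8.SPT2XADD (addRel)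
open Cfsg.Agent.Lib.Helper8.SPT2HMUL (Ht_mul)
open Cfsg.Agent.Lib.Helper29.SPT2SWAP (swapRel)
open Cfsg.Agent.Lib.Helper29.SPT2NMM (nmm nmm')
open Cfsg.Agent.Lib.Helper18.SPT2WEYL (weylRel)
open Cfsg.Agent.Lib.Helper8.SPT2CONJ (conjRel)
open Cfsg.Agent.Lib.Helper8.SPT2HX (Ht_Xt)
open Cfsg.Agent.Lib.Helper8.SPT2HY (Ht_Yt)
open Cfsg.Agent.Lib.Helper17.SPT2NEQ (Nt_eq)
open Cfsg.Agent.Lib.Helper17.SPT2NSQ (Nt_sq)
open Cfsg.Agent.Lib.Helper17.SPT2NX (Nt_Xt)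
open Cfsg.Agent.Lib.Helper29.SPT2MATID (xS_mul_yS)
open Cfsg.Agent.Lib.Helper17.SPT2REDT (step_of_P1)
open Cfsg.Agent.Lib.Helper17.SPT2LOCSTEP (locstep)
open Cfsg.Agent.Lib.Helper18.SPT2HARD1 (hard1)
open Cfsg.Agent.Lib.Helper20.SPT2HARD0 (hard0)

section steps
variable {F : Type*} [Field F] {n : ℕ} {H : Type*} [Group H] {o p : Fin n}

/-- **STEPN** on `P1` (helper5's `step_n_P1_of` over helper17's `locstep`) -/
theorem step_n_P1 (A : T2Hyp n F H o p) {φ₁ : Sp n F → H} (P1 : Phi1 A φ₁) {q : Sp n F} (hq : q ∈ PJ n F {o, p} o) :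
    SOK A φ₁ (nW n F o * q * nW n F o) (A.nto * A.ψ₁ q * A.nto) :=
  Cfsg.Agent.Lib.Helper5.SPT2StepCore.step_n_P1_of A P1 (fun _ hg => locstep A P1 hg) hq

/-- **STEPY** on `P1`, with the hard case as a hypothesis (helper5's `step_y_P1_of` over helper17's `locstep`) -/
theorem step_y_P1 (A : T2Hyp n F H o p) {φ₁ : Sp n F → H} (P1 : Phi1 A φ₁)
    (hhard : ∀ γ c : F, γ ≠ 0 → SOK A φ₁ (nW n F o * (Xg n F o p γ * Tr (eV n F o) c) * yE n F o p)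
      (A.nto * A.ψ₁ (Xg n F o p γ * Tr (eV n F o) c) * A.ψ₂ (yE n F o p)))
    {q : Sp n F} (hq : q ∈ PJ n F {o, p} o) :
    SOK A φ₁ (nW n F o * q * yE n F o p) (A.nto * A.ψ₁ q * A.ψ₂ (yE n F o p)) :=
  Cfsg.Agent.Lib.Helper5.SPT2StepCore.step_y_P1_of A P1 (fun _ hg => locstep A P1 hg) hhard hq

end steps

/-! ## the assembly (helper20) -/

section assembly
variable {F : Type*} [Field F] {n : ℕ} {H : Type*} [Group H] {o p : Fin n}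

open Cfsg.Agent.Lib.Helper22.SPYLEMMA (ylemma)
open Cfsg.Agent.Lib.Helper4.SPGDEC (yE_not_mem_PhJ yE_eq_conj)

/-- the short root `SL₂` in `H` -/
def rankOne (A : T2Hyp n F H o p) {φ₁ φ₂ : Sp n F → H} (P1 : Phi1 A φ₁) (P2 : Phi1 A.symm φ₂) :
    RankOnePre F H where
  X := A.Xt
  Y := A.Yt
  N := A.Nt
  H := A.Ht
  X_add := (addRel A).Xt_add
  H_mul := fun _ _ hs hs' => Ht_mul A hs hs'
  H_X := fun _ t hs => Ht_Xt A P1 hs t
  H_Y := fun _ t hs => Ht_Yt A P2 hs t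
  n_eq := fun _ hc =>
    Nt_eq A P1 (conjRel A (weylRel A (nmm A) (nmm' A) (swapRel A) (addRel A))) hc
  N_X := Nt_Xt A (weylRel A (nmm A) (nmm' A) (swapRel A) (addRel A))
    (conjRel A (weylRel A (nmm A) (nmm' A) (swapRel A) (addRel A)))
  N_sq := Nt_sq A (addRel A) (fun _ _ hs hs' => Ht_mul A hs hs')
    (fun _ hc => Nt_eq A P1 (conjRel A (weylRel A (nmm A) (nmm' A) (swapRel A) (addRel A))) hc)

/-- **BRH**: the Bruhat identity in `H` -/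
theorem bruhat_H (A : T2Hyp n F H o p) {φ₁ φ₂ : Sp n F → H} (P1 : Phi1 A φ₁) (P2 : Phi1 A.symm φ₂)
    (γ : F) (hδ : 1 + γ ≠ 0) :
    A.Xt γ * A.Yt 1 = A.Yt (1 + γ)⁻¹ * A.Ht (1 + γ) * A.Xt (γ * (1 + γ)⁻¹) := by
  have h := congrArg (rankOne A P1 P2).hom (xS_mul_yS γ hδ)
  rw [map_mul, map_mul, map_mul, RankOnePre.hom_xS, RankOnePre.hom_yS, RankOnePre.hom_yS, RankOnePre.hom_hS,
    RankOnePre.hom_xS] at h
  exact h

theorem t2_main (A : T2Hyp n F H o p) :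
    ∃ Φ : Sp n F → H, HomOn (GJ n F {o, p}) Φ ∧ (∀ g ∈ SS n F o, Φ g = A.σo g) ∧
      (∀ g ∈ PJ n F {o, p} o, Φ g = A.ψ₁ g) := by
  obtain ⟨φ₁, P1⟩ := exists_phi1 A
  obtain ⟨φ₂, P2⟩ := exists_phi1 A.symm
  have hop := A.hop
  have L := addRel A
  have C := conjRel A (weylRel A (nmm A) (nmm' A) (swapRel A) L)
  have hoK : o ∈ ({o, p} : Set (Fin n)) := Set.mem_insert o {p}
  have hoo : o ∈ ({o} : Set (Fin n)) := rfl
  have hop' : o ∉ ({p} : Set (Fin n)) := fun h => hop (Set.mem_singleton_iff.mp h)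
  have hnS : nW n F o ∈ SS n F o := nW_mem_SS o
  -- the hard case
  have hhard : ∀ γ c : F, γ ≠ 0 → SOK A φ₁ (nW n F o * (Xg n F o p γ * Tr (eV n F o) c) * yE n F o p)
      (A.nto * A.ψ₁ (Xg n F o p γ * Tr (eV n F o) c) * A.ψ₂ (yE n F o p)) := by
    intro γ c _
    by_cases hδ : 1 + γ = 0
    · have hγ : γ = -1 := by linear_combination hδ
      rw [hγ]
      exact hard0 A P1 L C c
    · exact hard1 A P1 γ c hδ (bruhat_H A P1 P2 γ hδ)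
  have hstep_y := step_of_P1 A P1 (yE n F o p) (A.ψ₂ (yE n F o p)) (fun q hq => step_y_P1 A P1 hhard hq)
  have hstep_n := step_of_P1 A P1 (nW n F o) A.nto (fun q hq => step_n_P1 A P1 hq)
  have hx : (E (eV n F o) (eV n F p))⁻¹ ∈ MM n F o p := inv_mem (Cfsg.Agent.Lib.Helper25.SPGENP.E_eV_eV_mem_MM o p)
  obtain ⟨Φ, hΦ, hΦPh, hΦn, -⟩ := ylemma (GJ n F {o, p}) (PhJ n F {o, p} o) (PhJ_le_GJ _ o) φ₁ P1.hom
    (nW n F o) (yE n F o p) A.nto (A.ψ₂ (yE n F o p))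
    (SS_le_GJ hoK hnS) (nW_not_mem_PhJ _ o) (yE_not_mem_PhJ _ hop)
    (GJ_le_closure_PhJ hop' rfl)
    (by
      have hsq : (nW n F o * nW n F o)⁻¹ ∈ TT n F o := inv_mem (nW_sq_mem_TT o)
      refine ⟨1, one_mem _, (nW n F o * nW n F o)⁻¹, TT_le_PhJ hoK hsq, by group, ?_⟩
      rw [P1.hom.map_one, P1.onB _ (TT_le_PhJ hoo hsq), A.hσo.map_inv (mul_mem hnS hnS), A.hσo.map_mul hnS hnS]
      unfold T2Hyp.nto
      group)
    (by
      refine ⟨(E (eV n F o) (eV n F p))⁻¹, PJ_le_PhJ _ o (MM_le_P1 o p hx), yE_eq_conj hop, ?_⟩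
      rw [P1.onP _ (MM_le_P1 o p hx), A.h12 _ hx]
      conv_lhs => rw [yE_eq_conj hop]
      rw [A.hψ₂.map_conj (SS_o_le_P2 hop hnS) (MM_le_P2 o p hx), A.h2o _ hnS]
      rfl)
    hstep_n hstep_y
  refine ⟨Φ, hΦ, ?_, fun g hg => ?_⟩
  · intro g hg
    refine HomOn.eqOn_closure (hΦ.mono (SS_le_GJ hoK)) A.hσo ?_ ?_ g (SS_le_closure (K := {o}) rfl hg)
    · rintro x (hx | hx)
      · exact hx.1
      · rw [Set.mem_singleton_iff.mp hx]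
        exact hnS
    · rintro x (hx | hx)
      · rw [hΦPh x (PhJ_mono (Set.singleton_subset_iff.mpr hoK) o hx), P1.onB x hx]
      · rw [Set.mem_singleton_iff.mp hx, hΦn]
        rfl
  · rw [hΦPh g (PJ_le_PhJ _ o hg), P1.onP g hg]

/-- **T2** in helper18's shape -/
theorem t2 (hF : ∃ a : F, a ≠ 0 ∧ a ≠ 1) {o p : Fin n} (hop : o ≠ p) (σo σp ψ₁ ψ₂ : Sp n F → H)
    (hσo : HomOn (SS n F o) σo) (hσp : HomOn (SS n F p) σp)
    (hψ₁ : HomOn (PJ n F {o, p} o) ψ₁) (hψ₂ : HomOn (PJ n F {o, p} p) ψ₂)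
    (h1p : ∀ g ∈ SS n F p, ψ₁ g = σp g) (h2o : ∀ g ∈ SS n F o, ψ₂ g = σo g)
    (h12 : ∀ g ∈ MM n F o p, ψ₁ g = ψ₂ g)
    (hD : ∀ s ∈ SS n F o, ∀ s' ∈ SS n F p, Commute (σo s) (σp s')) :
    ∃ Φ : Sp n F → H, HomOn (GJ n F {o, p}) Φ ∧ (∀ g ∈ SS n F o, Φ g = σo g) ∧
      (∀ g ∈ PJ n F {o, p} o, Φ g = ψ₁ g) :=
  t2_main ⟨hF, hop, σo, σp, ψ₁, ψ₂, hσo, hσp, hψ₁, hψ₂, h1p, h2o, h12, hD⟩

end assembly

end Cfsg.Agent.Lib.Helper20.SPT2
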