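/-
helper20: S2262 (planner helper19) numeric leaf NF `num_field`: for `a, e, d ≥ 2`, `(d, a^e) ≠ (2, 4)` and
`(a - 1) j ≤ a^d - 1` one has `(a^e - 1) (e j) ≤ (a^e)^d - 1`.  Proof: `j ≤ Σ_{i<d} a^i`, and
`c Σ_{i<d} a^i ≤ Σ_{i<d} (a^e)^i` (`c = e`) by induction on `d` (termwise `e a^i ≤ (a^e)^i` for `i ≥ 1`, the
slack of the base case pays for the term `i = 0`).
-/
import Mathlib

set_option autoImplicit false

namespace Cfsg.Agent.Lib.Helper20.AutPSLNF

open Finset

/-- `e a ≤ a^e` for `a, e ≥ 2` -/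
theorem mul_le_pow (a e : ℕ) (ha : 2 ≤ a) (he : 2 ≤ e) : e * a ≤ a ^ e := by
  induction e, he using Nat.le_induction with
  | base => nlinarith
  | succ e he ih =>
    have h1 : a ≤ a ^ e := by
      calc a = a ^ 1 := (pow_one a).symm
        _ ≤ a ^ e := Nat.pow_le_pow_right (by omega) (by omega)
    calc (e + 1) * a = e * a + a := by ring
      _ ≤ a ^ e + a ^ e := Nat.add_le_add ih h1
      _ = a ^ e * 2 := by ring
      _ ≤ a ^ e * a := Nat.mul_le_mul_left _ ha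
      _ = a ^ (e + 1) := (pow_succ a e).symm

/-- `e a^i ≤ (a^e)^i` for `i ≥ 1` -/
theorem mul_pow_le (a e i : ℕ) (ha : 2 ≤ a) (he : 2 ≤ e) (hi : 1 ≤ i) : e * a ^ i ≤ (a ^ e) ^ i := by
  induction i, hi using Nat.le_induction with
  | base => simpa using mul_le_pow a e ha he
  | succ i hi ih =>
    have h1 : a ≤ a ^ e := by
      calc a = a ^ 1 := (pow_one a).symm
        _ ≤ a ^ e := Nat.pow_le_pow_right (by omega) (by omega)
    calc e * a ^ (i + 1) = (e * a ^ i) * a := by ring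
      _ ≤ (a ^ e) ^ i * a ^ e := Nat.mul_le_mul ih h1
      _ = (a ^ e) ^ (i + 1) := (pow_succ _ i).symm

/-- `e (a + 1) ≤ a^e + 1` unless `a = e = 2` -/
theorem key_two (a e : ℕ) (ha : 2 ≤ a) (he : 2 ≤ e) (hex : ¬ (a = 2 ∧ e = 2)) :
    e * (a + 1) ≤ a ^ e + 1 := by
  rcases Nat.eq_or_lt_of_le he with rfl | he3
  · have ha3 : 3 ≤ a := by
      rcases Nat.eq_or_lt_of_le ha with rfl | h
      · exact absurd ⟨rfl, rfl⟩ hex
      · exact h
    nlinarith
  · have he3' : 3 ≤ e := he3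
    clear hex he he3
    induction e, he3' using Nat.le_induction with
    | base => nlinarith [sq_nonneg a, mul_le_mul ha ha (by omega) (by omega)]
    | succ e he ih =>
      have h1 : a ^ 3 ≤ a ^ e := Nat.pow_le_pow_right (by omega) he
      have h2 : a + 1 ≤ a ^ 3 := by nlinarith [mul_le_mul ha ha (by omega) (by omega)]
      calc (e + 1) * (a + 1) = e * (a + 1) + (a + 1) := by ring
        _ ≤ (a ^ e + 1) + a ^ e := Nat.add_le_add ih (h2.trans h1)
        _ = a ^ e * 2 + 1 := by ring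
        _ ≤ a ^ e * a + 1 := Nat.add_le_add_right (Nat.mul_le_mul_left _ ha) 1
        _ = a ^ (e + 1) + 1 := by rw [pow_succ]

/-- the general step: if the comparison of the geometric sums holds for `d₀ ≥ 1` it holds for all `d ≥ d₀`,
provided the terms with `i ≥ d₀` compare -/
theorem sum_le_of_base (a A c d₀ : ℕ) (hterm : ∀ i, d₀ ≤ i → c * a ^ i ≤ A ^ i)
    (hbase : c * ∑ i ∈ range d₀, a ^ i ≤ ∑ i ∈ range d₀, A ^ i) (d : ℕ) (hd : d₀ ≤ d) :
    c * ∑ i ∈ range d, a ^ i ≤ ∑ i ∈ range d, A ^ i := by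
  induction d, hd using Nat.le_induction with
  | base => exact hbase
  | succ d hd ih =>
    rw [sum_range_succ, sum_range_succ, mul_add]
    exact Nat.add_le_add ih (hterm d hd)

/-- from the comparison of the geometric sums to the statement -/
theorem of_sum_le (a A c d j : ℕ) (ha : 2 ≤ a) (hA : 1 ≤ A)
    (hsum : c * ∑ i ∈ range d, a ^ i ≤ ∑ i ∈ range d, A ^ i)
    (hj : (a - 1) * j ≤ a ^ d - 1) : (A - 1) * (c * j) ≤ A ^ d - 1 := by
  have h1 : (∑ i ∈ range d, a ^ i) * (a - 1) = a ^ d - 1 := geom_sum_mul_of_one_le (by omega) d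
  have h2 : (∑ i ∈ range d, A ^ i) * (A - 1) = A ^ d - 1 := geom_sum_mul_of_one_le hA d
  have hj' : j ≤ ∑ i ∈ range d, a ^ i := by
    have hpos : 0 < a - 1 := by omega
    apply Nat.le_of_mul_le_mul_left _ hpos
    rw [mul_comm (a - 1) (∑ i ∈ range d, a ^ i), h1]
    exact hj
  calc (A - 1) * (c * j) ≤ (A - 1) * (c * ∑ i ∈ range d, a ^ i) :=
        Nat.mul_le_mul_left _ (Nat.mul_le_mul_left _ hj')
    _ ≤ (A - 1) * ∑ i ∈ range d, A ^ i := Nat.mul_le_mul_left _ hsum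
    _ = A ^ d - 1 := by rw [mul_comm, h2]

/-- (NF) -/
theorem num_field (a e d j : ℕ) (ha : 2 ≤ a) (he : 2 ≤ e) (hd : 2 ≤ d)
    (hex : ¬ (d = 2 ∧ a ^ e = 4)) (hj : (a - 1) * j ≤ a ^ d - 1) :
    (a ^ e - 1) * (e * j) ≤ (a ^ e) ^ d - 1 := by
  have hA : 1 ≤ a ^ e := Nat.one_le_pow _ _ (by omega)
  apply of_sum_le a (a ^ e) e d j ha hA _ hj
  by_cases h22 : a = 2 ∧ e = 2
  · obtain ⟨rfl, rfl⟩ := h22
    have hd3 : 3 ≤ d := by
      rcases Nat.eq_or_lt_of_le hd with rfl | h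
      · exact absurd ⟨rfl, by norm_num⟩ hex
      · exact h
    apply sum_le_of_base 2 (2 ^ 2) 2 3 _ _ d hd3
    · intro i hi
      exact mul_pow_le 2 2 i (le_refl _) (le_refl _) (by omega)
    · norm_num [sum_range_succ]
  · apply sum_le_of_base a (a ^ e) e 2 _ _ d hd
    · intro i hi
      exact mul_pow_le a e i ha he (by omega)
    · have := key_two a e ha he h22
      simpa [sum_range_succ, mul_add, add_comm] using this

end Cfsg.Agent.Lib.Helper20.AutPSLNF
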