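/-
helper20: S2262 (planner helper19) numeric leaf N2 `num_graph`: for `a, e ≥ 2`, `d ≥ 3`, (`e ≥ 3` or `a ≥ 4`) and
`(a - 1) j ≤ a^d - 1` one has `(a^e - 1) (2 e j) ≤ (a^e)^d - 1`.  Same scheme as NF
(`Cfsg.Agent.Lib.Helper20.AutPSLNF`): `2e Σ_{i<d} a^i ≤ Σ_{i<d} (a^e)^i` by induction on `d ≥ 3`.
-/
import Mathlib
import Cfsg.Agent.Lib.Helper20.AutPSLNF

set_option autoImplicit false

namespace Cfsg.Agent.Lib.Helper20.AutPSLN2

open Finset Cfsg.Agent.Lib.Helper20.AutPSLNF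

/-- `2 e a^i ≤ (a^e)^i` for `i ≥ 2` -/
theorem two_mul_pow_le (a e i : ℕ) (ha : 2 ≤ a) (he : 2 ≤ e) (hi : 2 ≤ i) :
    2 * e * a ^ i ≤ (a ^ e) ^ i := by
  have h1 : (e * a) ^ i ≤ (a ^ e) ^ i := Nat.pow_le_pow_left (mul_le_pow a e ha he) i
  have h2 : e ^ 2 ≤ e ^ i := Nat.pow_le_pow_right (by omega) hi
  have h3 : 2 * e ≤ e ^ 2 := by nlinarith
  calc 2 * e * a ^ i ≤ e ^ i * a ^ i := Nat.mul_le_mul_right _ (h3.trans h2)
    _ = (e * a) ^ i := (mul_pow e a i).symm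
    _ ≤ (a ^ e) ^ i := h1

/-- (N2) -/
theorem num_graph (a e d j : ℕ) (ha : 2 ≤ a) (he : 2 ≤ e) (hd : 3 ≤ d) (h : 3 ≤ e ∨ 4 ≤ a)
    (hj : (a - 1) * j ≤ a ^ d - 1) :
    (a ^ e - 1) * (2 * e * j) ≤ (a ^ e) ^ d - 1 := by
  have hA : 1 ≤ a ^ e := Nat.one_le_pow _ _ (by omega)
  have hmain := of_sum_le a (a ^ e) (2 * e) d j ha hA ?_ hj
  · rw [mul_assoc]
    rwa [mul_assoc] at hmain
  apply sum_le_of_base a (a ^ e) (2 * e) 3 _ _ d hd
  · intro i hi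
    exact two_mul_pow_le a e i ha he (by omega)
  · have hea : e * a ≤ a ^ e := mul_le_pow a e ha he
    have hbig : 2 * a + 3 ≤ a ^ e := by
      rcases h with h3 | h4
      · have h1 : a ^ 3 ≤ a ^ e := Nat.pow_le_pow_right (by omega) h3
        have h2 : 2 * a + 3 ≤ a ^ 3 := by nlinarith [mul_le_mul ha ha (by omega) (by omega)]
        exact h2.trans h1
      · have h1 : a ^ 2 ≤ a ^ e := Nat.pow_le_pow_right (by omega) he
        have h2 : 2 * a + 3 ≤ a ^ 2 := by nlinarith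
        exact h2.trans h1
    have hsq : e * a * (2 * a + 3) ≤ a ^ e * a ^ e := Nat.mul_le_mul hea hbig
    have hlow : 2 * e * (1 + a + a ^ 2) ≤ e * a * (2 * a + 3) := by nlinarith
    have : 2 * e * (1 + a + a ^ 2) ≤ 1 + a ^ e + (a ^ e) ^ 2 := by
      calc 2 * e * (1 + a + a ^ 2) ≤ a ^ e * a ^ e := hlow.trans hsq
        _ = (a ^ e) ^ 2 := (sq _).symm
        _ ≤ 1 + a ^ e + (a ^ e) ^ 2 := Nat.le_add_left _ _
    simpa [sum_range_succ] using this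

end Cfsg.Agent.Lib.Helper20.AutPSLN2
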