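import Mathlib
import Cfsg.Agent.Lib.Helper7.DHBDefs
import Cfsg.Agent.Lib.Helper7.DHBALG
import Cfsg.Agent.Lib.Helper7.DHBFROB

/-!
helper20: leaf EQP (`eqp`, step D mod `p`) of market "DHB" (S3616 algebraic core, planner helper7).

`x = x_P + x_off`, `x_off · g = x_off`, `A · g = A` for `g = single s 1`, `s ∈ P`; `E2 · (g - 1)` gives
`w · y = 0` for `w = (2 x_P - (l - m)) (g - 1)`, supported on `P`.  On a coset `c₀ + P` with
`0 < |Y ∩ (c₀ + P)| < p` the shifted fibre `f = ind F` satisfies `w · f = 0` and `f ^ p = |F| ≠ 0`, so `w = 0`: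
the coefficients of `2 x_P - (l - m)` are constant along `P`.
-/

set_option autoImplicit false
set_option linter.unusedSectionVars false
set_option linter.unusedVariables false

namespace Cfsg.Agent.Lib.Helper20.DHBEQP

open Finset Cfsg.Agent.Lib.Helper7.DHB Cfsg.Agent.Lib.Helper7.DHBALG Cfsg.Agent.Lib.Helper7.DHBFROB

variable {n : ℕ} [NeZero n] {X Y : Finset (ZMod n)} {k l m : ℕ}

section coeff

variable {R : Type*} [CommRing R]

/-- coefficient of `a * ind S` -/
theorem coeff_mul_ind (a : AddMonoidAlgebra R (ZMod n)) (S : Finset (ZMod n)) (u : ZMod n) :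
    (a * ind R S).coeff u = ∑ i ∈ S, a.coeff (u - i) := by
  unfold ind
  rw [Finset.mul_sum, AddMonoidAlgebra.coeff_sum, Finsupp.finsetSum_apply]
  refine Finset.sum_congr rfl (fun i _ => ?_)
  rw [AddMonoidAlgebra.coeff_mul_single_apply, mul_one, sub_eq_add_neg]

/-- a translation-invariant `0/1` element is fixed by the translation -/
theorem ind_mul_single_of_invariant (S : Finset (ZMod n)) (s : ZMod n) (hS : ∀ i ∈ S, i + s ∈ S) :
    ind R S * AddMonoidAlgebra.single s (1 : R) = ind R S := by
  classical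
  have himg : S.image (fun i => i + s) = S := by
    apply Finset.eq_of_subset_of_card_le
    · intro j hj
      obtain ⟨i, hi, rfl⟩ := Finset.mem_image.mp hj
      exact hS i hi
    · rw [Finset.card_image_of_injective _ (add_left_injective s)]
  unfold ind
  rw [Finset.sum_mul]
  simp only [AddMonoidAlgebra.single_mul_single, mul_one]
  conv_rhs => rw [← himg]
  rw [Finset.sum_image (fun i _ j _ hij => add_right_cancel hij)]

end coeff

theorem eqp {p : ℕ} [Fact p.Prime] (hp2 : p ≠ 2) (hpn : p ∣ n) (h : Hyp n X Y k l m)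
    (hXinv : PInvOff p X) (hYinv : ¬ PInv p Y) :
    (∀ t : ZMod n, p • t = 0 → t ∉ X) ∨ (∀ t : ZMod n, p • t = 0 → t ≠ 0 → t ∈ X) := by
  classical
  have hp : p.Prime := Fact.out
  -- the bad coset
  have hbad : ∃ c₀ ∈ Y, ∃ t₀ : ZMod n, p • t₀ = 0 ∧ c₀ + t₀ ∉ Y := by
    by_contra hno
    apply hYinv
    intro i hi t ht
    by_contra hit
    exact hno ⟨i, hi, t, ht, hit⟩
  obtain ⟨c₀, hc₀, t₀, ht₀, hct₀⟩ := hbad
  set x := ind (ZMod p) X with hxdef
  set y := ind (ZMod p) Y with hydef
  set A := ind (ZMod p) (univ : Finset (ZMod n)) with hAdef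
  set xP := ind (ZMod p) (X.filter (fun i => p • i = 0)) with hxPdef
  set xoff := ind (ZMod p) (X.filter (fun i => ¬ p • i = 0)) with hxoffdef
  have hx : x = xP + xoff := by
    rw [hxdef, hxPdef, hxoffdef]
    unfold ind
    exact (Finset.sum_filter_add_sum_filter_not X _ _).symm
  obtain ⟨-, hE2⟩ := alg (ZMod p) h
  set c : ZMod p := (l : ZMod p) - m with hcdef
  set z := 2 * xP - c • (1 : AddMonoidAlgebra (ZMod p) (ZMod n)) with hzdef
  -- coefficients of `z`
  have hzcoeff : ∀ v : ZMod n, z.coeff v =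
      2 * (if v ∈ X ∧ p • v = 0 then (1 : ZMod p) else 0) - (if v = 0 then c else 0) := by
    intro v
    have h2 : (2 : AddMonoidAlgebra (ZMod p) (ZMod n)) * xP = xP + xP := by ring
    rw [hzdef, h2]
    simp only [AddMonoidAlgebra.coeff_sub, AddMonoidAlgebra.coeff_add, Finsupp.sub_apply,
      Finsupp.add_apply, AddMonoidAlgebra.coeff_smul, Finsupp.smul_apply, hxPdef, coeff_ind,
      smul_eq_mul, AddMonoidAlgebra.one_def, AddMonoidAlgebra.coeff_single, Finsupp.single_apply,
      Finset.mem_filter]
    by_cases hv : v = 0 <;> by_cases hX : (v ∈ X ∧ p • v = 0)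
    · rw [if_pos hX, if_pos hv, if_pos hv.symm]; ring
    · rw [if_neg hX, if_pos hv, if_pos hv.symm]; ring
    · rw [if_pos hX, if_neg hv, if_neg (Ne.symm hv)]; ring
    · rw [if_neg hX, if_neg hv, if_neg (Ne.symm hv)]; ring
  have hzsupp : ∀ v : ZMod n, p • v ≠ 0 → z.coeff v = 0 := by
    intro v hv
    have hv0 : v ≠ 0 := by
      rintro rfl
      exact hv (smul_zero _)
    rw [hzcoeff, if_neg (fun hh => hv hh.2), if_neg hv0]
    ring
  -- key: `z` is invariant under translation by `P`
  have key : ∀ s : ZMod n, p • s = 0 →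
      z * (AddMonoidAlgebra.single s (1 : ZMod p) - 1) = 0 := by
    intro s hs
    set g := AddMonoidAlgebra.single s (1 : ZMod p) with hgdef
    set w := z * (g - 1) with hwdef
    have hoff : xoff * g = xoff := by
      apply ind_mul_single_of_invariant
      intro i hi
      rw [Finset.mem_filter] at hi ⊢
      refine ⟨hXinv i hi.1 hi.2 s hs, ?_⟩
      rw [smul_add, hs, add_zero]
      exact hi.2
    have hAg : A * g = A := by
      apply ind_mul_single_of_invariant
      intro i _
      exact Finset.mem_univ _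
    have hwy : w * y = 0 := by
      have hE2' := hE2
      rw [← hxdef, ← hydef, ← hAdef, hx] at hE2'
      simp only [Algebra.smul_def] at hE2'
      rw [hwdef, hzdef, Algebra.smul_def, mul_one]
      linear_combination (g - 1) * hE2' - 2 * y * hoff +
        (algebraMap (ZMod p) (AddMonoidAlgebra (ZMod p) (ZMod n)) (m : ZMod p)) * hAg
    -- `w` is supported on `P`
    have hwcoeff : ∀ v : ZMod n, w.coeff v = z.coeff (v - s) - z.coeff v := by
      intro v
      rw [hwdef, mul_sub, mul_one, AddMonoidAlgebra.coeff_sub, Finsupp.sub_apply, hgdef,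
        AddMonoidAlgebra.coeff_mul_single_apply, mul_one, ← sub_eq_add_neg]
    have hwsupp : ∀ v : ZMod n, p • v ≠ 0 → w.coeff v = 0 := by
      intro v hv
      have hv' : p • (v - s) ≠ 0 := by
        rw [smul_sub, hs, sub_zero]; exact hv
      rw [hwcoeff, hzsupp v hv, hzsupp _ hv', sub_zero]
    -- the fibre
    set Fs : Finset (ZMod n) := univ.filter (fun i : ZMod n => p • i = 0 ∧ c₀ + i ∈ Y) with hFs
    have hwF : w * ind (ZMod p) Fs = 0 := by
      apply AddMonoidAlgebra.ext
      ext u
      rw [coeff_mul_ind]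
      simp only [AddMonoidAlgebra.coeff_zero, Finsupp.coe_zero, Pi.zero_apply]
      by_cases hu : p • u = 0
      · have h0 : (w * y).coeff (c₀ + u) = 0 := by rw [hwy]; rfl
        rw [hydef, coeff_mul_ind] at h0
        rw [← h0]
        -- split `Y` according to the coset
        rw [← Finset.sum_filter_add_sum_filter_not Y (fun j => p • (j - c₀) = 0)]
        have hrest : ∑ j ∈ Y.filter (fun j => ¬ p • (j - c₀) = 0), w.coeff (c₀ + u - j) = 0 := by
          apply Finset.sum_eq_zero
          intro j hj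
          rw [Finset.mem_filter] at hj
          apply hwsupp
          intro hcontra
          apply hj.2
          have : j - c₀ = u - (c₀ + u - j) := by ring
          rw [this, smul_sub, hu, hcontra, sub_zero]
        rw [hrest, add_zero]
        have himg : Y.filter (fun j => p • (j - c₀) = 0) = Fs.image (fun i => c₀ + i) := by
          ext j
          rw [Finset.mem_filter, Finset.mem_image]
          constructor
          · rintro ⟨hjY, hj⟩
            refine ⟨j - c₀, ?_, by ring⟩
            rw [hFs, Finset.mem_filter]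
            refine ⟨Finset.mem_univ _, hj, ?_⟩
            rw [add_sub_cancel]; exact hjY
          · rintro ⟨i, hi, rfl⟩
            rw [hFs, Finset.mem_filter] at hi
            refine ⟨hi.2.2, ?_⟩
            rw [add_sub_cancel_left]; exact hi.2.1
        rw [himg, Finset.sum_image (fun i _ j _ hij => add_left_cancel hij)]
        refine Finset.sum_congr rfl (fun i _ => ?_)
        congr 1
        ring
      · apply Finset.sum_eq_zero
        intro i hi
        rw [hFs, Finset.mem_filter] at hi
        apply hwsupp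
        rw [smul_sub, hi.2.1, sub_zero]
        exact hu
    -- `f ^ p = |F|`
    have hFpow : ind (ZMod p) Fs ^ p = (Fs.card : ZMod p) • (1 : AddMonoidAlgebra (ZMod p) (ZMod n)) := by
      rw [ind_pow_p]
      have : ∀ i ∈ Fs, AddMonoidAlgebra.single (p • i) (1 : ZMod p) =
          (1 : AddMonoidAlgebra (ZMod p) (ZMod n)) := by
        intro i hi
        rw [hFs, Finset.mem_filter] at hi
        rw [hi.2.1, AddMonoidAlgebra.one_def]
      rw [Finset.sum_congr rfl this, Finset.sum_const, ← Nat.cast_smul_eq_nsmul (ZMod p)]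
    have hcardF : (Fs.card : ZMod p) ≠ 0 := by
      have h0 : (0 : ZMod n) ∈ Fs := by
        rw [hFs, Finset.mem_filter]
        exact ⟨Finset.mem_univ _, smul_zero _, by rw [add_zero]; exact hc₀⟩
      have hpos : 0 < Fs.card := Finset.card_pos.mpr ⟨0, h0⟩
      have hP : (univ.filter (fun a : ZMod n => p • a = 0)).card ≤ p :=
        IsAddCyclic.card_nsmul_eq_zero_le hp.pos
      have hsub : Fs ⊂ univ.filter (fun a : ZMod n => p • a = 0) := by
        rw [Finset.ssubset_iff_of_subset]
        · refine ⟨t₀, ?_, ?_⟩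
          · rw [Finset.mem_filter]; exact ⟨Finset.mem_univ _, ht₀⟩
          · rw [hFs, Finset.mem_filter]
            exact fun hh => hct₀ hh.2.2
        · intro i hi
          rw [hFs, Finset.mem_filter] at hi
          rw [Finset.mem_filter]
          exact ⟨Finset.mem_univ _, hi.2.1⟩
      have hlt : Fs.card < p := (Finset.card_lt_card hsub).trans_le hP
      intro hzero
      rw [ZMod.natCast_eq_zero_iff] at hzero
      exact absurd (Nat.le_of_dvd hpos hzero) (not_le.mpr hlt)
    have hwp : w * ind (ZMod p) Fs ^ p = 0 := by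
      have hpow : ind (ZMod p) Fs ^ p = ind (ZMod p) Fs * ind (ZMod p) Fs ^ (p - 1) := by
        rw [← pow_succ', Nat.sub_add_cancel hp.pos]
      rw [hpow, ← mul_assoc, hwF, zero_mul]
    rw [hFpow, mul_smul_comm, mul_one] at hwp
    rcases smul_eq_zero.mp hwp with h1 | h1
    · exact absurd h1 hcardF
    · exact h1
  -- conclusion
  have hconst : ∀ t : ZMod n, p • t = 0 → t ≠ 0 →
      2 * (if t ∈ X then (1 : ZMod p) else 0) = - c := by
    intro t ht ht0
    have h1 := key t ht
    have h2 : (z * (AddMonoidAlgebra.single t (1 : ZMod p) - 1)).coeff t = 0 := by rw [h1]; rfl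
    rw [mul_sub, mul_one, AddMonoidAlgebra.coeff_sub, Finsupp.sub_apply,
      AddMonoidAlgebra.coeff_mul_single_apply, mul_one, add_neg_cancel, hzcoeff, hzcoeff,
      if_neg (fun hh : (0 : ZMod n) ∈ X ∧ p • (0 : ZMod n) = 0 => h.zero_notMem hh.1), if_pos rfl,
      if_neg ht0] at h2
    by_cases htX : t ∈ X
    · rw [if_pos ⟨htX, ht⟩] at h2
      rw [if_pos htX]
      linear_combination -h2
    · rw [if_neg (fun hh => htX hh.1)] at h2
      rw [if_neg htX]
      linear_combination -h2
  by_contra hcon
  rw [not_or] at hcon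
  obtain ⟨h1, h2⟩ := hcon
  push Not at h1 h2
  obtain ⟨t₁, ht₁, ht₁X⟩ := h1
  obtain ⟨t₂, ht₂, ht₂0, ht₂X⟩ := h2
  have ht₁0 : t₁ ≠ 0 := by
    rintro rfl
    exact h.zero_notMem ht₁X
  have e1 := hconst t₁ ht₁ ht₁0
  have e2 := hconst t₂ ht₂ ht₂0
  rw [if_pos ht₁X] at e1
  rw [if_neg ht₂X] at e2
  have h20 : (2 : ZMod p) = 0 := by
    rw [mul_one] at e1
    rw [mul_zero] at e2
    rw [e1, ← e2]
  have : ((2 : ℕ) : ZMod p) = 0 := by exact_mod_cast h20
  rw [ZMod.natCast_eq_zero_iff] at this
  have := (Nat.prime_dvd_prime_iff_eq hp Nat.prime_two).mp this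
  exact hp2 this

end Cfsg.Agent.Lib.Helper20.DHBEQP
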