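import Mathlib
import Cfsg.Agent.Lib.Helper7.DHBDefs
import Cfsg.Agent.Lib.Helper20.DHBPAR

/-!
helper20: leaf LEMA (`lemma_A`) of market "DHB" (S3616 algebraic core, planner helper7):
`X` cannot sit inside the subgroup `p • ZMod n` of index `p ≥ 3`.

Counting over the `p` fibres of `f = ZMod.castHom hpn (ZMod p)`:
`E2` summed over a fibre gives `m_c (2κ + m - l) = β m` (so `m_c =: mc` is constant, `|Y| = p mc`),
`E1` summed over a fibre `≠ ker f` gives `β m = p mc²`; hence `2κ + m - l = |Y|`, `m n = |Y|²`; `par` gives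
`m = κ(κ+1) - (κ-1)|Y|`, so `|Y| ≤ κ + 2` (as `m ≥ 2`), `l ≥ |Y| - 2`; but `l/2 = rep X Y u ≤ mc - 1` for `u ∈ Y`.
-/

set_option autoImplicit false

namespace Cfsg.Agent.Lib.Helper20.DHBLEMA

open Finset Cfsg.Agent.Lib.Helper7.DHB

variable {n : ℕ} [NeZero n] {X Y : Finset (ZMod n)} {k l m : ℕ}

theorem lemma_A {p : ℕ} (hp : p.Prime) (hp3 : 3 ≤ p) (hpn : p ∣ n) (h : Hyp n X Y k l m)
    (hm : 0 < m) (hY' : (Yᶜ).Nonempty) (hX2 : 2 ≤ X.card) : NotInMul p X := by
  classical
  by_contra hnot
  have hXt : ∀ i ∈ X, ∃ t : ZMod n, i = p • t := by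
    intro i hi
    by_contra hc
    exact hnot ⟨i, hi, hc⟩
  have : Fact p.Prime := ⟨hp⟩
  set f : ZMod n →+* ZMod p := ZMod.castHom hpn (ZMod p) with hf
  have hfX : ∀ i ∈ X, f i = 0 := by
    intro i hi
    obtain ⟨t, rfl⟩ := hXt i hi
    rw [map_nsmul, nsmul_eq_mul, ZMod.natCast_self, zero_mul]
  have hfsurj : Function.Surjective f := ZMod.ringHom_surjective f
  -- fibres
  set β := (univ.filter (fun u : ZMod n => f u = 0)).card with hβ
  have hfib : ∀ c : ZMod p, (univ.filter (fun u : ZMod n => f u = c)).card = β := by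
    intro c
    obtain ⟨d, hd⟩ := hfsurj c
    symm
    refine Finset.card_bij (fun u _ => u + d) ?_ ?_ ?_
    · intro u hu
      rw [Finset.mem_filter] at hu ⊢
      exact ⟨Finset.mem_univ _, by rw [map_add, hu.2, hd, zero_add]⟩
    · intro u _ u' _ huu
      exact add_right_cancel huu
    · intro v hv
      rw [Finset.mem_filter] at hv
      refine ⟨v - d, ?_, by ring⟩
      rw [Finset.mem_filter]
      exact ⟨Finset.mem_univ _, by rw [map_sub, hv.2, hd, sub_self]⟩
  have hcardp : Fintype.card (ZMod p) = p := ZMod.card p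
  have hpβ : p * β = n := by
    have h1 : (univ : Finset (ZMod n)).card =
        ∑ c : ZMod p, (univ.filter (fun u : ZMod n => f u = c)).card :=
      Finset.card_eq_sum_card_fiberwise (f := fun u : ZMod n => f u) (s := univ) (t := univ)
        (fun _ _ => by simp)
    rw [Finset.card_univ, ZMod.card, Finset.sum_congr rfl (fun c _ => hfib c), Finset.sum_const,
      Finset.card_univ, hcardp, smul_eq_mul] at h1
    exact h1.symm
  have hn0 : 0 < n := Nat.pos_of_ne_zero (NeZero.ne n)
  have hβ0 : 0 < β := by
    rcases Nat.eq_zero_or_pos β with h0 | h0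
    · rw [h0, mul_zero] at hpβ; omega
    · exact h0
  -- the numbers `m_c`
  set mC : ZMod p → ℕ := fun c => (Y.filter (fun u => f u = c)).card with hmC
  set κ := X.card with hκ
  -- Step 1: `E2` summed over a fibre
  have eq1 : ∀ c : ZMod p, 2 * (κ * mC c) + m * mC c = l * mC c + m * β := by
    intro c
    have hA : ∑ u ∈ univ.filter (fun u : ZMod n => f u = c), rep X Y u = κ * mC c := by
      have hs : ((X ×ˢ Y).filter (fun q => f q.2 = c)).card = κ * mC c := by
        have : (X ×ˢ Y).filter (fun q => f q.2 = c) = X ×ˢ (Y.filter (fun u => f u = c)) := by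
          ext q
          simp only [Finset.mem_filter, Finset.mem_product]
          tauto
        rw [this, Finset.card_product]
      rw [← hs]
      rw [Finset.card_eq_sum_card_fiberwise (f := fun q : ZMod n × ZMod n => q.1 + q.2)
        (s := (X ×ˢ Y).filter (fun q => f q.2 = c)) (t := univ.filter (fun u : ZMod n => f u = c))]
      · refine Finset.sum_congr rfl (fun u hu => ?_)
        rw [Finset.mem_filter] at hu
        unfold rep
        congr 1
        ext q
        simp only [Finset.mem_filter, Finset.mem_product]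
        constructor
        · rintro ⟨⟨hq1, hq2⟩, hq3⟩
          refine ⟨⟨⟨hq1, hq2⟩, ?_⟩, hq3⟩
          have : f q.2 = f (q.1 + q.2) - f q.1 := by rw [map_add]; ring
          rw [this, hq3, hu.2, hfX _ hq1, sub_zero]
        · rintro ⟨⟨hq, _⟩, hq3⟩
          exact ⟨hq, hq3⟩
      · intro q hq
        rw [Finset.mem_coe, Finset.mem_filter, Finset.mem_product] at hq
        rw [Finset.mem_coe, Finset.mem_filter]
        exact ⟨Finset.mem_univ _, by rw [map_add, hfX _ hq.1.1, hq.2, zero_add]⟩
    have hB : ∑ u ∈ univ.filter (fun u : ZMod n => f u = c), 2 * rep X Y u =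
        ∑ u ∈ univ.filter (fun u : ZMod n => f u = c), (if u ∈ Y then l else m) :=
      Finset.sum_congr rfl (fun u _ => h.E2 u)
    rw [← Finset.mul_sum, hA, Finset.sum_ite, Finset.sum_const, Finset.sum_const, smul_eq_mul,
      smul_eq_mul] at hB
    have h1 : ((univ.filter (fun u : ZMod n => f u = c)).filter (fun u => u ∈ Y)).card = mC c := by
      rw [hmC]
      congr 1
      ext u
      simp only [Finset.mem_filter, Finset.mem_univ, true_and]
      tauto
    have h2 : ((univ.filter (fun u : ZMod n => f u = c)).filter (fun u => u ∈ Y)).card +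
        ((univ.filter (fun u : ZMod n => f u = c)).filter (fun u => ¬ u ∈ Y)).card = β := by
      rw [Finset.card_filter_add_card_filter_not, hfib c]
    rw [h1] at hB h2
    set c2 := ((univ.filter (fun u : ZMod n => f u = c)).filter (fun u => ¬ u ∈ Y)).card
    have e : m * β = m * (mC c + c2) := congrArg (fun t => m * t) h2.symm
    rw [e]
    nlinarith [hB]
  have hmβ : 0 < m * β := Nat.mul_pos hm hβ0
  have hmC0 : ∀ c, 0 < mC c := by
    intro c
    rcases Nat.eq_zero_or_pos (mC c) with h0 | h0
    · have := eq1 c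
      rw [h0] at this
      omega
    · exact h0
  -- `e = 2κ + m - l > 0` in `ℤ`
  have hepos : (l : ℤ) < 2 * κ + m := by
    have h1 := eq1 0
    have h2 := hmC0 0
    by_contra hle
    rw [not_lt] at hle
    have hle' : 2 * κ + m ≤ l := by exact_mod_cast hle
    have : 2 * (κ * mC 0) + m * mC 0 ≤ l * mC 0 := by nlinarith
    omega
  have eq1Z : ∀ c : ZMod p, (mC c : ℤ) * (2 * κ + m - l) = m * β := by
    intro c
    have := eq1 c
    zify at this
    linarith
  have hconst : ∀ c : ZMod p, mC c = mC 0 := by
    intro c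
    have h1 := eq1Z c
    have h2 := eq1Z 0
    have h3 : (mC c : ℤ) * (2 * κ + m - l) = (mC 0 : ℤ) * (2 * κ + m - l) := by rw [h1, h2]
    have h4 : (2 * (κ : ℤ) + m - l) ≠ 0 := by linarith
    exact_mod_cast mul_right_cancel₀ h4 h3
  set mc := mC 0 with hmc
  have hmc0 : 0 < mc := hmC0 0
  -- `|Y| = p mc`
  have hcY : Y.card = p * mc := by
    have h1 : Y.card = ∑ c : ZMod p, (Y.filter (fun u => f u = c)).card :=
      Finset.card_eq_sum_card_fiberwise (f := fun u : ZMod n => f u) (s := Y) (t := univ)
        (fun _ _ => by simp)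
    rw [h1]
    have : ∀ c ∈ (univ : Finset (ZMod p)), (Y.filter (fun u => f u = c)).card = mc :=
      fun c _ => hconst c
    rw [Finset.sum_congr rfl this, Finset.sum_const, Finset.card_univ, hcardp, smul_eq_mul]
  -- Step 2: `E1` summed over the fibre over `1`
  have hd : (1 : ZMod p) ≠ 0 := one_ne_zero
  have eq2 : β * m = p * (mc * mc) := by
    have hdif : ∀ z ∈ univ.filter (fun u : ZMod n => f u = 1), dif Y Y z = m := by
      intro z hz
      rw [Finset.mem_filter] at hz
      have hz0 : z ≠ 0 := by
        intro h0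
        rw [h0, map_zero] at hz
        exact hd hz.2.symm
      have hzX : z ∉ X := by
        intro hzX
        rw [hfX z hzX] at hz
        exact hd hz.2.symm
      have hrep : rep X X z = 0 := by
        unfold rep
        rw [Finset.card_eq_zero, Finset.filter_eq_empty_iff]
        intro q hq hq2
        rw [Finset.mem_product] at hq
        have : f (q.1 + q.2) = 0 := by rw [map_add, hfX _ hq.1, hfX _ hq.2, add_zero]
        rw [hq2, hz.2] at this
        exact hd this
      have := h.E1 z
      rw [if_neg hz0, if_neg hzX, hrep, zero_add] at this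
      exact this
    have hA : ∑ z ∈ univ.filter (fun u : ZMod n => f u = 1), dif Y Y z = β * m := by
      rw [Finset.sum_congr rfl hdif, Finset.sum_const, hfib 1, smul_eq_mul]
    have hB : ∑ z ∈ univ.filter (fun u : ZMod n => f u = 1), dif Y Y z =
        ((Y ×ˢ Y).filter (fun q => f q.2 - f q.1 = 1)).card := by
      rw [Finset.card_eq_sum_card_fiberwise (f := fun q : ZMod n × ZMod n => q.2 - q.1)
        (s := (Y ×ˢ Y).filter (fun q => f q.2 - f q.1 = 1))
        (t := univ.filter (fun u : ZMod n => f u = 1))]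
      · refine Finset.sum_congr rfl (fun z hz => ?_)
        rw [Finset.mem_filter] at hz
        unfold dif
        congr 1
        ext q
        simp only [Finset.mem_filter, Finset.mem_product]
        constructor
        · rintro ⟨hq, hq3⟩
          refine ⟨⟨hq, ?_⟩, hq3⟩
          rw [← map_sub, hq3, hz.2]
        · rintro ⟨⟨hq, _⟩, hq3⟩
          exact ⟨hq, hq3⟩
      · intro q hq
        rw [Finset.mem_coe, Finset.mem_filter] at hq
        rw [Finset.mem_coe, Finset.mem_filter]
        exact ⟨Finset.mem_univ _, by rw [map_sub, hq.2]⟩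
    have hC : ((Y ×ˢ Y).filter (fun q => f q.2 - f q.1 = 1)).card = p * (mc * mc) := by
      rw [Finset.card_eq_sum_card_fiberwise (f := fun q : ZMod n × ZMod n => f q.1)
        (s := (Y ×ˢ Y).filter (fun q => f q.2 - f q.1 = 1)) (t := univ) (fun _ _ => by simp)]
      have : ∀ c ∈ (univ : Finset (ZMod p)),
          (((Y ×ˢ Y).filter (fun q => f q.2 - f q.1 = 1)).filter (fun q => f q.1 = c)).card
            = mc * mc := by
        intro c _
        have hset : ((Y ×ˢ Y).filter (fun q => f q.2 - f q.1 = 1)).filter (fun q => f q.1 = c) =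
            (Y.filter (fun u => f u = c)) ×ˢ (Y.filter (fun u => f u = c + 1)) := by
          ext q
          simp only [Finset.mem_filter, Finset.mem_product]
          constructor
          · rintro ⟨⟨⟨h1, h2⟩, h3⟩, h4⟩
            refine ⟨⟨h1, h4⟩, ⟨h2, ?_⟩⟩
            rw [← h4, ← h3]; ring
          · rintro ⟨⟨h1, h4⟩, ⟨h2, h5⟩⟩
            refine ⟨⟨⟨h1, h2⟩, ?_⟩, h4⟩
            rw [h4, h5]; ring
        rw [hset, Finset.card_product]
        change mC c * mC (c + 1) = mc * mc
        rw [hconst c, hconst (c + 1)]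
      rw [Finset.sum_congr rfl this, Finset.sum_const, Finset.card_univ, hcardp, smul_eq_mul]
    rw [← hA, hB, hC]
  -- Step 3
  have hmcZ : (mc : ℤ) * (2 * κ + m - l) = m * β := eq1Z 0
  have he : (2 * (κ : ℤ) + m - l) = p * mc := by
    have h1 : (mc : ℤ) * (2 * κ + m - l) = (mc : ℤ) * (p * mc) := by
      rw [hmcZ]
      have := eq2
      zify at this
      linarith
    have h2 : (mc : ℤ) ≠ 0 := by exact_mod_cast hmc0.ne'
    exact mul_left_cancel₀ h2 h1
  have hmn : m * n = Y.card * Y.card := by
    rw [hcY, ← hpβ]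
    calc m * (p * β) = p * (β * m) := by ring
      _ = p * (p * (mc * mc)) := by rw [eq2]
      _ = p * mc * (p * mc) := by ring
  -- Step 4: `par`
  obtain ⟨hk, -, hpar3⟩ := DHBPAR.par h
  set C := Y.card with hC
  have heC : (2 * (κ : ℤ) + m - l) = C := by rw [he, hcY]; push_cast; ring
  have hM : (m : ℤ) = κ * (κ + 1) - (κ - 1) * C := by
    have h3 : (κ : ℤ) ^ 2 + (C : ℤ) ^ 2 + m * (κ + 1) = k + l * κ + m * n := by
      exact_mod_cast hpar3
    have h1 : (κ : ℤ) + C = k := by exact_mod_cast hk
    have h2 : (m : ℤ) * n = C * C := by exact_mod_cast hmn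
    have hl : (l : ℤ) = 2 * κ + m - C := by linarith
    rw [hl, ← h1, h2] at h3
    linarith [h3]
  -- Step 5
  obtain ⟨j, hj⟩ := hY'
  have hjY : j ∉ Y := by simpa using hj
  have hm2 : 2 ≤ m := by
    have := h.E2 j
    rw [if_neg hjY] at this
    omega
  have hκ2 : (2 : ℤ) ≤ κ := by exact_mod_cast hX2
  have hCle : (C : ℤ) ≤ κ + 2 := by
    by_contra hgt
    rw [not_le] at hgt
    have hm2' : (2 : ℤ) ≤ m := by exact_mod_cast hm2
    nlinarith
  have hl2 : (C : ℤ) ≤ l + 2 := by
    have hm2' : (2 : ℤ) ≤ m := by exact_mod_cast hm2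
    linarith
  -- Step 6
  have hCpos : 0 < C := by rw [hcY]; exact Nat.mul_pos hp.pos hmc0
  obtain ⟨u, hu⟩ := Finset.card_pos.mp hCpos
  have hrepu : rep X Y u + 1 ≤ mc := by
    have huY : u ∈ Y.filter (fun v => f v = f u) := by
      rw [Finset.mem_filter]; exact ⟨hu, rfl⟩
    have h1 : rep X Y u ≤ ((Y.filter (fun v => f v = f u)).erase u).card := by
      unfold rep
      refine Finset.card_le_card_of_injOn (fun q => q.2) ?_ ?_
      · intro q hq
        rw [Finset.mem_coe, Finset.mem_filter, Finset.mem_product] at hq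
        rw [Finset.mem_coe, Finset.mem_erase, Finset.mem_filter]
        refine ⟨?_, hq.1.2, ?_⟩
        · intro hq2
          have hq2' : q.2 = u := hq2
          have : q.1 = 0 := by
            have := hq.2
            rw [hq2'] at this
            exact add_eq_right.mp this
          exact h.zero_notMem (this ▸ hq.1.1)
        · rw [← hq.2, map_add, hfX _ hq.1.1, zero_add]
      · intro q hq q' hq' hqq
        rw [Finset.mem_coe, Finset.mem_filter] at hq hq'
        have h2 : q.2 = q'.2 := hqq
        have h1 : q.1 = q'.1 := by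
          have := hq.2.trans hq'.2.symm
          rw [h2] at this
          exact add_right_cancel this
        exact Prod.ext h1 h2
    rw [Finset.card_erase_of_mem huY] at h1
    have h2 : (Y.filter (fun v => f v = f u)).card = mc := hconst (f u)
    rw [h2] at h1
    omega
  have hE2u := h.E2 u
  rw [if_pos hu] at hE2u
  have h3mc : 3 * mc ≤ C := by
    rw [hcY]; exact Nat.mul_le_mul_right _ hp3
  have : (C : ℤ) ≤ 2 * mc := by
    have h1 : (l : ℤ) + 2 ≤ 2 * mc := by
      have : l + 2 ≤ 2 * mc := by omega
      exact_mod_cast this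
    linarith
  have h3' : (3 : ℤ) * mc ≤ C := by exact_mod_cast h3mc
  have hmcZ0 : (0 : ℤ) < mc := by exact_mod_cast hmc0
  linarith

end Cfsg.Agent.Lib.Helper20.DHBLEMA
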