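import Cfsg.Agent.Lib.Helper20.EQM5

/-!
# EQ leaf M10 (planner helper2): the stabiliser of `⟨e_0⟩` in `SL (Fin (N+1)) F` is generated by
the upper root groups, the torus and the lower simple root groups at the positions `i ≥ 1`
(Gaussian elimination).
-/

set_option autoImplicit false

namespace Cfsg.Agent.Lib.Helper20.EQ

open Matrix Module Cfsg.Agent.Lib.Helper2.EQ

section M10

variable {F : Type*} [Field F] {n : ℕ}

/-- entries of `(1 + t E_cd) * A` -/
theorem one_add_single_mul_apply (A : Matrix (Fin n) (Fin n) F) (c d : Fin n) (t : F)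
    (i j : Fin n) :
    ((1 + Matrix.single c d t) * A) i j = A i j + if i = c then t * A d j else 0 := by
  rw [add_mul, one_mul, Matrix.add_apply]
  congr 1
  by_cases h : i = c
  · subst h
    simp
  · rw [if_neg h, single_mul_apply_of_ne _ _ _ _ _ h]

/-- right multiplication by a root element: a column operation -/
theorem mul_X_apply (g : SpecialLinearGroup (Fin n) F) (a b : Fin n) (hab : a ≠ b) (t : F)
    (i j : Fin n) :
    (g * X a b t).1 i j = g.1 i j + if j = b then g.1 i a * t else 0 := by
  have h1 : (g * X a b t).1 = g.1 * (1 + Matrix.single a b t) := by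
    rw [← X_val_of_ne a b hab t]
    rfl
  rw [h1, mul_one_add_single_apply]

/-- left multiplication by a root element: a row operation -/
theorem X_mul_apply (g : SpecialLinearGroup (Fin n) F) (a b : Fin n) (hab : a ≠ b) (t : F)
    (i j : Fin n) :
    (X a b t * g).1 i j = g.1 i j + if i = a then t * g.1 b j else 0 := by
  have h1 : (X a b t * g).1 = (1 + Matrix.single a b t) * g.1 := by
    rw [← X_val_of_ne a b hab t]
    rfl
  rw [h1, one_add_single_mul_apply]

/-- clearing a row by column operations -/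
theorem exists_clear_row (K : Subgroup (SpecialLinearGroup (Fin n) F)) (k : Fin n)
    (c : Fin n → F) (g : SpecialLinearGroup (Fin n) F) (J : Finset (Fin n))
    (hJ : ∀ j ∈ J, j ≠ k ∧ ∀ t : F, X k j t ∈ K) :
    ∃ h ∈ K, ∀ i j, (g * h).1 i j = g.1 i j + if j ∈ J then g.1 i k * c j else 0 := by
  induction J using Finset.induction_on with
  | empty => exact ⟨1, K.one_mem, fun i j => by simp⟩
  | insert j0 J' hj0 ih =>
    obtain ⟨h', hh', hf⟩ := ih (fun j hj => hJ j (Finset.mem_insert_of_mem hj))
    obtain ⟨hne, hX⟩ := hJ j0 (Finset.mem_insert_self _ _)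
    refine ⟨h' * X k j0 (c j0), K.mul_mem hh' (hX _), fun i j => ?_⟩
    have hk : k ∉ J' := fun hk => (hJ k (Finset.mem_insert_of_mem hk)).1 rfl
    rw [← mul_assoc, mul_X_apply _ k j0 hne.symm, hf, hf, if_neg hk, add_zero]
    by_cases hj : j = j0
    · subst hj
      rw [if_pos rfl, if_neg hj0, if_pos (Finset.mem_insert_self _ _), add_zero]
    · rw [if_neg hj, add_zero]
      by_cases hjJ : j ∈ J'
      · rw [if_pos hjJ, if_pos (Finset.mem_insert_of_mem hjJ)]
      · have hjJ' : j ∉ insert j0 J' := by
          rw [Finset.mem_insert]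
          tauto
        rw [if_neg hjJ, if_neg hjJ']

/-- clearing a column by row operations -/
theorem exists_clear_col (K : Subgroup (SpecialLinearGroup (Fin n) F)) (k : Fin n)
    (c : Fin n → F) (g : SpecialLinearGroup (Fin n) F) (I : Finset (Fin n))
    (hI : ∀ i ∈ I, i ≠ k ∧ ∀ t : F, X i k t ∈ K) :
    ∃ h ∈ K, ∀ i j, (h * g).1 i j = g.1 i j + if i ∈ I then c i * g.1 k j else 0 := by
  induction I using Finset.induction_on with
  | empty => exact ⟨1, K.one_mem, fun i j => by simp⟩
  | insert i0 I' hi0 ih =>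
    obtain ⟨h', hh', hf⟩ := ih (fun i hi => hI i (Finset.mem_insert_of_mem hi))
    obtain ⟨hne, hX⟩ := hI i0 (Finset.mem_insert_self _ _)
    refine ⟨X i0 k (c i0) * h', K.mul_mem (hX _) hh', fun i j => ?_⟩
    have hk : k ∉ I' := fun hk => (hI k (Finset.mem_insert_of_mem hk)).1 rfl
    rw [mul_assoc, X_mul_apply _ i0 k hne, hf, hf, if_neg hk, add_zero]
    by_cases hi : i = i0
    · subst hi
      rw [if_pos rfl, if_neg hi0, if_pos (Finset.mem_insert_self _ _), add_zero]
    · rw [if_neg hi, add_zero]
      by_cases hiI : i ∈ I'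
      · rw [if_pos hiI, if_pos (Finset.mem_insert_of_mem hiI)]
      · have hiI' : i ∉ insert i0 I' := by
          rw [Finset.mem_insert]
          tauto
        rw [if_neg hiI, if_neg hiI']

/-- a diagonal element of `SL` is in the torus -/
theorem exists_dg_eq_of_diag (g : SpecialLinearGroup (Fin n) F)
    (hd : ∀ i j : Fin n, i ≠ j → g.1 i j = 0) :
    ∃ t : Tor n F, dg t = g := by
  have hdiag : g.1 = diagonal (fun i => g.1 i i) := by
    ext i j
    by_cases h : i = j
    · subst h
      rw [diagonal_apply_eq]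
    · rw [diagonal_apply_ne _ h, hd i j h]
  have hdet : ∏ i, g.1 i i = 1 := by
    have h1 : (diagonal (fun i => g.1 i i)).det = 1 := by
      rw [← hdiag]
      exact g.2
    rwa [det_diagonal] at h1
  have hne : ∀ i, g.1 i i ≠ 0 := by
    intro i h0
    have h2 : ∏ i, g.1 i i = 0 := Finset.prod_eq_zero (Finset.mem_univ i) h0
    rw [hdet] at h2
    exact one_ne_zero h2
  have hu : (fun i => Units.mk0 (g.1 i i) (hne i)) ∈ Tor n F := by
    rw [MonoidHom.mem_ker]
    show ∏ i, Units.mk0 (g.1 i i) (hne i) = 1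
    apply Units.ext
    rw [Units.coe_prod, Units.val_one]
    exact hdet
  refine ⟨⟨fun i => Units.mk0 (g.1 i i) (hne i), hu⟩, ?_⟩
  apply sl_ext
  exact hdiag.symm

/-- the elimination: an element whose off-diagonal entries vanish outside the upper left
`k × k` block and whose column `0` is a multiple of `e_0` lies in `K` -/
theorem mem_of_offblock (K : Subgroup (SpecialLinearGroup (Fin n) F))
    (hU : ∀ a b : Fin n, a < b → ∀ t : F, X a b t ∈ K)
    (hL : ∀ a b : Fin n, b < a → b.val ≠ 0 → ∀ t : F, X a b t ∈ K)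
    (hT : ∀ t : Tor n F, dg t ∈ K) :
    ∀ k : ℕ, k ≤ n → ∀ g : SpecialLinearGroup (Fin n) F,
      (∀ i j : Fin n, i ≠ j → (k ≤ i.val ∨ k ≤ j.val) → g.1 i j = 0) →
      (∀ i j : Fin n, i.val ≠ 0 → j.val = 0 → g.1 i j = 0) → g ∈ K := by
  intro k
  induction k with
  | zero =>
    intro _ g hoff _
    obtain ⟨t, rfl⟩ := exists_dg_eq_of_diag g
      (fun i j hij => hoff i j hij (Or.inl (Nat.zero_le _)))
    exact hT t
  | succ k ih =>
    intro hk g hoff hcol
    have ih' := ih (Nat.le_of_succ_le hk)
    rcases Nat.eq_zero_or_pos k with rfl | hkpos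
    · apply ih' g _ hcol
      intro i j hij _
      apply hoff i j hij
      by_contra hcon
      push Not at hcon
      apply hij
      apply Fin.ext
      omega
    · have hkn : k < n := hk
      have hrow : ∃ j, g.1 ⟨k, hkn⟩ j ≠ 0 := by
        by_contra hcon
        push Not at hcon
        have h0 : g.1.det = 0 := Matrix.det_eq_zero_of_row_eq_zero ⟨k, hkn⟩ hcon
        have h1 : g.1.det = 1 := g.2
        rw [h1] at h0
        exact one_ne_zero h0
      -- (a) the pivot
      have hpiv : ∃ h1 ∈ K,
          (∀ i j : Fin n, i ≠ j → (k + 1 ≤ i.val ∨ k + 1 ≤ j.val) → (g * h1).1 i j = 0) ∧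
          (∀ i j : Fin n, i.val ≠ 0 → j.val = 0 → (g * h1).1 i j = 0) ∧
          (g * h1).1 ⟨k, hkn⟩ ⟨k, hkn⟩ ≠ 0 := by
        by_cases hp : g.1 ⟨k, hkn⟩ ⟨k, hkn⟩ = 0
        · obtain ⟨j, hj⟩ := hrow
          have hjk : j ≠ ⟨k, hkn⟩ := fun h => hj (h ▸ hp)
          have hjk' : j.val ≠ k := fun h => hjk (Fin.ext h)
          have hjlt : j.val < k := by
            by_contra hcon
            push Not at hcon
            have h2 : k + 1 ≤ j.val := by omega
            exact hj (hoff ⟨k, hkn⟩ j (Ne.symm hjk) (Or.inr h2))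
          refine ⟨X j ⟨k, hkn⟩ 1, hU j ⟨k, hkn⟩ (by rw [Fin.lt_def]; exact hjlt) 1, ?_, ?_, ?_⟩
          · intro i j' hij' hor
            rw [mul_X_apply g j ⟨k, hkn⟩ hjk, hoff i j' hij' hor, zero_add]
            by_cases hj' : j' = ⟨k, hkn⟩
            · rw [if_pos hj', mul_one]
              have hi : k + 1 ≤ i.val := by
                rcases hor with h | h
                · exact h
                · rw [hj'] at h
                  simp at h
              have hij : i ≠ j := by
                intro h
                rw [h] at hi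
                omega
              exact hoff i j hij (Or.inl hi)
            · rw [if_neg hj']
          · intro i j' hi hj'
            rw [mul_X_apply g j ⟨k, hkn⟩ hjk, hcol i j' hi hj', zero_add]
            have hj'' : j' ≠ ⟨k, hkn⟩ := by
              intro h
              rw [h] at hj'
              simp at hj'
              omega
            rw [if_neg hj'']
          · rw [mul_X_apply g j ⟨k, hkn⟩ hjk, if_pos rfl, hp, zero_add, mul_one]
            exact hj
        · exact ⟨1, K.one_mem, by simpa using hoff, by simpa using hcol, by simpa using hp⟩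
      obtain ⟨h1, hh1, hoff1, hcol1, hp1⟩ := hpiv
      -- (b) clear the row `k`
      obtain ⟨h2, hh2, hf2⟩ := exists_clear_row K ⟨k, hkn⟩
        (fun j => -((g * h1).1 ⟨k, hkn⟩ j / (g * h1).1 ⟨k, hkn⟩ ⟨k, hkn⟩)) (g * h1)
        (Finset.univ.filter (fun j : Fin n => j.val ≠ 0 ∧ j.val < k))
        (by
          intro j hj
          rw [Finset.mem_filter] at hj
          refine ⟨fun h => ?_, fun t => hL ⟨k, hkn⟩ j (by rw [Fin.lt_def]; exact hj.2.2) hj.2.1 t⟩
          rw [h] at hj
          simp at hj)
      have hrow2 : ∀ j : Fin n, j ≠ ⟨k, hkn⟩ → (g * h1 * h2).1 ⟨k, hkn⟩ j = 0 := by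
        intro j hjk
        have hjk' : j.val ≠ k := fun h => hjk (Fin.ext h)
        rw [hf2]
        by_cases hjJ : j ∈ Finset.univ.filter (fun j : Fin n => j.val ≠ 0 ∧ j.val < k)
        · rw [if_pos hjJ]
          field_simp
          ring
        · rw [if_neg hjJ, add_zero]
          rw [Finset.mem_filter] at hjJ
          by_cases hj0 : j.val = 0
          · exact hcol1 _ j (by simp; omega) hj0
          · have h3 : k + 1 ≤ j.val := by
              have h4 : ¬ j.val < k := fun h => hjJ ⟨Finset.mem_univ _, hj0, h⟩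
              omega
            exact hoff1 _ j (Ne.symm hjk) (Or.inr h3)
      have hkk2 : (g * h1 * h2).1 ⟨k, hkn⟩ ⟨k, hkn⟩ = (g * h1).1 ⟨k, hkn⟩ ⟨k, hkn⟩ := by
        rw [hf2, if_neg (by simp), add_zero]
      have hoff2 : ∀ i j : Fin n, i ≠ j → (k + 1 ≤ i.val ∨ k + 1 ≤ j.val) →
          (g * h1 * h2).1 i j = 0 := by
        intro i j hij hor
        rw [hf2, hoff1 i j hij hor, zero_add]
        by_cases hjJ : j ∈ Finset.univ.filter (fun j : Fin n => j.val ≠ 0 ∧ j.val < k)
        · rw [if_pos hjJ]
          rw [Finset.mem_filter] at hjJ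
          have hi : k + 1 ≤ i.val := by
            rcases hor with h | h
            · exact h
            · omega
          have hik : i ≠ ⟨k, hkn⟩ := by
            intro h
            rw [h] at hi
            simp at hi
          rw [hoff1 i ⟨k, hkn⟩ hik (Or.inl hi), zero_mul]
        · rw [if_neg hjJ]
      have hcol2 : ∀ i j : Fin n, i.val ≠ 0 → j.val = 0 → (g * h1 * h2).1 i j = 0 := by
        intro i j hi hj
        rw [hf2, hcol1 i j hi hj, zero_add, if_neg]
        rw [Finset.mem_filter]
        intro h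
        exact h.2.1 hj
      -- (c) clear the column `k`
      obtain ⟨h3, hh3, hf3⟩ := exists_clear_col K ⟨k, hkn⟩
        (fun i => -((g * h1 * h2).1 i ⟨k, hkn⟩ / (g * h1).1 ⟨k, hkn⟩ ⟨k, hkn⟩)) (g * h1 * h2)
        (Finset.univ.filter (fun i : Fin n => i.val < k))
        (by
          intro i hi
          rw [Finset.mem_filter] at hi
          refine ⟨fun h => ?_, fun t => hU i ⟨k, hkn⟩ (by rw [Fin.lt_def]; exact hi.2) t⟩
          rw [h] at hi
          simp at hi)
      have hmem : h3 * (g * h1 * h2) ∈ K := by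
        apply ih'
        · intro i j hij hor
          rw [hf3]
          by_cases hjk : j = ⟨k, hkn⟩
          · subst hjk
            by_cases hiI : i ∈ Finset.univ.filter (fun i : Fin n => i.val < k)
            · rw [if_pos hiI, hkk2]
              field_simp
              ring
            · rw [if_neg hiI, add_zero]
              rw [Finset.mem_filter] at hiI
              have hik' : i.val ≠ k := fun h => hij (Fin.ext h)
              have h4 : ¬ i.val < k := fun h => hiI ⟨Finset.mem_univ _, h⟩
              exact hoff2 i _ hij (Or.inl (by omega))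
          · rw [hrow2 j hjk, mul_zero, ite_self, add_zero]
            by_cases hik : i = ⟨k, hkn⟩
            · subst hik
              exact hrow2 j hjk
            · have hik' : i.val ≠ k := fun h => hik (Fin.ext h)
              have hjk' : j.val ≠ k := fun h => hjk (Fin.ext h)
              apply hoff2 i j hij
              rcases hor with h | h
              · left
                omega
              · right
                omega
        · intro i j hi hj
          rw [hf3, hcol2 i j hi hj, zero_add]
          have hjk : j ≠ ⟨k, hkn⟩ := by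
            intro h
            rw [h] at hj
            simp at hj
            omega
          rw [hrow2 j hjk, mul_zero, ite_self]
      have hg : g = h3⁻¹ * (h3 * (g * h1 * h2)) * h2⁻¹ * h1⁻¹ := by group
      rw [hg]
      exact K.mul_mem (K.mul_mem (K.mul_mem (K.inv_mem hh3) hmem) (K.inv_mem hh2)) (K.inv_mem hh1)

end M10

section M10'

variable {F : Type*} [Field F] {N : ℕ}

/-- the lower simple root groups at positions `≥ 1`, with arbitrary indices -/
theorem X_lower_simple_mem (K : Subgroup (SpecialLinearGroup (Fin (N + 1)) F))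
    (hS : ∀ i : Fin N, i.val ≠ 0 → ∀ t : F, X i.succ i.castSucc t ∈ K)
    (a b : Fin (N + 1)) (hab : a.val = b.val + 1) (hb : b.val ≠ 0) (t : F) : X a b t ∈ K := by
  have hbN : b.val < N := by
    have := a.2
    omega
  have h1 : (⟨b.val, hbN⟩ : Fin N).succ = a := Fin.ext (by simp [hab])
  have h2 : (⟨b.val, hbN⟩ : Fin N).castSucc = b := Fin.ext (by simp)
  have h3 := hS ⟨b.val, hbN⟩ hb t
  rwa [h1, h2] at h3

/-- all lower root groups `X a b`, `a > b ≥ 1`, lie in a subgroup containing the simple ones
and the upper ones -/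
theorem X_lower_mem (K : Subgroup (SpecialLinearGroup (Fin (N + 1)) F))
    (hS : ∀ i : Fin N, i.val ≠ 0 → ∀ t : F, X i.succ i.castSucc t ∈ K) :
    ∀ d : ℕ, ∀ a b : Fin (N + 1), a.val = b.val + (d + 1) → b.val ≠ 0 → ∀ t : F,
      X a b t ∈ K := by
  intro d
  induction d with
  | zero =>
    intro a b hab hb t
    exact X_lower_simple_mem K hS a b hab hb t
  | succ d ih =>
    intro a b hab hb t
    have hcN : b.val + 1 < N + 1 := by
      have := a.2
      omega
    have hac : a ≠ ⟨b.val + 1, hcN⟩ := by
      intro h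
      have h5 := congrArg Fin.val h
      simp at h5
      omega
    have hcb : (⟨b.val + 1, hcN⟩ : Fin (N + 1)) ≠ b := by
      intro h
      have h5 := congrArg Fin.val h
      simp at h5
    have hab' : a ≠ b := by
      intro h
      have h5 := congrArg Fin.val h
      omega
    have h1 : X a ⟨b.val + 1, hcN⟩ t ∈ K := ih a ⟨b.val + 1, hcN⟩ (by simp; omega) (by simp) t
    have h2 : X (⟨b.val + 1, hcN⟩ : Fin (N + 1)) b (1 : F) ∈ K :=
      X_lower_simple_mem K hS ⟨b.val + 1, hcN⟩ b rfl hb 1
    have h3 := X_comm_rel a ⟨b.val + 1, hcN⟩ b hac hcb hab' t 1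
    have h4 : X a b t = X a ⟨b.val + 1, hcN⟩ t * X ⟨b.val + 1, hcN⟩ b 1 *
        (X a ⟨b.val + 1, hcN⟩ t)⁻¹ * (X (⟨b.val + 1, hcN⟩ : Fin (N + 1)) b (1 : F))⁻¹ := by
      rw [h3, mul_one]
      group
    rw [h4]
    exact K.mul_mem (K.mul_mem (K.mul_mem h1 h2) (K.inv_mem h1)) (K.inv_mem h2)

/-- M10: the stabiliser of `⟨e_0⟩` is generated by `U`, the torus and the lower simple root
groups at the positions `i ≥ 1` -/
theorem stab_le_closure (g : SpecialLinearGroup (Fin (N + 1)) F)
    (hg : ∀ i : Fin N, (g : Matrix (Fin (N + 1)) (Fin (N + 1)) F) i.succ 0 = 0) :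
    g ∈ Subgroup.closure
      ({g : SpecialLinearGroup (Fin (N + 1)) F | ∃ a b, a < b ∧ ∃ t : F, g = X a b t} ∪
        {g | ∃ i : Fin N, i.val ≠ 0 ∧ ∃ t : F, g = X i.succ i.castSucc t} ∪
        Set.range (dg (F := F) (m := N + 1))) := by
  have hU : ∀ a b : Fin (N + 1), a < b → ∀ t : F, X a b t ∈ Subgroup.closure
      ({g : SpecialLinearGroup (Fin (N + 1)) F | ∃ a b, a < b ∧ ∃ t : F, g = X a b t} ∪
        {g | ∃ i : Fin N, i.val ≠ 0 ∧ ∃ t : F, g = X i.succ i.castSucc t} ∪
        Set.range (dg (F := F) (m := N + 1))) :=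
    fun a b hab t => Subgroup.subset_closure (Or.inl (Or.inl ⟨a, b, hab, t, rfl⟩))
  have hS : ∀ i : Fin N, i.val ≠ 0 → ∀ t : F, X i.succ i.castSucc t ∈ Subgroup.closure
      ({g : SpecialLinearGroup (Fin (N + 1)) F | ∃ a b, a < b ∧ ∃ t : F, g = X a b t} ∪
        {g | ∃ i : Fin N, i.val ≠ 0 ∧ ∃ t : F, g = X i.succ i.castSucc t} ∪
        Set.range (dg (F := F) (m := N + 1))) :=
    fun i hi t => Subgroup.subset_closure (Or.inl (Or.inr ⟨i, hi, t, rfl⟩))
  have hT : ∀ t : Tor (N + 1) F, dg t ∈ Subgroup.closure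
      ({g : SpecialLinearGroup (Fin (N + 1)) F | ∃ a b, a < b ∧ ∃ t : F, g = X a b t} ∪
        {g | ∃ i : Fin N, i.val ≠ 0 ∧ ∃ t : F, g = X i.succ i.castSucc t} ∪
        Set.range (dg (F := F) (m := N + 1))) :=
    fun t => Subgroup.subset_closure (Or.inr ⟨t, rfl⟩)
  have hL : ∀ a b : Fin (N + 1), b < a → b.val ≠ 0 → ∀ t : F, X a b t ∈ Subgroup.closure
      ({g : SpecialLinearGroup (Fin (N + 1)) F | ∃ a b, a < b ∧ ∃ t : F, g = X a b t} ∪
        {g | ∃ i : Fin N, i.val ≠ 0 ∧ ∃ t : F, g = X i.succ i.castSucc t} ∪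
        Set.range (dg (F := F) (m := N + 1))) := by
    intro a b hba hb t
    have h1 : a.val = b.val + (a.val - b.val - 1 + 1) := by
      rw [Fin.lt_def] at hba
      omega
    exact X_lower_mem _ hS _ a b h1 hb t
  apply mem_of_offblock _ hU hL hT (N + 1) le_rfl g
  · intro i j _ hor
    exfalso
    rcases hor with h | h
    · have := i.2
      omega
    · have := j.2
      omega
  · intro i j hi hj
    have hj0 : j = 0 := Fin.ext hj
    subst hj0
    have hi0 : i ≠ 0 := by
      intro h
      apply hi
      rw [h]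
      rfl
    obtain ⟨i', rfl⟩ := Fin.exists_succ_eq.2 hi0
    exact hg i'

end M10'

end Cfsg.Agent.Lib.Helper20.EQ
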