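import Cfsg.Agent.Lib.Helper20.EQM1

/-!
# EQ leaves M5–M7 (planner helper2): the Weyl elements `sd a b` of `SL (Fin m) F`.
-/

set_option autoImplicit false

namespace Cfsg.Agent.Lib.Helper20.EQ

open Matrix Module Cfsg.Agent.Lib.Helper2.EQ

section M

variable {F : Type*} [Field F] {m : ℕ}

/-- entries of `A * (1 + t E_cd)` -/
theorem mul_one_add_single_apply (A : Matrix (Fin m) (Fin m) F) (c d : Fin m) (t : F)
    (i j : Fin m) :
    (A * (1 + Matrix.single c d t)) i j = A i j + if j = d then A i c * t else 0 := by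
  rw [mul_add, mul_one, Matrix.add_apply]
  congr 1
  by_cases h : j = d
  · subst h
    simp
  · rw [if_neg h, mul_single_apply_of_ne _ _ _ _ _ h]

/-- the entries of the Weyl element: column `j` is `± e_{swap a b j}`, the sign being `-1`
exactly for `j = a` -/
theorem sd_apply (a b : Fin m) (hab : a ≠ b) (i j : Fin m) :
    ((sd a b : SpecialLinearGroup (Fin m) F) : Matrix (Fin m) (Fin m) F) i j =
      if i = Equiv.swap a b j then (if j = a then -1 else 1) else 0 := by
  have h1 : ((sd a b : SpecialLinearGroup (Fin m) F) : Matrix (Fin m) (Fin m) F) =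
      (1 + Matrix.single a b 1) * (1 + Matrix.single b a (-1)) * (1 + Matrix.single a b 1) := by
    show ((X a b 1 * X b a (-1) * X a b 1 : SpecialLinearGroup (Fin m) F) :
      Matrix (Fin m) (Fin m) F) = _
    rw [Matrix.SpecialLinearGroup.coe_mul, Matrix.SpecialLinearGroup.coe_mul,
      X_val_of_ne a b hab, X_val_of_ne b a hab.symm]
  rw [h1]
  simp only [mul_one_add_single_apply, Matrix.add_apply, Matrix.one_apply, Matrix.single_apply]
  rcases eq_or_ne j a with rfl | hja
  · rw [Equiv.swap_apply_left]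
    rcases eq_or_ne i b with rfl | hib
    · simp [hab, hab.symm]
    · rcases eq_or_ne i j with rfl | hij
      · simp [hab, hab.symm]
      · simp [hab, hab.symm, hib, hij, hij.symm, hib.symm]
  · rcases eq_or_ne j b with rfl | hjb
    · rw [Equiv.swap_apply_right]
      rcases eq_or_ne i a with rfl | hia
      · simp [hab, hab.symm]
      · rcases eq_or_ne i j with rfl | hij
        · simp [hab, hab.symm]
        · simp [hab, hab.symm, hia, hij, hij.symm, hia.symm]
    · rw [Equiv.swap_apply_of_ne_of_ne hja hjb]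
      rcases eq_or_ne i j with rfl | hij
      · simp [hja, hjb, Ne.symm hja, Ne.symm hjb]
      · simp [hja, hjb, Ne.symm hja, Ne.symm hjb, hij, hij.symm]

/-- entries of `A * t E_cd * B` -/
theorem mul_single_mul_apply (A B : Matrix (Fin m) (Fin m) F) (c d : Fin m) (t : F)
    (i j : Fin m) :
    (A * Matrix.single c d t * B) i j = A i c * t * B d j := by
  rw [Matrix.mul_apply, Finset.sum_eq_single d]
  · rw [mul_single_apply_same]
  · intro k _ hk
    rw [mul_single_apply_of_ne _ _ _ _ _ hk, zero_mul]
  · intro h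
    exact absurd (Finset.mem_univ _) h

/-- `sd b a` is the inverse of `sd a b` -/
theorem sd_mul_sd_symm (a b : Fin m) (hab : a ≠ b) :
    (sd a b : SpecialLinearGroup (Fin m) F) * sd b a = 1 := by
  apply sl_ext
  rw [Matrix.SpecialLinearGroup.coe_mul, Matrix.SpecialLinearGroup.coe_one]
  ext i j
  rw [Matrix.mul_apply, Finset.sum_eq_single (Equiv.swap a b j)]
  · rw [sd_apply a b hab, sd_apply b a hab.symm, Equiv.swap_comm b a, Equiv.swap_apply_self,
      if_pos rfl, Matrix.one_apply]
    by_cases hij : i = j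
    · rw [if_pos hij, if_pos hij]
      by_cases hjb : j = b
      · subst hjb
        simp
      · have h3 : Equiv.swap a b j ≠ a := by
          intro h
          apply hjb
          have h4 := congrArg (Equiv.swap a b) h
          simpa using h4
        simp [hjb, h3]
    · simp [hij]
  · intro k _ hk
    rw [sd_apply b a hab.symm k j, Equiv.swap_comm b a, if_neg hk, mul_zero]
  · intro h
    exact absurd (Finset.mem_univ _) h

/-- `sd b a` is the inverse of `sd a b` -/
theorem sd_inv (a b : Fin m) (hab : a ≠ b) :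
    (sd a b : SpecialLinearGroup (Fin m) F)⁻¹ = sd b a :=
  inv_eq_of_mul_eq_one_right (sd_mul_sd_symm a b hab)

/-- the explicit form of M5 -/
theorem sd_conj_X_aux (a b c d : Fin m) (hab : a ≠ b) (hcd : c ≠ d) (t : F) :
    sd a b * X c d t * sd b a =
      X (Equiv.swap a b c) (Equiv.swap a b d)
        ((if c = a then (-1 : F) else 1) * (if d = a then (-1 : F) else 1) * t) := by
  have hne : Equiv.swap a b c ≠ Equiv.swap a b d := fun h => hcd ((Equiv.swap a b).injective h)
  apply sl_ext
  rw [Matrix.SpecialLinearGroup.coe_mul, Matrix.SpecialLinearGroup.coe_mul, X_val_of_ne c d hcd,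
    X_val_of_ne _ _ hne, mul_add, add_mul, mul_one, ← Matrix.SpecialLinearGroup.coe_mul,
    sd_mul_sd_symm a b hab, Matrix.SpecialLinearGroup.coe_one]
  congr 1
  ext i j
  rw [mul_single_mul_apply, sd_apply a b hab, sd_apply b a hab.symm, Equiv.swap_comm b a,
    Matrix.single_apply]
  by_cases h1 : i = Equiv.swap a b c
  · by_cases h2 : d = Equiv.swap a b j
    · have h2' : Equiv.swap a b d = j := by rw [h2, Equiv.swap_apply_self]
      have h3 : (j = b) ↔ (d = a) := by
        constructor
        · intro h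
          rw [h2, h, Equiv.swap_apply_right]
        · intro h
          rw [← h2', h, Equiv.swap_apply_left]
      have h4 : Equiv.swap a b c = i ∧ Equiv.swap a b d = j := ⟨h1.symm, h2'⟩
      rw [if_pos h1, if_pos h2, if_pos h4]
      simp only [h3]
      ring
    · have h2' : ¬ Equiv.swap a b d = j := fun h => h2 (by rw [← h, Equiv.swap_apply_self])
      have h4 : ¬ (Equiv.swap a b c = i ∧ Equiv.swap a b d = j) := fun h => h2' h.2
      rw [if_neg h2, mul_zero, if_neg h4]
  · have h4 : ¬ (Equiv.swap a b c = i ∧ Equiv.swap a b d = j) := fun h => h1 h.1.symm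
    rw [if_neg h1, zero_mul, zero_mul, if_neg h4]

/-- M5: the Weyl element `sd a b` permutes the root groups (up to sign) -/
theorem sd_conj_X (a b c d : Fin m) (hab : a ≠ b) (hcd : c ≠ d) :
    ∃ ε : F, (ε = 1 ∨ ε = -1) ∧ ∀ t : F,
      sd a b * X c d t * (sd a b)⁻¹ = X (Equiv.swap a b c) (Equiv.swap a b d) (ε * t) := by
  refine ⟨(if c = a then (-1 : F) else 1) * (if d = a then (-1 : F) else 1), ?_, fun t => ?_⟩
  · split_ifs <;> simp
  · rw [sd_inv a b hab]
    exact sd_conj_X_aux a b c d hab hcd t

/-- M5': the inverse of the Weyl element as well -/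
theorem sd_inv_conj_X (a b c d : Fin m) (hab : a ≠ b) (hcd : c ≠ d) :
    ∃ ε : F, (ε = 1 ∨ ε = -1) ∧ ∀ t : F,
      (sd a b)⁻¹ * X c d t * sd a b = X (Equiv.swap a b c) (Equiv.swap a b d) (ε * t) := by
  refine ⟨(if c = b then (-1 : F) else 1) * (if d = b then (-1 : F) else 1), ?_, fun t => ?_⟩
  · split_ifs <;> simp
  · rw [sd_inv a b hab, Equiv.swap_comm a b]
    exact sd_conj_X_aux b a c d hab.symm hcd t

/-- M6: the Weyl element acts on the torus by the transposition -/
theorem sd_conj_dg (a b : Fin m) (hab : a ≠ b) (t : Tor m F) :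
    (sd a b)⁻¹ * dg t * sd a b = dg (permTor (Equiv.swap a b) t) := by
  rw [mul_assoc, inv_mul_eq_iff_eq_mul]
  apply sl_ext
  rw [Matrix.SpecialLinearGroup.coe_mul, Matrix.SpecialLinearGroup.coe_mul]
  show diagonal (fun i => ((t : Fin m → Fˣ) i : F)) * _ =
    _ * diagonal (fun i => (((permTor (Equiv.swap a b) t : Tor m F) : Fin m → Fˣ) i : F))
  ext i j
  rw [diagonal_mul, mul_diagonal, sd_apply a b hab]
  by_cases h : i = Equiv.swap a b j
  · rw [if_pos h]
    have h5 : (((permTor (Equiv.swap a b) t : Tor m F) : Fin m → Fˣ) j) =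
        (t : Fin m → Fˣ) i := by
      show (t : Fin m → Fˣ) ((Equiv.swap a b)⁻¹ j) = _
      rw [Equiv.swap_inv, h]
    rw [h5, mul_comm]
  · rw [if_neg h, mul_zero, zero_mul]

/-- M7 -/
theorem sd_sq (a b : Fin m) (hab : a ≠ b) : (sd a b : SpecialLinearGroup (Fin m) F) * sd a b =
    dg (hc a b (-1)) := by
  apply sl_ext
  rw [Matrix.SpecialLinearGroup.coe_mul]
  show _ = diagonal (fun i => (((hc a b (-1) : Tor m F) : Fin m → Fˣ) i : F))
  ext i j
  rw [Matrix.mul_apply, Finset.sum_eq_single (Equiv.swap a b j)]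
  · rw [sd_apply a b hab, sd_apply a b hab, Equiv.swap_apply_self, if_pos rfl,
      Matrix.diagonal_apply]
    by_cases hij : i = j
    · subst hij
      rw [if_pos rfl, if_pos rfl]
      show _ = (((Pi.mulSingle a (-1 : Fˣ) * Pi.mulSingle b (-1 : Fˣ)⁻¹ : Fin m → Fˣ) i : Fˣ) : F)
      rcases eq_or_ne i a with rfl | hia
      · simp [hab, hab.symm]
      · rcases eq_or_ne i b with rfl | hib
        · simp [hab, hab.symm]
        · simp [hia, hib, Equiv.swap_apply_of_ne_of_ne]
    · simp [hij]
  · intro k _ hk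
    rw [sd_apply a b hab k j, if_neg hk, mul_zero]
  · intro h
    exact absurd (Finset.mem_univ _) h

end M

end Cfsg.Agent.Lib.Helper20.EQ
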