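import Cfsg.Agent.Lib.Helper2.EQDefs

/-!
# EQ leaves M1–M4 (planner helper2): matrix identities for root elements of `SL (Fin m) F`.
-/

set_option autoImplicit false

namespace Cfsg.Agent.Lib.Helper20.EQ

open Matrix Module Cfsg.Agent.Lib.Helper2.EQ

section M

variable {F : Type*} [Field F] {m : ℕ}

/-- the matrix of a root element at distinct positions -/
theorem X_val_of_ne (a b : Fin m) (h : a ≠ b) (t : F) :
    ((X a b t : SpecialLinearGroup (Fin m) F) : Matrix (Fin m) (Fin m) F) =
      1 + Matrix.single a b t := by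
  have h1 : (X a b t : SpecialLinearGroup (Fin m) F) =
      ⟨transvection a b t, det_transvection_of_ne a b h t⟩ := dif_pos h
  rw [h1]
  rfl

/-- extensionality through the matrix coercion -/
theorem sl_ext {A B : SpecialLinearGroup (Fin m) F}
    (h : (A : Matrix (Fin m) (Fin m) F) = (B : Matrix (Fin m) (Fin m) F)) : A = B :=
  Subtype.ext h

/-- the root element at equal positions is trivial -/
theorem X_self (a : Fin m) (t : F) : (X a a t : SpecialLinearGroup (Fin m) F) = 1 := by
  exact dif_neg (by simp)

/-- M1 -/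
theorem X_add (a b : Fin m) (s t : F) : X a b (s + t) = X a b s * X a b t := by
  by_cases h : a = b
  · subst h
    simp [X_self]
  · apply sl_ext
    rw [Matrix.SpecialLinearGroup.coe_mul, X_val_of_ne a b h, X_val_of_ne a b h, X_val_of_ne a b h]
    rw [add_mul, mul_add, mul_add, one_mul, one_mul, mul_one,
      single_mul_single_of_ne _ _ _ _ (Ne.symm h), Matrix.single_add]
    abel

/-- M1' -/
theorem X_zero (a b : Fin m) : X a b (0 : F) = 1 := by
  by_cases h : a = b
  · subst h
    simp [X_self]
  · apply sl_ext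
    rw [X_val_of_ne a b h]
    simp

/-- M2: root groups on "unlinked" positions commute -/
theorem X_comm (a b c d : Fin m) (hbc : b ≠ c) (had : a ≠ d) (s t : F) :
    X a b s * X c d t = X c d t * X a b s := by
  by_cases h1 : a = b
  · subst h1
    simp [X_self]
  by_cases h2 : c = d
  · subst h2
    simp [X_self]
  apply sl_ext
  rw [Matrix.SpecialLinearGroup.coe_mul, Matrix.SpecialLinearGroup.coe_mul, X_val_of_ne a b h1,
    X_val_of_ne c d h2]
  simp only [add_mul, mul_add, one_mul, mul_one, single_mul_single_of_ne _ _ _ _ hbc,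
    single_mul_single_of_ne _ _ _ _ (Ne.symm had)]
  abel

/-- M3: the Chevalley commutator relation -/
theorem X_comm_rel (a b c : Fin m) (hab : a ≠ b) (hbc : b ≠ c) (hac : a ≠ c) (s t : F) :
    X a b s * X b c t = X a c (s * t) * X b c t * X a b s := by
  apply sl_ext
  rw [Matrix.SpecialLinearGroup.coe_mul, Matrix.SpecialLinearGroup.coe_mul, Matrix.SpecialLinearGroup.coe_mul,
    X_val_of_ne a b hab, X_val_of_ne b c hbc, X_val_of_ne a c hac]
  simp only [add_mul, mul_add, one_mul, mul_one, single_mul_single_same,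
    single_mul_single_of_ne _ _ _ _ (Ne.symm hbc), single_mul_single_of_ne _ _ _ _ (Ne.symm hac),
    add_zero]
  abel

/-- M4: the torus normalises the root groups -/
theorem dg_conj_X (t : Tor m F) (a b : Fin m) (s : F) :
    dg t * X a b s * (dg t)⁻¹ =
      X a b ((((t : Fin m → Fˣ) a : Fˣ) : F) * ((((t : Fin m → Fˣ) b)⁻¹ : Fˣ) : F) * s) := by
  by_cases h : a = b
  · subst h
    simp [X_self]
  rw [mul_inv_eq_iff_eq_mul]
  apply sl_ext
  rw [Matrix.SpecialLinearGroup.coe_mul, Matrix.SpecialLinearGroup.coe_mul, X_val_of_ne a b h,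
    X_val_of_ne a b h]
  show diagonal (fun i => ((t : Fin m → Fˣ) i : F)) * (1 + Matrix.single a b s) =
    (1 + Matrix.single a b _) * diagonal (fun i => ((t : Fin m → Fˣ) i : F))
  rw [mul_add, add_mul, mul_one, one_mul]
  congr 1
  ext i j
  rw [diagonal_mul, mul_diagonal, Matrix.single_apply, Matrix.single_apply]
  split_ifs with h1
  · obtain ⟨rfl, rfl⟩ := h1
    have hb : (((t : Fin m → Fˣ) b : Fˣ) : F) ≠ 0 := Units.ne_zero _
    rw [Units.val_inv_eq_inv_val]
    field_simp
  · simp

end M

end Cfsg.Agent.Lib.Helper20.EQ
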