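import Cfsg.Agent.Lib.Helper20.EQR4Core
import Cfsg.Agent.Lib.Helper6.EQR1
import Cfsg.Agent.Lib.Helper5.EQR3

/-!
# EQ leaf R4 (planner helper2): exact-name wrapper of `finrank_wtT_perm_of` on the landed leaves
R1, R2 (helper6) and R3 (helper5).
-/

set_option autoImplicit false

namespace Cfsg.Agent.Lib.Helper20.EQ

open Matrix Module Cfsg.Agent.Lib.Helper16.SLMin Cfsg.Agent.Lib.Helper16.SLMinSpine
  Cfsg.Agent.Lib.Helper2.EQ

section R

variable {F : Type*} [Field F] [Fintype F] [DecidableEq F] {M : Type*} [AddCommGroup M]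
  [Module ℂ M] [FiniteDimensional ℂ M]

variable {N : ℕ}

/-- R4: the multiset of torus weights on `C_M(U)` is stable under the Weyl group -/
theorem finrank_wtT_perm (ρ : Representation ℂ (SpecialLinearGroup (Fin (N + 1)) F) M)
    (θ : Tor (N + 1) F →* ℂˣ) (σ : Equiv.Perm (Fin (N + 1))) :
    finrank ℂ ↥(Cfix ρ ⊓ wtT ρ (θ.comp (permTor σ).toMonoidHom)) =
      finrank ℂ ↥(Cfix ρ ⊓ wtT ρ θ) :=
  finrank_wtT_perm_of ρ
    (fun i _ hx => Cfsg.Agent.Lib.Helper6.EQ.Ti_mem_Cfix ρ i hx)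
    (fun i θ _ hx => Cfsg.Agent.Lib.Helper6.EQ.Ti_mem_wtT ρ i θ hx)
    (fun i θ _ hx => Cfsg.Agent.Lib.Helper5.EQ.Ti_quadratic ρ i θ hx) θ σ

end R

end Cfsg.Agent.Lib.Helper20.EQ
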