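import Mathlib
import Cfsg.Agent.Lib.Lead.CharBurnside

/-!
General lemmas used for the classification of the subgroups `H` of `GL₄(2) ≅ A₈` with
`O₂(H) = O_{2'}(H) = 1` (statement S2553).
-/

set_option autoImplicit false

namespace Cfsg.Agent.Lib.Helper20.A8Sub

open Subgroup
open scoped commutatorElement

universe u

/-- A group whose order divides `p ^ a * q ^ b` is solvable (Burnside). -/
theorem isSolvable_of_card_dvd_pq {G : Type u} [Group G] [Finite G] (p q a b : ℕ) (hp : p.Prime)
    (hq : q.Prime) (h : Nat.card G ∣ p ^ a * q ^ b) : Group.IsSolvable G := by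
  obtain ⟨x, y, hx, hy, hxy⟩ := (Nat.dvd_mul).1 h
  obtain ⟨a', -, rfl⟩ := (Nat.dvd_prime_pow hp).1 hx
  obtain ⟨b', -, rfl⟩ := (Nat.dvd_prime_pow hq).1 hy
  exact Cfsg.Agent.CharLib.isSolvable_of_card_pq p q a' b' hp hq hxy.symm

/-- A finite simple group embeds in the symmetric group on the cosets of any proper subgroup. -/
theorem card_dvd_factorial_index {G : Type*} [Group G] [Finite G] [IsSimpleGroup G]
    (K : Subgroup G) (hK : K ≠ ⊤) : Nat.card G ∣ (K.index).factorial := by
  have hker : (MulAction.toPermHom G (G ⧸ K)).ker = ⊥ := by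
    rcases (MulAction.toPermHom G (G ⧸ K)).normal_ker.eq_bot_or_eq_top with h | h
    · exact h
    · exfalso
      apply hK
      rw [eq_top_iff, ← h, ← Subgroup.normalCore_eq_ker]
      exact Subgroup.normalCore_le K
  have hinj : Function.Injective (MulAction.toPermHom G (G ⧸ K)) :=
    (MonoidHom.ker_eq_bot_iff _).1 hker
  have h1 := Subgroup.card_dvd_of_injective _ hinj
  rwa [Nat.card_perm, ← Subgroup.index_eq_card] at h1

/-- Proper subgroups of a non-solvable simple group have index at least `5`. -/
theorem five_le_index {G : Type u} [Group G] [Finite G] [IsSimpleGroup G] (hns : ¬ Group.IsSolvable G)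
    (K : Subgroup G) (hK : K ≠ ⊤) : 5 ≤ K.index := by
  by_contra hlt
  push Not at hlt
  apply hns
  have h1 := card_dvd_factorial_index K hK
  have h2 : (K.index).factorial ∣ (4 : ℕ).factorial := Nat.factorial_dvd_factorial (by omega)
  have h3 : Nat.card G ∣ 2 ^ 3 * 3 ^ 1 := by
    have : (4 : ℕ).factorial = 2 ^ 3 * 3 ^ 1 := by decide
    rw [← this]
    exact h1.trans h2
  exact isSolvable_of_card_dvd_pq 2 3 3 1 Nat.prime_two Nat.prime_three h3

/-- A nontrivial solvable normal subgroup contains a nontrivial normal `p`-subgroup of the whole group. -/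
theorem exists_normal_pgroup_of_solvable {G : Type*} [Group G] [Finite G] :
    ∀ (n : ℕ) (N : Subgroup G), Nat.card N = n → N.Normal → Group.IsSolvable N → N ≠ ⊥ →
      ∃ (p : ℕ) (A : Subgroup G), p.Prime ∧ A.Normal ∧ A ≠ ⊥ ∧ IsPGroup p A := by
  intro n
  induction n using Nat.strong_induction_on with
  | _ n ih =>
    intro N hn hN hs hne
    haveI := hN
    by_cases hcomm : ⁅N, N⁆ = ⊥
    · -- `N` is abelian
      have hab : ∀ x ∈ N, ∀ y ∈ N, x * y = y * x := by
        intro x hx y hy
        have h1 : ⁅x, y⁆ ∈ ⁅N, N⁆ := Subgroup.commutator_mem_commutator hx hy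
        rw [hcomm, Subgroup.mem_bot] at h1
        exact commutatorElement_eq_one_iff_mul_comm.1 h1
      have hnt : Nontrivial N := by
        rw [Subgroup.nontrivial_iff_ne_bot]
        exact hne
      have hcard : Nat.card N ≠ 1 := by
        intro h1
        exact hne (Subgroup.card_eq_one.1 h1)
      obtain ⟨p, hp, hpd⟩ := Nat.exists_prime_and_dvd hcard
      haveI : Fact p.Prime := ⟨hp⟩
      obtain ⟨x, hx⟩ := exists_prime_orderOf_dvd_card' p hpd
      let A : Subgroup G :=
        { carrier := {y | y ∈ N ∧ ∃ k : ℕ, y ^ (p ^ k) = 1}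
          one_mem' := ⟨N.one_mem, 0, by simp⟩
          mul_mem' := by
            rintro a b ⟨ha, k, hk⟩ ⟨hb, l, hl⟩
            refine ⟨N.mul_mem ha hb, k + l, ?_⟩
            have hc : Commute a b := hab a ha b hb
            rw [hc.mul_pow, pow_add, pow_mul, hk, one_pow, one_mul, mul_comm (p ^ k), pow_mul, hl,
              one_pow]
          inv_mem' := by
            rintro a ⟨ha, k, hk⟩
            exact ⟨N.inv_mem ha, k, by rw [inv_pow, hk, inv_one]⟩ }
      refine ⟨p, A, hp, ?_, ?_, ?_⟩
      · constructor
        rintro a ⟨ha, k, hk⟩ g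
        refine ⟨hN.conj_mem a ha g, k, ?_⟩
        rw [conj_pow, hk, mul_one, mul_inv_cancel]
      · intro hA
        have hxA : (x : G) ∈ A := by
          refine ⟨x.2, 1, ?_⟩
          rw [pow_one, ← hx]
          have := pow_orderOf_eq_one x
          exact_mod_cast congrArg Subtype.val this
        rw [hA, Subgroup.mem_bot] at hxA
        have hx1 : x = 1 := Subtype.ext hxA
        rw [hx1, orderOf_one] at hx
        exact hp.one_lt.ne' hx.symm
      · intro a
        obtain ⟨k, hk⟩ := a.2.2
        exact ⟨k, Subtype.ext (by simpa using hk)⟩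
    · -- pass to the derived subgroup
      have hlt : Nat.card (⁅N, N⁆ : Subgroup G) < n := by
        rw [← hn]
        have hle : ⁅N, N⁆ ≤ N := Subgroup.commutator_le_right N N
        by_contra hge
        push Not at hge
        have heq : ⁅N, N⁆ = N := Subgroup.eq_of_le_of_card_ge hle hge
        -- `N` perfect contradicts solvability
        have hnt : Nontrivial N := by
          rw [Subgroup.nontrivial_iff_ne_bot]
          exact hne
        have h1 := Group.IsSolvable.commutator_lt_top_of_nontrivial (G := N)
        have h2 : (commutator N).map N.subtype = ⁅N, N⁆ := by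
          rw [commutator_def, Subgroup.map_commutator, ← MonoidHom.range_eq_map, Subgroup.range_subtype]
        have h3 : (commutator N).map N.subtype = N := by rw [h2, heq]
        have h4 : commutator N = ⊤ := by
          apply Subgroup.map_injective N.subtype_injective
          rw [h3, ← MonoidHom.range_eq_map, Subgroup.range_subtype]
        exact h1.ne h4
      have hsol : Group.IsSolvable (⁅N, N⁆ : Subgroup G) := by
        have hle : ⁅N, N⁆ ≤ N := Subgroup.commutator_le_right N N
        haveI := hs
        exact Group.isSolvable_of_isSolvable_injective (Subgroup.inclusion_injective hle)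
      exact ih _ hlt ⁅N, N⁆ rfl inferInstance hsol hcomm

/-- If `O_p(G) = 1` for every prime `p` (in the form: no nontrivial normal `p`-subgroups) then `G` has
no nontrivial solvable normal subgroup. -/
theorem eq_bot_of_solvable_normal {G : Type*} [Group G] [Finite G]
    (hcore : ∀ (p : ℕ) (A : Subgroup G), p.Prime → A.Normal → IsPGroup p A → A = ⊥)
    (N : Subgroup G) (hN : N.Normal) (hs : Group.IsSolvable N) : N = ⊥ := by
  by_contra hne
  obtain ⟨p, A, hp, hA, hA1, hAp⟩ := exists_normal_pgroup_of_solvable _ N rfl hN hs hne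
  exact hA1 (hcore p A hp hA hAp)

/-- `|N_G(⟨c⟩) : C_G(c)|` divides `p - 1` for an element `c` of prime order `p`. -/
theorem card_normalizer_dvd {G : Type*} [Group G] [Finite G] (c : G) (p : ℕ) (hp : p.Prime)
    (hc : orderOf c = p) :
    Nat.card (normalizer (zpowers c : Set G)) ∣
      Nat.card (centralizer ({c} : Set G)) * (p - 1) := by
  have key := Subgroup.card_dvd_of_injective _
    (QuotientGroup.kerLift_injective (zpowers c).normalizerMonoidHom)
  rw [Subgroup.normalizerMonoidHom_ker] at key
  have hcyc : Nat.card (MulAut (zpowers c)) = p - 1 := by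
    rw [IsCyclic.card_mulAut, Nat.card_zpowers, hc, Nat.totient_prime hp]
  rw [hcyc] at key
  have hcz : centralizer (zpowers c : Set G) = centralizer ({c} : Set G) := by
    rw [Subgroup.zpowers_eq_closure, Subgroup.centralizer_closure]
  rw [hcz] at key
  have hle : centralizer ({c} : Set G) ≤ normalizer (zpowers c : Set G) := by
    rw [← hcz]
    exact Subgroup.centralizer_le_normalizer _
  have h1 : Nat.card (normalizer (zpowers c : Set G)) =
      Nat.card ((centralizer ({c} : Set G)).subgroupOf (normalizer (zpowers c : Set G))) *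
      Nat.card ((normalizer (zpowers c : Set G)) ⧸
        (centralizer ({c} : Set G)).subgroupOf (normalizer (zpowers c : Set G))) :=
    (Subgroup.card_eq_card_quotient_mul_card_subgroup _).trans (mul_comm _ _)
  rw [h1]
  have h2 : Nat.card ((centralizer ({c} : Set G)).subgroupOf (normalizer (zpowers c : Set G))) =
      Nat.card (centralizer ({c} : Set G)) :=
    Nat.card_congr (Subgroup.subgroupOfEquivOfLe hle).toEquiv
  rw [h2]
  exact Nat.mul_dvd_mul_left _ key

end Cfsg.Agent.Lib.Helper20.A8Sub
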