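/-
helper20: S5280 leaf PC1 (for helper2): transport of `GoodIn` between the group `↥H` and subgroups
of `G`.
-/
import Mathlib
import Cfsg.Prelude.Def_LocalEven
import Cfsg.Prelude.Def_PLocal
import Cfsg.Prelude.Def_FusionSystem
import Cfsg.Agent.Lib.Helper2.PCDefs

set_option autoImplicit false

open Cfsg.Agent.Lib.Helper2.PC

namespace Cfsg.Agent.Lib.Helper20.PCLeaf

theorem goodIn_of_subtype {G : Type*} [Group G] (H : Subgroup G) (P' : Subgroup ↥H)
    (h : GoodIn (⊤ : Subgroup ↥H) P') : GoodIn H (P'.map H.subtype) := by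
  obtain ⟨R', hR'P, hPN, hcen, hctl⟩ := h
  refine ⟨R'.map H.subtype, Subgroup.map_mono hR'P, ?_, ?_, ?_⟩
  · rintro _ ⟨x, hx, rfl⟩
    have hxN := hPN hx
    rw [Subgroup.mem_normalizer_iff] at hxN ⊢
    intro y
    constructor
    · rintro ⟨r, hr, rfl⟩
      exact ⟨x * r * x⁻¹, (hxN r).1 hr, by simp⟩
    · rintro ⟨r, hr, hrr⟩
      refine ⟨x⁻¹ * r * x, ?_, ?_⟩
      · have h1 : x * (x⁻¹ * r * x) * x⁻¹ = r := by group
        exact (hxN (x⁻¹ * r * x)).2 (by rw [h1]; exact hr)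
      · have h2 : H.subtype (x⁻¹ * r * x) = (H.subtype x)⁻¹ * H.subtype r * H.subtype x := by
          simp
        rw [h2, hrr]; group
  · intro z hz
    obtain ⟨hz1, hzc⟩ := Subgroup.mem_inf.1 hz
    obtain ⟨x, hx, rfl⟩ := hz1
    have hxc : x ∈ Subgroup.centralizer (R' : Set ↥H) := by
      rw [Subgroup.mem_centralizer_iff] at hzc ⊢
      intro r hr
      apply Subtype.ext
      exact hzc (r : G) ⟨r, hr, rfl⟩
    exact ⟨x, hcen (Subgroup.mem_inf.2 ⟨hx, hxc⟩), rfl⟩
  · intro A g hgH hAP hconj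
    obtain ⟨x, hx, hxA⟩ := hctl {y : ↥H | (y : G) ∈ A} ⟨g, hgH⟩ (Subgroup.mem_top _)
      (by
        intro y hy
        obtain ⟨q, hq, hqy⟩ := hAP hy
        have : q = y := Subtype.ext hqy
        rw [← this]; exact hq)
      (by
        intro y hy
        obtain ⟨q, hq, hqy⟩ := hconj (y : G) hy
        have : q = ⟨g, hgH⟩ * y * ⟨g, hgH⟩⁻¹ := Subtype.ext (by
          have hqy' : (q : G) = g * (y : G) * g⁻¹ := hqy
          rw [hqy']; simp)
        rw [← this]; exact hq)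
    refine ⟨(x : G), Subgroup.mem_inf.2 ⟨x.2, ?_⟩, ?_⟩
    · -- x ∈ normalizer (R'.map)
      have hxN := (Subgroup.mem_inf.1 hx).2
      rw [Subgroup.mem_normalizer_iff] at hxN ⊢
      intro y
      constructor
      · rintro ⟨r, hr, rfl⟩
        exact ⟨x * r * x⁻¹, (hxN r).1 hr, by simp⟩
      · rintro ⟨r, hr, hrr⟩
        refine ⟨x⁻¹ * r * x, ?_, ?_⟩
        · have h1 : x * (x⁻¹ * r * x) * x⁻¹ = r := by group
          exact (hxN (x⁻¹ * r * x)).2 (by rw [h1]; exact hr)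
        · have h2 : H.subtype (x⁻¹ * r * x) = (H.subtype x)⁻¹ * H.subtype r * H.subtype x := by
            simp
          rw [h2, hrr]
          simp only [Subgroup.coe_subtype]
          group
    · intro a ha
      obtain ⟨q, hq, hqa⟩ := hAP ha
      have haA : q ∈ {y : ↥H | (y : G) ∈ A} := by
        change (q : G) ∈ A
        have : (q : G) = a := hqa
        rw [this]; exact ha
      have := hxA q haA
      have h3 := congrArg Subtype.val this
      have hqa' : (q : G) = a := hqa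
      simpa [hqa'] using h3

theorem goodIn_subtype_of {G : Type*} [Group G] (H P : Subgroup G) (hPH : P ≤ H)
    (h : GoodIn H P) : GoodIn (⊤ : Subgroup ↥H) (P.subgroupOf H) := by
  obtain ⟨R, hRP, hPN, hcen, hctl⟩ := h
  refine ⟨R.subgroupOf H, ?_, ?_, ?_, ?_⟩
  · intro x hx
    exact Subgroup.mem_subgroupOf.2 (hRP (Subgroup.mem_subgroupOf.1 hx))
  · intro x hx
    have hxN := hPN (Subgroup.mem_subgroupOf.1 hx)
    rw [Subgroup.mem_normalizer_iff] at hxN ⊢
    intro y
    rw [Subgroup.mem_subgroupOf, Subgroup.mem_subgroupOf]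
    have := hxN (y : G)
    simpa using this
  · intro x hx
    obtain ⟨hxP, hxc⟩ := Subgroup.mem_inf.1 hx
    rw [Subgroup.mem_subgroupOf]
    apply hcen
    refine Subgroup.mem_inf.2 ⟨Subgroup.mem_subgroupOf.1 hxP, ?_⟩
    rw [Subgroup.mem_centralizer_iff] at hxc ⊢
    intro r hr
    have hrH : r ∈ H := hPH (hRP hr)
    have := hxc ⟨r, hrH⟩ (Subgroup.mem_subgroupOf.2 hr)
    exact congrArg Subtype.val this
  · intro A g _ hAP hconj
    obtain ⟨x, hx, hxA⟩ := hctl (Subtype.val '' A) (g : G) g.2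
      (by
        rintro _ ⟨y, hy, rfl⟩
        exact Subgroup.mem_subgroupOf.1 (hAP hy))
      (by
        rintro _ ⟨y, hy, rfl⟩
        have := hconj y hy
        have h1 := Subgroup.mem_subgroupOf.1 this
        simpa using h1)
    refine ⟨⟨x, (Subgroup.mem_inf.1 hx).1⟩, Subgroup.mem_inf.2 ⟨Subgroup.mem_top _, ?_⟩, ?_⟩
    · have hxN := (Subgroup.mem_inf.1 hx).2
      rw [Subgroup.mem_normalizer_iff] at hxN ⊢
      intro y
      rw [Subgroup.mem_subgroupOf, Subgroup.mem_subgroupOf]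
      have := hxN (y : G)
      simpa using this
    · intro a ha
      apply Subtype.ext
      have := hxA (a : G) ⟨a, ha, rfl⟩
      simpa using this

theorem goodIn_top_of_ctl {G : Type*} [Group G] (H P : Subgroup G) (hPH : P ≤ H)
    (hctl : CtlIn ⊤ H P) (h : GoodIn H P) : GoodIn ⊤ P := by
  obtain ⟨R, hRP, hPN, hcen, hctlR⟩ := h
  refine ⟨R, hRP, hPN, hcen, ?_⟩
  intro A g _ hAP hconj
  obtain ⟨h, hh, hhA⟩ := hctl A g (Subgroup.mem_top _) hAP hconj
  obtain ⟨x, hx, hxA⟩ := hctlR A h (Subgroup.mem_inf.1 hh).2 hAP (by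
    intro a ha
    rw [hhA a ha]; exact hconj a ha)
  refine ⟨x, Subgroup.mem_inf.2 ⟨Subgroup.mem_top _, (Subgroup.mem_inf.1 hx).2⟩, ?_⟩
  intro a ha
  rw [hxA a ha, hhA a ha]

end Cfsg.Agent.Lib.Helper20.PCLeaf
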