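/-
helper20: S5280 leaf PC2 (for helper2): lifting `GoodIn` from `G ⧸ Y` to `G` when `G = P·C_G(Y)`.
-/
import Mathlib
import Cfsg.Prelude.Def_LocalEven
import Cfsg.Prelude.Def_PLocal
import Cfsg.Prelude.Def_FusionSystem
import Cfsg.Agent.Lib.Helper2.PCDefs
import Cfsg.Agent.Lib.Helper19.PSL5

set_option autoImplicit false

open Cfsg.Agent.Lib.Helper2.PC

namespace Cfsg.Agent.Lib.Helper20.PCLeaf

variable {p : ℕ} [Fact p.Prime]

theorem goodIn_top_of_quotient {G : Type*} [Group G] [Finite G] (P : Sylow p G) (Y : Subgroup G)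
    [Y.Normal] (hYP : Y ≤ (P : Subgroup G))
    (hPC : (P : Subgroup G) ⊔ Subgroup.centralizer (Y : Set G) = ⊤)
    (h : GoodIn (⊤ : Subgroup (G ⧸ Y)) ((P : Subgroup G).map (QuotientGroup.mk' Y))) :
    GoodIn ⊤ (P : Subgroup G) := by
  obtain ⟨Rb, hRbP, hPbN, hcen, hctl⟩ := h
  have hsurj : Function.Surjective (QuotientGroup.mk' Y) := QuotientGroup.mk'_surjective Y
  have hmap : (Rb.comap (QuotientGroup.mk' Y)).map (QuotientGroup.mk' Y) = Rb :=
    Subgroup.map_comap_eq_self_of_surjective hsurj Rb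
  have hUR : Y ≤ Rb.comap (QuotientGroup.mk' Y) := by
    intro y hy
    rw [Subgroup.mem_comap]
    have : QuotientGroup.mk' Y y = 1 := (QuotientGroup.eq_one_iff y).2 hy
    rw [this]; exact one_mem _
  have hRP : Rb.comap (QuotientGroup.mk' Y) ≤ (P : Subgroup G) := by
    intro x hx
    rw [Subgroup.mem_comap] at hx
    obtain ⟨q, hq, hqx⟩ := hRbP hx
    have h1 : q⁻¹ * x ∈ Y := QuotientGroup.eq.mp hqx
    have h2 : q * (q⁻¹ * x) ∈ (P : Subgroup G) := mul_mem hq (hYP h1)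
    simpa using h2
  have hPR : (P : Subgroup G) ≤ Subgroup.normalizer ((Rb.comap (QuotientGroup.mk' Y) : Subgroup G) : Set G) := by
    intro x hx
    have hxb : QuotientGroup.mk' Y x ∈ Subgroup.normalizer (Rb : Set (G ⧸ Y)) :=
      hPbN (Subgroup.mem_map_of_mem _ hx)
    rw [Subgroup.mem_normalizer_iff] at hxb ⊢
    intro r
    rw [Subgroup.mem_comap, Subgroup.mem_comap, map_mul, map_mul, map_inv]
    exact hxb _
  refine ⟨Rb.comap (QuotientGroup.mk' Y), hRP, hPR, ?_, ?_⟩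
  · intro x hx
    obtain ⟨hxP, hxc⟩ := Subgroup.mem_inf.1 hx
    rw [Subgroup.mem_comap]
    apply hcen
    refine Subgroup.mem_inf.2 ⟨Subgroup.mem_map_of_mem _ hxP, ?_⟩
    rw [Subgroup.mem_centralizer_iff] at hxc ⊢
    intro rb hrb
    obtain ⟨r, rfl⟩ := hsurj rb
    have hr : r ∈ Rb.comap (QuotientGroup.mk' Y) := hrb
    have := hxc r hr
    rw [← map_mul, ← map_mul, this]
  · have hlift := Cfsg.Agent.Lib.Helper19.PSLeaf.lift_control P Y hYP hPC
      (Rb.comap (QuotientGroup.mk' Y)) hUR hRP hPR (by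
        intro A' g' hA' hconj
        obtain ⟨x, hx, hxA⟩ := hctl A' g' (Subgroup.mem_top _) hA' hconj
        refine ⟨x, ?_, hxA⟩
        rw [hmap]
        exact (Subgroup.mem_inf.1 hx).2)
    intro A g _ hA hconj
    obtain ⟨x, hx, hxA⟩ := hlift A g hA hconj
    exact ⟨x, Subgroup.mem_inf.2 ⟨Subgroup.mem_top _, hx⟩, hxA⟩

end Cfsg.Agent.Lib.Helper20.PCLeaf
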