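import Mathlib
import Cfsg.Prelude.Def_CaseTheorems
import Cfsg.Prelude.Def_OddOrderLocal
import Cfsg.Agent.Lib.Helper26.EssChain
import Cfsg.Agent.Lib.Helper26.R5Defs
import Cfsg.Agent.Lib.Helper26.OrderPCubeA
import Cfsg.Agent.Lib.Helper1.OmegaRankTwo
import Cfsg.Agent.Lib.Helper1.ClassThreePow
import Cfsg.Agent.Lib.Helper1.MetaCoprime
import Cfsg.Agent.Lib.Helper1.MetacyclicTwoBasic
import Cfsg.Agent.Lib.Helper8.R5C
import Cfsg.Agent.Lib.Helper12.R5D
import Cfsg.Agent.Lib.Helper24.R5A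

/-!
helper20: leaf R5G of S5289 (`engine_two`, the Case II engine), see `notes/S5289_plan.md`.
-/

set_option autoImplicit false
open scoped commutatorElement
open Cfsg.Agent.Lib.Helper26 Cfsg.Agent.Lib.Helper26.R5

namespace Cfsg.Agent.Lib.Helper20.R5Leaf

open Cfsg.Agent.Lib.Helper24.R5Leaf Cfsg.Agent.Lib.Helper12.R5Leaf

/-- the rank condition passes along injective homomorphisms -/
theorem prankLE_of_injective {E 𝕋 : Type*} [Group E] [Group 𝕋] {p : ℕ} (ι : E →* 𝕋)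
    (hι : Function.Injective ι) (hrk : Cfsg.PRankLE p 2 𝕋) : Cfsg.PRankLE p 2 E := by
  intro A hA hAe
  have h1 := hrk (A.map ι) (by
    constructor
    constructor
    rintro ⟨_, a, ha, rfl⟩ ⟨_, b, hb, rfl⟩
    apply Subtype.ext
    show ι a * ι b = ι b * ι a
    rw [← map_mul, ← map_mul]
    have := hA.is_comm.comm ⟨a, ha⟩ ⟨b, hb⟩
    exact congrArg ι (congrArg Subtype.val this)) (by
    rintro _ ⟨a, ha, rfl⟩
    rw [← map_pow, hAe a ha, map_one])
  rwa [Subgroup.card_map_of_injective hι] at h1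

/-- (Ω) for `p > 3`, rank at most two: `Ω₁` is the set of elements of order dividing `p` -/
theorem mem_omegaSub_iff {R : Type*} [Group R] [Finite R] {p : ℕ} [Fact p.Prime] (hp : 3 < p)
    (hR : IsPGroup p R) (hrk : Cfsg.PRankLE p 2 R) (x : R) : x ∈ omegaSub p R ↔ x ^ p = 1 :=
  ⟨fun h => Cfsg.Agent.Lib.Helper1.omega_exponent_of_rank_two hp hR hrk x h, mem_omegaSub_of_pow⟩

/-- (Ω) `|Ω₁| ≤ p³` -/
theorem card_omegaSub_le {R : Type*} [Group R] [Finite R] {p : ℕ} [Fact p.Prime] (hp : 3 < p)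
    (hR : IsPGroup p R) (hrk : Cfsg.PRankLE p 2 R) : Nat.card (omegaSub p R) ≤ p ^ 3 := by
  apply Cfsg.Agent.Lib.Helper8.R5Leaf.card_le_of_exp_rank_two
  · rintro ⟨x, hx⟩
    apply Subtype.ext
    rw [Subgroup.coe_pow, Subgroup.coe_one]
    exact (mem_omegaSub_iff hp hR hrk x).mp hx
  · exact Cfsg.Agent.Lib.Helper1.rank_le_of_subgroup _ hrk

/-- a `p`-group of order at most `p²` is commutative -/
theorem comm_of_card_le_sq {D : Type*} [Group D] [Finite D] {p : ℕ} [Fact p.Prime] {k : ℕ}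
    (hk : k ≤ 2) (hcard : Nat.card D = p ^ k) (a b : D) : a * b = b * a := by
  have hpp : p.Prime := Fact.out
  interval_cases k
  · rw [pow_zero] at hcard
    have : Subsingleton D := (Nat.card_eq_one_iff_unique.mp hcard).1
    exact Subsingleton.elim _ _
  · rw [pow_one] at hcard
    have : IsCyclic D := isCyclic_of_prime_card hcard
    let _ := IsCyclic.commGroup (α := D)
    exact mul_comm a b
  · have hc : IsMulCommutative D := IsPGroup.isMulCommutative_of_card_eq_prime_sq hcard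
    exact isMulCommutative_iff.mp hc a b

/-- `Ω₁(E)` is nonabelian of order `p³` -/
theorem card_omegaSub_eq {E : Type*} [Group E] [Finite E] {p : ℕ} [Fact p.Prime] (hp : 3 < p)
    (hE : IsPGroup p E) (hrk : Cfsg.PRankLE p 2 E)
    (hnab : ∃ x y : E, x ^ p = 1 ∧ y ^ p = 1 ∧ x * y ≠ y * x) :
    Nat.card (omegaSub p E) = p ^ 3 ∧ ¬ ∀ a b : omegaSub p E, a * b = b * a := by
  have hpp : p.Prime := Fact.out
  have hna : ¬ ∀ a b : omegaSub p E, a * b = b * a := by
    intro h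
    obtain ⟨x, y, hx, hy, hxy⟩ := hnab
    apply hxy
    have := h ⟨x, mem_omegaSub_of_pow hx⟩ ⟨y, mem_omegaSub_of_pow hy⟩
    exact congrArg Subtype.val this
  refine ⟨?_, hna⟩
  obtain ⟨k, hk⟩ := IsPGroup.iff_card.mp (hE.to_subgroup (omegaSub p E))
  have hle := card_omegaSub_le hp hE hrk
  rw [hk] at hle
  have hk3 : k ≤ 3 := (Nat.pow_le_pow_iff_right hpp.one_lt).mp hle
  by_cases hk2 : k ≤ 2
  · exact absurd (fun a b => comm_of_card_le_sq hk2 hk a b) hna
  · have : k = 3 := by omega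
    rw [hk, this]

/-- `D / Z(D)` for `D` nonabelian of order `p³` and exponent `p` -/
theorem quot_center_facts {D : Type*} [Group D] [Finite D] {p : ℕ} [Fact p.Prime]
    (hcard : Nat.card D = p ^ 3) (hna : ¬ ∀ a b : D, a * b = b * a) (hexp : ∀ d : D, d ^ p = 1) :
    (∀ x y : D ⧸ Subgroup.center D, x * y = y * x) ∧ Nat.card (D ⧸ Subgroup.center D) = p ^ 2 ∧
      ∀ w : D ⧸ Subgroup.center D, w ^ p = 1 := by
  have hpp : p.Prime := Fact.out
  have hZ := card_center_of_cube hcard hna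
  have hq : Nat.card (D ⧸ Subgroup.center D) = p ^ 2 := by
    have h1 := Subgroup.card_eq_card_quotient_mul_card_subgroup (Subgroup.center D)
    rw [hZ, hcard] at h1
    have h3 : p ^ 3 = p ^ 2 * p := by rw [pow_succ]
    rw [h3] at h1
    exact (Nat.eq_of_mul_eq_mul_right hpp.pos h1).symm
  refine ⟨?_, hq, ?_⟩
  · have hc : IsMulCommutative (D ⧸ Subgroup.center D) :=
      IsPGroup.isMulCommutative_of_card_eq_prime_sq hq
    exact fun x y => isMulCommutative_iff.mp hc x y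
  · intro w
    induction w using QuotientGroup.induction_on with
    | H d => rw [← QuotientGroup.mk_pow, hexp]; rfl

/-- an automorphism of `p`-power order fixes `Z(Ω₁(E))` pointwise when that centre has order `p` -/
theorem fix_center_omega {E : Type*} [Group E] [Finite E] {p : ℕ} [Fact p.Prime]
    (hZ : Nat.card (Subgroup.center ↥(omegaSub p E)) = p) (γ : MulAut E) {j : ℕ}
    (hγ : γ ^ p ^ j = 1) (z : ↥(omegaSub p E)) (hz : z ∈ Subgroup.center ↥(omegaSub p E)) :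
    γ (z : E) = z := by
  have hu : (MulAut.characteristic (omegaSub p E) γ) ^ p ^ j = 1 := by
    rw [← map_pow, hγ, map_one]
  have h1 := triv_on_section' (Subgroup.center ↥(omegaSub p E)) ⊥ bot_le inferInstance
    (by rw [Subgroup.card_bot, mul_one]; exact hZ) (MulAut.characteristic (omegaSub p E) γ)
    (char_inv (Subgroup.center ↥(omegaSub p E)) _)
    (by
      intro x
      rw [Subgroup.mem_bot, Subgroup.mem_bot]
      exact (map_eq_one_iff _ (MulEquiv.injective _)).symm) hu z hz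
  rw [Subgroup.mem_bot, inv_mul_eq_one] at h1
  have h2 := congrArg Subtype.val h1
  rw [coe_characteristic_apply] at h2
  exact h2.symm

/-- an automorphism of a finite `p`-group that is trivial on `Ω₁(Z(E))` has a `p`-power that is trivial
on `Z(E)` -/
theorem pow_trivial_on_center {E : Type*} [Group E] [Finite E] {p : ℕ} [Fact p.Prime]
    (hE : IsPGroup p E) (ψ : MulAut E)
    (h : ∀ z ∈ Subgroup.center E, z ^ p = 1 → ψ z = z) :
    ∃ j : ℕ, ∀ z ∈ Subgroup.center E, (ψ ^ p ^ j) z = z := by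
  have key : ∀ k : ℕ, ∀ z ∈ Subgroup.center E, z ^ p ^ (k + 1) = 1 → (ψ ^ p ^ k) z = z := by
    intro k
    induction k with
    | zero =>
      intro z hz hzp
      rw [pow_zero, pow_one]
      rw [zero_add, pow_one] at hzp
      exact h z hz hzp
    | succ k ih =>
      intro z hz hzp
      obtain ⟨φ, hφ⟩ : ∃ φ : MulAut E, φ = ψ ^ p ^ k := ⟨_, rfl⟩
      rw [← hφ] at ih
      have hφz : φ z ∈ Subgroup.center E := (char_inv (Subgroup.center E) φ z).mp hz
      have hzp' : φ (z ^ p) = z ^ p := by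
        apply ih _ (Subgroup.pow_mem _ hz p)
        rw [← pow_mul, ← pow_succ']
        exact hzp
      obtain ⟨e, he⟩ : ∃ e : E, e = z⁻¹ * φ z := ⟨_, rfl⟩
      have heZ : e ∈ Subgroup.center E := by
        rw [he]
        exact Subgroup.mul_mem _ (Subgroup.inv_mem _ hz) hφz
      have hcomm : Commute z⁻¹ (φ z) := by
        have := Subgroup.mem_center_iff.mp hφz z⁻¹
        exact this
      have hep : e ^ p = 1 := by
        rw [he, hcomm.mul_pow, ← map_pow, hzp', inv_pow, inv_mul_cancel]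
      have hφe : φ e = e := by
        apply ih e heZ
        rw [pow_succ', pow_mul, hep, one_pow]
      have hφz' : φ z = z * e := by rw [he]; group
      have hn : ∀ n : ℕ, (φ ^ n) z = z * e ^ n := by
        intro n
        induction n with
        | zero => simp
        | succ n ihn =>
          rw [pow_succ', MulAut.mul_apply, ihn, map_mul, map_pow, hφe, hφz', mul_assoc, ← pow_succ']
      have : ψ ^ p ^ (k + 1) = φ ^ p := by rw [hφ, ← pow_mul, ← pow_succ]
      rw [this, hn, hep, mul_one]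
  obtain ⟨m, hm⟩ := IsPGroup.iff_card.mp hE
  refine ⟨m, fun z hz => key m z hz ?_⟩
  rw [pow_succ, pow_mul, ← hm, pow_card_eq_one', one_pow]

/-- iterating a conjugation relation -/
theorem conj_pow_of_conj {M : Type*} [Group M] {h a : M} {r : ℕ} (hh : h * a * h⁻¹ = a ^ r) (n : ℕ) :
    h ^ n * a * (h ^ n)⁻¹ = a ^ r ^ n := by
  induction n with
  | zero => simp
  | succ n ih =>
    have : h ^ (n + 1) * a * (h ^ (n + 1))⁻¹ = h * (h ^ n * a * (h ^ n)⁻¹) * h⁻¹ := by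
      rw [pow_succ']; group
    rw [this, ih, ← conj_pow, hh, ← pow_mul, ← pow_succ']

/-- conjugating an inner automorphism -/
theorem mul_conj_mul_inv {E : Type*} [Group E] (γ : MulAut E) (e : E) :
    γ * MulAut.conj e * γ⁻¹ = MulAut.conj (γ e) := by
  ext y
  rw [MulAut.mul_apply, MulAut.mul_apply, MulAut.conj_apply, MulAut.conj_apply, map_mul, map_mul,
    MulAut.apply_inv_self, map_inv]

/-- (G) the Case II engine -/
theorem engine_two {E 𝕋 : Type*} [Group E] [Group 𝕋] [Finite 𝕋] {p : ℕ} [Fact p.Prime] (hp : 3 < p)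
    (h𝕋 : IsPGroup p 𝕋) (hrk : Cfsg.PRankLE p 2 𝕋)
    (ι : E →* 𝕋) (hι : Function.Injective ι)
    (hnab : ∃ x y : E, x ^ p = 1 ∧ y ^ p = 1 ∧ x * y ≠ y * x)
    (X : Subgroup (MulAut E))
    (c : 𝕋 →* MulAut E) (hc : ∀ t e, ι (c t e) = t * ι e * t⁻¹) (hcX : ∀ t, c t ∈ X)
    (hker : ∀ γ ∈ X, rhoHom p E γ = 1 → ∃ t : 𝕋, γ = c t)
    (x : 𝕋) (hx : rhoHom p E (c x) ≠ 1) (hxp : x ^ p ∈ ι.range)
    (β : MulAut E) (hβX : β ∈ X) (hβp : ∃ j : ℕ, β ^ p ^ j = 1)
    (hβ : rhoHom p E β ∉ Subgroup.zpowers (rhoHom p E (c x)))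
    (hext : ∀ τ ∈ X, (∀ t, ∃ t', τ * c t * τ⁻¹ = c t') → ∃ τ' : MulAut 𝕋, ∀ e, τ' (ι e) = ι (τ e)) :
    False := by
  have hpp : p.Prime := Fact.out
  have hp2 : p ≠ 2 := by omega
  have hfinE : Finite E := Finite.of_injective ι hι
  have hEp : IsPGroup p E := h𝕋.of_injective ι hι
  have hrkE : Cfsg.PRankLE p 2 E := prankLE_of_injective ι hι hrk
  obtain ⟨hDcard, hDna⟩ := card_omegaSub_eq hp hEp hrkE hnab
  have hDexp : ∀ d : ↥(omegaSub p E), d ^ p = 1 := by
    rintro ⟨d, hd⟩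
    apply Subtype.ext
    rw [Subgroup.coe_pow, Subgroup.coe_one]
    exact (mem_omegaSub_iff hp hEp hrkE d).mp hd
  obtain ⟨hWcomm, hWcard, hWexp⟩ := quot_center_facts hDcard hDna hDexp
  have hZcard : Nat.card (Subgroup.center ↥(omegaSub p E)) = p := card_center_of_cube hDcard hDna
  -- the `p`-elements `a`, `b`
  have hcxp : ∃ j : ℕ, (c x) ^ p ^ j = 1 := by
    obtain ⟨j, hj⟩ := h𝕋 x
    exact ⟨j, by rw [← map_pow, hj, map_one]⟩
  have hap : ∃ j : ℕ, (rhoHom p E (c x)) ^ p ^ j = 1 := by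
    obtain ⟨j, hj⟩ := hcxp
    exact ⟨j, by rw [← map_pow, hj, map_one]⟩
  have hbp : ∃ j : ℕ, (rhoHom p E β) ^ p ^ j = 1 := by
    obtain ⟨j, hj⟩ := hβp
    exact ⟨j, by rw [← map_pow, hj, map_one]⟩
  have h2 : 2 * ((p + 1) / 2) ≡ 1 [MOD p] := by
    have hodd : p % 2 = 1 := by
      rcases hpp.eq_two_or_odd with h | h
      · omega
      · exact h
    have : 2 * ((p + 1) / 2) = p + 1 := by omega
    rw [this]
    exact (Nat.add_mod_left p 1 : (p + 1) % p = 1 % p)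
  obtain ⟨h, hh, w₁, w₂, -, -, -, -, -, hha, hap1⟩ :=
    torus_lemma hp2 hWcomm hWcard hWexp hx hap hbp hβ 2 ((p + 1) / 2) h2
  -- lift `h`
  have hcl : Subgroup.closure ({rhoHom p E (c x), rhoHom p E β} : Set _) =
      (Subgroup.closure ({c x, β} : Set (MulAut E))).map (rhoHom p E) := by
    rw [MonoidHom.map_closure, Set.image_pair]
  rw [hcl] at hh
  obtain ⟨τ₀, hτ₀, rfl⟩ := hh
  have hτ₀X : τ₀ ∈ X := by
    refine (Subgroup.closure_le X).mpr ?_ hτ₀
    rintro _ (rfl | rfl)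
    · exact hcX x
    · exact hβX
  -- `τ₀` fixes `Z(D)` pointwise
  have hτ₀Z : ∀ z : ↥(omegaSub p E), z ∈ Subgroup.center ↥(omegaSub p E) → τ₀ (z : E) = z := by
    refine Subgroup.closure_induction (p := fun γ _ => ∀ z : ↥(omegaSub p E),
      z ∈ Subgroup.center ↥(omegaSub p E) → γ (z : E) = (z : E)) ?_ ?_ ?_ ?_ hτ₀
    · rintro γ (rfl | rfl) z hz
      · obtain ⟨j, hj⟩ := hcxp
        exact fix_center_omega hZcard _ hj z hz
      · obtain ⟨j, hj⟩ := hβp
        exact fix_center_omega hZcard _ hj z hz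
    · intro z _
      rfl
    · intro γ₁ γ₂ _ _ h1 h2 z hz
      rw [MulAut.mul_apply, h2 z hz, h1 z hz]
    · intro γ _ h1 z hz
      have := h1 z hz
      calc γ⁻¹ (z : E) = γ⁻¹ (γ (z : E)) := by rw [this]
        _ = (z : E) := MulAut.inv_apply_self _ _ _
  have hτ₀Ω : ∀ z ∈ Subgroup.center E, z ^ p = 1 → τ₀ z = z := by
    intro z hz hzp
    refine hτ₀Z ⟨z, mem_omegaSub_of_pow hzp⟩ ?_
    rw [Subgroup.mem_center_iff]
    intro d
    apply Subtype.ext
    exact Subgroup.mem_center_iff.mp hz d.1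
  obtain ⟨j, hj⟩ := pow_trivial_on_center hEp τ₀ hτ₀Ω
  obtain ⟨τ, hτdef⟩ : ∃ τ : MulAut E, τ = τ₀ ^ p ^ j := ⟨_, rfl⟩
  rw [← hτdef] at hj
  have hτX : τ ∈ X := by rw [hτdef]; exact X.pow_mem hτ₀X _
  -- `ρ τ` conjugates `a` to `a ^ 4`
  have hh'a : rhoHom p E τ * rhoHom p E (c x) * (rhoHom p E τ)⁻¹ = rhoHom p E (c x) ^ 4 := by
    rw [hτdef, map_pow, conj_pow_of_conj hha]
    have hmod : (2 * 2) ^ p ^ j ≡ 4 [MOD p] := by
      rw [← ZMod.natCast_eq_natCast_iff]
      push_cast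
      rw [ZMod.pow_card_pow]
    have hord : orderOf (rhoHom p E (c x)) ∣ p := orderOf_dvd_of_pow_eq_one hap1
    exact pow_eq_pow_iff_modEq.mpr (hmod.of_dvd hord)
  -- `ρ (c.range) = ⟨a⟩`
  have hQ : (c.range).map (rhoHom p E) = Subgroup.zpowers (rhoHom p E (c x)) := by
    refine pgroup_eq_zpowers hWcomm hWcard hWexp _ ?_ ⟨c x, ⟨x, rfl⟩, rfl⟩ hx
    exact (h𝕋.of_surjective c.rangeRestrict c.rangeRestrict_surjective).map _
  -- `τ` normalizes `c.range`
  have hnorm : ∀ t, ∃ t', τ * c t * τ⁻¹ = c t' := by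
    intro t
    have h1 : rhoHom p E (c t) ∈ Subgroup.zpowers (rhoHom p E (c x)) := by
      rw [← hQ]
      exact ⟨c t, ⟨t, rfl⟩, rfl⟩
    obtain ⟨i, hi⟩ := Subgroup.mem_zpowers_iff.mp h1
    have hγρ : rhoHom p E (τ * c t * τ⁻¹ * (c (x ^ (4 * i)))⁻¹) = 1 := by
      rw [map_mul, map_mul, map_mul, map_inv, map_inv, map_zpow, map_zpow, ← hi, ← conj_zpow, hh'a,
        zpow_mul, zpow_ofNat, mul_inv_cancel]
    have hγX : τ * c t * τ⁻¹ * (c (x ^ (4 * i)))⁻¹ ∈ X :=
      X.mul_mem (X.mul_mem (X.mul_mem hτX (hcX t)) (X.inv_mem hτX)) (X.inv_mem (hcX _))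
    obtain ⟨t'', ht''⟩ := hker _ hγX hγρ
    refine ⟨t'' * x ^ (4 * i), ?_⟩
    rw [map_mul, ← ht'']
    group
  obtain ⟨τ', hτ'⟩ := hext τ hτX hnorm
  -- `𝕋` is not metacyclic
  have hnm : ¬ Cfsg.IsMetacyclic 𝕋 := by
    intro hm
    have h1 := Cfsg.Agent.Lib.Helper1.MetaCoprime.isMetacyclic_subgroup' hm ((omegaSub p E).map ι)
    have h2 := Cfsg.Agent.Lib.Helper1.card_dvd_of_isMetacyclic h1 p (by
      rintro ⟨_, d, hd, rfl⟩
      apply Subtype.ext
      rw [Subgroup.coe_pow, Subgroup.coe_one, ← map_pow, (mem_omegaSub_iff hp hEp hrkE d).mp hd,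
        map_one])
    rw [Subgroup.card_map_of_injective hι, hDcard] at h2
    have h3 := Nat.le_of_dvd (Nat.mul_pos hpp.pos hpp.pos) h2
    have h4 : p ^ 3 = p * p * p := by ring
    rw [h4] at h3
    have h5 : 2 ≤ p := hpp.two_le
    nlinarith [Nat.mul_pos hpp.pos hpp.pos]
  obtain ⟨hcl3, hcomp⟩ := class_three_of_rank_two hp h𝕋 hrk hnm
  have hder : commutator 𝕋 ≤ Subgroup.closure {y : 𝕋 | y ^ p = 1} := by
    rw [commutator_def, Subgroup.commutator_le]
    intro s _ t _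
    exact Subgroup.subset_closure (hcomp s t)
  have hpow : ∀ s t : 𝕋, (s * t) ^ p = s ^ p * t ^ p :=
    Cfsg.Agent.Lib.Helper1.mul_pow_prime_of_small_class (Or.inr ⟨hp, hcl3⟩) hder
  -- `Ω₁(𝕋) ⊆ ι(E)`
  have hΩ𝕋 : ∀ y : 𝕋, y ^ p = 1 → y ∈ ι.range := by
    have hle : (omegaSub p E).map ι ≤ omegaSub p 𝕋 := by
      rintro _ ⟨d, hd, rfl⟩
      apply mem_omegaSub_of_pow
      rw [← map_pow, (mem_omegaSub_iff hp hEp hrkE d).mp hd, map_one]
    have heq := Subgroup.eq_of_le_of_card_ge hle (by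
      rw [Subgroup.card_map_of_injective hι, hDcard]
      exact card_omegaSub_le hp h𝕋 hrk)
    intro y hy
    have h1 : y ∈ omegaSub p 𝕋 := mem_omegaSub_of_pow hy
    rw [← heq] at h1
    obtain ⟨d, _, rfl⟩ := h1
    exact ⟨d, rfl⟩
  -- (P) `p`-th powers are central
  have hP : ∀ s t : 𝕋, t * s ^ p * t⁻¹ = s ^ p := by
    intro s t
    have h1 : t * s * t⁻¹ = s * ⁅s⁻¹, t⁆ := by rw [commutatorElement_def]; group
    rw [← conj_pow, h1, hpow, hcomp, mul_one]
  obtain ⟨e₀, he₀⟩ := hxp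
  have he₀Z : e₀ ∈ Subgroup.center E := by
    rw [Subgroup.mem_center_iff]
    intro e
    apply hι
    rw [map_mul, map_mul, he₀]
    have h1 := hP x (ι e)
    calc ι e * x ^ p = (ι e * x ^ p * (ι e)⁻¹) * ι e := by group
      _ = x ^ p * ι e := by rw [h1]
  have hτe₀ : τ e₀ = e₀ := hj e₀ he₀Z
  have hτ'xp : τ' (x ^ p) = x ^ p := by rw [← he₀, hτ', hτe₀]
  -- (L)
  have hL : (τ' x * x⁻¹) ^ p = 1 := by
    rw [hpow, ← map_pow, hτ'xp, inv_pow, mul_inv_cancel]
  obtain ⟨e₁, he₁⟩ := hΩ𝕋 _ hL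
  have hτ'x : τ' x = ι e₁ * x := by rw [he₁]; group
  -- (C)
  have hC : c (τ' x) = τ * c x * τ⁻¹ := by
    ext e
    apply hι
    rw [hc, MulAut.mul_apply, MulAut.mul_apply, ← hτ', hc, map_mul, map_mul, hτ', map_inv,
      MulAut.apply_inv_self]
  have hconj : c (ι e₁) = MulAut.conj e₁ := by
    ext e
    apply hι
    rw [hc, MulAut.conj_apply, map_mul, map_mul, map_inv]
  -- `ρ (Inn E)` is trivial
  have hInn : ((MulAut.conj : E →* MulAut E).range).map (rhoHom p E) = ⊥ := by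
    refine pcore_trivial hp2 hWcomm hWcard hWexp hx hap hbp hβ _ ?_ ?_ ?_
    · exact (hEp.of_surjective (MulAut.conj : E →* MulAut E).rangeRestrict
        (MulAut.conj : E →* MulAut E).rangeRestrict_surjective).map _
    · rintro _ ⟨_, ⟨e, rfl⟩, rfl⟩
      refine ⟨MulAut.conj (c x e), ⟨_, rfl⟩, ?_⟩
      rw [← mul_conj_mul_inv, map_mul, map_mul, map_inv]
    · rintro _ ⟨_, ⟨e, rfl⟩, rfl⟩
      refine ⟨MulAut.conj (β e), ⟨_, rfl⟩, ?_⟩
      rw [← mul_conj_mul_inv, map_mul, map_mul, map_inv]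
  have hρconj : rhoHom p E (MulAut.conj e₁) = 1 := by
    have h1 : rhoHom p E (MulAut.conj e₁) ∈
        ((MulAut.conj : E →* MulAut E).range).map (rhoHom p E) := ⟨_, ⟨e₁, rfl⟩, rfl⟩
    rw [hInn] at h1
    exact Subgroup.mem_bot.mp h1
  -- the end
  have hfin : rhoHom p E (c x) ^ 4 = rhoHom p E (c x) := by
    rw [← hh'a]
    have h1 := congrArg (rhoHom p E) hC
    rw [hτ'x, map_mul c, hconj, map_mul, hρconj, one_mul, map_mul, map_mul, map_inv] at h1
    exact h1.symm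
  have ha3 : rhoHom p E (c x) ^ 3 = 1 := by
    have h1 : rhoHom p E (c x) ^ 3 * rhoHom p E (c x) = 1 * rhoHom p E (c x) := by
      rw [← pow_succ, one_mul]
      exact hfin
    exact mul_right_cancel h1
  have hdvd : orderOf (rhoHom p E (c x)) ∣ Nat.gcd 3 p :=
    Nat.dvd_gcd (orderOf_dvd_of_pow_eq_one ha3) (orderOf_dvd_of_pow_eq_one hap1)
  have hg : Nat.gcd 3 p = 1 := by
    have h1 : Nat.Coprime p 3 := by
      rw [Nat.Prime.coprime_iff_not_dvd hpp]
      intro h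
      have := Nat.le_of_dvd (by norm_num) h
      omega
    exact h1.symm
  rw [hg, Nat.dvd_one, orderOf_eq_one_iff] at hdvd
  exact hx hdvd

end Cfsg.Agent.Lib.Helper20.R5Leaf
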