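import Mathlib
import Cfsg.Agent.Lib.Helper27.A7BlkG

/-!
# Target A7 (S0984), job (K2): the `PSL₂(7)`-like pattern of the principal `7`-block dies

In a simple group of order `2520` the principal `7`-block cannot have the degree pattern
`(8, +; 6, -; 3, -)`: an exceptional character `η` of degree `3` takes the integer value
`θ = 1 + x8(x) - x6(x)` on all non-identity powers of an element `x` of order `5`, and
`3 + 4 θ ∈ 5 ℕ` together with `|θ| ≤ 3` forces `θ = 3 = η(1)`, so `x` lies in the kernel of the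
faithful character `η`.
-/

namespace Cfsg.Agent.Lib.Helper20.A7CK2

open Cfsg Cfsg.Agent.Lib.Helper27.A7Blk

universe u

variable {G : Type u} [Group G] [Finite G]

/-- the pattern `(8, 1, 6, -1, 3, -1)` is impossible in a simple group of order `2520` -/
theorem false_of_pat2 [IsSimpleGroup G] (hG : Nat.card G = 2520)
    {x8 x6 : IrrCharacter G} {Yf : Finset (IrrCharacter G)}
    (B : Blk7 x8 x6 Yf 8 1 6 (-1) 3 (-1)) : False := by
  classical
  have : Fact (Nat.Prime 5) := ⟨by norm_num⟩
  have hu8 := B.unique2 (by norm_num) (by norm_num) (by norm_num) (by norm_num)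
  have hu6 := B.unique3 (by norm_num) (by norm_num) (by norm_num) (by norm_num)
  obtain ⟨x, hx⟩ := exists_prime_orderOf_dvd_card' (G := G) 5 (by rw [hG]; norm_num)
  obtain ⟨p, hp⟩ := int_of_unique x8 hu8 x
  obtain ⟨q, hq⟩ := int_of_unique x6 hu6 x
  obtain ⟨η, hη⟩ := B.exists_mem_Y
  -- the value of `η` on the non-identity powers of `x`
  have hval : ∀ j : ℕ, 0 < j → j < 5 → (η : G → ℂ) (x ^ j) = ((1 + p - q : ℤ) : ℂ) := by
    intro j h1 h2
    have hcop : j.Coprime (orderOf x) := by
      rw [hx]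
      exact ((Nat.Prime.coprime_iff_not_dvd (by norm_num : Nat.Prime 5)).mpr
        (Nat.not_dvd_of_pos_of_lt h1 h2)).symm
    have hreg : ¬ 7 ∣ orderOf (x ^ j) := by
      intro h7
      have h5 : orderOf (x ^ j) ∣ 5 := by
        rw [← hx]; exact orderOf_pow_dvd j
      have := Nat.dvd_trans h7 h5
      omega
    rw [B.eta_eq hη (x ^ j) hreg, pow_eq_of_unique x8 hu8 x j hcop,
      pow_eq_of_unique x6 hu6 x j hcop, hp, hq]
    push_cast
    ring
  obtain ⟨m, hm⟩ := prime_sum η x 5 (by norm_num) hx (1 + p - q) hval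
  rw [B.dY η hη] at hm
  -- the norm bound
  have hx1 : (η : G → ℂ) x = ((1 + p - q : ℤ) : ℂ) := by
    have := hval 1 (by norm_num) (by norm_num)
    rwa [pow_one] at this
  have hnorm := irr_norm_le η x
  rw [B.dY η hη, hx1, Complex.norm_intCast] at hnorm
  have habs : |(1 + p - q : ℤ)| ≤ 3 := by
    have : ((|(1 + p - q : ℤ)| : ℤ) : ℝ) ≤ ((3 : ℤ) : ℝ) := by
      rw [Int.cast_abs]; push_cast; push_cast at hnorm; exact hnorm
    exact_mod_cast this
  have hθ : (1 + p - q : ℤ) = 3 := by
    have h1 := abs_le.mp habs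
    push_cast at hm
    omega
  -- so `x` is in the kernel of `η`
  have hker : (η : G → ℂ) x = (η : G → ℂ) 1 := by
    rw [hx1, B.apply_one_Y hη, hθ]
    norm_num
  have hx1' := eq_one_of_apply_eq_apply_one η (B.tY η hη) x hker
  rw [hx1', orderOf_one] at hx
  omega

end Cfsg.Agent.Lib.Helper20.A7CK2
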