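import Mathlib
import Cfsg.Agent.Lib.Helper20.A8SubA

/-!
A finite group of order dividing `20160` without nontrivial solvable normal subgroups has a normal
subgroup that is a non-abelian simple group.
-/

set_option autoImplicit false

namespace Cfsg.Agent.Lib.Helper20.A8Sub

open Subgroup

universe u

/-- Arithmetic: if `d * d` divides `20160 = 2^6·3^2·5·7` then `d` divides `24`. -/
theorem dvd_24_of_sq_dvd (d : ℕ) (h : d * d ∣ 20160) : d ∣ 2 ^ 3 * 3 ^ 1 := by
  have hd : d ≤ 141 := by
    by_contra hlt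
    push Not at hlt
    have h1 : d * d ≤ 20160 := Nat.le_of_dvd (by norm_num) h
    nlinarith
  interval_cases d <;> first | (exact absurd h (by decide)) | decide

/-- Existence of a minimal normal subgroup. -/
theorem exists_min_normal {H : Type*} [Group H] [Finite H] [Nontrivial H] :
    ∃ N : Subgroup H, N.Normal ∧ N ≠ ⊥ ∧ ∀ M : Subgroup H, M.Normal → M ≤ N → M = ⊥ ∨ M = N := by
  classical
  have hex : ∃ n : ℕ, ∃ N : Subgroup H, N.Normal ∧ N ≠ ⊥ ∧ Nat.card N = n :=
    ⟨_, ⊤, inferInstance, top_ne_bot, rfl⟩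
  obtain ⟨N, hN, hN1, hNn⟩ := Nat.find_spec hex
  refine ⟨N, hN, hN1, ?_⟩
  intro M hM hMN
  by_cases hM1 : M = ⊥
  · exact Or.inl hM1
  · right
    have hmin := Nat.find_min' hex ⟨M, hM, hM1, rfl⟩
    rw [← hNn] at hmin
    exact Subgroup.eq_of_le_of_card_ge hMN hmin

/-- Existence of a minimal normal subgroup inside a given nontrivial normal subgroup. -/
theorem exists_min_normal_le {H : Type*} [Group H] [Finite H] (C : Subgroup H) (hC : C.Normal)
    (hC1 : C ≠ ⊥) :
    ∃ N : Subgroup H, N.Normal ∧ N ≠ ⊥ ∧ N ≤ C ∧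
      ∀ M : Subgroup H, M.Normal → M ≤ N → M = ⊥ ∨ M = N := by
  classical
  have hex : ∃ n : ℕ, ∃ N : Subgroup H, N.Normal ∧ N ≠ ⊥ ∧ N ≤ C ∧ Nat.card N = n :=
    ⟨_, C, hC, hC1, le_rfl, rfl⟩
  obtain ⟨N, hN, hN1, hNC, hNn⟩ := Nat.find_spec hex
  refine ⟨N, hN, hN1, hNC, ?_⟩
  intro M hM hMN
  by_cases hM1 : M = ⊥
  · exact Or.inl hM1
  · right
    have hmin := Nat.find_min' hex ⟨M, hM, hM1, hMN.trans hNC, rfl⟩
    rw [← hNn] at hmin
    exact Subgroup.eq_of_le_of_card_ge hMN hmin

/-- A minimal normal subgroup of a group of order dividing `20160` is solvable or simple. -/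
theorem simple_of_min_normal {H : Type u} [Group H] [Finite H] (hcard : Nat.card H ∣ 20160)
    (N : Subgroup H) (hN : N.Normal) (hN1 : N ≠ ⊥)
    (hmin : ∀ M : Subgroup H, M.Normal → M ≤ N → M = ⊥ ∨ M = N)
    (hns : ¬ Group.IsSolvable N) : IsSimpleGroup N := by
  classical
  haveI := hN
  -- a proper normal subgroup of `N` of maximal order
  have hex : ∃ n : ℕ, ∃ M : Subgroup N, M.Normal ∧ M ≠ ⊤ ∧ Nat.card N - Nat.card M = n :=
    ⟨_, ⊥, inferInstance, by
      intro h
      apply hN1
      have := Subgroup.nontrivial_iff_ne_bot N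
      by_contra hne
      have hnt : Nontrivial N := (Subgroup.nontrivial_iff_ne_bot N).2 hne
      exact bot_ne_top h, rfl⟩
  obtain ⟨M', hM'n, hM't, hM'c⟩ := Nat.find_spec hex
  have hmax : ∀ K : Subgroup N, K.Normal → K ≠ ⊤ → Nat.card K ≤ Nat.card M' := by
    intro K hK hKt
    have h1 := Nat.find_min' hex ⟨K, hK, hKt, rfl⟩
    rw [← hM'c] at h1
    have h2 : Nat.card M' ≤ Nat.card N := Subgroup.card_le_card_group M'
    have h3 : Nat.card K ≤ Nat.card N := Subgroup.card_le_card_group K
    omega
  have hnt : Nontrivial N := (Subgroup.nontrivial_iff_ne_bot N).2 hN1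
  suffices hM'b : M' = ⊥ by
    refine ⟨fun K hK => ?_⟩
    by_cases hKt : K = ⊤
    · exact Or.inr hKt
    · left
      have h1 := hmax K hK hKt
      rw [hM'b, Subgroup.card_bot] at h1
      have h2 : Nat.card K = 1 := le_antisymm h1 Nat.card_pos
      exact Subgroup.card_eq_one.1 h2
  by_contra hM'b
  haveI := hM'n
  -- some conjugate of `M'` under `H` differs from `M'`
  have hconj : ∃ h : H, M'.map (MulAut.conjNormal h : MulAut N).toMonoidHom ≠ M' := by
    by_contra hall
    push Not at hall
    have hMn : (M'.map N.subtype).Normal := by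
      constructor
      rintro x ⟨m, hm, rfl⟩ g
      have h1 : (MulAut.conjNormal g : MulAut N) m ∈ M'.map (MulAut.conjNormal g : MulAut N).toMonoidHom :=
        ⟨m, hm, rfl⟩
      rw [hall g] at h1
      refine ⟨_, h1, ?_⟩
      simp [MulAut.conjNormal_apply]
    rcases hmin _ hMn (Subgroup.map_subtype_le M') with h | h
    · apply hM'b
      rw [eq_bot_iff]
      intro x hx
      have : (x : H) ∈ M'.map N.subtype := ⟨x, hx, rfl⟩
      rw [h, Subgroup.mem_bot] at this
      rw [Subgroup.mem_bot]
      exact Subtype.ext this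
    · apply hM't
      rw [eq_top_iff]
      intro x _
      have : (x : H) ∈ M'.map N.subtype := by
        rw [h]
        exact x.2
      obtain ⟨y, hy, hyx⟩ := this
      have : y = x := Subtype.ext hyx
      rwa [← this]
  obtain ⟨h, hh⟩ := hconj
  set B : Subgroup N := M'.map (MulAut.conjNormal h : MulAut N).toMonoidHom with hB
  have hBn : B.Normal :=
    Subgroup.Normal.map hM'n _ (MulAut.conjNormal h : MulAut N).surjective
  have hBc : Nat.card B = Nat.card M' :=
    Subgroup.card_map_of_injective (MulAut.conjNormal h : MulAut N).injective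
  have hsup : M' ⊔ B = ⊤ := by
    by_contra hne
    have h1 := hmax (M' ⊔ B) inferInstance hne
    have h2 : M' = M' ⊔ B := Subgroup.eq_of_le_of_card_ge le_sup_left h1
    have h3 : B ≤ M' := by
      rw [h2]
      exact le_sup_right
    exact hh (Subgroup.eq_of_le_of_card_ge h3 hBc.ge)
  -- index computations
  have hr1 : B.relIndex (M' ⊔ B) = B.relIndex M' := Subgroup.relIndex_sup_right M' B
  rw [hsup, Subgroup.relIndex_top_right] at hr1
  have hr2 : B.relIndex M' ∣ Nat.card M' := Subgroup.relIndex_dvd_card B M'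
  have hr3 : Nat.card B * B.index = Nat.card N := Subgroup.card_mul_index B
  have hr4 : Nat.card M' * M'.index = Nat.card N := Subgroup.card_mul_index M'
  have hidx : M'.index = B.index := by
    have hpos : 0 < Nat.card M' := Nat.card_pos
    rw [hBc, ← hr4] at hr3
    exact (Nat.eq_of_mul_eq_mul_left hpos hr3).symm
  have hdd : M'.index * M'.index ∣ 20160 := by
    obtain ⟨s, hs⟩ := hr2
    rw [← hr1, ← hidx] at hs
    have h1 : Nat.card N = M'.index * M'.index * s := by
      rw [← hr4, hs]
      ring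
    have h2 : Nat.card N ∣ Nat.card H := Subgroup.card_subgroup_dvd_card N
    exact (Dvd.intro _ h1.symm).trans (h2.trans hcard)
  have h24 := dvd_24_of_sq_dvd _ hdd
  -- the quotient is solvable
  have hQ : Group.IsSolvable (N ⧸ M') := by
    apply isSolvable_of_card_dvd_pq 2 3 3 1 Nat.prime_two Nat.prime_three
    rw [← Subgroup.index_eq_card]
    exact h24
  obtain ⟨k, hk⟩ := (Group.isSolvable_def (N ⧸ M')).1 hQ
  have hDle : derivedSeries N k ≤ M' := by
    have h1 := map_derivedSeries_le_derivedSeries (QuotientGroup.mk' M') k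
    rw [hk, le_bot_iff, Subgroup.map_eq_bot_iff, QuotientGroup.ker_mk'] at h1
    exact h1
  have hDn : ((derivedSeries N k).map N.subtype).Normal := inferInstance
  rcases hmin _ hDn (Subgroup.map_subtype_le _) with h1 | h1
  · apply hns
    rw [Group.isSolvable_def]
    refine ⟨k, ?_⟩
    rwa [Subgroup.map_eq_bot_iff_of_injective _ N.subtype_injective] at h1
  · apply hM't
    rw [eq_top_iff]
    intro x _
    apply hDle
    have : (x : H) ∈ (derivedSeries N k).map N.subtype := by
      rw [h1]
      exact x.2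
    obtain ⟨y, hy, hyx⟩ := this
    have : y = x := Subtype.ext hyx
    rwa [← this]

end Cfsg.Agent.Lib.Helper20.A8Sub
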