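import Mathlib

/-!
Elements of order `7` and `5` in `Perm (Fin 8)`: cycle types, centralizers, and the parity of an
involution normalizing but not centralizing a subgroup of order `7`.
-/

set_option autoImplicit false

namespace Cfsg.Agent.Lib.Helper20.A8Sub

open Equiv Equiv.Perm Subgroup

/-- An element of order `7` of `S₈` is a `7`-cycle. -/
theorem cycleType_of_orderOf_seven (g : Perm (Fin 8)) (hg : orderOf g = 7) :
    g.cycleType = {7} := by
  have hp : (orderOf g).Prime := by rw [hg]; norm_num
  obtain ⟨n, hn⟩ := cycleType_prime_order hp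
  rw [hg] at hn
  have h7 : 7 ∈ g.cycleType := by
    rw [hn]
    exact Multiset.mem_replicate.2 ⟨by omega, rfl⟩
  exact cycleType_of_card_le_mem_cycleType_add_two (by simp) h7

/-- An element of order `5` of `S₈` is a `5`-cycle. -/
theorem cycleType_of_orderOf_five (g : Perm (Fin 8)) (hg : orderOf g = 5) :
    g.cycleType = {5} := by
  have hp : (orderOf g).Prime := by rw [hg]; norm_num
  obtain ⟨n, hn⟩ := cycleType_prime_order hp
  rw [hg] at hn
  have hs := sum_cycleType_le g
  rw [hn, Multiset.sum_replicate, Fintype.card_fin, smul_eq_mul] at hs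
  have h0 : n = 0 := by omega
  rw [hn, h0]
  rfl

/-- The centralizer in `S₈` of an element of order `7` has order `7`. -/
theorem card_centralizer_seven (g : Perm (Fin 8)) (hg : orderOf g = 7) :
    Nat.card (centralizer ({g} : Set (Perm (Fin 8)))) = 7 := by
  rw [nat_card_centralizer, cycleType_of_orderOf_seven g hg]
  simp

/-- An involution of `S₈` normalizing but not centralizing a subgroup of order `7` is odd. -/
theorem sign_of_normalizing_involution (c t : Perm (Fin 8)) (hc : orderOf c = 7)
    (ht : orderOf t = 2) (hn : t * c * t⁻¹ ∈ zpowers c) (hnc : t * c ≠ c * t) :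
    Perm.sign t = -1 := by
  have hct := cycleType_of_orderOf_seven c hc
  have hcyc : c.IsCycle := by
    rw [← card_cycleType_eq_one, hct]
    rfl
  have hsupp : c.support.card = 7 := by
    rw [← sum_cycleType, hct]
    rfl
  -- natural exponent
  have hfin : IsOfFinOrder c := isOfFinOrder_of_finite c
  obtain ⟨k, hk⟩ := (mem_powers_iff_mem_zpowers.2 hn : t * c * t⁻¹ ∈ Submonoid.powers c)
  have hk : c ^ k = t * c * t⁻¹ := hk
  have hconj : ∀ i : ℕ, t * c ^ i * t⁻¹ = c ^ (k * i) := by
    intro i
    rw [pow_mul, hk, conj_pow]
  -- key fact on the cycle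
  have hF1 : ∀ y, c y ≠ y → ∀ i : ℕ, (c ^ i) y = y → 7 ∣ i := by
    intro y hy i hi
    have := (hcyc.pow_eq_one_iff' hy).2 hi
    rw [← hc]
    exact orderOf_dvd_of_pow_eq_one this
  have hk7 : ¬ 7 ∣ k := by
    intro h7
    have h1 : c ^ k = 1 := by
      rw [← hc] at h7
      exact orderOf_dvd_iff_pow_eq_one.1 h7
    rw [hk] at h1
    have h2 : c = 1 := by
      have := congrArg (fun x => t⁻¹ * x * t) h1
      simpa [mul_assoc] using this
    rw [h2, orderOf_one] at hc
    omega
  -- the fixed point of `c`
  have hz : ∃ z, c z = z := by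
    by_contra hno
    push Not at hno
    have : c.support = Finset.univ := by
      ext x
      simp [hno x]
    rw [this] at hsupp
    simp at hsupp
  obtain ⟨z, hz⟩ := hz
  have hzu : ∀ y, c y = y → y = z := by
    intro y hy
    by_contra hne
    have h1 : ({y, z} : Finset (Fin 8)) ⊆ c.supportᶜ := by
      intro x hx
      rw [Finset.mem_insert, Finset.mem_singleton] at hx
      rw [Finset.mem_compl, Perm.mem_support, not_not]
      rcases hx with rfl | rfl
      · exact hy
      · exact hz
    have h2 := Finset.card_le_card h1
    rw [Finset.card_compl, hsupp, Finset.card_pair hne] at h2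
    simp at h2
  have htz : t z = z := by
    apply hzu
    by_contra hne
    have h1 : (c ^ k) (t z) = t z := by
      rw [hk]
      simp [hz]
    exact hk7 (hF1 _ hne k h1)
  -- at most one fixed point of `t` in the support of `c`
  have huniq : ∀ y y', c y ≠ y → c y' ≠ y' → t y = y → t y' = y' → y = y' := by
    intro y y' hy hy' hty hty'
    obtain ⟨i, hi⟩ := hcyc.exists_pow_eq hy hy'
    have h1 : (c ^ (k * i)) y = y' := by
      rw [← hconj i]
      have : t⁻¹ y = y := by
        rw [Perm.inv_eq_iff_eq]
        exact hty.symm
      simp only [Perm.mul_apply, this, hi, hty']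
    have hk1 : 1 ≤ k := by
      by_contra h0
      have : k = 0 := by omega
      exact hk7 (this ▸ dvd_zero 7)
    have h2 : (c ^ ((k - 1) * i)) y' = y' := by
      have : k * i = (k - 1) * i + i := by
        have : k = (k - 1) + 1 := by omega
        nth_rewrite 1 [this]
        ring
      rw [this, pow_add, Perm.mul_apply, hi] at h1
      exact h1
    have h3 := hF1 y' hy' _ h2
    rcases (Nat.Prime.dvd_mul (by norm_num : Nat.Prime 7)).1 h3 with h4 | h4
    · exfalso
      apply hnc
      have h5 : c ^ k = c := by
        have : k = (k - 1) + 1 := by omega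
        rw [this, pow_add, pow_one]
        have : c ^ (k - 1) = 1 := by
          rw [← hc] at h4
          exact orderOf_dvd_iff_pow_eq_one.1 h4
        rw [this, one_mul]
      rw [hk] at h5
      have := congrArg (fun x => x * t) h5
      simpa [mul_assoc] using this
    · have : c ^ i = 1 := by
        rw [← hc] at h4
        exact orderOf_dvd_iff_pow_eq_one.1 h4
      rw [this] at hi
      exact hi
  -- count the fixed points of `t`
  have hp : (orderOf t).Prime := by rw [ht]; norm_num
  obtain ⟨n, hn2⟩ := cycleType_prime_order hp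
  rw [ht] at hn2
  have hsum : t.support.card = 2 * (n + 1) := by
    rw [← sum_cycleType, hn2, Multiset.sum_replicate, smul_eq_mul, mul_comm]
  have hfix_le : (t.supportᶜ).card ≤ 2 := by
    by_contra hgt
    push Not at hgt
    obtain ⟨a, b, d, ha, hb, hd, hab, had, hbd⟩ := Finset.two_lt_card_iff.1 hgt
    rw [Finset.mem_compl, Perm.mem_support, not_not] at ha hb hd
    by_cases haz : a = z
    · by_cases hbz : b = z
      · exact hab (haz.trans hbz.symm)
      · by_cases hdz : d = z
        · exact had (haz.trans hdz.symm)
        · exact hbd (huniq b d (fun h => hbz (hzu b h)) (fun h => hdz (hzu d h)) hb hd)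
    · by_cases hbz : b = z
      · by_cases hdz : d = z
        · exact hbd (hbz.trans hdz.symm)
        · exact had (huniq a d (fun h => haz (hzu a h)) (fun h => hdz (hzu d h)) ha hd)
      · exact hab (huniq a b (fun h => haz (hzu a h)) (fun h => hbz (hzu b h)) ha hb)
  have hfix_ge : 1 ≤ (t.supportᶜ).card := by
    apply Finset.card_pos.2
    exact ⟨z, by rw [Finset.mem_compl, Perm.mem_support, not_not]; exact htz⟩
  rw [Finset.card_compl, Fintype.card_fin, hsum] at hfix_le hfix_ge
  have hn1 : n = 2 := by omega
  rw [sign_of_cycleType, hn2, hn1]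
  decide

end Cfsg.Agent.Lib.Helper20.A8Sub
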