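import Mathlib
import Cfsg.Agent.Lib.Helper20.A8SubA
import Cfsg.Agent.Lib.Helper20.A8SubC

/-!
Groups `H` with an injective homomorphism `φ : H →* Perm (Fin 8)` into the even permutations:
Sylow `7`-subgroups, their centralizers and normalizers.
-/

set_option autoImplicit false

namespace Cfsg.Agent.Lib.Helper20.A8Sub

open Equiv Equiv.Perm Subgroup

universe u

section

variable {H : Type u} [Group H] [Finite H] (φ : H →* Perm (Fin 8)) (hφ : Function.Injective φ)
  (heven : ∀ h, Perm.sign (φ h) = 1)

include hφ in
/-- The order of `H` divides `8!`. -/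
theorem card_dvd_factorial : Nat.card H ∣ 40320 := by
  have h1 := Subgroup.card_dvd_of_injective φ hφ
  rw [Nat.card_perm, Nat.card_fin] at h1
  exact h1

include hφ heven in
/-- The order of `H` divides `|A₈| = 20160`. -/
theorem card_dvd_20160 : Nat.card H ∣ 20160 := by
  let ψ : H →* alternatingGroup (Fin 8) :=
    φ.codRestrict (alternatingGroup (Fin 8)) (fun h => Perm.mem_alternatingGroup.2 (heven h))
  have hψ : Function.Injective ψ := by
    intro a b hab
    apply hφ
    exact congrArg Subtype.val hab
  have h1 := Subgroup.card_dvd_of_injective ψ hψ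
  have h2 : Nat.card (alternatingGroup (Fin 8)) = 20160 := by
    have h3 := two_mul_nat_card_alternatingGroup (α := Fin 8)
    rw [Nat.card_perm, Nat.card_fin] at h3
    have : (8 : ℕ).factorial = 40320 := by decide
    omega
  rwa [h2] at h1

include hφ in
theorem orderOf_map (h : H) : orderOf (φ h) = orderOf h :=
  orderOf_injective φ hφ h

include hφ in
/-- The centralizer of an element of order `7` has order `7`. -/
theorem card_centralizer_eq_seven (c : H) (hc : orderOf c = 7) :
    Nat.card (centralizer ({c} : Set H)) = 7 := by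
  have h1 : (centralizer ({c} : Set H)).map φ ≤ centralizer ({φ c} : Set (Perm (Fin 8))) := by
    rintro _ ⟨x, hx, rfl⟩
    have hx : x ∈ centralizer ({c} : Set H) := hx
    rw [Subgroup.mem_centralizer_singleton_iff] at hx ⊢
    rw [← map_mul, ← map_mul, hx]
  have h2 := Subgroup.card_dvd_of_le h1
  rw [Subgroup.card_map_of_injective hφ,
    card_centralizer_seven (φ c) (by rw [orderOf_map φ hφ, hc])] at h2
  have h3 : zpowers c ≤ centralizer ({c} : Set H) := by
    rw [Subgroup.zpowers_le, Subgroup.mem_centralizer_singleton_iff]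
  have h4 := Subgroup.card_dvd_of_le h3
  rw [Nat.card_zpowers, hc] at h4
  exact Nat.dvd_antisymm h2 h4

include hφ heven in
/-- The normalizer of a subgroup of order `7` has order `7` or `21`. -/
theorem card_normalizer_seven (c : H) (hc : orderOf c = 7) :
    Nat.card (normalizer (zpowers c : Set H)) = 7 ∨
      Nat.card (normalizer (zpowers c : Set H)) = 21 := by
  have h1 := card_normalizer_dvd c 7 (by norm_num) hc
  rw [card_centralizer_eq_seven φ hφ c hc] at h1
  have h2 : zpowers c ≤ normalizer (zpowers c : Set H) := Subgroup.le_normalizer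
  have h3 := Subgroup.card_dvd_of_le h2
  rw [Nat.card_zpowers, hc] at h3
  -- no involution in the normalizer
  have hodd : ¬ 2 ∣ Nat.card (normalizer (zpowers c : Set H)) := by
    intro h2d
    haveI : Fact (Nat.Prime 2) := ⟨Nat.prime_two⟩
    obtain ⟨t, ht⟩ := exists_prime_orderOf_dvd_card' 2 h2d
    have htn : (t : H) ∈ normalizer (zpowers c : Set H) := t.2
    have ht2 : orderOf (t : H) = 2 := by
      rw [← ht]
      exact (Subgroup.orderOf_coe t)
    have hmem : (t : H) * c * (t : H)⁻¹ ∈ zpowers c :=
      (Subgroup.mem_normalizer_iff.1 htn c).1 (Subgroup.mem_zpowers c)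
    have hnc : (t : H) * c ≠ c * (t : H) := by
      intro hcomm
      have h5 : (t : H) ∈ centralizer ({c} : Set H) := by
        rw [Subgroup.mem_centralizer_singleton_iff]
        exact hcomm
      have h6 : orderOf (t : H) ∣ Nat.card (centralizer ({c} : Set H)) := by
        have := orderOf_dvd_natCard (⟨(t : H), h5⟩ : centralizer ({c} : Set H))
        rwa [Subgroup.orderOf_mk] at this
      rw [ht2, card_centralizer_eq_seven φ hφ c hc] at h6
      omega
    have h7 := sign_of_normalizing_involution (φ c) (φ (t : H))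
      (by rw [orderOf_map φ hφ, hc]) (by rw [orderOf_map φ hφ, ht2])
      (by
        rw [← map_inv, ← map_mul, ← map_mul, ← MonoidHom.map_zpowers]
        exact Subgroup.mem_map_of_mem φ hmem)
      (by
        intro h8
        apply hnc
        apply hφ
        rw [map_mul, map_mul, h8])
    rw [heven] at h7
    exact absurd h7 (by decide)
  obtain ⟨a, ha⟩ := h3
  rw [ha] at h1 hodd ⊢
  have h4 : a ∣ 6 := by
    have : 7 * a ∣ 7 * 6 := h1
    exact Nat.dvd_of_mul_dvd_mul_left (by norm_num) this
  have h5 : a ≤ 6 := Nat.le_of_dvd (by norm_num) h4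
  interval_cases a <;> simp_all

include hφ heven in
/-- Sylow counting for the prime `7` in a simple non-solvable group of even permutations of degree `8`. -/
theorem card_eq_of_seven_dvd [IsSimpleGroup H] (hns : ¬ Group.IsSolvable H) (h7 : 7 ∣ Nat.card H) :
    ∃ n, Nat.card H = 21 * n ∧ n % 7 = 1 ∧
      ∃ c : H, orderOf c = 7 ∧ Nat.card (normalizer (zpowers c : Set H)) = 21 := by
  haveI : Fact (Nat.Prime 7) := ⟨by norm_num⟩
  obtain ⟨c, hc⟩ := exists_prime_orderOf_dvd_card' 7 h7
  have hfac : (Nat.card H).factorization 7 = 1 := by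
    have h1 : Nat.card H ∣ 40320 := card_dvd_factorial φ hφ
    have h2 : ¬ 7 ^ 2 ∣ Nat.card H := by
      intro h3
      have := h3.trans h1
      revert this
      decide
    have hpos : Nat.card H ≠ 0 := Nat.card_pos.ne'
    have h3 : 1 ≤ (Nat.card H).factorization 7 :=
      (Nat.Prime.dvd_iff_one_le_factorization (by norm_num) hpos).1 h7
    have h4 : ¬ 2 ≤ (Nat.card H).factorization 7 := by
      intro h5
      exact h2 ((Nat.Prime.pow_dvd_iff_le_factorization (by norm_num) hpos).2 h5)
    omega
  let P : Sylow 7 H := Sylow.ofCard (zpowers c) (by rw [Nat.card_zpowers, hc, hfac, pow_one])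
  have hPc : (P : Subgroup H) = zpowers c := rfl
  have hn1 : Nat.card (Sylow 7 H) = (normalizer ((P : Subgroup H) : Set H)).index :=
    P.card_eq_index_normalizer
  have hn2 : Nat.card (Sylow 7 H) ≡ 1 [MOD 7] := card_sylow_modEq_one 7 H
  rw [hPc] at hn1
  rcases card_normalizer_seven φ hφ heven c hc with hN | hN
  · exfalso
    have hNeq : normalizer (zpowers c : Set H) = zpowers c := by
      symm
      apply Subgroup.eq_of_le_of_card_ge Subgroup.le_normalizer
      rw [hN, Nat.card_zpowers, hc]
    have hP : normalizer ((P : Subgroup H) : Set H) ≤ centralizer ((P : Subgroup H) : Set H) := by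
      rw [hPc, hNeq]
      intro x hx y hy
      obtain ⟨i, rfl⟩ := Subgroup.mem_zpowers_iff.1 hx
      obtain ⟨j, rfl⟩ := Subgroup.mem_zpowers_iff.1 hy
      exact (Commute.zpow_zpow_self c j i).eq
    have hcompl := MonoidHom.ker_transferSylow_isComplement' P hP
    have hcard := hcompl.card_mul_card
    have hP7 : Nat.card ((P : Subgroup H)) = 7 := by
      rw [hPc, Nat.card_zpowers, hc]
    rw [hP7] at hcard
    rcases (MonoidHom.transferSylow P hP).normal_ker.eq_bot_or_eq_top with hK | hK
    · rw [hK, Subgroup.card_bot, one_mul] at hcard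
      apply hns
      haveI : Fact (Nat.card H).Prime := ⟨by rw [← hcard]; norm_num⟩
      haveI : IsCyclic H := isCyclic_of_prime_card (p := Nat.card H) rfl
      letI : CommGroup H := IsCyclic.commGroup
      infer_instance
    · rw [hK, Subgroup.card_top] at hcard
      have : 0 < Nat.card H := Nat.card_pos
      nlinarith
  · refine ⟨(normalizer (zpowers c : Set H)).index, ?_, ?_, c, hc, hN⟩
    · rw [← hN]
      exact (Subgroup.card_mul_index _).symm
    · rw [← hn1]
      exact hn2

end

/-- Arithmetic of the Sylow count. -/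
theorem card_cases (n : ℕ) (h : 21 * n ∣ 20160) (h7 : n % 7 = 1) (h8 : 8 ∣ 21 * n) :
    21 * n = 168 ∨ 21 * n = 1344 ∨ 21 * n = 2520 ∨ 21 * n = 20160 := by
  have h1 : n ∣ 2 ^ 6 * 15 := by
    have : 21 * n ∣ 21 * 960 := h
    exact Nat.dvd_of_mul_dvd_mul_left (by norm_num) this
  obtain ⟨x, y, hx, hy, rfl⟩ := (Nat.dvd_mul).1 h1
  obtain ⟨a, ha, rfl⟩ := (Nat.dvd_prime_pow Nat.prime_two).1 hx
  have hy15 : y ≤ 15 := Nat.le_of_dvd (by norm_num) hy
  interval_cases a <;> interval_cases y <;> simp_all

end Cfsg.Agent.Lib.Helper20.A8Sub
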