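import Mathlib
import Cfsg.Agent.Lib.Helper20.A8SubA
import Cfsg.Agent.Lib.Helper20.A8SubC

/-!
Jordan's argument: a transitive simple non-solvable subgroup of `Perm (Fin 8)` containing an element of
order `5` is `4`-fold transitive, so its order is divisible by `8·7·6·5 = 1680`.
-/

set_option autoImplicit false

namespace Cfsg.Agent.Lib.Helper20.A8Sub

open Equiv Equiv.Perm Subgroup MulAction

/-- A transitive simple non-solvable group of degree `8` is primitive. -/
theorem isPreprimitive_of_simple (G : Subgroup (Perm (Fin 8))) [IsSimpleGroup G]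
    (hns : ¬ Group.IsSolvable G) [htr : IsPretransitive G (Fin 8)] : IsPreprimitive G (Fin 8) := by
  rw [← isCoatom_stabilizer_iff_preprimitive (G := G) (a := (0 : Fin 8))]
  have hidx : (stabilizer G (0 : Fin 8)).index = 8 := by
    rw [index_stabilizer_of_transitive G (0 : Fin 8), Nat.card_fin]
  refine ⟨?_, ?_⟩
  · intro htop
    rw [htop, Subgroup.index_top] at hidx
    omega
  · intro M hM
    by_contra hMt
    have h5 := five_le_index hns M hMt
    have hd : M.index ∣ 8 := by
      have := Subgroup.index_dvd_of_le hM.le
      rwa [hidx] at this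
    have h8 : M.index = 8 := by
      have : M.index ≤ 8 := Nat.le_of_dvd (by norm_num) hd
      interval_cases h : M.index <;> simp_all
    have hc1 : Nat.card M * M.index = Nat.card G := Subgroup.card_mul_index M
    have hc2 : Nat.card (stabilizer G (0 : Fin 8)) * (stabilizer G (0 : Fin 8)).index = Nat.card G :=
      Subgroup.card_mul_index _
    rw [h8] at hc1
    rw [hidx] at hc2
    have hcard : Nat.card M ≤ Nat.card (stabilizer G (0 : Fin 8)) := by omega
    have := Subgroup.eq_of_le_of_card_ge hM.le hcard
    exact hM.ne this

/-- Jordan: with an element of order `5` the order is divisible by `1680`. -/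
theorem dvd_card_of_five (G : Subgroup (Perm (Fin 8))) [IsSimpleGroup G]
    (hns : ¬ Group.IsSolvable G) [htr : IsPretransitive G (Fin 8)] (g : Perm (Fin 8)) (hg : g ∈ G)
    (h5 : orderOf g = 5) : 1680 ∣ Nat.card G := by
  classical
  have hG := isPreprimitive_of_simple G hns
  have hct := cycleType_of_orderOf_five g h5
  have hcyc : g.IsCycle := by
    rw [← card_cycleType_eq_one, hct]
    rfl
  have hsupp : g.support.card = 5 := by
    rw [← sum_cycleType, hct]
    rfl
  have hmp : IsMultiplyPreprimitive G (Fin 8) (2 + 2) := by
    apply hG.isMultiplyPreprimitive (s := ((g.support : Set (Fin 8))ᶜ))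
    · apply Nat.add_left_cancel
      rw [Set.ncard_add_ncard_compl, Set.ncard_coe_finset, hsupp, Nat.card_fin]
    · rw [Nat.card_fin]
      norm_num
    have := isPretransitive_of_isCycle_mem hcyc hg
    apply IsPreprimitive.of_prime_card
    convert! (by norm_num : Nat.Prime 5)
    rw [Nat.card_eq_fintype_card, Fintype.card_subtype, ← hsupp]
    apply congr_arg
    ext x
    simp [SubMulAction.mem_ofFixingSubgroup_iff]
  have hmt : IsMultiplyPretransitive G (Fin 8) 4 := IsMultiplyPreprimitive.isMultiplyPretransitive ..
  obtain ⟨s, _, hs⟩ := Set.exists_subset_card_eq (s := (Set.univ : Set (Fin 8))) (n := 4)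
    (by rw [Set.ncard_univ, Nat.card_fin]; norm_num)
  have h1 := hmt.index_of_fixingSubgroup_mul hs
  rw [Nat.card_fin] at h1
  have h2 : (fixingSubgroup G s).index = 1680 := by
    have : (8 - 4).factorial = 24 := by decide
    rw [this] at h1
    have : (8 : ℕ).factorial = 40320 := by decide
    omega
  rw [← h2]
  exact Subgroup.index_dvd_card _

end Cfsg.Agent.Lib.Helper20.A8Sub
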