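import Mathlib
import Cfsg.Agent.Lib.Helper20.A8SubA

/-!
`GL₄(2)` has no simple subgroup of order `1344`.
-/

set_option autoImplicit false

namespace Cfsg.Agent.Lib.Helper20.A8Sub

open Subgroup MulAction Matrix

/-- A simple group of order `1344` acting on a set of `16` points with a fixed point has a second
fixed point. -/
theorem exists_fixed_of_card {K : Type*} [Group K] [Finite K] [IsSimpleGroup K]
    (hK : Nat.card K = 1344) {Ω : Type*} [Finite Ω] [MulAction K Ω] (hΩ : Nat.card Ω = 16) (o : Ω)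
    (ho : ∀ g : K, g • o = o) : ∃ v : Ω, v ≠ o ∧ ∀ g : K, g • v = v := by
  classical
  haveI : Fact (Nat.Prime 2) := ⟨Nat.prime_two⟩
  obtain ⟨T⟩ : Nonempty (Sylow 2 K) := inferInstance
  -- `T` fixes a second point
  have hoT : o ∈ fixedPoints (T : Subgroup K) Ω := fun g => ho g
  obtain ⟨v, hvT, hov⟩ := T.isPGroup'.exists_fixed_point_of_prime_dvd_card_of_fixed_point
    (α := Ω) (by rw [hΩ]; norm_num) hoT
  refine ⟨v, hov.symm, ?_⟩
  -- index of the Sylow subgroup
  have hTidx : (T : Subgroup K).index = 21 := by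
    have h1 : Nat.card (T : Subgroup K) * (T : Subgroup K).index = Nat.card K :=
      Subgroup.card_mul_index _
    have h2 : ¬ 2 ∣ (T : Subgroup K).index := T.not_dvd_index
    obtain ⟨k, hk⟩ := IsPGroup.iff_card.1 T.isPGroup'
    rw [hk, hK] at h1
    have hk10 : k ≤ 10 := by
      by_contra hlt
      push Not at hlt
      have : 2 ^ 11 ≤ 2 ^ k := Nat.pow_le_pow_right (by norm_num) hlt
      have hpos : 0 < (T : Subgroup K).index := by
        rcases Nat.eq_zero_or_pos (T : Subgroup K).index with h0 | h0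
        · rw [h0] at h1
          omega
        · exact h0
      nlinarith
    interval_cases k <;> omega
  -- the stabilizer of `v` contains `T`
  have hle : (T : Subgroup K) ≤ stabilizer K v := by
    intro g hg
    exact hvT ⟨g, hg⟩
  have hdvd : (stabilizer K v).index ∣ 21 := by
    rw [← hTidx]
    exact Subgroup.index_dvd_of_le hle
  -- the orbit avoids `o`
  have horb : (orbit K v).ncard ≤ 15 := by
    have hsub : orbit K v ⊆ ({o} : Set Ω)ᶜ := by
      rintro _ ⟨g, rfl⟩ hmem
      have hmem : g • v = o := hmem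
      apply hov
      have : g⁻¹ • (g • v) = g⁻¹ • o := by rw [hmem]
      rw [inv_smul_smul, ho] at this
      exact this.symm
    have h1 := Set.ncard_le_ncard hsub (Set.toFinite _)
    have h2 : (({o} : Set Ω)ᶜ).ncard = 15 := by
      have := Set.ncard_add_ncard_compl ({o} : Set Ω)
      rw [Set.ncard_singleton, hΩ] at this
      omega
    omega
  rw [← index_stabilizer] at horb
  by_contra hne
  have hst : stabilizer K v ≠ ⊤ := by
    intro htop
    apply hne
    intro g
    have : g ∈ stabilizer K v := by rw [htop]; trivial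
    exact this
  have hfac := card_dvd_factorial_index (stabilizer K v) hst
  rw [hK] at hfac
  have hle21 : (stabilizer K v).index ≤ 21 := Nat.le_of_dvd (by norm_num) hdvd
  interval_cases h : (stabilizer K v).index <;> first | omega | (revert hfac; decide)

/-- The vector space `F₂⁴`. -/
abbrev V4 := Fin 4 → ZMod 2

/-- The dual (row vector) action of a subgroup of `GL₄(2)`. -/
@[reducible] def dualAction (K : Subgroup (GL (Fin 4) (ZMod 2))) : MulAction K V4 where
  smul g u := u ᵥ* ((g⁻¹ : K) : GL (Fin 4) (ZMod 2)).1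
  one_smul u := by
    show u ᵥ* (((1 : K)⁻¹ : K) : GL (Fin 4) (ZMod 2)).1 = u
    simp
  mul_smul g h u := by
    show u ᵥ* (((g * h)⁻¹ : K) : GL (Fin 4) (ZMod 2)).1 =
      (u ᵥ* ((h⁻¹ : K) : GL (Fin 4) (ZMod 2)).1) ᵥ* ((g⁻¹ : K) : GL (Fin 4) (ZMod 2)).1
    rw [Matrix.vecMul_vecMul, _root_.mul_inv_rev]
    rfl

/-- The natural action of a subgroup of `GL₄(2)` on column vectors. -/
@[reducible] def vecAction (K : Subgroup (GL (Fin 4) (ZMod 2))) : MulAction K V4 where
  smul g x := ((g : GL (Fin 4) (ZMod 2)).1) *ᵥ x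
  one_smul x := by
    show (((1 : K) : GL (Fin 4) (ZMod 2)).1) *ᵥ x = x
    simp
  mul_smul g h x := by
    show (((g * h : K) : GL (Fin 4) (ZMod 2)).1) *ᵥ x =
      ((g : GL (Fin 4) (ZMod 2)).1) *ᵥ (((h : GL (Fin 4) (ZMod 2)).1) *ᵥ x)
    rw [Matrix.mulVec_mulVec]
    rfl

theorem card_V4 : Nat.card V4 = 16 := by
  rw [Nat.card_eq_fintype_card]
  decide

/-- The nonzero vectors of the hyperplane of a nonzero covector form a set of `7` elements. -/
theorem card_hyperplane (u : V4) (hu : u ≠ 0) :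
    (Finset.univ.filter (fun x : V4 => u ⬝ᵥ x = 0 ∧ x ≠ 0)).card = 7 := by
  revert u
  decide

/-- A simple subgroup of order `1344` of `GL₄(2)` fixes a nonzero covector. -/
theorem exists_fixed_covector (K : Subgroup (GL (Fin 4) (ZMod 2))) (hK : Nat.card K = 1344)
    [IsSimpleGroup K] : ∃ u : V4, u ≠ 0 ∧ ∀ g : K, u ᵥ* (g : GL (Fin 4) (ZMod 2)).1 = u := by
  letI := dualAction K
  obtain ⟨u, hu0, hu⟩ := exists_fixed_of_card hK card_V4 (0 : V4) (by
    intro g
    show (0 : V4) ᵥ* ((g⁻¹ : K) : GL (Fin 4) (ZMod 2)).1 = 0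
    simp)
  refine ⟨u, hu0, ?_⟩
  intro g
  have := hu g⁻¹
  have h2 : u ᵥ* (((g⁻¹)⁻¹ : K) : GL (Fin 4) (ZMod 2)).1 = u := this
  rwa [inv_inv] at h2

/-- Such a subgroup fixes the hyperplane of the covector pointwise. -/
theorem fixes_hyperplane (K : Subgroup (GL (Fin 4) (ZMod 2))) (hK : Nat.card K = 1344)
    [IsSimpleGroup K] (u : V4) (hu0 : u ≠ 0)
    (hu : ∀ g : K, u ᵥ* (g : GL (Fin 4) (ZMod 2)).1 = u) (x : V4) (hx : u ⬝ᵥ x = 0) (g : K) :
    ((g : GL (Fin 4) (ZMod 2)).1) *ᵥ x = x := by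
  classical
  letI := vecAction K
  by_cases hx0 : x = 0
  · rw [hx0]
    simp
  have hsmul : ∀ (h : K) (y : V4), h • y = ((h : GL (Fin 4) (ZMod 2)).1) *ᵥ y := fun _ _ => rfl
  -- the orbit of `x` lies in the punctured hyperplane
  have hsub : orbit K x ⊆ ((Finset.univ.filter (fun y : V4 => u ⬝ᵥ y = 0 ∧ y ≠ 0) : Finset V4) : Set V4) := by
    rintro _ ⟨h, rfl⟩
    simp only [Finset.coe_filter, Finset.mem_univ, true_and, Set.mem_setOf_eq]
    refine ⟨?_, ?_⟩
    · show u ⬝ᵥ (h • x) = 0
      rw [hsmul, Matrix.dotProduct_mulVec, hu h, hx]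
    · intro h0
      apply hx0
      have h0 : h • x = 0 := h0
      have : h⁻¹ • (h • x) = h⁻¹ • (0 : V4) := by rw [h0]
      rw [inv_smul_smul, hsmul] at this
      rw [this]
      simp
  have hcard : (orbit K x).ncard ≤ 7 := by
    have h1 := Set.ncard_le_ncard hsub (Finset.finite_toSet _)
    rw [Set.ncard_coe_finset, card_hyperplane u hu0] at h1
    exact h1
  rw [← index_stabilizer] at hcard
  have hst : stabilizer K x = ⊤ := by
    by_contra hst
    have hfac := card_dvd_factorial_index (stabilizer K x) hst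
    rw [hK] at hfac
    interval_cases h : (stabilizer K x).index <;> (revert hfac; decide)
  have : g ∈ stabilizer K x := by rw [hst]; trivial
  exact this

/-- `GL₄(2)` has no simple subgroup of order `1344`. -/
theorem not_simple_of_card_1344 (K : Subgroup (GL (Fin 4) (ZMod 2))) (hK : Nat.card K = 1344) :
    ¬ IsSimpleGroup K := by
  intro hs
  obtain ⟨u, hu0, hu⟩ := exists_fixed_covector K hK
  have hfix := fixes_hyperplane K hK u hu0 hu
  -- every element squares to one
  have hsq : ∀ g : K, g * g = 1 := by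
    intro g
    apply Subtype.ext
    apply Units.ext
    show (g : GL (Fin 4) (ZMod 2)).1 * (g : GL (Fin 4) (ZMod 2)).1 = 1
    rw [Matrix.ext_iff_mulVec]
    intro x
    rw [Matrix.one_mulVec, ← Matrix.mulVec_mulVec]
    set A := (g : GL (Fin 4) (ZMod 2)).1 with hA
    -- `w = A x - x` lies in the hyperplane
    have hw : u ⬝ᵥ (A *ᵥ x - x) = 0 := by
      rw [dotProduct_sub, Matrix.dotProduct_mulVec, hu g, sub_self]
    have h1 : A *ᵥ (A *ᵥ x - x) = A *ᵥ x - x := hfix _ hw g
    rw [Matrix.mulVec_sub] at h1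
    -- characteristic two
    have h2 : ∀ y : V4, y + y = 0 := by
      intro y
      funext i
      have : ∀ a : ZMod 2, a + a = 0 := by decide
      exact this (y i)
    have h3 : A *ᵥ (A *ᵥ x) = A *ᵥ x + (A *ᵥ x - x) := by
      rw [← h1]
      abel
    rw [h3]
    have h4 := h2 (A *ᵥ x)
    calc A *ᵥ x + (A *ᵥ x - x) = (A *ᵥ x + A *ᵥ x) - x := by abel
      _ = 0 - x := by rw [h4]
      _ = x := by
        rw [zero_sub]
        have := h2 x
        exact (eq_neg_of_add_eq_zero_left this).symm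
  -- but there is an element of order `7`
  haveI : Fact (Nat.Prime 7) := ⟨by norm_num⟩
  obtain ⟨c, hc⟩ := exists_prime_orderOf_dvd_card' (G := K) 7 (by rw [hK]; norm_num)
  have h2 : orderOf c ∣ 2 := orderOf_dvd_of_pow_eq_one (by rw [pow_two]; exact hsq c)
  rw [hc] at h2
  omega

end Cfsg.Agent.Lib.Helper20.A8Sub
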