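import Mathlib
import Cfsg.Agent.Lib.Helper20.A8SubA

/-!
A normal non-solvable simple subgroup `S` of a group `H` of permutations of `8` points has a unique
nontrivial orbit (of size at least `5`); `H` acts faithfully on it when `C_H(S) = 1`.
-/

set_option autoImplicit false

namespace Cfsg.Agent.Lib.Helper20.A8Sub

open Equiv Equiv.Perm Subgroup MulAction

universe u

section

variable {H : Type u} [Group H] [Finite H] (φ : H →* Perm (Fin 8)) (S : Subgroup H)

/-- The points moved by `S`. -/
def Moved (x : Fin 8) : Prop := ∃ s ∈ S, φ s x ≠ x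

variable [hS : S.Normal]

include hS in
theorem moved_smul (h : H) (x : Fin 8) : Moved φ S (φ h x) ↔ Moved φ S x := by
  constructor
  · rintro ⟨s, hs, hsx⟩
    refine ⟨h⁻¹ * s * h, ?_, ?_⟩
    · have := hS.conj_mem s hs h⁻¹
      simpa using this
    · intro h1
      apply hsx
      have h2 : φ (h⁻¹ * s * h) x = (φ h)⁻¹ (φ s (φ h x)) := by
        simp [map_mul]
      rw [h2, Perm.inv_eq_iff_eq] at h1
      exact h1
  · rintro ⟨s, hs, hsx⟩
    refine ⟨h * s * h⁻¹, hS.conj_mem s hs h, ?_⟩
    intro h1
    apply hsx
    have h2 : φ (h * s * h⁻¹) (φ h x) = φ h (φ s x) := by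
      simp [map_mul]
    rw [h2] at h1
    exact (φ h).injective h1

/-- Restriction of `H` to the moved points. -/
def restr : H →* Perm {x // Moved φ S x} where
  toFun h := subtypePerm (φ h) (fun x => moved_smul φ S h x)
  map_one' := by
    apply Equiv.ext
    intro x
    apply Subtype.ext
    show φ 1 x = x
    rw [map_one]
    rfl
  map_mul' a b := by
    apply Equiv.ext
    intro x
    apply Subtype.ext
    show φ (a * b) x = φ a (φ b x)
    rw [map_mul]
    rfl

@[simp] theorem restr_apply (h : H) (x : {x // Moved φ S x}) :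
    ((restr φ S h x : {x // Moved φ S x}) : Fin 8) = φ h x := rfl

/-- `H` acts faithfully on the moved points when `C_H(S) = 1`. -/
theorem restr_injective (hφ : Function.Injective φ) (hC : centralizer (S : Set H) = ⊥) :
    Function.Injective (restr φ S) := by
  rw [injective_iff_map_eq_one]
  intro h hh
  have hfix : ∀ x, Moved φ S x → φ h x = x := by
    intro x hx
    have := congrArg (fun f : Perm {x // Moved φ S x} => ((f ⟨x, hx⟩ : {x // Moved φ S x}) : Fin 8)) hh
    simpa using this
  have hmem : h ∈ centralizer (S : Set H) := by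
    rw [Subgroup.mem_centralizer_iff]
    intro s hs
    apply hφ
    rw [map_mul, map_mul]
    ext x
    simp only [Perm.mul_apply]
    by_cases hx : Moved φ S x
    · rw [hfix x hx, hfix (φ s x) ((moved_smul φ S s x).2 hx)]
    · have h1 : ∀ t ∈ S, ∀ y, ¬ Moved φ S y → φ t y = y := by
        intro t ht y hy
        by_contra hne
        exact hy ⟨t, ht, hne⟩
      rw [h1 s hs x hx, h1 s hs (φ h x) (fun hm => hx ((moved_smul φ S h x).1 hm))]
  rw [hC, Subgroup.mem_bot] at hmem
  exact hmem

variable [hsimple : IsSimpleGroup S] (hns : ¬ Group.IsSolvable S)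

include hns in
/-- The `S`-orbit of a moved point has at least `5` elements. -/
theorem five_le_orbit (x : Fin 8) (hx : Moved φ S x) :
    5 ≤ (Set.range (fun s : S => φ s x)).ncard := by
  letI : MulAction S (Fin 8) := MulAction.compHom (Fin 8) (φ.comp S.subtype)
  have hsm : ∀ (s : S) (y : Fin 8), s • y = φ s y := fun _ _ => rfl
  have horb : Set.range (fun s : S => φ s x) = orbit S x := rfl
  rw [horb, ← index_stabilizer]
  apply five_le_index hns
  intro htop
  obtain ⟨s, hs, hsx⟩ := hx
  apply hsx
  have : (⟨s, hs⟩ : S) ∈ stabilizer S x := by rw [htop]; trivial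
  exact this

include hns in
/-- `S` is transitive on the moved points. -/
theorem moved_transitive (x y : Fin 8) (hx : Moved φ S x) (hy : Moved φ S y) :
    ∃ s ∈ S, φ s x = y := by
  classical
  by_contra hno
  push Not at hno
  have h1 := five_le_orbit φ S hns x hx
  have h2 := five_le_orbit φ S hns y hy
  have hdisj : Disjoint (Set.range (fun s : S => φ s x)) (Set.range (fun s : S => φ s y)) := by
    rw [Set.disjoint_left]
    rintro _ ⟨s, rfl⟩ ⟨t, ht⟩
    have ht : φ t y = φ s x := ht
    apply hno ((t : H)⁻¹ * s) (S.mul_mem (S.inv_mem t.2) s.2)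
    have : φ ((t : H)⁻¹ * s) x = (φ t)⁻¹ (φ s x) := by simp [map_mul]
    rw [this, ← ht]
    simp
  have h3 := Set.ncard_union_eq hdisj (Set.toFinite _) (Set.toFinite _)
  have h4 : (Set.range (fun s : S => φ s x) ∪ Set.range (fun s : S => φ s y)).ncard ≤ 8 := by
    have := Set.ncard_le_ncard (Set.subset_univ
      (Set.range (fun s : S => φ s x) ∪ Set.range (fun s : S => φ s y))) (Set.toFinite _)
    rwa [Set.ncard_univ, Nat.card_fin] at this
  omega

include hns in
/-- There are at least `5` moved points. -/
theorem five_le_card_moved [DecidablePred (Moved φ S)] (hφ : Function.Injective φ) :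
    5 ≤ Fintype.card {x // Moved φ S x} := by
  -- `S` is nontrivial, so some point is moved
  have hnt : Nontrivial S := hsimple.toNontrivial
  obtain ⟨s, hs1⟩ := exists_ne (1 : S)
  have hs2 : φ s ≠ 1 := by
    intro h
    apply hs1
    have : (s : H) = 1 := hφ (by rw [h, map_one])
    exact Subtype.ext this
  obtain ⟨x, hx⟩ : ∃ x, φ s x ≠ x := by
    by_contra hno
    push Not at hno
    exact hs2 (Perm.ext hno)
  have hmx : Moved φ S x := ⟨s, s.2, hx⟩
  have h1 := five_le_orbit φ S hns x hmx
  have hsub : Set.range (fun s : S => φ s x) ⊆ {y | Moved φ S y} := by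
    rintro _ ⟨t, rfl⟩
    exact (moved_smul φ S (t : H) x).2 hmx
  have h2 := Set.ncard_le_ncard hsub (Set.toFinite _)
  have h3 : ({y | Moved φ S y} : Set (Fin 8)).ncard = Fintype.card {x // Moved φ S x} := by
    rw [← Nat.card_coe_set_eq, Nat.card_eq_fintype_card]
    rfl
  omega

include hns in
/-- `S` is transitive on the moved points (subtype form). -/
theorem restr_transitive (x y : {x // Moved φ S x}) : ∃ s ∈ S, restr φ S s x = y := by
  obtain ⟨s, hs, hsx⟩ := moved_transitive φ S hns x y x.2 y.2
  exact ⟨s, hs, Subtype.ext hsx⟩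

end

end Cfsg.Agent.Lib.Helper20.A8Sub
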