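import Mathlib
import Cfsg.Agent.S0249
import Cfsg.Agent.S0495
import Cfsg.Agent.S2119

/-!
Recognition lemmas: simple groups of order `168` are isomorphic to `GL₃(2)`; groups with a normal
subgroup `≅ A₅` with trivial centralizer are `A₅` or `S₅`.
-/

set_option autoImplicit false

namespace Cfsg.Agent.Lib.Helper20.A8Sub

open Matrix Subgroup

/-- Over `ZMod 2` every invertible matrix has determinant one. -/
theorem toGL_bijective (n : ℕ) :
    Function.Bijective (Matrix.SpecialLinearGroup.toGL :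
      SpecialLinearGroup (Fin n) (ZMod 2) →* GL (Fin n) (ZMod 2)) := by
  refine ⟨Matrix.SpecialLinearGroup.toGL_injective, ?_⟩
  intro g
  have h : IsUnit (g : Matrix (Fin n) (Fin n) (ZMod 2)).det :=
    (Matrix.isUnit_iff_isUnit_det _).mp g.isUnit
  have h0 : (g : Matrix (Fin n) (Fin n) (ZMod 2)).det ≠ 0 := h.ne_zero
  have h1 : (g : Matrix (Fin n) (Fin n) (ZMod 2)).det = 1 := by
    generalize (g : Matrix (Fin n) (Fin n) (ZMod 2)).det = d at h0
    revert d
    decide
  refine ⟨⟨(g : Matrix (Fin n) (Fin n) (ZMod 2)), h1⟩, ?_⟩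
  apply Units.ext
  rfl

/-- The centre of `SLₙ(2)` is trivial. -/
theorem center_SL_two (n : ℕ) : Subgroup.center (SpecialLinearGroup (Fin n) (ZMod 2)) = ⊥ := by
  rw [eq_bot_iff]
  intro A hA
  rw [Matrix.SpecialLinearGroup.mem_center_iff] at hA
  obtain ⟨r, hr, hA⟩ := hA
  rw [Subgroup.mem_bot]
  apply Subtype.ext
  rw [← hA]
  by_cases hn : n = 0
  · subst hn
    ext i
    exact i.elim0
  have hr1 : r = 1 := by
    have h0 : r ≠ 0 := by
      intro h0
      rw [h0, Fintype.card_fin, zero_pow hn] at hr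
      exact zero_ne_one hr
    revert h0
    generalize r = d
    revert d
    decide
  rw [hr1]
  simp

/-- `GLₙ(2) ≃* PSLₙ(2)`. -/
noncomputable def glEquivPSL (n : ℕ) :
    GL (Fin n) (ZMod 2) ≃* ProjectiveSpecialLinearGroup (Fin n) (ZMod 2) :=
  (MulEquiv.ofBijective _ (toGL_bijective n)).symm.trans
    ((QuotientGroup.quotientMulEquivOfEq (center_SL_two n)).trans
      QuotientGroup.quotientBot).symm

theorem isSimpleGroup_GL3 : IsSimpleGroup (GL (Fin 3) (ZMod 2)) := by
  haveI : IsSimpleGroup (ProjectiveSpecialLinearGroup (Fin 3) (ZMod 2)) :=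
    Cfsg.Agent.S0249.result (F := ZMod 2) 3 le_rfl
  haveI : Nontrivial (GL (Fin 3) (ZMod 2)) := (glEquivPSL 3).toEquiv.nontrivial
  exact IsSimpleGroup.isSimpleGroup_of_surjective (glEquivPSL 3).symm.toMonoidHom (glEquivPSL 3).symm.surjective

theorem card_GL3 : Nat.card (GL (Fin 3) (ZMod 2)) = 168 := by
  rw [Matrix.card_GL_field, ZMod.card]
  decide

/-- A simple group of order `168` is isomorphic to `GL₃(2)`. -/
theorem nonempty_iso_GL3 {G : Type*} [Group G] [Finite G] [IsSimpleGroup G] (h : Nat.card G = 168) :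
    Nonempty (G ≃* GL (Fin 3) (ZMod 2)) := by
  haveI := isSimpleGroup_GL3
  haveI : Fact (Nat.Prime 7) := ⟨by norm_num⟩
  obtain ⟨e1⟩ := Cfsg.Agent.S0495.result h (F := ZMod 7) (by simp [ZMod.card])
  obtain ⟨e2⟩ := Cfsg.Agent.S0495.result card_GL3 (F := ZMod 7) (by simp [ZMod.card])
  exact ⟨e1.trans e2.symm⟩

theorem card_alt (n : ℕ) (hn : 2 ≤ n) :
    2 * Nat.card (alternatingGroup (Fin n)) = n.factorial := by
  haveI : Nontrivial (Fin n) := Fin.nontrivial_iff_two_le.2 hn
  have h3 := two_mul_nat_card_alternatingGroup (α := Fin n)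
  rwa [Nat.card_perm, Nat.card_fin] at h3

/-- A group with a normal subgroup `≅ A₅` having trivial centralizer is `A₅` or `S₅`. -/
theorem nonempty_iso_A5_or_S5 {H : Type*} [Group H] [Finite H] (S : Subgroup H) [hS : S.Normal]
    (e : S ≃* alternatingGroup (Fin 5)) (hC : centralizer (S : Set H) = ⊥) :
    Nonempty (H ≃* alternatingGroup (Fin 5)) ∨ Nonempty (H ≃* Equiv.Perm (Fin 5)) := by
  let ψ : H →* MulAut S := MulAut.conjNormal
  have hψ : Function.Injective ψ := by
    rw [injective_iff_map_eq_one]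
    intro h hh
    have hmem : h ∈ centralizer (S : Set H) := by
      rw [mem_centralizer_iff]
      intro s hs
      have h1 := congrArg (fun f : MulAut S => ((f ⟨s, hs⟩ : S) : H)) hh
      simp only [ψ, MulAut.conjNormal_apply, MulAut.one_apply] at h1
      have h2 : h * s = s * h := by
        calc h * s = h * s * h⁻¹ * h := by group
          _ = s * h := by rw [h1]
      exact h2.symm
    rw [hC, mem_bot] at hmem
    exact hmem
  let κ : Equiv.Perm (Fin 5) ≃* MulAut (alternatingGroup (Fin 5)) :=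
    MulEquiv.ofBijective _ (Cfsg.Agent.S2119.result 5 (by norm_num) (by norm_num))
  let Φ : H →* Equiv.Perm (Fin 5) :=
    κ.symm.toMonoidHom.comp ((MulAut.congr e).toMonoidHom.comp ψ)
  have hΦ : Function.Injective Φ :=
    κ.symm.injective.comp ((MulAut.congr e).injective.comp hψ)
  have hcS : Nat.card S = 60 := by
    rw [Nat.card_congr e.toEquiv]
    have := card_alt 5 (by norm_num)
    have h5 : (5 : ℕ).factorial = 120 := by decide
    omega
  have h1 : Nat.card H ∣ 120 := by
    have := Subgroup.card_dvd_of_injective Φ hΦ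
    rwa [Nat.card_perm, Nat.card_fin] at this
  have h2 : 60 ∣ Nat.card H := by
    rw [← hcS]
    exact Subgroup.card_subgroup_dvd_card S
  have h3 : Nat.card H = 60 ∨ Nat.card H = 120 := by
    obtain ⟨k, hk⟩ := h2
    rw [hk] at h1 ⊢
    have : k ∣ 2 := Nat.dvd_of_mul_dvd_mul_left (by norm_num : 0 < 60) h1
    have hk2 : k ≤ 2 := Nat.le_of_dvd (by norm_num) this
    have hpos : 0 < Nat.card H := Nat.card_pos
    interval_cases k <;> omega
  rcases h3 with h3 | h3
  · left
    have hST : S = ⊤ := by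
      apply Subgroup.eq_top_of_card_eq
      rw [hcS, h3]
    exact ⟨(Subgroup.topEquiv.symm.trans (MulEquiv.subgroupCongr hST.symm)).trans e⟩
  · right
    have hbij : Function.Bijective Φ := by
      rw [Nat.bijective_iff_injective_and_card]
      refine ⟨hΦ, ?_⟩
      rw [h3, Nat.card_perm, Nat.card_fin]
      decide
    exact ⟨MulEquiv.ofBijective Φ hbij⟩

end Cfsg.Agent.Lib.Helper20.A8Sub
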