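import Mathlib
import Cfsg.Agent.Lib.Helper20.A8SubA
import Cfsg.Agent.Lib.Helper20.A8SubH

/-!
Recognizing symmetric and alternating groups from a faithful action and the order.
-/

set_option autoImplicit false

namespace Cfsg.Agent.Lib.Helper20.A8Sub

open Equiv Equiv.Perm Subgroup

universe u

section

variable {H : Type u} [Group H] [Finite H] {Ω : Type*} [Fintype Ω] [DecidableEq Ω]
  (ρ : H →* Perm Ω) (hρ : Function.Injective ρ) (n : ℕ) (hn : Fintype.card Ω = n)

include hρ hn in
/-- A group of order `n!` acting faithfully on `n` points is `Sₙ`. -/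
theorem nonempty_iso_perm (hc : Nat.card H = n.factorial) : Nonempty (H ≃* Perm (Fin n)) := by
  have hbij : Function.Bijective ρ := by
    rw [Nat.bijective_iff_injective_and_card]
    refine ⟨hρ, ?_⟩
    rw [hc, Nat.card_perm, Nat.card_eq_fintype_card, hn]
  exact ⟨(MulEquiv.ofBijective ρ hbij).trans (Fintype.equivFinOfCardEq hn).permCongrHom⟩

include hρ hn in
/-- A group of order `n!/2` acting faithfully by even permutations on `n` points is `Aₙ`. -/
theorem nonempty_iso_alt (hn2 : 2 ≤ n) (hc : 2 * Nat.card H = n.factorial)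
    (hs : ∀ h, Perm.sign (ρ h) = 1) : Nonempty (H ≃* alternatingGroup (Fin n)) := by
  let ψ : H →* alternatingGroup Ω :=
    ρ.codRestrict (alternatingGroup Ω) (fun h => Perm.mem_alternatingGroup.2 (hs h))
  have hψ : Function.Injective ψ := by
    intro a b hab
    apply hρ
    exact congrArg Subtype.val hab
  haveI : Nontrivial Ω := by
    rw [← Fintype.one_lt_card_iff_nontrivial, hn]
    omega
  have hbij : Function.Bijective ψ := by
    rw [Nat.bijective_iff_injective_and_card]
    refine ⟨hψ, ?_⟩
    have h3 := two_mul_nat_card_alternatingGroup (α := Ω)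
    rw [Nat.card_perm] at h3
    have h4 : Nat.card Ω = n := by rw [Nat.card_eq_fintype_card, hn]
    rw [h4] at h3
    omega
  exact ⟨(MulEquiv.ofBijective ψ hbij).trans (Equiv.altCongrHom (Fintype.equivFinOfCardEq hn))⟩

end

/-- The sign character is trivial on a non-solvable simple group. -/
theorem sign_eq_one_of_simple {S : Type*} [Group S] [IsSimpleGroup S] (hns : ¬ Group.IsSolvable S)
    {Ω : Type*} [Fintype Ω] [DecidableEq Ω] (σ : S →* Perm Ω) (s : S) : Perm.sign (σ s) = 1 := by
  let τ : S →* ℤˣ := Perm.sign.comp σ
  rcases τ.normal_ker.eq_bot_or_eq_top with h | h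
  · exfalso
    apply hns
    have hinj : Function.Injective τ := (MonoidHom.ker_eq_bot_iff τ).1 h
    have hcomm : ∀ a b : S, a * b = b * a := by
      intro a b
      apply hinj
      rw [map_mul, map_mul, mul_comm]
    letI : CommGroup S := { (inferInstance : Group S) with mul_comm := hcomm }
    infer_instance
  · have : s ∈ τ.ker := by rw [h]; trivial
    exact this

end Cfsg.Agent.Lib.Helper20.A8Sub
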