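import Mathlib
import Cfsg.Agent.Lib.Helper20.A8SubB
import Cfsg.Agent.Lib.Helper20.A8SubD

/-!
In a group of even permutations of `8` points without solvable normal subgroups, a minimal normal
subgroup is simple, non-solvable, and has trivial centralizer.
-/

set_option autoImplicit false

namespace Cfsg.Agent.Lib.Helper20.A8Sub

open Equiv Equiv.Perm Subgroup

universe u

/-- A non-solvable group of order dividing `20160` has order divisible by `5` or `7`. -/
theorem five_or_seven_dvd {G : Type u} [Group G] [Finite G] (hns : ¬ Group.IsSolvable G)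
    (hd : Nat.card G ∣ 20160) : 5 ∣ Nat.card G ∨ 7 ∣ Nat.card G := by
  by_contra hno
  push Not at hno
  apply hns
  apply isSolvable_of_card_dvd_pq 2 3 6 2 Nat.prime_two Nat.prime_three
  have h5 : Nat.Coprime (Nat.card G) 5 :=
    (Nat.Coprime.symm ((Nat.Prime.coprime_iff_not_dvd (by norm_num)).2 hno.1))
  have h7 : Nat.Coprime (Nat.card G) 7 :=
    (Nat.Coprime.symm ((Nat.Prime.coprime_iff_not_dvd (by norm_num)).2 hno.2))
  have h1 : Nat.card G ∣ 5 * (7 * (2 ^ 6 * 3 ^ 2)) := by
    norm_num
    exact hd
  exact h7.dvd_of_dvd_mul_left (h5.dvd_of_dvd_mul_left h1)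

theorem relIndex_mul_card_le {X : Type*} [Group X] {A B : Subgroup X} (hAB : A ≤ B) :
    A.relIndex B * Nat.card A = Nat.card B := by
  have h2 : Nat.card (A.subgroupOf B) * (A.subgroupOf B).index = Nat.card B :=
    Subgroup.card_mul_index _
  have h6 : Nat.card (A.subgroupOf B) = Nat.card A :=
    Nat.card_congr (Subgroup.subgroupOfEquivOfLe hAB).toEquiv
  rw [h6, mul_comm] at h2
  exact h2

section

variable {H : Type u} [Group H] [Finite H] (φ : H →* Perm (Fin 8)) (hφ : Function.Injective φ)
  (heven : ∀ h, Perm.sign (φ h) = 1)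
  (hsol : ∀ N : Subgroup H, N.Normal → Group.IsSolvable N → N = ⊥)

include hφ heven hsol in
/-- The centralizer of a non-solvable normal subgroup is trivial. -/
theorem centralizer_eq_bot_of_normal (S : Subgroup H) [hS : S.Normal]
    (hns : ¬ Group.IsSolvable S) : centralizer (S : Set H) = ⊥ := by
  by_contra hC1
  have hcard : Nat.card H ∣ 20160 := card_dvd_20160 φ hφ heven
  obtain ⟨N, hN, hN1, hNC, hNmin⟩ :=
    exists_min_normal_le (centralizer (S : Set H)) inferInstance hC1
  have hNns : ¬ Group.IsSolvable N := fun h => hN1 (hsol N hN h)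
  -- `S ⊓ N` is abelian, hence trivial
  have hinf : S ⊓ N = ⊥ := by
    apply hsol _ (Subgroup.normal_inf_normal S N)
    have hcomm : ∀ a b : (S ⊓ N : Subgroup H), a * b = b * a := by
      intro a b
      apply Subtype.ext
      have ha : (a : H) ∈ S := a.2.1
      have hb : (b : H) ∈ centralizer (S : Set H) := hNC b.2.2
      exact (Subgroup.mem_centralizer_iff.1 hb (a : H) ha)
    letI : CommGroup (S ⊓ N : Subgroup H) := { (inferInstance : Group _) with mul_comm := hcomm }
    infer_instance
  -- orders
  have hprod : Nat.card S * Nat.card N ∣ 20160 := by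
    have h1 : N.relIndex (S ⊔ N) = N.relIndex S := Subgroup.relIndex_sup_right S N
    have h2 : N.relIndex S = Nat.card S := by
      rw [← Subgroup.inf_relIndex_right, inf_comm, hinf, Subgroup.relIndex_bot_left]
    have h3 : N.relIndex (S ⊔ N) * Nat.card N = Nat.card (S ⊔ N : Subgroup H) :=
      relIndex_mul_card_le le_sup_right
    rw [h1, h2] at h3
    rw [h3]
    exact (Subgroup.card_subgroup_dvd_card _).trans hcard
  have hSd : Nat.card S ∣ 20160 := (Dvd.intro _ rfl).trans hprod
  have hNd : Nat.card N ∣ 20160 := (Dvd.intro_left _ rfl).trans hprod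
  haveI : Fact (Nat.Prime 7) := ⟨by norm_num⟩
  -- a subgroup centralizing an element of order `7` is solvable
  have key : ∀ (c : H), orderOf c = 7 → ∀ Y : Subgroup H, Y ≤ centralizer ({c} : Set H) →
      Group.IsSolvable Y := by
    intro c hc Y hY
    have h1 := Subgroup.card_dvd_of_le hY
    rw [card_centralizer_eq_seven φ hφ c hc] at h1
    exact isSolvable_of_card_dvd_pq 7 3 1 0 (by norm_num) Nat.prime_three (by simpa using h1)
  rcases five_or_seven_dvd hns hSd with h5S | h7S
  · rcases five_or_seven_dvd hNns hNd with h5N | h7N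
    · have : 5 * 5 ∣ 20160 := (Nat.mul_dvd_mul h5S h5N).trans hprod
      revert this
      decide
    · obtain ⟨c, hc⟩ := exists_prime_orderOf_dvd_card' (G := N) 7 h7N
      apply hns
      apply key (c : H) (by rw [Subgroup.orderOf_coe, hc]) S
      intro s hs
      rw [Subgroup.mem_centralizer_singleton_iff]
      have hcC : (c : H) ∈ centralizer (S : Set H) := hNC c.2
      exact (Subgroup.mem_centralizer_iff.1 hcC s hs)
  · obtain ⟨c, hc⟩ := exists_prime_orderOf_dvd_card' (G := S) 7 h7S
    apply hNns
    apply key (c : H) (by rw [Subgroup.orderOf_coe, hc]) N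
    intro n hn
    rw [Subgroup.mem_centralizer_singleton_iff]
    have hnC : n ∈ centralizer (S : Set H) := hNC hn
    exact (Subgroup.mem_centralizer_iff.1 hnC (c : H) c.2).symm

end

end Cfsg.Agent.Lib.Helper20.A8Sub
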