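import Mathlib
import Cfsg.Agent.Lib.Helper20.A8SubG
import Cfsg.Agent.Lib.Helper20.A8SubI
import Cfsg.Agent.Lib.Helper20.A8SubD
import Cfsg.Agent.S0493
import Cfsg.Agent.S0494
import Cfsg.Agent.S0678

/-!
The cases `m = 5, 6, 7` (number of points moved by the simple normal subgroup `S`).
-/

set_option autoImplicit false

namespace Cfsg.Agent.Lib.Helper20.A8Sub

open Equiv Equiv.Perm Subgroup

universe u

/-- The four possible conclusions. -/
def Concl (H : Type u) [Group H] : Prop :=
  (∃ n : ℕ, 5 ≤ n ∧ n ≤ 8 ∧ Nonempty (H ≃* alternatingGroup (Fin n))) ∨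
    Nonempty (H ≃* Equiv.Perm (Fin 5)) ∨ Nonempty (H ≃* Equiv.Perm (Fin 6)) ∨
      Nonempty (H ≃* GL (Fin 3) (ZMod 2))

theorem eq_or_eq_two_mul (a c : ℕ) (ha : 0 < a) (h1 : a ∣ c) (h2 : c ∣ 2 * a) :
    c = a ∨ c = 2 * a := by
  obtain ⟨k, rfl⟩ := h1
  have : k ∣ 2 := by
    have h3 : a * k ∣ a * 2 := by rwa [mul_comm a 2]
    exact Nat.dvd_of_mul_dvd_mul_left ha h3
  have hk2 : k ≤ 2 := Nat.le_of_dvd (by norm_num) this
  interval_cases k
  · simp at this
  · left; ring
  · right; ring

theorem not_isCyclic_of_not_solvable {S : Type*} [Group S] (hns : ¬ Group.IsSolvable S) :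
    ¬ IsCyclic S := by
  intro hc
  apply hns
  letI : CommGroup S := IsCyclic.commGroup
  infer_instance

section

variable {H : Type u} [Group H] [Finite H] (φ : H →* Perm (Fin 8)) (hφ : Function.Injective φ)
  (heven : ∀ h, Perm.sign (φ h) = 1) (S : Subgroup H) [hS : S.Normal] [hsimple : IsSimpleGroup S]
  (hns : ¬ Group.IsSolvable S) (hC : centralizer (S : Set H) = ⊥)

include hφ hns hC in
/-- Case of `5` moved points. -/
theorem case_five (hm' : Nat.card {x // Moved φ S x} = 5) :
    Concl H := by
  classical
  have hm : Fintype.card {x // Moved φ S x} = 5 := by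
    rw [← Nat.card_eq_fintype_card]
    exact hm'
  have hρ := restr_injective φ S hφ hC
  set ρ := restr φ S with hρdef
  let σ : S →* Perm {x // Moved φ S x} := ρ.comp S.subtype
  have hσ : Function.Injective σ := hρ.comp S.subtype_injective
  have hsign : ∀ s : S, Perm.sign (σ s) = 1 := fun s => sign_eq_one_of_simple hns σ s
  -- the order of `S`
  have hc5 : (5 : ℕ).factorial = 120 := by decide
  have hS60 : Nat.card S = 60 := by
    apply Cfsg.Agent.S0493.result (not_isCyclic_of_not_solvable hns)
    let σ' : S →* alternatingGroup {x // Moved φ S x} :=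
      σ.codRestrict _ (fun s => Perm.mem_alternatingGroup.2 (hsign s))
    have hσ' : Function.Injective σ' := by
      intro a b hab
      apply hσ
      exact congrArg Subtype.val hab
    have h1 := Subgroup.card_dvd_of_injective σ' hσ'
    haveI : Nontrivial {x // Moved φ S x} := by
      rw [← Fintype.one_lt_card_iff_nontrivial, hm]
      norm_num
    have h3 := two_mul_nat_card_alternatingGroup (α := {x // Moved φ S x})
    rw [Nat.card_perm, Nat.card_eq_fintype_card (α := {x // Moved φ S x}), hm, hc5] at h3
    have h4 : Nat.card (alternatingGroup {x // Moved φ S x}) = 60 := by omega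
    rw [h4] at h1
    have := Nat.le_of_dvd (by norm_num) h1
    omega
  have h1 : Nat.card H ∣ 2 * 60 := by
    have := Subgroup.card_dvd_of_injective ρ hρ
    rwa [Nat.card_perm, Nat.card_eq_fintype_card (α := {x // Moved φ S x}), hm, hc5] at this
  have h2 : 60 ∣ Nat.card H := by
    rw [← hS60]
    exact Subgroup.card_subgroup_dvd_card S
  rcases eq_or_eq_two_mul 60 _ (by norm_num) h2 h1 with h3 | h3
  · left
    have hST : S = ⊤ := by
      apply Subgroup.eq_top_of_card_eq
      rw [hS60, h3]
    refine ⟨5, le_rfl, by norm_num, ?_⟩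
    apply nonempty_iso_alt ρ hρ 5 hm (by norm_num)
    · rw [h3, hc5]
    · intro h
      have hh : h ∈ S := by rw [hST]; trivial
      exact hsign ⟨h, hh⟩
  · right; left
    apply nonempty_iso_perm ρ hρ 5 hm
    rw [h3, hc5]

include hφ hns hC in
/-- Case of `6` moved points. -/
theorem case_six (hm' : Nat.card {x // Moved φ S x} = 6) :
    Concl H := by
  classical
  have hm : Fintype.card {x // Moved φ S x} = 6 := by
    rw [← Nat.card_eq_fintype_card]
    exact hm'
  have hρ := restr_injective φ S hφ hC
  set ρ := restr φ S with hρdef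
  let σ : S →* Perm {x // Moved φ S x} := ρ.comp S.subtype
  have hσ : Function.Injective σ := hρ.comp S.subtype_injective
  have hsign : ∀ s : S, Perm.sign (σ s) = 1 := fun s => sign_eq_one_of_simple hns σ s
  have hc6 : (6 : ℕ).factorial = 720 := by decide
  let σ' : S →* alternatingGroup {x // Moved φ S x} :=
    σ.codRestrict _ (fun s => Perm.mem_alternatingGroup.2 (hsign s))
  have hσ' : Function.Injective σ' := by
    intro a b hab
    apply hσ
    exact congrArg Subtype.val hab
  haveI : Nontrivial {x // Moved φ S x} := by
    rw [← Fintype.one_lt_card_iff_nontrivial, hm]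
    norm_num
  have hA360 : Nat.card (alternatingGroup {x // Moved φ S x}) = 360 := by
    have h3 := two_mul_nat_card_alternatingGroup (α := {x // Moved φ S x})
    rw [Nat.card_perm, Nat.card_eq_fintype_card (α := {x // Moved φ S x}), hm, hc6] at h3
    omega
  by_cases hS360 : Nat.card S = 360
  · have h1 : Nat.card H ∣ 2 * 360 := by
      have := Subgroup.card_dvd_of_injective ρ hρ
      rwa [Nat.card_perm, Nat.card_eq_fintype_card (α := {x // Moved φ S x}), hm, hc6] at this
    have h2 : 360 ∣ Nat.card H := by
      rw [← hS360]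
      exact Subgroup.card_subgroup_dvd_card S
    rcases eq_or_eq_two_mul 360 _ (by norm_num) h2 h1 with h3 | h3
    · left
      have hST : S = ⊤ := by
        apply Subgroup.eq_top_of_card_eq
        rw [hS360, h3]
      refine ⟨6, by norm_num, by norm_num, ?_⟩
      apply nonempty_iso_alt ρ hρ 6 hm (by norm_num)
      · rw [h3, hc6]
      · intro h
        have hh : h ∈ S := by rw [hST]; trivial
        exact hsign ⟨h, hh⟩
    · right; right; left
      apply nonempty_iso_perm ρ hρ 6 hm
      rw [h3, hc6]
  · -- `S` is a proper subgroup of `A₆`, hence has order `60`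
    haveI : IsSimpleGroup (alternatingGroup {x // Moved φ S x}) :=
      alternatingGroup.isSimpleGroup (by rw [Nat.card_eq_fintype_card, hm]; norm_num)
    have hRc : Nat.card σ'.range = Nat.card S :=
      (Nat.card_congr (MonoidHom.ofInjective hσ').toEquiv).symm
    have hRt : σ'.range ≠ ⊤ := by
      intro ht
      apply hS360
      rw [← hRc, ht, Subgroup.card_top, hA360]
    have hfac := card_dvd_factorial_index σ'.range hRt
    rw [hA360] at hfac
    have hidx : Nat.card σ'.range * σ'.range.index = 360 := by
      rw [Subgroup.card_mul_index, hA360]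
    have h6 : 6 ≤ σ'.range.index := by
      by_contra hlt
      push Not at hlt
      have h7 : (σ'.range.index).factorial ∣ (5 : ℕ).factorial :=
        Nat.factorial_dvd_factorial (by omega)
      have := hfac.trans h7
      revert this
      decide
    have hS100 : Nat.card S ≤ 100 := by
      rw [← hRc]
      nlinarith
    have hS60 := Cfsg.Agent.S0493.result (not_isCyclic_of_not_solvable hns) hS100
    obtain ⟨e⟩ := Cfsg.Agent.S0494.result hS60
    rcases nonempty_iso_A5_or_S5 S e hC with h | h
    · left
      exact ⟨5, le_rfl, by norm_num, h⟩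
    · right; left
      exact h

include hφ heven hns hC in
/-- Case of `7` moved points. -/
theorem case_seven (hm' : Nat.card {x // Moved φ S x} = 7) :
    Concl H := by
  classical
  have hm : Fintype.card {x // Moved φ S x} = 7 := by
    rw [← Nat.card_eq_fintype_card]
    exact hm'
  have hρ := restr_injective φ S hφ hC
  set ρ := restr φ S with hρdef
  have hc7 : (7 : ℕ).factorial = 5040 := by decide
  -- every element of `H` acts as an even permutation of the moved points
  have hnm : ∀ x y : Fin 8, ¬ Moved φ S x → ¬ Moved φ S y → x = y := by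
    intro x y hx hy
    by_contra hxy
    have h1 : (Finset.univ.filter (fun z : Fin 8 => Moved φ S z)).card = 7 := by
      rw [← Fintype.card_subtype, ← hm]
    have h2 := Finset.card_filter_add_card_filter_not (s := (Finset.univ : Finset (Fin 8)))
      (fun z : Fin 8 => Moved φ S z)
    rw [h1, Finset.card_univ, Fintype.card_fin] at h2
    have h3 : ({x, y} : Finset (Fin 8)) ⊆ Finset.univ.filter (fun z : Fin 8 => ¬ Moved φ S z) := by
      intro z hz
      rw [Finset.mem_insert, Finset.mem_singleton] at hz
      rw [Finset.mem_filter]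
      rcases hz with rfl | rfl
      · exact ⟨Finset.mem_univ _, hx⟩
      · exact ⟨Finset.mem_univ _, hy⟩
    have h4 := Finset.card_le_card h3
    rw [Finset.card_pair hxy] at h4
    omega
  have hsign : ∀ h : H, Perm.sign (ρ h) = 1 := by
    intro h
    have h1 : Perm.sign (ρ h) = Perm.sign (φ h) := by
      apply Perm.sign_subtypePerm (φ h) (fun x => moved_smul φ S h x)
      intro x hx
      by_contra hmx
      apply hx
      have hmy : ¬ Moved φ S (φ h x) := fun hy => hmx ((moved_smul φ S h x).1 hy)
      exact hnm _ _ hmy hmx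
    rw [h1, heven]
  -- the image
  set G : Subgroup (Perm {x // Moved φ S x}) := ρ.range with hG
  haveI : MulAction.IsPretransitive G {x // Moved φ S x} := by
    constructor
    intro x y
    obtain ⟨s, _, hsx⟩ := restr_transitive φ S hns x y
    exact ⟨⟨ρ s, ⟨s, rfl⟩⟩, hsx⟩
  have hGns : ¬ Group.IsSolvable G := by
    intro hGs
    apply hns
    let τ : S →* G := (ρ.rangeRestrict).comp S.subtype
    have hτ : Function.Injective τ := by
      intro a b hab
      apply S.subtype_injective
      apply hρ
      exact congrArg Subtype.val hab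
    exact Group.isSolvable_of_isSolvable_injective hτ
  have hGc : Nat.card G = Nat.card H := (Nat.card_congr (MonoidHom.ofInjective hρ).toEquiv).symm
  by_cases hA : alternatingGroup {x // Moved φ S x} ≤ G
  · left
    refine ⟨7, by norm_num, by norm_num, ?_⟩
    apply nonempty_iso_alt ρ hρ 7 hm (by norm_num) ?_ hsign
    have hGA : G = alternatingGroup {x // Moved φ S x} := by
      apply le_antisymm _ hA
      rintro _ ⟨h, rfl⟩
      exact Perm.mem_alternatingGroup.2 (hsign h)
    haveI : Nontrivial {x // Moved φ S x} := by
      rw [← Fintype.one_lt_card_iff_nontrivial, hm]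
      norm_num
    have h3 := two_mul_nat_card_alternatingGroup (α := {x // Moved φ S x})
    rw [Nat.card_perm, Nat.card_eq_fintype_card (α := {x // Moved φ S x}), hm] at h3
    rw [← hGc, hGA]
    exact h3
  · right; right; right
    obtain ⟨h168, hGsimple⟩ := Cfsg.Agent.S0678.result hm G hGns hA
    have e : H ≃* G := MonoidHom.ofInjective hρ
    haveI : Nontrivial H := e.toEquiv.nontrivial
    haveI : IsSimpleGroup H :=
      IsSimpleGroup.isSimpleGroup_of_surjective e.symm.toMonoidHom e.symm.surjective
    exact nonempty_iso_GL3 (by rw [← hGc, h168])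

end

end Cfsg.Agent.Lib.Helper20.A8Sub
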