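import Mathlib
import Cfsg.Agent.Lib.Helper20.A8SubE
import Cfsg.Agent.Lib.Helper20.A8SubJ
import Cfsg.Agent.Lib.Helper20.A8SubK

/-!
The case `m = 8`: the simple normal subgroup `S` is transitive on the `8` points.
-/

set_option autoImplicit false

namespace Cfsg.Agent.Lib.Helper20.A8Sub

open Equiv Equiv.Perm Subgroup

universe u

section

variable {H : Type u} [Group H] [Finite H] (φ : H →* Perm (Fin 8)) (hφ : Function.Injective φ)
  (heven : ∀ h, Perm.sign (φ h) = 1) (S : Subgroup H) [hS : S.Normal] [hsimple : IsSimpleGroup S]
  (hns : ¬ Group.IsSolvable S)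

include hφ heven hns in
/-- Case of `8` moved points. -/
theorem case_eight (hm' : Nat.card {x // Moved φ S x} = 8)
    (h1344 : ∀ K : Subgroup H, Nat.card K = 1344 → ¬ IsSimpleGroup K) : Concl H := by
  classical
  have hc8 : (8 : ℕ).factorial = 40320 := by decide
  -- all points are moved
  have hall : ∀ x, Moved φ S x := by
    intro x
    by_contra hx
    have h1 := Fintype.card_subtype_lt (p := Moved φ S) hx
    rw [← Nat.card_eq_fintype_card, hm', Fintype.card_fin] at h1
    omega
  -- the image of `S`
  set G : Subgroup (Perm (Fin 8)) := S.map φ with hGdef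
  let eG : S ≃* G := S.equivMapOfInjective φ hφ
  haveI : Nontrivial S := hsimple.toNontrivial
  haveI : Nontrivial G := eG.symm.toEquiv.nontrivial
  haveI : IsSimpleGroup G :=
    IsSimpleGroup.isSimpleGroup_of_surjective eG.toMonoidHom eG.surjective
  have hGns : ¬ Group.IsSolvable G := by
    intro h
    apply hns
    exact Group.isSolvable_of_isSolvable_injective (f := eG.toMonoidHom) eG.injective
  haveI : MulAction.IsPretransitive G (Fin 8) := by
    constructor
    intro x y
    obtain ⟨s, hs, hsx⟩ := moved_transitive φ S hns x y (hall x) (hall y)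
    exact ⟨⟨φ s, s, hs, rfl⟩, hsx⟩
  have hGc : Nat.card G = Nat.card S := (Nat.card_congr eG.toEquiv).symm
  -- the restriction of `φ` to `S`
  let φS : S →* Perm (Fin 8) := φ.comp S.subtype
  have hφS : Function.Injective φS := hφ.comp S.subtype_injective
  have hevenS : ∀ s : S, Perm.sign (φS s) = 1 := fun s => heven s
  have hSd : Nat.card S ∣ 20160 := card_dvd_20160 φS hφS hevenS
  have hHd : Nat.card H ∣ 20160 := card_dvd_20160 φ hφ heven
  -- Jordan
  have h1680 : 5 ∣ Nat.card S → 1680 ∣ Nat.card S := by
    intro h5
    haveI : Fact (Nat.Prime 5) := ⟨by norm_num⟩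
    obtain ⟨c, hc⟩ := exists_prime_orderOf_dvd_card' (G := S) 5 h5
    have h1 := dvd_card_of_five G hGns (φ c) ⟨c, c.2, rfl⟩
      (by rw [orderOf_injective φ hφ, Subgroup.orderOf_coe, hc])
    rwa [hGc] at h1
  have h7 : 7 ∣ Nat.card S := by
    by_contra h7
    have h5 : 5 ∣ Nat.card S := by
      rcases five_or_seven_dvd hns hSd with h | h
      · exact h
      · exact absurd h h7
    exact h7 ((by norm_num : 7 ∣ 1680).trans (h1680 h5))
  obtain ⟨n, hn, hn7, c, hc, hNc⟩ := card_eq_of_seven_dvd φS hφS hevenS hns h7
  have h8 : 8 ∣ Nat.card S := by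
    rw [← hGc]
    have h1 := MulAction.index_stabilizer_of_transitive G (0 : Fin 8)
    rw [Nat.card_fin] at h1
    have h2 := Subgroup.index_dvd_card (MulAction.stabilizer G (0 : Fin 8))
    rwa [h1] at h2
  have hSd' := hSd
  rw [hn] at hSd' h8
  rcases card_cases n hSd' hn7 h8 with h | h | h | h
  · -- order `168`: then `S = H`
    right; right; right
    have hS168 : Nat.card S = 168 := by rw [hn, h]
    haveI : Fact (Nat.Prime 7) := ⟨by norm_num⟩
    have hc' : orderOf (c : H) = 7 := by rw [Subgroup.orderOf_coe, hc]
    -- normalizers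
    have hmap : (normalizer (zpowers c : Set S)).map S.subtype ≤
        normalizer (zpowers (c : H) : Set H) := by
      have h1 := Subgroup.le_normalizer_map (H := zpowers c) S.subtype
      have h2 : (zpowers c).map S.subtype = zpowers (c : H) := by
        rw [MonoidHom.map_zpowers]
        rfl
      rwa [h2] at h1
    have hmapc : Nat.card ((normalizer (zpowers c : Set S)).map S.subtype) = 21 := by
      rw [Subgroup.card_map_of_injective S.subtype_injective, hNc]
    have hNH : Nat.card (normalizer (zpowers (c : H) : Set H)) = 21 := by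
      rcases card_normalizer_seven φ hφ heven (c : H) hc' with h1 | h1
      · have h2 := Subgroup.card_le_of_le hmap
        rw [hmapc, h1] at h2
        omega
      · exact h1
    have hNle : normalizer (zpowers (c : H) : Set H) ≤ S := by
      have h1 : (normalizer (zpowers c : Set S)).map S.subtype =
          normalizer (zpowers (c : H) : Set H) :=
        Subgroup.eq_of_le_of_card_ge hmap (by rw [hmapc, hNH])
      rw [← h1]
      exact Subgroup.map_subtype_le _
    -- Frattini
    have hfac : (Nat.card H).factorization 7 = 1 := by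
      have h1 : Nat.card H ∣ 40320 := card_dvd_factorial φ hφ
      have h2 : ¬ 7 ^ 2 ∣ Nat.card H := by
        intro h3
        have := h3.trans h1
        revert this
        decide
      have hpos : Nat.card H ≠ 0 := Nat.card_pos.ne'
      have h7H : 7 ∣ Nat.card H := h7.trans (Subgroup.card_subgroup_dvd_card S)
      have h3 : 1 ≤ (Nat.card H).factorization 7 :=
        (Nat.Prime.dvd_iff_one_le_factorization (by norm_num) hpos).1 h7H
      have h4 : ¬ 2 ≤ (Nat.card H).factorization 7 := by
        intro h5
        exact h2 ((Nat.Prime.pow_dvd_iff_le_factorization (by norm_num) hpos).2 h5)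
      omega
    let P : Sylow 7 H := Sylow.ofCard (zpowers (c : H))
      (by rw [Nat.card_zpowers, hc', hfac, pow_one])
    have hPS : (P : Subgroup H) ≤ S := by
      show zpowers (c : H) ≤ S
      rw [Subgroup.zpowers_le]
      exact c.2
    have hfr := Sylow.normalizer_sup_eq_top' P hPS
    have hST : S = ⊤ := by
      rw [← hfr]
      symm
      apply sup_eq_right.2
      exact hNle
    have e : S ≃* H := (MulEquiv.subgroupCongr hST).trans Subgroup.topEquiv
    haveI : Nontrivial H := e.symm.toEquiv.nontrivial
    haveI : IsSimpleGroup H :=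
      IsSimpleGroup.isSimpleGroup_of_surjective e.toMonoidHom e.surjective
    exact nonempty_iso_GL3 (by rw [← Nat.card_congr e.toEquiv, hS168])
  · -- order `1344`
    exfalso
    exact h1344 S (by rw [hn, h]) hsimple
  · -- order `2520`
    exfalso
    have hS : Nat.card S = 2520 := by rw [hn, h]
    have := h1680 (by rw [hS]; norm_num)
    rw [hS] at this
    revert this
    decide
  · -- order `20160`
    left
    have hS : Nat.card S = 20160 := by rw [hn, h]
    have hH : Nat.card H = 20160 := by
      apply Nat.dvd_antisymm hHd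
      rw [← hS]
      exact Subgroup.card_subgroup_dvd_card S
    refine ⟨8, by norm_num, le_rfl, ?_⟩
    apply nonempty_iso_alt φ hφ 8 (Fintype.card_fin 8) (by norm_num) _ heven
    rw [hH, hc8]

end

end Cfsg.Agent.Lib.Helper20.A8Sub
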