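import Mathlib
import Cfsg.Agent.Lib.Helper20.A8SubL

/-!
Main theorem: groups of even permutations of `8` points without nontrivial solvable normal subgroups
(and without simple subgroups of order `1344`).
-/

set_option autoImplicit false

namespace Cfsg.Agent.Lib.Helper20.A8Sub

open Equiv Equiv.Perm Subgroup

universe u

theorem main {H : Type u} [Group H] [Finite H] [Nontrivial H] (φ : H →* Perm (Fin 8))
    (hφ : Function.Injective φ) (heven : ∀ h, Perm.sign (φ h) = 1)
    (hsol : ∀ N : Subgroup H, N.Normal → Group.IsSolvable N → N = ⊥)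
    (h1344 : ∀ K : Subgroup H, Nat.card K = 1344 → ¬ IsSimpleGroup K) : Concl H := by
  classical
  obtain ⟨S, hS, hS1, hSmin⟩ := exists_min_normal (H := H)
  have hSns : ¬ Group.IsSolvable S := fun h => hS1 (hsol S hS h)
  have hcard := card_dvd_20160 φ hφ heven
  haveI := hS
  haveI : IsSimpleGroup S := simple_of_min_normal hcard S hS hS1 hSmin hSns
  have hC := centralizer_eq_bot_of_normal φ hφ heven hsol S hSns
  have h5 := five_le_card_moved φ S hSns hφ
  have h8 : Fintype.card {x // Moved φ S x} ≤ 8 := by
    have := Fintype.card_subtype_le (Moved φ S)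
    rwa [Fintype.card_fin] at this
  have hm : Nat.card {x // Moved φ S x} = Fintype.card {x // Moved φ S x} :=
    Nat.card_eq_fintype_card
  have h5' : 5 ≤ Nat.card {x // Moved φ S x} := by rw [hm]; exact h5
  have h8' : Nat.card {x // Moved φ S x} ≤ 8 := by rw [hm]; exact h8
  interval_cases hk : Nat.card {x // Moved φ S x}
  · exact case_five φ hφ S hSns hC hk
  · exact case_six φ hφ S hSns hC hk
  · exact case_seven φ hφ heven S hSns hC hk
  · exact case_eight φ hφ heven S hSns hk h1344

end Cfsg.Agent.Lib.Helper20.A8Sub
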