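import Mathlib
import Cfsg.Agent.Lib.Helper5.APCL2
import Cfsg.Agent.Lib.Helper15.APCT

/-!
helper20: leaf AP-C1 of market "AP" (S3614, planner helper4), parametrized form `APC1Of`:
degree `2 r + 3`, `z` of order `r` with two `r`-cycles, the three fixed points `x 0, x 1, x 2`;
AP-COMM (`t = 3`) gives `c` centralizing `z` and inducing the 3-cycle `⁅swap 0 1, swap 1 2⁆` on the
fixed points; `u = c ^ (2 r)` is trivial on `supp z` (AP-CL2) and non-trivial on the fixed points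
(`3 ∤ 2 r`), so `|supp u| ≤ 3 ≤ 5` and AP-CT applies.
-/

set_option autoImplicit false

namespace Cfsg.Agent.Lib.Helper20.APC1

open Equiv MulAction

variable {Ω : Type*} [Fintype Ω] [DecidableEq Ω]

/-- the 3-cycle `⁅swap 0 1, swap 1 2⁆` of `Fin 3` -/
theorem rho_pow_ne (n : ℕ) (hn : ¬ 3 ∣ n) :
    ((swap (0 : Fin 3) 1 * swap (1 : Fin 3) 2 * (swap (0 : Fin 3) 1)⁻¹ * (swap (1 : Fin 3) 2)⁻¹) ^ n)
      0 ≠ 0 := by
  set ρ : Perm (Fin 3) :=
    swap (0 : Fin 3) 1 * swap (1 : Fin 3) 2 * (swap (0 : Fin 3) 1)⁻¹ * (swap (1 : Fin 3) 2)⁻¹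
    with hρ
  have h3 : ρ ^ 3 = 1 := by rw [hρ]; decide
  have h1 : (ρ ^ 1) 0 ≠ 0 := by rw [hρ]; decide
  have h2 : (ρ ^ 2) 0 ≠ 0 := by rw [hρ]; decide
  have hdiv : n = 3 * (n / 3) + n % 3 := (Nat.div_add_mod n 3).symm
  have hpow : ρ ^ n = ρ ^ (n % 3) := by
    conv_lhs => rw [hdiv, pow_add, pow_mul, h3, one_pow, one_mul]
  rw [hpow]
  have hlt : n % 3 < 3 := Nat.mod_lt _ (by norm_num)
  have hne : n % 3 ≠ 0 := fun h => hn (Nat.dvd_of_mod_eq_zero h)
  interval_cases h : n % 3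
  · exact absurd rfl hne
  · exact h1
  · exact h2

/-- **AP-C1**, with AP-COMM (`t = 3`, for this `H` and `z`) as a hypothesis. -/
theorem APC1Of (H : Subgroup (Perm Ω)) (h5 : IsMultiplyPretransitive ↥H Ω 5)
    (r : ℕ) (hr : r.Prime) (hr5 : 5 ≤ r) (hΩ : Fintype.card Ω = 2 * r + 3)
    {z : Perm Ω} (hzr : orderOf z = r) (hk : z.support.card = 2 * r)
    (hCOMM : ∀ x : Fin 3 ↪ Ω, (∀ i, z (x i) = x i) → ∀ σ τ : Perm (Fin 3),
      ∃ c ∈ H, Commute c z ∧ Perm.sign c = 1 ∧ ∀ i, c (x i) = x ((σ * τ * σ⁻¹ * τ⁻¹) i)) :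
    alternatingGroup Ω ≤ H := by
  classical
  have hF : (z.supportᶜ).card = 3 := by
    rw [Finset.card_compl, hΩ, hk]; omega
  let e := (Finset.equivFinOfCardEq hF).symm
  let x : Fin 3 ↪ Ω := e.toEmbedding.trans (Function.Embedding.subtype _)
  have hx : ∀ i, z (x i) = x i := by
    intro i
    have : x i ∈ z.supportᶜ := (e i).2
    rwa [Finset.mem_compl, Perm.notMem_support] at this
  obtain ⟨c, hcH, hcz, -, hcx⟩ := hCOMM x hx (swap 0 1) (swap 1 2)
  have hpow : ∀ n : ℕ, ∀ i, (c ^ n) (x i) =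
      x (((swap (0 : Fin 3) 1 * swap (1 : Fin 3) 2 * (swap (0 : Fin 3) 1)⁻¹ *
        (swap (1 : Fin 3) 2)⁻¹) ^ n) i) := by
    generalize swap (0 : Fin 3) 1 * swap (1 : Fin 3) 2 * (swap (0 : Fin 3) 1)⁻¹ *
        (swap (1 : Fin 3) 2)⁻¹ = ρ at hcx ⊢
    intro n
    induction n with
    | zero => intro i; simp
    | succ n ih =>
      intro i
      rw [pow_succ, Perm.mul_apply, hcx, ih, pow_succ, Perm.mul_apply]
  have h3 : ¬ 3 ∣ 2 * r := by
    intro h
    have h3r : 3 ∣ r := (Nat.Coprime.dvd_of_dvd_mul_left (by norm_num) h)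
    have := (Nat.prime_dvd_prime_iff_eq Nat.prime_three hr).1 h3r
    omega
  have hu1 : c ^ (2 * r) ≠ 1 := by
    intro h
    have h0 := hpow (2 * r) 0
    rw [h, Perm.one_apply] at h0
    exact rho_pow_ne (2 * r) h3 (x.injective h0).symm
  have hsub : (c ^ (2 * r)).support ⊆ z.supportᶜ := by
    intro y hy
    rw [Finset.mem_compl]
    intro hyz
    rw [Perm.mem_support] at hy
    exact hy (Cfsg.Agent.Lib.Helper5.APCL2.APCL2 r hr hzr hk hcz y hyz)
  have hcard : (c ^ (2 * r)).support.card ≤ 5 := by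
    have := Finset.card_le_card hsub
    omega
  exact Cfsg.Agent.Lib.Helper15.APCT.APCT H 5 h5 (by omega) (H.pow_mem hcH _) hu1 hcard

end Cfsg.Agent.Lib.Helper20.APC1
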