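import Mathlib
import Cfsg.Prelude.Def_Solvable
import Cfsg.Prelude.Def_Local
import Cfsg.Prelude.Def_Transfer
import Cfsg.Prelude.Def_PLocal
import Cfsg.Agent.Lib.Helper26.AUTQDefs
import Cfsg.Agent.Lib.Helper4.ElemAb
import Cfsg.Agent.Lib.Helper4.ThompsonFact1
import Cfsg.Agent.Lib.Helper27.Thompson
import Cfsg.Agent.Lib.Helper1.Fitting
import Cfsg.Agent.Lib.Helper24.PSolvable
import Cfsg.Agent.Lib.Helper12.Cores

/-!
# S4411-B2 (helper26's market): `b2`, in the `_of` form over the Thompson factorization (leaf B1)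
-/

set_option autoImplicit false

namespace Cfsg.Agent.Lib.Helper20.AUTQB2

open Cfsg Cfsg.Agent.Lib.Helper26.AUTQ

universe u

/-- an element of order dividing `p` of `Z(R)` lies in `J(R)` -/
theorem mem_thompson_of_central {X : Type u} [Group X] [Finite X] (p : ℕ) (R : Subgroup X) (x : X)
    (hxR : x ∈ R) (hxC : x ∈ Subgroup.centralizer (R : Set X)) (hxp : x ^ p = 1) :
    x ∈ Cfsg.thompsonSubgroupOf p R := by
  rw [Cfsg.Agent.Lib.Helper27.thompsonSubgroupOf_eq]
  obtain ⟨A, hAR, hA, hmax⟩ := Cfsg.Agent.Lib.Helper27.maxEAIn_nonempty p R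
  have hcomm : ∀ a ∈ Subgroup.zpowers x, ∀ b ∈ A, a * b = b * a := by
    intro a ha b hb
    obtain ⟨k, rfl⟩ := Subgroup.mem_zpowers_iff.mp ha
    have h1 : b * x = x * b := Subgroup.mem_centralizer_iff.mp hxC b (hAR hb)
    exact ((Commute.zpow_right h1 k).eq).symm
  have hsup : Cfsg.IsElementaryAbelian p (Subgroup.zpowers x ⊔ A) :=
    Cfsg.Agent.Lib.Helper4.elemAb_sup (Cfsg.Agent.Lib.Helper4.elemAb_zpowers hxp) hA hcomm
  have hsupR : Subgroup.zpowers x ⊔ A ≤ R := sup_le (Subgroup.zpowers_le.mpr hxR) hAR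
  have hcard := hmax _ hsupR hsup
  have heq : A = Subgroup.zpowers x ⊔ A := Subgroup.eq_of_le_of_card_ge le_sup_right hcard
  have hxA : x ∈ A := by
    rw [heq]; exact (le_sup_left : Subgroup.zpowers x ≤ _) (Subgroup.mem_zpowers x)
  exact (le_sSup (show A ∈ Cfsg.Agent.Lib.Helper27.maxEAIn p R from ⟨hAR, hA, hmax⟩)) hxA

/-- a subgroup of a `{p,q}`-group containing a Sylow `p`-subgroup and all `q`-elements is everything -/
theorem eq_top_of_pq {N : Type u} [Group N] [Finite N] (p q : ℕ) [Fact p.Prime] [Fact q.Prime]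
    (a b : ℕ) (hdvd : Nat.card N ∣ p ^ a * q ^ b) (K : Subgroup N) (P : Sylow p N) (hP : (P : Subgroup N) ≤ K)
    (hQ : ∀ y : N, QElt q y → y ∈ K) : K = ⊤ := by
  have hp : p.Prime := Fact.out
  have hq : q.Prime := Fact.out
  apply Cfsg.Agent.Lib.Helper1.eq_top_of_forall_sylow_le
  intro r hr
  by_cases hrp : r = p
  · subst hrp
    exact ⟨P, hP⟩
  by_cases hrq : r = q
  · subst hrq
    obtain ⟨Q⟩ : Nonempty (Sylow r N) := inferInstance
    refine ⟨Q, fun y hy => hQ y ?_⟩
    obtain ⟨k, hk⟩ := (IsPGroup.iff_orderOf.mp Q.isPGroup') ⟨y, hy⟩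
    rw [Subgroup.orderOf_mk] at hk
    exact ⟨k, hk⟩
  · obtain ⟨Q⟩ : Nonempty (Sylow r N) := inferInstance
    refine ⟨Q, ?_⟩
    have hQbot : (Q : Subgroup N) = ⊥ := by
      rw [← Subgroup.card_eq_one]
      obtain ⟨k, hk⟩ := IsPGroup.iff_card.mp Q.isPGroup'
      rcases k with _ | k
      · rw [hk, pow_zero]
      · exfalso
        have h1 : r ∣ Nat.card (Q : Subgroup N) := by rw [hk, pow_succ]; exact dvd_mul_left r _
        have h2 : r ∣ p ^ a * q ^ b := h1.trans ((Subgroup.card_subgroup_dvd_card _).trans hdvd)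
        rcases (Nat.Prime.dvd_mul hr.out).mp h2 with h3 | h3
        · exact hrp ((Nat.prime_dvd_prime_iff_eq hr.out hp).mp (hr.out.dvd_of_dvd_pow h3))
        · exact hrq ((Nat.prime_dvd_prime_iff_eq hr.out hq).mp (hr.out.dvd_of_dvd_pow h3))
    rw [hQbot]; exact bot_le

/-- (B2), over the Thompson factorization. -/
theorem b2_of {X : Type u} [Group X] [Finite X] (p q : ℕ) [Fact p.Prime] [Fact q.Prime]
    (hTF : Cfsg.IsThompsonFactorizable p X) (a b : ℕ) (hcard : Nat.card X = p ^ a * q ^ b)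
    (R : Sylow p X) (H : Subgroup X) [H.Normal] (hH : IsPGroup p H)
    (hCR : (R : Subgroup X) ⊓ Subgroup.centralizer (H : Set X) ≤ H)
    (hJ : ∀ y ∈ Subgroup.normalizer (Cfsg.thompsonSubgroupOf p (R : Subgroup X) : Set X), QElt q y →
      y ∈ Subgroup.centralizer (Cfsg.thompsonSubgroupOf p (R : Subgroup X) : Set X)) :
    Cfsg.omegaOne p ((R : Subgroup X) ⊓ Subgroup.centralizer ((R : Subgroup X) : Set X)) ≤ Subgroup.center X := by
  classical
  have hp : p.Prime := Fact.out
  have hHR : H ≤ (R : Subgroup X) := Cfsg.Agent.Lib.Helper24.normal_pgroup_le_sylow H hH R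
  unfold Cfsg.omegaOne
  rw [Subgroup.closure_le]
  rintro x ⟨hxZ, hxp⟩
  obtain ⟨hxR, hxC⟩ := Subgroup.mem_inf.mp hxZ
  rw [SetLike.mem_coe, Subgroup.mem_center_iff]
  -- `x ∈ H`
  have hxH : x ∈ H := by
    apply hCR
    refine Subgroup.mem_inf.mpr ⟨hxR, ?_⟩
    exact Subgroup.centralizer_le hHR hxC
  -- `x ∈ J(R)`
  set J := Cfsg.thompsonSubgroupOf p (R : Subgroup X) with hJdef
  have hxJ : x ∈ J := mem_thompson_of_central p (R : Subgroup X) x hxR hxC hxp
  -- `O_{p'}(X)` centralizes `x`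
  have hK : ∀ y ∈ Cfsg.pPrimeCore p X, y * x = x * y := by
    have hKn : (Cfsg.pPrimeCore p X).Normal := Cfsg.Agent.Lib.Helper24.pPrimeCore_normal' p
    have hdisj : Disjoint (Cfsg.pPrimeCore p X) H := by
      apply Subgroup.disjoint_of_coprime_natCard
      obtain ⟨k, hk⟩ := IsPGroup.iff_card.mp hH
      rw [hk]
      exact Nat.Coprime.pow_right k (Cfsg.Agent.Lib.Helper12.pPrimeCore_coprime p)
    have hnorm : Cfsg.pPrimeCore p X ≤ Subgroup.normalizer (H : Set X) := by
      rw [Subgroup.normalizer_eq_top]; exact le_top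
    intro y hy
    exact Cfsg.Agent.Lib.Helper24.commute_of_normal_of_normalizes _ H hnorm hdisj y hy x hxH
  -- `N_X(J(R))` centralizes `x`
  set N := Subgroup.normalizer (J : Set X) with hN
  have hRN : (R : Subgroup X) ≤ N :=
    Subgroup.le_normalizer.trans (Cfsg.Agent.Lib.Helper4.normalizer_le_normalizer_thompson _)
  have hNx : ∀ n ∈ N, n * x = x * n := by
    have htop : (Subgroup.centralizer ({x} : Set X)).subgroupOf N = ⊤ := by
      apply eq_top_of_pq p q a b _ _ (R.subtype hRN)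
      · intro y hy
        rw [Sylow.coe_subtype, Subgroup.mem_subgroupOf] at hy
        rw [Subgroup.mem_subgroupOf, Subgroup.mem_centralizer_singleton_iff]
        exact Subgroup.mem_centralizer_iff.mp hxC _ hy
      · intro y hy
        rw [Subgroup.mem_subgroupOf, Subgroup.mem_centralizer_singleton_iff]
        have h1 : QElt q (y : X) := (qElt_coe_iff y).mpr hy
        have h2 := hJ (y : X) y.2 h1
        exact (Subgroup.mem_centralizer_iff.mp h2 x hxJ).symm
      · rw [← hcard]; exact Subgroup.card_subgroup_dvd_card N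
    intro n hn
    have : (⟨n, hn⟩ : N) ∈ (Subgroup.centralizer ({x} : Set X)).subgroupOf N := by
      rw [htop]; exact Subgroup.mem_top _
    rw [Subgroup.mem_subgroupOf, Subgroup.mem_centralizer_singleton_iff] at this
    exact this
  intro g
  obtain ⟨y, hy, c, hc, n, hn, rfl⟩ := hTF R g
  have h1 := hK y hy
  have h2 : c * x = x * c := by
    have hxO : x ∈ Cfsg.omegaOne p ((R : Subgroup X) ⊓ Subgroup.centralizer ((R : Subgroup X) : Set X)) :=
      Subgroup.subset_closure ⟨hxZ, hxp⟩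
    exact (Subgroup.mem_centralizer_iff.mp hc x hxO).symm
  have h3 := hNx n hn
  calc y * c * n * x = y * c * (n * x) := by group
    _ = y * c * (x * n) := by rw [h3]
    _ = y * (c * x) * n := by group
    _ = y * (x * c) * n := by rw [h2]
    _ = (y * x) * c * n := by group
    _ = (x * y) * c * n := by rw [h1]
    _ = x * (y * c * n) := by group

end Cfsg.Agent.Lib.Helper20.AUTQB2
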