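import Mathlib
import Cfsg.Prelude.Def_Solvable
import Cfsg.Prelude.Def_Local
import Cfsg.Prelude.Def_Transfer
import Cfsg.Prelude.Def_PLocal
import Cfsg.Agent.Lib.Helper26.AUTQDefs
import Cfsg.Agent.Lib.Helper20.AUTQB2
import Cfsg.Agent.Lib.Helper9.AUTQB1

/-!
# S4411-B2 (helper26's market): `b2`, exact form (= `AUTQB2.b2_of` + helper9's `AUTQB1.b1`)
-/

set_option autoImplicit false

namespace Cfsg.Agent.Lib.Helper20.AUTQB2X

open Cfsg Cfsg.Agent.Lib.Helper26.AUTQ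

universe u

/-- **S4411-B2** -/
theorem b2 {X : Type u} [Group X] [Finite X] (p q : ℕ) [Fact p.Prime] [Fact q.Prime] (hpq : p ≠ q)
    (h23 : ¬ ((p = 2 ∧ q = 3) ∨ (p = 3 ∧ q = 2))) (a b : ℕ) (hcard : Nat.card X = p ^ a * q ^ b)
    (R : Sylow p X) (H : Subgroup X) [H.Normal] (hH : IsPGroup p H)
    (hCR : (R : Subgroup X) ⊓ Subgroup.centralizer (H : Set X) ≤ H)
    (hJ : ∀ y ∈ Subgroup.normalizer (Cfsg.thompsonSubgroupOf p (R : Subgroup X) : Set X), QElt q y →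
      y ∈ Subgroup.centralizer (Cfsg.thompsonSubgroupOf p (R : Subgroup X) : Set X)) :
    Cfsg.omegaOne p ((R : Subgroup X) ⊓ Subgroup.centralizer ((R : Subgroup X) : Set X)) ≤ Subgroup.center X :=
  Cfsg.Agent.Lib.Helper20.AUTQB2.b2_of p q (Cfsg.Agent.Lib.Helper9.AUTQB1.b1 p q hpq h23 a b hcard) a b hcard
    R H hH hCR hJ

end Cfsg.Agent.Lib.Helper20.AUTQB2X
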