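import Mathlib
import Cfsg.Prelude.Def_Solvable
import Cfsg.Prelude.Def_Local
import Cfsg.Prelude.Def_Transfer
import Cfsg.Prelude.Def_PLocal
import Cfsg.Agent.Lib.Helper26.AUTQDefs
import Cfsg.Agent.Lib.Helper12.AUTQB3

/-!
# S4411-BQ (helper26's market): `bq` (`bq_of` over leaf B3 + helper12's `AUTQB3.b3`)
-/

set_option autoImplicit false

namespace Cfsg.Agent.Lib.Helper20.AUTQBQ

open Cfsg Cfsg.Agent.Lib.Helper26.AUTQ

universe u

/-- `q`-elements lift along a surjection whose kernel is a `p`-group, `p ≠ q`. -/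
theorem exists_qElt_lift {X : Type u} [Group X] [Finite X] {Y : Type*} [Group Y] (p q : ℕ) [Fact p.Prime]
    [Fact q.Prime] (hpq : p ≠ q) (f : X →* Y) (hf : Function.Surjective f) (hker : IsPGroup p f.ker)
    (y' : Y) (hy' : QElt q y') : ∃ y : X, QElt q y ∧ f y = y' := by
  have hp : p.Prime := Fact.out
  have hq : q.Prime := Fact.out
  obtain ⟨k, hk⟩ := hy'
  obtain ⟨y₀, rfl⟩ := hf y'
  obtain ⟨c, hc⟩ := IsPGroup.iff_card.mp hker
  -- `y₀ ^ (q^k)` lies in the kernel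
  have h1 : y₀ ^ q ^ k ∈ f.ker := by
    rw [MonoidHom.mem_ker, map_pow, ← hk, pow_orderOf_eq_one]
  have h2 : (y₀ ^ q ^ k) ^ p ^ c = 1 := by
    have := pow_card_eq_one' (G := f.ker) (x := ⟨_, h1⟩)
    rw [hc] at this
    exact congrArg Subtype.val this
  have hcop : Nat.Coprime (p ^ c) (q ^ k) :=
    Nat.Coprime.pow c k ((Nat.coprime_primes hp hq).mpr hpq)
  -- `m` with `p^c * m ≡ 1 mod q^k`
  obtain ⟨m, hm⟩ : ∃ m : ℕ, p ^ c * m ≡ 1 [MOD q ^ k] := by
    obtain ⟨m, -, hm⟩ := Nat.exists_mul_mod_eq_of_coprime 1 hcop (pow_pos hq.pos k).ne'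
    exact ⟨m, hm⟩
  refine ⟨y₀ ^ (p ^ c * m), ?_, ?_⟩
  · have h3 : (y₀ ^ (p ^ c * m)) ^ q ^ k = 1 := by
      rw [← pow_mul]
      have : p ^ c * m * q ^ k = q ^ k * p ^ c * m := by ring
      rw [this, pow_mul, pow_mul, h2, one_pow]
    obtain ⟨j, -, hj⟩ := (Nat.dvd_prime_pow hq).mp (orderOf_dvd_of_pow_eq_one h3)
    exact ⟨j, hj⟩
  · rw [map_pow]
    have hmod : p ^ c * m ≡ 1 [MOD orderOf (f y₀)] := by rw [hk]; exact hm
    have := (pow_eq_pow_iff_modEq (x := f y₀)).mpr hmod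
    rw [this, pow_one]

/-- (BQ), over (B3). -/
theorem bq_of {X : Type u} [Group X] [Finite X] (p q : ℕ) [Fact p.Prime] [Fact q.Prime] (hpq : p ≠ q)
    (R : Sylow p X) (H : Subgroup X) [H.Normal] (Z : Subgroup X) [Z.Normal]
    (hZR : Z ≤ R)
    (hB3 : ∀ T' : Subgroup (X ⧸ Z), T' ≤ (R : Subgroup X).map (QuotientGroup.mk' Z) →
      (T'.subgroupOf ((R : Subgroup X).map (QuotientGroup.mk' Z))).Characteristic →
      ((T'.comap (QuotientGroup.mk' Z)).subgroupOf (R : Subgroup X)).Characteristic)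
    (hF1 : ∀ T : Subgroup X, T ≤ R → (T.subgroupOf (R : Subgroup X)).Characteristic →
        ∀ y ∈ Subgroup.normalizer (T : Set X), QElt q y → y ∈ Subgroup.centralizer (T : Set X))
    (hF2 : ∀ T : Subgroup X, H < T → T ≤ R → (R : Subgroup X) ≤ Subgroup.normalizer (T : Set X) →
        ∀ y ∈ Subgroup.normalizer (T : Set X), QElt q y → y ∈ Subgroup.centralizer (H : Set X))
    (R' : Sylow p (X ⧸ Z)) (hR' : (R' : Subgroup (X ⧸ Z)) = (R : Subgroup X).map (QuotientGroup.mk' Z)) :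
    (∀ T' : Subgroup (X ⧸ Z), T' ≤ R' → (T'.subgroupOf (R' : Subgroup (X ⧸ Z))).Characteristic →
        ∀ y ∈ Subgroup.normalizer (T' : Set (X ⧸ Z)), QElt q y → y ∈ Subgroup.centralizer (T' : Set (X ⧸ Z))) ∧
    (∀ T' : Subgroup (X ⧸ Z), H.map (QuotientGroup.mk' Z) < T' → T' ≤ R' →
        (R' : Subgroup (X ⧸ Z)) ≤ Subgroup.normalizer (T' : Set (X ⧸ Z)) →
        ∀ y ∈ Subgroup.normalizer (T' : Set (X ⧸ Z)), QElt q y →
          y ∈ Subgroup.centralizer ((H.map (QuotientGroup.mk' Z) : Subgroup (X ⧸ Z)) : Set (X ⧸ Z))) := by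
  set π : X →* X ⧸ Z := QuotientGroup.mk' Z with hπ
  have hπsurj : Function.Surjective π := QuotientGroup.mk'_surjective Z
  have hkerZ : π.ker = Z := QuotientGroup.ker_mk' Z
  have hkerp : IsPGroup p π.ker := by
    rw [hkerZ]; exact R.isPGroup'.to_le hZR
  -- preimages
  have hcomapR : ∀ T' : Subgroup (X ⧸ Z), T' ≤ (R : Subgroup X).map π → T'.comap π ≤ (R : Subgroup X) := by
    intro T' hT'
    calc T'.comap π ≤ ((R : Subgroup X).map π).comap π := Subgroup.comap_mono hT'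
      _ = (R : Subgroup X) ⊔ π.ker := Subgroup.comap_map_eq _ _
      _ = (R : Subgroup X) := by rw [hkerZ]; exact sup_eq_left.mpr hZR
  have hmapcomap : ∀ T' : Subgroup (X ⧸ Z), (T'.comap π).map π = T' :=
    fun T' => Subgroup.map_comap_eq_self_of_surjective hπsurj T'
  have hnorm : ∀ (T' : Subgroup (X ⧸ Z)) (y : X), π y ∈ Subgroup.normalizer (T' : Set (X ⧸ Z)) →
      y ∈ Subgroup.normalizer ((T'.comap π : Subgroup X) : Set X) := by
    intro T' y hy
    exact Subgroup.le_normalizer_comap π (Subgroup.mem_comap.mpr hy)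
  have hcent : ∀ (T : Subgroup X) (y : X), y ∈ Subgroup.centralizer (T : Set X) →
      π y ∈ Subgroup.centralizer ((T.map π : Subgroup (X ⧸ Z)) : Set (X ⧸ Z)) := by
    intro T y hy
    rw [Subgroup.mem_centralizer_iff]
    rintro t' ⟨t, ht, rfl⟩
    have := Subgroup.mem_centralizer_iff.mp hy t ht
    rw [← map_mul, ← map_mul, this]
  refine ⟨?_, ?_⟩
  · intro T' hT'R hT'char y' hy'N hy'q
    obtain ⟨y, hyq, rfl⟩ := exists_qElt_lift p q hpq π hπsurj hkerp y' hy'q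
    have hT'R₀ : T' ≤ (R : Subgroup X).map π := hR' ▸ hT'R
    have hchar : ((T'.comap π).subgroupOf (R : Subgroup X)).Characteristic := by
      apply hB3 T' hT'R₀
      have : (T'.subgroupOf (R' : Subgroup (X ⧸ Z))).Characteristic := hT'char
      rw [hR'] at this
      exact this
    have h1 := hF1 (T'.comap π) (hcomapR T' hT'R₀) hchar y (hnorm T' y hy'N) hyq
    have h2 := hcent _ y h1
    rwa [hmapcomap] at h2
  · intro T' hHT' hT'R hR'N y' hy'N hy'q
    obtain ⟨y, hyq, rfl⟩ := exists_qElt_lift p q hpq π hπsurj hkerp y' hy'q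
    have hT'R₀ : T' ≤ (R : Subgroup X).map π := hR' ▸ hT'R
    have hHT : H < T'.comap π := by
      refine lt_of_le_of_ne ?_ ?_
      · intro h hh
        exact Subgroup.mem_comap.mpr (hHT'.le (Subgroup.mem_map_of_mem π hh))
      · intro heq
        have : T' ≤ H.map π := by
          rw [← hmapcomap T', ← heq]
        exact absurd hHT' (not_lt_of_ge this)
    have hRN : (R : Subgroup X) ≤ Subgroup.normalizer ((T'.comap π : Subgroup X) : Set X) := by
      intro r hr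
      apply hnorm T' r
      apply hR'N
      rw [hR']
      exact Subgroup.mem_map_of_mem π hr
    have h1 := hF2 (T'.comap π) hHT (hcomapR T' hT'R₀) hRN y (hnorm T' y hy'N) hyq
    exact hcent H y h1

/-- **S4411-BQ** -/
theorem bq {X : Type u} [Group X] [Finite X] (p q : ℕ) [Fact p.Prime] [Fact q.Prime] (hpq : p ≠ q)
    (R : Sylow p X) (H : Subgroup X) [H.Normal] (Z : Subgroup X) [Z.Normal]
    (hZc : Z ≤ Subgroup.center X) (hZH : Z ≤ H) (hZR : Z ≤ R)
    (hZchar : (Z.subgroupOf (R : Subgroup X)).Characteristic)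
    (hF1 : ∀ T : Subgroup X, T ≤ R → (T.subgroupOf (R : Subgroup X)).Characteristic →
        ∀ y ∈ Subgroup.normalizer (T : Set X), QElt q y → y ∈ Subgroup.centralizer (T : Set X))
    (hF2 : ∀ T : Subgroup X, H < T → T ≤ R → (R : Subgroup X) ≤ Subgroup.normalizer (T : Set X) →
        ∀ y ∈ Subgroup.normalizer (T : Set X), QElt q y → y ∈ Subgroup.centralizer (H : Set X))
    (R' : Sylow p (X ⧸ Z)) (hR' : (R' : Subgroup (X ⧸ Z)) = (R : Subgroup X).map (QuotientGroup.mk' Z)) :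
    (∀ T' : Subgroup (X ⧸ Z), T' ≤ R' → (T'.subgroupOf (R' : Subgroup (X ⧸ Z))).Characteristic →
        ∀ y ∈ Subgroup.normalizer (T' : Set (X ⧸ Z)), QElt q y → y ∈ Subgroup.centralizer (T' : Set (X ⧸ Z))) ∧
    (∀ T' : Subgroup (X ⧸ Z), H.map (QuotientGroup.mk' Z) < T' → T' ≤ R' →
        (R' : Subgroup (X ⧸ Z)) ≤ Subgroup.normalizer (T' : Set (X ⧸ Z)) →
        ∀ y ∈ Subgroup.normalizer (T' : Set (X ⧸ Z)), QElt q y →
          y ∈ Subgroup.centralizer ((H.map (QuotientGroup.mk' Z) : Subgroup (X ⧸ Z)) : Set (X ⧸ Z))) :=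
  bq_of p q hpq R H Z hZR
    (fun T' h1 h2 => Cfsg.Agent.Lib.Helper12.AUTQB3.b3 (R : Subgroup X) Z hZR hZchar T' h1 h2)
    hF1 hF2 R' hR'

end Cfsg.Agent.Lib.Helper20.AUTQBQ
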