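import Mathlib
import Cfsg.Prelude.Def_Solvable
import Cfsg.Prelude.Def_Local
import Cfsg.Prelude.Def_Transfer
import Cfsg.Prelude.Def_PLocal
import Cfsg.Agent.Lib.Helper26.AUTQDefs
import Cfsg.Agent.Lib.Helper16.YL2

/-!
# S4411-CM1 (helper26's market): `cm1`
-/

set_option autoImplicit false

namespace Cfsg.Agent.Lib.Helper20.AUTQCM1

open Cfsg Cfsg.Agent.Lib.Helper26.AUTQ

universe u

/-- the `q`-part of a preimage of a `q`-element is again a preimage -/
theorem exists_pow_qElt {X : Type u} [Group X] [Finite X] {Y : Type*} [Group Y] (q : ℕ) [Fact q.Prime]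
    (f : X →* Y) (y₁ : X) (hy : QElt q (f y₁)) : ∃ e : ℕ, QElt q (y₁ ^ e) ∧ f (y₁ ^ e) = f y₁ := by
  have hq : q.Prime := Fact.out
  obtain ⟨k, hk⟩ := hy
  obtain ⟨j, m, hm, hom⟩ := Nat.exists_eq_pow_mul_and_not_dvd (orderOf_pos y₁).ne' q hq.ne_one
  have hcop : Nat.Coprime m (q ^ k) :=
    Nat.Coprime.pow_right k ((Nat.Prime.coprime_iff_not_dvd hq).mpr hm).symm
  obtain ⟨m', -, hm'⟩ := Nat.exists_mul_mod_eq_of_coprime 1 hcop (pow_pos hq.pos k).ne'
  refine ⟨m * m', ?_, ?_⟩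
  · have h3 : (y₁ ^ (m * m')) ^ q ^ j = 1 := by
      rw [← pow_mul]
      have : m * m' * q ^ j = (q ^ j * m) * m' := by ring
      rw [this, ← hom, pow_mul, pow_orderOf_eq_one, one_pow]
    obtain ⟨i, -, hi⟩ := (Nat.dvd_prime_pow hq).mp (orderOf_dvd_of_pow_eq_one h3)
    exact ⟨i, hi⟩
  · rw [map_pow]
    have hmod : m * m' ≡ 1 [MOD orderOf (f y₁)] := by rw [hk]; exact hm'
    have := (pow_eq_pow_iff_modEq (x := f y₁)).mpr hmod
    rw [this, pow_one]

/-- **S4411-CM1** -/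
theorem cm1 {M : Type u} [Group M] [Finite M] (p q : ℕ) [Fact p.Prime] [Fact q.Prime]
    (L : Subgroup M) [L.Normal]
    (hF : ∀ (R : Sylow p M) (T : Subgroup M), T ≤ R → (R : Subgroup M) ≤ Subgroup.normalizer (T : Set M) → ¬ T ≤ L →
        ∀ y ∈ Subgroup.normalizer (T : Set M), QElt q y → y ∈ L) :
    ∀ (R' : Sylow p (M ⧸ L)) (T' : Subgroup (M ⧸ L)), T' ≠ ⊥ → T' ≤ R' →
        (R' : Subgroup (M ⧸ L)) ≤ Subgroup.normalizer (T' : Set (M ⧸ L)) →
        ∀ y ∈ Subgroup.normalizer (T' : Set (M ⧸ L)), QElt q y → y = 1 := by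
  intro R' T' hT'1 hT'R' hR'N y' hy'N hy'q
  set π : M →* M ⧸ L := QuotientGroup.mk' L with hπ
  have hπsurj : Function.Surjective π := QuotientGroup.mk'_surjective L
  have hπker : ∀ g : M, π g = 1 ↔ g ∈ L := fun g => QuotientGroup.eq_one_iff g
  -- a Sylow subgroup of `M` over `R'`
  obtain ⟨R, hR⟩ := Sylow.mapSurjective_surjective hπsurj p R'
  have hRmap : (R : Subgroup M).map π = (R' : Subgroup (M ⧸ L)) := by
    rw [← hR]; rfl
  set U : Subgroup M := T'.comap π with hU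
  set T : Subgroup M := (R : Subgroup M) ⊓ U with hT
  have hTR : T ≤ (R : Subgroup M) := inf_le_left
  have hnormU : ∀ g : M, π g ∈ Subgroup.normalizer (T' : Set (M ⧸ L)) → g ∈ Subgroup.normalizer (U : Set M) :=
    fun g hg => Subgroup.le_normalizer_comap π (Subgroup.mem_comap.mpr hg)
  have hRU : (R : Subgroup M) ≤ Subgroup.normalizer (U : Set M) := by
    intro r hr
    apply hnormU
    apply hR'N
    rw [← hRmap]
    exact Subgroup.mem_map_of_mem π hr
  have hRT : (R : Subgroup M) ≤ Subgroup.normalizer (T : Set M) := by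
    intro r hr
    rw [Subgroup.mem_normalizer_iff]
    intro x
    have h1 := Subgroup.mem_normalizer_iff.mp (hRU hr) x
    have h2 := Subgroup.mem_normalizer_iff.mp (Subgroup.le_normalizer hr) x
    rw [hT, Subgroup.mem_inf, Subgroup.mem_inf, h1, h2]
  have hTmap : T.map π = T' := by
    apply le_antisymm
    · rintro _ ⟨t, ht, rfl⟩
      exact (Subgroup.mem_inf.mp ht).2
    · intro t' ht'
      have : t' ∈ (R : Subgroup M).map π := by rw [hRmap]; exact hT'R' ht'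
      obtain ⟨r, hr, rfl⟩ := this
      exact ⟨r, Subgroup.mem_inf.mpr ⟨hr, Subgroup.mem_comap.mpr ht'⟩, rfl⟩
  have hTL : ¬ T ≤ L := by
    intro h
    apply hT'1
    rw [eq_bot_iff, ← hTmap]
    rintro _ ⟨t, ht, rfl⟩
    exact Subgroup.mem_bot.mpr ((hπker t).mpr (h ht))
  -- Frattini
  obtain ⟨y₀, rfl⟩ := hπsurj y'
  have hy₀V : y₀ ∈ Subgroup.normalizer (U : Set M) := hnormU y₀ hy'N
  obtain ⟨a, ha, c, hc, hy₀⟩ := Cfsg.Agent.Lib.Helper16.frattini_ambient R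
    (Subgroup.normalizer (U : Set M)) U hRU le_rfl y₀ hy₀V
  have haT : a ∈ Subgroup.normalizer (T : Set M) := (Subgroup.mem_inf.mp ha).2
  have hcU : c ∈ U := (Subgroup.mem_inf.mp hc).2
  -- `c = t l`
  have hπc : π c ∈ T.map π := by rw [hTmap]; exact hcU
  obtain ⟨t, ht, htc⟩ := hπc
  set y₁ : M := a * t with hy₁
  have hy₁N : y₁ ∈ Subgroup.normalizer (T : Set M) :=
    Subgroup.mul_mem _ haT (Subgroup.le_normalizer ht)
  have hπy₁ : π y₁ = π y₀ := by
    rw [hy₁, hy₀, map_mul, map_mul, htc]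
  -- the `q`-part
  have hq₁ : QElt q (π y₁) := by rw [hπy₁]; exact hy'q
  obtain ⟨e, he, hπe⟩ := exists_pow_qElt q π y₁ hq₁
  have h2 : y₁ ^ e ∈ L :=
    hF R T hTR hRT hTL (y₁ ^ e) (Subgroup.pow_mem _ hy₁N e) he
  rw [← hπy₁, ← hπe]
  exact (hπker _).mpr h2

end Cfsg.Agent.Lib.Helper20.AUTQCM1
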