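import Mathlib
import Cfsg.Prelude.Def_Solvable
import Cfsg.Prelude.Def_Local
import Cfsg.Prelude.Def_Transfer
import Cfsg.Prelude.Def_PLocal
import Cfsg.Agent.Lib.Helper26.AUTQDefs
import Cfsg.Agent.Lib.Helper16.YL2
import Cfsg.Agent.Lib.Helper24.PSolvable
import Cfsg.Agent.Lib.Helper20.AUTQCM1

/-!
# S4411-CA (helper26's market): `ca`

`A` finite `p`-solvable, `q ≠ p`, `q ∣ |A|`, and for every nontrivial `T` normal in a Sylow
`p`-subgroup `N_A(T)` has no nontrivial `q`-element.  Then some Sylow `p`-subgroup normalizes a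
nontrivial `q`-subgroup.

`K := O_{p'}(A)`.  If `q ∣ |K|`: `Q` := a Sylow `q`-subgroup of `K`, Frattini `A = N_A(Q) K`, so
`p ∤ |A : N_A(Q)|` and a Sylow `p`-subgroup of `N_A(Q)` is one of `A`.  Otherwise `O_p(A/K) ≠ 1`,
`T := R ∩ (preimage)`, Frattini `A = N_A(T) K` produces a nontrivial `q`-element of `N_A(T)`.
-/

set_option autoImplicit false

namespace Cfsg.Agent.Lib.Helper20.AUTQCA

open Cfsg Cfsg.Agent.Lib.Helper26.AUTQ

universe u

/-- case `q ∣ |K|`, `K ⊴ A` a `p'`-group: a Sylow `p`-subgroup of `A` normalizes a Sylow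
`q`-subgroup of `K`. -/
theorem exists_sylow_normalizing {A : Type u} [Group A] [Finite A] (p q : ℕ) [Fact p.Prime]
    [Fact q.Prime] (K : Subgroup A) [K.Normal] (hK : (Nat.card K).Coprime p)
    (hq : q ∣ Nat.card K) :
    ∃ (R : Sylow p A) (Q : Subgroup A), IsPGroup q Q ∧ Q ≠ ⊥ ∧
      (R : Subgroup A) ≤ Subgroup.normalizer (Q : Set A) := by
  have hp : p.Prime := Fact.out
  obtain ⟨Qs⟩ : Nonempty (Sylow q K) := inferInstance
  set Q : Subgroup A := (Qs : Subgroup K).map K.subtype with hQ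
  have hQq : IsPGroup q Q := Qs.isPGroup'.map _
  have hQ1 : Q ≠ ⊥ := by
    intro h
    exact Qs.ne_bot_of_dvd_card hq
      ((Subgroup.map_eq_bot_iff_of_injective _ K.subtype_injective).mp h)
  have hfr : Subgroup.normalizer (Q : Set A) ⊔ K = ⊤ := Sylow.normalizer_sup_eq_top Qs
  set NQ : Subgroup A := Subgroup.normalizer (Q : Set A) with hNQ
  -- `|A : N_A(Q)|` divides `|K|`
  have hidx : NQ.index ∣ Nat.card K := by
    have h1 : K.relIndex (NQ ⊔ K) = K.relIndex NQ := Subgroup.relIndex_sup_right NQ K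
    rw [hfr, Subgroup.relIndex_top_right] at h1
    have h2 : Nat.card (K.subgroupOf NQ) * K.relIndex NQ = Nat.card NQ :=
      Subgroup.card_mul_index (K.subgroupOf NQ)
    have h3 : Nat.card K * K.index = Nat.card A := Subgroup.card_mul_index K
    have h4 : Nat.card NQ * NQ.index = Nat.card A := Subgroup.card_mul_index NQ
    have h5 : 0 < K.index := Nat.pos_of_ne_zero Subgroup.index_ne_zero_of_finite
    refine ⟨Nat.card (K.subgroupOf NQ), ?_⟩
    have h6 : Nat.card K * K.index = (NQ.index * Nat.card (K.subgroupOf NQ)) * K.index := by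
      rw [h3, ← h4, ← h2, h1]; ring
    exact Nat.eq_of_mul_eq_mul_right h5 h6
  have hpidx : ¬ p ∣ NQ.index := fun h =>
    hp.one_lt.ne' (Nat.eq_one_of_dvd_coprimes hK.symm (dvd_refl p) (h.trans hidx))
  obtain ⟨R₁⟩ : Nonempty (Sylow p NQ) := inferInstance
  have hR₁p : IsPGroup p ((R₁ : Subgroup NQ).map NQ.subtype) := R₁.isPGroup'.map _
  have hR₁i : ¬ p ∣ ((R₁ : Subgroup NQ).map NQ.subtype).index := by
    rw [Subgroup.index_map_subtype]
    exact Nat.Prime.not_dvd_mul hp R₁.not_dvd_index hpidx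
  refine ⟨hR₁p.toSylow hR₁i, Q, hQq, hQ1, ?_⟩
  rw [IsPGroup.toSylow_coe]
  exact Subgroup.map_subtype_le _

/-- **S4411-CA** -/
theorem ca {A : Type u} [Group A] [Finite A] (p q : ℕ) [Fact p.Prime] [Fact q.Prime] (hpq : p ≠ q)
    (hsol : Cfsg.IsPSolvable p A) (hq : q ∣ Nat.card A)
    (hF : ∀ (R : Sylow p A) (T : Subgroup A), T ≠ ⊥ → T ≤ R → (R : Subgroup A) ≤ Subgroup.normalizer (T : Set A) →
        ∀ y ∈ Subgroup.normalizer (T : Set A), QElt q y → y = 1) :
    ∃ (R : Sylow p A) (Q : Subgroup A), IsPGroup q Q ∧ Q ≠ ⊥ ∧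
      (R : Subgroup A) ≤ Subgroup.normalizer (Q : Set A) := by
  have hp : p.Prime := Fact.out
  have hqp : q.Prime := Fact.out
  have hKn : (Cfsg.pPrimeCore p A).Normal := Cfsg.Agent.Lib.Helper24.pPrimeCore_normal' p
  set K : Subgroup A := Cfsg.pPrimeCore p A with hK
  have hKc : (Nat.card K).Coprime p := Cfsg.Agent.Lib.Helper12.pPrimeCore_coprime p
  by_cases hqK : q ∣ Nat.card K
  · exact exists_sylow_normalizing p q K hKc hqK
  exfalso
  set π : A →* A ⧸ K := QuotientGroup.mk' K with hπ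
  have hπsurj : Function.Surjective π := QuotientGroup.mk'_surjective K
  have hπker : ∀ g : A, π g = 1 ↔ g ∈ K := fun g => QuotientGroup.eq_one_iff g
  -- `A ⧸ K` is nontrivial
  have hKtop : K ≠ ⊤ := by
    intro h
    apply hqK
    rw [h, Subgroup.card_top]
    exact hq
  have : Nontrivial (A ⧸ K) := by
    rw [← Finite.one_lt_card_iff_nontrivial]
    have h0 : Nat.card (A ⧸ K) = K.index := rfl
    have h1 : K.index ≠ 1 := fun h => hKtop (Subgroup.index_eq_one.mp h)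
    have h2 : K.index ≠ 0 := Subgroup.index_ne_zero_of_finite
    omega
  have hsol' : Cfsg.IsPSolvable p (A ⧸ K) :=
    Cfsg.Agent.Lib.Helper24.isPSolvable_of_surjective p π hπsurj hsol
  have hOb1 : Cfsg.pCore p (A ⧸ K) ≠ ⊥ :=
    Cfsg.Agent.Lib.Helper24.pCore_ne_bot_of_isPSolvable p hsol'
      (Cfsg.Agent.Lib.Helper24.pPrimeCore_quotient_eq_bot' p)
  have hObn : (Cfsg.pCore p (A ⧸ K)).Normal := Cfsg.Agent.Lib.Helper24.pCore_normal' p
  set Ob : Subgroup (A ⧸ K) := Cfsg.pCore p (A ⧸ K) with hOb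
  have hObp : IsPGroup p Ob := Cfsg.Agent.Lib.Helper12.pCore_isPGroup' p
  obtain ⟨R⟩ : Nonempty (Sylow p A) := inferInstance
  have hObR : Ob ≤ (R : Subgroup A).map π := by
    have := Cfsg.Agent.Lib.Helper24.normal_pgroup_le_sylow Ob hObp (R.mapSurjective hπsurj)
    rwa [Sylow.coe_mapSurjective] at this
  set N : Subgroup A := Ob.comap π with hN
  have hNn : N.Normal := Subgroup.Normal.comap hObn π
  set T : Subgroup A := (R : Subgroup A) ⊓ N with hT
  have hTR : T ≤ (R : Subgroup A) := inf_le_left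
  have hRT : (R : Subgroup A) ≤ Subgroup.normalizer (T : Set A) := by
    intro r hr
    rw [Subgroup.mem_normalizer_iff]
    intro x
    have h1 : x ∈ N ↔ r * x * r⁻¹ ∈ N :=
      Subgroup.mem_normalizer_iff.mp (show r ∈ Subgroup.normalizer (N : Set A) by
        rw [Subgroup.normalizer_eq_top]; exact Subgroup.mem_top r) x
    have h2 := Subgroup.mem_normalizer_iff.mp (Subgroup.le_normalizer hr) x
    rw [hT, Subgroup.mem_inf, Subgroup.mem_inf, ← h1, ← h2]
  have hTmap : T.map π = Ob := by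
    apply le_antisymm
    · rintro _ ⟨t, ht, rfl⟩
      exact (Subgroup.mem_inf.mp ht).2
    · intro t' ht'
      obtain ⟨r, hr, rfl⟩ := hObR ht'
      exact ⟨r, Subgroup.mem_inf.mpr ⟨hr, Subgroup.mem_comap.mpr ht'⟩, rfl⟩
  have hT1 : T ≠ ⊥ := by
    intro h
    apply hOb1
    rw [← hTmap, h, Subgroup.map_bot]
  -- an element of order `q`
  obtain ⟨y, hy⟩ := exists_prime_orderOf_dvd_card' q hq
  obtain ⟨a, ha, c, hc, hyac⟩ := Cfsg.Agent.Lib.Helper16.frattini_ambient R ⊤ N le_top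
    (by rw [Subgroup.normalizer_eq_top]) y (Subgroup.mem_top y)
  have haT : a ∈ Subgroup.normalizer (T : Set A) := (Subgroup.mem_inf.mp ha).2
  have hcN : c ∈ N := (Subgroup.mem_inf.mp hc).2
  have hπc : π c ∈ T.map π := by rw [hTmap]; exact hcN
  obtain ⟨t, ht, htc⟩ := hπc
  set y₁ : A := a * t with hy₁
  have hy₁N : y₁ ∈ Subgroup.normalizer (T : Set A) :=
    Subgroup.mul_mem _ haT (Subgroup.le_normalizer ht)
  have hπy₁ : π y₁ = π y := by
    rw [hy₁, hyac, map_mul, map_mul, htc]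
  have hyq : QElt q y := ⟨1, by rw [hy, pow_one]⟩
  have hq₁ : QElt q (π y₁) := by rw [hπy₁]; exact hyq.map π
  obtain ⟨e, he, hπe⟩ := Cfsg.Agent.Lib.Helper20.AUTQCM1.exists_pow_qElt q π y₁ hq₁
  have h2 : y₁ ^ e = 1 := hF R T hT1 hTR hRT (y₁ ^ e) (Subgroup.pow_mem _ hy₁N e) he
  have hyK : y ∈ K := by
    rw [← hπker, ← hπy₁, ← hπe, h2, map_one]
  apply hqK
  have h3 : orderOf (⟨y, hyK⟩ : K) ∣ Nat.card K := orderOf_dvd_natCard _
  rwa [← Subgroup.orderOf_coe, Subgroup.coe_mk, hy] at h3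

end Cfsg.Agent.Lib.Helper20.AUTQCA
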