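import Mathlib
import Cfsg.Agent.Lib.Helper19.AltAbelian

/-!
Numerical facts on the bound `t` for even abelian permutation groups: equality cases (helper20).
-/

set_option autoImplicit false

namespace Cfsg.Agent.Lib.Helper20.AbAlt

open Cfsg.Agent.S2505 Cfsg.Agent.Lib.Helper19.AltAbelian

theorem t_lt_succ : ∀ n : ℕ, 2 ≤ n → t n < t (n + 1) := by
  intro n
  induction n using Nat.strong_induction_on with
  | _ n ih =>
    intro hn
    rcases Nat.lt_or_ge n 9 with h | h
    · interval_cases n <;> simp [t]
    · have h1 : t n = 3 * t (n - 3) := by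
        have := t_add_three (n := n - 3) (by omega)
        rwa [Nat.sub_add_cancel (by omega)] at this
      have h2 : t (n + 1) = 3 * t (n - 3 + 1) := by
        have := t_add_three (n := n - 3 + 1) (by omega)
        rwa [show n - 3 + 1 + 3 = n + 1 by omega] at this
      have := ih (n - 3) (by omega) (by omega)
      rw [h1, h2]
      omega

theorem g_mono {a b : ℕ} (h : a ≤ b) : g a ≤ g b := by
  induction b, h using Nat.le_induction with
  | base => exact le_rfl
  | succ b _ ih => exact ih.trans (g_mono_succ b)

theorem g_lt_t_succ : ∀ n : ℕ, 2 ≤ n → g n < t (n + 1) := by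
  intro n
  induction n using Nat.strong_induction_on with
  | _ n ih =>
    intro hn
    rcases Nat.lt_or_ge n 8 with h | h
    · interval_cases n <;> simp [t, g]
    · have h1 : g n = 3 * g (n - 3) := by
        have := g_add_three (n := n - 3) (by omega)
        rwa [Nat.sub_add_cancel (by omega)] at this
      have h2 : t (n + 1) = 3 * t (n - 3 + 1) := by
        have := t_add_three (n := n - 3 + 1) (by omega)
        rwa [show n - 3 + 1 + 3 = n + 1 by omega] at this
      have := ih (n - 3) (by omega) (by omega)
      rw [h1, h2]
      omega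

theorem g_lt_two_t : ∀ m : ℕ, m ≠ 2 → g m < 2 * t m := by
  intro m
  induction m using Nat.strong_induction_on with
  | _ m ih =>
    intro hm
    rcases Nat.lt_or_ge m 9 with h | h
    · interval_cases m <;> simp [t, g] at hm ⊢
    · have h1 : g m = 3 * g (m - 3) := by
        have := g_add_three (n := m - 3) (by omega)
        rwa [Nat.sub_add_cancel (by omega)] at this
      have h2 : t m = 3 * t (m - 3) := by
        have := t_add_three (n := m - 3) (by omega)
        rwa [Nat.sub_add_cancel (by omega)] at this
      have := ih (m - 3) (by omega) (by omega)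
      rw [h1, h2]
      omega

theorem five_mul_t_lt : ∀ m : ℕ, 1 ≤ m → 5 * t m < t (m + 5) := by
  intro m
  induction m using Nat.strong_induction_on with
  | _ m ih =>
    intro hm
    rcases Nat.lt_or_ge m 9 with h | h
    · interval_cases m <;> simp [t]
    · have h1 : t m = 3 * t (m - 3) := by
        have := t_add_three (n := m - 3) (by omega)
        rwa [Nat.sub_add_cancel (by omega)] at this
      have h2 : t (m + 5) = 3 * t (m - 3 + 5) := by
        have := t_add_three (n := m - 3 + 5) (by omega)
        rwa [show m - 3 + 5 + 3 = m + 5 by omega] at this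
      have := ih (m - 3) (by omega) (by omega)
      rw [h1, h2]
      omega

theorem mul_t_lt_of_six_le (s m : ℕ) (hs : 6 ≤ s) : s * t m < t (m + s) := by
  have h1 := key_t (s - 3) (by omega) (m + 3)
  have h2 := three_mul_t_le m
  have h3 : m + 3 + (s - 3) = m + s := by omega
  rw [h3] at h1
  have h4 := t_pos m
  calc s * t m < ((s - 3) * 3) * t m := by
        apply Nat.mul_lt_mul_of_pos_right _ h4
        omega
    _ = (s - 3) * (3 * t m) := by ring
    _ ≤ (s - 3) * t (m + 3) := Nat.mul_le_mul_left _ h2
    _ ≤ t (m + s) := h1

/-- the equality cases of `s * t m ≤ t (m + s)` -/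
theorem eq_cases {s m : ℕ} (hs : 3 ≤ s) (h : s * t m = t (m + s)) :
    (s = 3 ∨ s = 4 ∨ (s = 5 ∧ m = 0)) ∧ m ≠ 1 ∧ m ≠ 2 := by
  have hs6 : s < 6 := by
    by_contra hc
    have := mul_t_lt_of_six_le s m (by omega)
    omega
  refine ⟨?_, ?_, ?_⟩
  · interval_cases s
    · left; rfl
    · right; left; rfl
    · right; right
      refine ⟨rfl, ?_⟩
      by_contra hm
      have := five_mul_t_lt m (by omega)
      omega
  · rintro rfl
    interval_cases s <;> simp [t] at h
  · rintro rfl
    interval_cases s <;> simp [t] at h

theorem t_self {s : ℕ} (h3 : 3 ≤ s) (h5 : s ≤ 5) : t s = s := by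
  interval_cases s <;> simp [t]

end Cfsg.Agent.Lib.Helper20.AbAlt
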