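import Mathlib

/-!
# Sylow subgroups of symmetric groups via maximality: basic tools and intransitive case

`IsMaxP p P`: `P` is a maximal `p`-subgroup.  `Gen p P`: `P` is generated by a set of elements of
order dividing `p` whose odd members pairwise commute.
-/

set_option autoImplicit false

namespace Cfsg.Agent.Lib.Helper20.SymGen

open Equiv Equiv.Perm

section general

variable {G : Type*} [Group G]

/-- `P` is a maximal `p`-subgroup of `G`. -/
def IsMaxP (p : ℕ) (P : Subgroup G) : Prop :=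
  IsPGroup p P ∧ ∀ Q : Subgroup G, IsPGroup p Q → P ≤ Q → Q = P

theorem IsMaxP.of_sylow {p : ℕ} (P : Sylow p G) : IsMaxP p (P : Subgroup G) :=
  ⟨P.isPGroup', fun _ hQ hle => P.is_maximal' hQ hle⟩

theorem IsMaxP.absorb {p : ℕ} [Fact p.Prime] {P : Subgroup G} (hP : IsMaxP p P) (N : Subgroup G)
    (hN : IsPGroup p N) (hnorm : ∀ h ∈ P, ∀ x ∈ N, h * x * h⁻¹ ∈ N) : N ≤ P := by
  have h1 : P ≤ Subgroup.normalizer (N : Set G) := by
    intro h hh
    rw [Subgroup.mem_normalizer_iff]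
    intro x
    constructor
    · exact hnorm h hh x
    · intro hx
      have := hnorm h⁻¹ (P.inv_mem hh) _ hx
      simpa [mul_assoc] using this
  have h2 : IsPGroup p (P ⊔ N : Subgroup G) := IsPGroup.to_sup_of_normal_right' hP.1 hN h1
  have h3 := hP.2 _ h2 le_sup_left
  rw [← h3]; exact le_sup_right

end general

theorem perm_apply_inv {α : Type*} (h : Perm α) (x : α) : h (h⁻¹ x) = x := by simp

theorem perm_inv_apply {α : Type*} (h : Perm α) (x : α) : h⁻¹ (h x) = x := by simp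

variable {α : Type*} [Fintype α] [DecidableEq α]

/-- `P` is generated by elements of order dividing `p`, the odd ones commuting pairwise. -/
def Gen (p : ℕ) (P : Subgroup (Perm α)) : Prop :=
  ∃ I : Set (Perm α), Subgroup.closure I = P ∧ (∀ a ∈ I, a ^ p = 1) ∧
    (∀ a ∈ I, ∀ b ∈ I, sign a = -1 → sign b = -1 → Commute a b)

/-- restriction of a subgroup preserving the predicate `q` -/
def resHom (P : Subgroup (Perm α)) (q : α → Prop) (hq : ∀ g ∈ P, ∀ x, q (g x) ↔ q x) :
    P →* Perm (Subtype q) where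
  toFun g := (g : Perm α).subtypePerm (hq g g.2)
  map_one' := rfl
  map_mul' _ _ := rfl

theorem resHom_apply (P : Subgroup (Perm α)) (q : α → Prop) (hq : ∀ g ∈ P, ∀ x, q (g x) ↔ q x)
    (g : P) (x : Subtype q) : ((resHom P q hq g) x : α) = (g : Perm α) x := rfl

theorem conj_ofSubtype {q : α → Prop} [DecidablePred q] (h : Perm α) (hh : ∀ x, q (h x) ↔ q x)
    (r : Perm (Subtype q)) :
    h * ofSubtype r * h⁻¹ = ofSubtype (h.subtypePerm hh * r * (h.subtypePerm hh)⁻¹) := by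
  ext x
  by_cases hx : q x
  · have hx' : q (h⁻¹ x) := by
      have := hh (h⁻¹ x)
      rw [perm_apply_inv] at this
      exact this.mp hx
    rw [ofSubtype_apply_of_mem _ hx]
    simp only [Perm.coe_mul, Function.comp_apply]
    rw [ofSubtype_apply_of_mem _ hx']
    have e : (h.subtypePerm hh)⁻¹ ⟨x, hx⟩ = ⟨h⁻¹ x, hx'⟩ := by
      rw [Perm.inv_eq_iff_eq]
      apply Subtype.ext
      simp [subtypePerm_apply]
    rw [e]
    simp [subtypePerm_apply]
  · have hx' : ¬ q (h⁻¹ x) := by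
      intro hc
      have := hh (h⁻¹ x)
      rw [perm_apply_inv] at this
      exact hx (this.mpr hc)
    rw [ofSubtype_apply_of_not_mem _ hx]
    simp only [Perm.coe_mul, Function.comp_apply]
    rw [ofSubtype_apply_of_not_mem _ hx', perm_apply_inv]

section d1

variable {p : ℕ} [Fact p.Prime]

theorem isPGroup_range_resHom (P : Subgroup (Perm α)) (hP : IsPGroup p P) (q : α → Prop)
    (hq : ∀ g ∈ P, ∀ x, q (g x) ↔ q x) : IsPGroup p (resHom P q hq).range :=
  hP.of_surjective (resHom P q hq).rangeRestrict (resHom P q hq).rangeRestrict_surjective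

/-- If `R ⊇ res(P)` is a `p`-group then `ofSubtype R ≤ P`. -/
theorem ofSubtype_mem_of_isMaxP (P : Subgroup (Perm α)) (hP : IsMaxP p P) (q : α → Prop)
    [DecidablePred q] (hq : ∀ g ∈ P, ∀ x, q (g x) ↔ q x) (R : Subgroup (Perm (Subtype q)))
    (hR : IsPGroup p R) (hle : (resHom P q hq).range ≤ R) {r : Perm (Subtype q)} (hr : r ∈ R) :
    ofSubtype r ∈ P := by
  have h1 : R.map (ofSubtype : Perm (Subtype q) →* Perm α) ≤ P := by
    apply hP.absorb _ (hR.map _)
    rintro h hh x ⟨s, hs, rfl⟩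
    rw [conj_ofSubtype h (hq h hh) s]
    refine ⟨_, ?_, rfl⟩
    have h2 : (h.subtypePerm (hq h hh)) ∈ R := hle ⟨⟨h, hh⟩, rfl⟩
    exact R.mul_mem (R.mul_mem h2 hs) (R.inv_mem h2)
  exact h1 ⟨r, hr, rfl⟩

theorem isMaxP_range_resHom (P : Subgroup (Perm α)) (hP : IsMaxP p P) (q : α → Prop)
    [DecidablePred q] (hq : ∀ g ∈ P, ∀ x, q (g x) ↔ q x) : IsMaxP p (resHom P q hq).range := by
  refine ⟨isPGroup_range_resHom P hP.1 q hq, ?_⟩
  intro R hR hle
  apply le_antisymm _ hle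
  intro r hr
  have h1 := ofSubtype_mem_of_isMaxP P hP q hq R hR hle hr
  refine ⟨⟨ofSubtype r, h1⟩, ?_⟩
  exact subtypePerm_ofSubtype r

theorem eq_mul_of_res (P : Subgroup (Perm α)) (q : α → Prop) [DecidablePred q]
    (hq : ∀ g ∈ P, ∀ x, q (g x) ↔ q x) (hq' : ∀ g ∈ P, ∀ x, ¬ q (g x) ↔ ¬ q x) (g : P) :
    (g : Perm α) = ofSubtype (resHom P q hq g) * ofSubtype (resHom P (fun x => ¬ q x) hq' g) := by
  ext x
  simp only [Perm.coe_mul, Function.comp_apply]
  by_cases hx : q x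
  · rw [ofSubtype_apply_of_not_mem (p := fun x => ¬ q x) _ (not_not.mpr hx),
      ofSubtype_apply_of_mem _ hx]
    rfl
  · rw [ofSubtype_apply_of_mem (p := fun x => ¬ q x) _ hx]
    have h2 : ¬ q (((resHom P (fun x => ¬ q x) hq' g) ⟨x, hx⟩ : {x // ¬ q x}) : α) :=
      ((resHom P (fun x => ¬ q x) hq' g) ⟨x, hx⟩).2
    rw [ofSubtype_apply_of_not_mem _ h2]
    rfl

theorem commute_ofSubtype_compl {q : α → Prop} [DecidablePred q] (a : Perm (Subtype q))
    (b : Perm {x // ¬ q x}) : Commute (ofSubtype a) (ofSubtype b) := by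
  have key : ∀ x, (ofSubtype a) ((ofSubtype b) x) = (ofSubtype b) ((ofSubtype a) x) := by
    intro x
    by_cases hx : q x
    · have h1 : (ofSubtype b) x = x :=
        ofSubtype_apply_of_not_mem (p := fun x => ¬ q x) b (not_not.mpr hx)
      have h2 : q ((ofSubtype a) x) := (ofSubtype_apply_mem_iff_mem a x).mpr hx
      have h3 : (ofSubtype b) ((ofSubtype a) x) = (ofSubtype a) x :=
        ofSubtype_apply_of_not_mem (p := fun x => ¬ q x) b (not_not.mpr h2)
      rw [h1, h3]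
    · have h1 : (ofSubtype a) x = x := ofSubtype_apply_of_not_mem a hx
      have h2 : ¬ q ((ofSubtype b) x) :=
        (ofSubtype_apply_mem_iff_mem (p := fun x => ¬ q x) b x).mpr hx
      have h3 : (ofSubtype a) ((ofSubtype b) x) = (ofSubtype b) x :=
        ofSubtype_apply_of_not_mem a h2
      rw [h1, h3]
  exact Perm.ext key

theorem gen_of_res (P : Subgroup (Perm α)) (hP : IsMaxP p P) (q : α → Prop) [DecidablePred q]
    (hq : ∀ g ∈ P, ∀ x, q (g x) ↔ q x) (hq' : ∀ g ∈ P, ∀ x, ¬ q (g x) ↔ ¬ q x)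
    (h1 : Gen p (resHom P q hq).range) (h2 : Gen p (resHom P (fun x => ¬ q x) hq').range) :
    Gen p P := by
  obtain ⟨I1, hc1, ho1, hs1⟩ := h1
  obtain ⟨I2, hc2, ho2, hs2⟩ := h2
  refine ⟨(ofSubtype : Perm (Subtype q) →* Perm α) '' I1 ∪
    (ofSubtype : Perm {x // ¬ q x} →* Perm α) '' I2, ?_, ?_, ?_⟩
  · rw [Subgroup.closure_union, ← MonoidHom.map_closure, ← MonoidHom.map_closure, hc1, hc2]
    apply le_antisymm
    · apply sup_le
      · rintro x ⟨r, hr, rfl⟩
        exact ofSubtype_mem_of_isMaxP P hP q hq _ (isPGroup_range_resHom P hP.1 q hq) le_rfl hr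
      · rintro x ⟨r, hr, rfl⟩
        exact ofSubtype_mem_of_isMaxP P hP (fun x => ¬ q x) hq' _
          (isPGroup_range_resHom P hP.1 _ hq') le_rfl hr
    · intro g hg
      have e := eq_mul_of_res P q hq hq' ⟨g, hg⟩
      simp only at e
      rw [e]
      apply Subgroup.mul_mem
      · exact Subgroup.mem_sup_left ⟨_, ⟨⟨g, hg⟩, rfl⟩, rfl⟩
      · exact Subgroup.mem_sup_right ⟨_, ⟨⟨g, hg⟩, rfl⟩, rfl⟩
  · rintro a (⟨r, hr, rfl⟩ | ⟨r, hr, rfl⟩)
    · rw [← map_pow, ho1 r hr, map_one]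
    · rw [← map_pow, ho2 r hr, map_one]
  · rintro a (⟨r, hr, rfl⟩ | ⟨r, hr, rfl⟩) b (⟨s, hs, rfl⟩ | ⟨s, hs, rfl⟩) ha hb
    · rw [sign_ofSubtype] at ha hb
      exact (hs1 r hr s hs ha hb).map (ofSubtype : Perm (Subtype q) →* Perm α)
    · exact commute_ofSubtype_compl r s
    · exact (commute_ofSubtype_compl s r).symm
    · rw [sign_ofSubtype] at ha hb
      exact (hs2 r hr s hs ha hb).map (ofSubtype : Perm {x // ¬ q x} →* Perm α)

end d1

end Cfsg.Agent.Lib.Helper20.SymGen
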