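import Mathlib
import Cfsg.Agent.Lib.Helper20.AbAltA
import Cfsg.Agent.Lib.Helper20.SymGenA

/-!
Structure of the even abelian permutation groups of the extremal order `t n` (helper20):
over any orbit the group splits as a direct product of two extremal groups.
-/

set_option autoImplicit false

namespace Cfsg.Agent.Lib.Helper20.AbAlt

open Subgroup MulAction Equiv Equiv.Perm

open Cfsg.Agent.S2505 Cfsg.Agent.Lib.Helper19.AltAbelian

open Cfsg.Agent.Lib.Helper20.SymGen

/-- `A` is an even abelian permutation group of the extremal order `t |α|` -/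
def Ext {α : Type} [Fintype α] [DecidableEq α] (A : Subgroup (Perm α)) : Prop :=
  (∀ a ∈ A, ∀ b ∈ A, a * b = b * a) ∧ (∀ a ∈ A, sign a = 1) ∧ Nat.card A = t (Fintype.card α)

theorem eq_one_of_even_of_card_le_two {β : Type} [Fintype β] [DecidableEq β]
    (hβ : Fintype.card β ≤ 2) (σ : Perm β) (hσ : sign σ = 1) : σ = 1 := by
  by_contra hne
  have h1 := two_le_card_support_of_ne_one hne
  have h2 : σ.support.card ≤ Fintype.card β := Finset.card_le_univ _
  have h3 : σ.support.card = 2 := by omega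
  have h4 := (card_support_eq_two.mp h3).sign_eq
  rw [hσ] at h4
  exact absurd h4 (by decide)

section inv

variable {α : Type} [Fintype α] [DecidableEq α]

theorem eq_subtypeCongr (A : Subgroup (Perm α)) (q : α → Prop)
    [DecidablePred q] (hq : ∀ g ∈ A, ∀ x, q (g x) ↔ q x) (hq' : ∀ g ∈ A, ∀ x, ¬ q (g x) ↔ ¬ q x) (a : A) :
    (a : Perm α) = Perm.subtypeCongr (resHom A q hq a) (resHom A (fun x => ¬ q x) hq' a) := by
  ext y
  by_cases hy : q y
  · rw [Perm.subtypeCongr.left_apply _ _ hy]; rfl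
  · rw [Perm.subtypeCongr.right_apply _ _ hy]; rfl

theorem sign_eq_mul (A : Subgroup (Perm α)) (q : α → Prop)
    [DecidablePred q] (hq : ∀ g ∈ A, ∀ x, q (g x) ↔ q x) (hq' : ∀ g ∈ A, ∀ x, ¬ q (g x) ↔ ¬ q x) (a : A) :
    sign (a : Perm α) = sign (resHom A q hq a) * sign (resHom A (fun x => ¬ q x) hq' a) := by
  conv_lhs => rw [eq_subtypeCongr A q hq hq' a]
  rw [sign_subtypeCongr]

theorem comm_range_resHom (A : Subgroup (Perm α)) (q : α → Prop)
    [DecidablePred q] (hq : ∀ g ∈ A, ∀ x, q (g x) ↔ q x)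
    (hab : ∀ a ∈ A, ∀ b ∈ A, a * b = b * a) :
    ∀ a ∈ (resHom A q hq).range, ∀ b ∈ (resHom A q hq).range, a * b = b * a := by
  rintro _ ⟨a, rfl⟩ _ ⟨b, rfl⟩
  rw [← map_mul, ← map_mul]
  congr 1
  exact Subtype.ext (hab a a.2 b b.2)

/-- the stabilizer of a point of a transitive invariant set is the kernel of the restriction -/
theorem stabilizer_eq_ker (A : Subgroup (Perm α)) (q : α → Prop)
    [DecidablePred q] (hq : ∀ g ∈ A, ∀ x, q (g x) ↔ q x)
    (hab : ∀ a ∈ A, ∀ b ∈ A, a * b = b * a) (x : α) (hx : q x)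
    (htrans : ∀ y, q y → ∃ a ∈ A, a x = y) :
    stabilizer A x = (resHom A q hq).ker := by
  ext a
  rw [mem_stabilizer_iff, MonoidHom.mem_ker]
  constructor
  · intro h
    have h' : (a : Perm α) x = x := h
    ext ⟨y, hy⟩
    obtain ⟨b, hb, rfl⟩ := htrans y hy
    rw [resHom_apply]
    show (a : Perm α) (b x) = b x
    calc (a : Perm α) (b x) = ((a : Perm α) * b) x := rfl
      _ = (b * (a : Perm α)) x := by rw [hab a a.2 b hb]
      _ = b ((a : Perm α) x) := rfl
      _ = b x := by rw [h']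
  · intro h
    have := congrArg (fun f : Perm (Subtype q) => ((f ⟨x, hx⟩ : Subtype q) : α)) h
    exact this

theorem card_range_eq (A : Subgroup (Perm α)) (q : α → Prop)
    [DecidablePred q] (hq : ∀ g ∈ A, ∀ x, q (g x) ↔ q x)
    (hab : ∀ a ∈ A, ∀ b ∈ A, a * b = b * a) (x : α) (hx : q x)
    (htrans : ∀ y, q y → ∃ a ∈ A, a x = y) :
    Nat.card (resHom A q hq).range = Fintype.card (Subtype q) := by
  rw [← Subgroup.index_ker, ← stabilizer_eq_ker A q hq hab x hx htrans, index_stabilizer]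
  have h1 : orbit A x = {y | q y} := by
    ext y
    constructor
    · rintro ⟨a, rfl⟩
      exact (hq a a.2 x).mpr hx
    · intro hy
      obtain ⟨a, ha, rfl⟩ := htrans y hy
      exact ⟨⟨a, ha⟩, rfl⟩
  rw [h1, ← _root_.Nat.card_coe_set_eq, Nat.card_eq_fintype_card]
  rfl

/-- restriction to the complement, on the kernel of the restriction to `q` -/
noncomputable def kerRes (A : Subgroup (Perm α)) (q : α → Prop)
    [DecidablePred q] (hq : ∀ g ∈ A, ∀ x, q (g x) ↔ q x) (hq' : ∀ g ∈ A, ∀ x, ¬ q (g x) ↔ ¬ q x) : (resHom A q hq).ker →* Perm {y // ¬ q y} :=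
  (resHom A (fun x => ¬ q x) hq').comp (resHom A q hq).ker.subtype

theorem kerRes_injective (A : Subgroup (Perm α)) (q : α → Prop)
    [DecidablePred q] (hq : ∀ g ∈ A, ∀ x, q (g x) ↔ q x) (hq' : ∀ g ∈ A, ∀ x, ¬ q (g x) ↔ ¬ q x) : Function.Injective (kerRes A q hq hq') := by
  rw [injective_iff_map_eq_one]
  intro a ha
  have h1 : resHom A q hq a.1 = 1 := a.2
  have h2 : resHom A (fun x => ¬ q x) hq' a.1 = 1 := ha
  apply Subtype.ext
  apply Subtype.ext
  rw [eq_subtypeCongr A q hq hq' a.1, h1, h2]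
  ext y
  by_cases hy : q y
  · rw [Perm.subtypeCongr.left_apply _ _ hy]; rfl
  · rw [Perm.subtypeCongr.right_apply _ _ hy]; rfl

theorem card_ker_le (A : Subgroup (Perm α)) (q : α → Prop)
    [DecidablePred q] (hq : ∀ g ∈ A, ∀ x, q (g x) ↔ q x) (hq' : ∀ g ∈ A, ∀ x, ¬ q (g x) ↔ ¬ q x)
    (hab : ∀ a ∈ A, ∀ b ∈ A, a * b = b * a) (hev : ∀ a ∈ A, sign a = 1) :
    Nat.card (resHom A q hq).ker ≤ t (Fintype.card {y // ¬ q y}) := by
  rw [Nat.card_congr (MonoidHom.ofInjective (kerRes_injective A q hq hq')).toEquiv]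
  apply card_le_t _ _ rfl
  · rintro _ ⟨a, rfl⟩ _ ⟨b, rfl⟩
    rw [← map_mul, ← map_mul]
    congr 1
    apply Subtype.ext
    apply Subtype.ext
    exact hab _ a.1.2 _ b.1.2
  · rintro _ ⟨a, rfl⟩
    have h1 : resHom A q hq a.1 = 1 := a.2
    have h2 := sign_eq_mul A q hq hq' a.1
    rw [h1, map_one, one_mul, hev _ a.1.2] at h2
    exact h2.symm

/-- if the invariant set has at most two points, the restriction to the complement is injective -/
theorem res_compl_injective (A : Subgroup (Perm α)) (q : α → Prop)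
    [DecidablePred q] (hq : ∀ g ∈ A, ∀ x, q (g x) ↔ q x) (hq' : ∀ g ∈ A, ∀ x, ¬ q (g x) ↔ ¬ q x)
    (hev : ∀ a ∈ A, sign a = 1) (hs : Fintype.card (Subtype q) ≤ 2) :
    Function.Injective (resHom A (fun x => ¬ q x) hq') := by
  rw [injective_iff_map_eq_one]
  intro a ha
  have h2 := sign_eq_mul A q hq hq' a
  rw [ha, map_one, mul_one, hev _ a.2] at h2
  have h1 : resHom A q hq a = 1 := eq_one_of_even_of_card_le_two hs _ h2.symm
  apply Subtype.ext
  rw [eq_subtypeCongr A q hq hq' a, h1, ha]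
  ext y
  by_cases hy : q y
  · rw [Perm.subtypeCongr.left_apply _ _ hy]; rfl
  · rw [Perm.subtypeCongr.right_apply _ _ hy]; rfl

end inv

end Cfsg.Agent.Lib.Helper20.AbAlt
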