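import Mathlib
import Cfsg.Agent.Lib.Helper20.AbAltB

/-!
The structure theorem for extremal even abelian permutation groups (helper20).
-/

set_option autoImplicit false

namespace Cfsg.Agent.Lib.Helper20.AbAlt

open Subgroup MulAction Equiv Equiv.Perm

open Cfsg.Agent.S2505 Cfsg.Agent.Lib.Helper19.AltAbelian

open Cfsg.Agent.Lib.Helper20.SymGen

variable {α : Type} [Fintype α] [DecidableEq α]

/-- the numerical part of the structure theorem -/
theorem structure_num (A : Subgroup (Perm α)) (hA : Ext A) (hn : 3 ≤ Fintype.card α)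
    (q : α → Prop) [DecidablePred q] (hq : ∀ g ∈ A, ∀ x, q (g x) ↔ q x)
    (hq' : ∀ g ∈ A, ∀ x, ¬ q (g x) ↔ ¬ q x) (x : α) (hx : q x)
    (htrans : ∀ y, q y → ∃ a ∈ A, a x = y) :
    3 ≤ Fintype.card (Subtype q) ∧
    Fintype.card (Subtype q) * t (Fintype.card {y // ¬ q y}) = t (Fintype.card α) ∧
    Nat.card (resHom A q hq).ker = t (Fintype.card {y // ¬ q y}) := by
  obtain ⟨hab, hev, hcard⟩ := hA
  have hsm : Fintype.card {y // ¬ q y} = Fintype.card α - Fintype.card (Subtype q) :=
    Fintype.card_subtype_compl q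
  have hsle : Fintype.card (Subtype q) ≤ Fintype.card α := Fintype.card_subtype_le q
  have hs1 : 1 ≤ Fintype.card (Subtype q) := Fintype.card_pos_iff.mpr ⟨⟨x, hx⟩⟩
  have hs3 : 3 ≤ Fintype.card (Subtype q) := by
    by_contra hlt
    have hs2 : Fintype.card (Subtype q) ≤ 2 := by omega
    have hinj := res_compl_injective A q hq hq' hev hs2
    have h1 : Nat.card A = Nat.card (resHom A (fun x => ¬ q x) hq').range :=
      Nat.card_congr (MonoidHom.ofInjective hinj).toEquiv
    have h2 := card_le_g (Fintype.card {y // ¬ q y}) {y // ¬ q y} (Nat.card_eq_fintype_card)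
      (resHom A (fun x => ¬ q x) hq').range (comm_range_resHom A _ hq' hab)
    have h3 : g (Fintype.card {y // ¬ q y}) ≤ g (Fintype.card α - 1) := g_mono (by omega)
    have h4 := g_lt_t_succ (Fintype.card α - 1) (by omega)
    rw [Nat.sub_add_cancel (by omega)] at h4
    omega
  have h1 : Nat.card (resHom A q hq).ker * Fintype.card (Subtype q) = Nat.card A := by
    rw [← card_range_eq A q hq hab x hx htrans, ← Subgroup.index_ker]
    exact Subgroup.card_mul_index _
  have h2 := card_ker_le A q hq hq' hab hev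
  have h3 := key_t (Fintype.card (Subtype q)) hs3 (Fintype.card {y // ¬ q y})
  have h4 : Fintype.card {y // ¬ q y} + Fintype.card (Subtype q) = Fintype.card α := by omega
  rw [h4] at h3
  have h5 : Nat.card (resHom A q hq).ker * Fintype.card (Subtype q) ≤
      t (Fintype.card {y // ¬ q y}) * Fintype.card (Subtype q) := Nat.mul_le_mul_right _ h2
  have h6 : Fintype.card (Subtype q) * t (Fintype.card {y // ¬ q y}) = t (Fintype.card α) := by
    rw [mul_comm] at h3
    rw [mul_comm]
    omega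
  refine ⟨hs3, h6, ?_⟩
  have h7 : Nat.card (resHom A q hq).ker * Fintype.card (Subtype q) =
      t (Fintype.card {y // ¬ q y}) * Fintype.card (Subtype q) := by
    rw [h1, hcard, ← h6, mul_comm]
  exact Nat.eq_of_mul_eq_mul_right (by omega) h7

/-- the restriction to the complement of an orbit has the same image as its restriction to the
pointwise stabilizer of the orbit -/
theorem range_compl_eq (A : Subgroup (Perm α)) (hA : Ext A) (hn : 3 ≤ Fintype.card α)
    (q : α → Prop) [DecidablePred q] (hq : ∀ g ∈ A, ∀ x, q (g x) ↔ q x)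
    (hq' : ∀ g ∈ A, ∀ x, ¬ q (g x) ↔ ¬ q x) (x : α) (hx : q x)
    (htrans : ∀ y, q y → ∃ a ∈ A, a x = y) :
    (kerRes A q hq hq').range = (resHom A (fun x => ¬ q x) hq').range := by
  obtain ⟨hs3, h6, hker⟩ := structure_num A hA hn q hq hq' x hx htrans
  obtain ⟨hab, hev, hcard⟩ := hA
  have hle : (kerRes A q hq hq').range ≤ (resHom A (fun x => ¬ q x) hq').range := by
    rintro _ ⟨a, rfl⟩
    exact ⟨a.1, rfl⟩
  apply Subgroup.eq_of_le_of_card_ge hle
  have h1 : Nat.card (kerRes A q hq hq').range = t (Fintype.card {y // ¬ q y}) := by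
    rw [← Nat.card_congr (MonoidHom.ofInjective (kerRes_injective A q hq hq')).toEquiv, hker]
  have h2 := card_le_g (Fintype.card {y // ¬ q y}) {y // ¬ q y} (Nat.card_eq_fintype_card)
      (resHom A (fun x => ¬ q x) hq').range (comm_range_resHom A _ hq' hab)
  have hm2 : Fintype.card {y // ¬ q y} ≠ 2 := by
    have h3 : Fintype.card (Subtype q) * t (Fintype.card {y // ¬ q y}) =
        t (Fintype.card {y // ¬ q y} + Fintype.card (Subtype q)) := by
      rw [h6]
      congr 1
      have hsm : Fintype.card {y // ¬ q y} = Fintype.card α - Fintype.card (Subtype q) :=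
        Fintype.card_subtype_compl q
      have hsle : Fintype.card (Subtype q) ≤ Fintype.card α := Fintype.card_subtype_le q
      omega
    exact (eq_cases hs3 h3).2.2
  have h4 := g_lt_two_t _ hm2
  obtain ⟨k, hk⟩ := Subgroup.card_dvd_of_le hle
  rw [h1] at hk ⊢
  have hpos := t_pos (Fintype.card {y // ¬ q y})
  have hk2 : k < 2 := by
    by_contra hc
    have : 2 * t (Fintype.card {y // ¬ q y}) ≤ t (Fintype.card {y // ¬ q y}) * k := by
      rw [mul_comm]
      exact Nat.mul_le_mul_left _ (by omega)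
    omega
  have hk1 : k = 1 := by
    rcases Nat.eq_zero_or_pos k with h0 | h0
    · rw [h0, mul_zero] at hk
      have := Nat.card_pos (α := (resHom A (fun x => ¬ q x) hq').range)
      omega
    · omega
  rw [hk, hk1, mul_one]

/-- the product structure -/
theorem subtypeCongr_mem (A : Subgroup (Perm α)) (hA : Ext A) (hn : 3 ≤ Fintype.card α)
    (q : α → Prop) [DecidablePred q] (hq : ∀ g ∈ A, ∀ x, q (g x) ↔ q x)
    (hq' : ∀ g ∈ A, ∀ x, ¬ q (g x) ↔ ¬ q x) (x : α) (hx : q x)
    (htrans : ∀ y, q y → ∃ a ∈ A, a x = y)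
    (a1 : Perm (Subtype q)) (h1 : a1 ∈ (resHom A q hq).range)
    (a2 : Perm {y // ¬ q y}) (h2 : a2 ∈ (resHom A (fun x => ¬ q x) hq').range) :
    Perm.subtypeCongr a1 a2 ∈ A := by
  have hr := range_compl_eq A hA hn q hq hq' x hx htrans
  obtain ⟨a, rfl⟩ := h1
  obtain ⟨b, hb⟩ := h2
  have h3 : resHom A (fun x => ¬ q x) hq' a ∈ (kerRes A q hq hq').range := by
    rw [hr]; exact ⟨a, rfl⟩
  have h4 : resHom A (fun x => ¬ q x) hq' b ∈ (kerRes A q hq hq').range := by
    rw [hr]; exact ⟨b, rfl⟩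
  obtain ⟨k, hk⟩ := h3
  obtain ⟨k', hk'⟩ := h4
  have hk1 : resHom A q hq k.1 = 1 := k.2
  have hk1' : resHom A q hq k'.1 = 1 := k'.2
  have hk2 : resHom A (fun x => ¬ q x) hq' k.1 = resHom A (fun x => ¬ q x) hq' a := hk
  have hk2' : resHom A (fun x => ¬ q x) hq' k'.1 = resHom A (fun x => ¬ q x) hq' b := hk'
  have h5 := eq_subtypeCongr A q hq hq' (a * k.1⁻¹ * k'.1)
  have e1 : resHom A q hq (a * k.1⁻¹ * k'.1) = resHom A q hq a := by
    rw [map_mul, map_mul, map_inv, hk1, hk1', inv_one, mul_one, mul_one]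
  have e2 : resHom A (fun x => ¬ q x) hq' (a * k.1⁻¹ * k'.1) = a2 := by
    rw [map_mul, map_mul, map_inv, hk2, hk2', mul_inv_cancel, one_mul, hb]
  rw [e1, e2] at h5
  rw [← h5]
  exact (a * k.1⁻¹ * k'.1).2

/-- both factors are extremal -/
theorem ext_range_compl (A : Subgroup (Perm α)) (hA : Ext A) (hn : 3 ≤ Fintype.card α)
    (q : α → Prop) [DecidablePred q] (hq : ∀ g ∈ A, ∀ x, q (g x) ↔ q x)
    (hq' : ∀ g ∈ A, ∀ x, ¬ q (g x) ↔ ¬ q x) (x : α) (hx : q x)
    (htrans : ∀ y, q y → ∃ a ∈ A, a x = y) :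
    Ext (resHom A (fun x => ¬ q x) hq').range := by
  have hr := range_compl_eq A hA hn q hq hq' x hx htrans
  obtain ⟨hs3, h6, hker⟩ := structure_num A hA hn q hq hq' x hx htrans
  obtain ⟨hab, hev, hcard⟩ := hA
  refine ⟨comm_range_resHom A _ hq' hab, ?_, ?_⟩
  · intro a ha
    rw [← hr] at ha
    obtain ⟨k, rfl⟩ := ha
    have h1 : resHom A q hq k.1 = 1 := k.2
    have h2 := sign_eq_mul A q hq hq' k.1
    rw [h1, map_one, one_mul, hev _ k.1.2] at h2
    exact h2.symm
  · rw [← hr, ← Nat.card_congr (MonoidHom.ofInjective (kerRes_injective A q hq hq')).toEquiv, hker]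

theorem card_le_five (A : Subgroup (Perm α)) (hA : Ext A) (hn : 3 ≤ Fintype.card α)
    (q : α → Prop) [DecidablePred q] (hq : ∀ g ∈ A, ∀ x, q (g x) ↔ q x)
    (hq' : ∀ g ∈ A, ∀ x, ¬ q (g x) ↔ ¬ q x) (x : α) (hx : q x)
    (htrans : ∀ y, q y → ∃ a ∈ A, a x = y) :
    Fintype.card (Subtype q) ≤ 5 ∧ (Fintype.card (Subtype q) = 5 → Fintype.card α = 5) := by
  obtain ⟨hs3, h6, hker⟩ := structure_num A hA hn q hq hq' x hx htrans
  have h0 : Fintype.card {y // ¬ q y} + Fintype.card (Subtype q) = Fintype.card α := by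
    have hsm : Fintype.card {y // ¬ q y} = Fintype.card α - Fintype.card (Subtype q) :=
      Fintype.card_subtype_compl q
    have hsle : Fintype.card (Subtype q) ≤ Fintype.card α := Fintype.card_subtype_le q
    omega
  have h3 : Fintype.card (Subtype q) * t (Fintype.card {y // ¬ q y}) =
      t (Fintype.card {y // ¬ q y} + Fintype.card (Subtype q)) := by
    rw [h6, h0]
  have h4 := (eq_cases hs3 h3).1
  constructor
  · rcases h4 with h | h | ⟨h, _⟩ <;> omega
  · intro h5
    rcases h4 with h | h | ⟨h, hm⟩ <;> omega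

theorem ext_range (A : Subgroup (Perm α)) (hA : Ext A) (hn : 3 ≤ Fintype.card α)
    (q : α → Prop) [DecidablePred q] (hq : ∀ g ∈ A, ∀ x, q (g x) ↔ q x)
    (hq' : ∀ g ∈ A, ∀ x, ¬ q (g x) ↔ ¬ q x) (x : α) (hx : q x)
    (htrans : ∀ y, q y → ∃ a ∈ A, a x = y) :
    Ext (resHom A q hq).range := by
  obtain ⟨hs3, h6, hker⟩ := structure_num A hA hn q hq hq' x hx htrans
  obtain ⟨hs5, -⟩ := card_le_five A hA hn q hq hq' x hx htrans
  have hmem := subtypeCongr_mem A hA hn q hq hq' x hx htrans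
  obtain ⟨hab, hev, hcard⟩ := hA
  refine ⟨comm_range_resHom A _ hq hab, ?_, ?_⟩
  · intro a ha
    have h1 := hmem a ha 1 (one_mem _)
    have h2 := hev _ h1
    rw [sign_subtypeCongr, map_one, mul_one] at h2
    exact h2
  · rw [card_range_eq A q hq hab x hx htrans, t_self hs3 hs5]

end Cfsg.Agent.Lib.Helper20.AbAlt
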