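import Mathlib

/-!
Numerics for the bound on nilpotent subgroups of symmetric groups (helper20).
`v2f n` is the 2-adic valuation of `n!`; `B n` is the square of the conjectured maximal order
of a nilpotent subgroup of `S_n`.
-/

set_option autoImplicit false

namespace Cfsg.Agent.Lib.Helper20.NilSym

open Nat

/-- 2-adic valuation of `n!` -/
def v2f (n : ℕ) : ℕ := (n !).factorization 2

theorem v2f_eq (n : ℕ) : v2f n = padicValNat 2 (n !) :=
  Nat.factorization_def _ Nat.prime_two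

theorem v2f_two_mul (k : ℕ) : v2f (2 * k) = k + v2f k := by
  haveI : Fact (Nat.Prime 2) := ⟨Nat.prime_two⟩
  rw [v2f_eq, v2f_eq, padicValNat_factorial_mul, add_comm]

theorem v2f_two_mul_add_one (k : ℕ) : v2f (2 * k + 1) = k + v2f k := by
  haveI : Fact (Nat.Prime 2) := ⟨Nat.prime_two⟩
  rw [v2f_eq, padicValNat_factorial_mul_add k (by norm_num : 1 < 2), ← v2f_eq, v2f_two_mul]

theorem v2f_zero : v2f 0 = 0 := by
  simp [v2f]

theorem v2f_one : v2f 1 = 0 := by
  have := v2f_two_mul_add_one 0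
  simpa [v2f_zero] using this

theorem v2f_add_le (a b : ℕ) : v2f a + v2f b ≤ v2f (a + b) := by
  have h := Nat.factorial_mul_factorial_dvd_factorial_add a b
  have h1 := (Nat.factorization_le_iff_dvd (Nat.mul_ne_zero (Nat.factorial_ne_zero a)
    (Nat.factorial_ne_zero b)) (Nat.factorial_ne_zero (a + b))).mpr h 2
  rw [Nat.factorization_mul (Nat.factorial_ne_zero a) (Nat.factorial_ne_zero b)] at h1
  simpa [v2f] using h1

theorem v2f_mono {a b : ℕ} (h : a ≤ b) : v2f a ≤ v2f b := by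
  obtain ⟨c, rfl⟩ := Nat.exists_eq_add_of_le h
  have := v2f_add_le a c
  omega

theorem v2f_four_mul (x : ℕ) : v2f (4 * x) = 3 * x + v2f x := by
  have h1 : 4 * x = 2 * (2 * x) := by ring
  rw [h1, v2f_two_mul, v2f_two_mul]; ring

theorem v2f_four_mul_add_one (x : ℕ) : v2f (4 * x + 1) = 3 * x + v2f x := by
  have h1 : 4 * x + 1 = 2 * (2 * x) + 1 := by ring
  rw [h1, v2f_two_mul_add_one, v2f_two_mul]; ring

theorem v2f_four_mul_add_two (x : ℕ) : v2f (4 * x + 2) = 3 * x + 1 + v2f x := by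
  have h1 : 4 * x + 2 = 2 * (2 * x + 1) := by ring
  rw [h1, v2f_two_mul, v2f_two_mul_add_one]; ring

theorem v2f_four_mul_add_three (x : ℕ) : v2f (4 * x + 3) = 3 * x + 1 + v2f x := by
  have h1 : 4 * x + 3 = 2 * (2 * x + 1) + 1 := by ring
  rw [h1, v2f_two_mul_add_one, v2f_two_mul_add_one]; ring

/-- the square of the bound -/
def B (n : ℕ) : ℕ := if n % 4 = 3 then 9 * 4 ^ (v2f n - 1) else 4 ^ v2f n

theorem B_of_ne {n : ℕ} (h : n % 4 ≠ 3) : B n = 4 ^ v2f n := by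
  rw [B, if_neg h]

theorem B_three (x : ℕ) : B (4 * x + 3) = 9 * 4 ^ (3 * x + v2f x) := by
  have h : (4 * x + 3) % 4 = 3 := by omega
  rw [B, if_pos h, v2f_four_mul_add_three]
  congr 2
  omega

theorem B_zero (x : ℕ) : B (4 * x) = 4 ^ (3 * x + v2f x) := by
  rw [B_of_ne (by omega), v2f_four_mul]

theorem B_one (x : ℕ) : B (4 * x + 1) = 4 ^ (3 * x + v2f x) := by
  rw [B_of_ne (by omega), v2f_four_mul_add_one]

theorem B_two (x : ℕ) : B (4 * x + 2) = 4 ^ (3 * x + 1 + v2f x) := by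
  rw [B_of_ne (by omega), v2f_four_mul_add_two]

theorem pow_le_B (n : ℕ) : 4 ^ v2f n ≤ B n := by
  by_cases h : n % 4 = 3
  · obtain ⟨x, rfl⟩ : ∃ x, n = 4 * x + 3 := ⟨n / 4, by omega⟩
    rw [B_three, v2f_four_mul_add_three]
    have : 3 * x + 1 + v2f x = (3 * x + v2f x) + 1 := by ring
    rw [this, pow_succ]
    have : 0 < 4 ^ (3 * x + v2f x) := by positivity
    nlinarith
  · rw [B_of_ne h]

theorem B_pos (n : ℕ) : 0 < B n :=
  lt_of_lt_of_le (by positivity) (pow_le_B n)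

theorem aux_pow {e1 e2 : ℕ} (c : ℕ) (d : ℕ) (hc : c ≤ 4 ^ d) (he : e1 + d ≤ e2) :
    c * 4 ^ e1 ≤ 4 ^ e2 := by
  calc c * 4 ^ e1 ≤ 4 ^ d * 4 ^ e1 := Nat.mul_le_mul_right _ hc
    _ = 4 ^ (e1 + d) := by rw [← pow_add, add_comm]
    _ ≤ 4 ^ e2 := Nat.pow_le_pow_right (by norm_num) he

/-- supermultiplicativity when the first argument is `3 mod 4` -/
theorem B_mul_le_three (x b : ℕ) : B (4 * x + 3) * B b ≤ B (4 * x + 3 + b) := by
  obtain ⟨y, r, hr, rfl⟩ : ∃ y r, r < 4 ∧ b = 4 * y + r := ⟨b / 4, b % 4, by omega, by omega⟩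
  have hs := v2f_add_le x y
  have hs1 : v2f (x + y) ≤ v2f (x + y + 1) := v2f_mono (by omega)
  interval_cases r
  · have e : 4 * x + 3 + (4 * y + 0) = 4 * (x + y) + 3 := by ring
    rw [e, B_three, B_three, add_zero, B_zero]
    rw [mul_assoc, ← pow_add]
    apply Nat.mul_le_mul_left
    apply Nat.pow_le_pow_right (by norm_num)
    omega
  · have e : 4 * x + 3 + (4 * y + 1) = 4 * (x + y + 1) := by ring
    rw [e, B_three, B_one, B_zero, mul_assoc, ← pow_add]
    apply aux_pow 9 2 (by norm_num)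
    omega
  · have e : 4 * x + 3 + (4 * y + 2) = 4 * (x + y + 1) + 1 := by ring
    rw [e, B_three, B_two, B_one, mul_assoc, ← pow_add]
    apply aux_pow 9 2 (by norm_num)
    omega
  · have e : 4 * x + 3 + (4 * y + 3) = 4 * (x + y + 1) + 2 := by ring
    rw [e, B_three, B_three, B_two]
    have e2 : 9 * 4 ^ (3 * x + v2f x) * (9 * 4 ^ (3 * y + v2f y)) =
        81 * 4 ^ ((3 * x + v2f x) + (3 * y + v2f y)) := by rw [pow_add]; ring
    rw [e2]
    apply aux_pow 81 4 (by norm_num)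
    omega

theorem B_mul_le (a b : ℕ) : B a * B b ≤ B (a + b) := by
  by_cases ha : a % 4 = 3
  · obtain ⟨x, rfl⟩ : ∃ x, a = 4 * x + 3 := ⟨a / 4, by omega⟩
    exact B_mul_le_three x b
  by_cases hb : b % 4 = 3
  · obtain ⟨y, rfl⟩ : ∃ y, b = 4 * y + 3 := ⟨b / 4, by omega⟩
    rw [mul_comm, add_comm a]
    exact B_mul_le_three y a
  rw [B_of_ne ha, B_of_ne hb, ← pow_add]
  exact le_trans (Nat.pow_le_pow_right (by norm_num) (v2f_add_le a b)) (pow_le_B _)

theorem B_mono {a b : ℕ} (h : a ≤ b) : B a ≤ B b := by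
  obtain ⟨c, rfl⟩ := Nat.exists_eq_add_of_le h
  calc B a = B a * 1 := (mul_one _).symm
    _ ≤ B a * B c := Nat.mul_le_mul_left _ (B_pos c)
    _ ≤ B (a + c) := B_mul_le a c

end Cfsg.Agent.Lib.Helper20.NilSym
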