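import Mathlib
import Cfsg.Agent.Lib.Helper20.NilSymA

/-!
Numerics, part 2: prime power bound and the multiplicative induction.
-/

set_option autoImplicit false

namespace Cfsg.Agent.Lib.Helper20.NilSym

open Nat

theorem pow81_le : ∀ x : ℕ, x ≠ 1 → 81 ^ x ≤ 4 ^ (3 * x + v2f x) := by
  intro x
  induction x using Nat.strong_induction_on with
  | _ x ih =>
    intro hx
    rcases Nat.lt_or_ge x 4 with h4 | h4
    · interval_cases x
      · exact Nat.one_le_pow _ _ (by norm_num)
      · exact absurd rfl hx
      · have : v2f 2 = 1 := by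
          have := v2f_two_mul 1
          rw [v2f_one] at this
          simpa using this
        rw [this]; norm_num
      · have : v2f 3 = 1 := by
          have := v2f_two_mul_add_one 1
          rw [v2f_one] at this
          simpa using this
        rw [this]; norm_num
    · obtain ⟨y, rfl⟩ : ∃ y, x = y + 2 := ⟨x - 2, by omega⟩
      have h1 := ih y (by omega) (by omega)
      have h2 : v2f y + 1 ≤ v2f (y + 2) := by
        have := v2f_add_le y 2
        have h3 : v2f 2 = 1 := by
          have := v2f_two_mul 1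
          rw [v2f_one] at this
          simpa using this
        omega
      calc 81 ^ (y + 2) = 81 ^ y * 6561 := by rw [pow_add]; norm_num
        _ ≤ 4 ^ (3 * y + v2f y) * 4 ^ 7 := Nat.mul_le_mul h1 (by norm_num)
        _ = 4 ^ (3 * y + v2f y + 7) := by rw [← pow_add]
        _ ≤ 4 ^ (3 * (y + 2) + v2f (y + 2)) := Nat.pow_le_pow_right (by norm_num) (by omega)

/-- crude bound for odd `q` -/
theorem three_pow_le_B (q : ℕ) (hodd : q % 2 = 1) (h5 : q ≠ 5) (h7 : q ≠ 7) :
    3 ^ (q - 1) ≤ B q := by
  obtain ⟨x, r, hr, rfl⟩ : ∃ x r, (r = 1 ∨ r = 3) ∧ q = 4 * x + r :=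
    ⟨q / 4, q % 4, by omega, by omega⟩
  have hx : x ≠ 1 := by
    rintro rfl
    rcases hr with rfl | rfl <;> omega
  have h := pow81_le x hx
  rcases hr with rfl | rfl
  · rw [B_one]
    have e : 4 * x + 1 - 1 = 4 * x := by omega
    rw [e, pow_mul]
    simpa using h
  · rw [B_three]
    have e : 4 * x + 3 - 1 = 4 * x + 2 := by omega
    rw [e, pow_add, pow_mul]
    have : (3 : ℕ) ^ 4 = 81 := by norm_num
    rw [this]
    have h9 : (3 : ℕ) ^ 2 = 9 := by norm_num
    rw [h9, mul_comm]
    exact Nat.mul_le_mul_left _ h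

theorem sq_le_three_pow (p : ℕ) (hp : 3 ≤ p) : p ^ 2 ≤ 3 ^ (p - 1) := by
  obtain ⟨k, rfl⟩ : ∃ k, p = k + 3 := ⟨p - 3, by omega⟩
  have e : k + 3 - 1 = k + 2 := by omega
  rw [e]
  induction k with
  | zero => norm_num
  | succ k ih =>
    have ih' := ih (by omega) (by omega)
    have : 3 ^ (k + 1 + 2) = 3 * 3 ^ (k + 2) := by rw [pow_succ]; ring
    rw [this]
    nlinarith

theorem padic_factorial_pow (p : ℕ) [hp : Fact p.Prime] (c : ℕ) :
    (p - 1) * padicValNat p ((p ^ c) !) + 1 = p ^ c := by
  induction c with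
  | zero => simp
  | succ c ih =>
    have h1 : p ^ (c + 1) = p * p ^ c := by rw [pow_succ]; ring
    rw [h1, padicValNat_factorial_mul, mul_add]
    have hp1 : 1 ≤ p := hp.out.one_le
    obtain ⟨t, ht⟩ : ∃ t, p = t + 1 := ⟨p - 1, by omega⟩
    have e : p - 1 = t := by omega
    rw [e] at ih ⊢
    calc t * padicValNat p (p ^ c)! + t * p ^ c + 1
        = (t * padicValNat p (p ^ c)! + 1) + t * p ^ c := by ring
      _ = p ^ c + t * p ^ c := by rw [ih]
      _ = (t + 1) * p ^ c := by ring
      _ = p * p ^ c := by rw [← ht]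

/-- prime power case -/
theorem prime_pow_bound (p : ℕ) (hp : p.Prime) (c e : ℕ) (h : p ^ e ∣ (p ^ c) !) :
    (p ^ e) ^ 2 ≤ B (p ^ c) := by
  haveI : Fact p.Prime := ⟨hp⟩
  have he : e ≤ padicValNat p ((p ^ c) !) :=
    (padicValNat_dvd_iff_le (Nat.factorial_ne_zero _)).mp h
  rcases hp.eq_two_or_odd with rfl | hodd
  · rw [← v2f_eq] at he
    calc (2 ^ e) ^ 2 = 4 ^ e := by rw [← pow_mul, mul_comm, pow_mul]; norm_num
      _ ≤ 4 ^ v2f (2 ^ c) := Nat.pow_le_pow_right (by norm_num) he
      _ ≤ B (2 ^ c) := pow_le_B _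
  · have hp3 : 3 ≤ p := by
      have := hp.two_le
      omega
    have hkey := padic_factorial_pow p c
    have hqodd : (p ^ c) % 2 = 1 := by
      rw [Nat.pow_mod, hodd]; simp
    by_cases hq : p ^ c = 5 ∨ p ^ c = 7
    · have hpc : p ^ c = p ∧ c = 1 := by
        rcases hq with hq | hq
        · have := (Nat.Prime.pow_eq_iff (by norm_num : Nat.Prime 5)).mp hq
          exact ⟨by rw [this.2, pow_one], this.2⟩
        · have := (Nat.Prime.pow_eq_iff (by norm_num : Nat.Prime 7)).mp hq
          exact ⟨by rw [this.2, pow_one], this.2⟩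
      have hkey' : (p - 1) * padicValNat p ((p ^ c) !) + 1 = p := hkey.trans hpc.1
      have hv : padicValNat p ((p ^ c) !) = 1 := by
        have h2 : (p - 1) * padicValNat p ((p ^ c) !) = (p - 1) * 1 := by omega
        exact Nat.eq_of_mul_eq_mul_left (by omega) h2
      have he1 : e ≤ 1 := by omega
      have h3 : p ^ e ≤ p := by
        calc p ^ e ≤ p ^ 1 := Nat.pow_le_pow_right hp.pos he1
          _ = p := pow_one p
      rw [hpc.1] at hq ⊢
      rcases hq with rfl | rfl
      · have : B 5 = 64 := by
          have := B_one 1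
          rw [v2f_one] at this
          simpa using this
        rw [this]
        calc (5 ^ e) ^ 2 ≤ 5 ^ 2 := Nat.pow_le_pow_left h3 2
          _ ≤ 64 := by norm_num
      · have : B 7 = 576 := by
          have := B_three 1
          rw [v2f_one] at this
          simpa using this
        rw [this]
        calc (7 ^ e) ^ 2 ≤ 7 ^ 2 := Nat.pow_le_pow_left h3 2
          _ ≤ 576 := by norm_num
    · push Not at hq
      have h1 := three_pow_le_B (p ^ c) hqodd hq.1 hq.2
      refine le_trans ?_ h1
      have h2 := sq_le_three_pow p hp3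
      calc (p ^ e) ^ 2 = (p ^ 2) ^ e := by rw [← pow_mul, ← pow_mul, mul_comm]
        _ ≤ (3 ^ (p - 1)) ^ e := Nat.pow_le_pow_left h2 e
        _ = 3 ^ ((p - 1) * e) := by rw [← pow_mul]
        _ ≤ 3 ^ (p ^ c - 1) := by
          apply Nat.pow_le_pow_right (by norm_num)
          have h5 : (p - 1) * e ≤ (p - 1) * padicValNat p ((p ^ c) !) :=
            Nat.mul_le_mul_left _ he
          have h6 : (p - 1) * e + 1 ≤ p ^ c := by
            rw [← hkey]; exact Nat.succ_le_succ h5
          exact Nat.le_sub_one_of_lt h6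

/-- the hypothesis extracted from the group theory -/
def H (k m : ℕ) : Prop :=
  ∀ p : ℕ, p.Prime → p ^ (k.factorization p) ∣ (p ^ (m.factorization p)) !

theorem H_ordCompl {k m : ℕ} (h : H k m) (p : ℕ) : H (ordCompl[p] k) (ordCompl[p] m) := by
  intro q hq
  rw [Nat.factorization_ordCompl, Nat.factorization_ordCompl]
  by_cases hqp : q = p
  · subst hqp
    simp
  · rw [Finsupp.erase_ne hqp, Finsupp.erase_ne hqp]
    exact h q hq

theorem sq_le_B_of_H : ∀ m : ℕ, 0 < m → ∀ k : ℕ, 0 < k → H k m → k ^ 2 ≤ B m := by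
  intro m
  induction m using Nat.strong_induction_on with
  | _ m ih =>
    intro hm k hk h
    by_cases hm1 : m = 1
    · subst hm1
      have hk1 : k = 1 := by
        apply Nat.eq_of_factorization_eq hk.ne' one_ne_zero
        intro p
        by_cases hp : p.Prime
        · have := h p hp
          simp only [Nat.factorization_one, Finsupp.coe_zero, Pi.zero_apply, pow_zero,
            Nat.factorial_one, Nat.dvd_one] at this
          have h0 : k.factorization p = 0 := by
            by_contra hne
            have : 1 < p ^ k.factorization p := Nat.one_lt_pow hne hp.one_lt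
            omega
          simp [h0]
        · simp [Nat.factorization_eq_zero_of_not_prime _ hp]
      subst hk1
      exact B_pos 1
    · set p := m.minFac with hpdef
      have hp : p.Prime := Nat.minFac_prime hm1
      have hpm : p ∣ m := Nat.minFac_dvd m
      set c := m.factorization p with hc
      set e := k.factorization p with he
      have hc0 : c ≠ 0 := (hp.factorization_pos_of_dvd hm.ne' hpm).ne'
      have hmm : p ^ c * ordCompl[p] m = m := Nat.ordProj_mul_ordCompl_eq_self m p
      have hkk : p ^ e * ordCompl[p] k = k := Nat.ordProj_mul_ordCompl_eq_self k p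
      have hm1pos : 0 < ordCompl[p] m := Nat.ordCompl_pos p hm.ne'
      have hk1pos : 0 < ordCompl[p] k := Nat.ordCompl_pos p hk.ne'
      have hpc2 : 2 ≤ p ^ c := by
        calc 2 ≤ p := hp.two_le
          _ = p ^ 1 := (pow_one p).symm
          _ ≤ p ^ c := Nat.pow_le_pow_right hp.pos (Nat.one_le_iff_ne_zero.mpr hc0)
      have hlt : ordCompl[p] m < m := by
        conv_rhs => rw [← hmm]
        nlinarith
      have h1 := ih _ hlt hm1pos _ hk1pos (H_ordCompl h p)
      have h2 := prime_pow_bound p hp c e (h p hp)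
      have h3 : k ^ 2 ≤ B (p ^ c) * B (ordCompl[p] m) := by
        calc k ^ 2 = (p ^ e) ^ 2 * (ordCompl[p] k) ^ 2 := by rw [← mul_pow, hkk]
          _ ≤ B (p ^ c) * B (ordCompl[p] m) := Nat.mul_le_mul h2 h1
      by_cases hm1' : ordCompl[p] m = 1
      · have hB1 : B 1 = 1 := by
          have := B_one 0
          simpa [v2f_zero] using this
        rw [hm1', hB1, mul_one] at h3
        rw [hm1', mul_one] at hmm
        rw [hmm] at h3
        exact h3
      · refine le_trans h3 (le_trans (B_mul_le _ _) ?_)
        apply B_mono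
        conv_rhs => rw [← hmm]
        have : 2 ≤ ordCompl[p] m := by omega
        nlinarith

end Cfsg.Agent.Lib.Helper20.NilSym
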