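import Mathlib
import Cfsg.Agent.Lib.Helper29.PrimePowerElement
import Cfsg.Agent.Lib.Helper21.Primary
import Cfsg.Agent.Lib.Helper20.NilSymB

/-!
Transitive nilpotent permutation groups: the Sylow `p`-subgroup acts faithfully on each of its
orbits, which have `p`-power size dividing the degree (helper20).
-/

set_option autoImplicit false

namespace Cfsg.Agent.Lib.Helper20.NilSym

open Subgroup MulAction

universe u v

theorem smul_eq_of_orbit {G : Type u} {X : Type v} [Group G] [MulAction G X]
    [IsPretransitive G X] (S : Subgroup G) [S.Normal]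
    (hS : S ⊔ centralizer (S : Set G) = ⊤) (x₀ : X)
    (s : G) (hs : s ∈ S) (hfix : ∀ u ∈ S, s • u • x₀ = u • x₀) (x : X) : s • x = x := by
  obtain ⟨g, rfl⟩ := exists_smul_eq G x₀ x
  have hg : g ∈ ((S ⊔ centralizer (S : Set G) : Subgroup G) : Set G) := by
    rw [hS]; trivial
  rw [Subgroup.normal_mul] at hg
  obtain ⟨u, hu, v, hv, rfl⟩ := Set.mem_mul.mp hg
  have huv : u * v = v * u := mem_centralizer_iff.mp hv u hu
  have hsv : s * v = v * s := mem_centralizer_iff.mp hv s hs
  rw [huv, mul_smul, ← mul_smul s v, hsv, mul_smul, hfix u hu]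

theorem sylow_sup_centralizer {G : Type u} [Group G] [Finite G] (hG : Group.IsNilpotent G)
    {p : ℕ} [Fact p.Prime] (S : Sylow p G) [(S : Subgroup G).Normal] :
    (S : Subgroup G) ⊔ centralizer ((S : Subgroup G) : Set G) = ⊤ := by
  rw [eq_top_iff]
  intro g _
  have hp : p.Prime := Fact.out
  have hn0 : orderOf g ≠ 0 := (orderOf_pos g).ne'
  have hcop : Nat.Coprime (ordCompl[p] (orderOf g)) (ordProj[p] (orderOf g)) :=
    (Nat.Coprime.pow_left _ (Nat.coprime_ordCompl hp hn0)).symm
  apply Cfsg.Agent.Lib.Helper21.mem_of_pow_mem_of_coprime _ g _ _ hcop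
  · apply mem_sup_left
    have h1 : (g ^ (ordCompl[p] (orderOf g))) ^ (p ^ (orderOf g).factorization p) = 1 := by
      rw [← pow_mul, mul_comm, Nat.ordProj_mul_ordCompl_eq_self, pow_orderOf_eq_one]
    have hz : IsPGroup p (zpowers (g ^ (ordCompl[p] (orderOf g)))) := by
      obtain ⟨j, -, hj⟩ := (Nat.dvd_prime_pow hp).mp (orderOf_dvd_of_pow_eq_one h1)
      apply IsPGroup.of_card (n := j)
      rw [Nat.card_zpowers, hj]
    exact Cfsg.Agent.Lib.Helper29.le_of_isPGroup_of_normal_sylow S _ hz (mem_zpowers _)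
  · apply mem_sup_right
    rw [mem_centralizer_iff]
    intro u hu
    obtain ⟨k, hk⟩ := S.isPGroup' ⟨u, hu⟩
    have hk' : u ^ p ^ k = 1 := by simpa using congrArg Subtype.val hk
    have hord : (orderOf (g ^ ordProj[p] (orderOf g))).Coprime p := by
      rw [orderOf_pow_of_dvd (pow_ne_zero _ hp.ne_zero) (Nat.ordProj_dvd _ p)]
      exact (Nat.coprime_ordCompl hp hn0).symm
    exact Cfsg.Agent.Lib.Helper29.commute_of_isNilpotent_of_coprime hG u _ k hk' hord

/-- The key divisibility for transitive nilpotent groups. -/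
theorem H_of_transitive {G : Type u} {X : Type v} [Group G] [Finite G] [Finite X]
    [Nonempty X] [MulAction G X] [FaithfulSMul G X] [IsPretransitive G X]
    (hG : Group.IsNilpotent G) : H (Nat.card G) (Nat.card X) := by
  intro p hp
  haveI : Fact p.Prime := ⟨hp⟩
  obtain ⟨S⟩ : Nonempty (Sylow p G) := inferInstance
  have hSyl := ((Group.isNilpotent_of_finite_tfae (G := G)).out 0 3).mp hG
  haveI hSn : (S : Subgroup G).Normal := hSyl p inferInstance S
  have hsup := sylow_sup_centralizer hG S
  let x₀ : X := Classical.arbitrary X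
  -- the action of S on its orbit
  let φ : (S : Subgroup G) →* Equiv.Perm (orbit (S : Subgroup G) x₀) :=
    MulAction.toPermHom (S : Subgroup G) (orbit (S : Subgroup G) x₀)
  have hinj : Function.Injective φ := by
    rw [injective_iff_map_eq_one]
    intro s hs
    have hfix : ∀ u ∈ (S : Subgroup G), (s : G) • u • x₀ = u • x₀ := by
      intro u hu
      have h1 : φ s ⟨u • x₀, ⟨⟨u, hu⟩, rfl⟩⟩ = ⟨u • x₀, ⟨⟨u, hu⟩, rfl⟩⟩ := by
        rw [hs]; rfl
      have h2 := congrArg Subtype.val h1
      exact h2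
    have h3 : ∀ x : X, (s : G) • x = x :=
      smul_eq_of_orbit (S : Subgroup G) hsup x₀ s s.2 hfix
    have h4 : (s : G) = 1 := by
      apply FaithfulSMul.eq_of_smul_eq_smul (α := X)
      intro x
      rw [h3 x, one_smul]
    exact Subtype.ext h4
  have hdvd : Nat.card (S : Subgroup G) ∣ (Nat.card (orbit (S : Subgroup G) x₀)).factorial := by
    have := Subgroup.card_dvd_of_injective φ hinj
    rwa [Nat.card_perm] at this
  obtain ⟨j, hj⟩ := S.isPGroup'.card_orbit x₀
  have hblock : IsBlock G (orbit (S : Subgroup G) x₀) := IsBlock.orbit_of_normal x₀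
  have hdvd2 : Nat.card (orbit (S : Subgroup G) x₀) ∣ Nat.card X := by
    rw [Nat.card_coe_set_eq]
    exact hblock.ncard_dvd_card ⟨x₀, mem_orbit_self x₀⟩
  rw [hj] at hdvd hdvd2
  have hX0 : Nat.card X ≠ 0 := Nat.card_pos.ne'
  have hjle : j ≤ (Nat.card X).factorization p :=
    (hp.pow_dvd_iff_le_factorization hX0).mp hdvd2
  rw [← S.card_eq_multiplicity]
  exact dvd_trans hdvd (Nat.factorial_dvd_factorial (Nat.pow_le_pow_right hp.pos hjle))

end Cfsg.Agent.Lib.Helper20.NilSym
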