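import Mathlib
import Cfsg.Agent.Lib.Helper20.SymGenA
import Cfsg.Agent.Lib.Helper20.NilSymC

/-!
Nilpotent subgroups of symmetric groups: `|N|^2 ≤ B n` (helper20).
-/

set_option autoImplicit false

namespace Cfsg.Agent.Lib.Helper20.NilSym

open Subgroup MulAction Equiv

open Cfsg.Agent.Lib.Helper20.SymGen

theorem B_eq_one_zero : B 0 = 1 := by
  have := B_zero 0
  simpa [v2f_zero] using this

/-- product bound for an invariant predicate -/
theorem card_le_mul_of_invariant {α : Type} [Finite α] (N : Subgroup (Perm α)) (q : α → Prop)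
    (hq : ∀ g ∈ N, ∀ x, q (g x) ↔ q x) (hq' : ∀ g ∈ N, ∀ x, ¬ q (g x) ↔ ¬ q x) :
    Nat.card N ≤ Nat.card (resHom N q hq).range * Nat.card (resHom N (fun x => ¬ q x) hq').range := by
  classical
  haveI := Fintype.ofFinite α
  rw [← Nat.card_prod]
  let f : N → (resHom N q hq).range × (resHom N (fun x => ¬ q x) hq').range :=
    fun g => ((resHom N q hq).rangeRestrict g, (resHom N (fun x => ¬ q x) hq').rangeRestrict g)
  apply Nat.card_le_card_of_injective f
  intro g g' h
  have h1 : resHom N q hq g = resHom N q hq g' := by
    have := congrArg (fun z => (z.1 : Perm (Subtype q))) h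
    exact this
  have h2 : resHom N (fun x => ¬ q x) hq' g = resHom N (fun x => ¬ q x) hq' g' := by
    have := congrArg (fun z => (z.2 : Perm {x // ¬ q x})) h
    exact this
  apply Subtype.ext
  rw [eq_mul_of_res N q hq hq' g, eq_mul_of_res N q hq hq' g', h1, h2]

theorem sq_card_le_B : ∀ (n : ℕ) (α : Type) [Finite α], Nat.card α = n →
    ∀ N : Subgroup (Perm α), Group.IsNilpotent N → (Nat.card N) ^ 2 ≤ B n := by
  intro n
  induction n using Nat.strong_induction_on with
  | _ n ih =>
    intro α _ hcard N hN
    classical
    rcases isEmpty_or_nonempty α with hemp | hne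
    · have h1 : Nat.card N = 1 := by
        haveI : Subsingleton (Perm α) := inferInstance
        exact Nat.card_unique
      rw [h1]
      exact B_pos n
    by_cases htr : IsPretransitive N α
    · have hH := H_of_transitive (G := N) (X := α) hN
      rw [hcard] at hH
      have hn0 : 0 < n := by rw [← hcard]; exact Nat.card_pos
      exact sq_le_B_of_H n hn0 _ Nat.card_pos hH
    · -- intransitive
      obtain ⟨x, y, hxy⟩ : ∃ x y : α, y ∉ orbit N x := by
        by_contra hcon
        push Not at hcon
        apply htr
        refine ⟨fun a b => ?_⟩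
        exact hcon a b
      let q : α → Prop := fun z => z ∈ orbit N x
      have hq : ∀ g ∈ N, ∀ z, q (g z) ↔ q z := by
        intro g hg z
        change (g z) ∈ orbit N x ↔ z ∈ orbit N x
        have e : g z = (⟨g, hg⟩ : N) • z := rfl
        rw [e, ← MulAction.orbit_eq_iff, ← MulAction.orbit_eq_iff, MulAction.orbit_smul]
      have hq' : ∀ g ∈ N, ∀ z, ¬ q (g z) ↔ ¬ q z := fun g hg z => not_congr (hq g hg z)
      have hle := card_le_mul_of_invariant N q hq hq'
      have ha : 0 < Nat.card (Subtype q) := by
        haveI : Nonempty (Subtype q) := ⟨⟨x, mem_orbit_self x⟩⟩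
        exact Nat.card_pos
      have hb : 0 < Nat.card {z // ¬ q z} := by
        haveI : Nonempty {z // ¬ q z} := ⟨⟨y, hxy⟩⟩
        exact Nat.card_pos
      have hab : Nat.card (Subtype q) + Nat.card {z // ¬ q z} = n := by
        rw [← hcard, ← Nat.card_sum]
        exact Nat.card_congr (Equiv.sumCompl q)
      have hN1 : Group.IsNilpotent (resHom N q hq).range :=
        Group.nilpotent_of_surjective (resHom N q hq).rangeRestrict
          (resHom N q hq).rangeRestrict_surjective
      have hN2 : Group.IsNilpotent (resHom N (fun z => ¬ q z) hq').range :=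
        Group.nilpotent_of_surjective (resHom N (fun z => ¬ q z) hq').rangeRestrict
          (resHom N (fun z => ¬ q z) hq').rangeRestrict_surjective
      have h1 := ih (Nat.card (Subtype q)) (by omega) (Subtype q) rfl _ hN1
      have h2 := ih (Nat.card {z // ¬ q z}) (by omega) {z // ¬ q z} rfl _ hN2
      calc (Nat.card N) ^ 2
          ≤ (Nat.card (resHom N q hq).range * Nat.card (resHom N (fun x => ¬ q x) hq').range) ^ 2 :=
            Nat.pow_le_pow_left hle 2
        _ = (Nat.card (resHom N q hq).range) ^ 2 *
            (Nat.card (resHom N (fun x => ¬ q x) hq').range) ^ 2 := by rw [mul_pow]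
        _ ≤ B (Nat.card (Subtype q)) * B (Nat.card {z // ¬ q z}) := Nat.mul_le_mul h1 h2
        _ ≤ B (Nat.card (Subtype q) + Nat.card {z // ¬ q z}) := B_mul_le _ _
        _ = B n := by rw [hab]

end Cfsg.Agent.Lib.Helper20.NilSym
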