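import Mathlib
import Cfsg.Agent.Lib.Helper20.NilSymB

/-!
Numerics for nilpotent subgroups of alternating groups (helper20).
`E n` is four times the square of the maximal order of a nilpotent subgroup of `A_n`
(an upper bound for it, sharp for most `n`).
-/

set_option autoImplicit false

namespace Cfsg.Agent.Lib.Helper20.NilSym

open Nat

theorem v2f_2 : v2f 2 = 1 := by
  have := v2f_two_mul 1
  rw [v2f_one] at this
  simpa using this

theorem v2f_3 : v2f 3 = 1 := by
  have := v2f_two_mul_add_one 1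
  rw [v2f_one] at this
  simpa using this

theorem v2f_4 : v2f 4 = 3 := by
  have := v2f_two_mul 2
  rw [v2f_2] at this
  simpa using this

theorem v2f_5 : v2f 5 = 3 := by
  have := v2f_two_mul_add_one 2
  rw [v2f_2] at this
  simpa using this

theorem B_0 : B 0 = 1 := by
  have := B_zero 0
  simpa [v2f_zero] using this

theorem B_1 : B 1 = 1 := by
  have := B_one 0
  simpa [v2f_zero] using this

theorem B_2 : B 2 = 4 := by
  have := B_two 0
  simpa [v2f_zero] using this

theorem B_3 : B 3 = 9 := by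
  have := B_three 0
  simpa [v2f_zero] using this

theorem B_4 : B 4 = 64 := by
  have := B_zero 1
  simpa [v2f_one] using this

theorem B_5 : B 5 = 64 := by
  have := B_one 1
  simpa [v2f_one] using this

theorem B_6 : B 6 = 256 := by
  have := B_two 1
  simpa [v2f_one] using this

theorem B_7 : B 7 = 576 := by
  have := B_three 1
  simpa [v2f_one] using this

theorem B_8 : B 8 = 16384 := by
  have := B_zero 2
  simpa [v2f_2] using this

theorem B_9 : B 9 = 16384 := by
  have := B_one 2
  simpa [v2f_2] using this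

theorem B_10 : B 10 = 65536 := by
  have := B_two 2
  simpa [v2f_2] using this

theorem B_11 : B 11 = 147456 := by
  have := B_three 2
  simpa [v2f_2] using this

theorem B_12 : B 12 = 1048576 := by
  have := B_zero 3
  simpa [v2f_3] using this

theorem B_13 : B 13 = 1048576 := by
  have := B_one 3
  simpa [v2f_3] using this

/-- four times the square of the bound for alternating groups -/
def E (n : ℕ) : ℕ :=
  if n = 0 then 4 else if n = 1 then 4 else if n = 3 then 36 else if n = 5 then 100
  else if n = 6 then 324 else if n = 9 then 26244 else B n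

theorem E_of_ne {n : ℕ} (h0 : n ≠ 0) (h1 : n ≠ 1) (h3 : n ≠ 3) (h5 : n ≠ 5) (h6 : n ≠ 6)
    (h9 : n ≠ 9) : E n = B n := by
  simp [E, h0, h1, h3, h5, h6, h9]

theorem E_0 : E 0 = 4 := by simp [E]
theorem E_1 : E 1 = 4 := by simp [E]
theorem E_3 : E 3 = 36 := by simp [E]
theorem E_5 : E 5 = 100 := by simp [E]
theorem E_6 : E 6 = 324 := by simp [E]
theorem E_9 : E 9 = 26244 := by simp [E]
theorem E_2 : E 2 = 4 := by rw [E_of_ne (by norm_num) (by norm_num) (by norm_num) (by norm_num) (by norm_num) (by norm_num), B_2]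
theorem E_4 : E 4 = 64 := by rw [E_of_ne (by norm_num) (by norm_num) (by norm_num) (by norm_num) (by norm_num) (by norm_num), B_4]
theorem E_7 : E 7 = 576 := by rw [E_of_ne (by norm_num) (by norm_num) (by norm_num) (by norm_num) (by norm_num) (by norm_num), B_7]
theorem E_8 : E 8 = 16384 := by rw [E_of_ne (by norm_num) (by norm_num) (by norm_num) (by norm_num) (by norm_num) (by norm_num), B_8]
theorem E_10 : E 10 = 65536 := by rw [E_of_ne (by norm_num) (by norm_num) (by norm_num) (by norm_num) (by norm_num) (by norm_num), B_10]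
theorem E_11 : E 11 = 147456 := by rw [E_of_ne (by norm_num) (by norm_num) (by norm_num) (by norm_num) (by norm_num) (by norm_num), B_11]
theorem E_12 : E 12 = 1048576 := by rw [E_of_ne (by norm_num) (by norm_num) (by norm_num) (by norm_num) (by norm_num) (by norm_num), B_12]
theorem E_13 : E 13 = 1048576 := by rw [E_of_ne (by norm_num) (by norm_num) (by norm_num) (by norm_num) (by norm_num) (by norm_num), B_13]

/-- exceptional or not -/
theorem E_cases (n : ℕ) : n = 0 ∨ n = 1 ∨ n = 3 ∨ n = 5 ∨ n = 6 ∨ n = 9 ∨ E n = B n := by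
  by_cases h0 : n = 0
  · exact Or.inl h0
  by_cases h1 : n = 1
  · exact Or.inr (Or.inl h1)
  by_cases h3 : n = 3
  · exact Or.inr (Or.inr (Or.inl h3))
  by_cases h5 : n = 5
  · exact Or.inr (Or.inr (Or.inr (Or.inl h5)))
  by_cases h6 : n = 6
  · exact Or.inr (Or.inr (Or.inr (Or.inr (Or.inl h6))))
  by_cases h9 : n = 9
  · exact Or.inr (Or.inr (Or.inr (Or.inr (Or.inr (Or.inl h9)))))
  · exact Or.inr (Or.inr (Or.inr (Or.inr (Or.inr (Or.inr (E_of_ne h0 h1 h3 h5 h6 h9))))))

theorem B_le_E (n : ℕ) : B n ≤ E n := by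
  rcases E_cases n with rfl | rfl | rfl | rfl | rfl | rfl | h
  · rw [B_0, E_0]; norm_num
  · rw [B_1, E_1]; norm_num
  · rw [B_3, E_3]; norm_num
  · rw [B_5, E_5]; norm_num
  · rw [B_6, E_6]; norm_num
  · rw [B_9, E_9]; norm_num
  · rw [h]

theorem E_le_four_B (n : ℕ) : E n ≤ 4 * B n := by
  rcases E_cases n with rfl | rfl | rfl | rfl | rfl | rfl | h
  · rw [B_0, E_0]
  · rw [B_1, E_1]
  · rw [B_3, E_3]
  · rw [B_5, E_5]; norm_num
  · rw [B_6, E_6]; norm_num
  · rw [B_9, E_9]; norm_num
  · rw [h]; omega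

theorem E_le_two_B (n : ℕ) (h0 : n ≠ 0) (h1 : n ≠ 1) (h3 : n ≠ 3) : E n ≤ 2 * B n := by
  rcases E_cases n with rfl | rfl | rfl | rfl | rfl | rfl | h
  · exact absurd rfl h0
  · exact absurd rfl h1
  · exact absurd rfl h3
  · rw [B_5, E_5]; norm_num
  · rw [B_6, E_6]; norm_num
  · rw [B_9, E_9]; norm_num
  · rw [h]; omega

theorem E_mono_succ (b : ℕ) : E b ≤ E (b + 1) := by
  rcases Nat.lt_or_ge b 10 with h | h
  · interval_cases b
    · rw [E_0, E_1]
    · rw [E_1, E_2]
    · rw [E_2, E_3]; norm_num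
    · rw [E_3, E_4]; norm_num
    · rw [E_4, E_5]; norm_num
    · rw [E_5, E_6]; norm_num
    · rw [E_6, E_7]; norm_num
    · rw [E_7, E_8]; norm_num
    · rw [E_8, E_9]; norm_num
    · rw [E_9, E_10]; norm_num
  · rw [E_of_ne (by omega) (by omega) (by omega) (by omega) (by omega) (by omega),
      E_of_ne (by omega) (by omega) (by omega) (by omega) (by omega) (by omega)]
    exact B_mono (by omega)

theorem E_three (b : ℕ) : 9 * E b ≤ E (b + 3) := by
  rcases Nat.lt_or_ge b 10 with h | h
  · interval_cases b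
    · rw [E_0, E_3]
    · rw [E_1, E_4]; norm_num
    · rw [E_2, E_5]; norm_num
    · rw [E_3, E_6]
    · rw [E_4, E_7]
    · rw [E_5, E_8]; norm_num
    · rw [E_6, E_9]; norm_num
    · rw [E_7, E_10]; norm_num
    · rw [E_8, E_11]
    · rw [E_9, E_12]; norm_num
  · rw [E_of_ne (by omega) (by omega) (by omega) (by omega) (by omega) (by omega),
      E_of_ne (by omega) (by omega) (by omega) (by omega) (by omega) (by omega), ← B_3,
      add_comm]
    exact B_mul_le 3 b

/-- the product inequality for `E` -/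
theorem E_mul_le (a b : ℕ) : E a * E b ≤ 4 * E (a + b) := by
  by_cases ha0 : a = 0
  · subst ha0; rw [E_0, zero_add]
  by_cases hb0 : b = 0
  · subst hb0; rw [E_0, add_zero, mul_comm]
  by_cases ha1 : a = 1
  · subst ha1
    rw [E_1, add_comm]
    exact Nat.mul_le_mul_left 4 (E_mono_succ b)
  by_cases hb1 : b = 1
  · subst hb1
    rw [E_1, mul_comm]
    exact Nat.mul_le_mul_left 4 (E_mono_succ a)
  by_cases ha3 : a = 3
  · subst ha3
    rw [E_3, add_comm]
    have := E_three b
    omega
  by_cases hb3 : b = 3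
  · subst hb3
    rw [E_3]
    have := E_three a
    omega
  have h1 := E_le_two_B a ha0 ha1 ha3
  have h2 := E_le_two_B b hb0 hb1 hb3
  calc E a * E b ≤ (2 * B a) * (2 * B b) := Nat.mul_le_mul h1 h2
    _ = 4 * (B a * B b) := by ring
    _ ≤ 4 * B (a + b) := Nat.mul_le_mul_left 4 (B_mul_le a b)
    _ ≤ 4 * E (a + b) := Nat.mul_le_mul_left 4 (B_le_E _)

end Cfsg.Agent.Lib.Helper20.NilSym
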