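import Mathlib
import Cfsg.Agent.Lib.Helper20.NilSymE

/-!
Numerics for nilpotent subgroups of alternating groups, part 2 (helper20).
-/

set_option autoImplicit false

namespace Cfsg.Agent.Lib.Helper20.NilSym

open Nat

theorem four_pow81_le : ∀ x : ℕ, 4 ≤ x → 4 * 81 ^ x ≤ 4 ^ (3 * x + v2f x) := by
  intro x
  induction x using Nat.strong_induction_on with
  | _ x ih =>
    intro hx
    rcases Nat.lt_or_ge x 6 with h6 | h6
    · interval_cases x
      · rw [v2f_4]; norm_num
      · rw [v2f_5]; norm_num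
    · obtain ⟨y, rfl⟩ : ∃ y, x = y + 2 := ⟨x - 2, by omega⟩
      have h1 := ih y (by omega) (by omega)
      have h2 : v2f y + 1 ≤ v2f (y + 2) := by
        have := v2f_add_le y 2
        rw [v2f_2] at this
        omega
      calc 4 * 81 ^ (y + 2) = (4 * 81 ^ y) * 6561 := by rw [pow_add]; norm_num; ring
        _ ≤ 4 ^ (3 * y + v2f y) * 4 ^ 7 := Nat.mul_le_mul h1 (by norm_num)
        _ = 4 ^ (3 * y + v2f y + 7) := by rw [← pow_add]
        _ ≤ 4 ^ (3 * (y + 2) + v2f (y + 2)) := Nat.pow_le_pow_right (by norm_num) (by omega)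

theorem four_three_pow_le_B (q : ℕ) (hodd : q % 2 = 1) (h17 : 17 ≤ q) :
    4 * 3 ^ (q - 1) ≤ B q := by
  obtain ⟨x, r, hr, rfl⟩ : ∃ x r, (r = 1 ∨ r = 3) ∧ q = 4 * x + r :=
    ⟨q / 4, q % 4, by omega, by omega⟩
  have hx : 4 ≤ x := by
    rcases hr with rfl | rfl <;> omega
  have h := four_pow81_le x hx
  rcases hr with rfl | rfl
  · rw [B_one]
    have e : 4 * x + 1 - 1 = 4 * x := by omega
    rw [e, pow_mul]
    simpa using h
  · rw [B_three]
    have e : 4 * x + 3 - 1 = 4 * x + 2 := by omega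
    rw [e, pow_add, pow_mul]
    have : (3 : ℕ) ^ 4 = 81 := by norm_num
    rw [this]
    have h9 : (3 : ℕ) ^ 2 = 9 := by norm_num
    rw [h9]
    calc 4 * (81 ^ x * 9) = 9 * (4 * 81 ^ x) := by ring
      _ ≤ 9 * 4 ^ (3 * x + v2f x) := Nat.mul_le_mul_left _ h

theorem sq_pow_le_three_pow (p : ℕ) (hp : p.Prime) (hp3 : 3 ≤ p) (c e : ℕ)
    (h : p ^ e ∣ (p ^ c) !) : (p ^ e) ^ 2 ≤ 3 ^ (p ^ c - 1) := by
  haveI : Fact p.Prime := ⟨hp⟩
  have he : e ≤ padicValNat p ((p ^ c) !) :=
    (padicValNat_dvd_iff_le (Nat.factorial_ne_zero _)).mp h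
  have hkey := padic_factorial_pow p c
  have h2 := sq_le_three_pow p hp3
  calc (p ^ e) ^ 2 = (p ^ 2) ^ e := by rw [← pow_mul, ← pow_mul, mul_comm]
    _ ≤ (3 ^ (p - 1)) ^ e := Nat.pow_le_pow_left h2 e
    _ = 3 ^ ((p - 1) * e) := by rw [← pow_mul]
    _ ≤ 3 ^ (p ^ c - 1) := by
      apply Nat.pow_le_pow_right (by norm_num)
      have h5 : (p - 1) * e ≤ (p - 1) * padicValNat p ((p ^ c) !) :=
        Nat.mul_le_mul_left _ he
      have h6 : (p - 1) * e + 1 ≤ p ^ c := by
        rw [← hkey]; exact Nat.succ_le_succ h5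
      exact Nat.le_sub_one_of_lt h6

/-- a finite check shared by the small cases -/
theorem small_case (p ν e q b : ℕ) (hp : 0 < p) (he : e ≤ ν) (hb : 4 * (p ^ ν) ^ 2 ≤ b) :
    4 * (p ^ e) ^ 2 ≤ b := by
  refine le_trans ?_ hb
  apply Nat.mul_le_mul_left
  exact Nat.pow_le_pow_left (Nat.pow_le_pow_right hp he) 2

theorem odd_prime_pow_bound_E (p : ℕ) (hp : p.Prime) (hp2 : p ≠ 2) (c e : ℕ)
    (h : p ^ e ∣ (p ^ c) !) : 4 * (p ^ e) ^ 2 ≤ E (p ^ c) := by
  haveI : Fact p.Prime := ⟨hp⟩
  have hp3 : 3 ≤ p := by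
    have := hp.two_le
    omega
  have hodd : p % 2 = 1 := by
    rcases hp.eq_two_or_odd with h2 | h2
    · exact absurd h2 hp2
    · exact h2
  have hqodd : (p ^ c) % 2 = 1 := by
    rw [Nat.pow_mod, hodd]; simp
  rcases Nat.lt_or_ge (p ^ c) 17 with h17 | h17
  · have he : e ≤ padicValNat p ((p ^ c) !) :=
      (padicValNat_dvd_iff_le (Nat.factorial_ne_zero _)).mp h
    have hkey := padic_factorial_pow p c
    generalize padicValNat p ((p ^ c) !) = ν at hkey he
    rcases Nat.eq_zero_or_pos c with rfl | hc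
    · rw [pow_zero] at hkey ⊢
      have hν : (p - 1) * ν = 0 := by omega
      have hν0 : ν = 0 := by
        rcases Nat.mul_eq_zero.mp hν with h0 | h0
        · omega
        · exact h0
      have he0 : e = 0 := by omega
      rw [he0, E_1]; norm_num
    have hp17 : p < 17 := by
      calc p = p ^ 1 := (pow_one p).symm
        _ ≤ p ^ c := Nat.pow_le_pow_right hp.pos hc
        _ < 17 := h17
    have hc3 : c < 3 := by
      by_contra hcon
      push Not at hcon
      have h1 : 3 ^ 3 ≤ p ^ c :=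
        le_trans (Nat.pow_le_pow_left hp3 3) (Nat.pow_le_pow_right hp.pos hcon)
      norm_num at h1
      omega
    interval_cases p
    · -- p = 3
      interval_cases c
      · norm_num at hkey
        rw [pow_one, E_3]
        exact small_case 3 1 e 3 36 (by norm_num) (by omega) (by norm_num)
      · norm_num at hkey
        have : (3 : ℕ) ^ 2 = 9 := by norm_num
        rw [this, E_9]
        exact small_case 3 4 e 9 26244 (by norm_num) (by omega) (by norm_num)
    · norm_num at hp
    · -- p = 5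
      interval_cases c
      · norm_num at hkey
        rw [pow_one, E_5]
        exact small_case 5 1 e 5 100 (by norm_num) (by omega) (by norm_num)
      · norm_num at h17
    · norm_num at hp
    · -- p = 7
      interval_cases c
      · norm_num at hkey
        rw [pow_one, E_7]
        exact small_case 7 1 e 7 576 (by norm_num) (by omega) (by norm_num)
      · norm_num at h17
    · norm_num at hp
    · norm_num at hp
    · norm_num at hp
    · -- p = 11
      interval_cases c
      · norm_num at hkey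
        rw [pow_one, E_11]
        exact small_case 11 1 e 11 147456 (by norm_num) (by omega) (by norm_num)
      · norm_num at h17
    · norm_num at hp
    · -- p = 13
      interval_cases c
      · norm_num at hkey
        rw [pow_one, E_13]
        exact small_case 13 1 e 13 1048576 (by norm_num) (by omega) (by norm_num)
      · norm_num at h17
    · norm_num at hp
    · norm_num at hp
    · norm_num at hp
  · refine le_trans ?_ (B_le_E _)
    refine le_trans ?_ (four_three_pow_le_B _ hqodd h17)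
    exact Nat.mul_le_mul_left 4 (sq_pow_le_three_pow p hp hp3 c e h)

theorem eq_one_of_H_one {k : ℕ} (hk : 0 < k) (h : H k 1) : k = 1 := by
  apply Nat.eq_of_factorization_eq hk.ne' one_ne_zero
  intro p
  by_cases hp : p.Prime
  · have := h p hp
    simp only [Nat.factorization_one, Finsupp.coe_zero, Pi.zero_apply, pow_zero,
      Nat.factorial_one, Nat.dvd_one] at this
    have h0 : k.factorization p = 0 := by
      by_contra hne
      have : 1 < p ^ k.factorization p := Nat.one_lt_pow hne hp.one_lt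
      omega
    simp [h0]
  · simp [Nat.factorization_eq_zero_of_not_prime _ hp]

theorem final_step (m k x y : ℕ) (hpc2 : 2 ≤ x) (hy2 : 2 ≤ y) (hmm : x * y = m)
    (hcop : x.Coprime y) (h3 : k ^ 2 ≤ B x * B y) : 4 * k ^ 2 ≤ E m := by
  by_cases hm6 : m = 6
  · have hx3 : x ≤ 3 := by nlinarith
    have hBB : B x * B y = 36 := by
      interval_cases x
      · have : y = 3 := by omega
        rw [this, B_2, B_3]
      · have : y = 2 := by omega
        rw [this, B_2, B_3]
    rw [hBB] at h3
    rw [hm6, E_6]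
    omega
  · have hsum : x + y + 2 ≤ m := by
      rw [← hmm]
      by_cases hx4 : 4 ≤ x
      · nlinarith
      by_cases hy4 : 4 ≤ y
      · nlinarith
      have hx : x ≤ 3 := by omega
      have hy : y ≤ 3 := by omega
      interval_cases x <;> interval_cases y
      · norm_num at hcop
      · omega
      · omega
      · norm_num at hcop
    calc 4 * k ^ 2 ≤ B 2 * (B x * B y) := by rw [B_2]; exact Nat.mul_le_mul_left 4 h3
      _ ≤ B 2 * B (x + y) := Nat.mul_le_mul_left _ (B_mul_le x y)
      _ ≤ B (2 + (x + y)) := B_mul_le _ _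
      _ ≤ B m := B_mono (by omega)
      _ ≤ E m := B_le_E m

theorem four_sq_le_E_of_H (m : ℕ) (hm : 0 < m) (k : ℕ) (hk : 0 < k) (h : H k m)
    (h2 : ∀ j : ℕ, k ≠ 2 ^ j) : 4 * k ^ 2 ≤ E m := by
  have hm1 : m ≠ 1 := by
    rintro rfl
    exact h2 0 (by rw [eq_one_of_H_one hk h, pow_zero])
  set p := m.minFac with hpdef
  have hp : p.Prime := Nat.minFac_prime hm1
  have hpm : p ∣ m := Nat.minFac_dvd m
  set c := m.factorization p with hc
  set e := k.factorization p with he
  have hc0 : c ≠ 0 := (hp.factorization_pos_of_dvd hm.ne' hpm).ne'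
  have hmm : p ^ c * ordCompl[p] m = m := Nat.ordProj_mul_ordCompl_eq_self m p
  have hkk : p ^ e * ordCompl[p] k = k := Nat.ordProj_mul_ordCompl_eq_self k p
  have hm1pos : 0 < ordCompl[p] m := Nat.ordCompl_pos p hm.ne'
  have hk1pos : 0 < ordCompl[p] k := Nat.ordCompl_pos p hk.ne'
  have hpc2 : 2 ≤ p ^ c := by
    calc 2 ≤ p := hp.two_le
      _ = p ^ 1 := (pow_one p).symm
      _ ≤ p ^ c := Nat.pow_le_pow_right hp.pos (Nat.one_le_iff_ne_zero.mpr hc0)
  have hH1 := H_ordCompl h p
  by_cases hm1' : ordCompl[p] m = 1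
  · rw [hm1'] at hH1 hmm
    have hk1 := eq_one_of_H_one hk1pos hH1
    rw [hk1, mul_one] at hkk
    rw [mul_one] at hmm
    have hp2 : p ≠ 2 := by
      intro hp2
      apply h2 e
      rw [← hkk, hp2]
    have := odd_prime_pow_bound_E p hp hp2 c e (h p hp)
    rw [hmm, hkk] at this
    exact this
  · have hy2 : 2 ≤ ordCompl[p] m := by omega
    have h1 := sq_le_B_of_H _ hm1pos _ hk1pos hH1
    have h2' := prime_pow_bound p hp c e (h p hp)
    have h3 : k ^ 2 ≤ B (p ^ c) * B (ordCompl[p] m) := by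
      calc k ^ 2 = (p ^ e) ^ 2 * (ordCompl[p] k) ^ 2 := by rw [← mul_pow, hkk]
        _ ≤ B (p ^ c) * B (ordCompl[p] m) := Nat.mul_le_mul h2' h1
    have hcop : Nat.Coprime (p ^ c) (ordCompl[p] m) :=
      Nat.Coprime.pow_left _ (Nat.coprime_ordCompl hp hm.ne')
    exact final_step m k _ _ hpc2 hy2 hmm hcop h3

end Cfsg.Agent.Lib.Helper20.NilSym
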