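import Mathlib
import Cfsg.Agent.Lib.Helper20.NilSymD
import Cfsg.Agent.Lib.Helper20.NilSymF

/-!
Nilpotent subgroups of alternating groups: `4 |N|^2 ≤ E n` (helper20).
-/

set_option autoImplicit false

namespace Cfsg.Agent.Lib.Helper20.NilSym

open Subgroup MulAction Equiv Equiv.Perm

open Cfsg.Agent.Lib.Helper20.SymGen

theorem sign_eq_mul_res {α : Type} [Fintype α] [DecidableEq α] (N : Subgroup (Perm α))
    (q : α → Prop) [DecidablePred q]
    (hq : ∀ g ∈ N, ∀ x, q (g x) ↔ q x) (hq' : ∀ g ∈ N, ∀ x, ¬ q (g x) ↔ ¬ q x) (g : N) :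
    sign (g : Perm α) = sign (resHom N q hq g) * sign (resHom N (fun x => ¬ q x) hq' g) := by
  conv_lhs => rw [eq_mul_of_res N q hq hq' g]
  rw [Perm.sign_mul, sign_ofSubtype, sign_ofSubtype]

/-- two-group case -/
theorem four_sq_card_le_of_two_group {α : Type} [Fintype α] [DecidableEq α] (n : ℕ)
    (hcard : Nat.card α = n) (N : Subgroup (Perm α)) (hev : ∀ g ∈ N, sign g = 1) (j : ℕ)
    (hj : Nat.card N = 2 ^ j) : 4 * (Nat.card N) ^ 2 ≤ E n := by
  rcases Nat.lt_or_ge n 2 with hn | hn
  · have hsub : Subsingleton α := by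
      rw [← Finite.card_le_one_iff_subsingleton, hcard]; omega
    have h1 : Nat.card N = 1 := by
      haveI : Subsingleton (Perm α) := inferInstance
      exact Nat.card_unique
    rw [h1]
    interval_cases n
    · rw [E_0]; norm_num
    · rw [E_1]; norm_num
  · haveI : Nontrivial α := by
      rw [← Finite.one_lt_card_iff_nontrivial, hcard]; omega
    have hle : N ≤ alternatingGroup α := fun g hg => mem_alternatingGroup.mpr (hev g hg)
    have h1 : Nat.card N ∣ Nat.card (alternatingGroup α) := Subgroup.card_dvd_of_le hle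
    have h2 : 2 * Nat.card (alternatingGroup α) = n.factorial := by
      rw [two_mul_nat_card_alternatingGroup, Nat.card_perm, hcard]
    have h3 : 2 ^ (j + 1) ∣ n.factorial := by
      rw [← h2, pow_succ, mul_comm, ← hj]
      exact Nat.mul_dvd_mul_left 2 h1
    have h4 : j + 1 ≤ v2f n :=
      (Nat.prime_two.pow_dvd_iff_le_factorization (Nat.factorial_ne_zero n)).mp h3
    calc 4 * (Nat.card N) ^ 2 = 4 ^ (j + 1) := by
          rw [hj, pow_succ 4 j, mul_comm, ← pow_mul, mul_comm j 2, pow_mul]; norm_num
      _ ≤ 4 ^ v2f n := Nat.pow_le_pow_right (by norm_num) h4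
      _ ≤ B n := pow_le_B n
      _ ≤ E n := B_le_E n

/-- if some restriction is odd, we gain a factor two -/
theorem two_mul_card_le {α : Type} [Fintype α] [DecidableEq α] (N : Subgroup (Perm α))
    (hev : ∀ g ∈ N, sign g = 1) (q : α → Prop) [DecidablePred q]
    (hq : ∀ g ∈ N, ∀ x, q (g x) ↔ q x) (hq' : ∀ g ∈ N, ∀ x, ¬ q (g x) ↔ ¬ q x)
    (g₀ : N) (hg₀ : sign (resHom N q hq g₀) = -1) :
    2 * Nat.card N ≤
      Nat.card (resHom N q hq).range * Nat.card (resHom N (fun x => ¬ q x) hq').range := by
  let ψ : (resHom N q hq).range × (resHom N (fun x => ¬ q x) hq').range →* ℤˣ :=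
    (sign.comp (resHom N q hq).range.subtype).coprod
      (sign.comp (resHom N (fun x => ¬ q x) hq').range.subtype)
  have hψ : ∀ z, ψ z = sign (z.1 : Perm (Subtype q)) * sign (z.2 : Perm {x // ¬ q x}) := by
    intro z
    rfl
  let f : N → ψ.ker := fun g =>
    ⟨((resHom N q hq).rangeRestrict g, (resHom N (fun x => ¬ q x) hq').rangeRestrict g), by
      rw [MonoidHom.mem_ker, hψ]
      have := sign_eq_mul_res N q hq hq' g
      rw [hev g g.2] at this
      exact this.symm⟩
  have hf : Function.Injective f := by
    intro g g' h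
    have h0 : (f g : (resHom N q hq).range × (resHom N (fun x => ¬ q x) hq').range) = f g' :=
      congrArg Subtype.val h
    have h1 : resHom N q hq g = resHom N q hq g' := by
      have := congrArg (fun z => (z.1 : Perm (Subtype q))) h0
      exact this
    have h2 : resHom N (fun x => ¬ q x) hq' g = resHom N (fun x => ¬ q x) hq' g' := by
      have := congrArg (fun z => (z.2 : Perm {x // ¬ q x})) h0
      exact this
    apply Subtype.ext
    rw [eq_mul_of_res N q hq hq' g, eq_mul_of_res N q hq hq' g', h1, h2]
  have hle : Nat.card N ≤ Nat.card ψ.ker := Nat.card_le_card_of_injective f hf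
  have hidx : 2 ≤ ψ.ker.index := by
    have h0 : ψ.ker.index ≠ 0 := Subgroup.index_ne_zero_of_finite
    have h1 : ψ.ker.index ≠ 1 := by
      rw [Ne, Subgroup.index_eq_one]
      intro htop
      have hz : ((resHom N q hq).rangeRestrict g₀, 1) ∈ ψ.ker := by
        rw [htop]; exact Subgroup.mem_top _
      rw [MonoidHom.mem_ker, hψ] at hz
      simp only [MonoidHom.coe_rangeRestrict, OneMemClass.coe_one, map_one, mul_one] at hz
      rw [hg₀] at hz
      exact absurd hz (by decide)
    omega
  have hmul := Subgroup.card_mul_index ψ.ker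
  rw [Nat.card_prod] at hmul
  rw [← hmul]
  calc 2 * Nat.card N ≤ ψ.ker.index * Nat.card ψ.ker := Nat.mul_le_mul hidx hle
    _ = Nat.card ψ.ker * ψ.ker.index := mul_comm _ _

theorem four_sq_card_le_E : ∀ (n : ℕ) (α : Type) [Fintype α] [DecidableEq α], Nat.card α = n →
    ∀ N : Subgroup (Perm α), Group.IsNilpotent N → (∀ g ∈ N, sign g = 1) →
      4 * (Nat.card N) ^ 2 ≤ E n := by
  intro n
  induction n using Nat.strong_induction_on with
  | _ n ih =>
    intro α _ _ hcard N hN hev
    classical
    by_cases h2 : ∃ j : ℕ, Nat.card N = 2 ^ j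
    · obtain ⟨j, hj⟩ := h2
      exact four_sq_card_le_of_two_group n hcard N hev j hj
    push Not at h2
    rcases isEmpty_or_nonempty α with hemp | hne
    · exfalso
      apply h2 0
      haveI : Subsingleton (Perm α) := inferInstance
      rw [pow_zero]
      exact Nat.card_unique
    by_cases htr : IsPretransitive N α
    · have hH := H_of_transitive (G := N) (X := α) hN
      rw [hcard] at hH
      have hn0 : 0 < n := by rw [← hcard]; exact Nat.card_pos
      exact four_sq_le_E_of_H n hn0 _ Nat.card_pos hH h2
    · obtain ⟨x, y, hxy⟩ : ∃ x y : α, y ∉ orbit N x := by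
        by_contra hcon
        push Not at hcon
        apply htr
        refine ⟨fun a b => ?_⟩
        exact hcon a b
      let q : α → Prop := fun z => z ∈ orbit N x
      have hq : ∀ g ∈ N, ∀ z, q (g z) ↔ q z := by
        intro g hg z
        change (g z) ∈ orbit N x ↔ z ∈ orbit N x
        have e : g z = (⟨g, hg⟩ : N) • z := rfl
        rw [e, ← MulAction.orbit_eq_iff, ← MulAction.orbit_eq_iff, MulAction.orbit_smul]
      have hq' : ∀ g ∈ N, ∀ z, ¬ q (g z) ↔ ¬ q z := fun g hg z => not_congr (hq g hg z)
      have hle := card_le_mul_of_invariant N q hq hq'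
      have ha : 0 < Nat.card (Subtype q) := by
        haveI : Nonempty (Subtype q) := ⟨⟨x, mem_orbit_self x⟩⟩
        exact Nat.card_pos
      have hb : 0 < Nat.card {z // ¬ q z} := by
        haveI : Nonempty {z // ¬ q z} := ⟨⟨y, hxy⟩⟩
        exact Nat.card_pos
      have hab : Nat.card (Subtype q) + Nat.card {z // ¬ q z} = n := by
        rw [← hcard, ← Nat.card_sum]
        exact Nat.card_congr (Equiv.sumCompl q)
      have hN1 : Group.IsNilpotent (resHom N q hq).range :=
        Group.nilpotent_of_surjective (resHom N q hq).rangeRestrict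
          (resHom N q hq).rangeRestrict_surjective
      have hN2 : Group.IsNilpotent (resHom N (fun z => ¬ q z) hq').range :=
        Group.nilpotent_of_surjective (resHom N (fun z => ¬ q z) hq').rangeRestrict
          (resHom N (fun z => ¬ q z) hq').rangeRestrict_surjective
      by_cases heven : (∀ r ∈ (resHom N q hq).range, sign r = 1) ∧
          (∀ r ∈ (resHom N (fun z => ¬ q z) hq').range, sign r = 1)
      · have h1 := ih (Nat.card (Subtype q)) (by omega) (Subtype q) rfl _ hN1 heven.1
        have h2' := ih (Nat.card {z // ¬ q z}) (by omega) {z // ¬ q z} rfl _ hN2 heven.2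
        have h3 := E_mul_le (Nat.card (Subtype q)) (Nat.card {z // ¬ q z})
        rw [hab] at h3
        have h4 : (Nat.card N) ^ 2 ≤ (Nat.card (resHom N q hq).range) ^ 2 *
            (Nat.card (resHom N (fun x => ¬ q x) hq').range) ^ 2 := by
          rw [← mul_pow]; exact Nat.pow_le_pow_left hle 2
        have h5 : (4 * (Nat.card (resHom N q hq).range) ^ 2) *
            (4 * (Nat.card (resHom N (fun x => ¬ q x) hq').range) ^ 2) ≤ 4 * E n :=
          le_trans (Nat.mul_le_mul h1 h2') h3
        nlinarith
      · -- some restriction is odd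
        have hodd : ∃ g : N, sign (resHom N q hq g) = -1 := by
          by_contra hcon
          push Not at hcon
          apply heven
          have hall : ∀ g : N, sign (resHom N q hq g) = 1 := by
            intro g
            rcases Int.units_eq_one_or (sign (resHom N q hq g)) with h | h
            · exact h
            · exact absurd h (hcon g)
          constructor
          · rintro r ⟨g, rfl⟩
            exact hall g
          · rintro r ⟨g, rfl⟩
            have := sign_eq_mul_res N q hq hq' g
            rw [hev g g.2, hall g, one_mul] at this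
            exact this.symm
        obtain ⟨g₀, hg₀⟩ := hodd
        have h1 := two_mul_card_le N hev q hq hq' g₀ hg₀
        have h3 := sq_card_le_B (Nat.card (Subtype q)) (Subtype q) rfl _ hN1
        have h4 := sq_card_le_B (Nat.card {z // ¬ q z}) {z // ¬ q z} rfl _ hN2
        have h5 := B_mul_le (Nat.card (Subtype q)) (Nat.card {z // ¬ q z})
        rw [hab] at h5
        have h6 := B_le_E n
        have h7 : (2 * Nat.card N) ^ 2 ≤ (Nat.card (resHom N q hq).range) ^ 2 *
            (Nat.card (resHom N (fun x => ¬ q x) hq').range) ^ 2 := by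
          rw [← mul_pow]; exact Nat.pow_le_pow_left h1 2
        have h8 := Nat.mul_le_mul h3 h4
        nlinarith

end Cfsg.Agent.Lib.Helper20.NilSym
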