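import Mathlib
import Cfsg.Agent.Lib.Helper20.NilSymE

/-!
Strict versions of the supermultiplicativity of `B` (helper20), for the analysis of the
extremal nilpotent subgroups of `S_n`, `n ≡ 3 (mod 4)`.
-/

set_option autoImplicit false

namespace Cfsg.Agent.Lib.Helper20.NilSym

open Nat

theorem aux_pow_lt {e1 e2 : ℕ} (c : ℕ) (d : ℕ) (hc : c < 4 ^ d) (he : e1 + d ≤ e2) :
    c * 4 ^ e1 < 4 ^ e2 := by
  calc c * 4 ^ e1 < 4 ^ d * 4 ^ e1 := Nat.mul_lt_mul_of_pos_right hc (by positivity)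
    _ = 4 ^ (e1 + d) := by rw [← pow_add, add_comm]
    _ ≤ 4 ^ e2 := Nat.pow_le_pow_right (by norm_num) he

/-- strictness when the first argument is `3 mod 4` and the second is not `0 mod 4` -/
theorem B_mul_lt_three (x b : ℕ) (hb : b % 4 ≠ 0) : B (4 * x + 3) * B b < B (4 * x + 3 + b) := by
  obtain ⟨y, r, hr, rfl⟩ : ∃ y r, r < 4 ∧ b = 4 * y + r := ⟨b / 4, b % 4, by omega, by omega⟩
  have hs := v2f_add_le x y
  have hs1 : v2f (x + y) ≤ v2f (x + y + 1) := v2f_mono (by omega)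
  interval_cases r
  · omega
  · have e : 4 * x + 3 + (4 * y + 1) = 4 * (x + y + 1) := by ring
    rw [e, B_three, B_one, B_zero, mul_assoc, ← pow_add]
    apply aux_pow_lt 9 2 (by norm_num)
    omega
  · have e : 4 * x + 3 + (4 * y + 2) = 4 * (x + y + 1) + 1 := by ring
    rw [e, B_three, B_two, B_one, mul_assoc, ← pow_add]
    apply aux_pow_lt 9 2 (by norm_num)
    omega
  · have e : 4 * x + 3 + (4 * y + 3) = 4 * (x + y + 1) + 2 := by ring
    rw [e, B_three, B_three, B_two]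
    have e2 : 9 * 4 ^ (3 * x + v2f x) * (9 * 4 ^ (3 * y + v2f y)) =
        81 * 4 ^ ((3 * x + v2f x) + (3 * y + v2f y)) := by rw [pow_add]; ring
    rw [e2]
    apply aux_pow_lt 81 4 (by norm_num)
    omega

theorem pow_lt_B_of_three {n : ℕ} (h : n % 4 = 3) : 4 ^ v2f n < B n := by
  obtain ⟨x, rfl⟩ : ∃ x, n = 4 * x + 3 := ⟨n / 4, by omega⟩
  rw [B_three, v2f_four_mul_add_three]
  have : 3 * x + 1 + v2f x = (3 * x + v2f x) + 1 := by ring
  rw [this, pow_succ]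
  have : 0 < 4 ^ (3 * x + v2f x) := by positivity
  nlinarith

/-- In an equality `B a * B b = B (a + b)` with `a + b ≡ 3 (mod 4)`, one of the summands is
`3 (mod 4)` and the other `0 (mod 4)`. -/
theorem mod_of_B_mul_eq {a b : ℕ} (hab : (a + b) % 4 = 3) (h : B a * B b = B (a + b)) :
    (a % 4 = 3 ∧ b % 4 = 0) ∨ (a % 4 = 0 ∧ b % 4 = 3) := by
  by_cases ha : a % 4 = 3
  · left
    refine ⟨ha, ?_⟩
    by_contra hb
    obtain ⟨x, rfl⟩ : ∃ x, a = 4 * x + 3 := ⟨a / 4, by omega⟩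
    exact (B_mul_lt_three x b hb).ne h
  by_cases hb : b % 4 = 3
  · right
    refine ⟨?_, hb⟩
    by_contra ha0
    obtain ⟨y, rfl⟩ : ∃ y, b = 4 * y + 3 := ⟨b / 4, by omega⟩
    have := B_mul_lt_three y a ha0
    rw [mul_comm, add_comm a] at h
    exact this.ne h
  · exfalso
    rw [B_of_ne ha, B_of_ne hb, ← pow_add] at h
    have h1 : 4 ^ (v2f a + v2f b) ≤ 4 ^ v2f (a + b) :=
      Nat.pow_le_pow_right (by norm_num) (v2f_add_le a b)
    have h2 := pow_lt_B_of_three hab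
    omega

/-- extraction of equalities from a chain -/
theorem eq_of_chain {k k1 k2 a b n : ℕ} (hle : k ≤ k1 * k2) (h1 : k1 ^ 2 ≤ B a) (h2 : k2 ^ 2 ≤ B b)
    (hab : a + b = n) (hk : k ^ 2 = B n) :
    k = k1 * k2 ∧ k1 ^ 2 = B a ∧ k2 ^ 2 = B b ∧ B a * B b = B (a + b) := by
  have h3 : k ^ 2 ≤ (k1 * k2) ^ 2 := Nat.pow_le_pow_left hle 2
  have h4 : (k1 * k2) ^ 2 = k1 ^ 2 * k2 ^ 2 := mul_pow _ _ _
  have h5 : k1 ^ 2 * k2 ^ 2 ≤ B a * B b := Nat.mul_le_mul h1 h2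
  have h6 := B_mul_le a b
  rw [hab] at h6 ⊢
  have e1 : (k1 * k2) ^ 2 = k ^ 2 := by omega
  have e2 : k1 ^ 2 * k2 ^ 2 = B a * B b := by omega
  have e3 : B a * B b = B n := by omega
  have hBa := B_pos a
  have hBb := B_pos b
  refine ⟨?_, ?_, ?_, e3⟩
  · exact ((Nat.pow_left_injective (by norm_num : 2 ≠ 0)) e1).symm
  · by_contra hne
    have hlt : k1 ^ 2 < B a := lt_of_le_of_ne h1 hne
    have : k1 ^ 2 * k2 ^ 2 < B a * B b := by
      calc k1 ^ 2 * k2 ^ 2 ≤ k1 ^ 2 * B b := Nat.mul_le_mul_left _ h2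
        _ < B a * B b := Nat.mul_lt_mul_of_pos_right hlt hBb
    omega
  · by_contra hne
    have hlt : k2 ^ 2 < B b := lt_of_le_of_ne h2 hne
    have : k1 ^ 2 * k2 ^ 2 < B a * B b := by
      calc k1 ^ 2 * k2 ^ 2 ≤ B a * k2 ^ 2 := Nat.mul_le_mul_right _ h1
        _ < B a * B b := Nat.mul_lt_mul_of_pos_left hlt hBa
    omega

end Cfsg.Agent.Lib.Helper20.NilSym
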