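import Mathlib
import Cfsg.Agent.Lib.Helper20.NilSymG
import Cfsg.Agent.Lib.Helper20.NilSymH

/-!
Extremal nilpotent subgroups of `S_n`, `n ≡ 3 (mod 4)`, contain a 3-cycle (helper20).
-/

set_option autoImplicit false

namespace Cfsg.Agent.Lib.Helper20.NilSym

open Subgroup MulAction Equiv Equiv.Perm

open Cfsg.Agent.Lib.Helper20.SymGen

/-- the product of the two restriction maps -/
def resProd {α : Type} (N : Subgroup (Perm α)) (q : α → Prop)
    (hq : ∀ g ∈ N, ∀ x, q (g x) ↔ q x) (hq' : ∀ g ∈ N, ∀ x, ¬ q (g x) ↔ ¬ q x) :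
    N → (resHom N q hq).range × (resHom N (fun x => ¬ q x) hq').range :=
  fun g => ((resHom N q hq).rangeRestrict g, (resHom N (fun x => ¬ q x) hq').rangeRestrict g)

theorem resProd_injective {α : Type} [Fintype α] [DecidableEq α] (N : Subgroup (Perm α))
    (q : α → Prop) [DecidablePred q]
    (hq : ∀ g ∈ N, ∀ x, q (g x) ↔ q x) (hq' : ∀ g ∈ N, ∀ x, ¬ q (g x) ↔ ¬ q x) :
    Function.Injective (resProd N q hq hq') := by
  intro g g' h
  have h1 : resHom N q hq g = resHom N q hq g' := by
    have := congrArg (fun z => (z.1 : Perm (Subtype q))) h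
    exact this
  have h2 : resHom N (fun x => ¬ q x) hq' g = resHom N (fun x => ¬ q x) hq' g' := by
    have := congrArg (fun z => (z.2 : Perm {x // ¬ q x})) h
    exact this
  apply Subtype.ext
  rw [eq_mul_of_res N q hq hq' g, eq_mul_of_res N q hq hq' g', h1, h2]

theorem resProd_surjective {α : Type} [Fintype α] [DecidableEq α] (N : Subgroup (Perm α))
    (q : α → Prop) [DecidablePred q]
    (hq : ∀ g ∈ N, ∀ x, q (g x) ↔ q x) (hq' : ∀ g ∈ N, ∀ x, ¬ q (g x) ↔ ¬ q x)
    (hcard : Nat.card N =
      Nat.card (resHom N q hq).range * Nat.card (resHom N (fun x => ¬ q x) hq').range) :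
    Function.Surjective (resProd N q hq hq') := by
  have := (Nat.bijective_iff_injective_and_card (resProd N q hq hq')).mpr
    ⟨resProd_injective N q hq hq', by rw [Nat.card_prod, hcard]⟩
  exact this.2

theorem isThreeCycle_of_card_three {α : Type} [Fintype α] [DecidableEq α]
    (hα : Fintype.card α = 3) (g : Perm α) (hg : orderOf g = 3) : g.IsThreeCycle := by
  have hp : (orderOf g).Prime := by rw [hg]; exact Nat.prime_three
  obtain ⟨m, hm⟩ := cycleType_prime_order hp
  have h1 := sum_cycleType_le g
  rw [hm, Multiset.sum_replicate, hg, hα] at h1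
  have hm0 : m = 0 := by
    simp only [smul_eq_mul] at h1
    omega
  rw [hm0, hg] at hm
  rw [IsThreeCycle, hm]
  rfl

theorem exists_threeCycle_of_eq : ∀ (n : ℕ) (α : Type) [Fintype α] [DecidableEq α],
    Nat.card α = n → n % 4 = 3 → ∀ N : Subgroup (Perm α), Group.IsNilpotent N →
      (Nat.card N) ^ 2 = B n → ∃ c ∈ N, c.IsThreeCycle := by
  intro n
  induction n using Nat.strong_induction_on with
  | _ n ih =>
    intro α _ _ hcard hn N hN hk
    classical
    haveI hne : Nonempty α := by
      rw [← Finite.card_pos_iff (α := α), hcard]; omega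
    obtain ⟨x0, rfl⟩ : ∃ x, n = 4 * x + 3 := ⟨n / 4, by omega⟩
    by_cases htr : IsPretransitive N α
    · have hH := H_of_transitive (G := N) (X := α) hN
      rw [hcard] at hH
      have h2 : ∀ j : ℕ, Nat.card N ≠ 2 ^ j := by
        intro j hj
        rw [hj, B_three] at hk
        have h3 : 3 ∣ (2 ^ j) ^ 2 := by rw [hk]; exact Dvd.intro _ (by ring : 3 * (3 * 4 ^ (3 * x0 + v2f x0)) = _)
        have h4 := Nat.prime_three.dvd_of_dvd_pow (Nat.prime_three.dvd_of_dvd_pow h3)
        omega
      have h4 := four_sq_le_E_of_H (4 * x0 + 3) (by omega) _ Nat.card_pos hH h2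
      rw [hk] at h4
      have hx0 : x0 = 0 := by
        by_contra hx
        rw [E_of_ne (by omega) (by omega) (by omega) (by omega) (by omega) (by omega)] at h4
        have := B_pos (4 * x0 + 3)
        omega
      subst hx0
      have hB3 : B (4 * 0 + 3) = 9 := B_3
      rw [hB3] at hk
      have hk3 : Nat.card N = 3 := by
        have : (Nat.card N) ^ 2 = 3 ^ 2 := by rw [hk]; norm_num
        exact Nat.pow_left_injective (by norm_num : 2 ≠ 0) this
      have hα : Fintype.card α = 3 := by
        rw [← Nat.card_eq_fintype_card, hcard]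
      haveI : Fact (Nat.Prime 3) := ⟨Nat.prime_three⟩
      obtain ⟨g, hg⟩ := exists_prime_orderOf_dvd_card' (G := N) 3 (by rw [hk3])
      refine ⟨(g : Perm α), g.2, isThreeCycle_of_card_three hα _ ?_⟩
      rw [Subgroup.orderOf_coe]; exact hg
    · obtain ⟨x, y, hxy⟩ : ∃ x y : α, y ∉ orbit N x := by
        by_contra hcon
        push Not at hcon
        apply htr
        refine ⟨fun a b => ?_⟩
        exact hcon a b
      let q : α → Prop := fun z => z ∈ orbit N x
      have hq : ∀ g ∈ N, ∀ z, q (g z) ↔ q z := by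
        intro g hg z
        change (g z) ∈ orbit N x ↔ z ∈ orbit N x
        have e : g z = (⟨g, hg⟩ : N) • z := rfl
        rw [e, ← MulAction.orbit_eq_iff, ← MulAction.orbit_eq_iff, MulAction.orbit_smul]
      have hq' : ∀ g ∈ N, ∀ z, ¬ q (g z) ↔ ¬ q z := fun g hg z => not_congr (hq g hg z)
      have hle := card_le_mul_of_invariant N q hq hq'
      have ha : 0 < Nat.card (Subtype q) := by
        haveI : Nonempty (Subtype q) := ⟨⟨x, mem_orbit_self x⟩⟩
        exact Nat.card_pos
      have hb : 0 < Nat.card {z // ¬ q z} := by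
        haveI : Nonempty {z // ¬ q z} := ⟨⟨y, hxy⟩⟩
        exact Nat.card_pos
      have hab : Nat.card (Subtype q) + Nat.card {z // ¬ q z} = 4 * x0 + 3 := by
        rw [← hcard, ← Nat.card_sum]
        exact Nat.card_congr (Equiv.sumCompl q)
      have hN1 : Group.IsNilpotent (resHom N q hq).range :=
        Group.nilpotent_of_surjective (resHom N q hq).rangeRestrict
          (resHom N q hq).rangeRestrict_surjective
      have hN2 : Group.IsNilpotent (resHom N (fun z => ¬ q z) hq').range :=
        Group.nilpotent_of_surjective (resHom N (fun z => ¬ q z) hq').rangeRestrict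
          (resHom N (fun z => ¬ q z) hq').rangeRestrict_surjective
      have h3 := sq_card_le_B (Nat.card (Subtype q)) (Subtype q) rfl _ hN1
      have h4 := sq_card_le_B (Nat.card {z // ¬ q z}) {z // ¬ q z} rfl _ hN2
      obtain ⟨e1, e2, e3, e4⟩ := eq_of_chain hle h3 h4 hab hk
      have hsurj := resProd_surjective N q hq hq' e1
      rcases mod_of_B_mul_eq (by rw [hab]; omega) e4 with ⟨hma, -⟩ | ⟨-, hmb⟩
      · obtain ⟨c, hc, hc3⟩ := ih (Nat.card (Subtype q)) (by omega) (Subtype q) rfl hma _ hN1 e2
        obtain ⟨g, hg⟩ := hsurj (⟨c, hc⟩, 1)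
        have h1 : resHom N q hq g = c := by
          have := congrArg (fun z => (z.1 : Perm (Subtype q))) hg
          exact this
        have h2 : resHom N (fun x => ¬ q x) hq' g = 1 := by
          have := congrArg (fun z => (z.2 : Perm {x // ¬ q x})) hg
          exact this
        refine ⟨(g : Perm α), g.2, ?_⟩
        rw [eq_mul_of_res N q hq hq' g, h1, h2, map_one, mul_one, IsThreeCycle,
          cycleType_ofSubtype]
        exact hc3
      · obtain ⟨c, hc, hc3⟩ :=
          ih (Nat.card {z // ¬ q z}) (by omega) {z // ¬ q z} rfl hmb _ hN2 e3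
        obtain ⟨g, hg⟩ := hsurj (1, ⟨c, hc⟩)
        have h1 : resHom N q hq g = 1 := by
          have := congrArg (fun z => (z.1 : Perm (Subtype q))) hg
          exact this
        have h2 : resHom N (fun x => ¬ q x) hq' g = c := by
          have := congrArg (fun z => (z.2 : Perm {x // ¬ q x})) hg
          exact this
        refine ⟨(g : Perm α), g.2, ?_⟩
        rw [eq_mul_of_res N q hq hq' g, h1, h2, map_one, one_mul, IsThreeCycle,
          cycleType_ofSubtype]
        exact hc3

end Cfsg.Agent.Lib.Helper20.NilSym
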