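import Mathlib
import Cfsg.Agent.Lib.Helper20.NilSymI

/-!
Conjugacy of the extremal nilpotent subgroups of `S_n`, `n ≡ 3 (mod 4)` (helper20).
-/

set_option autoImplicit false

namespace Cfsg.Agent.Lib.Helper20.NilSym

open Subgroup Equiv Equiv.Perm

open scoped Pointwise

/-- two subgroups of `C` of Sylow order are conjugate by an element of `C` -/
theorem conj_of_card_eq_in_subgroup {G : Type*} [Group G] [Finite G] (p : ℕ) [Fact p.Prime]
    (C A B : Subgroup G) (hA : A ≤ C) (hB : B ≤ C)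
    (hcA : Nat.card A = p ^ (Nat.card C).factorization p)
    (hcB : Nat.card B = p ^ (Nat.card C).factorization p) :
    ∃ h ∈ C, B = A.map (MulAut.conj h).toMonoidHom := by
  have e1 : Nat.card (A.subgroupOf C) = p ^ (Nat.card C).factorization p := by
    rw [← hcA]; exact Nat.card_congr (subgroupOfEquivOfLe hA).toEquiv
  have e2 : Nat.card (B.subgroupOf C) = p ^ (Nat.card C).factorization p := by
    rw [← hcB]; exact Nat.card_congr (subgroupOfEquivOfLe hB).toEquiv
  obtain ⟨h, hh⟩ := MulAction.exists_smul_eq C (Sylow.ofCard (A.subgroupOf C) e1)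
    (Sylow.ofCard (B.subgroupOf C) e2)
  have hh' : MulAut.conj h • (A.subgroupOf C) = B.subgroupOf C := by
    have := congrArg (fun S : Sylow p C => (S : Subgroup C)) hh
    simpa [Sylow.coe_subgroup_smul] using this
  refine ⟨(h : G), h.2, ?_⟩
  ext u
  constructor
  · intro hu
    have hu' : (⟨u, hB hu⟩ : C) ∈ B.subgroupOf C := by
      rw [mem_subgroupOf]; exact hu
    rw [← hh', mem_smul_pointwise_iff_exists] at hu'
    obtain ⟨s, hs, hsu⟩ := hu'
    rw [mem_subgroupOf] at hs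
    refine ⟨(s : G), hs, ?_⟩
    have := congrArg Subtype.val hsu
    simpa [MulAut.smul_def] using this
  · rintro ⟨s, hs, rfl⟩
    have hs' : (⟨s, hA hs⟩ : C) ∈ A.subgroupOf C := by
      rw [mem_subgroupOf]; exact hs
    have h1 : MulAut.conj h • (⟨s, hA hs⟩ : C) ∈ MulAut.conj h • (A.subgroupOf C) :=
      smul_mem_pointwise_smul _ _ _ hs'
    rw [hh', mem_subgroupOf] at h1
    simpa [MulAut.smul_def] using h1

/-- structure of a nilpotent group of order `3 * 2 ^ j` containing a 3-cycle -/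
theorem structure_of_extremal {α : Type} [Fintype α] [DecidableEq α] (N : Subgroup (Perm α))
    (hN : Group.IsNilpotent N) (j : ℕ) (hk : Nat.card N = 3 * 2 ^ j) (c : Perm α) (hc : c ∈ N)
    (hc3 : c.IsThreeCycle) :
    ∃ Q : Subgroup (Perm α), Nat.card Q = 2 ^ j ∧ Q ≤ centralizer {c} ∧ N = zpowers c ⊔ Q := by
  haveI : Fact (Nat.Prime 2) := ⟨Nat.prime_two⟩
  obtain ⟨S⟩ : Nonempty (Sylow 2 N) := inferInstance
  refine ⟨(S : Subgroup N).map N.subtype, ?_, ?_, ?_⟩
  · rw [card_map_of_injective (subtype_injective N), S.card_eq_multiplicity, hk,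
      Nat.factorization_mul (by norm_num) (by positivity)]
    simp [Nat.factorization_eq_zero_of_not_dvd (by norm_num : ¬ 2 ∣ 3),
      Nat.Prime.factorization_pow Nat.prime_two]
  · rintro u ⟨s, hs, rfl⟩
    rw [mem_centralizer_singleton_iff]
    obtain ⟨k, hk2⟩ := S.isPGroup' ⟨s, hs⟩
    have hk2' : s ^ 2 ^ k = 1 := by
      have := congrArg Subtype.val hk2
      simpa using this
    have hord : (orderOf (⟨c, hc⟩ : N)).Coprime 2 := by
      have : orderOf (⟨c, hc⟩ : N) = 3 := by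
        rw [← Subgroup.orderOf_coe]; exact hc3.orderOf
      rw [this]; norm_num
    have := Cfsg.Agent.Lib.Helper29.commute_of_isNilpotent_of_coprime hN s ⟨c, hc⟩ k hk2' hord
    have h2 := congrArg Subtype.val this
    simpa using h2
  · have hQc : Nat.card ((S : Subgroup N).map N.subtype) = 2 ^ j := by
      rw [card_map_of_injective (subtype_injective N), S.card_eq_multiplicity, hk,
        Nat.factorization_mul (by norm_num) (by positivity)]
      simp [Nat.factorization_eq_zero_of_not_dvd (by norm_num : ¬ 2 ∣ 3),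
        Nat.Prime.factorization_pow Nat.prime_two]
    have hle : zpowers c ⊔ (S : Subgroup N).map N.subtype ≤ N :=
      sup_le ((zpowers_le).mpr hc) (map_subtype_le _)
    symm
    apply eq_of_le_of_card_ge hle
    rw [hk]
    apply Nat.le_of_dvd Nat.card_pos
    apply Nat.Coprime.mul_dvd_of_dvd_of_dvd
    · exact Nat.Coprime.pow_right j (by norm_num)
    · have h3 : Nat.card (zpowers c) = 3 := by rw [Nat.card_zpowers, hc3.orderOf]
      rw [← h3]
      exact card_dvd_of_le le_sup_left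
    · rw [← hQc]
      exact card_dvd_of_le le_sup_right

theorem sq_eq_B_three (x : ℕ) : (3 * 2 ^ v2f (4 * x)) ^ 2 = B (4 * x + 3) := by
  rw [B_three, v2f_four_mul, mul_pow, ← pow_mul, mul_comm (3 * x + v2f x) 2, pow_mul]
  norm_num

theorem conj_of_extremal {α : Type} [Fintype α] [DecidableEq α] (x : ℕ)
    (hcard : Nat.card α = 4 * x + 3) (N₁ N₂ : Subgroup (Perm α))
    (h1 : Group.IsNilpotent N₁) (h2 : Group.IsNilpotent N₂)
    (hk1 : Nat.card N₁ = 3 * 2 ^ v2f (4 * x)) (hk2 : Nat.card N₂ = 3 * 2 ^ v2f (4 * x)) :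
    ∃ g : Perm α, N₂ = N₁.map (MulAut.conj g).toMonoidHom := by
  haveI : Fact (Nat.Prime 2) := ⟨Nat.prime_two⟩
  obtain ⟨c₁, hc₁, h31⟩ := exists_threeCycle_of_eq (4 * x + 3) α hcard (by omega) N₁ h1
    (by rw [hk1, sq_eq_B_three])
  obtain ⟨c₂, hc₂, h32⟩ := exists_threeCycle_of_eq (4 * x + 3) α hcard (by omega) N₂ h2
    (by rw [hk2, sq_eq_B_three])
  obtain ⟨Q₁, hQ₁c, hQ₁z, hN₁⟩ := structure_of_extremal N₁ h1 _ hk1 c₁ hc₁ h31
  obtain ⟨Q₂, hQ₂c, hQ₂z, hN₂⟩ := structure_of_extremal N₂ h2 _ hk2 c₂ hc₂ h32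
  obtain ⟨g₀, hg₀⟩ : ∃ g₀ : Perm α, g₀ * c₁ * g₀⁻¹ = c₂ := by
    have : IsConj c₁ c₂ := isConj_iff_cycleType_eq.mpr (by rw [h31.cycleType, h32.cycleType])
    exact isConj_iff.mp this
  have hα : Fintype.card α = 4 * x + 3 := by rw [← Nat.card_eq_fintype_card, hcard]
  have hC : Nat.card (centralizer {c₂}) = (4 * x).factorial * 3 := by
    rw [nat_card_centralizer, h32.cycleType, hα]
    simp
  have hfac : (Nat.card (centralizer {c₂})).factorization 2 = v2f (4 * x) := by
    rw [hC, Nat.factorization_mul (Nat.factorial_ne_zero _) (by norm_num)]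
    simp [v2f, Nat.factorization_eq_zero_of_not_dvd (by norm_num : ¬ 2 ∣ 3)]
  have hQ₁'z : Q₁.map (MulAut.conj g₀).toMonoidHom ≤ centralizer {c₂} := by
    rintro u ⟨v, hv, rfl⟩
    rw [mem_centralizer_singleton_iff]
    have hvc := hQ₁z hv
    rw [mem_centralizer_singleton_iff] at hvc
    simp only [MulEquiv.coe_toMonoidHom, MulAut.conj_apply]
    rw [← hg₀]
    calc g₀ * v * g₀⁻¹ * (g₀ * c₁ * g₀⁻¹) = g₀ * (v * c₁) * g₀⁻¹ := by group
      _ = g₀ * (c₁ * v) * g₀⁻¹ := by rw [hvc]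
      _ = g₀ * c₁ * g₀⁻¹ * (g₀ * v * g₀⁻¹) := by group
  have hQ₁'c : Nat.card (Q₁.map (MulAut.conj g₀).toMonoidHom) = 2 ^ v2f (4 * x) := by
    rw [card_map_of_injective (MulAut.conj g₀).injective, hQ₁c]
  obtain ⟨h, hhC, hQ₂eq⟩ := conj_of_card_eq_in_subgroup 2 (centralizer {c₂})
    (Q₁.map (MulAut.conj g₀).toMonoidHom) Q₂ hQ₁'z hQ₂z (by rw [hQ₁'c, hfac]) (by rw [hQ₂c, hfac])
  rw [mem_centralizer_singleton_iff] at hhC
  refine ⟨h * g₀, ?_⟩
  rw [hN₁, hN₂, Subgroup.map_sup, MonoidHom.map_zpowers]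
  congr 1
  · congr 1
    simp only [MulEquiv.coe_toMonoidHom, MulAut.conj_apply]
    calc c₂ = c₂ * h * h⁻¹ := by group
      _ = h * c₂ * h⁻¹ := by rw [hhC]
      _ = h * g₀ * c₁ * (h * g₀)⁻¹ := by rw [← hg₀]; group
  · rw [hQ₂eq, Subgroup.map_map]
    congr 1

end Cfsg.Agent.Lib.Helper20.NilSym
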