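import Mathlib
import Cfsg.Agent.Lib.Helper20.AbAltC
import Cfsg.Agent.Lib.Helper20.NilSymJ

/-!
Conjugacy of the extremal even abelian permutation groups (helper20).
-/

set_option autoImplicit false

namespace Cfsg.Agent.Lib.Helper20.AbAlt

open Subgroup MulAction Equiv Equiv.Perm

open Cfsg.Agent.S2505 Cfsg.Agent.Lib.Helper19.AltAbelian

open Cfsg.Agent.Lib.Helper20.SymGen

/-- glue two equivalences along complementary subtypes -/
def glue {α β : Type} (qA : α → Prop) (qB : β → Prop) [DecidablePred qA] [DecidablePred qB]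
    (e1 : Subtype qA ≃ Subtype qB) (e2 : {y // ¬ qA y} ≃ {y // ¬ qB y}) : α ≃ β :=
  (Equiv.sumCompl qA).symm.trans ((Equiv.sumCongr e1 e2).trans (Equiv.sumCompl qB))

theorem glue_apply_pos {α β : Type} (qA : α → Prop) (qB : β → Prop) [DecidablePred qA] [DecidablePred qB]
    (e1 : Subtype qA ≃ Subtype qB) (e2 : {y // ¬ qA y} ≃ {y // ¬ qB y}) (y : α) (hy : qA y) :
    glue qA qB e1 e2 y = e1 ⟨y, hy⟩ := by
  simp [glue, Equiv.sumCompl_symm_apply_of_pos, hy]

theorem glue_apply_neg {α β : Type} (qA : α → Prop) (qB : β → Prop) [DecidablePred qA] [DecidablePred qB]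
    (e1 : Subtype qA ≃ Subtype qB) (e2 : {y // ¬ qA y} ≃ {y // ¬ qB y}) (y : α) (hy : ¬ qA y) :
    glue qA qB e1 e2 y = e2 ⟨y, hy⟩ := by
  simp [glue, Equiv.sumCompl_symm_apply_of_neg, hy]

theorem glue_symm_apply_pos {α β : Type} (qA : α → Prop) (qB : β → Prop) [DecidablePred qA] [DecidablePred qB]
    (e1 : Subtype qA ≃ Subtype qB) (e2 : {y // ¬ qA y} ≃ {y // ¬ qB y}) (z : β) (hz : qB z) :
    (glue qA qB e1 e2).symm z = e1.symm ⟨z, hz⟩ := by
  simp [glue, Equiv.sumCompl_symm_apply_of_pos, hz]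

theorem glue_symm_apply_neg {α β : Type} (qA : α → Prop) (qB : β → Prop) [DecidablePred qA] [DecidablePred qB]
    (e1 : Subtype qA ≃ Subtype qB) (e2 : {y // ¬ qA y} ≃ {y // ¬ qB y}) (z : β) (hz : ¬ qB z) :
    (glue qA qB e1 e2).symm z = e2.symm ⟨z, hz⟩ := by
  simp [glue, Equiv.sumCompl_symm_apply_of_neg, hz]

theorem permCongr_subtypeCongr {α β : Type} (qA : α → Prop) (qB : β → Prop) [DecidablePred qA] [DecidablePred qB]
    (e1 : Subtype qA ≃ Subtype qB) (e2 : {y // ¬ qA y} ≃ {y // ¬ qB y})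
    (a1 : Perm (Subtype qA)) (a2 : Perm {y // ¬ qA y}) :
    (glue qA qB e1 e2).permCongr (Perm.subtypeCongr a1 a2) =
      Perm.subtypeCongr (e1.permCongr a1) (e2.permCongr a2) := by
  ext z
  rw [Equiv.permCongr_apply]
  by_cases hz : qB z
  · rw [Perm.subtypeCongr.left_apply _ _ hz, glue_symm_apply_pos _ _ _ _ _ hz,
      Perm.subtypeCongr.left_apply _ _ (e1.symm ⟨z, hz⟩).2, Equiv.permCongr_apply]
    rw [glue_apply_pos _ _ _ _ _ (a1 (e1.symm ⟨z, hz⟩)).2]
  · rw [Perm.subtypeCongr.right_apply _ _ hz, glue_symm_apply_neg _ _ _ _ _ hz,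
      Perm.subtypeCongr.right_apply _ _ (e2.symm ⟨z, hz⟩).2, Equiv.permCongr_apply]
    rw [glue_apply_neg _ _ _ _ _ (a2 (e2.symm ⟨z, hz⟩)).2]

theorem factorization_of_eq {N p k r : ℕ} (hp : p.Prime) (hN : N = p ^ k * r) (hr : ¬ p ∣ r) :
    N.factorization p = k := by
  have hr0 : r ≠ 0 := by rintro rfl; exact hr (dvd_zero p)
  have hpk : p ^ k ≠ 0 := pow_ne_zero _ hp.ne_zero
  rw [hN, Nat.factorization_mul hpk hr0, Nat.factorization_pow]
  simp [hp.factorization_self, Nat.factorization_eq_zero_of_not_dvd hr]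

/-- for `3 ≤ n ≤ 5` an extremal group is a Sylow subgroup of the alternating group -/
theorem exists_sylow_prime {β : Type} [Fintype β] [DecidableEq β] (h3 : 3 ≤ Fintype.card β)
    (h5 : Fintype.card β ≤ 5) :
    ∃ p : ℕ, p.Prime ∧
      p ^ (Nat.card (alternatingGroup β)).factorization p = t (Fintype.card β) := by
  haveI : Nontrivial β := Fintype.one_lt_card_iff_nontrivial.mp (by omega)
  have h1 : 2 * Nat.card (alternatingGroup β) = (Fintype.card β).factorial := by
    rw [two_mul_nat_card_alternatingGroup, Nat.card_perm, Nat.card_eq_fintype_card]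
  generalize Fintype.card β = n at *
  interval_cases n
  · refine ⟨3, Nat.prime_three, ?_⟩
    have h2 : Nat.card (alternatingGroup β) = 3 := by
      have : (3 : ℕ).factorial = 6 := by decide
      omega
    rw [h2, factorization_of_eq Nat.prime_three (k := 1) (r := 1) (by norm_num) (by norm_num)]
    simp [t]
  · refine ⟨2, Nat.prime_two, ?_⟩
    have h2 : Nat.card (alternatingGroup β) = 12 := by
      have : (4 : ℕ).factorial = 24 := by decide
      omega
    rw [h2, factorization_of_eq Nat.prime_two (k := 2) (r := 3) (by norm_num) (by norm_num)]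
    simp [t]
  · refine ⟨5, Nat.prime_five, ?_⟩
    have h2 : Nat.card (alternatingGroup β) = 60 := by
      have : (5 : ℕ).factorial = 120 := by decide
      omega
    rw [h2, factorization_of_eq Nat.prime_five (k := 1) (r := 12) (by norm_num) (by norm_num)]
    simp [t]

theorem ext_map {α β : Type} [Fintype α] [DecidableEq α] [Fintype β] [DecidableEq β]
    (e : α ≃ β) (A : Subgroup (Perm α)) (hA : Ext A) : Ext (A.map e.permCongrHom.toMonoidHom) := by
  obtain ⟨hab, hev, hcard⟩ := hA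
  refine ⟨?_, ?_, ?_⟩
  · rintro _ ⟨a, ha, rfl⟩ _ ⟨b, hb, rfl⟩
    rw [← map_mul, ← map_mul, hab a ha b hb]
  · rintro _ ⟨a, ha, rfl⟩
    show sign (e.permCongr a) = 1
    rw [sign_permCongr]
    exact hev a ha
  · rw [Subgroup.card_map_of_injective e.permCongrHom.injective, hcard, Fintype.card_congr e]

theorem conj_base {α β : Type} [Fintype α] [DecidableEq α] [Fintype β] [DecidableEq β]
    (hαβ : Fintype.card α = Fintype.card β) (h3 : 3 ≤ Fintype.card β) (h5 : Fintype.card β ≤ 5)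
    (A : Subgroup (Perm α)) (B : Subgroup (Perm β)) (hA : Ext A) (hB : Ext B) :
    ∃ e : α ≃ β, B = A.map e.permCongrHom.toMonoidHom := by
  obtain ⟨p, hp, hpt⟩ := exists_sylow_prime h3 h5
  haveI : Fact p.Prime := ⟨hp⟩
  set e0 : α ≃ β := Fintype.equivOfCardEq hαβ with he0
  have hA' := ext_map e0 A hA
  have hle : ∀ C : Subgroup (Perm β), Ext C → C ≤ alternatingGroup β :=
    fun C hC c hc => mem_alternatingGroup.mpr (hC.2.1 c hc)
  obtain ⟨h, -, hh⟩ := NilSym.conj_of_card_eq_in_subgroup p (alternatingGroup β)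
    (A.map e0.permCongrHom.toMonoidHom) B (hle _ hA') (hle _ hB)
    (by rw [hA'.2.2, hpt]) (by rw [hB.2.2, hpt])
  refine ⟨e0.trans h, ?_⟩
  rw [hh, Subgroup.map_map]
  congr 1


end Cfsg.Agent.Lib.Helper20.AbAlt
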