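import Mathlib
import Cfsg.Agent.Lib.Helper20.AbAltD

/-!
Conjugacy of the extremal even abelian permutation groups: the induction (helper20).
-/

set_option autoImplicit false

namespace Cfsg.Agent.Lib.Helper20.AbAlt

open Subgroup MulAction Equiv Equiv.Perm

open Cfsg.Agent.S2505 Cfsg.Agent.Lib.Helper19.AltAbelian

open Cfsg.Agent.Lib.Helper20.SymGen

/-- membership in the orbit of `x` -/
def orbPred {α : Type} (A : Subgroup (Perm α)) (x : α) : α → Prop := fun y => ∃ a ∈ A, a x = y

theorem orbPred_self {α : Type} (A : Subgroup (Perm α)) (x : α) : orbPred A x x :=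
  ⟨1, A.one_mem, rfl⟩

theorem orbPred_inv {α : Type} (A : Subgroup (Perm α)) (x : α) :
    ∀ g ∈ A, ∀ y, orbPred A x (g y) ↔ orbPred A x y := by
  intro a ha y
  constructor
  · rintro ⟨b, hb, hby⟩
    refine ⟨a⁻¹ * b, A.mul_mem (A.inv_mem ha) hb, ?_⟩
    rw [Perm.mul_apply, hby]; simp
  · rintro ⟨b, hb, rfl⟩
    exact ⟨a * b, A.mul_mem ha hb, rfl⟩

theorem orbPred_inv' {α : Type} (A : Subgroup (Perm α)) (x : α) :
    ∀ g ∈ A, ∀ y, ¬ orbPred A x (g y) ↔ ¬ orbPred A x y :=
  fun g hg y => not_congr (orbPred_inv A x g hg y)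

theorem orbPred_trans {α : Type} (A : Subgroup (Perm α)) (x : α) :
    ∀ y, orbPred A x y → ∃ a ∈ A, a x = y := fun _ h => h

/-- an extremal group of degree at least six has an orbit of the canonical size -/
theorem exists_orbit_card {α : Type} [Fintype α] [DecidableEq α] (A : Subgroup (Perm α))
    (hA : Ext A) (hn : 6 ≤ Fintype.card α) [∀ x, DecidablePred (orbPred A x)] :
    ∃ x, Fintype.card (Subtype (orbPred A x)) = if 2 ∣ t (Fintype.card α) then 4 else 3 := by
  by_cases h2 : 2 ∣ t (Fintype.card α)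
  · haveI : Fact (Nat.Prime 2) := ⟨Nat.prime_two⟩
    obtain ⟨u, hu⟩ := exists_prime_orderOf_dvd_card' (G := A) 2 (by rw [hA.2.2]; exact h2)
    have hu1 : (u : Perm α) ≠ 1 := by
      intro h
      have : u = 1 := Subtype.ext h
      rw [this, orderOf_one] at hu
      omega
    obtain ⟨x, hx⟩ : ∃ x, (u : Perm α) x ≠ x := by
      by_contra hall
      push Not at hall
      exact hu1 (Equiv.ext hall)
    refine ⟨x, ?_⟩
    rw [if_pos h2]
    have hs3 := (structure_num A hA (by omega) (orbPred A x) (orbPred_inv A x) (orbPred_inv' A x) x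
      (orbPred_self A x) (orbPred_trans A x)).1
    have hs5 := (card_le_five A hA (by omega) (orbPred A x) (orbPred_inv A x) (orbPred_inv' A x) x
      (orbPred_self A x) (orbPred_trans A x)).1
    have hdvd : 2 ∣ Fintype.card (Subtype (orbPred A x)) := by
      have h1 : (resHom A (orbPred A x) (orbPred_inv A x) u) ^ 2 = 1 := by
        rw [← map_pow, ← hu, pow_orderOf_eq_one, map_one]
      have h2 := two_dvd_card_support h1
      have h3 : (resHom A (orbPred A x) (orbPred_inv A x) u).support = Finset.univ := by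
        ext ⟨y, hy⟩
        simp only [mem_support, Finset.mem_univ, iff_true]
        obtain ⟨b, hb, rfl⟩ := hy
        intro hc
        have h4 : (u : Perm α) (b x) = b x := congrArg Subtype.val hc
        have h5 : (u : Perm α) (b x) = b ((u : Perm α) x) := by
          calc (u : Perm α) (b x) = ((u : Perm α) * b) x := rfl
            _ = (b * (u : Perm α)) x := by rw [hA.1 u u.2 b hb]
            _ = b ((u : Perm α) x) := rfl
        rw [h5] at h4
        exact hx (b.injective h4)
      rw [h3, Finset.card_univ] at h2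
      exact h2
    omega
  · obtain ⟨x⟩ : Nonempty α := Fintype.card_pos_iff.mp (by omega)
    refine ⟨x, ?_⟩
    rw [if_neg h2]
    obtain ⟨hs3, h6, -⟩ := structure_num A hA (by omega) (orbPred A x) (orbPred_inv A x)
      (orbPred_inv' A x) x (orbPred_self A x) (orbPred_trans A x)
    obtain ⟨hs5, h55⟩ := card_le_five A hA (by omega) (orbPred A x) (orbPred_inv A x)
      (orbPred_inv' A x) x (orbPred_self A x) (orbPred_trans A x)
    have hodd : ¬ 2 ∣ Fintype.card (Subtype (orbPred A x)) := by
      intro hd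
      apply h2
      rw [← h6]
      exact Dvd.dvd.mul_right hd _
    have hne5 : Fintype.card (Subtype (orbPred A x)) ≠ 5 := by
      intro h
      have := h55 h
      omega
    omega

theorem conj_all : ∀ (n : ℕ) (α β : Type) [Fintype α] [DecidableEq α] [Fintype β] [DecidableEq β],
    Fintype.card α = n → Fintype.card β = n →
    ∀ (A : Subgroup (Perm α)) (B : Subgroup (Perm β)), Ext A → Ext B →
      ∃ e : α ≃ β, B = A.map e.permCongrHom.toMonoidHom := by
  intro n
  induction n using Nat.strong_induction_on with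
  | _ n ih =>
    intro α β _ _ _ _ hα hβ A B hA hB
    rcases Nat.lt_or_ge n 3 with h3 | h3
    · have ht : t n = 1 := by interval_cases n <;> simp [t]
      have hA1 : A = ⊥ := Subgroup.eq_bot_of_card_eq A (by rw [hA.2.2, hα, ht])
      have hB1 : B = ⊥ := Subgroup.eq_bot_of_card_eq B (by rw [hB.2.2, hβ, ht])
      refine ⟨Fintype.equivOfCardEq (hα.trans hβ.symm), ?_⟩
      rw [hA1, hB1, Subgroup.map_bot]
    rcases Nat.lt_or_ge n 6 with h6 | h6
    · exact conj_base (hα.trans hβ.symm) (by omega) (by omega) A B hA hB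
    classical
    obtain ⟨x, hx⟩ := exists_orbit_card A hA (by omega)
    obtain ⟨y, hy⟩ := exists_orbit_card B hB (by omega)
    rw [hα] at hx
    rw [hβ] at hy
    have hA3 : 3 ≤ Fintype.card α := by omega
    have hB3 : 3 ≤ Fintype.card β := by omega
    have hc : (if 2 ∣ t n then 4 else 3) < n := by split_ifs <;> omega
    have hc0 : 0 < (if 2 ∣ t n then 4 else 3) := by split_ifs <;> omega
    -- the two factors
    have hA1 := ext_range A hA hA3 (orbPred A x) (orbPred_inv A x) (orbPred_inv' A x) x
      (orbPred_self A x) (orbPred_trans A x)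
    have hA2 := ext_range_compl A hA hA3 (orbPred A x) (orbPred_inv A x) (orbPred_inv' A x) x
      (orbPred_self A x) (orbPred_trans A x)
    have hB1 := ext_range B hB hB3 (orbPred B y) (orbPred_inv B y) (orbPred_inv' B y) y
      (orbPred_self B y) (orbPred_trans B y)
    have hB2 := ext_range_compl B hB hB3 (orbPred B y) (orbPred_inv B y) (orbPred_inv' B y) y
      (orbPred_self B y) (orbPred_trans B y)
    have hAmem := subtypeCongr_mem A hA hA3 (orbPred A x) (orbPred_inv A x) (orbPred_inv' A x) x
      (orbPred_self A x) (orbPred_trans A x)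
    have hBmem := subtypeCongr_mem B hB hB3 (orbPred B y) (orbPred_inv B y) (orbPred_inv' B y) y
      (orbPred_self B y) (orbPred_trans B y)
    have hcA : Fintype.card {z // ¬ orbPred A x z} = n - (if 2 ∣ t n then 4 else 3) := by
      rw [Fintype.card_subtype_compl, hα, hx]
    have hcB : Fintype.card {z // ¬ orbPred B y z} = n - (if 2 ∣ t n then 4 else 3) := by
      rw [Fintype.card_subtype_compl, hβ, hy]
    obtain ⟨e1, he1⟩ := ih _ hc _ _ hx hy _ _ hA1 hB1
    obtain ⟨e2, he2⟩ := ih (n - (if 2 ∣ t n then 4 else 3)) (by omega) _ _ hcA hcB _ _ hA2 hB2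
    refine ⟨glue (orbPred A x) (orbPred B y) e1 e2, ?_⟩
    ext b
    constructor
    · intro hb
      have h1 := eq_subtypeCongr B (orbPred B y) (orbPred_inv B y) (orbPred_inv' B y) ⟨b, hb⟩
      have h2 : resHom B (orbPred B y) (orbPred_inv B y) ⟨b, hb⟩ ∈
          (resHom B (orbPred B y) (orbPred_inv B y)).range := ⟨_, rfl⟩
      have h3 : resHom B (fun z => ¬ orbPred B y z) (orbPred_inv' B y) ⟨b, hb⟩ ∈
          (resHom B (fun z => ¬ orbPred B y z) (orbPred_inv' B y)).range := ⟨_, rfl⟩
      rw [he1] at h2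
      rw [he2] at h3
      obtain ⟨a1, ha1, h2⟩ := h2
      obtain ⟨a2, ha2, h3⟩ := h3
      refine ⟨Perm.subtypeCongr a1 a2, hAmem a1 ha1 a2 ha2, ?_⟩
      show (glue (orbPred A x) (orbPred B y) e1 e2).permCongr (Perm.subtypeCongr a1 a2) = b
      rw [permCongr_subtypeCongr]
      change b = _ at h1
      rw [h1, ← h2, ← h3]
      rfl
    · rintro ⟨a, ha, rfl⟩
      have h1 := eq_subtypeCongr A (orbPred A x) (orbPred_inv A x) (orbPred_inv' A x) ⟨a, ha⟩
      change a = _ at h1
      show (glue (orbPred A x) (orbPred B y) e1 e2).permCongr a ∈ B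
      rw [h1, permCongr_subtypeCongr]
      apply hBmem
      · rw [he1]
        exact ⟨_, ⟨_, rfl⟩, rfl⟩
      · rw [he2]
        exact ⟨_, ⟨_, rfl⟩, rfl⟩

end Cfsg.Agent.Lib.Helper20.AbAlt
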