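import Mathlib
import Cfsg.Agent.Lib.Helper20.AbAltE

/-!
Extremal even abelian permutation groups are normalized by an odd permutation; existence of
extremal groups in every degree (helper20).
-/

set_option autoImplicit false

namespace Cfsg.Agent.Lib.Helper20.AbAlt

open Subgroup MulAction Equiv Equiv.Perm

open Cfsg.Agent.S2505 Cfsg.Agent.Lib.Helper19.AltAbelian

open Cfsg.Agent.Lib.Helper20.SymGen

/-- Frattini argument: a Sylow subgroup of the alternating group is normalized by an odd
permutation -/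
theorem exists_odd_normalizing_of_sylow {β : Type} [Fintype β] [DecidableEq β] [Nontrivial β]
    (p : ℕ) [Fact p.Prime] (A : Subgroup (Perm β)) (hle : A ≤ alternatingGroup β)
    (hcard : Nat.card A = p ^ (Nat.card (alternatingGroup β)).factorization p) :
    ∃ w ∈ normalizer (A : Set (Perm β)), sign w = -1 := by
  have e1 : Nat.card (A.subgroupOf (alternatingGroup β)) =
      p ^ (Nat.card (alternatingGroup β)).factorization p := by
    rw [← hcard]; exact Nat.card_congr (subgroupOfEquivOfLe hle).toEquiv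
  have h1 := Sylow.normalizer_sup_eq_top (Sylow.ofCard (A.subgroupOf (alternatingGroup β)) e1)
  have h2 : map (alternatingGroup β).subtype
      (Sylow.ofCard (A.subgroupOf (alternatingGroup β)) e1 : Subgroup (alternatingGroup β)) = A := by
    show map (alternatingGroup β).subtype (A.subgroupOf (alternatingGroup β)) = A
    rw [subgroupOf_map_subtype, inf_eq_left.mpr hle]
  rw [h2] at h1
  by_contra hcon
  push Not at hcon
  have h3 : normalizer (A : Set (Perm β)) ≤ alternatingGroup β := fun w hw =>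
    mem_alternatingGroup.mpr ((Int.units_eq_one_or _).resolve_right (hcon w hw))
  have h4 : alternatingGroup β = ⊤ := by
    rw [← h1]; exact (sup_eq_right.mpr h3).symm
  obtain ⟨a, b, hab⟩ := exists_pair_ne β
  have h5 : swap a b ∈ alternatingGroup β := h4 ▸ mem_top _
  rw [mem_alternatingGroup, sign_swap hab] at h5
  exact absurd h5 (by decide)

theorem exists_odd_normalizing_small {β : Type} [Fintype β] [DecidableEq β]
    (A : Subgroup (Perm β)) (hA : Ext A) (h2 : 2 ≤ Fintype.card β) (h5 : Fintype.card β ≤ 5) :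
    ∃ w : Perm β, sign w = -1 ∧ ∀ a ∈ A, w * a * w⁻¹ ∈ A := by
  haveI : Nontrivial β := Fintype.one_lt_card_iff_nontrivial.mp (by omega)
  rcases Nat.lt_or_ge (Fintype.card β) 3 with h3 | h3
  · have ht : t (Fintype.card β) = 1 := by
      have : Fintype.card β = 2 := by omega
      rw [this]; simp [t]
    have hA1 : A = ⊥ := Subgroup.eq_bot_of_card_eq A (by rw [hA.2.2, ht])
    obtain ⟨a, b, hab⟩ := exists_pair_ne β
    refine ⟨swap a b, sign_swap hab, ?_⟩
    intro c hc
    rw [hA1, mem_bot] at hc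
    rw [hc, mul_one, mul_inv_cancel]
    exact one_mem _
  · obtain ⟨p, hp, hpt⟩ := exists_sylow_prime h3 h5
    haveI : Fact p.Prime := ⟨hp⟩
    have hle : A ≤ alternatingGroup β := fun c hc => mem_alternatingGroup.mpr (hA.2.1 c hc)
    obtain ⟨w, hw, hsw⟩ := exists_odd_normalizing_of_sylow p A hle (by rw [hA.2.2, hpt])
    refine ⟨w, hsw, ?_⟩
    intro a ha
    exact (mem_normalizer_iff.mp hw a).mp ha

theorem exists_odd_normalizing {α : Type} [Fintype α] [DecidableEq α]
    (A : Subgroup (Perm α)) (hA : Ext A) (h2 : 2 ≤ Fintype.card α) :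
    ∃ w : Perm α, sign w = -1 ∧ ∀ a ∈ A, w * a * w⁻¹ ∈ A := by
  rcases Nat.lt_or_ge (Fintype.card α) 6 with h6 | h6
  · exact exists_odd_normalizing_small A hA h2 (by omega)
  classical
  obtain ⟨x⟩ : Nonempty α := Fintype.card_pos_iff.mp (by omega)
  have hA3 : 3 ≤ Fintype.card α := by omega
  have hA1 := ext_range A hA hA3 (orbPred A x) (orbPred_inv A x) (orbPred_inv' A x) x
    (orbPred_self A x) (orbPred_trans A x)
  have hAmem := subtypeCongr_mem A hA hA3 (orbPred A x) (orbPred_inv A x) (orbPred_inv' A x) x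
    (orbPred_self A x) (orbPred_trans A x)
  have hs3 := (structure_num A hA hA3 (orbPred A x) (orbPred_inv A x) (orbPred_inv' A x) x
    (orbPred_self A x) (orbPred_trans A x)).1
  have hs5 := (card_le_five A hA hA3 (orbPred A x) (orbPred_inv A x) (orbPred_inv' A x) x
    (orbPred_self A x) (orbPred_trans A x)).1
  obtain ⟨w1, hw1, hn1⟩ := exists_odd_normalizing_small _ hA1 (by omega) hs5
  refine ⟨Perm.subtypeCongr w1 1, ?_, ?_⟩
  · rw [sign_subtypeCongr, hw1, map_one, mul_one]
  · intro a ha
    have h1 := eq_subtypeCongr A (orbPred A x) (orbPred_inv A x) (orbPred_inv' A x) ⟨a, ha⟩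
    change a = _ at h1
    have key : ∀ (u v : Perm (Subtype (orbPred A x)) × Perm {y // ¬ orbPred A x y}),
        subtypeCongrHom (orbPred A x) u * subtypeCongrHom (orbPred A x) v *
          (subtypeCongrHom (orbPred A x) u)⁻¹ = subtypeCongrHom (orbPred A x) (u * v * u⁻¹) := by
      intro u v
      rw [map_mul, map_mul, map_inv]
    have h2 := key (w1, 1) (resHom A (orbPred A x) (orbPred_inv A x) ⟨a, ha⟩,
      resHom A (fun y => ¬ orbPred A x y) (orbPred_inv' A x) ⟨a, ha⟩)
    change Perm.subtypeCongr w1 1 * Perm.subtypeCongr _ _ * (Perm.subtypeCongr w1 1)⁻¹ =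
      Perm.subtypeCongr _ _ at h2
    rw [← h1] at h2
    rw [h2]
    apply hAmem
    · exact hn1 _ ⟨_, rfl⟩
    · simp only [Prod.snd_mul, Prod.snd_inv, inv_one, mul_one, one_mul]
      exact ⟨_, rfl⟩

/-- extremal groups exist in every degree -/
theorem hasAbE_t (n : ℕ) : HasAbE (Fin n) (t n) := by
  by_cases h5 : n = 5
  · subst h5
    refine ⟨Subgroup.zpowers (finRotate 5), ?_, ?_, ?_⟩
    · intro x hx y hy
      obtain ⟨i, rfl⟩ := Subgroup.mem_zpowers_iff.mp hx
      obtain ⟨j, rfl⟩ := Subgroup.mem_zpowers_iff.mp hy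
      exact (Commute.zpow_zpow (Commute.refl _) i j).eq
    · intro x hx
      obtain ⟨i, rfl⟩ := Subgroup.mem_zpowers_iff.mp hx
      rw [map_zpow, sign_finRotate]
      have : ((-1 : ℤˣ)) ^ 4 = 1 := by decide
      rw [this, one_zpow]
    · rw [Nat.card_zpowers, Equiv.Perm.IsCycle.orderOf isCycle_finRotate, support_finRotate,
        Finset.card_univ, Fintype.card_fin]
      simp [t]
  by_cases h12 : n = 1 ∨ n = 2
  · have ht : t n = 1 := by rcases h12 with rfl | rfl <;> simp [t]
    rw [ht]
    exact ⟨⊥, fun x hx y hy => by rw [Subgroup.mem_bot.mp hx, Subgroup.mem_bot.mp hy],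
      fun x hx => by rw [Subgroup.mem_bot.mp hx, map_one], Subgroup.card_bot⟩
  obtain ⟨k, hk⟩ : ∃ k, n = 3 * k ∨ n = 3 * k + 1 ∨ n = 3 * k + 2 := ⟨n / 3, by omega⟩
  rcases hk with rfl | rfl | rfl
  · rw [t_three_mul]
    exact hasAbE_three_mul k
  · have hk1 : 1 ≤ k := by omega
    rw [t_three_mul_add_one k hk1]
    exact hasAbE_three_mul_add_one k hk1
  · have hk2 : 2 ≤ k := by omega
    rw [t_three_mul_add_two k hk2]
    exact hasAbE_three_mul_add_two k hk2

end Cfsg.Agent.Lib.Helper20.AbAlt
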