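import Mathlib
import Cfsg.Agent.Lib.Helper16.Minimal

set_option autoImplicit false

namespace Cfsg.Agent.Lib.Helper20

/-- A finite simple `r`-group is commutative. -/
theorem isMulCommutative_of_simple_pgroup {T : Type*} [Group T] [Finite T] {r : ℕ} [Fact r.Prime]
    (hT : IsSimpleGroup T) (hp : IsPGroup r T) : IsMulCommutative T := by
  haveI : Nontrivial T := hT.toNontrivial
  have hc : Nontrivial (Subgroup.center T) := hp.center_nontrivial
  have hne : Subgroup.center T ≠ ⊥ := by
    exact (Subgroup.nontrivial_iff_ne_bot _).mp hc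
  have htop : Subgroup.center T = ⊤ :=
    (hT.eq_bot_or_eq_top_of_normal _ inferInstance).resolve_left hne
  refine ⟨⟨fun a b => ?_⟩⟩
  have hb : b ∈ Subgroup.center T := by rw [htop]; exact Subgroup.mem_top b
  exact (Subgroup.mem_center_iff.mp hb a)

/-- For a normal non-abelian simple subgroup `T` and a Sylow `r`-subgroup `R` meeting `T`
nontrivially, the normalizer of `R ⊓ T` is proper. -/
theorem normalizer_sylow_inf_ne_top {G : Type*} [Group G] [Finite G] (T : Subgroup G) [T.Normal]
    (hT : IsSimpleGroup T) (hna : ¬ IsMulCommutative T) {r : ℕ} [Fact r.Prime] (R : Sylow r G)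
    (hR0 : (R : Subgroup G) ⊓ T ≠ ⊥) :
    Subgroup.normalizer (((R : Subgroup G) ⊓ T : Subgroup G) : Set G) ≠ ⊤ := by
  intro htop
  have hnorm : ((R : Subgroup G) ⊓ T).Normal := Subgroup.normalizer_eq_top_iff.mp htop
  have hnorm' : (((R : Subgroup G) ⊓ T).subgroupOf T).Normal := hnorm.subgroupOf T
  rcases hT.eq_bot_or_eq_top_of_normal _ hnorm' with h | h
  · apply hR0
    rw [Subgroup.subgroupOf_eq_bot] at h
    have : (R : Subgroup G) ⊓ T ⊓ T = ⊥ := disjoint_iff.mp h
    rwa [inf_assoc, inf_idem] at this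
  · rw [Subgroup.subgroupOf_eq_top] at h
    have hTp : IsPGroup r T := R.2.to_le (h.trans inf_le_left)
    exact hna (isMulCommutative_of_simple_pgroup hT hTp)

/-- Frattini argument for `R ⊓ T`. -/
theorem normalizer_sylow_inf_sup_eq_top {G : Type*} [Group G] [Finite G] (T : Subgroup G)
    [T.Normal] {r : ℕ} [Fact r.Prime] (R : Sylow r G) :
    Subgroup.normalizer (((R : Subgroup G) ⊓ T : Subgroup G) : Set G) ⊔ T = ⊤ := by
  obtain ⟨Q, hQ⟩ := Cfsg.Agent.Lib.Helper16.exists_sylow_of_normal_inf R T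
  have := Sylow.normalizer_sup_eq_top Q
  rwa [hQ] at this

theorem sylow_le_normalizer_inf {G : Type*} [Group G] (T : Subgroup G)
    [hTn : T.Normal] {r : ℕ} (R : Sylow r G) :
    Subgroup.normalizer ((R : Subgroup G) : Set G) ≤
      Subgroup.normalizer (((R : Subgroup G) ⊓ T : Subgroup G) : Set G) := by
  intro x hx
  rw [Subgroup.mem_normalizer_iff] at hx ⊢
  intro y
  rw [Subgroup.mem_inf, Subgroup.mem_inf, ← hx y]
  constructor
  · rintro ⟨h1, h2⟩
    exact ⟨h1, hTn.conj_mem y h2 x⟩
  · rintro ⟨h1, h2⟩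
    refine ⟨h1, ?_⟩
    have := hTn.conj_mem _ h2 x⁻¹
    simpa [mul_assoc] using this

end Cfsg.Agent.Lib.Helper20
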