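import Mathlib
import Cfsg.Agent.Lib.Helper20.AschDefs
import Cfsg.Agent.Lib.Helper20.AschTS
import Cfsg.Agent.Lib.Helper15.AschCL
import Cfsg.Agent.Lib.Helper26.AschNL
import Cfsg.Agent.Lib.Helper27.AschO4
import Cfsg.Agent.Lib.Helper27.AschSW
import Cfsg.Agent.Lib.Helper27.AschTW2
import Cfsg.Agent.Lib.Helper27.AschKF3
import Cfsg.Agent.Lib.Helper29.AschKF2
import Cfsg.Agent.Lib.Helper29.AschS1K1

/-!
S5630, block (A23) = CLIFFORD + TENSOR: `geo_or_qp (hn : 3 ≤ n) (hirr : Irr H) : Geo H ∨ QP H`, assembled from the leaves.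
-/

set_option autoImplicit false
set_option linter.unusedSectionVars false
set_option linter.unusedVariables false

namespace Cfsg.Agent.Lib.Helper20.AschLeaf
open Matrix Cfsg.Geo Cfsg.Agent.Lib.Helper20.Asch
open scoped Kronecker

variable {F : Type*} [Field F] [Fintype F] {n : ℕ} {H N : Subgroup (GL (Fin n) F)}

theorem geo_or_qp (hn : 3 ≤ n) (hirr : Irr H) : Geo H ∨ QP H := by
  by_cases hgeo : Geo H
  · exact Or.inl hgeo
  right
  intro N hN hnorm
  have hn0 : 0 < n := by omega
  -- Clifford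
  have hhom : Homog N := by
    rcases Cfsg.Agent.Lib.Helper15.AschLeaf.clifford hn0 hirr hN hnorm with
      h | ⟨t, m, D, hD, hY, -⟩
    · exact h
    · exact absurd (Geo.of_C2 D hD hY) hgeo
  -- the field
  have hfield := Cfsg.Agent.Lib.Helper20.AschLeaf.zcen_isField hn0 hhom
  have hZ : ∀ T ∈ ZCen N, ∃ c : F, T = c • (1 : Matrix (Fin n) (Fin n) F) := by
    apply Cfsg.Agent.Lib.Helper29.AschLeaf.scalar_of_finrank_one
    by_contra h1
    have hpos : 0 < Module.finrank F (ZCen N) := by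
      have : Nontrivial (Matrix (Fin n) (Fin n) F) := by
        have : Nonempty (Fin n) := ⟨⟨0, hn0⟩⟩
        infer_instance
      exact Module.finrank_pos
    exact hgeo (Cfsg.Agent.Lib.Helper27.AschLeaf.geo_of_field (ZCen N) _ hfield (by omega)
      (Cfsg.Agent.Lib.Helper29.AschLeaf.zcen_normalized hnorm))
  -- the tensor structure
  obtain ⟨s, k, e, P, h1, h2⟩ := Cfsg.Agent.Lib.Helper20.AschLeaf.tensor_of_homog hn0 hhom hZ
  have hH : H ≤ tensorProductSubgroup s k e P := by
    intro h hh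
    apply Cfsg.Agent.Lib.Helper26.AschLeaf.normalizer_le_tensor e P h
    intro A
    exact h2 _ (Cfsg.Agent.Lib.Helper29.AschLeaf.env_conj hnorm h hh _ (h1 A))
  have hcard : n = s * k := by
    have := Fintype.card_congr e
    simpa using this
  -- cases
  rcases Nat.lt_or_ge s 2 with hs | hs
  · have hs1 : s = 1 := by
      rcases Nat.eq_zero_or_pos s with h0 | h0
      · subst h0; omega
      · omega
    subst hs1
    exact Or.inl (Cfsg.Agent.Lib.Helper29.AschLeaf.scalar_of_tensor_one e P h2)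
  rcases Nat.lt_or_ge k 2 with hk | hk
  · have hk1 : k = 1 := by
      rcases Nat.eq_zero_or_pos k with h0 | h0
      · subst h0; omega
      · omega
    subst hk1
    exact Or.inr (Cfsg.Agent.Lib.Helper29.AschLeaf.absIrr_of_tensor_one e P h1)
  exfalso
  rcases Nat.lt_trichotomy s k with hlt | heq | hgt
  · exact hgeo (Geo.of_C4 s k e P hs hlt hH)
  · subst heq
    rcases Nat.lt_or_ge s 3 with h3 | h3
    · have hs2 : s = 2 := by omega
      subst hs2
      exact hgeo (Cfsg.Agent.Lib.Helper27.AschLeaf.geo_of_tensor22 (by omega) e P hH)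
    · obtain ⟨e', he'⟩ := Cfsg.Agent.Lib.Helper27.AschLeaf.tensorProductSubgroup_le_wreath e P
      exact hgeo (Geo.of_C7 s 2 e' P h3 le_rfl (hH.trans he'))
  · rw [Cfsg.Agent.Lib.Helper27.AschLeaf.tensorProductSubgroup_swap] at hH
    exact hgeo (Geo.of_C4 k s _ P hk hgt hH)

end Cfsg.Agent.Lib.Helper20.AschLeaf
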