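import Mathlib
import Cfsg.Agent.Lib.Helper20.AschDefs
import Cfsg.Agent.Lib.Helper20.AschA23
import Cfsg.Agent.Lib.Helper20.AschA89Main
import Cfsg.Agent.Lib.Helper4.AschA1
import Cfsg.Agent.Lib.Helper4.AschA4
import Cfsg.Agent.Lib.Helper7.AschForms
import Cfsg.Agent.Lib.Helper24.AschA7Main

/-!
S5630 = Aschbacher's theorem for subgroups of `GL_n(F)`, `n ≥ 3`, `F` finite: assembly of the top-level blocks
(the hypotheses `H ≤ SL`, `hproper` of the frozen statement are not used).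
-/

set_option autoImplicit false
set_option linter.unusedSectionVars false
set_option linter.unusedVariables false

namespace Cfsg.Agent.Lib.Helper20.AschLeaf
open Matrix Cfsg.Geo Cfsg.Agent.Lib.Helper20.Asch
open scoped Kronecker

variable {F : Type*} [Field F] [Fintype F] {n : ℕ} {H N : Subgroup (GL (Fin n) F)}

theorem asch_main (hn : 3 ≤ n) (H : Subgroup (GL (Fin n) F)) : Geo H ∨ InLinearResidualClass H := by
  by_cases hgeo : Geo H
  · exact Or.inl hgeo
  right
  have hirr : Irr H := by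
    by_contra h
    exact hgeo (Cfsg.Agent.Lib.Helper4.AschLeaf.geo_of_not_irr h)
  have hqp : QP H := (Cfsg.Agent.Lib.Helper20.AschLeaf.geo_or_qp hn hirr).resolve_left hgeo
  obtain ⟨N, hN, hnorm, hns, hmin⟩ :=
    Cfsg.Agent.Lib.Helper4.AschLeaf.exists_min_normal (by omega) hirr
  have hNabs : AbsIrr N := (hqp N hN hnorm).resolve_left hns
  have hperf : ⁅N, N⁆ = N := by
    rcases hmin ⁅N, N⁆ (Subgroup.commutator_le.mpr (fun x hx y hy =>
      N.mul_mem (N.mul_mem (N.mul_mem hx hy) (N.inv_mem hx)) (N.inv_mem hy)))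
      (Cfsg.Agent.Lib.Helper4.AschLeaf.normBy_commutator hnorm) with h | h
    · exact h
    · exact absurd (Cfsg.Agent.Lib.Helper24.AschLeaf.geo_of_nilpotent hn hirr hqp hN hnorm hns
        hmin h) hgeo
  have hsimple := (Cfsg.Agent.Lib.Helper20.AschA89Asm.geo_or_simple hn hirr hqp hN hnorm hns hmin
    hperf).resolve_left hgeo
  refine ⟨N, ⟨hN, hnorm, hperf, hsimple, ?_, ?_, hNabs, ?_⟩, ?_, ?_, ?_⟩
  · -- nonabelian
    intro hab
    have h1 := (Subgroup.Normal.quotient_commutative_iff_commutator_le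
      (N := (scalars (Fin n) F).subgroupOf N)).mp hab
    apply hns
    intro x hx
    have h2 : x ∈ ⁅N, N⁆ := by rw [hperf]; exact hx
    rw [← Subgroup.map_subtype_commutator] at h2
    obtain ⟨y, hy, rfl⟩ := h2
    exact h1 hy
  · -- centralizer
    intro h _ hc
    exact Cfsg.Agent.Lib.Helper4.AschLeaf.scalar_of_centralizes_mod hNabs hperf h hc
  · -- no subfield
    intro F₀ hF₀ hreal
    exact hgeo (Cfsg.Agent.Lib.Helper4.AschLeaf.geo_of_realisable hN hnorm hNabs F₀ hF₀ hreal)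
  · rintro ⟨Q, hQ, hfix⟩
    exact hgeo (Cfsg.Agent.Lib.Helper7.AschLeaf.geo_of_fixes_quad hn hN hnorm hNabs Q hQ hfix)
  · rintro ⟨f, hf, hfix⟩
    exact hgeo (Cfsg.Agent.Lib.Helper7.AschLeaf.geo_of_fixes_symp hn hN hnorm hNabs f hf hfix)
  · rintro ⟨σ, f, hf, hfix⟩
    exact hgeo (Cfsg.Agent.Lib.Helper7.AschLeaf.geo_of_fixes_unitary hn hN hnorm hNabs σ f hf
      hfix)

/-- the frozen statement -/
theorem asch_final (n : ℕ) (hn : 3 ≤ n) (H : Subgroup (Matrix.GeneralLinearGroup (Fin n) F))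
    (hH : H ≤ Cfsg.Geo.specialLinear (Fin n) F)
    (hproper : H ⊔ (Cfsg.Geo.scalars (Fin n) F ⊓ Cfsg.Geo.specialLinear (Fin n) F) ≠
      Cfsg.Geo.specialLinear (Fin n) F) :
    (∃ M : Subgroup (Matrix.GeneralLinearGroup (Fin n) F), Cfsg.Geo.InLinearClass n F M ∧ H ≤ M) ∨
      Cfsg.Geo.InLinearResidualClass H :=
  asch_main hn H

end Cfsg.Agent.Lib.Helper20.AschLeaf
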