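/-
helper20: S2262 (planner helper19) leaf PO-33 `recip_bound_33`: a monic self-reciprocal cubic with nonzero
constant term over the field with three elements divides `X³ ∓ 1`, `X⁴ - 1` or `X⁶ - 1`.
-/
import Mathlib
import Cfsg.Agent.Lib.Helper19.AutPSLDefs

set_option autoImplicit false
set_option linter.unusedSectionVars false

namespace Cfsg.Agent.Lib.Helper20.AutPSLPO33

open Matrix Polynomial Cfsg.Agent.Lib.Helper19.AutPSL

section PO

variable {F : Type*} [Field F] [Fintype F]

/-- a monic cubic is determined by its coefficients -/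
theorem cubic_eq (P : F[X]) (hP : P.Monic) (hdeg : P.natDegree = 3) :
    P = X ^ 3 + C (P.coeff 2) * X ^ 2 + C (P.coeff 1) * X + C (P.coeff 0) := by
  have h3 : P.coeff 3 = 1 := by
    have := hP.coeff_natDegree
    rwa [hdeg] at this
  ext n
  simp only [coeff_add, coeff_X_pow, coeff_C_mul, coeff_X, coeff_C]
  rcases Nat.lt_or_ge n 4 with hn | hn
  · interval_cases n <;> simp [h3]
  · have h0 : P.coeff n = 0 := coeff_eq_zero_of_natDegree_lt (by omega)
    have e1 : ¬ n = 3 := by omega
    have e2 : ¬ n = 2 := by omega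
    have e3 : ¬ 1 = n := by omega
    have e4 : ¬ n = 0 := by omega
    simp [h0, e1, e2, e3, e4]

/-- (PO-33) `q = 3`, degree 3. -/
theorem recip_bound_33 (P : F[X]) (hP : P.Monic) (hdeg : P.natDegree = 3)
    (h0 : P.coeff 0 ≠ 0) (hrec : IsRecip P) (hq : Fintype.card F = 3) :
    ∃ (j : ℕ) (c : F), 1 ≤ j ∧ 2 * ((Fintype.card F - 1) * j) ≤ Fintype.card F ^ 3 - 1 ∧
      P ∣ X ^ j - C c := by
  obtain ⟨u, hu, hmir⟩ := hrec
  have h3 : P.coeff 3 = 1 := by
    have := hP.coeff_natDegree
    rwa [hdeg] at this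
  have htr : P.natTrailingDegree = 0 := by
    rw [Polynomial.natTrailingDegree_eq_zero]
    exact Or.inr h0
  have hco : ∀ n ≤ 3, P.coeff (3 - n) = u * P.coeff n := by
    intro n hn
    have h1 := congrArg (fun Q => Q.coeff n) hmir
    simp only [coeff_mirror, coeff_C_mul, hdeg, htr, add_zero] at h1
    rw [Polynomial.revAt_le hn] at h1
    exact h1
  have e0 := hco 0 (by norm_num)
  have e1 := hco 1 (by norm_num)
  have e3 := hco 3 (by norm_num)
  simp only [Nat.sub_zero, Nat.sub_self, h3, mul_one] at e0 e1 e3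
  have e1' : P.coeff 2 = u * P.coeff 1 := e1
  -- `u² = 1`
  have hu2 : u * u = 1 := by rw [e3] at e0; exact e0.symm
  have hu1 : u = 1 ∨ u = -1 := by
    have : (u - 1) * (u + 1) = 0 := by linear_combination hu2
    rcases mul_eq_zero.mp this with h | h
    · left; linear_combination h
    · right; linear_combination h
  -- the characteristic is three
  have hchar : ((3 : ℕ) : F) = 0 := by
    rw [← hq]; exact FiniteField.cast_card_eq_zero F
  have h3X : (3 : F[X]) = 0 := by
    have : ((3 : ℕ) : F[X]) = 0 := by rw [← Polynomial.C_eq_natCast, hchar, C_0]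
    exact_mod_cast this
  -- every element is `0`, `1` or `-1`
  have hall : ∀ x : F, x = 0 ∨ x = 1 ∨ x = -1 := by
    intro x
    have hx : x ^ 3 = x := by
      have := FiniteField.pow_card x
      rwa [hq] at this
    have : x * ((x - 1) * (x + 1)) = 0 := by linear_combination hx
    rcases mul_eq_zero.mp this with h | h
    · exact Or.inl h
    · rcases mul_eq_zero.mp h with h | h
      · right; left; linear_combination h
      · right; right; linear_combination h
  have hPeq := cubic_eq P hP hdeg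
  set a := P.coeff 1 with ha
  have hnum : ∀ j : ℕ, 1 ≤ j → j ≤ 6 → 1 ≤ j ∧ 2 * ((Fintype.card F - 1) * j) ≤ Fintype.card F ^ 3 - 1 := by
    intro j h1 h6
    rw [hq]
    exact ⟨h1, by norm_num; omega⟩
  rcases hu1 with rfl | rfl
  · -- `u = 1`: `P = X³ + a X² + a X + 1`
    rw [e1', one_mul, e3] at hPeq
    rcases hall a with h | h | h
    · refine ⟨3, -1, (hnum 3 (by norm_num) (by norm_num)).1, (hnum 3 (by norm_num) (by norm_num)).2, ?_⟩
      rw [hPeq, h]
      refine ⟨1, ?_⟩
      simp only [C_0, zero_mul, add_zero, C_neg, C_1, mul_one]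
      ring
    · refine ⟨4, 1, (hnum 4 (by norm_num) (by norm_num)).1, (hnum 4 (by norm_num) (by norm_num)).2, ?_⟩
      rw [hPeq, h]
      refine ⟨X - 1, ?_⟩
      simp only [C_1]
      ring
    · refine ⟨6, 1, (hnum 6 (by norm_num) (by norm_num)).1, (hnum 6 (by norm_num) (by norm_num)).2, ?_⟩
      rw [hPeq, h]
      refine ⟨X ^ 3 + X ^ 2 - X - 1, ?_⟩
      simp only [C_neg, C_1]
      linear_combination (X ^ 4 - X ^ 2 : F[X]) * h3X
  · -- `u = -1`: `P = X³ - a X² + a X - 1`
    rw [e1', e3] at hPeq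
    rcases hall a with h | h | h
    · refine ⟨3, 1, (hnum 3 (by norm_num) (by norm_num)).1, (hnum 3 (by norm_num) (by norm_num)).2, ?_⟩
      rw [hPeq, h]
      refine ⟨1, ?_⟩
      simp only [mul_zero, C_0, zero_mul, add_zero, C_neg, C_1, mul_one]
      ring
    · refine ⟨4, 1, (hnum 4 (by norm_num) (by norm_num)).1, (hnum 4 (by norm_num) (by norm_num)).2, ?_⟩
      rw [hPeq, h]
      refine ⟨X + 1, ?_⟩
      simp only [mul_one, C_neg, C_1]
      ring
    · refine ⟨6, 1, (hnum 6 (by norm_num) (by norm_num)).1, (hnum 6 (by norm_num) (by norm_num)).2, ?_⟩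
      rw [hPeq, h]
      refine ⟨X ^ 3 - X ^ 2 - X + 1, ?_⟩
      simp only [mul_neg, mul_one, neg_neg, C_neg, C_1]
      linear_combination (X ^ 4 - X ^ 2 : F[X]) * h3X

end PO

end Cfsg.Agent.Lib.Helper20.AutPSLPO33
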