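/- helper20: B&G Theorem 15.8, part A: a non-identity element `x` of prime order `p` of `M_σ` that
lies in a second conjugate of `M` has `C_G(x) ⊄ M`; the unique maximal subgroup `N ⊇ C_G(x)`
(Theorem 14.4 = S1375) contains `N_G(⟨x⟩)`, `M ∩ N` is a complement of `N_σ` in `N`, and
`p ∈ τ₂(N)` (S1409). -/
import Mathlib
import Cfsg.Agent.Lib.Helper2.BGCorJ
import Cfsg.Agent.Lib.Helper2.BGCorD
import Cfsg.Agent.Lib.Helper1.BGX4
import Cfsg.Agent.Lib.Helper17.BGUniqC
import Cfsg.Agent.S1350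
import Cfsg.Agent.S1374
import Cfsg.Agent.S1375
import Cfsg.Agent.S1409

set_option autoImplicit false
set_option linter.unusedSectionVars false
set_option linter.unusedVariables false
set_option linter.style.haveILetI false

namespace Cfsg.Agent.Lib.Helper20.BG158

open Cfsg.Agent.Lib.Helper2.BGCor (primes_card_sigmaCore sigmaCore_le relIndex_compl coatom_ne_bot)

universe u

variable {G : Type u} [Group G] [Finite G]

/-- If `x ∈ M_σ^#` lies in `gMg⁻¹` with `g ∉ M`, then `C_G(x) ⊄ M` (S1374). -/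
theorem centralizer_not_le (hG : Cfsg.IsMinSimpleOddOrder G) {M : Subgroup G} (hM : IsCoatom M)
    {x g : G} (hx : x ∈ Cfsg.sigmaCore M) (hx1 : x ≠ 1) (hg : g ∉ M)
    (hxg : x ∈ M.map (MulAut.conj g).toMonoidHom) :
    ¬ Subgroup.centralizer ({x} : Set G) ≤ M := by
  intro hC
  obtain ⟨-, R, -, hcompl, huniq⟩ := Cfsg.Agent.S1374.result hG M hM x hx hx1
  obtain ⟨-, hRC, hinf, -⟩ := hcompl
  have hRbot : R = ⊥ := by
    rw [eq_bot_iff, ← hinf]
    exact le_inf (le_inf (hRC.trans hC) hRC) le_rfl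
  obtain ⟨r, ⟨hrR, hr⟩, -⟩ := huniq g hxg
  rw [hRbot, Subgroup.mem_bot] at hrR
  subst hrR
  have h1 : M.map (MulAut.conj (1 : G)).toMonoidHom = M := by
    ext y
    simp
  rw [h1] at hr
  have hMbot := coatom_ne_bot hG hM
  have hnorm := Cfsg.Agent.Lib.Helper1.BGX.normalizer_coatom hG hM hMbot
  apply hg
  rw [← hnorm, Subgroup.mem_normalizer_iff]
  intro y
  constructor
  · intro hy
    have : g * y * g⁻¹ ∈ M.map (MulAut.conj g).toMonoidHom := ⟨y, hy, rfl⟩
    rwa [← hr] at this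
  · intro hy
    have : g * y * g⁻¹ ∈ M.map (MulAut.conj g).toMonoidHom := by rw [← hr]; exact hy
    obtain ⟨z, hz, hzy⟩ := this
    have : z = y := by
      have h2 : g * z * g⁻¹ = g * y * g⁻¹ := hzy
      have h3 := congrArg (fun t => g⁻¹ * t * g) h2
      simpa [mul_assoc] using h3
    rwa [← this]

/-- an element commuting with `x` normalizes `⟨x⟩`. -/
theorem centralizer_le_normalizer_zpowers (x : G) :
    Subgroup.centralizer ({x} : Set G) ≤ Subgroup.normalizer ((Subgroup.zpowers x : Subgroup G) : Set G) := by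
  intro c hc
  have hcx : c * x = x * c := by
    have := Subgroup.mem_centralizer_iff.mp hc x (Set.mem_singleton x)
    exact this.symm
  have key : ∀ y : G, y ∈ Subgroup.zpowers x → c * y * c⁻¹ = y := by
    intro y hy
    obtain ⟨n, rfl⟩ := Subgroup.mem_zpowers_iff.mp hy
    have : Commute c (x ^ n) := (Commute.zpow_right (show Commute c x from hcx) n)
    rw [this.eq, mul_inv_cancel_right]
  rw [Subgroup.mem_normalizer_iff]
  intro y
  constructor
  · intro hy
    rw [key y hy]; exact hy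
  · intro hy
    have h2 : c⁻¹ * (c * y * c⁻¹) * c = y := by group
    have hc' : c⁻¹ ∈ Subgroup.centralizer ({x} : Set G) := Subgroup.inv_mem _ hc
    have hcx' : c⁻¹ * x = x * c⁻¹ := by
      have := Subgroup.mem_centralizer_iff.mp hc' x (Set.mem_singleton x)
      exact this.symm
    have key' : ∀ y : G, y ∈ Subgroup.zpowers x → c⁻¹ * y * c = y := by
      intro y hy
      obtain ⟨n, rfl⟩ := Subgroup.mem_zpowers_iff.mp hy
      have : Commute c⁻¹ (x ^ n) := (Commute.zpow_right (show Commute c⁻¹ x from hcx') n)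
      rw [this.eq, mul_assoc, inv_mul_cancel, mul_one]
    rw [← h2, key' _ hy]; exact hy

/-- **B&G 14.4 + 10.6 at a point of prime order.** -/
theorem exists_N (hG : Cfsg.IsMinSimpleOddOrder G) {M : Subgroup G} (hM : IsCoatom M)
    {p : ℕ} [hp : Fact p.Prime] {x : G} (hx : x ∈ Cfsg.sigmaCore M) (hxo : orderOf x = p)
    (hxM : ¬ Subgroup.centralizer ({x} : Set G) ≤ M) :
    ∃ N : Subgroup G, IsCoatom N ∧ N ≠ M ∧ Subgroup.centralizer ({x} : Set G) ≤ N ∧
      Subgroup.normalizer ((Subgroup.zpowers x : Subgroup G) : Set G) ≤ N ∧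
      Cfsg.IsComplIn (M ⊓ N) (Cfsg.sigmaCore N) N ∧ p ∈ Cfsg.tau2 N ∧
      Cfsg.sigmaCore N = Cfsg.fittingHallOf N := by
  have hx1 : x ≠ 1 := by
    intro h
    rw [h, orderOf_one] at hxo
    exact hp.out.one_lt.ne hxo
  obtain ⟨N, ⟨hN, hCN⟩, huniq, hNF, -, -, hcompl, -⟩ :=
    Cfsg.Agent.S1375.result hG M hM x hx hx1 hxM
  have hNM : N ≠ M := by
    intro h; rw [h] at hCN; exact hxM hCN
  have hxC : x ∈ Subgroup.centralizer ({x} : Set G) := by
    rw [Subgroup.mem_centralizer_iff]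
    intro y hy
    rw [Set.mem_singleton_iff.mp hy]
  have hxN : x ∈ N := hCN hxC
  have hxMm : x ∈ M := sigmaCore_le M hx
  haveI := hG.2.1
  -- the normalizer of `⟨x⟩`
  have hzb : Subgroup.zpowers x ≠ ⊥ := by
    intro h
    exact hx1 (Subgroup.zpowers_eq_bot.mp h)
  have hzt : Subgroup.zpowers x ≠ ⊤ := by
    intro h
    apply hM.1
    rw [eq_top_iff, ← h, Subgroup.zpowers_le]
    exact hxMm
  obtain ⟨L, hL, hNL⟩ := Cfsg.Agent.Lib.Helper17.BGU.exists_coatom_ge
    (Cfsg.Agent.Lib.Helper17.BGU.normalizer_ne_top hzb hzt)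
  have hLN : L = N := huniq L hL ((centralizer_le_normalizer_zpowers x).trans hNL)
  rw [hLN] at hNL
  -- `p ∉ σ(N)`
  have hpσ : p ∉ Cfsg.sigma N := by
    intro hpσ
    have hHall := (Cfsg.Agent.S1350.result hG N hN).1
    have h1 := hHall.2.2 p hp.out hpσ
    apply h1
    have hc : Cfsg.Agent.Lib.Helper1.IsComplIn (M ⊓ N) (Cfsg.sigmaCore N) N :=
      ⟨hcompl.1, hcompl.2.1, disjoint_iff.mpr hcompl.2.2.1, fun m hm => by
        obtain ⟨a, ha, b, hb, hab⟩ := hcompl.2.2.2 m hm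
        exact ⟨a, ha, b, hb, hab.symm⟩⟩
    have h2 := hc.card_mul_card
    have h3 : Nat.card (Cfsg.sigmaCore N) * (Cfsg.sigmaCore N).relIndex N = Nat.card N := by
      have := ((Cfsg.sigmaCore N).subgroupOf N).card_mul_index
      rwa [Cfsg.Agent.Lib.Helper1.card_subgroupOf_of_le hcompl.2.1] at this
    have h4 : (Cfsg.sigmaCore N).relIndex N = Nat.card ↥(M ⊓ N) := by
      have hpos : 0 < Nat.card (Cfsg.sigmaCore N) := Nat.card_pos
      apply Nat.eq_of_mul_eq_mul_left hpos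
      rw [h3, ← h2, mul_comm]
    rw [h4]
    have h5 : orderOf (⟨x, ⟨hxMm, hxN⟩⟩ : ↥(M ⊓ N)) = p := by
      rw [← hxo]; exact Subgroup.orderOf_mk x _
    rw [← h5]
    exact orderOf_dvd_natCard _
  have hcard : Nat.card (Subgroup.zpowers x) = p := by
    rw [Nat.card_zpowers, hxo]
  obtain ⟨⟨h2, h1⟩, -, -⟩ :=
    Cfsg.Agent.S1409.result hG N hN p hpσ (Subgroup.zpowers x) hcard hNL
  exact ⟨N, hN, hNM, hCN, hNL, hcompl, ⟨hp.out, hpσ, h2, h1⟩, hNF⟩

end Cfsg.Agent.Lib.Helper20.BG158
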