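/- helper20: B&G Theorem 15.8, part B: `O_p(H)` and the `p'`-elements of a nilpotent subgroup `H`
of a finite group `G` (all as subgroups of `G`). -/
import Mathlib
import Cfsg.Prelude.Def_Solvable
import Cfsg.Agent.Lib.Helper12.Cores
import Cfsg.Agent.Lib.Helper12.PStableSections
import Cfsg.Agent.Lib.Helper9.FittingHall

set_option autoImplicit false
set_option linter.unusedSectionVars false
set_option linter.unusedVariables false
set_option linter.style.haveILetI false

namespace Cfsg.Agent.Lib.Helper20.BG158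

universe u

variable {G : Type u} [Group G] [Finite G]

/-- `O_p(H)` as a subgroup of `G`. -/
def opOf (p : ℕ) (H : Subgroup G) : Subgroup G := (Cfsg.pCore p ↥H).map H.subtype

theorem opOf_le (p : ℕ) (H : Subgroup G) : opOf p H ≤ H := Subgroup.map_subtype_le _

theorem card_opOf (p : ℕ) (H : Subgroup G) : Nat.card ↥(opOf p H) = Nat.card ↥(Cfsg.pCore p ↥H) :=
  Subgroup.card_map_of_injective H.subtype_injective

theorem opOf_isPGroup (p : ℕ) [Fact p.Prime] (H : Subgroup G) : IsPGroup p ↥(opOf p H) :=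
  (Cfsg.Agent.Lib.Helper12.pCore_isPGroup' (X := ↥H) p).map H.subtype

theorem le_normalizer_opOf (p : ℕ) (H : Subgroup G) :
    Subgroup.normalizer (H : Set G) ≤ Subgroup.normalizer ((opOf p H : Subgroup G) : Set G) := by
  intro m hm
  haveI : (Cfsg.pCore p ↥H).Characteristic := Cfsg.Agent.Lib.Helper12.pCore_characteristic' p
  rw [Subgroup.mem_normalizer_iff]
  -- conjugation by `m` restricted to `H`
  have hmH : ∀ h : G, h ∈ H ↔ m * h * m⁻¹ ∈ H := fun h => (Subgroup.mem_normalizer_iff.mp hm) h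
  have hmH' : ∀ h : G, h ∈ H → m⁻¹ * h * m ∈ H := by
    intro h hh
    rw [hmH]
    have : m * (m⁻¹ * h * m) * m⁻¹ = h := by group
    rw [this]; exact hh
  let φ : ↥H ≃* ↥H :=
    { toFun := fun h => ⟨m * h.1 * m⁻¹, (hmH h.1).mp h.2⟩
      invFun := fun h => ⟨m⁻¹ * h.1 * m, hmH' h.1 h.2⟩
      left_inv := fun h => by apply Subtype.ext; show m⁻¹ * (m * h.1 * m⁻¹) * m = h.1; group
      right_inv := fun h => by apply Subtype.ext; show m * (m⁻¹ * h.1 * m) * m⁻¹ = h.1; group
      map_mul' := fun a b => by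
        apply Subtype.ext
        show m * (a.1 * b.1) * m⁻¹ = m * a.1 * m⁻¹ * (m * b.1 * m⁻¹)
        group }
  have hφ : ∀ y : ↥H, y ∈ Cfsg.pCore p ↥H ↔ φ y ∈ Cfsg.pCore p ↥H := by
    intro y
    have h1 : (Cfsg.pCore p ↥H).comap φ.toMonoidHom = Cfsg.pCore p ↥H :=
      Subgroup.characteristic_iff_comap_eq.mp inferInstance φ
    constructor
    · intro hy
      have : y ∈ (Cfsg.pCore p ↥H).comap φ.toMonoidHom := by rw [h1]; exact hy
      exact this
    · intro hy
      have : y ∈ (Cfsg.pCore p ↥H).comap φ.toMonoidHom := hy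
      rwa [h1] at this
  intro y
  constructor
  · rintro ⟨y', hy', rfl⟩
    exact ⟨φ y', (hφ y').mp hy', rfl⟩
  · rintro ⟨z, hz, hzy⟩
    have hyH : y ∈ H := by
      rw [hmH]
      have : m * y * m⁻¹ = z.1 := hzy.symm
      rw [this]; exact z.2
    refine ⟨⟨y, hyH⟩, ?_, rfl⟩
    apply (hφ _).mpr
    have : φ ⟨y, hyH⟩ = z := by
      apply Subtype.ext
      exact hzy.symm
    rw [this]; exact hz

/-- in a nilpotent `H`, the elements of `p`-power order lie in `O_p(H)`. -/
theorem mem_opOf_of_pow {p : ℕ} [Fact p.Prime] {H : Subgroup G} (hH : Group.IsNilpotent ↥H)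
    {y : G} (hy : y ∈ H) {a : ℕ} (hya : y ^ p ^ a = 1) : y ∈ opOf p H := by
  haveI := hH
  have hz : IsPGroup p ↥(Subgroup.zpowers (⟨y, hy⟩ : ↥H)) := by
    intro z
    obtain ⟨n, hn⟩ := Subgroup.mem_zpowers_iff.mp z.2
    refine ⟨a, ?_⟩
    apply Subtype.ext
    rw [Subgroup.coe_pow, ← hn, ← zpow_natCast, ← zpow_mul, mul_comm, zpow_mul, zpow_natCast]
    have : (⟨y, hy⟩ : ↥H) ^ p ^ a = 1 := by
      apply Subtype.ext
      rw [Subgroup.coe_pow]; exact hya
    rw [this, one_zpow]; rfl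
  obtain ⟨Q, hQ⟩ := hz.exists_le_sylow
  have hQn : (Q : Subgroup ↥H).Normal := inferInstance
  have hQle : (Q : Subgroup ↥H) ≤ Cfsg.pCore p ↥H :=
    Cfsg.Agent.Lib.Helper12.le_pCore' p _ hQn Q.isPGroup'
  exact ⟨⟨y, hy⟩, hQle (hQ (Subgroup.mem_zpowers _)), rfl⟩

/-- in a nilpotent `H`, `O_p(H)` has index prime to `p`. -/
theorem not_dvd_index_pCore {p : ℕ} [Fact p.Prime] {H : Subgroup G} (hH : Group.IsNilpotent ↥H) :
    ¬ p ∣ (Cfsg.pCore p ↥H).index := by
  haveI := hH
  obtain ⟨Q⟩ : Nonempty (Sylow p ↥H) := inferInstance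
  have hQn : (Q : Subgroup ↥H).Normal := inferInstance
  have hQle : (Q : Subgroup ↥H) ≤ Cfsg.pCore p ↥H :=
    Cfsg.Agent.Lib.Helper12.le_pCore' p _ hQn Q.isPGroup'
  intro h
  exact Q.not_dvd_index (h.trans (Subgroup.index_dvd_of_le hQle))

/-- `O_p(H)` has index prime to `p` in `G` when the nilpotent `H` is a Hall subgroup of `G`
of order divisible by `p`. -/
theorem not_dvd_index_opOf {p : ℕ} [hp : Fact p.Prime] {H : Subgroup G} (hH : Group.IsNilpotent ↥H)
    (hcop : (Nat.card ↥H).Coprime H.index) (hpH : p ∣ Nat.card ↥H) :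
    ¬ p ∣ (opOf p H).index := by
  unfold opOf
  rw [Subgroup.index_map_subtype]
  intro h
  rcases (Nat.Prime.dvd_mul hp.out).mp h with h1 | h1
  · exact not_dvd_index_pCore hH h1
  · exact hp.out.one_lt.ne' (Nat.eq_one_of_dvd_coprimes hcop hpH h1)

/-- in a nilpotent `H`, an element of order prime to `p` centralizes `O_p(H)`. -/
theorem mem_centralizer_opOf {p : ℕ} [Fact p.Prime] {H : Subgroup G} (hH : Group.IsNilpotent ↥H)
    {c : G} (hc : c ∈ H) (hcop : (orderOf c).Coprime p) :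
    c ∈ Subgroup.centralizer ((opOf p H : Subgroup G) : Set G) := by
  apply Cfsg.Agent.Lib.Helper9.mem_centralizer_of_nilpotent_of_coprime H (opOf p H) hH
    (opOf_le p H) c hc
  · apply le_normalizer_opOf p H
    exact Subgroup.le_normalizer hc
  · obtain ⟨n, hn⟩ := (IsPGroup.iff_card.mp (opOf_isPGroup p H))
    rw [hn]
    exact Nat.Coprime.pow_right n hcop

/-- in a nilpotent `H`, a central element of `O_p(H)` is central in `H`. -/
theorem le_centralizer_of_mem_center {p : ℕ} [Fact p.Prime] {H : Subgroup G}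
    (hH : Group.IsNilpotent ↥H) {x : G} (hx : x ∈ opOf p H)
    (hxc : x ∈ Subgroup.centralizer ((opOf p H : Subgroup G) : Set G)) :
    H ≤ Subgroup.centralizer ({x} : Set G) := by
  intro h hh
  obtain ⟨z, y, hz, hy, hzy, ⟨a, hza⟩, m, hm, hym⟩ :=
    Cfsg.Agent.Lib.Helper12.exists_pPart_decomposition h p
  have hzH : z ∈ H := (Subgroup.zpowers_le.mpr hh) hz
  have hyH : y ∈ H := (Subgroup.zpowers_le.mpr hh) hy
  have hzP : z ∈ opOf p H := mem_opOf_of_pow hH hzH hza
  have hyc : y ∈ Subgroup.centralizer ((opOf p H : Subgroup G) : Set G) := by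
    apply mem_centralizer_opOf hH hyH
    exact Nat.Coprime.coprime_dvd_left (orderOf_dvd_of_pow_eq_one hym) hm
  rw [Subgroup.mem_centralizer_iff]
  intro w hw
  rw [Set.mem_singleton_iff.mp hw]
  have h1 : z * x = x * z := (Subgroup.mem_centralizer_iff.mp hxc z hzP)
  have h2 : x * y = y * x := (Subgroup.mem_centralizer_iff.mp hyc x hx)
  rw [hzy]
  calc x * (z * y) = (x * z) * y := by group
    _ = (z * x) * y := by rw [h1]
    _ = z * (x * y) := by group
    _ = z * (y * x) := by rw [h2]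
    _ = z * y * x := by group

end Cfsg.Agent.Lib.Helper20.BG158
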