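/- helper20: B&G Theorem 15.8, part C: the configuration `x ∈ M_F ∩ M_F^g` of prime order `p`,
`M_F = M_σ`, `U = 1`, `K ≠ 1`, with `N ⊇ C_G(x)`: `C_H(x)` is abelian, `P = O_p(H)` is nonabelian,
`x ∉ Z(P)`, a central subgroup `Z₀` of order `p`, `A = ⟨x⟩ Z₀`. -/
import Mathlib
import Cfsg.Agent.Lib.Helper20.BG158A
import Cfsg.Agent.Lib.Helper20.BG158B
import Cfsg.Agent.Lib.Helper16.BGTyA
import Cfsg.Agent.Lib.Helper23.BGY4
import Cfsg.Agent.Lib.Helper24.BGCount
import Cfsg.Agent.Lib.Helper1.BGZhat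
import Cfsg.Agent.S1354
import Cfsg.Agent.S1420
import Cfsg.Agent.S1426

set_option autoImplicit false
set_option linter.unusedSectionVars false
set_option linter.unusedVariables false
set_option linter.style.haveILetI false

namespace Cfsg.Agent.Lib.Helper20.BG158

open Cfsg.Agent.Lib.Helper2.BGCor (primes_card_sigmaCore sigmaCore_le relIndex_compl coatom_ne_bot)

universe u

variable {G : Type u} [Group G] [Finite G]

/-- the configuration of B&G 15.8. -/
structure Ctx (M K U N : Subgroup G) (p : ℕ) (x : G) : Prop where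
  hG : Cfsg.IsMinSimpleOddOrder G
  hM : IsCoatom M
  hKU : Cfsg.IsSigmaDecomposition M K U
  hK1 : K ≠ ⊥
  hU : U = ⊥
  hF : Cfsg.fittingHallOf M = Cfsg.sigmaCore M
  hp : p.Prime
  hxH : x ∈ Cfsg.fittingHallOf M
  hxo : orderOf x = p
  hN : IsCoatom N
  hCN : Subgroup.centralizer ({x} : Set G) ≤ N
  hcompl : Cfsg.IsComplIn (M ⊓ N) (Cfsg.sigmaCore N) N
  hτ : p ∈ Cfsg.tau2 N

namespace Ctx

variable {M K U N : Subgroup G} {p : ℕ} {x : G}

theorem nil (c : Ctx M K U N p x) : Group.IsNilpotent ↥(Cfsg.fittingHallOf M) :=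
  Cfsg.Agent.Lib.Helper16.BGTy.fittingHallOf_isNilpotent M

theorem H_le (c : Ctx M K U N p x) : Cfsg.fittingHallOf M ≤ M :=
  Cfsg.Agent.Lib.Helper16.BGTy.fittingHallOf_le M

theorem x_pow (c : Ctx M K U N p x) : x ^ p = 1 := by
  rw [← c.hxo]; exact pow_orderOf_eq_one x

theorem x_ne_one (c : Ctx M K U N p x) : x ≠ 1 := by
  intro h
  have := c.hxo
  rw [h, orderOf_one] at this
  exact c.hp.one_lt.ne this

theorem xP (c : Ctx M K U N p x) : x ∈ opOf p (Cfsg.fittingHallOf M) := by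
  haveI : Fact p.Prime := ⟨c.hp⟩
  exact mem_opOf_of_pow c.nil c.hxH (a := 1) (by rw [pow_one]; exact c.x_pow)

theorem hKcompl (c : Ctx M K U N p x) : Cfsg.IsComplIn K (Cfsg.sigmaCore M) M := by
  have hHall := (Cfsg.Agent.S1350.result c.hG M c.hM).1
  have h := Cfsg.Agent.Lib.Helper1.BGZhat.isComplIn_U_sup_K hHall c.hKU
  rwa [c.hU, bot_sup_eq] at h

theorem D_le (c : Ctx M K U N p x) :
    Cfsg.fittingHallOf M ⊓ Subgroup.centralizer ({x} : Set G) ≤ M ⊓ N :=
  le_inf (inf_le_left.trans c.H_le) (inf_le_right.trans c.hCN)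

/-- primes dividing `|M ∩ N|` are not in `σ(N)`. -/
theorem not_sigma (c : Ctx M K U N p x) {q : ℕ} (hq : q.Prime) (hd : q ∣ Nat.card ↥(M ⊓ N)) :
    q ∉ Cfsg.sigma N :=
  Cfsg.Agent.Lib.Helper23.BGY.not_mem_sigma_of_dvd_compl c.hG c.hN c.hcompl hq hd

/-- `C_H(x)` is abelian. -/
theorem D_comm (c : Ctx M K U N p x) :
    ∀ a ∈ Cfsg.fittingHallOf M ⊓ Subgroup.centralizer ({x} : Set G),
    ∀ b ∈ Cfsg.fittingHallOf M ⊓ Subgroup.centralizer ({x} : Set G), a * b = b * a := by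
  set D := Cfsg.fittingHallOf M ⊓ Subgroup.centralizer ({x} : Set G) with hD
  have hDN : D ≤ N := c.D_le.trans inf_le_right
  have hnil : Group.IsNilpotent ↥D := by
    haveI := c.nil
    have hle : D ≤ Cfsg.fittingHallOf M := inf_le_left
    apply Subgroup.isNilpotent_of_ker_le_center (Subgroup.inclusion hle)
    rw [(MonoidHom.ker_eq_bot_iff _).mpr (Subgroup.inclusion_injective hle)]
    exact bot_le
  have hpr : ∀ q : ℕ, q.Prime → q ∣ Nat.card ↥D → q ∉ Cfsg.sigma N := fun q hq hd =>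
    c.not_sigma hq (hd.trans (Subgroup.card_dvd_of_le c.D_le))
  have hcomm := (Cfsg.Agent.S1420.result c.hG N c.hN (M ⊓ N) c.hcompl).1 D hDN hnil hpr
  intro a ha b hb
  have := hcomm.is_comm.comm ⟨a, ha⟩ ⟨b, hb⟩
  exact congrArg Subtype.val this

/-- `H = M_σ` is not abelian: `K* ≠ 1` lies in `(M_σ)'`. -/
theorem H_not_le (c : Ctx M K U N p x) :
    ¬ Cfsg.fittingHallOf M ≤ Subgroup.centralizer ({x} : Set G) := by
  intro hle
  have h1 := (Cfsg.Agent.S1354.result c.hG M c.hM K c.hKU.cyclic c.hKU.hall).1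
  have h2 := (Cfsg.Agent.S1426.result c.hG M c.hM K c.hKcompl).1
  apply h1
  rw [eq_bot_iff]
  refine h2.trans ?_
  rw [Subgroup.commutator_eq_bot_iff_le_centralizer.mpr]
  rw [← c.hF]
  intro a ha
  rw [Subgroup.mem_centralizer_iff]
  intro b hb
  exact c.D_comm b ⟨hb, hle hb⟩ a ⟨ha, hle ha⟩

/-- `x` is not central in `P = O_p(H)`. -/
theorem x_not_central (c : Ctx M K U N p x) :
    x ∉ Subgroup.centralizer ((opOf p (Cfsg.fittingHallOf M) : Subgroup G) : Set G) := by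
  haveI : Fact p.Prime := ⟨c.hp⟩
  intro h
  exact c.H_not_le (le_centralizer_of_mem_center c.nil c.xP h)

/-- `P` is not abelian. -/
theorem P_not_comm (c : Ctx M K U N p x) :
    ¬ IsMulCommutative ↥(opOf p (Cfsg.fittingHallOf M)) := by
  intro h
  apply c.x_not_central
  rw [Subgroup.mem_centralizer_iff]
  intro b hb
  have := h.is_comm.comm ⟨b, hb⟩ ⟨x, c.xP⟩
  exact congrArg Subtype.val this

/-- a central element of order `p` of `P`. -/
theorem exists_central (c : Ctx M K U N p x) :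
    ∃ z : G, z ∈ opOf p (Cfsg.fittingHallOf M) ∧
      z ∈ Subgroup.centralizer ((opOf p (Cfsg.fittingHallOf M) : Subgroup G) : Set G) ∧
      orderOf z = p := by
  haveI : Fact p.Prime := ⟨c.hp⟩
  set P := opOf p (Cfsg.fittingHallOf M) with hP
  have hPp : IsPGroup p ↥P := opOf_isPGroup p _
  haveI : Nontrivial ↥P := ⟨⟨⟨x, c.xP⟩, 1, fun h => c.x_ne_one (congrArg Subtype.val h)⟩⟩
  have hlt := hPp.bot_lt_center
  obtain ⟨w, hw, hw1⟩ := SetLike.exists_of_lt hlt
  have hw1' : w ≠ 1 := fun h => hw1 (by rw [h]; exact Subgroup.one_mem _)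
  obtain ⟨j, q, hq, hqo, hqd⟩ := Cfsg.Agent.Lib.Helper2.BGCor.exists_pow_prime_order' hw1'
  have hqp : q = p := by
    obtain ⟨k, hk⟩ := (IsPGroup.iff_orderOf.mp hPp) w
    rw [hk] at hqd
    exact (Nat.prime_dvd_prime_iff_eq hq c.hp).mp (hq.dvd_of_dvd_pow hqd)
  refine ⟨((w ^ j : ↥P) : G), (w ^ j).2, ?_, ?_⟩
  · rw [Subgroup.mem_centralizer_iff]
    intro b hb
    have hwj : w ^ j ∈ Subgroup.center ↥P := Subgroup.pow_mem _ hw j
    have := Subgroup.mem_center_iff.mp hwj ⟨b, hb⟩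
    exact congrArg Subtype.val this
  · rw [Subgroup.orderOf_coe, hqo, hqp]

end Ctx

end Cfsg.Agent.Lib.Helper20.BG158
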