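/- helper20: B&G Theorem 15.8, part D: `A = ⟨x⟩ Z₀` is elementary abelian of order `p ^ 2` and
contains every element of order `p` of `M ∩ N` (S1418); `τ₂(N) = {p}` (S1419); `O_{p'}(H)` is
cyclic. -/
import Mathlib
import Cfsg.Agent.Lib.Helper20.BG158C
import Cfsg.Agent.Lib.Helper1.BGEmb1
import Cfsg.Agent.Lib.Helper2.BGCorF
import Cfsg.Agent.S1418
import Cfsg.Agent.S1419

set_option autoImplicit false
set_option linter.unusedSectionVars false
set_option linter.unusedVariables false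
set_option linter.style.haveILetI false

namespace Cfsg.Agent.Lib.Helper20.BG158

universe u

variable {G : Type u} [Group G] [Finite G]

/-- the elements of order dividing `p` of a subgroup with commuting elements. -/
def omegaOf (p : ℕ) (D : Subgroup G) (hD : ∀ a ∈ D, ∀ b ∈ D, a * b = b * a) : Subgroup G where
  carrier := {d | d ∈ D ∧ d ^ p = 1}
  one_mem' := ⟨D.one_mem, one_pow p⟩
  mul_mem' := by
    rintro a b ⟨ha, hap⟩ ⟨hb, hbp⟩
    refine ⟨D.mul_mem ha hb, ?_⟩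
    have hc : Commute a b := hD a ha b hb
    rw [hc.mul_pow, hap, hbp, one_mul]
  inv_mem' := by
    rintro a ⟨ha, hap⟩
    exact ⟨D.inv_mem ha, by rw [inv_pow, hap, inv_one]⟩

namespace Ctx

variable {M K U N : Subgroup G} {p : ℕ} {x : G}

/-- the data of a central element `z` of order `p` of `P`. -/
structure Cen (c : Ctx M K U N p x) (z : G) : Prop where
  hzP : z ∈ opOf p (Cfsg.fittingHallOf M)
  hzc : z ∈ Subgroup.centralizer ((opOf p (Cfsg.fittingHallOf M) : Subgroup G) : Set G)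
  hzo : orderOf z = p

variable {c : Ctx M K U N p x} {z : G}

theorem Cen.comm (h : c.Cen z) : x * z = z * x :=
  Subgroup.mem_centralizer_iff.mp h.hzc x c.xP

theorem Cen.z_pow (h : c.Cen z) : z ^ p = 1 := by
  rw [← h.hzo]; exact pow_orderOf_eq_one z

theorem Cen.zD (h : c.Cen z) :
    z ∈ Cfsg.fittingHallOf M ⊓ Subgroup.centralizer ({x} : Set G) := by
  refine Subgroup.mem_inf.mpr ⟨opOf_le p _ h.hzP, ?_⟩
  rw [Subgroup.mem_centralizer_iff]
  intro y hy
  rw [Set.mem_singleton_iff.mp hy]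
  exact h.comm

theorem xD (c : Ctx M K U N p x) :
    x ∈ Cfsg.fittingHallOf M ⊓ Subgroup.centralizer ({x} : Set G) := by
  refine Subgroup.mem_inf.mpr ⟨c.hxH, ?_⟩
  rw [Subgroup.mem_centralizer_iff]
  intro y hy
  rw [Set.mem_singleton_iff.mp hy]

theorem Cen.zpowers_le_centralizer (h : c.Cen z) :
    Subgroup.zpowers z ≤
      Subgroup.centralizer ((opOf p (Cfsg.fittingHallOf M) : Subgroup G) : Set G) :=
  Subgroup.zpowers_le.mpr h.hzc

theorem Cen.card_zpowers (h : c.Cen z) : Nat.card ↥(Subgroup.zpowers z) = p := by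
  rw [Nat.card_zpowers, h.hzo]

theorem card_zpowers_x (c : Ctx M K U N p x) : Nat.card ↥(Subgroup.zpowers x) = p := by
  rw [Nat.card_zpowers, c.hxo]

theorem Cen.z_not_mem (h : c.Cen z) : z ∉ Subgroup.zpowers x := by
  intro hz
  have hle : Subgroup.zpowers z ≤ Subgroup.zpowers x := Subgroup.zpowers_le.mpr hz
  have heq : Subgroup.zpowers z = Subgroup.zpowers x :=
    Subgroup.eq_of_le_of_card_ge hle (by rw [h.card_zpowers, c.card_zpowers_x])
  apply c.x_not_central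
  apply h.zpowers_le_centralizer
  rw [heq]
  exact Subgroup.mem_zpowers x

theorem Cen.disjoint (h : c.Cen z) : Subgroup.zpowers x ⊓ Subgroup.zpowers z = ⊥ := by
  by_contra hne
  have hd : Nat.card ↥(Subgroup.zpowers x ⊓ Subgroup.zpowers z) ∣ p := by
    rw [← h.card_zpowers]
    exact Subgroup.card_dvd_of_le inf_le_right
  rcases (Nat.dvd_prime c.hp).mp hd with h1 | h1
  · exact hne (Subgroup.card_eq_one.mp h1)
  · have heq : Subgroup.zpowers x ⊓ Subgroup.zpowers z = Subgroup.zpowers z :=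
      Subgroup.eq_of_le_of_card_ge inf_le_right (by rw [h1, h.card_zpowers])
    apply h.z_not_mem
    have : z ∈ Subgroup.zpowers x ⊓ Subgroup.zpowers z := by
      rw [heq]; exact Subgroup.mem_zpowers z
    exact this.1

theorem Cen.card_A (h : c.Cen z) :
    Nat.card ↥(Subgroup.zpowers x ⊔ Subgroup.zpowers z) = p ^ 2 := by
  rw [Cfsg.Agent.Lib.Helper24.BGCount.card_sup_of_commute ?_ h.disjoint,
    c.card_zpowers_x, h.card_zpowers, sq]
  intro e he f hf
  obtain ⟨i, rfl⟩ := Subgroup.mem_zpowers_iff.mp he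
  obtain ⟨j, rfl⟩ := Subgroup.mem_zpowers_iff.mp hf
  exact ((show Commute x z from h.comm).zpow_zpow i j).eq

theorem Cen.A_le_omega (h : c.Cen z) :
    Subgroup.zpowers x ⊔ Subgroup.zpowers z ≤
      omegaOf p (Cfsg.fittingHallOf M ⊓ Subgroup.centralizer ({x} : Set G)) c.D_comm := by
  apply sup_le
  · rw [Subgroup.zpowers_le]
    exact ⟨c.xD, c.x_pow⟩
  · rw [Subgroup.zpowers_le]
    exact ⟨h.zD, h.z_pow⟩

theorem Cen.A_le_D (h : c.Cen z) :
    Subgroup.zpowers x ⊔ Subgroup.zpowers z ≤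
      Cfsg.fittingHallOf M ⊓ Subgroup.centralizer ({x} : Set G) :=
  fun a ha => (h.A_le_omega ha).1

theorem Cen.A_comm (h : c.Cen z) :
    ∀ a ∈ Subgroup.zpowers x ⊔ Subgroup.zpowers z,
    ∀ b ∈ Subgroup.zpowers x ⊔ Subgroup.zpowers z, a * b = b * a :=
  fun a ha b hb => c.D_comm a (h.A_le_D ha) b (h.A_le_D hb)

theorem Cen.A_elemAb (h : c.Cen z) :
    Cfsg.IsElementaryAbelian p (Subgroup.zpowers x ⊔ Subgroup.zpowers z) := by
  refine ⟨⟨⟨fun a b => ?_⟩⟩, fun a ha => (h.A_le_omega ha).2⟩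
  apply Subtype.ext
  exact h.A_comm a.1 a.2 b.1 b.2

theorem Cen.A_le (h : c.Cen z) : Subgroup.zpowers x ⊔ Subgroup.zpowers z ≤ M ⊓ N :=
  h.A_le_D.trans c.D_le

/-- every element of order dividing `p` of `M ∩ N` lies in `A` (S1418). -/
theorem Cen.omega (h : c.Cen z) {d : G} (hd : d ∈ M ⊓ N) (hdp : d ^ p = 1) :
    d ∈ Subgroup.zpowers x ⊔ Subgroup.zpowers z := by
  haveI : Fact p.Prime := ⟨c.hp⟩
  by_cases hd1 : d = 1
  · rw [hd1]; exact Subgroup.one_mem _
  have hdo : orderOf d = p := orderOf_eq_prime hdp hd1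
  have h18 := (Cfsg.Agent.S1418.result c.hG N c.hN (M ⊓ N) c.hcompl p c.hτ _
    ⟨h.A_le, h.A_elemAb, h.card_A⟩).1.2
  apply h18 (Subgroup.zpowers d) (Subgroup.zpowers_le.mpr hd) (by rw [Nat.card_zpowers, hdo])
  exact Subgroup.mem_zpowers d

/-- `hΩ` for `C_P(x)`. -/
theorem Cen.omega_x (h : c.Cen z) :
    ∀ d ∈ opOf p (Cfsg.fittingHallOf M) ⊓ Subgroup.centralizer ({x} : Set G), d ^ p = 1 →
      d ∈ Subgroup.zpowers x ⊔ Subgroup.zpowers z :=
  fun d hd hdp => h.omega (c.D_le ⟨opOf_le p _ hd.1, hd.2⟩) hdp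

/-- `hΩ` for `C_P(A)`. -/
theorem Cen.omega_A (h : c.Cen z) :
    ∀ d ∈ opOf p (Cfsg.fittingHallOf M) ⊓
        Subgroup.centralizer ((Subgroup.zpowers x ⊔ Subgroup.zpowers z : Subgroup G) : Set G),
      d ^ p = 1 → d ∈ Subgroup.zpowers x ⊔ Subgroup.zpowers z := by
  intro d hd hdp
  apply h.omega_x d (Subgroup.mem_inf.mpr ⟨hd.1, ?_⟩) hdp
  rw [Subgroup.mem_centralizer_iff]
  intro y hy
  rw [Set.mem_singleton_iff.mp hy]
  exact Subgroup.mem_centralizer_iff.mp hd.2 x (Subgroup.mem_sup_left (Subgroup.mem_zpowers x))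

end Ctx

end Cfsg.Agent.Lib.Helper20.BG158
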