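/- helper20: B&G Theorem 15.8, part E: `P = O_p(H)` is a (nonabelian) Sylow subgroup of `G`,
`τ₂(N) = {p}` (S1419), `O_{p'}(H)` is cyclic, and the action of `K` on `P`. -/
import Mathlib
import Cfsg.Agent.Lib.Helper20.BG158D
import Cfsg.Agent.Lib.Helper9.TypeP
import Cfsg.Agent.S1373

set_option autoImplicit false
set_option linter.unusedSectionVars false
set_option linter.unusedVariables false
set_option linter.style.haveILetI false

namespace Cfsg.Agent.Lib.Helper20.BG158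

universe u

variable {G : Type u} [Group G] [Finite G]

namespace Ctx

variable {M K U N : Subgroup G} {p : ℕ} {x : G}

theorem p_dvd_H (c : Ctx M K U N p x) : p ∣ Nat.card ↥(Cfsg.fittingHallOf M) := by
  rw [← c.hxo]
  exact Subgroup.orderOf_dvd_natCard _ c.hxH

theorem p_mem_sigma (c : Ctx M K U N p x) : p ∈ Cfsg.sigma M := by
  apply Cfsg.Agent.Lib.Helper2.BGCor.primes_card_sigmaCore M p c.hp
  rw [← c.hF]
  exact c.p_dvd_H

/-- `P` is a Sylow `p`-subgroup of `G`. -/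
theorem exists_sylow (c : Ctx M K U N p x) :
    ∃ S : Sylow p G, (S : Subgroup G) = opOf p (Cfsg.fittingHallOf M) := by
  haveI : Fact p.Prime := ⟨c.hp⟩
  have hcop := Cfsg.Agent.Lib.Helper16.BGTy.fittingHallOf_coprime_index c.hG c.hM
  exact ⟨(opOf_isPGroup p (Cfsg.fittingHallOf M)).toSylow
    (not_dvd_index_opOf c.nil hcop c.p_dvd_H), rfl⟩

/-- every Sylow `p`-subgroup of `G` is nonabelian. -/
theorem sylow_not_comm (c : Ctx M K U N p x) :
    ∀ S : Sylow p G, ¬ IsMulCommutative ↥(S : Subgroup G) := by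
  haveI : Fact p.Prime := ⟨c.hp⟩
  obtain ⟨S₀, hS₀⟩ := c.exists_sylow
  intro S hS
  obtain ⟨g, hg⟩ := MulAction.exists_smul_eq G S S₀
  have e := Sylow.equivSMul S g
  apply c.P_not_comm
  rw [← hS₀, ← hg]
  refine ⟨⟨fun a b => ?_⟩⟩
  have := hS.is_comm.comm (e.symm a) (e.symm b)
  apply e.symm.injective
  rw [map_mul, map_mul]; exact this

variable {c : Ctx M K U N p x} {z : G}

/-- `τ₂(N) = {p}` (S1419). -/
theorem Cen.tau2_eq (h : c.Cen z) : Cfsg.tau2 N = {p} := by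
  haveI : Fact p.Prime := ⟨c.hp⟩
  exact (Cfsg.Agent.S1419.result c.hG N c.hN (M ⊓ N) c.hcompl p c.hτ c.sylow_not_comm _
    ⟨h.A_le, h.A_elemAb, h.card_A⟩).1

/-- `O_{p'}(H) ≤ C_H(x)`. -/
theorem pPrimeCore_le_D (c : Ctx M K U N p x) :
    (Cfsg.pPrimeCore p ↥(Cfsg.fittingHallOf M)).map (Cfsg.fittingHallOf M).subtype ≤
      Cfsg.fittingHallOf M ⊓ Subgroup.centralizer ({x} : Set G) := by
  haveI : Fact p.Prime := ⟨c.hp⟩
  rintro _ ⟨y, hy, rfl⟩
  refine Subgroup.mem_inf.mpr ⟨y.2, ?_⟩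
  have hcop : (orderOf ((Cfsg.fittingHallOf M).subtype y)).Coprime p := by
    have h1 : orderOf ((Cfsg.fittingHallOf M).subtype y) = orderOf y :=
      orderOf_injective _ (Subgroup.subtype_injective _) y
    rw [h1]
    have h2 : orderOf y ∣ Nat.card ↥(Cfsg.pPrimeCore p ↥(Cfsg.fittingHallOf M)) :=
      Subgroup.orderOf_dvd_natCard _ hy
    exact Nat.Coprime.coprime_dvd_left h2 (Cfsg.Agent.Lib.Helper12.pPrimeCore_coprime p)
  have hc := mem_centralizer_opOf c.nil y.2 hcop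
  rw [Subgroup.mem_centralizer_iff]
  intro w hw
  rw [Set.mem_singleton_iff.mp hw]
  exact Subgroup.mem_centralizer_iff.mp hc x c.xP

/-- `O_{p'}(H)` is cyclic. -/
theorem Cen.cyclic (h : c.Cen z) :
    IsCyclic ↥(Cfsg.pPrimeCore p ↥(Cfsg.fittingHallOf M)) := by
  haveI : Fact p.Prime := ⟨c.hp⟩
  haveI := c.nil
  set H := Cfsg.fittingHallOf M with hH
  set C' := Cfsg.pPrimeCore p ↥H with hC'
  haveI : IsZGroup ↥C' := by
    refine ⟨fun q hq Q => ?_⟩
    haveI : Fact q.Prime := ⟨hq⟩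
    by_contra hnc
    -- the image of `Q` in `G`
    set Q₁ : Subgroup G := ((Q : Subgroup ↥C').map C'.subtype).map H.subtype with hQ₁
    have hinj : Function.Injective (H.subtype.comp C'.subtype) :=
      (Subgroup.subtype_injective H).comp (Subgroup.subtype_injective C')
    have hQ₁' : Q₁ = (Q : Subgroup ↥C').map (H.subtype.comp C'.subtype) := by
      rw [hQ₁, Subgroup.map_map]
    have e : ↥(Q : Subgroup ↥C') ≃* ↥Q₁ := by
      rw [hQ₁']
      exact Subgroup.equivMapOfInjective _ _ hinj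
    have hQ₁q : IsPGroup q ↥Q₁ := by
      rw [hQ₁']
      exact Q.isPGroup'.map _
    have hQ₁nc : ¬ IsCyclic ↥Q₁ := fun hcyc => hnc (e.isCyclic.mpr hcyc)
    have hQ₁C : Q₁ ≤ C'.map H.subtype := Subgroup.map_mono (Subgroup.map_subtype_le _)
    have hQ₁MN : Q₁ ≤ M ⊓ N := (hQ₁C.trans c.pPrimeCore_le_D).trans c.D_le
    -- `q` divides `|Q₁|`
    obtain ⟨n, hn⟩ := IsPGroup.iff_card.mp hQ₁q
    have hn0 : n ≠ 0 := by
      rintro rfl
      rw [pow_zero] at hn
      apply hQ₁nc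
      haveI : Subsingleton ↥Q₁ := (Nat.card_eq_one_iff_unique.mp hn).1
      exact isCyclic_of_subsingleton
    have hqQ₁ : q ∣ Nat.card ↥Q₁ := by rw [hn]; exact dvd_pow_self q hn0
    have hq2 : q ≠ 2 := by
      rintro rfl
      have h2 : 2 ∣ Nat.card G := hqQ₁.trans (Subgroup.card_subgroup_dvd_card _)
      exact (Nat.not_even_iff_odd.mpr c.hG.1) (even_iff_two_dvd.mpr h2)
    obtain ⟨B, hBQ, hBe, hBc⟩ :=
      Cfsg.Agent.Lib.Helper1.BGEmb.exists_elemAb_sq_of_not_cyclic hq2 hQ₁q hQ₁nc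
    have hqσ : q ∉ Cfsg.sigma N :=
      c.not_sigma hq (hqQ₁.trans (Subgroup.card_dvd_of_le hQ₁MN))
    have hr1 : ¬ Cfsg.PRankLE q 1 ↥N :=
      Cfsg.Agent.Lib.Helper2.BGCor.not_pRankLE_one_of_sq hq
        (hBQ.trans (hQ₁MN.trans inf_le_right)) hBe hBc
    have hτ := Cfsg.Agent.Lib.Helper23.BGY.mem_tau2_of_not_rank_one c.hG c.hN hq hqσ hr1
    rw [h.tau2_eq, Set.mem_singleton_iff] at hτ
    -- `q = p` divides `|C'|`
    have hd : q ∣ Nat.card ↥C' := by
      have h1 : Nat.card ↥Q₁ ∣ Nat.card ↥(C'.map H.subtype) := Subgroup.card_dvd_of_le hQ₁C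
      have h2 : Nat.card ↥(C'.map H.subtype) = Nat.card ↥C' :=
        Subgroup.card_map_of_injective (Subgroup.subtype_injective H)
      rw [h2] at h1
      exact hqQ₁.trans h1
    have hcop : (Nat.card ↥C').Coprime p := Cfsg.Agent.Lib.Helper12.pPrimeCore_coprime p
    rw [hτ] at hd
    exact c.hp.one_lt.ne' (Nat.eq_one_of_dvd_coprimes hcop hd dvd_rfl)
  infer_instance

/-! ### the action of `K` -/

theorem K_le (c : Ctx M K U N p x) : K ≤ M := c.hKcompl.1

theorem K_le_normalizer (c : Ctx M K U N p x) :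
    K ≤ Subgroup.normalizer ((opOf p (Cfsg.fittingHallOf M) : Subgroup G) : Set G) :=
  (c.K_le.trans (Cfsg.Agent.Lib.Helper9.le_normalizer_fittingHallOf M)).trans
    (le_normalizer_opOf p _)

theorem M_le_normalizer (c : Ctx M K U N p x) :
    M ≤ Subgroup.normalizer ((opOf p (Cfsg.fittingHallOf M) : Subgroup G) : Set G) :=
  (Cfsg.Agent.Lib.Helper9.le_normalizer_fittingHallOf M).trans (le_normalizer_opOf p _)

theorem K_coprime (c : Ctx M K U N p x) : (Nat.card ↥K).Coprime p := by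
  apply Nat.Coprime.symm
  rw [Nat.Prime.coprime_iff_not_dvd c.hp]
  intro hd
  have hκ : p ∈ Cfsg.kappa M := c.hKU.hall.2.1 p c.hp hd
  exact hκ.2.2.1 c.p_mem_sigma

theorem K_odd (c : Ctx M K U N p x) : Odd (Nat.card ↥K) :=
  Odd.of_dvd_nat c.hG.1 (Subgroup.card_subgroup_dvd_card K)

theorem p_ne_two (c : Ctx M K U N p x) : p ≠ 2 := by
  intro h
  have h2 : p ∣ Nat.card G := c.p_dvd_H.trans (Subgroup.card_subgroup_dvd_card _)
  rw [h] at h2
  exact (Nat.not_even_iff_odd.mpr c.hG.1) (even_iff_two_dvd.mpr h2)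

/-- the fixed points of the non-identity elements of `K` on `P`. -/
theorem K_fix (c : Ctx M K U N p x) : ∀ k ∈ K, k ≠ 1 →
    opOf p (Cfsg.fittingHallOf M) ⊓ Subgroup.centralizer ({k} : Set G) =
      opOf p (Cfsg.fittingHallOf M) ⊓
        (K ⊔ (Cfsg.sigmaCore M ⊓ Subgroup.centralizer (K : Set G))) := by
  intro k hk hk1
  have h54 := (Cfsg.Agent.S1354.result c.hG M c.hM K c.hKU.cyclic c.hKU.hall).2 c.hK1 k hk hk1
  rw [← h54]
  have hPM : opOf p (Cfsg.fittingHallOf M) ≤ M := (opOf_le p _).trans c.H_le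
  ext d
  simp only [Subgroup.mem_inf]
  constructor
  · rintro ⟨h1, h2⟩
    exact ⟨h1, hPM h1, h2⟩
  · rintro ⟨h1, -, h2⟩
    exact ⟨h1, h2⟩

/-- the fixed points have order dividing `p`. -/
theorem card_fix_dvd (c : Ctx M K U N p x) :
    Nat.card ↥(opOf p (Cfsg.fittingHallOf M) ⊓
        (K ⊔ (Cfsg.sigmaCore M ⊓ Subgroup.centralizer (K : Set G)))) ∣ p := by
  haveI : Fact p.Prime := ⟨c.hp⟩
  set Ks := Cfsg.sigmaCore M ⊓ Subgroup.centralizer (K : Set G) with hKs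
  set Z := opOf p (Cfsg.fittingHallOf M) ⊓ (K ⊔ Ks) with hZ
  have hprime := Cfsg.Agent.S1373.result c.hG M c.hM K U c.hKU c.hK1 c.hU
  -- `Z ≤ K*`
  have hZle : Z ≤ Ks := by
    intro d hd
    have hdσ : d ∈ Cfsg.sigmaCore M := by
      rw [← c.hF]; exact opOf_le p _ hd.1
    have hd2 : d ∈ Ks ⊔ K := by rw [sup_comm]; exact hd.2
    have hnorm : Ks ≤ Subgroup.normalizer (K : Set G) :=
      inf_le_right.trans (Subgroup.centralizer_le_normalizer _)
    have hd3 : d ∈ ((Ks ⊔ K : Subgroup G) : Set G) := hd2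
    rw [Subgroup.coe_mul_of_left_le_normalizer_right Ks K hnorm] at hd3
    obtain ⟨a, ha, b, hb, hab⟩ := hd3
    have hab : a * b = d := hab
    have hbσ : b ∈ Cfsg.sigmaCore M := by
      have : b = a⁻¹ * d := by rw [← hab]; group
      rw [this]
      exact Subgroup.mul_mem _ (Subgroup.inv_mem _ ha.1) hdσ
    have hb1 : b = 1 := by
      have : b ∈ K ⊓ Cfsg.sigmaCore M := ⟨hb, hbσ⟩
      rw [c.hKcompl.2.2.1] at this
      exact Subgroup.mem_bot.mp this
    rw [← hab, hb1, mul_one]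
    exact ha
  have hZp : IsPGroup p ↥Z := (opOf_isPGroup p (Cfsg.fittingHallOf M)).to_le inf_le_left
  obtain ⟨n, hn⟩ := IsPGroup.iff_card.mp hZp
  have hdvd : Nat.card ↥Z ∣ Nat.card ↥Ks := Subgroup.card_dvd_of_le hZle
  rcases (Nat.dvd_prime hprime).mp hdvd with h1 | h1
  · rw [h1]; exact one_dvd p
  · -- `|Z| = |K*|` is a prime and a power of `p`
    rw [h1] at hn
    have hpd : p ∣ Nat.card ↥Ks := by
      rw [hn]
      apply dvd_pow_self
      rintro rfl
      rw [pow_zero] at hn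
      exact hprime.one_lt.ne' hn
    have : p = Nat.card ↥Ks := (Nat.prime_dvd_prime_iff_eq c.hp hprime).mp hpd
    rw [h1, ← this]

end Ctx

end Cfsg.Agent.Lib.Helper20.BG158
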