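/- helper20: B&G Theorem 15.8 (the non-TI alternative of Type V): if `M = K M_σ` with `K ≠ 1`,
`U = 1`, `M_F = M_σ` and `M_F ∩ M_F^g ≠ 1` for some `g ∉ M`, then for some prime `p` dividing
`|M_F|`, `O_{p'}(M_F)` is cyclic and `|K|` divides `p - 1`, or `|O_p(M_F)| = p ^ 3` and `|K|`
divides `p + 1`.
Group-theoretic lemmas L1 (helper8), L2, L4, L5 (helper21), L3 (helper19). -/
import Mathlib
import Cfsg.Agent.Lib.Helper20.BG158E
import Cfsg.Agent.Lib.Helper8.ExtraCube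
import Cfsg.Agent.Lib.Helper21.TypeVL2
import Cfsg.Agent.Lib.Helper21.TypeVL4
import Cfsg.Agent.Lib.Helper21.TypeVL5
import Cfsg.Agent.Lib.Helper19.TypeVL3

set_option autoImplicit false
set_option linter.unusedSectionVars false
set_option linter.unusedVariables false
set_option linter.style.haveILetI false

namespace Cfsg.Agent.Lib.Helper20.BG158

universe u

variable {G : Type u} [Group G] [Finite G]

namespace Ctx

variable {M K U N : Subgroup G} {p : ℕ} {x : G}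

/-- the arithmetic conclusion in the configuration. -/
theorem main (c : Ctx M K U N p x) :
    IsCyclic ↥(Cfsg.pPrimeCore p ↥(Cfsg.fittingHallOf M)) ∧
    (Nat.card ↥K ∣ p - 1 ∨
      (Nat.card ↥(Cfsg.pCore p ↥(Cfsg.fittingHallOf M)) = p ^ 3 ∧ Nat.card ↥K ∣ p + 1)) := by
  haveI : Fact p.Prime := ⟨c.hp⟩
  obtain ⟨z, hzP, hzc, hzo⟩ := c.exists_central
  have h : c.Cen z := ⟨hzP, hzc, hzo⟩
  refine ⟨h.cyclic, ?_⟩
  set P := opOf p (Cfsg.fittingHallOf M) with hP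
  set Ks := Cfsg.sigmaCore M ⊓ Subgroup.centralizer (K : Set G) with hKs
  set Z := P ⊓ (K ⊔ Ks) with hZ
  have hPp : IsPGroup p ↥P := opOf_isPGroup p _
  have hZcard : Nat.card ↥Z ∣ p := c.card_fix_dvd
  have hfix : ∀ k ∈ K, k ≠ 1 → P ⊓ Subgroup.centralizer ({k} : Set G) = Z := c.K_fix
  have hAP : Subgroup.zpowers x ⊔ Subgroup.zpowers z ≤ P :=
    sup_le (Subgroup.zpowers_le.mpr c.xP) (Subgroup.zpowers_le.mpr hzP)
  by_cases hAn : P ≤ Subgroup.normalizer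
      ((Subgroup.zpowers x ⊔ Subgroup.zpowers z : Subgroup G) : Set G)
  · -- `A ⊴ P`: `P` has rank 2
    have hr : Cfsg.PRankLE p 2 ↥P :=
      Cfsg.Agent.Lib.Helper21.TypeV.pRankLE_two_of_normal_sq hPp hAP hAn h.card_A h.A_comm
        h.omega_A
    obtain ⟨S, hS⟩ := c.exists_sylow
    have hr' : Cfsg.PRankLE p 2 ↥(S : Subgroup G) := by rw [hS]; exact hr
    have hna : ¬ IsMulCommutative ↥(S : Subgroup G) := c.sylow_not_comm S
    have hKS : K ≤ Subgroup.normalizer ((S : Subgroup G) : Set G) := by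
      rw [hS]; exact c.K_le_normalizer
    have hfix' : ∀ k ∈ K, k ≠ 1 →
        (S : Subgroup G) ⊓ Subgroup.centralizer ({k} : Set G) = Z := by
      rw [hS]; exact hfix
    have h5 := Cfsg.Agent.Lib.Helper21.TypeV.card_dvd_of_rank_two_of_cube c.p_ne_two c.hG S hr'
      hna hKS c.hKU.cyclic c.K_coprime hZcard hfix'
      (fun h3 => Cfsg.Agent.Lib.Helper8.ExtraCube.card_dvd_pm_one_of_card_cube c.p_ne_two h3 hna
        hKS c.hKU.cyclic c.K_odd c.K_coprime hZcard hfix')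
    rcases h5 with h5 | ⟨h5, h6⟩
    · exact Or.inl h5
    · right
      refine ⟨?_, h6⟩
      rw [← card_opOf, ← hS]
      exact h5
  · -- `A` is not normal in `P`
    left
    have hZ₀ : Subgroup.zpowers z ≤ P ⊓ Subgroup.centralizer (P : Set G) :=
      Subgroup.zpowers_le.mpr (Subgroup.mem_inf.mpr ⟨hzP, hzc⟩)
    obtain ⟨B, hBP, hBcard, hZB, hNB, hNZ⟩ :=
      Cfsg.Agent.Lib.Helper19.TypeVL3.exists_invariant_normal_sq c.p_ne_two hPp c.xP c.hxo hZ₀
        h.card_zpowers h.omega_x hAn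
    apply Cfsg.Agent.Lib.Helper21.TypeV.card_dvd_pred_of_normal_sq hBcard hZB h.card_zpowers
      (c.K_le_normalizer.trans hNB) (c.K_le_normalizer.trans hNZ) c.hKU.cyclic c.K_coprime
      hZcard
    intro k hk hk1
    rw [← hfix k hk hk1]
    exact inf_le_inf_right _ hBP

end Ctx

/-- **B&G Theorem 15.8** (non-TI alternative of Type V). -/
theorem typeV_alt (hG : Cfsg.IsMinSimpleOddOrder G) {M K U : Subgroup G} (hM : IsCoatom M)
    (hKU : Cfsg.IsSigmaDecomposition M K U) (hK1 : K ≠ ⊥) (hU : U = ⊥)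
    (hF : Cfsg.fittingHallOf M = Cfsg.sigmaCore M) (g : G) (hg : g ∉ M)
    (hX : Cfsg.fittingHallOf M ⊓ (Cfsg.fittingHallOf M).map (MulAut.conj g).toMonoidHom ≠ ⊥) :
    ∃ p : ℕ, p.Prime ∧ p ∣ Nat.card ↥(Cfsg.fittingHallOf M) ∧
      IsCyclic ↥(Cfsg.pPrimeCore p ↥(Cfsg.fittingHallOf M)) ∧
      (Nat.card ↥K ∣ p - 1 ∨
        (Nat.card ↥(Cfsg.pCore p ↥(Cfsg.fittingHallOf M)) = p ^ 3 ∧ Nat.card ↥K ∣ p + 1)) := by
  -- an element of prime order of `H ∩ H^g`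
  obtain ⟨y, hy1⟩ := (Subgroup.ne_bot_iff_exists_ne_one).mp hX
  have hy1' : (y : G) ≠ 1 := fun h => hy1 (Subtype.ext h)
  obtain ⟨j, p, hp, hpo, -⟩ := Cfsg.Agent.Lib.Helper2.BGCor.exists_pow_prime_order' hy1'
  haveI : Fact p.Prime := ⟨hp⟩
  set x : G := (y : G) ^ j with hx
  have hxX : x ∈ Cfsg.fittingHallOf M ⊓
      (Cfsg.fittingHallOf M).map (MulAut.conj g).toMonoidHom := Subgroup.pow_mem _ y.2 j
  have hxH : x ∈ Cfsg.fittingHallOf M := hxX.1
  have hxσ : x ∈ Cfsg.sigmaCore M := by rw [← hF]; exact hxH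
  have hx1 : x ≠ 1 := by
    intro h
    rw [h, orderOf_one] at hpo
    exact hp.one_lt.ne hpo
  have hHM : Cfsg.fittingHallOf M ≤ M := Cfsg.Agent.Lib.Helper16.BGTy.fittingHallOf_le M
  have hxg : x ∈ M.map (MulAut.conj g).toMonoidHom := Subgroup.map_mono hHM hxX.2
  have hxM : ¬ Subgroup.centralizer ({x} : Set G) ≤ M := centralizer_not_le hG hM hxσ hx1 hg hxg
  obtain ⟨N, hN, hNM, hCN, -, hcompl, hτ, -⟩ := exists_N hG hM hxσ hpo hxM
  have c : Ctx M K U N p x := ⟨hG, hM, hKU, hK1, hU, hF, hp, hxH, hpo, hN, hCN, hcompl, hτ⟩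
  exact ⟨p, hp, c.p_dvd_H, c.main.1, c.main.2⟩

end Cfsg.Agent.Lib.Helper20.BG158
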