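import Mathlib
import Cfsg.Agent.Lib.Helper23.BOFLKAPPA
import Cfsg.Agent.Lib.Helper14.BOFLROT
import Cfsg.Agent.Lib.Helper15.BOFLPOW
import Cfsg.Agent.Lib.Helper15.BOFLJMEM
import Cfsg.Agent.Lib.Helper16.BOFLINV
import Cfsg.Agent.Lib.Helper15.BOFLNOTSR
import Cfsg.Agent.Lib.Helper15.BOFLNOTKER
import Cfsg.Agent.Lib.Helper15.BOFLSHIFT
import Cfsg.Agent.Lib.Helper16.BOFLCNT
import Cfsg.Agent.Lib.Helper23.BOFLCENT
import Cfsg.Agent.Lib.Helper15.BOFLWSUM

/-!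
# S4482-LOC (helper24's market): `local_count`, the local count of Brauer's order formula (dihedral case)

Assembly of the sub-leaves of `notes/S4482_LOC_leaves.lean` (KAPPA, CENT: helper23; ROT: helper14; POW, JMEM, NOTSR, NOTKER,
SHIFT, WSUM: helper15; INV, CNT: helper16).
-/

set_option autoImplicit false

namespace Cfsg.Agent.Lib.Helper20.BOFLOC

universe u

open DihedralGroup
open Cfsg.Agent.Lib.Helper23.BOFLKAPPA Cfsg.Agent.Lib.Helper14.BOFLROT Cfsg.Agent.Lib.Helper15.BOFLPOW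
  Cfsg.Agent.Lib.Helper15.BOFLJMEM Cfsg.Agent.Lib.Helper16.BOFLINV Cfsg.Agent.Lib.Helper15.BOFLNOTSR
  Cfsg.Agent.Lib.Helper15.BOFLNOTKER Cfsg.Agent.Lib.Helper15.BOFLSHIFT Cfsg.Agent.Lib.Helper16.BOFLCNT
  Cfsg.Agent.Lib.Helper23.BOFLCENT Cfsg.Agent.Lib.Helper15.BOFLWSUM

/-- the weight `2 - ζ^k - ζ^(-k)` -/
noncomputable def Fw (n : ℕ) (ζ : ℂ) (k : ZMod (2 ^ (n - 1))) : ℂ := 2 - ζ ^ k.val - (ζ ^ k.val)⁻¹

theorem Fw_zero (n : ℕ) (ζ : ℂ) : Fw n ζ 0 = 0 := by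
  unfold Fw
  rw [ZMod.val_zero]
  simp
  norm_num

open Classical in
/-- the indicator of "involution of type `i`" -/
noncomputable def ind {X : Type u} [Group X] (n : ℕ) (κ : X →* DihedralGroup (2 ^ (n - 1))) (x : X)
    (i : ZMod (2 ^ (n - 1))) : ℂ := if orderOf x = 2 ∧ κ x = sr i then 1 else 0

theorem ind_eq_zero {X : Type u} [Group X] (n : ℕ) (κ : X →* DihedralGroup (2 ^ (n - 1))) (x : X)
    (h : ¬ (orderOf x = 2 ∧ ∃ i, κ x = sr i)) (i : ZMod (2 ^ (n - 1))) : ind n κ x i = 0 := by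
  unfold ind
  rw [if_neg]
  rintro ⟨h1, h2⟩
  exact h ⟨h1, i, h2⟩

theorem sum_ind_mul {X : Type u} [Group X] (n : ℕ) (κ : X →* DihedralGroup (2 ^ (n - 1))) (x : X)
    (hx : orderOf x = 2) (i₀ : ZMod (2 ^ (n - 1))) (hi₀ : κ x = sr i₀) (G : ZMod (2 ^ (n - 1)) → ℂ) :
    ∑ i, ind n κ x i * G i = G i₀ := by
  classical
  rw [Finset.sum_eq_single i₀]
  · unfold ind
    rw [if_pos ⟨hx, hi₀⟩, one_mul]
  · intro i _ hne
    unfold ind
    rw [if_neg, zero_mul]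
    rintro ⟨-, h2⟩
    rw [hi₀] at h2
    exact hne (DihedralGroup.sr.inj h2).symm
  · intro h; exact absurd (Finset.mem_univ _) h

theorem sum_ind_mul_zero {X : Type u} [Group X] (n : ℕ) (κ : X →* DihedralGroup (2 ^ (n - 1))) (x : X)
    (h : ¬ (orderOf x = 2 ∧ ∃ i, κ x = sr i)) (G : ZMod (2 ^ (n - 1)) → ℂ) :
    ∑ i, ind n κ x i * G i = 0 := by
  apply Finset.sum_eq_zero
  intro i _
  rw [ind_eq_zero n κ x h, zero_mul]

theorem sum_rearr {α ι : Type*} [Fintype α] [Fintype ι] (a : α → ι → ℂ) (F : ι → ι → ℂ) :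
    ∑ x, ∑ y, ∑ i, ∑ j, a x i * a y j * F i j = ∑ i, ∑ j, (∑ x, a x i) * (∑ y, a y j) * F i j := by
  have h1 : ∀ i j, (∑ x, a x i) * (∑ y, a y j) * F i j = ∑ x, ∑ y, a x i * a y j * F i j := by
    intro i j
    rw [Finset.sum_mul_sum, Finset.sum_mul]
    apply Finset.sum_congr rfl
    intro x _
    rw [Finset.sum_mul]
  simp_rw [h1]
  -- ∑ x y i j = ∑ i j x y
  calc ∑ x, ∑ y, ∑ i, ∑ j, a x i * a y j * F i j
      = ∑ x, ∑ i, ∑ y, ∑ j, a x i * a y j * F i j :=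
        Finset.sum_congr rfl (fun _ _ => Finset.sum_comm)
    _ = ∑ i, ∑ x, ∑ y, ∑ j, a x i * a y j * F i j := Finset.sum_comm
    _ = ∑ i, ∑ x, ∑ j, ∑ y, a x i * a y j * F i j :=
        Finset.sum_congr rfl (fun _ _ => Finset.sum_congr rfl (fun _ _ => Finset.sum_comm))
    _ = ∑ i, ∑ j, ∑ x, ∑ y, a x i * a y j * F i j :=
        Finset.sum_congr rfl (fun _ _ => Finset.sum_comm)

section main

variable {X : Type u} [Group X] [Fintype X] (n : ℕ) (hn : 3 ≤ n)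
  (N : Subgroup X) [N.Normal] (hNodd : Odd (Nat.card N))
  (σ : X) (hσo : orderOf σ = 2 ^ (n - 1))
  (hJc : ∀ g : X, Commute (σ ^ (2 ^ (n - 2))) g)
  (ζ : ℂ)
  (Θ : X → ℂ) (hΘc : ∀ g h : X, Θ (h * g * h⁻¹) = Θ g)
  (hΘv : ∀ l : ℕ, 0 < l → l < 2 ^ (n - 1) → ∀ ρ : X, Commute (σ ^ l) ρ → Odd (orderOf ρ) →
    Θ (σ ^ l * ρ) = 2 - ζ ^ l - (ζ ^ l)⁻¹)
  (κ : X →* DihedralGroup (2 ^ (n - 1))) (hker : κ.ker = N) (hκσ : κ σ = r 1)

omit [Fintype X] in
include hκσ in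
theorem kappa_J : κ (σ ^ (2 ^ (n - 2))) = r ((2 ^ (n - 2) : ℕ) : ZMod (2 ^ (n - 1))) := by
  rw [map_pow, hκσ, r_one_pow]

include hn hNodd hσo hJc hΘc hΘv hker hκσ in
open Classical in
theorem summand_eq (x y : X) :
    (if orderOf x = 2 ∧ orderOf y = 2 ∧ σ ^ (2 ^ (n - 2)) ∈ Subgroup.zpowers (x * y) then Θ (x * y) else 0) =
      ∑ i, ∑ j, ind n κ x i * ind n κ y j * Fw n ζ (j - i) := by
  have hn2 : 2 ≤ n := by omega
  have hre : ∀ x y : X, ∑ i, ∑ j, ind n κ x i * ind n κ y j * Fw n ζ (j - i) =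
      ∑ i, ind n κ x i * ∑ j, ind n κ y j * Fw n ζ (j - i) := by
    intro x y
    apply Finset.sum_congr rfl
    intro i _
    rw [Finset.mul_sum]
    apply Finset.sum_congr rfl
    intro j _
    rw [mul_assoc]
  rw [hre]
  by_cases hx : orderOf x = 2 ∧ ∃ i, κ x = sr i
  · obtain ⟨hx2, i₀, hi₀⟩ := hx
    rw [sum_ind_mul n κ x hx2 i₀ hi₀]
    by_cases hy : orderOf y = 2 ∧ ∃ j, κ y = sr j
    · obtain ⟨hy2, j₀, hj₀⟩ := hy
      rw [sum_ind_mul n κ y hy2 j₀ hj₀]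
      have hκxy : κ (x * y) = r (j₀ - i₀) := by rw [map_mul, hi₀, hj₀, sr_mul_sr]
      by_cases hij : j₀ = i₀
      · subst hij
        rw [sub_self, Fw_zero, if_neg]
        rintro ⟨-, -, h⟩
        have hmem : x * y ∈ N := by
          rw [← hker, MonoidHom.mem_ker, hκxy, sub_self]; rfl
        exact J_not_mem_of_mem n hn2 N hNodd σ hσo (x * y) hmem h
      · set k := j₀ - i₀ with hk
        have hk0 : k ≠ 0 := sub_ne_zero.mpr hij
        have hl0 : 0 < k.val := by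
          rcases Nat.eq_zero_or_pos k.val with h | h
          · exact absurd ((ZMod.val_eq_zero k).mp h) hk0
          · exact h
        have hl : k.val < 2 ^ (n - 1) := ZMod.val_lt k
        have hcast : ((k.val : ℕ) : ZMod (2 ^ (n - 1))) = k := ZMod.natCast_zmod_val k
        obtain ⟨u, ρ, hcomm, hρ, hconj⟩ :=
          rot_conj n N hNodd σ hσo κ hker hκσ (x * y) k.val (by rw [hcast]; exact hκxy)
        have hJmem : σ ^ (2 ^ (n - 2)) ∈ Subgroup.zpowers (x * y) := by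
          have h1 := J_mem_zpowers n hn2 σ hσo k.val hl0 hl
          have hcop : (orderOf (σ ^ k.val)).Coprime (orderOf ρ) := by
            have hd : orderOf (σ ^ k.val) ∣ 2 ^ (n - 1) :=
              (orderOf_pow_dvd (x := σ) k.val).trans (dvd_of_eq hσo)
            exact Nat.Coprime.coprime_dvd_left hd
              (Nat.Coprime.pow_left _ (Nat.coprime_two_left.mpr hρ))
          have h2 := mem_zpowers_mul_of_coprime (σ ^ k.val) ρ hcomm hcop
          rw [← hconj] at h2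
          have h3 : σ ^ (2 ^ (n - 2)) ∈ Subgroup.zpowers (u * (x * y) * u⁻¹) := by
            have hle : Subgroup.zpowers (σ ^ k.val) ≤ Subgroup.zpowers (u * (x * y) * u⁻¹) :=
              Subgroup.zpowers_le.mpr h2
            exact hle h1
          obtain ⟨z, hz⟩ := Subgroup.mem_zpowers_iff.mp h3
          rw [conj_zpow] at hz
          refine Subgroup.mem_zpowers_iff.mpr ⟨z, ?_⟩
          have hJu := (hJc u).eq
          calc (x * y) ^ z = u⁻¹ * (u * (x * y) ^ z * u⁻¹) * u := by group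
            _ = u⁻¹ * σ ^ (2 ^ (n - 2)) * u := by rw [hz]
            _ = u⁻¹ * (σ ^ (2 ^ (n - 2)) * u) := by rw [mul_assoc]
            _ = u⁻¹ * (u * σ ^ (2 ^ (n - 2))) := by rw [hJu]
            _ = σ ^ (2 ^ (n - 2)) := by group
        rw [if_pos ⟨hx2, hy2, hJmem⟩, ← hΘc (x * y) u, hconj, hΘv k.val hl0 hl ρ hcomm hρ]
        rfl
    · rw [sum_ind_mul_zero n κ y hy]
      rw [if_neg]
      rintro ⟨-, hy2, h⟩
      rcases invol_type n hn2 N hNodd σ hσo hJc κ hker hκσ y hy2 with hyJ | ⟨j, hj⟩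
      · subst hyJ
        have hκ : κ (x * σ ^ (2 ^ (n - 2))) = sr (i₀ + ((2 ^ (n - 2) : ℕ) : ZMod (2 ^ (n - 1)))) := by
          rw [map_mul, hi₀, kappa_J n σ κ hκσ, sr_mul_r]
        exact J_not_mem_of_sr n hn2 σ κ hκσ _ _ hκ h
      · exact hy ⟨hy2, j, hj⟩
  · rw [sum_ind_mul_zero n κ x hx]
    rw [if_neg]
    rintro ⟨hx2, hy2, h⟩
    rcases invol_type n hn2 N hNodd σ hσo hJc κ hker hκσ x hx2 with hxJ | ⟨i, hi⟩
    · subst hxJ
      rcases invol_type n hn2 N hNodd σ hσo hJc κ hker hκσ y hy2 with hyJ | ⟨j, hj⟩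
      · subst hyJ
        have h1 : σ ^ (2 ^ (n - 2)) * σ ^ (2 ^ (n - 2)) = 1 := by
          rw [← pow_two, ← orderOf_dvd_iff_pow_eq_one, hx2]
        rw [h1, Subgroup.zpowers_one_eq_bot, Subgroup.mem_bot] at h
        rw [h, orderOf_one] at hx2
        omega
      · have hκ : κ (σ ^ (2 ^ (n - 2)) * y) = sr (j - ((2 ^ (n - 2) : ℕ) : ZMod (2 ^ (n - 1)))) := by
          rw [map_mul, hj, kappa_J n σ κ hκσ, r_mul_sr]
        exact J_not_mem_of_sr n hn2 σ κ hκσ _ _ hκ h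
    · exact hx ⟨hx2, i, hi⟩

end main

section cnt

variable {X : Type u} [Group X] [Fintype X] (n : ℕ) (κ : X →* DihedralGroup (2 ^ (n - 1)))

theorem sum_ind (i : ZMod (2 ^ (n - 1))) :
    ∑ x : X, ind n κ x i = (Nat.card {x : X // orderOf x = 2 ∧ κ x = sr i} : ℂ) := by
  classical
  unfold ind
  rw [Finset.sum_boole, Nat.card_eq_fintype_card, Fintype.card_subtype]

end cnt

open Classical in
/-- **S4482-LOC** (helper24's `local_count`). -/
theorem local_count {X : Type u} [Group X] [Fintype X] (n : ℕ) (hn : 3 ≤ n)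
    (N : Subgroup X) [N.Normal] (hNodd : Odd (Nat.card N)) (hidx : N.index = 2 ^ n)
    (σ τ : X) (hσo : orderOf σ = 2 ^ (n - 1)) (hτo : orderOf τ = 2) (hrel : τ * σ * τ⁻¹ = σ⁻¹)
    (hJc : ∀ g : X, Commute (σ ^ (2 ^ (n - 2))) g)
    (ζ : ℂ) (hζ : IsPrimitiveRoot ζ (2 ^ (n - 1)))
    (Θ : X → ℂ) (hΘc : ∀ g h : X, Θ (h * g * h⁻¹) = Θ g)
    (hΘv : ∀ l : ℕ, 0 < l → l < 2 ^ (n - 1) → ∀ ρ : X, Commute (σ ^ l) ρ → Odd (orderOf ρ) →
      Θ (σ ^ l * ρ) = 2 - ζ ^ l - (ζ ^ l)⁻¹) :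
    (∑ x : X, ∑ y : X,
      if orderOf x = 2 ∧ orderOf y = 2 ∧ σ ^ (2 ^ (n - 2)) ∈ Subgroup.zpowers (x * y) then Θ (x * y) else 0) =
      2 * (Nat.card X : ℂ) ^ 2 *
        ((Nat.card (Subgroup.centralizer ({τ} : Set X)) : ℂ)⁻¹ +
          (Nat.card (Subgroup.centralizer ({σ * τ} : Set X)) : ℂ)⁻¹) ^ 2 := by
  have hn2 : 2 ≤ n := by omega
  obtain ⟨κ, -, hker, hκσ, hκτ⟩ := exists_kappa n hn N hNodd hidx σ τ hσo hτo hrel
  -- the sum in terms of the type counts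
  have h1 : (∑ x : X, ∑ y : X,
      if orderOf x = 2 ∧ orderOf y = 2 ∧ σ ^ (2 ^ (n - 2)) ∈ Subgroup.zpowers (x * y) then Θ (x * y) else 0) =
      ∑ x : X, ∑ y : X, ∑ i, ∑ j, ind n κ x i * ind n κ y j * Fw n ζ (j - i) := by
    apply Finset.sum_congr rfl
    intro x _
    apply Finset.sum_congr rfl
    intro y _
    exact summand_eq n hn N hNodd σ hσo hJc ζ Θ hΘc hΘv κ hker hκσ x y
  rw [h1, sum_rearr (fun x i => ind n κ x i) (fun i j => Fw n ζ (j - i))]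
  simp only [sum_ind]
  set c : ZMod (2 ^ (n - 1)) → ℂ :=
    fun i => (Nat.card {x : X // orderOf x = 2 ∧ κ x = sr i} : ℂ) with hc
  have hshift : ∀ i, c (i + 2) = c i := by
    intro i
    simp only [hc]
    rw [card_type_add_two n σ κ hκσ i]
  have h2 := weight_sum n hn ζ hζ c hshift
  have h2' : ∑ i, ∑ j, c i * c j * Fw n ζ (j - i) = 2 * ((2 : ℂ) ^ (n - 2) * (c 0 + c 1)) ^ 2 := h2
  rw [h2']
  -- the counts
  have hτ' : τ⁻¹ = τ := by
    have : τ * τ = 1 := by rw [← pow_two, ← hτo, pow_orderOf_eq_one]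
    exact inv_eq_of_mul_eq_one_left this
  have hκστ : κ (σ * τ) = sr (-1) := by
    rw [map_mul, hκσ, hκτ, r_mul_sr, zero_sub]
  have hστo : orderOf (σ * τ) = 2 := by
    apply orderOf_eq_prime
    · rw [pow_two]
      have : τ * σ * τ = σ⁻¹ := by rw [← hrel, hτ']
      calc σ * τ * (σ * τ) = σ * (τ * σ * τ) := by group
        _ = 1 := by rw [this, mul_inv_cancel]
    · intro h
      have := congrArg κ h
      rw [hκστ, map_one, one_def] at this
      cases this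
  have hA := card_type_mul n N hNodd κ hker τ hτo 0 hκτ
  have hB := card_type_mul n N hNodd κ hker (σ * τ) hστo (-1) hκστ
  have hCA := card_centralizer_eq n hn2 N σ hJc κ hker hκσ τ 0 hκτ
  have hCB := card_centralizer_eq n hn2 N σ hJc κ hker hκσ (σ * τ) (-1) hκστ
  have hc1 : c 1 = c (-1) := by
    have := hshift (-1)
    rw [← this]
    congr 1
    ring
  have hX : N.index * Nat.card N = Nat.card X := Subgroup.index_mul_card N
  rw [hidx] at hX
  rw [hCA, hCB, ← hX, hc1]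
  set a := Nat.card (N ⊓ Subgroup.centralizer ({τ} : Set X) : Subgroup X) with ha
  set b := Nat.card (N ⊓ Subgroup.centralizer ({σ * τ} : Set X) : Subgroup X) with hb
  have hNpos : 0 < Nat.card N := Nat.card_pos
  have ha0 : (a : ℂ) ≠ 0 := by
    have : a ≠ 0 := by
      intro h0; rw [h0, mul_zero] at hA; omega
    exact_mod_cast this
  have hb0 : (b : ℂ) ≠ 0 := by
    have : b ≠ 0 := by
      intro h0; rw [h0, mul_zero] at hB; omega
    exact_mod_cast this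
  have hA' : c 0 = (Nat.card N : ℂ) / a := by
    rw [eq_div_iff ha0]
    simp only [hc]
    exact_mod_cast hA
  have hB' : c (-1) = (Nat.card N : ℂ) / b := by
    rw [eq_div_iff hb0]
    simp only [hc]
    exact_mod_cast hB
  rw [hA', hB']
  have hpow : (2 : ℂ) ^ n = 2 ^ (n - 2) * 4 := by
    have : n = (n - 2) + 2 := by omega
    conv_lhs => rw [this, pow_add]
    norm_num
  push_cast
  rw [hpow]
  field_simp

end Cfsg.Agent.Lib.Helper20.BOFLOC
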