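/-
helper20: S4501 market "BQ", leaf BQ-CONSEC (`consec_arith`): two consecutive divisors `d`, `d + 1` of `p² q^b`.
-/
import Mathlib

set_option autoImplicit false

namespace Cfsg.Agent.Lib.Helper20.BQCONSEC

/-- a divisor of `p ^ 2 * q ^ b` is `p ^ i * q ^ j`. -/
theorem bq_divisor_form2 (p q : ℕ) (hp : p.Prime) (hq : q.Prime) (d b : ℕ) (h : d ∣ p ^ 2 * q ^ b) :
    ∃ i j : ℕ, d = p ^ i * q ^ j := by
  obtain ⟨d1, d2, h1', h2', rfl⟩ := (Nat.dvd_mul).1 h
  obtain ⟨i, -, rfl⟩ := (Nat.dvd_prime_pow hp).1 h1'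
  obtain ⟨j, -, rfl⟩ := (Nat.dvd_prime_pow hq).1 h2'
  exact ⟨i, j, rfl⟩

/-- an odd square is `1 mod 4`. -/
theorem bq_sq_mod_four (p : ℕ) (hodd : p % 2 = 1) : p ^ 2 % 4 = 1 := by
  have : p % 4 = 1 ∨ p % 4 = 3 := by omega
  rcases this with h | h <;> simp [Nat.pow_mod, h]

/-- an even prime power has base `2`. -/
theorem bq_eq_two_of_even_pow (q l : ℕ) (hq : q.Prime) (h : 2 ∣ q ^ l) : q = 2 := by
  have h2 : 2 ∣ q := (Nat.prime_two).dvd_of_dvd_pow h
  rcases (Nat.dvd_prime hq).1 h2 with h' | h'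
  · omega
  · exact h'.symm

theorem consec_arith (p q b d : ℕ) (hp : p.Prime) (hq : q.Prime) (hpq : p ≠ q) (hp3 : p ≠ 3) (hq3 : q ≠ 3) (hd2 : 2 ≤ d)
    (hd : d ∣ p ^ 2 * q ^ b) (hd1 : d + 1 ∣ p ^ 2 * q ^ b)
    (hV : ∀ i : ℕ, (d = p ^ i ∨ d + 1 = p ^ i) → p ^ i = p ^ 2) : p = 2 ∧ q = 5 := by
  obtain ⟨i, j, hij⟩ := bq_divisor_form2 p q hp hq d b hd
  obtain ⟨k, l, hkl⟩ := bq_divisor_form2 p q hp hq (d + 1) b hd1
  have hp2 : 2 ≤ p := hp.two_le
  have hq2 : 2 ≤ q := hq.two_le
  -- no prime divides both `d` and `d + 1`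
  have hno : ∀ r : ℕ, r.Prime → r ∣ d → r ∣ d + 1 → False := by
    intro r hr h1 h2
    have : r ∣ (d + 1) - d := Nat.dvd_sub h2 h1
    have e : (d + 1) - d = 1 := by omega
    rw [e] at this
    have := Nat.le_of_dvd (by norm_num) this
    have := hr.two_le
    omega
  -- the two shapes
  have key : (d = p ^ 2 ∧ ∃ l : ℕ, 1 ≤ l ∧ d + 1 = q ^ l) ∨ (d + 1 = p ^ 2 ∧ ∃ j : ℕ, 1 ≤ j ∧ d = q ^ j) := by
    rcases Nat.eq_zero_or_pos i with hi | hi
    · -- i = 0 : d = q ^ j, j ≥ 1
      subst hi
      have hj : 1 ≤ j := by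
        rcases Nat.eq_zero_or_pos j with hj | hj
        · subst hj; simp at hij; omega
        · exact hj
      have hl : l = 0 := by
        rcases Nat.eq_zero_or_pos l with hl | hl
        · exact hl
        · exfalso
          refine hno q hq ?_ ?_
          · rw [hij]; exact Dvd.dvd.mul_left (dvd_pow_self q (by omega)) _
          · rw [hkl]; exact Dvd.dvd.mul_left (dvd_pow_self q (by omega)) _
      subst hl
      right
      have hkl' : d + 1 = p ^ k := by simpa using hkl
      have := hV k (Or.inr hkl')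
      exact ⟨by rw [hkl', this], j, hj, by simpa using hij⟩
    · -- i ≥ 1 : k = 0
      have hk : k = 0 := by
        rcases Nat.eq_zero_or_pos k with hk | hk
        · exact hk
        · exfalso
          refine hno p hp ?_ ?_
          · rw [hij]; exact Dvd.dvd.mul_right (dvd_pow_self p (by omega)) _
          · rw [hkl]; exact Dvd.dvd.mul_right (dvd_pow_self p (by omega)) _
      subst hk
      have hl : 1 ≤ l := by
        rcases Nat.eq_zero_or_pos l with hl | hl
        · subst hl; simp at hkl; omega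
        · exact hl
      have hj : j = 0 := by
        rcases Nat.eq_zero_or_pos j with hj | hj
        · exact hj
        · exfalso
          refine hno q hq ?_ ?_
          · rw [hij]; exact Dvd.dvd.mul_left (dvd_pow_self q (by omega)) _
          · rw [hkl]; exact Dvd.dvd.mul_left (dvd_pow_self q (by omega)) _
      subst hj
      left
      have hij' : d = p ^ i := by simpa using hij
      have := hV i (Or.inl hij')
      exact ⟨by rw [hij', this], l, hl, by simpa using hkl⟩
  rcases Nat.eq_or_lt_of_le hp2 with hp2' | hp2'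
  · -- p = 2
    have hp2'' : p = 2 := hp2'.symm
    subst hp2''
    refine ⟨rfl, ?_⟩
    rcases key with ⟨hd4, l, hl, hql⟩ | ⟨hd4, j, hj, hqj⟩
    · have h5 : q ^ l = 5 := by rw [← hql, hd4]; norm_num
      have hq5 : q ∣ 5 := by rw [← h5]; exact dvd_pow_self q (by omega)
      rcases (Nat.dvd_prime (by norm_num : Nat.Prime 5)).1 hq5 with h | h
      · omega
      · exact h
    · exfalso
      have h3 : q ^ j = 3 := by rw [← hqj]; norm_num at hd4; omega
      have hq3' : q ∣ 3 := by rw [← h3]; exact dvd_pow_self q (by omega)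
      rcases (Nat.dvd_prime (by norm_num : Nat.Prime 3)).1 hq3' with h | h
      · omega
      · exact hq3 h
  · -- p odd
    exfalso
    have hodd : p % 2 = 1 := by
      rcases hp.eq_two_or_odd with h | h
      · omega
      · exact h
    have hsq := bq_sq_mod_four p hodd
    rcases key with ⟨hd4, l, hl, hql⟩ | ⟨hd4, j, hj, hqj⟩
    · -- p² + 1 = q ^ l
      have heven : 2 ∣ q ^ l := by rw [← hql, hd4]; omega
      have hq2' : q = 2 := bq_eq_two_of_even_pow q l hq heven
      subst hq2'
      rcases Nat.eq_or_lt_of_le hl with hl1 | hl1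
      · -- l = 1
        have : l = 1 := hl1.symm
        subst this
        have : p ^ 2 = 1 := by omega
        have hp1 : p = 1 := by
          have := Nat.pow_left_injective (n := 2) (by norm_num) (by simpa using this : p ^ 2 = 1 ^ 2)
          exact this
        omega
      · -- 4 ∣ 2 ^ l
        have h4 : 4 ∣ 2 ^ l := by
          have : (2 : ℕ) ^ 2 ∣ 2 ^ l := pow_dvd_pow 2 (by omega)
          simpa using this
        omega
    · -- p² - 1 = q ^ j
      have heven : 2 ∣ q ^ j := by rw [← hqj]; omega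
      have hq2' : q = 2 := bq_eq_two_of_even_pow q j hq heven
      subst hq2'
      -- (p - 1) (p + 1) = 2 ^ j
      have hprod : (p - 1) * (p + 1) = 2 ^ j := by
        have h1 : 1 ≤ p := by omega
        have : (p - 1) * (p + 1) = p ^ 2 - 1 := by
          zify [h1, Nat.one_le_pow 2 p (by omega)]
          ring
        rw [this, ← hqj]; omega
      have ha : p - 1 ∣ 2 ^ j := Dvd.intro _ hprod
      have hc : p + 1 ∣ 2 ^ j := Dvd.intro_left _ hprod
      obtain ⟨a, -, ha'⟩ := (Nat.dvd_prime_pow Nat.prime_two).1 ha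
      obtain ⟨c, -, hc'⟩ := (Nat.dvd_prime_pow Nat.prime_two).1 hc
      -- 2 ^ c = 2 ^ a + 2
      have hac : 2 ^ c = 2 ^ a + 2 := by omega
      rcases Nat.lt_or_ge a 2 with ha2 | ha2
      · interval_cases a
        · simp at ha'; omega
        · simp at ha'; omega
      · have h4a : 4 ∣ 2 ^ a := by
          have : (2 : ℕ) ^ 2 ∣ 2 ^ a := pow_dvd_pow 2 ha2
          simpa using this
        have hc2 : 2 ≤ c := by
          by_contra hcon
          have : c = 0 ∨ c = 1 := by omega
          rcases this with h | h <;> subst h <;> simp at hc' <;> omega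
        have h4c : 4 ∣ 2 ^ c := by
          have : (2 : ℕ) ^ 2 ∣ 2 ^ c := pow_dvd_pow 2 hc2
          simpa using this
        omega

end Cfsg.Agent.Lib.Helper20.BQCONSEC
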