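/-
helper20: S4501 market "BQ", leaf BQ-PAT36 (`pattern_36`): the degree patterns for `g₀ = 9 · q^b`.
-/
import Mathlib

set_option autoImplicit false

namespace Cfsg.Agent.Lib.Helper20.BQPAT36

/-- a divisor `> 1` of `9 * q ^ b` (`q` prime) is divisible by `q`, or is `3` or `9`. -/
theorem bq_divisor_form9 (q : ℕ) (hq : q.Prime) (d b : ℕ) (h : d ∣ 9 * q ^ b) (h1 : 1 < d) :
    q ∣ d ∨ d = 3 ∨ d = 9 := by
  obtain ⟨d1, d2, h1', h2', rfl⟩ := (Nat.dvd_mul).1 h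
  obtain ⟨j, -, rfl⟩ := (Nat.dvd_prime_pow hq).1 h2'
  rcases Nat.eq_zero_or_pos j with hj | hj
  · subst hj
    right
    have h9 : (9 : ℕ) = 3 ^ 2 := by norm_num
    rw [h9] at h1'
    obtain ⟨i, hi, rfl⟩ := (Nat.dvd_prime_pow (by norm_num : Nat.Prime 3)).1 h1'
    interval_cases i
    · simp at h1
    · left; simp
    · right; simp
  · left
    exact Dvd.dvd.mul_left (dvd_pow_self q (by omega)) d1

theorem pattern_36 (q b d₂ d₃ d₄ : ℕ) (ε : ℤ) (hq : q.Prime) (hq5 : 5 ≤ q) (hε : ε = 1 ∨ ε = -1)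
    (h2 : 1 < d₂) (h3 : 1 < d₃) (h4 : 1 < d₄) (hd2 : d₂ ∣ 9 * q ^ b) (hd3 : d₃ ∣ 9 * q ^ b) (hd4 : d₄ ∣ 9 * q ^ b)
    (hV : ∀ i : ℕ, (d₂ = 3 ^ i ∨ d₃ = 3 ^ i ∨ d₄ = 3 ^ i) → 3 ^ i = 9)
    (hm2 : (4 : ℤ) ∣ (d₂ : ℤ) - 1) (hm3 : (4 : ℤ) ∣ (d₃ : ℤ) - ε) (hm4 : (4 : ℤ) ∣ (d₄ : ℤ) + 1)
    (hrel : 1 + (d₂ : ℤ) + ε * (d₃ : ℤ) - (d₄ : ℤ) = 0) :
    ε = 1 ∧ ((q = 19 ∧ d₂ = 9 ∧ d₃ = 9 ∧ d₄ = 19) ∨ (q = 5 ∧ d₂ = 9 ∧ d₃ = 5 ∧ d₄ = 15) ∨
      (q = 5 ∧ d₂ = 5 ∧ d₃ = 9 ∧ d₄ = 15)) := by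
  have G : ∀ d : ℕ, d ∣ 9 * q ^ b → 1 < d → q ∣ d ∨ d = 3 ∨ d = 9 :=
    fun d hd h1 => bq_divisor_form9 q hq d b hd h1
  have hn2 : d₂ ≠ 3 := fun h => by
    have := hV 1 (Or.inl (by simpa using h)); norm_num at this
  have hn3 : d₃ ≠ 3 := fun h => by
    have := hV 1 (Or.inr (Or.inl (by simpa using h))); norm_num at this
  have hn4 : d₄ ≠ 3 := fun h => by
    have := hV 1 (Or.inr (Or.inr (by simpa using h))); norm_num at this
  obtain ⟨t2, ht2⟩ := hm2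
  obtain ⟨t3, ht3⟩ := hm3
  obtain ⟨t4, ht4⟩ := hm4
  -- `q ∣ 10 → q = 5`
  have hq10 : q ∣ 10 → q = 5 := by
    intro h
    have h' : q ∣ 2 * 5 := by simpa using h
    rcases (Nat.Prime.dvd_mul hq).1 h' with h2' | h5'
    · have := Nat.le_of_dvd (by norm_num) h2'; omega
    · rcases (Nat.dvd_prime (by norm_num : Nat.Prime 5)).1 h5' with h | h
      · omega
      · exact h
  have hq4 : q ∣ d₄ := by
    rcases G d₄ hd4 h4 with h | h | h
    · exact h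
    · exact absurd h hn4
    · omega
  obtain ⟨x4, hx4⟩ := hq4
  have H2 : q ∣ d₂ ∨ d₂ = 9 := by
    rcases G d₂ hd2 h2 with h | h | h
    · exact Or.inl h
    · exact absurd h hn2
    · exact Or.inr h
  have H3 : q ∣ d₃ ∨ d₃ = 9 := by
    rcases G d₃ hd3 h3 with h | h | h
    · exact Or.inl h
    · exact absurd h hn3
    · exact Or.inr h
  rcases hε with hε | hε
  · -- ε = 1 : d₄ = 1 + d₂ + d₃
    subst hε
    refine ⟨rfl, ?_⟩
    have hrel' : d₄ = 1 + d₂ + d₃ := by omega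
    rcases H2 with ⟨x2, hx2⟩ | h2e <;> rcases H3 with ⟨x3, hx3⟩ | h3e
    · -- q ∣ d₂, d₃, d₄ : q ∣ 1
      exfalso
      have : q ∣ 1 := by
        have h1 : q ∣ d₄ := ⟨x4, hx4⟩
        have h23 : q ∣ d₂ + d₃ := Dvd.dvd.add ⟨x2, hx2⟩ ⟨x3, hx3⟩
        have : q ∣ d₄ - (d₂ + d₃) := Nat.dvd_sub h1 h23
        have e : d₄ - (d₂ + d₃) = 1 := by omega
        rwa [e] at this
      have := Nat.le_of_dvd (by norm_num) this
      omega
    · -- q ∣ d₂, d₃ = 9 : d₄ = 10 + d₂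
      right; right
      have hq5' : q = 5 := by
        apply hq10
        have h1 : q ∣ d₄ := ⟨x4, hx4⟩
        have : q ∣ d₄ - d₂ := Nat.dvd_sub h1 ⟨x2, hx2⟩
        have e : d₄ - d₂ = 10 := by omega
        rwa [e] at this
      subst hq5'
      have hx2d : x2 ∣ 9 * 5 ^ b := (Dvd.intro_left 5 hx2.symm).trans hd2
      have hx4d : x4 ∣ 9 * 5 ^ b := (Dvd.intro_left 5 hx4.symm).trans hd4
      have hx4' : 1 < x4 := by omega
      rcases G x4 hx4d hx4' with ⟨n, hn⟩ | h | h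
      · -- 5 ∣ x4
        rcases Nat.lt_or_ge 1 x2 with hx2' | hx2'
        · rcases G x2 hx2d hx2' with ⟨n2, hn2'⟩ | h | h
          · omega
          · omega
          · omega
        · omega
      · exact ⟨rfl, by omega, h3e, by omega⟩
      · -- x4 = 9, x2 = 7
        exfalso
        have hx2' : 1 < x2 := by omega
        rcases G x2 hx2d hx2' with ⟨n2, hn2'⟩ | h' | h'
        · omega
        · omega
        · omega
    · -- d₂ = 9, q ∣ d₃ : d₄ = 10 + d₃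
      right; left
      have hq5' : q = 5 := by
        apply hq10
        have h1 : q ∣ d₄ := ⟨x4, hx4⟩
        have : q ∣ d₄ - d₃ := Nat.dvd_sub h1 ⟨x3, hx3⟩
        have e : d₄ - d₃ = 10 := by omega
        rwa [e] at this
      subst hq5'
      have hx3d : x3 ∣ 9 * 5 ^ b := (Dvd.intro_left 5 hx3.symm).trans hd3
      have hx4d : x4 ∣ 9 * 5 ^ b := (Dvd.intro_left 5 hx4.symm).trans hd4
      have hx4' : 1 < x4 := by omega
      rcases G x4 hx4d hx4' with ⟨n, hn⟩ | h | h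
      · rcases Nat.lt_or_ge 1 x3 with hx3' | hx3'
        · rcases G x3 hx3d hx3' with ⟨n3, hn3'⟩ | h | h
          · omega
          · omega
          · omega
        · omega
      · exact ⟨rfl, h2e, by omega, by omega⟩
      · exfalso
        have hx3' : 1 < x3 := by omega
        rcases G x3 hx3d hx3' with ⟨n3, hn3'⟩ | h' | h'
        · omega
        · omega
        · omega
    · -- d₂ = d₃ = 9 : d₄ = 19
      left
      have h19 : d₄ = 19 := by omega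
      have hq19 : q ∣ 19 := by rw [← h19]; exact ⟨x4, hx4⟩
      rcases (Nat.dvd_prime (by norm_num : Nat.Prime 19)).1 hq19 with h | h
      · omega
      · exact ⟨h, h2e, h3e, h19⟩
  · -- ε = -1 : d₃ + d₄ = 1 + d₂
    subst hε
    exfalso
    have hrel' : d₃ + d₄ = 1 + d₂ := by omega
    have hq3 : q ∣ d₃ := by
      rcases H3 with h | h
      · exact h
      · omega
    obtain ⟨x3, hx3⟩ := hq3
    rcases H2 with ⟨x2, hx2⟩ | h2e
    · have : q ∣ 1 := by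
        have h34 : q ∣ d₃ + d₄ := Dvd.dvd.add ⟨x3, hx3⟩ ⟨x4, hx4⟩
        have : q ∣ (d₃ + d₄) - d₂ := Nat.dvd_sub h34 ⟨x2, hx2⟩
        have e : (d₃ + d₄) - d₂ = 1 := by omega
        rwa [e] at this
      have := Nat.le_of_dvd (by norm_num) this
      omega
    · have hq5' : q = 5 := by
        apply hq10
        have h34 : q ∣ d₃ + d₄ := Dvd.dvd.add ⟨x3, hx3⟩ ⟨x4, hx4⟩
        have e : d₃ + d₄ = 10 := by omega
        rwa [e] at h34
      subst hq5'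
      omega

end Cfsg.Agent.Lib.Helper20.BQPAT36
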