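/-
helper20: Bender's uniqueness lemma for a maximal subgroup `H` of a minimal simple group of odd order
whose Fitting subgroup involves at least two primes (S1482).  Part A: basic facts and the
"star lemma" (`Z(O_q(H₁)) ≤ H₂` for all `q` and `π(F(H₂)) ⊆ π(F(H₁))` give `F(H₂) ≤ H₁`).
-/
import Mathlib
import Cfsg.Agent.Lib.Helper17.BGFitA
import Cfsg.Agent.Lib.Helper1.ThompsonPQ
import Cfsg.Agent.Lib.Helper27.OddStable

set_option autoImplicit false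
open scoped Pointwise commutatorElement

namespace Cfsg.Agent.Lib.Helper20.BenderU

open Cfsg.Agent.Lib.Helper17 Cfsg.Agent.Lib.Helper17.BGU
open Cfsg.Agent.Lib.Helper27.PuigOdd (zOf normalizer_le_normalizer_zOf)

universe u
variable {G : Type u} [Group G]

/-- a subgroup that is both a `p`-group and an `r`-group element-wise: common elements are trivial. -/
theorem eq_one_of_mem_pgroups [Finite G] {p r : ℕ} [Fact p.Prime] [Fact r.Prime] (hpr : p ≠ r)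
    {A B : Subgroup G} (hA : IsPGroup p A) (hB : IsPGroup r B) {x : G} (hxA : x ∈ A) (hxB : x ∈ B) :
    x = 1 := by
  obtain ⟨k, hk⟩ := hA ⟨x, hxA⟩
  obtain ⟨l, hl⟩ := hB ⟨x, hxB⟩
  have hk' : x ^ (p ^ k) = 1 := by simpa using congrArg Subtype.val hk
  have hl' : x ^ (r ^ l) = 1 := by simpa using congrArg Subtype.val hl
  have h1 : orderOf x ∣ p ^ k := orderOf_dvd_of_pow_eq_one hk'
  have h2 : orderOf x ∣ r ^ l := orderOf_dvd_of_pow_eq_one hl'
  have hcop : Nat.Coprime (p ^ k) (r ^ l) :=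
    Nat.Coprime.pow _ _ ((Nat.coprime_primes Fact.out Fact.out).mpr hpr)
  have h3 : orderOf x = 1 := Nat.eq_one_of_dvd_coprimes hcop h1 h2
  exact orderOf_eq_one_iff.mp h3

/-- `Z(O_p(H)) ≤ Z(F(H))`. -/
theorem zOf_pCoreOf_le_zOf_fittingOf (H : Subgroup G) [Finite H] (p : ℕ) [Fact p.Prime] :
    zOf (Cfsg.pCoreOf p H) ≤ zOf (Cfsg.fittingOf H) := by
  intro x hx
  refine Subgroup.mem_inf.mpr ⟨PrimeAct.pCoreOf_le_fittingOf H p hx.1, ?_⟩
  have h1 : Subgroup.zpowers x ≤ Subgroup.centralizer ((Cfsg.fittingOf H : Subgroup G) : Set G) := by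
    apply le_centralizer_fittingOf_of_forall
    intro q hq
    haveI : Fact q.Prime := ⟨hq⟩
    rw [Subgroup.zpowers_le]
    rw [Subgroup.mem_centralizer_iff]
    intro y hy
    by_cases hqp : q = p
    · subst hqp
      exact (Subgroup.mem_centralizer_iff.mp hx.2) y hy
    · exact PrimeAct.pCoreOf_commute H hqp y x hy hx.1
  exact h1 (Subgroup.mem_zpowers x)

section Simple

variable [Finite G]

/-- Facts about `Z(O_p(H))` for a maximal subgroup `H` of a simple group with `O_p(H) ≠ 1`. -/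
theorem zOf_pCoreOf_facts [IsSimpleGroup G] {H : Subgroup G} (hH : IsCoatom H) (p : ℕ)
    [Fact p.Prime] (hne : Cfsg.pCoreOf p H ≠ ⊥) :
    zOf (Cfsg.pCoreOf p H) ≠ ⊥ ∧ zOf (Cfsg.pCoreOf p H) ≤ Cfsg.pCoreOf p H ∧
      IsPGroup p (zOf (Cfsg.pCoreOf p H)) ∧
      Subgroup.normalizer ((zOf (Cfsg.pCoreOf p H) : Subgroup G) : Set G) = H := by
  have hP : IsPGroup p (Cfsg.pCoreOf p H) := PrimeAct.pCoreOf_isPGroup p H
  have h1 : zOf (Cfsg.pCoreOf p H) ≠ ⊥ := zOf_ne_bot hP hne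
  have h2 : zOf (Cfsg.pCoreOf p H) ≤ Cfsg.pCoreOf p H := zOf_le _
  refine ⟨h1, h2, hP.to_le h2, ?_⟩
  apply normalizer_eq_of_coatom hH (h2.trans (PrimeAct.pCoreOf_le p H)) h1
  exact (le_normalizer_pCoreOf p H).trans (normalizer_le_normalizer_zOf _)

/-- The refined star lemma: `Z(O_r(H₁))` centralizes `O_p(H₂)`. -/
theorem zOf_le_centralizer_pCoreOf (hG : Cfsg.IsMinSimpleOddOrder G) {H₁ H₂ : Subgroup G}
    (h1 : IsCoatom H₁) (h2 : IsCoatom H₂)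
    (hZ : ∀ q : ℕ, q.Prime → zOf (Cfsg.pCoreOf q H₁) ≤ H₂)
    {p r : ℕ} [Fact p.Prime] [Fact r.Prime] (hpr : p ≠ r)
    (hp1 : Cfsg.pCoreOf p H₁ ≠ ⊥) (hr1 : Cfsg.pCoreOf r H₁ ≠ ⊥) :
    zOf (Cfsg.pCoreOf r H₁) ≤ Subgroup.centralizer ((Cfsg.pCoreOf p H₂ : Subgroup G) : Set G) := by
  haveI : IsSimpleGroup G := hG.2.1
  have hpp : p.Prime := Fact.out
  have hrp : r.Prime := Fact.out
  obtain ⟨hP1, hPle, hPp, hPN⟩ := zOf_pCoreOf_facts h1 p hp1
  obtain ⟨hQ1, hQle, hQr, hQN⟩ := zOf_pCoreOf_facts h1 r hr1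
  set P := zOf (Cfsg.pCoreOf p H₁) with hPdef
  set Q := zOf (Cfsg.pCoreOf r H₁) with hQdef
  set K := Cfsg.pCoreOf p H₂ with hKdef
  have hPH2 : P ≤ H₂ := hZ p hpp
  have hQH2 : Q ≤ H₂ := hZ r hrp
  have hKn : H₂ ≤ Subgroup.normalizer (K : Set G) := le_normalizer_pCoreOf p H₂
  have hKp : IsPGroup p K := PrimeAct.pCoreOf_isPGroup p H₂
  -- `p` is odd
  have hp2 : p ≠ 2 := by
    rintro rfl
    have hdvd : 2 ∣ Nat.card G := by
      have h3 : 2 ∣ Nat.card P := by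
        rcases hPp.card_eq_or_dvd with h | h
        · exact absurd (Subgroup.card_eq_one.mp h) hP1
        · exact h
      exact h3.trans (Subgroup.card_subgroup_dvd_card P)
    exact (Nat.not_even_iff_odd.mpr hG.1) (even_iff_two_dvd.mpr hdvd)
  have hQcop : (Nat.card Q).Coprime p := by
    obtain ⟨n, hn⟩ := IsPGroup.iff_card.mp hQr
    rw [hn]
    exact Nat.Coprime.pow_left _ ((Nat.coprime_primes hrp hpp).mpr (Ne.symm hpr))
  have hPQ : P ≤ Subgroup.normalizer (Q : Set G) := by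
    have : P ≤ Subgroup.centralizer (Q : Set G) := by
      intro x hx
      rw [Subgroup.mem_centralizer_iff]
      intro y hy
      exact PrimeAct.pCoreOf_commute H₁ (Ne.symm hpr) y x (hQle hy) (hPle hx)
    exact this.trans (Subgroup.centralizer_le_normalizer _)
  apply Cfsg.Agent.Lib.Helper1.thompson_PQ hp2 P Q K hPp hQcop hPQ hKp (hPH2.trans hKn)
    (hQH2.trans hKn)
  -- `C_K(P)` centralizes `Q`
  rintro d ⟨hdK, hdC⟩
  have hdH1 : d ∈ H₁ := by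
    rw [← hPN]
    exact Subgroup.centralizer_le_normalizer _ hdC
  rw [Subgroup.mem_centralizer_iff]
  intro y hy
  have hyH2 : y ∈ H₂ := hQH2 hy
  have hyR : y ∈ Cfsg.pCoreOf r H₁ := hQle hy
  have hc1 : d * y * d⁻¹ * y⁻¹ ∈ Cfsg.pCoreOf r H₁ := by
    have h3 : d * y * d⁻¹ ∈ Cfsg.pCoreOf r H₁ :=
      ((Subgroup.mem_normalizer_iff.mp (le_normalizer_pCoreOf r H₁ hdH1)) y).mp hyR
    exact mul_mem h3 (inv_mem hyR)
  have hc2 : d * y * d⁻¹ * y⁻¹ ∈ K := by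
    have h3 : y * d⁻¹ * y⁻¹ ∈ K :=
      ((Subgroup.mem_normalizer_iff.mp (hKn hyH2)) d⁻¹).mp (inv_mem hdK)
    have := mul_mem hdK h3
    simpa [mul_assoc] using this
  have hc := eq_one_of_mem_pgroups hpr hKp (PrimeAct.pCoreOf_isPGroup r H₁) hc2 hc1
  have h5 : d * y = (d * y * d⁻¹ * y⁻¹) * (y * d) := by group
  rw [h5, hc, one_mul]

/-- The star lemma. -/
theorem fittingOf_le_of_zOf_le (hG : Cfsg.IsMinSimpleOddOrder G) {H₁ H₂ : Subgroup G}
    (h1 : IsCoatom H₁) (h2 : IsCoatom H₂)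
    (htwo : 2 ≤ (Nat.card (Cfsg.fittingOf H₁)).primeFactors.card)
    (hZ : ∀ q : ℕ, q.Prime → zOf (Cfsg.pCoreOf q H₁) ≤ H₂)
    (hπ : ∀ r : ℕ, r.Prime → r ∣ Nat.card (Cfsg.fittingOf H₂) → r ∣ Nat.card (Cfsg.fittingOf H₁)) :
    Cfsg.fittingOf H₂ ≤ H₁ := by
  haveI : IsSimpleGroup G := hG.2.1
  rw [PrimeAct.fittingOf_eq_iSup]
  apply iSup_le
  rintro ⟨p, hp⟩
  haveI : Fact p.Prime := ⟨hp⟩
  show Cfsg.pCoreOf p H₂ ≤ H₁
  by_cases hK : Cfsg.pCoreOf p H₂ = ⊥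
  · rw [hK]; exact bot_le
  have hpF2 : p ∣ Nat.card (Cfsg.fittingOf H₂) := by
    have h3 : p ∣ Nat.card (Cfsg.pCoreOf p H₂) := by
      rcases (PrimeAct.pCoreOf_isPGroup p H₂).card_eq_or_dvd with h | h
      · exact absurd (Subgroup.card_eq_one.mp h) hK
      · exact h
    exact h3.trans (Subgroup.card_dvd_of_le (PrimeAct.pCoreOf_le_fittingOf H₂ p))
  have hpF1 := hπ p hp hpF2
  have hppf : p ∈ (Nat.card (Cfsg.fittingOf H₁)).primeFactors :=
    Nat.mem_primeFactors.mpr ⟨hp, hpF1, Nat.card_pos.ne'⟩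
  obtain ⟨r, hr, hrp⟩ := Finset.exists_mem_ne
    (show 1 < (Nat.card (Cfsg.fittingOf H₁)).primeFactors.card by omega) p
  obtain ⟨hrprime, hrF1, -⟩ := Nat.mem_primeFactors.mp hr
  haveI : Fact r.Prime := ⟨hrprime⟩
  have hp1 := pCoreOf_ne_bot_of_dvd_card_fittingOf hpF1
  have hr1 := pCoreOf_ne_bot_of_dvd_card_fittingOf hrF1
  have hcent := zOf_le_centralizer_pCoreOf hG h1 h2 hZ (Ne.symm hrp) hp1 hr1
  obtain ⟨hQ1, hQle, hQr, hQN⟩ := zOf_pCoreOf_facts h1 r hr1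
  have h4 : Cfsg.pCoreOf p H₂ ≤ Subgroup.centralizer ((zOf (Cfsg.pCoreOf r H₁) : Subgroup G) : Set G) := by
    rw [Subgroup.le_centralizer_iff]
    exact hcent
  calc Cfsg.pCoreOf p H₂ ≤ Subgroup.centralizer ((zOf (Cfsg.pCoreOf r H₁) : Subgroup G) : Set G) := h4
    _ ≤ Subgroup.normalizer ((zOf (Cfsg.pCoreOf r H₁) : Subgroup G) : Set G) :=
        Subgroup.centralizer_le_normalizer _
    _ = H₁ := hQN

end Simple

end Cfsg.Agent.Lib.Helper20.BenderU
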