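/-
helper20: Bender's uniqueness lemma (S1482).  Part B: conjugation of Fitting subgroups,
`p`-stability step (`Z(O_q(L)) ≤ O_q(H)`), and the "half" lemma `F(L) ≤ F(H)`.
-/
import Mathlib
import Cfsg.Agent.Lib.Helper20.BenderUA
import Cfsg.Agent.Lib.Helper8.HallSCN1

set_option autoImplicit false
open scoped Pointwise commutatorElement

namespace Cfsg.Agent.Lib.Helper20.BenderU

open Cfsg.Agent.Lib.Helper17 Cfsg.Agent.Lib.Helper17.BGU
open Cfsg.Agent.Lib.Helper27.PuigOdd (zOf normalizer_le_normalizer_zOf le_normalizer_of_conj_mem')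

universe u
variable {G : Type u} [Group G]

/-- `F(φ(L)) = φ(F(L))` for an automorphism `φ`. -/
theorem fittingOf_map_equiv (L : Subgroup G) (φ : G ≃* G) :
    Cfsg.fittingOf (L.map φ.toMonoidHom) = (Cfsg.fittingOf L).map φ.toMonoidHom := by
  unfold Cfsg.fittingOf
  let e : ↥L ≃* ↥(L.map φ.toMonoidHom) := L.equivMapOfInjective φ.toMonoidHom φ.injective
  rw [← Cfsg.Agent.Lib.Helper8.fittingSubgroup_map_equiv e, Subgroup.map_map, Subgroup.map_map]
  congr 1

theorem map_conj_eq_of_mem_normalizer {F : Subgroup G} {h : G}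
    (hh : h ∈ Subgroup.normalizer (F : Set G)) : F.map (MulAut.conj h).toMonoidHom = F := by
  ext x
  constructor
  · rintro ⟨y, hy, rfl⟩
    exact ((Subgroup.mem_normalizer_iff.mp hh) y).mp hy
  · intro hx
    refine ⟨h⁻¹ * x * h, ?_, ?_⟩
    · have := ((Subgroup.mem_normalizer_iff.mp (Subgroup.inv_mem _ hh)) x).mp hx
      simpa using this
    · simp [MulAut.conj_apply, mul_assoc]

section Main

variable [Finite G]

/-- `p`-stability step: if `F(H) ≤ L` and `F(L) ≤ H` then `Z(O_q(L)) ≤ O_q(H)`. -/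
theorem zOf_pCoreOf_le_pCoreOf (hG : Cfsg.IsMinSimpleOddOrder G) {H L : Subgroup G}
    (hH : IsCoatom H) (hFL : Cfsg.fittingOf H ≤ L) (hKH : Cfsg.fittingOf L ≤ H)
    (q : ℕ) [Fact q.Prime] :
    zOf (Cfsg.pCoreOf q L) ≤ Cfsg.pCoreOf q H := by
  classical
  have hqp : q.Prime := Fact.out
  intro a ha
  have haK : a ∈ Cfsg.pCoreOf q L := ha.1
  have haH : a ∈ H := hKH (PrimeAct.pCoreOf_le_fittingOf L q haK)
  have hKq : IsPGroup q (Cfsg.pCoreOf q L) := PrimeAct.pCoreOf_isPGroup q L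
  by_cases ha1 : a = 1
  · rw [ha1]; exact Subgroup.one_mem _
  -- `q` is odd
  obtain ⟨k, hk⟩ := hKq ⟨a, haK⟩
  have hk' : a ^ (q ^ k) = 1 := by simpa using congrArg Subtype.val hk
  have hq2 : q ≠ 2 := by
    rintro rfl
    have h1 : orderOf a ∣ 2 ^ k := orderOf_dvd_of_pow_eq_one hk'
    have h2 : orderOf a ∣ Nat.card G := orderOf_dvd_natCard a
    have hodd : Odd (orderOf a) := Odd.of_dvd_nat hG.1 h2
    obtain ⟨j, -, hj⟩ := (Nat.dvd_prime_pow Nat.prime_two).mp h1
    rcases Nat.eq_zero_or_pos j with h0 | hpos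
    · rw [h0, pow_zero] at hj
      exact ha1 (orderOf_eq_one_iff.mp hj)
    · rw [hj] at hodd
      exact (Nat.not_even_iff_odd.mpr hodd) (Nat.even_pow.mpr ⟨even_two, hpos.ne'⟩)
  have hHtop : H ≠ ⊤ := hH.1
  haveI hsol : Group.IsSolvable ↥H := hG.2.2.2 H hHtop
  have hoddH : Odd (Nat.card ↥H) := Odd.of_dvd_nat hG.1 (Subgroup.card_subgroup_dvd_card H)
  -- the subgroup `Y = Z(O_q(L))` is abelian and normalized by `L`
  set Y := zOf (Cfsg.pCoreOf q L) with hY
  have hYcomm : ∀ u ∈ Y, ∀ v ∈ Y, u * v = v * u := by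
    intro u hu v hv
    exact ((Subgroup.mem_centralizer_iff.mp hv.2) u hu.1)
  have hLY : L ≤ Subgroup.normalizer (Y : Set G) :=
    (le_normalizer_pCoreOf q L).trans (normalizer_le_normalizer_zOf _)
  set a' : ↥H := ⟨a, haH⟩ with ha'
  -- (i) `a'` centralizes `O_r(H)` for `r ≠ q`
  have h1 : ∀ r : ℕ, r.Prime → r ≠ q →
      a' ∈ Subgroup.centralizer (Cfsg.pCore r ↥H : Set ↥H) := by
    intro r hr hrq
    haveI : Fact r.Prime := ⟨hr⟩
    rw [Subgroup.mem_centralizer_iff]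
    intro y hy
    apply Subtype.ext
    show (y : G) * a = a * (y : G)
    have hyR : (y : G) ∈ Cfsg.pCoreOf r H := ⟨y, hy, rfl⟩
    have hyL : (y : G) ∈ L := hFL (PrimeAct.pCoreOf_le_fittingOf H r hyR)
    have hc1 : a * (y : G) * a⁻¹ * (y : G)⁻¹ ∈ Cfsg.pCoreOf r H := by
      have h3 : a * (y : G) * a⁻¹ ∈ Cfsg.pCoreOf r H :=
        ((Subgroup.mem_normalizer_iff.mp (le_normalizer_pCoreOf r H haH)) _).mp hyR
      exact mul_mem h3 (inv_mem hyR)
    have hc2 : a * (y : G) * a⁻¹ * (y : G)⁻¹ ∈ Cfsg.pCoreOf q L := by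
      have h3 : (y : G) * a⁻¹ * (y : G)⁻¹ ∈ Cfsg.pCoreOf q L :=
        ((Subgroup.mem_normalizer_iff.mp (le_normalizer_pCoreOf q L hyL)) _).mp (inv_mem haK)
      have := mul_mem haK h3
      simpa [mul_assoc] using this
    have hc := eq_one_of_mem_pgroups (Ne.symm hrq) hKq (PrimeAct.pCoreOf_isPGroup r H) hc2 hc1
    have h5 : a * (y : G) = (a * (y : G) * a⁻¹ * (y : G)⁻¹) * ((y : G) * a) := by group
    rw [h5, hc, one_mul]
  -- (ii) quadratic action
  have hmemY : ∀ z ∈ Subgroup.zpowers a', ((z : ↥H) : G) ∈ Y := by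
    intro z hz
    obtain ⟨n, rfl⟩ := Subgroup.mem_zpowers_iff.mp hz
    rw [Subgroup.coe_zpow]
    exact Subgroup.zpow_mem _ ha n
  have hquad : ⁅⁅Cfsg.pCore q ↥H, Subgroup.zpowers a'⁆, Subgroup.zpowers a'⁆ = ⊥ := by
    rw [Subgroup.commutator_eq_bot_iff_le_centralizer, Subgroup.commutator_le]
    intro x hx z hz
    rw [Subgroup.mem_centralizer_iff]
    intro w hw
    apply Subtype.ext
    have hxF : (x : G) ∈ Cfsg.pCoreOf q H := ⟨x, hx, rfl⟩
    have hxL : (x : G) ∈ L := hFL (PrimeAct.pCoreOf_le_fittingOf H q hxF)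
    have hzY := hmemY z hz
    have hwY := hmemY w hw
    have hcY : (x : G) * (z : G) * (x : G)⁻¹ * (z : G)⁻¹ ∈ Y := by
      have h3 : (x : G) * (z : G) * (x : G)⁻¹ ∈ Y :=
        ((Subgroup.mem_normalizer_iff.mp (hLY hxL)) _).mp hzY
      exact mul_mem h3 (inv_mem hzY)
    have := hYcomm _ hwY _ hcY
    simpa [commutatorElement_def] using this
  -- (iii) `p`-stability
  haveI : (Cfsg.pCore q ↥H).Normal := Cfsg.Agent.Lib.Helper1.pCore_normal q ↥H
  have hst := Cfsg.Agent.Lib.Helper27.OddStable.isPStableOn_of_odd hq2 hoddH (Cfsg.pCore q ↥H)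
    (Cfsg.Agent.Lib.Helper1.pCore_isPGroup q ↥H) a' hquad
  -- (iv), (v)
  have h3 : ∃ n : ℕ, a' ^ (q ^ n) = 1 := ⟨k, Subtype.ext (by simpa using hk')⟩
  have := Cfsg.Agent.Lib.Helper8.HallSCN.mem_pCore_of_mem_pCore_quotient q a' h1 hst h3
  exact ⟨a', this, rfl⟩

/-- The half lemma: `F(L) ≤ F(H)`. -/
theorem fittingOf_le_fittingOf (hG : Cfsg.IsMinSimpleOddOrder G) {H L : Subgroup G}
    (hH : IsCoatom H) (hL : IsCoatom L) (hFL : Cfsg.fittingOf H ≤ L) (hKH : Cfsg.fittingOf L ≤ H)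
    (hZ : ∀ q : ℕ, q.Prime → zOf (Cfsg.pCoreOf q L) ≤ Cfsg.fittingOf H)
    (htwo : 2 ≤ (Nat.card (Cfsg.fittingOf L)).primeFactors.card) :
    Cfsg.fittingOf L ≤ Cfsg.fittingOf H := by
  classical
  set K := Cfsg.fittingOf L with hK
  set F := Cfsg.fittingOf H with hF
  have hHF : H ≤ Subgroup.normalizer (F : Set G) := le_normalizer_fittingOf H
  -- all `H`-conjugates of `K` lie in `L`
  have hconj : ∀ h ∈ H, K.map (MulAut.conj h).toMonoidHom ≤ L := by
    intro h hh
    have hL' : IsCoatom (L.map (MulAut.conj h).toMonoidHom) := isCoatom_map_conj h hL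
    have hF' : F ≤ L.map (MulAut.conj h).toMonoidHom := by
      rw [← map_conj_eq_of_mem_normalizer (hHF hh)]
      exact Subgroup.map_mono hFL
    have hfit : Cfsg.fittingOf (L.map (MulAut.conj h).toMonoidHom)
        = K.map (MulAut.conj h).toMonoidHom := fittingOf_map_equiv L (MulAut.conj h)
    have hcard : Nat.card (Cfsg.fittingOf (L.map (MulAut.conj h).toMonoidHom)) = Nat.card K := by
      rw [hfit]
      exact Subgroup.card_map_of_injective (MulAut.conj h).injective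
    have := fittingOf_le_of_zOf_le hG hL hL' htwo (fun q hq => (hZ q hq).trans hF')
      (fun r _ hr => by rw [hcard] at hr; exact hr)
    rw [hfit] at this
    exact this
  -- the subgroup generated by the `H`-conjugates of `K`
  set C : Subgroup G := ⨆ h : ↥H, K.map (MulAut.conj (h : G)).toMonoidHom with hC
  have hCL : C ≤ L := iSup_le fun h => hconj h h.2
  have hCH : C ≤ H := by
    apply iSup_le
    rintro h _ ⟨k, hk, rfl⟩
    show (h : G) * k * (h : G)⁻¹ ∈ H
    exact H.mul_mem (H.mul_mem h.2 (hKH hk)) (H.inv_mem h.2)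
  have hKC : K ≤ C := by
    have h1 : K.map (MulAut.conj ((1 : ↥H) : G)).toMonoidHom ≤ C :=
      le_iSup (fun h : ↥H => K.map (MulAut.conj (h : G)).toMonoidHom) 1
    have h2 : K.map (MulAut.conj ((1 : ↥H) : G)).toMonoidHom = K := by
      ext x
      simp
    rwa [h2] at h1
  have hHC : H ≤ Subgroup.normalizer (C : Set G) := by
    apply le_normalizer_of_conj_mem'
    intro g hg y hy
    have h1 : C.map (MulAut.conj g).toMonoidHom ≤ C := by
      rw [hC, Subgroup.map_iSup]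
      apply iSup_le
      intro h
      rw [Subgroup.map_map]
      have h2 : (MulAut.conj g).toMonoidHom.comp (MulAut.conj (h : G)).toMonoidHom
          = (MulAut.conj ((⟨g, hg⟩ * h : ↥H) : G)).toMonoidHom := by
        ext x
        simp [MulAut.conj_apply, mul_assoc]
      rw [h2]
      exact le_iSup (fun h : ↥H => K.map (MulAut.conj (h : G)).toMonoidHom) (⟨g, hg⟩ * h)
    exact h1 ⟨y, hy, rfl⟩
  -- conclusion
  rw [hK, PrimeAct.fittingOf_eq_iSup]
  apply iSup_le
  rintro ⟨q, hq⟩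
  haveI : Fact q.Prime := ⟨hq⟩
  show Cfsg.pCoreOf q L ≤ F
  have h1 : Cfsg.pCoreOf q L ≤ Cfsg.pCoreOf q C :=
    le_pCoreOf ((PrimeAct.pCoreOf_le_fittingOf L q).trans hKC)
      (hCL.trans (le_normalizer_pCoreOf q L)) (PrimeAct.pCoreOf_isPGroup q L)
  have h2 : Cfsg.pCoreOf q C ≤ Cfsg.pCoreOf q H := pCoreOf_le_pCoreOf_of_normal hCH hHC
  exact (h1.trans h2).trans (PrimeAct.pCoreOf_le_fittingOf H q)

end Main

end Cfsg.Agent.Lib.Helper20.BenderU
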