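/-
helper20: Bender's uniqueness lemma (S1482).  Part C: the main theorem.
-/
import Mathlib
import Cfsg.Agent.Lib.Helper20.BenderUB

set_option autoImplicit false
open scoped Pointwise commutatorElement

namespace Cfsg.Agent.Lib.Helper20.BenderU

open Cfsg.Agent.Lib.Helper17 Cfsg.Agent.Lib.Helper17.BGU
open Cfsg.Agent.Lib.Helper27.PuigOdd (zOf normalizer_le_normalizer_zOf le_normalizer_of_conj_mem')

universe u
variable {G : Type u} [Group G] [Finite G]

/-- a `q`-subgroup of `F(L)` is trivial if `q ∤ |F(L)|`. -/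
theorem pCoreOf_eq_bot_of_not_dvd (L : Subgroup G) (q : ℕ) [Fact q.Prime]
    (h : ¬ q ∣ Nat.card (Cfsg.fittingOf L)) : Cfsg.pCoreOf q L = ⊥ := by
  by_contra hne
  apply h
  have h3 : q ∣ Nat.card (Cfsg.pCoreOf q L) := by
    rcases (PrimeAct.pCoreOf_isPGroup q L).card_eq_or_dvd with h | h
    · exact absurd (Subgroup.card_eq_one.mp h) hne
    · exact h
  exact h3.trans (Subgroup.card_dvd_of_le (PrimeAct.pCoreOf_le_fittingOf L q))

/-- **Bender's uniqueness lemma** (S1482). -/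
theorem bender_uniqueness (hG : Cfsg.IsMinSimpleOddOrder G) (H : Subgroup G) (hH : IsCoatom H)
    (hF2 : 2 ≤ (Nat.card (Cfsg.fittingOf H)).primeFactors.card)
    (M : Subgroup G) (hM : M ≤ Cfsg.fittingOf H) (hZM : zOf (Cfsg.fittingOf H) ≤ M)
    (hinv : ∀ Y ∈ Cfsg.invSubgroups ⊤ M (Cfsg.primesNotDvd (Nat.card (Cfsg.fittingOf H))), Y = ⊥) :
    ∀ L : Subgroup G, IsCoatom L → M ≤ L → L = H := by
  classical
  haveI : IsSimpleGroup G := hG.2.1
  intro L hL hML
  set F := Cfsg.fittingOf H with hF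
  set K := Cfsg.fittingOf L with hK
  have hLtop : L ≠ ⊤ := hL.1
  haveI hsolL : Group.IsSolvable ↥L := hG.2.2.2 L hLtop
  -- Step 1: `π(K) ⊆ π(F)`
  have hπ1 : ∀ r : ℕ, r.Prime → r ∣ Nat.card K → r ∣ Nat.card F := by
    intro r hr hrK
    by_contra hrF
    haveI : Fact r.Prime := ⟨hr⟩
    have hne := pCoreOf_ne_bot_of_dvd_card_fittingOf hrK
    apply hne
    apply hinv
    refine ⟨le_top, ?_, hML.trans (le_normalizer_pCoreOf r L)⟩
    intro p hp hpdvd
    have hpr : p = r := by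
      obtain ⟨n, hn⟩ := IsPGroup.iff_card.mp (PrimeAct.pCoreOf_isPGroup r L)
      rw [hn] at hpdvd
      exact (Nat.prime_dvd_prime_iff_eq hp hr).mp (hp.dvd_of_dvd_pow hpdvd)
    rw [hpr]
    exact ⟨hr, hrF⟩
  -- `Z(O_q(H)) ≤ L`
  have hZL : ∀ q : ℕ, q.Prime → zOf (Cfsg.pCoreOf q H) ≤ L := by
    intro q hq
    haveI : Fact q.Prime := ⟨hq⟩
    exact ((zOf_pCoreOf_le_zOf_fittingOf H q).trans hZM).trans hML
  -- Steps 2-3: `K ≤ H`
  have hKH : K ≤ H := fittingOf_le_of_zOf_le hG hH hL hF2 hZL hπ1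
  -- Step 4: `π(F) ⊆ π(K)`
  have hπ2 : ∀ p : ℕ, p.Prime → p ∣ Nat.card F → p ∣ Nat.card K := by
    intro p hp hpF
    by_contra hpK
    haveI : Fact p.Prime := ⟨hp⟩
    have hp1 := pCoreOf_ne_bot_of_dvd_card_fittingOf hpF
    obtain ⟨hZ1, hZle, hZp, -⟩ := zOf_pCoreOf_facts hH p hp1
    have hcent : zOf (Cfsg.pCoreOf p H) ≤ Subgroup.centralizer ((K : Subgroup G) : Set G) := by
      apply le_centralizer_fittingOf_of_forall
      intro q hq
      haveI : Fact q.Prime := ⟨hq⟩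
      by_cases hqK : q ∣ Nat.card K
      · have hqp : q ≠ p := by
          rintro rfl
          exact hpK hqK
        have hq1 := pCoreOf_ne_bot_of_dvd_card_fittingOf (hπ1 q hq hqK)
        exact zOf_le_centralizer_pCoreOf hG hH hL hZL hqp hq1 hp1
      · rw [pCoreOf_eq_bot_of_not_dvd L q hqK]
        intro x _
        rw [Subgroup.mem_centralizer_iff]
        intro y hy
        rw [Subgroup.mem_bot.mp hy, one_mul, mul_one]
    have hle : zOf (Cfsg.pCoreOf p H) ≤ K :=
      (le_inf (hZL p hp) hcent).trans (inf_centralizer_fittingOf_le hsolL)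
    have h3 : p ∣ Nat.card (zOf (Cfsg.pCoreOf p H)) := by
      rcases hZp.card_eq_or_dvd with h | h
      · exact absurd (Subgroup.card_eq_one.mp h) hZ1
      · exact h
    exact hpK (h3.trans (Subgroup.card_dvd_of_le hle))
  have hK2 : 2 ≤ (Nat.card K).primeFactors.card := by
    refine hF2.trans (Finset.card_le_card ?_)
    intro p hp
    obtain ⟨hpp, hpF, -⟩ := Nat.mem_primeFactors.mp hp
    exact Nat.mem_primeFactors.mpr ⟨hpp, hπ2 p hpp hpF, Nat.card_pos.ne'⟩
  -- Step 5: `F ≤ L`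
  have hFL : F ≤ L := by
    apply fittingOf_le_of_zOf_le hG hL hH hK2 _ hπ2
    intro q hq
    haveI : Fact q.Prime := ⟨hq⟩
    exact ((zOf_le _).trans (PrimeAct.pCoreOf_le_fittingOf L q)).trans hKH
  -- Step 7 + half lemma: `K ≤ F`
  have hKF : K ≤ F := by
    apply fittingOf_le_fittingOf hG hH hL hFL hKH _ hK2
    intro q hq
    haveI : Fact q.Prime := ⟨hq⟩
    exact (zOf_pCoreOf_le_pCoreOf hG hH hFL hKH q).trans (PrimeAct.pCoreOf_le_fittingOf H q)
  -- symmetric: `F ≤ K`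
  have hFK : F ≤ K := by
    apply fittingOf_le_fittingOf hG hL hH hKH hFL _ hF2
    intro q hq
    haveI : Fact q.Prime := ⟨hq⟩
    have h1 : zOf (Cfsg.pCoreOf q H) ≤ zOf F := zOf_pCoreOf_le_zOf_fittingOf H q
    have h2 : zOf F ≤ Subgroup.centralizer ((K : Subgroup G) : Set G) := by
      intro x hx
      rw [Subgroup.mem_centralizer_iff]
      intro y hy
      exact (Subgroup.mem_centralizer_iff.mp hx.2) y (hKF hy)
    exact (le_inf (hZL q hq) (h1.trans h2)).trans (inf_centralizer_fittingOf_le hsolL)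
  have hFKeq : F = K := le_antisymm hFK hKF
  -- conclusion
  have hFne : F ≠ ⊥ := by
    intro h
    rw [h] at hF2
    simp at hF2
  have hNH : Subgroup.normalizer ((F : Subgroup G) : Set G) = H :=
    normalizer_eq_of_coatom hH (PrimeAct.fittingOf_le H) hFne (le_normalizer_fittingOf H)
  have hNL : Subgroup.normalizer ((K : Subgroup G) : Set G) = L :=
    normalizer_eq_of_coatom hL (PrimeAct.fittingOf_le L) (hFKeq ▸ hFne) (le_normalizer_fittingOf L)
  rw [← hNL, ← hFKeq, hNH]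

end Cfsg.Agent.Lib.Helper20.BenderU
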