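import Mathlib

set_option autoImplicit false

/-!
# Breadth and class of a finite `p`-group (Leedham-Green, Neumann, Wiegold)

If all conjugacy classes of the finite `p`-group `G` have at most `p ^ b` elements and `G` has
class exactly `c`, then `(c - 1) (p - 1) < b p`.
-/

namespace Cfsg.Agent.Lib.Helper20.Breadth

open Classical
open scoped commutatorElement

variable {G : Type*} [Group G]

/-- The centralizer of `γ_{i+1} / γ_{i+3}` (two-step centralizer). -/
def twoStep (H : Type*) [Group H] (i : ℕ) : Subgroup H where
  carrier := {x | ∀ y ∈ (⊤ : Subgroup H).lowerCentralSeries i,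
    ⁅y, x⁆ ∈ (⊤ : Subgroup H).lowerCentralSeries (i + 2)}
  mul_mem' := by
    intro a b ha hb y hy
    have h : ⁅y, a * b⁆ = ⁅y, a⁆ * (a * ⁅y, b⁆ * a⁻¹) := by
      simp only [commutatorElement_def]; group
    rw [Set.mem_setOf_eq] at ha hb
    rw [h]
    exact mul_mem (ha y hy) ((inferInstance : ((⊤ : Subgroup H).lowerCentralSeries (i + 2)).Normal).conj_mem _ (hb y hy) a)
  one_mem' := by
    intro y _
    simp [commutatorElement_def]
  inv_mem' := by
    intro a ha y hy
    have h : ⁅y, a⁻¹⁆ = a⁻¹ * ⁅y, a⁆⁻¹ * a⁻¹⁻¹ := by
      simp only [commutatorElement_def]; group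
    rw [Set.mem_setOf_eq] at ha
    rw [h]
    exact (inferInstance : ((⊤ : Subgroup H).lowerCentralSeries (i + 2)).Normal).conj_mem _
      (inv_mem (ha y hy)) a⁻¹

theorem mem_twoStep (i : ℕ) (x : G) : x ∈ twoStep G i ↔
    ∀ y ∈ (⊤ : Subgroup G).lowerCentralSeries i,
      ⁅y, x⁆ ∈ (⊤ : Subgroup G).lowerCentralSeries (i + 2) := Iff.rfl

/-- If the series repeats once, it is constant from there on. -/
theorem lcs_stable {i : ℕ}
    (h : (⊤ : Subgroup G).lowerCentralSeries i = (⊤ : Subgroup G).lowerCentralSeries (i + 1)) :
    ∀ k, (⊤ : Subgroup G).lowerCentralSeries (i + k) = (⊤ : Subgroup G).lowerCentralSeries i := by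
  intro k
  induction k with
  | zero => rfl
  | succ k ih =>
    rw [← add_assoc, Subgroup.lowerCentralSeries_succ, ih, ← Subgroup.lowerCentralSeries_succ, ← h]

/-- A two-step centralizer below the class is proper. -/
theorem twoStep_ne_top {i c : ℕ} (hc : (⊤ : Subgroup G).lowerCentralSeries c = ⊥)
    (hi : (⊤ : Subgroup G).lowerCentralSeries (i + 1) ≠ ⊥) : twoStep G i ≠ ⊤ := by
  intro htop
  apply hi
  have hle : (⊤ : Subgroup G).lowerCentralSeries (i + 1) ≤
      (⊤ : Subgroup G).lowerCentralSeries (i + 2) := by
    rw [Subgroup.lowerCentralSeries_succ, Subgroup.commutator_le]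
    intro y hy x _
    have hx : x ∈ twoStep G i := htop ▸ Subgroup.mem_top x
    exact hx y hy
  have heq : (⊤ : Subgroup G).lowerCentralSeries (i + 1) =
      (⊤ : Subgroup G).lowerCentralSeries (i + 1 + 1) :=
    le_antisymm hle ((Subgroup.lowerCentralSeries_antitone _) (by omega))
  have hst := lcs_stable heq c
  rw [← hst, eq_bot_iff, ← hc]
  exact (Subgroup.lowerCentralSeries_antitone _) (by omega)

/-- The index of the centralizer of `x` is at least `p ^ #{i < k | x ∉ twoStep i}`. -/
theorem pow_card_le_index [Finite G] {p : ℕ} [hp : Fact p.Prime] (hG : IsPGroup p G) (x : G) :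
    ∀ k : ℕ, p ^ ((Finset.range k).filter (fun i => x ∉ twoStep G i)).card *
      Nat.card ((⊤ : Subgroup G).lowerCentralSeries k ⊔ Subgroup.centralizer ({x} : Set G) : Subgroup G)
      ≤ Nat.card G := by
  classical
  intro k
  induction k with
  | zero =>
    simp
  | succ k ih =>
    have hanti : (⊤ : Subgroup G).lowerCentralSeries (k + 1) ⊔ Subgroup.centralizer ({x} : Set G) ≤
        (⊤ : Subgroup G).lowerCentralSeries k ⊔ Subgroup.centralizer ({x} : Set G) :=
      sup_le_sup_right ((Subgroup.lowerCentralSeries_antitone _) (Nat.le_succ k)) _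
    rw [Finset.range_add_one, Finset.filter_insert]
    by_cases hx : x ∉ twoStep G k
    · rw [if_pos hx, Finset.card_insert_of_notMem (by simp)]
      -- strict inclusion
      have hne : (⊤ : Subgroup G).lowerCentralSeries (k + 1) ⊔ Subgroup.centralizer ({x} : Set G) ≠
          (⊤ : Subgroup G).lowerCentralSeries k ⊔ Subgroup.centralizer ({x} : Set G) := by
        intro heq
        apply hx
        rw [mem_twoStep]
        intro y hy
        have hy' : y ∈ (⊤ : Subgroup G).lowerCentralSeries (k + 1) ⊔ Subgroup.centralizer ({x} : Set G) := by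
          rw [heq]
          exact Subgroup.mem_sup_left hy
        obtain ⟨z, hz, c, hc, rfl⟩ := Subgroup.mem_sup_of_normal_left.mp hy'
        have hcx : c * x = x * c := by
          have := Subgroup.mem_centralizer_iff.mp hc x (Set.mem_singleton x)
          exact this.symm
        have h1 : ⁅z * c, x⁆ = ⁅z, x⁆ := by
          simp only [commutatorElement_def]
          calc z * c * x * (z * c)⁻¹ * x⁻¹ = z * (c * x) * c⁻¹ * z⁻¹ * x⁻¹ := by group
            _ = z * (x * c) * c⁻¹ * z⁻¹ * x⁻¹ := by rw [hcx]
            _ = z * x * z⁻¹ * x⁻¹ := by group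
        rw [h1, show k + 2 = (k + 1) + 1 from rfl, Subgroup.lowerCentralSeries_succ]
        exact Subgroup.commutator_mem_commutator hz (Subgroup.mem_top x)
      have hlt := lt_of_le_of_ne hanti hne
      -- index at least `p`
      have hcard : p * Nat.card ((⊤ : Subgroup G).lowerCentralSeries (k + 1) ⊔
          Subgroup.centralizer ({x} : Set G) : Subgroup G) ≤
          Nat.card ((⊤ : Subgroup G).lowerCentralSeries k ⊔ Subgroup.centralizer ({x} : Set G) : Subgroup G) := by
        set A := (⊤ : Subgroup G).lowerCentralSeries (k + 1) ⊔ Subgroup.centralizer ({x} : Set G)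
        set B := (⊤ : Subgroup G).lowerCentralSeries k ⊔ Subgroup.centralizer ({x} : Set G)
        have h1 : Nat.card A * A.relIndex B = Nat.card B := by
          have h2 := Subgroup.card_mul_index (A.subgroupOf B)
          rw [Nat.card_congr (Subgroup.subgroupOfEquivOfLe hanti).toEquiv] at h2
          exact h2
        obtain ⟨j, hj⟩ := (hG.to_subgroup B).index (A.subgroupOf B)
        have hj' : A.relIndex B = p ^ j := hj
        have hj0 : j ≠ 0 := by
          intro h0
          rw [h0, pow_zero] at hj'
          have : B ≤ A := Subgroup.relIndex_eq_one.mp hj'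
          exact hlt.ne (le_antisymm hanti this)
        rw [← h1, hj', mul_comm]
        apply Nat.mul_le_mul_left
        calc p = p ^ 1 := (pow_one p).symm
          _ ≤ p ^ j := Nat.pow_le_pow_right hp.out.pos (by omega)
      calc p ^ (((Finset.range k).filter (fun i => x ∉ twoStep G i)).card + 1) *
            Nat.card ((⊤ : Subgroup G).lowerCentralSeries (k + 1) ⊔
              Subgroup.centralizer ({x} : Set G) : Subgroup G)
          = p ^ ((Finset.range k).filter (fun i => x ∉ twoStep G i)).card *
            (p * Nat.card ((⊤ : Subgroup G).lowerCentralSeries (k + 1) ⊔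
              Subgroup.centralizer ({x} : Set G) : Subgroup G)) := by ring
        _ ≤ p ^ ((Finset.range k).filter (fun i => x ∉ twoStep G i)).card *
            Nat.card ((⊤ : Subgroup G).lowerCentralSeries k ⊔
              Subgroup.centralizer ({x} : Set G) : Subgroup G) := Nat.mul_le_mul_left _ hcard
        _ ≤ Nat.card G := ih
    · rw [if_neg hx]
      calc p ^ ((Finset.range k).filter (fun i => x ∉ twoStep G i)).card *
            Nat.card ((⊤ : Subgroup G).lowerCentralSeries (k + 1) ⊔
              Subgroup.centralizer ({x} : Set G) : Subgroup G)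
          ≤ p ^ ((Finset.range k).filter (fun i => x ∉ twoStep G i)).card *
            Nat.card ((⊤ : Subgroup G).lowerCentralSeries k ⊔
              Subgroup.centralizer ({x} : Set G) : Subgroup G) :=
            Nat.mul_le_mul_left _ (Subgroup.card_le_of_le hanti)
        _ ≤ Nat.card G := ih

/-- A proper subgroup of a `p`-group has order at most `|G| / p`. -/
theorem card_mul_le_of_ne_top [Finite G] {p : ℕ} [hp : Fact p.Prime] (hG : IsPGroup p G)
    (H : Subgroup G) (hH : H ≠ ⊤) : Nat.card H * p ≤ Nat.card G := by
  obtain ⟨j, hj⟩ := hG.index H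
  have hj0 : j ≠ 0 := by
    intro h0
    rw [h0, pow_zero] at hj
    exact hH (Subgroup.index_eq_one.mp hj)
  rw [← Subgroup.card_mul_index H, hj]
  apply Nat.mul_le_mul_left
  calc p = p ^ 1 := (pow_one p).symm
    _ ≤ p ^ j := Nat.pow_le_pow_right hp.out.pos (by omega)

/-- The Leedham-Green–Neumann–Wiegold bound. -/
theorem class_bound [Finite G] {p : ℕ} [hp : Fact p.Prime] (hG : IsPGroup p G) (b : ℕ)
    (hb : ∀ x : G, (Subgroup.centralizer ({x} : Set G)).index ≤ p ^ b) :
    ∃ c : ℕ, (⊤ : Subgroup G).lowerCentralSeries c = ⊥ ∧
      (b ≠ 0 → (c - 1) * (p - 1) < b * p ∧ c ≤ 2 * b) ∧ (b = 0 → c ≤ 1) := by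
  haveI : Group.IsNilpotent G := hG.isNilpotent
  haveI := Fintype.ofFinite G
  have hex : ∃ c, (⊤ : Subgroup G).lowerCentralSeries c = ⊥ :=
    Subgroup.nilpotent_iff_lowerCentralSeries.mp inferInstance
  have hc := Nat.find_spec hex
  have hmin : ∀ m, m < Nat.find hex → (⊤ : Subgroup G).lowerCentralSeries m ≠ ⊥ :=
    fun m hm => Nat.find_min hex hm
  set c := Nat.find hex with hcdef
  have hp2 : 2 ≤ p := hp.out.two_le
  refine ⟨c, hc, ?_, ?_⟩
  · intro hb0
    by_cases hc2 : c ≤ 1
    · have h0 : c - 1 = 0 := by omega
      rw [h0, zero_mul]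
      exact ⟨Nat.mul_pos (Nat.pos_of_ne_zero hb0) hp.out.pos, by omega⟩
    · have hn : 0 < Fintype.card G := Fintype.card_pos
      have hcardG : Nat.card G = Fintype.card G := Nat.card_eq_fintype_card
      -- each `I_x` has at most `b` elements
      have hI : ∀ x : G, ((Finset.range (c - 1)).filter (fun i => x ∉ twoStep G i)).card ≤ b := by
        intro x
        have h1 := pow_card_le_index hG x (c - 1)
        have h2 : Nat.card (Subgroup.centralizer ({x} : Set G)) ≤
            Nat.card ((⊤ : Subgroup G).lowerCentralSeries (c - 1) ⊔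
              Subgroup.centralizer ({x} : Set G) : Subgroup G) :=
          Subgroup.card_le_of_le le_sup_right
        have h3 := Subgroup.card_mul_index (Subgroup.centralizer ({x} : Set G))
        have hCpos : 0 < Nat.card (Subgroup.centralizer ({x} : Set G)) := Nat.card_pos
        have h4 : p ^ ((Finset.range (c - 1)).filter (fun i => x ∉ twoStep G i)).card *
            Nat.card (Subgroup.centralizer ({x} : Set G)) ≤
            p ^ b * Nat.card (Subgroup.centralizer ({x} : Set G)) := by
          calc p ^ ((Finset.range (c - 1)).filter (fun i => x ∉ twoStep G i)).card *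
                Nat.card (Subgroup.centralizer ({x} : Set G))
              ≤ p ^ ((Finset.range (c - 1)).filter (fun i => x ∉ twoStep G i)).card *
                Nat.card ((⊤ : Subgroup G).lowerCentralSeries (c - 1) ⊔
                  Subgroup.centralizer ({x} : Set G) : Subgroup G) := Nat.mul_le_mul_left _ h2
            _ ≤ Nat.card G := h1
            _ = Nat.card (Subgroup.centralizer ({x} : Set G)) *
                (Subgroup.centralizer ({x} : Set G)).index := h3.symm
            _ ≤ Nat.card (Subgroup.centralizer ({x} : Set G)) * p ^ b :=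
                Nat.mul_le_mul_left _ (hb x)
            _ = p ^ b * Nat.card (Subgroup.centralizer ({x} : Set G)) := mul_comm _ _
        have h5 := Nat.le_of_mul_le_mul_right h4 hCpos
        exact (Nat.pow_le_pow_iff_right hp.out.one_lt).mp h5
      -- the two-step centralizers are proper
      have hT : ∀ i ∈ Finset.range (c - 1), Nat.card (twoStep G i) * p ≤ Fintype.card G := by
        intro i hi
        rw [Finset.mem_range] at hi
        rw [← hcardG]
        exact card_mul_le_of_ne_top hG _ (twoStep_ne_top hc (hmin (i + 1) (by omega)))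
      -- double counting
      have hdc : ∑ x : G, ((Finset.range (c - 1)).filter (fun i => x ∉ twoStep G i)).card =
          ∑ i ∈ Finset.range (c - 1), (Finset.univ.filter (fun x : G => x ∉ twoStep G i)).card := by
        simp_rw [Finset.card_filter]
        exact Finset.sum_comm
      have hcompl : ∀ i, (Finset.univ.filter (fun x : G => x ∉ twoStep G i)).card +
          Nat.card (twoStep G i) = Fintype.card G := by
        intro i
        have h1 : Nat.card (twoStep G i) = (Finset.univ.filter (fun x : G => x ∈ twoStep G i)).card :=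
          Nat.subtype_card _ (fun x => by simp)
        rw [h1, add_comm]
        have := Finset.card_filter_add_card_filter_not (s := (Finset.univ : Finset G))
          (fun x : G => x ∈ twoStep G i)
        rw [Finset.card_univ] at this
        exact this
      -- lower bound
      have hlow : (c - 1) * ((p - 1) * Fintype.card G) ≤
          p * ∑ i ∈ Finset.range (c - 1),
            (Finset.univ.filter (fun x : G => x ∉ twoStep G i)).card := by
        rw [Finset.mul_sum]
        calc (c - 1) * ((p - 1) * Fintype.card G)
            = ∑ _i ∈ Finset.range (c - 1), (p - 1) * Fintype.card G := by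
              rw [Finset.sum_const, Finset.card_range, smul_eq_mul]
          _ ≤ ∑ i ∈ Finset.range (c - 1),
              p * (Finset.univ.filter (fun x : G => x ∉ twoStep G i)).card := by
            apply Finset.sum_le_sum
            intro i hi
            have h1 := hT i hi
            have h2 := hcompl i
            obtain ⟨p', rfl⟩ : ∃ p', p = p' + 1 := ⟨p - 1, by omega⟩
            simp only [Nat.add_sub_cancel]
            nlinarith
      -- upper bound
      have hup : ∑ x : G, ((Finset.range (c - 1)).filter (fun i => x ∉ twoStep G i)).card ≤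
          b * (Fintype.card G - 1) := by
        have h1 : ((Finset.range (c - 1)).filter (fun i => (1 : G) ∉ twoStep G i)).card = 0 := by
          rw [Finset.card_eq_zero, Finset.filter_eq_empty_iff]
          intro i _ h
          exact h (Subgroup.one_mem _)
        rw [← Finset.sum_erase _ h1 (a := (1 : G))]
        calc ∑ x ∈ Finset.univ.erase (1 : G),
              ((Finset.range (c - 1)).filter (fun i => x ∉ twoStep G i)).card
            ≤ ∑ _x ∈ Finset.univ.erase (1 : G), b := Finset.sum_le_sum (fun x _ => hI x)
          _ = b * (Fintype.card G - 1) := by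
            rw [Finset.sum_const, Finset.card_erase_of_mem (Finset.mem_univ _), Finset.card_univ,
              smul_eq_mul, mul_comm]
      have hmain : (c - 1) * (p - 1) < b * p := by
        rw [← hdc] at hlow
        have h1 : (c - 1) * ((p - 1) * Fintype.card G) ≤ p * (b * (Fintype.card G - 1)) :=
          hlow.trans (Nat.mul_le_mul_left _ hup)
        have h2 : p * (b * (Fintype.card G - 1)) < p * (b * Fintype.card G) := by
          apply Nat.mul_lt_mul_of_pos_left _ hp.out.pos
          apply Nat.mul_lt_mul_of_pos_left _ (Nat.pos_of_ne_zero hb0)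
          omega
        have h3 : ((c - 1) * (p - 1)) * Fintype.card G < (b * p) * Fintype.card G := by
          calc ((c - 1) * (p - 1)) * Fintype.card G = (c - 1) * ((p - 1) * Fintype.card G) := by ring
            _ ≤ p * (b * (Fintype.card G - 1)) := h1
            _ < p * (b * Fintype.card G) := h2
            _ = (b * p) * Fintype.card G := by ring
        exact lt_of_mul_lt_mul_right h3 (Nat.zero_le _)
      refine ⟨hmain, ?_⟩
      by_contra hcon
      have h1 : 2 * b ≤ c - 1 := by omega
      have h2 : b * p ≤ 2 * b * (p - 1) := by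
        obtain ⟨p', rfl⟩ : ∃ p', p = p' + 2 := ⟨p - 2, by omega⟩
        simp only [Nat.add_sub_cancel, show p' + 2 - 1 = p' + 1 by omega]
        nlinarith
      have h3 : 2 * b * (p - 1) ≤ (c - 1) * (p - 1) := Nat.mul_le_mul_right _ h1
      omega
  · intro hb0
    apply Nat.find_le
    rw [Subgroup.lowerCentralSeries_succ, Subgroup.lowerCentralSeries_zero, eq_bot_iff,
      Subgroup.commutator_le]
    intro x _ y _
    rw [Subgroup.mem_bot, commutatorElement_eq_one_iff_commute]
    have h1 := hb y
    rw [hb0, pow_zero] at h1
    have h2 : (Subgroup.centralizer ({y} : Set G)).index = 1 := by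
      have : (Subgroup.centralizer ({y} : Set G)).index ≠ 0 := Subgroup.index_ne_zero_of_finite
      omega
    have h3 := Subgroup.index_eq_one.mp h2
    have hx : x ∈ Subgroup.centralizer ({y} : Set G) := h3 ▸ Subgroup.mem_top x
    exact (Subgroup.mem_centralizer_iff.mp hx y (Set.mem_singleton y)).symm

end Cfsg.Agent.Lib.Helper20.Breadth
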