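import Mathlib
import Cfsg.Agent.Lib.Helper25.TensStmt

/-!
# C4U leaf TR (`kron_pencil`) for S5801 conjunct (8)

A pencil `r • (α ⊗ β) + (1 - r) • 1`, `r ≠ 0, 1`, is a Kronecker product only if `α` or `β` is scalar.
Pure linear algebra over any field.
-/

set_option autoImplicit false

namespace Cfsg.Agent.Lib.Helper20.C4UTR
open Matrix
open Cfsg.Agent.Lib.Helper25.Tens Cfsg.Agent.Lib.Helper25.TensLeaves
open scoped Kronecker

variable {K : Type*} [Field K] {a b : ℕ}

/-- the `(i,j)` block of the pencil identity -/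
lemma block_eq (α α' : Matrix (Fin a) (Fin a) K) (β β' : Matrix (Fin b) (Fin b) K) (r : K)
    (h : r • (α ⊗ₖ β) + (1 - r) • (1 : Matrix (Idx a b) (Idx a b) K) = α' ⊗ₖ β') (i j : Fin a) :
    (r * α i j) • β + ((1 - r) * (if i = j then 1 else 0)) • (1 : Matrix (Fin b) (Fin b) K) =
      α' i j • β' := by
  ext k l
  have h1 := congrFun (congrFun h (i, k)) (j, l)
  simp only [Matrix.add_apply, Matrix.smul_apply, Matrix.kroneckerMap_apply, smul_eq_mul,
    Matrix.one_apply, Prod.mk.injEq] at h1 ⊢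
  rw [← h1]
  by_cases hij : i = j
  · by_cases hkl : k = l
    · simp [hij, hkl]; ring
    · simp [hij, hkl]; ring
  · by_cases hkl : k = l
    · simp [hij, hkl]; ring
    · simp [hij, hkl]; ring

/-- **TR** -/
theorem kron_pencil (ha : 0 < a) (hb : 0 < b)
    (α α' : Matrix (Fin a) (Fin a) K) (β β' : Matrix (Fin b) (Fin b) K) (r : K) (hr0 : r ≠ 0) (hr1 : r ≠ 1)
    (h : r • (α ⊗ₖ β) + (1 - r) • (1 : Matrix (Idx a b) (Idx a b) K) = α' ⊗ₖ β') :
    IsScalarMat α ∨ IsScalarMat β := by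
  classical
  by_cases hβ : IsScalarMat β
  · exact Or.inr hβ
  left
  have : Nonempty (Fin b) := ⟨⟨0, hb⟩⟩
  have h1ne : (1 : Matrix (Fin b) (Fin b) K) ≠ 0 := one_ne_zero
  -- independence of `β` and `1`
  have hind : ∀ x y : K, x • β + y • (1 : Matrix (Fin b) (Fin b) K) = 0 → x = 0 ∧ y = 0 := by
    intro x y hxy
    have hx : x = 0 := by
      by_contra hx
      apply hβ
      refine ⟨-(x⁻¹ * y), ?_⟩
      have : x • β = -(y • (1 : Matrix (Fin b) (Fin b) K)) := eq_neg_of_add_eq_zero_left hxy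
      calc β = x⁻¹ • (x • β) := by rw [smul_smul, inv_mul_cancel₀ hx, one_smul]
        _ = -(x⁻¹ * y) • (1 : Matrix (Fin b) (Fin b) K) := by
          rw [this, smul_neg, smul_smul, neg_smul]
    refine ⟨hx, ?_⟩
    rw [hx, zero_smul, zero_add] at hxy
    by_contra hy
    apply h1ne
    calc (1 : Matrix (Fin b) (Fin b) K) = y⁻¹ • (y • (1 : Matrix (Fin b) (Fin b) K)) := by
          rw [smul_smul, inv_mul_cancel₀ hy, one_smul]
      _ = 0 := by rw [hxy, smul_zero]
  have h1r : (1 : K) - r ≠ 0 := sub_ne_zero.mpr (Ne.symm hr1)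
  set i₀ : Fin a := ⟨0, ha⟩ with hi₀
  have hB := block_eq α α' β β' r h
  have h00 := hB i₀ i₀
  rw [if_pos rfl, mul_one] at h00
  have hα'0 : α' i₀ i₀ ≠ 0 := by
    intro h0
    rw [h0, zero_smul] at h00
    exact h1r (hind _ _ h00).2
  -- `β' = p • β + s • 1`
  set p : K := (α' i₀ i₀)⁻¹ * (r * α i₀ i₀) with hp
  set s : K := (α' i₀ i₀)⁻¹ * (1 - r) with hs
  have hs0 : s ≠ 0 := mul_ne_zero (inv_ne_zero hα'0) h1r
  have hβ' : β' = p • β + s • (1 : Matrix (Fin b) (Fin b) K) := by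
    calc β' = (α' i₀ i₀)⁻¹ • (α' i₀ i₀ • β') := by rw [smul_smul, inv_mul_cancel₀ hα'0, one_smul]
      _ = p • β + s • (1 : Matrix (Fin b) (Fin b) K) := by
        rw [← h00, smul_add, smul_smul, smul_smul]
  have hoff : ∀ i j : Fin a, i ≠ j → α i j = 0 := by
    intro i j hij
    have hb1 := hB i j
    rw [if_neg hij, mul_zero, zero_smul, add_zero, hβ', smul_add, smul_smul, smul_smul] at hb1
    have h2 : (r * α i j - α' i j * p) • β + (-(α' i j * s)) • (1 : Matrix (Fin b) (Fin b) K) = 0 := by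
      rw [sub_smul, neg_smul, hb1]; abel
    obtain ⟨h3, h4⟩ := hind _ _ h2
    have h5 : α' i j = 0 := by
      have : α' i j * s = 0 := neg_eq_zero.mp h4
      rcases mul_eq_zero.mp this with h | h
      · exact h
      · exact absurd h hs0
    rw [h5, zero_mul, sub_zero] at h3
    rcases mul_eq_zero.mp h3 with h | h
    · exact absurd h hr0
    · exact h
  have hdiag : ∀ i : Fin a, α i i = α i₀ i₀ := by
    intro i
    have hb1 := hB i i
    rw [if_pos rfl, mul_one, hβ', smul_add, smul_smul, smul_smul] at hb1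
    have h2 : (r * α i i - α' i i * p) • β + ((1 - r) - α' i i * s) • (1 : Matrix (Fin b) (Fin b) K) = 0 := by
      have e : (r * α i i - α' i i * p) • β + ((1 - r) - α' i i * s) • (1 : Matrix (Fin b) (Fin b) K) =
          ((r * α i i) • β + (1 - r) • (1 : Matrix (Fin b) (Fin b) K)) -
            ((α' i i * p) • β + (α' i i * s) • (1 : Matrix (Fin b) (Fin b) K)) := by
        rw [sub_smul, sub_smul]; abel
      rw [e, hb1, sub_self]
    obtain ⟨h3, h4⟩ := hind _ _ h2
    have h5 : α' i i = α' i₀ i₀ := by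
      have h6 : α' i i * s = 1 - r := (sub_eq_zero.mp h4).symm
      rw [hs, ← mul_assoc] at h6
      have h7 : α' i i * (α' i₀ i₀)⁻¹ = 1 := by
        have := mul_right_cancel₀ h1r (h6.trans (one_mul _).symm)
        exact this
      calc α' i i = α' i i * (α' i₀ i₀)⁻¹ * α' i₀ i₀ := by
            rw [mul_assoc, inv_mul_cancel₀ hα'0, mul_one]
        _ = α' i₀ i₀ := by rw [h7, one_mul]
    have h8 : r * α i i = r * α i₀ i₀ := by
      have h9 : r * α i i = α' i i * p := sub_eq_zero.mp h3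
      rw [h9, h5, hp, ← mul_assoc, mul_inv_cancel₀ hα'0, one_mul]
    exact mul_left_cancel₀ hr0 h8
  refine ⟨α i₀ i₀, ?_⟩
  ext i j
  rw [Matrix.smul_apply, Matrix.one_apply, smul_eq_mul]
  by_cases hij : i = j
  · rw [if_pos hij, mul_one, ← hij, hdiag i]
  · rw [if_neg hij, mul_zero, hoff i j hij]

end Cfsg.Agent.Lib.Helper20.C4UTR
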