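/-
helper20: S1164 / S3712 (Curtis–Tits, planner helper11), split leaf TOR2-braid: the braid relations of the
`n_k = n_k(1)` hold modulo `H̄` (`braid_mod_HS`), in `_of` form: the hypotheses are the statements of the leaves
`nn_conj` (R2A) and `NS_le_normalizer_HS` (TOR2).

Proof.  `m = 2`: `n_j` commutes with `X_{±p_k}`, hence with `n_k` (exact relation).  `m = 3`: with
`γ = s_j p_k = s_k p_j` (table) `n_j n_k n_j⁻¹ = N_γ(ε)` and `n_k⁻¹ n_j n_k = N_γ(ε')`, `ε, ε' = ±1`, and
`N_γ(-c) = N_γ(c)⁻¹`; `m = 4`: with `γ = s_k p_j`, `s_j γ = γ` (table), `n_j (n_k n_j n_k⁻¹) n_j⁻¹ =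
(n_k n_j n_k⁻¹)^{±1}`.  In the quotient `N̄ / H̄` the images of the `n_k` are involutions, and the braid relations
follow.
-/
import Cfsg.Agent.Lib.Helper11.CTDefs2
import Cfsg.Agent.Lib.Helper24.CTTOR1

set_option autoImplicit false
set_option maxRecDepth 100000

namespace Cfsg.Agent.Lib.Helper20.CTBRAID

open Cfsg Cfsg.Lie Matrix
open Cfsg.Agent.Lib.Helper7
open Cfsg.Agent.Lib.Helper11.StPres
open Cfsg.Agent.Lib.Helper11.CT
open Cfsg.Agent.Lib.Helper24

/-! ### the table check -/

/-- table check: for two distinct fundamental roots the braid length is `2`, `3` or `4`; for `3`,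
`s_j p_k = s_k p_j`; for `4`, `s_j` fixes `s_k p_j` -/
def braidB (D : ChevalleyDatum) : Bool :=
  (List.range D.rank).all fun j => (List.range D.rank).all fun k => j == k ||
    (braidLen D j k == 2 ||
     (braidLen D j k == 3 && D.reflectRoot j (D.simple k) == D.reflectRoot k (D.simple j)) ||
     (braidLen D j k == 4 &&
       D.reflectRoot j (D.reflectRoot k (D.simple j)) == D.reflectRoot k (D.simple j)))

theorem braidB_D4 : braidB chevD4 = true := by decide +kernel
theorem braidB_F4 : braidB chevF4 = true := by decide +kernel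
theorem braidB_E6 : braidB chevE6 = true := by decide +kernel
theorem braidB_E7 : braidB chevE7 = true := by decide +kernel
theorem braidB_E8 : braidB chevE8 = true := by decide +kernel

theorem braidB_of_mem (D : ChevalleyDatum) (hD : D ∈ [chevD4, chevF4, chevE6, chevE7, chevE8]) :
    braidB D = true :=
  mem_five_cases (P := fun D => braidB D = true) braidB_D4 braidB_F4 braidB_E6 braidB_E7 braidB_E8 D hD

theorem braid_cases (D : ChevalleyDatum) (hD : D ∈ [chevD4, chevF4, chevE6, chevE7, chevE8])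
    (j k : ℕ) (hj : j < D.rank) (hk : k < D.rank) (hjk : j ≠ k) :
    braidLen D j k = 2 ∨
    (braidLen D j k = 3 ∧ D.reflectRoot j (D.simple k) = D.reflectRoot k (D.simple j)) ∨
    (braidLen D j k = 4 ∧
      D.reflectRoot j (D.reflectRoot k (D.simple j)) = D.reflectRoot k (D.simple j)) := by
  have hB := braidB_of_mem D hD
  unfold braidB at hB
  simp only [List.all_eq_true, List.mem_range, Bool.or_eq_true, Bool.and_eq_true, beq_iff_eq] at hB
  rcases hB j hj k hk with h | (h | h) | h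
  · exact absurd h hjk
  · exact Or.inl h
  · exact Or.inr (Or.inl h)
  · exact Or.inr (Or.inr h)

/-! ### an abstract lemma: braid relations in `N / H` -/

section abstract

variable {Γ : Type*} [Group Γ]

theorem exists_of_quot_eq (H N : Subgroup Γ) [hn : (H.subgroupOf N).Normal] (x y : N)
    (h : (QuotientGroup.mk' (H.subgroupOf N)) x = (QuotientGroup.mk' (H.subgroupOf N)) y) :
    ∃ z ∈ H, (x : Γ) = (y : Γ) * z := by
  have h1 : y⁻¹ * x ∈ H.subgroupOf N := by
    rw [← QuotientGroup.eq]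
    exact h.symm
  rw [Subgroup.mem_subgroupOf] at h1
  refine ⟨_, h1, ?_⟩
  rw [Subgroup.coe_mul, Subgroup.coe_inv, mul_inv_cancel_left]

theorem braid_quot (H N : Subgroup Γ) (hHN : H ≤ N) (hN : N ≤ Subgroup.normalizer (H : Set Γ))
    (a b : Γ) (ha : a ∈ N) (hb : b ∈ N) (ha2 : a * a ∈ H) (hb2 : b * b ∈ H) :
    ((a * b * a⁻¹ = b⁻¹ * a * b ∨ a * b * a⁻¹ = (b⁻¹ * a * b)⁻¹) →
      ∃ z ∈ H, a * (b * (a * 1)) = b * (a * (b * 1)) * z) ∧
    ((a * (b * a * b⁻¹) * a⁻¹ = b * a * b⁻¹ ∨ a * (b * a * b⁻¹) * a⁻¹ = (b * a * b⁻¹)⁻¹) →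
      ∃ z ∈ H, a * (b * (a * (b * 1))) = b * (a * (b * (a * 1))) * z) := by
  have hnorm : (H.subgroupOf N).Normal := (Subgroup.normal_subgroupOf_iff_le_normalizer hHN).mpr hN
  set π := QuotientGroup.mk' (H.subgroupOf N) with hπ
  set a' : N := ⟨a, ha⟩ with ha'
  set b' : N := ⟨b, hb⟩ with hb'
  have hα : π a' * π a' = 1 := by
    rw [← map_mul, hπ, QuotientGroup.mk'_apply, QuotientGroup.eq_one_iff, Subgroup.mem_subgroupOf]
    exact ha2
  have hβ : π b' * π b' = 1 := by
    rw [← map_mul, hπ, QuotientGroup.mk'_apply, QuotientGroup.eq_one_iff, Subgroup.mem_subgroupOf]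
    exact hb2
  have hαi : (π a')⁻¹ = π a' := inv_eq_of_mul_eq_one_left hα
  have hβi : (π b')⁻¹ = π b' := inv_eq_of_mul_eq_one_left hβ
  constructor
  · intro h
    have h' : a' * b' * a'⁻¹ = b'⁻¹ * a' * b' ∨ a' * b' * a'⁻¹ = (b'⁻¹ * a' * b')⁻¹ := by
      rcases h with h | h
      · left; apply Subtype.ext; exact h
      · right; apply Subtype.ext; exact h
    have key : π a' * π b' * π a' = π b' * π a' * π b' := by
      rcases h' with h | h
      · have := congrArg π h
        simpa only [map_mul, map_inv, hαi, hβi] using this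
      · have := congrArg π h
        simpa only [map_mul, map_inv, _root_.mul_inv_rev, inv_inv, hαi, hβi, mul_assoc] using this
    have hq : π (a' * (b' * (a' * 1))) = π (b' * (a' * (b' * 1))) := by
      simp only [map_mul, mul_one, ← mul_assoc]
      exact key
    exact exists_of_quot_eq H N _ _ hq
  · intro h
    have h' : a' * (b' * a' * b'⁻¹) * a'⁻¹ = b' * a' * b'⁻¹ ∨
        a' * (b' * a' * b'⁻¹) * a'⁻¹ = (b' * a' * b'⁻¹)⁻¹ := by
      rcases h with h | h
      · left; apply Subtype.ext; exact h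
      · right; apply Subtype.ext; exact h
    have key : π a' * (π b' * π a' * π b') * π a' = π b' * π a' * π b' := by
      rcases h' with h | h
      · have := congrArg π h
        simpa only [map_mul, map_inv, hαi, hβi] using this
      · have := congrArg π h
        simpa only [map_mul, map_inv, _root_.mul_inv_rev, inv_inv, hαi, hβi, mul_assoc] using this
    have hq : π (a' * (b' * (a' * (b' * 1)))) = π (b' * (a' * (b' * (a' * 1)))) := by
      simp only [map_mul, mul_one]
      calc π a' * (π b' * (π a' * π b'))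
          = π a' * (π b' * π a' * π b') * (π a' * π a') := by rw [hα, mul_one]; group
        _ = (π a' * (π b' * π a' * π b') * π a') * π a' := by group
        _ = π b' * (π a' * (π b' * π a')) := by rw [key]; group
    exact exists_of_quot_eq H N _ _ hq

end abstract

/-! ### the elements `N_r(c)` -/

section
variable {D : ChevalleyDatum} {K : Type*} [Field K]

/-- `N_r(c) = X_r(c) X_{-r}(-c⁻¹) X_r(c)` in the Curtis–Tits group -/
noncomputable def NN (r : ℕ) (c : K) : D.CurtisTitsGroup K := wordG (X D K) (D.nWord r c)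

theorem NN_eq (r : ℕ) (c : K) :
    NN (D := D) r c = X D K r c * X D K (D.neg r) (-c⁻¹) * X D K r c := by
  unfold NN ChevalleyDatum.nWord
  rw [wordG_cons, wordG_cons, wordG_cons, wordG_nil, mul_one, mul_assoc]

theorem nn_eq_NN (k : ℕ) (c : K) : nn D K k c = NN (D := D) (D.simple k) c := rfl

theorem NN_neg (r : ℕ) (c : K) : NN (D := D) r (-c) = (NN (D := D) r c)⁻¹ := by
  rw [NN_eq, NN_eq]
  have h1 : X D K r (-c) = (X D K r c)⁻¹ := CTTOR1.X_neg _ c
  have h2 : X D K (D.neg r) (-(-c)⁻¹) = (X D K (D.neg r) (-c⁻¹))⁻¹ := by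
    rw [← CTTOR1.X_neg]
    congr 1
    rw [inv_neg]
  rw [h1, h2, _root_.mul_inv_rev, _root_.mul_inv_rev, mul_assoc]

theorem HS_le_NS : HS D K ≤ NS D K := by
  unfold HS
  rw [Subgroup.closure_le]
  rintro g ⟨k, hk, t, ht, rfl⟩
  rw [SetLike.mem_coe, CTTOR1.hh_eq]
  exact Subgroup.mul_mem _ (Subgroup.subset_closure ⟨k, hk, t, ht, rfl⟩)
    (Subgroup.subset_closure ⟨k, hk, -1, neg_ne_zero.mpr one_ne_zero, rfl⟩)

theorem nn_mem_NS (k : ℕ) (hk : k < D.rank) : nn D K k 1 ∈ NS D K :=
  Subgroup.subset_closure ⟨k, hk, 1, one_ne_zero, rfl⟩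

end

section
variable {D : ChevalleyDatum} (hD : D ∈ [chevD4, chevF4, chevE6, chevE7, chevE8])
variable {K : Type*} [Field K]

include hD in
/-- the fundamental roots `p_i`, `p_j` lie in `Φ_ij` -/
theorem simple_mem (i j l : ℕ) (hi : i < D.rank) (hj : j < D.rank) (hl : l = i ∨ l = j) :
    D.InRankTwoSub i j (D.simple l) := by
  have hl' : l < D.rank := by rcases hl with rfl | rfl <;> assumption
  have hF := fundFacts_of_mem D (mem7 hD) l hl'
  refine ⟨hF.hp, hi, hj, ?_⟩
  intro k hk hki hkj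
  rw [hF.corUnit k hk, if_neg]
  rcases hl with rfl | rfl
  · exact hki
  · exact hkj

include hD in
/-- `Φ_ij` is stable under `s_i`, `s_j` -/
theorem r2_reflect' (i j k r : ℕ) (hk : k = i ∨ k = j) (hr : D.InRankTwoSub i j r) :
    D.InRankTwoSub i j (D.reflectRoot k r) := by
  have hk' : k < D.rank := by
    rcases hk with rfl | rfl
    · exact hr.2.1
    · exact hr.2.2.1
  have hC := conjFacts_of_mem D (mem7 hD) k hk'
  refine ⟨hC.wlt r hr.1, hr.2.1, hr.2.2.1, ?_⟩
  intro l hl hli hlj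
  rw [hC.corRefl l hl r hr.1, hr.2.2.2 l hl hli hlj, if_neg, sub_zero]
  rcases hk with rfl | rfl
  · exact hli
  · exact hlj

variable (hconj : ∀ (i j k : ℕ), (k = i ∨ k = j) → ∀ (r : ℕ), D.InRankTwoSub i j r → ∀ (t : K), t ≠ 0 →
    ∀ (u v : K),
    wordGL D (mem7 hD) K (D.nWord (D.simple k) t) * xGL D (mem7 hD) K r u *
      (wordGL D (mem7 hD) K (D.nWord (D.simple k) t))⁻¹ = xGL D (mem7 hD) K (D.reflectRoot k r) v →
    nn D K k t * X D K r u * (nn D K k t)⁻¹ = X D K (D.reflectRoot k r) v)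

include hconj in
theorem conj_X (i j k : ℕ) (hk : k = i ∨ k = j) (r : ℕ) (hr : D.InRankTwoSub i j r) (u : K) :
    nn D K k 1 * X D K r u * (nn D K k 1)⁻¹ =
      X D K (D.reflectRoot k r) (((etaFn D k r : ℤ) : K) * u) := by
  have hk' : k < D.rank := by
    rcases hk with rfl | rfl
    · exact hr.2.1
    · exact hr.2.2.1
  exact hconj i j k hk r hr 1 one_ne_zero u _ (nGL_conj_xGL D (mem7 hD) K k hk' r hr.1 u)

include hconj in
theorem conj_NN (i j k : ℕ) (hk : k = i ∨ k = j) (r : ℕ) (hr : D.InRankTwoSub i j r) (c : K) :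
    nn D K k 1 * NN (D := D) r c * (nn D K k 1)⁻¹ =
      NN (D := D) (D.reflectRoot k r) (((etaFn D k r : ℤ) : K) * c) := by
  have hk' : k < D.rank := by
    rcases hk with rfl | rfl
    · exact hr.2.1
    · exact hr.2.2.1
  have hC := conjFacts_of_mem D (mem7 hD) k hk'
  have hnr : D.InRankTwoSub i j (D.neg r) := (r2Closed_of_mem D hD).neg i j r hr
  have h1 := conj_X hD hconj i j k hk r hr c
  have h2 := conj_X hD hconj i j k hk (D.neg r) hnr (-c⁻¹)
  rw [(hC.wneg r hr.1).2.1, hC.ηneg r hr.1] at h2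
  rw [NN_eq, NN_eq]
  have hsplit : nn D K k 1 * (X D K r c * X D K (D.neg r) (-c⁻¹) * X D K r c) * (nn D K k 1)⁻¹ =
      (nn D K k 1 * X D K r c * (nn D K k 1)⁻¹) * (nn D K k 1 * X D K (D.neg r) (-c⁻¹) * (nn D K k 1)⁻¹) *
        (nn D K k 1 * X D K r c * (nn D K k 1)⁻¹) := by group
  rw [hsplit, h1, h2]
  have he : ((etaFn D k r : ℤ) : K) * -c⁻¹ = -(((etaFn D k r : ℤ) : K) * c)⁻¹ := by
    rcases hC.ηpm r hr.1 with h | h <;> rw [h] <;> simp
  rw [he]

variable (hNS : NS D K ≤ Subgroup.normalizer (HS D K : Set (D.CurtisTitsGroup K)))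

include hconj hNS in
/-- the braid relations hold modulo `H̄` (`_of` form of the leaf `braid_mod_HS`) -/
theorem braid_mod_HS_of (j k : ℕ) (hj : j < D.rank) (hk : k < D.rank) (hjk : j ≠ k) :
    2 ≤ braidLen D j k ∧ ∃ z ∈ HS D K,
      nW D K (RS.altW j k (braidLen D j k)) = nW D K (RS.altW k j (braidLen D j k)) * z := by
  have hpj : D.InRankTwoSub j k (D.simple j) := simple_mem hD j k j hj hk (Or.inl rfl)
  have hpk : D.InRankTwoSub j k (D.simple k) := simple_mem hD j k k hj hk (Or.inr rfl)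
  have hCj := conjFacts_of_mem D (mem7 hD) j hj
  have hCk := conjFacts_of_mem D (mem7 hD) k hk
  have hq := braid_quot (HS D K) (NS D K) HS_le_NS hNS (nn D K j 1) (nn D K k 1) (nn_mem_NS j hj)
    (nn_mem_NS k hk) (CTTOR1.nn_sq_mem_HS_gen j hj) (CTTOR1.nn_sq_mem_HS_gen k hk)
  rcases braid_cases D hD j k hj hk hjk with h2 | ⟨h3, hγ⟩ | ⟨h4, hγ⟩
  · -- `m = 2`: exact relation
    rw [h2]
    refine ⟨le_refl _, 1, one_mem _, ?_⟩
    have horth : (rsD D).orth j k = true := by
      unfold RS.orth rsD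
      simp [hj, hk, hjk, h2]
    have hc : ∀ u : K, nn D K j 1 * X D K (D.simple k) u = X D K (D.simple k) u * nn D K j 1 :=
      fun u => (CTTOR1.nn_comm_X_of_orth hD j k hj hk horth 1 u).1
    have hc' : ∀ u : K, nn D K j 1 * X D K (D.neg (D.simple k)) u =
        X D K (D.neg (D.simple k)) u * nn D K j 1 :=
      fun u => (CTTOR1.nn_comm_X_of_orth hD j k hj hk horth 1 u).2
    have hcomm : nn D K j 1 * nn D K k 1 = nn D K k 1 * nn D K j 1 := by
      rw [CTTOR1.nn_eq k 1]
      calc nn D K j 1 * (X D K (D.simple k) 1 * X D K (D.neg (D.simple k)) (-(1 : K)⁻¹) *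
            X D K (D.simple k) 1)
          = (nn D K j 1 * X D K (D.simple k) 1) * X D K (D.neg (D.simple k)) (-(1 : K)⁻¹) *
            X D K (D.simple k) 1 := by simp only [mul_assoc]
        _ = X D K (D.simple k) 1 * (nn D K j 1 * X D K (D.neg (D.simple k)) (-(1 : K)⁻¹)) *
            X D K (D.simple k) 1 := by rw [hc]; simp only [mul_assoc]
        _ = X D K (D.simple k) 1 * X D K (D.neg (D.simple k)) (-(1 : K)⁻¹) *
            (nn D K j 1 * X D K (D.simple k) 1) := by rw [hc']; simp only [mul_assoc]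
        _ = X D K (D.simple k) 1 * X D K (D.neg (D.simple k)) (-(1 : K)⁻¹) * X D K (D.simple k) 1 *
            nn D K j 1 := by rw [hc]; simp only [mul_assoc]
    show nn D K j 1 * (nn D K k 1 * 1) = nn D K k 1 * (nn D K j 1 * 1) * 1
    rw [mul_one, mul_one, mul_one]
    exact hcomm
  · -- `m = 3`
    rw [h3]
    refine ⟨by norm_num, ?_⟩
    have hA : nn D K j 1 * nn D K k 1 * (nn D K j 1)⁻¹ =
        NN (D := D) (D.reflectRoot j (D.simple k)) (((etaFn D j (D.simple k) : ℤ) : K) * 1) := by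
      have := conj_NN hD hconj j k j (Or.inl rfl) (D.simple k) hpk (1 : K)
      rwa [← nn_eq_NN] at this
    have hγ' : D.InRankTwoSub j k (D.reflectRoot k (D.simple j)) :=
      r2_reflect' hD j k k (D.simple j) (Or.inr rfl) hpj
    have hB : (nn D K k 1)⁻¹ * nn D K j 1 * nn D K k 1 =
        NN (D := D) (D.reflectRoot k (D.simple j))
          ((etaFn D k (D.reflectRoot k (D.simple j)) : ℤ) : K) := by
      have := conj_NN hD hconj j k k (Or.inr rfl) _ hγ'
        (((etaFn D k (D.reflectRoot k (D.simple j)) : ℤ) : K))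
      rw [hCk.winv _ hpj.1, eta_sq D (mem7 hD) K k hk _ hγ'.1, ← nn_eq_NN] at this
      rw [← this]
      group
    rw [mul_one, hγ] at hA
    have hsign : (((etaFn D j (D.simple k) : ℤ) : K)) =
          ((etaFn D k (D.reflectRoot k (D.simple j)) : ℤ) : K) ∨
        (((etaFn D j (D.simple k) : ℤ) : K)) =
          -((etaFn D k (D.reflectRoot k (D.simple j)) : ℤ) : K) := by
      rcases hCj.ηpm _ hpk.1 with h | h <;> rcases hCk.ηpm _ hγ'.1 with h' | h' <;> rw [h, h'] <;> simp
    apply hq.1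
    rcases hsign with h | h
    · left
      rw [hA, hB, h]
    · right
      rw [hA, hB, h, NN_neg]
  · -- `m = 4`
    rw [h4]
    refine ⟨by norm_num, ?_⟩
    have hγ' : D.InRankTwoSub j k (D.reflectRoot k (D.simple j)) :=
      r2_reflect' hD j k k (D.simple j) (Or.inr rfl) hpj
    have hA : nn D K k 1 * nn D K j 1 * (nn D K k 1)⁻¹ =
        NN (D := D) (D.reflectRoot k (D.simple j)) (((etaFn D k (D.simple j) : ℤ) : K) * 1) := by
      have := conj_NN hD hconj j k k (Or.inr rfl) (D.simple j) hpj (1 : K)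
      rwa [← nn_eq_NN] at this
    have hAA := conj_NN hD hconj j k j (Or.inl rfl) _ hγ' (((etaFn D k (D.simple j) : ℤ) : K) * 1)
    rw [hγ, ← hA] at hAA
    apply hq.2
    rcases hCj.ηpm _ hγ'.1 with h | h
    · left
      rw [hAA, h, Int.cast_one, one_mul]
      exact hA.symm
    · right
      rw [hAA, h, Int.cast_neg, Int.cast_one, neg_one_mul, NN_neg, hA]

end

end Cfsg.Agent.Lib.Helper20.CTBRAID
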