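/-
helper20: a finite quasisimple group of even order and 2-rank one has generalized quaternion Sylow
2-subgroups (of order at least 8) and a central involution.  Ingredients: S0016 (unique subgroup of order p),
Burnside's transfer for a cyclic Sylow 2-subgroup (Mathlib), S0201 (Brauer-Suzuki).
-/
import Mathlib
import Cfsg.Prelude.Def_Local
import Cfsg.Prelude.Def_Balance
import Cfsg.Agent.S0201
import Cfsg.Agent.Lib.Helper17.RankOne
import Cfsg.Agent.Lib.Helper9.Quasisimple
import Cfsg.Agent.Lib.Helper11.Quasisimple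
import Cfsg.Agent.Lib.Helper12.Cores

set_option autoImplicit false
set_option linter.style.haveILetI false

namespace Cfsg.Agent.Lib.Helper20.ClassInv

/-- A finite perfect group of even order has no cyclic Sylow 2-subgroup (Burnside transfer). -/
theorem not_isCyclic_sylow_two {G : Type*} [Group G] [Finite G] (hperf : Group.IsPerfect G)
    (h2 : 2 ∣ Nat.card G) (P : Sylow 2 G) : ¬ IsCyclic ↥(P : Subgroup G) := by
  intro hcyc
  haveI : Fact (Nat.Prime 2) := ⟨Nat.prime_two⟩
  have hmin : (Nat.card G).minFac = 2 := (Nat.minFac_eq_two_iff _).mpr h2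
  have hcomp := IsCyclic.isComplement' hmin hcyc
  have hker : (MonoidHom.transferSylow P (hcyc.normalizer_le_centralizer hmin)).ker = ⊤ := by
    rw [eq_top_iff, ← hperf.commutator_eq_top, commutator_def, Subgroup.commutator_le]
    intro a _ b _
    rw [MonoidHom.mem_ker, map_commutatorElement, commutatorElement_eq_one_iff_mul_comm]
    exact (IsCyclic.isMulCommutative (α := ↥(P : Subgroup G))).is_comm.comm _ _
  rw [hker] at hcomp
  have hcard := hcomp.card_mul_card
  rw [Subgroup.card_top] at hcard
  have hpos : 0 < Nat.card G := Nat.card_pos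
  have h1 : Nat.card ↥(P : Subgroup G) = 1 := by
    have : Nat.card G * Nat.card ↥(P : Subgroup G) = Nat.card G * 1 := by rw [mul_one]; exact hcard
    exact Nat.eq_of_mul_eq_mul_left hpos this
  exact P.ne_bot_of_dvd_card h2 (Subgroup.card_eq_one.mp h1)

/-- A Sylow subgroup maps isomorphically onto its image modulo a normal subgroup of coprime order. -/
theorem sylow_equiv_map_mk {G : Type*} [Group G] [Finite G] {p : ℕ} [Fact p.Prime]
    (T : Sylow p G) (D : Subgroup G) [D.Normal] (hD : (Nat.card D).Coprime p) :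
    Nonempty (↥(T : Subgroup G) ≃* ↥((T : Subgroup G).map (QuotientGroup.mk' D))) := by
  refine ⟨MulEquiv.ofBijective ((QuotientGroup.mk' D).subgroupMap T)
    ⟨?_, MonoidHom.subgroupMap_surjective _ _⟩⟩
  rw [injective_iff_map_eq_one]
  intro t ht
  have h1 : (QuotientGroup.mk' D) (t : G) = 1 := by
    have := congrArg Subtype.val ht
    simpa using this
  have h2 : (t : G) ∈ D := by
    rwa [QuotientGroup.mk'_apply, QuotientGroup.eq_one_iff] at h1
  have h3 : orderOf (t : G) ∣ Nat.card D := by
    have := orderOf_dvd_natCard (⟨(t : G), h2⟩ : D)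
    rwa [Subgroup.orderOf_mk] at this
  obtain ⟨k, hk⟩ := T.isPGroup' t
  have hk' : (t : G) ^ p ^ k = 1 := by simpa using congrArg Subtype.val hk
  have h4 := orderOf_dvd_of_pow_eq_one hk'
  have hcop : Nat.Coprime (Nat.card D) (p ^ k) := Nat.Coprime.pow_right k hD
  have h5 : orderOf (t : G) = 1 := Nat.eq_one_of_dvd_coprimes hcop h3 h4
  exact Subtype.ext (orderOf_eq_one_iff.mp h5)

/-- A finite quasisimple group of even order and 2-rank one: its Sylow 2-subgroups are generalized quaternion
of order at least 8 and its centre contains an involution. -/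
theorem quasisimple_rank_one {Q : Type*} [Group Q] [Finite Q] (hq : Cfsg.IsQuasisimple Q)
    (heven : Even (Nat.card Q)) (hrk : Cfsg.PRankLE 2 1 Q) :
    ∃ z : Q, orderOf z = 2 ∧ z ∈ Subgroup.center Q ∧
      ∃ S : Sylow 2 Q, ∃ n : ℕ, Nonempty (↥(S : Subgroup Q) ≃* QuaternionGroup (2 ^ (n + 1))) := by
  haveI : Fact (Nat.Prime 2) := ⟨Nat.prime_two⟩
  have h2 : 2 ∣ Nat.card Q := even_iff_two_dvd.mp heven
  obtain ⟨P⟩ : Nonempty (Sylow 2 Q) := inferInstance
  rcases Cfsg.Agent.Lib.Helper17.isCyclic_or_quaternion_of_pRankLE_one hrk (P : Subgroup Q) P.isPGroup'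
    with hcyc | ⟨-, n, ⟨e⟩⟩
  · exact absurd hcyc (not_isCyclic_sylow_two hq.1 h2 P)
  · rcases n with _ | m
    · exfalso
      have hcyc : IsCyclic ↥(P : Subgroup Q) := by
        have h1 : IsCyclic (QuaternionGroup (2 ^ 0)) := by
          show IsCyclic (QuaternionGroup 1)
          exact QuaternionGroup.quaternionGroup_one_isCyclic
        exact isCyclic_of_surjective e.symm e.symm.surjective
      exact not_isCyclic_sylow_two hq.1 h2 P hcyc
    · -- the odd core and the quotient
      obtain ⟨N, hNdef⟩ : ∃ N : Subgroup Q, N = Cfsg.pPrimeCore 2 Q := ⟨_, rfl⟩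
      haveI hNn : N.Normal := by rw [hNdef]; infer_instance
      have hNc : (Nat.card N).Coprime 2 := by
        rw [hNdef]; exact Cfsg.Agent.Lib.Helper12.pPrimeCore_coprime 2
      have hO : ∀ M : Subgroup (Q ⧸ N), M.Normal → Odd (Nat.card M) → M = ⊥ := by
        intro M hM hodd
        haveI := hM
        have hle : M.comap (QuotientGroup.mk' N) ≤ N := by
          have h := Cfsg.Agent.Lib.Helper12.le_pPrimeCore 2 (M.comap (QuotientGroup.mk' N))
            inferInstance (by
              rw [Cfsg.Agent.Lib.Helper12.card_comap_mk']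
              exact Nat.Coprime.mul_left hNc (Nat.coprime_two_right.mpr hodd))
          exact h.trans (le_of_eq hNdef.symm)
        rw [eq_bot_iff]
        intro y hy
        obtain ⟨g, rfl⟩ := QuotientGroup.mk'_surjective N y
        have hg : g ∈ M.comap (QuotientGroup.mk' N) := hy
        rw [Subgroup.mem_bot]
        exact (QuotientGroup.eq_one_iff g).mpr (hle hg)
      -- the image Sylow subgroup
      obtain ⟨Pb, hPb⟩ : ∃ Pb : Sylow 2 (Q ⧸ N),
          (Pb : Subgroup (Q ⧸ N)) = (P : Subgroup Q).map (QuotientGroup.mk' N) :=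
        ⟨P.mapSurjective (QuotientGroup.mk'_surjective N), Sylow.coe_mapSurjective _ _⟩
      obtain ⟨e1⟩ := sylow_equiv_map_mk P N hNc
      have e' : ↥(Pb : Subgroup (Q ⧸ N)) ≃* QuaternionGroup (2 ^ (m + 1)) :=
        (MulEquiv.subgroupCongr hPb).trans (e1.symm.trans e)
      have hZ : Nat.card ↥(Subgroup.center (Q ⧸ N)) = 2 := Cfsg.Agent.S0201.result Pb m e' hO
      -- the preimage of the centre
      obtain ⟨Zt, hZt⟩ : ∃ Zt : Subgroup Q,
          Zt = (Subgroup.center (Q ⧸ N)).comap (QuotientGroup.mk' N) := ⟨_, rfl⟩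
      haveI hZtn : Zt.Normal := by rw [hZt]; infer_instance
      have hZtcard : Nat.card ↥Zt = Nat.card ↥N * 2 := by
        rw [hZt, Cfsg.Agent.Lib.Helper12.card_comap_mk', hZ]
      have hZtne : Zt ≠ ⊤ := by
        intro htop
        -- then |Q| = 2 |N|, but 8 divides |Q| and |N| is odd
        have hQcard : Nat.card Q = Nat.card ↥N * 2 := by
          rw [← hZtcard, htop, Subgroup.card_top]
        have hPcard : Nat.card ↥(P : Subgroup Q) = 4 * 2 ^ (m + 1) := by
          rw [Nat.card_congr e.toEquiv, Nat.card_eq_fintype_card, QuaternionGroup.card]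
        have hdvd : Nat.card ↥(P : Subgroup Q) ∣ Nat.card Q := Subgroup.card_subgroup_dvd_card _
        rw [hPcard, hQcard] at hdvd
        have h4 : 4 ∣ Nat.card ↥N * 2 := (Dvd.intro _ rfl).trans hdvd
        have hoddN : Odd (Nat.card ↥N) := Nat.coprime_two_right.mp hNc
        obtain ⟨k, hk⟩ := hoddN
        omega
      have hle : Zt ≤ Subgroup.center Q :=
        Cfsg.Agent.Lib.Helper9.IsQuasisimple_normal_le_center hq Zt hZtne
      have hdvd2 : 2 ∣ Nat.card ↥Zt := by rw [hZtcard]; exact Dvd.intro_left _ rfl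
      obtain ⟨z, hz⟩ := exists_prime_orderOf_dvd_card' 2 hdvd2
      refine ⟨(z : Q), ?_, hle z.2, P, m, ⟨e⟩⟩
      rw [Subgroup.orderOf_coe]; exact hz

end Cfsg.Agent.Lib.Helper20.ClassInv
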