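import Mathlib

/-!
# Counting with the permutation induced by conjugation on an invariant finite set

* `nine_dvd_card_of_cube_fpf`: a permutation `π` with `π ^ 3 ^ n = 1` such that `π ^ 3` has no
  fixed point acts on a set of size divisible by `9`.
* `conjPermOn d S hS`: the permutation of the `d`-conjugation-invariant finite set `S`.
* `card_modEq_one_of_unique_fixed`, `nine_dvd_card_of_cube_no_fixed`: counting for `conjPermOn`.
-/

set_option autoImplicit false

namespace Cfsg.Agent.Lib.Helper20.ConjPerm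

open Equiv

theorem nine_dvd_card_of_cube_fpf {α : Type*} [Fintype α] [DecidableEq α] (π : Perm α) (n : ℕ)
    (hπ : π ^ 3 ^ n = 1) (h3 : ∀ x, (π ^ 3) x ≠ x) : 9 ∣ Fintype.card α := by
  have hsupp : π.support = Finset.univ := by
    ext x
    simp only [Perm.mem_support, Finset.mem_univ, iff_true]
    intro hx
    apply h3 x
    rw [pow_succ, pow_two, Perm.mul_apply, Perm.mul_apply, hx, hx, hx]
  rw [← Finset.card_univ, ← hsupp, ← Perm.sum_cycleType]
  apply Multiset.dvd_sum
  intro k hk
  have hk1 : k ∣ 3 ^ n := (Perm.dvd_of_mem_cycleType hk).trans (orderOf_dvd_of_pow_eq_one hπ)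
  obtain ⟨l, hl, rfl⟩ := (Nat.dvd_prime_pow Nat.prime_three).mp hk1
  have h2 := Perm.two_le_of_mem_cycleType hk
  rcases l with _ | _ | l
  · simp at h2
  · exfalso
    rw [Perm.cycleType_def, Multiset.mem_map] at hk
    obtain ⟨c, hc, hcard⟩ := hk
    have hc' : c ∈ π.cycleFactorsFinset := hc
    obtain ⟨hcyc, hca⟩ := Perm.mem_cycleFactorsFinset_iff.mp hc'
    obtain ⟨a, ha⟩ : ∃ a, a ∈ c.support := by
      have : c.support.Nonempty := by
        rw [Finset.nonempty_iff_ne_empty]
        intro h0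
        have : c.support.card = 0 := by rw [h0]; rfl
        simp only [Function.comp_apply] at hcard
        omega
      exact this
    have h4 : c = π.cycleOf a := Perm.cycle_is_cycleOf ha hc'
    have h5 : orderOf c = 3 := by
      rw [hcyc.orderOf]
      simpa using hcard
    have h6 : (π ^ 3) a = a := by
      rw [← Perm.cycleOf_pow_apply_self, ← h4, ← h5, pow_orderOf_eq_one]
      rfl
    exact h3 a h6
  · exact ⟨3 ^ l, by ring⟩

variable {X : Type*} [Group X]

/-- The permutation of a conjugation-invariant finite set induced by conjugation by `d`. -/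
noncomputable def conjPermOn (d : X) (S : Set X) [Finite S] (hS : ∀ x ∈ S, d * x * d⁻¹ ∈ S) :
    Perm S :=
  Equiv.ofBijective (fun x => ⟨d * x * d⁻¹, hS x x.2⟩)
    (by
      rw [← Finite.injective_iff_bijective]
      intro a b h
      have := congrArg Subtype.val h
      simp only [mul_left_inj, mul_right_inj] at this
      exact Subtype.ext this)

theorem conjPermOn_apply (d : X) (S : Set X) [Finite S] (hS : ∀ x ∈ S, d * x * d⁻¹ ∈ S) (x : S) :
    ((conjPermOn d S hS x : S) : X) = d * x * d⁻¹ := rfl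

theorem conjPermOn_pow (d : X) (S : Set X) [Finite S] (hS : ∀ x ∈ S, d * x * d⁻¹ ∈ S) (k : ℕ)
    (x : S) : ((((conjPermOn d S hS) ^ k) x : S) : X) = d ^ k * x * (d ^ k)⁻¹ := by
  induction k with
  | zero => simp
  | succ k ih =>
    rw [pow_succ', Perm.mul_apply, conjPermOn_apply, ih, pow_succ']
    group

theorem conjPermOn_pow_eq_one (d : X) (S : Set X) [Finite S] (hS : ∀ x ∈ S, d * x * d⁻¹ ∈ S)
    (k : ℕ) (hd : d ^ k = 1) : (conjPermOn d S hS) ^ k = 1 := by
  ext x
  rw [conjPermOn_pow, hd]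
  simp

/-- If `1`-like point `x₀` is the unique fixed point of conjugation by the `3`-element `d` on `S`,
then `|S| ≡ 1 mod 3`. -/
theorem card_modEq_one_of_unique_fixed (d : X) (S : Set X) [Finite S]
    (hS : ∀ x ∈ S, d * x * d⁻¹ ∈ S) (n : ℕ) (hd : d ^ 3 ^ n = 1) (x₀ : X) (hx₀ : x₀ ∈ S)
    (hfix₀ : d * x₀ * d⁻¹ = x₀) (hfix : ∀ x ∈ S, d * x * d⁻¹ = x → x = x₀) :
    Nat.card S ≡ 1 [MOD 3] := by
  classical
  haveI : Fintype S := Fintype.ofFinite S
  haveI : Fact (Nat.Prime 3) := ⟨Nat.prime_three⟩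
  have hπ := conjPermOn_pow_eq_one d S hS (3 ^ n) hd
  have h6 := Equiv.Perm.card_compl_support_modEq hπ
  have h7 : (conjPermOn d S hS).supportᶜ = {⟨x₀, hx₀⟩} := by
    ext g
    simp only [Finset.mem_compl, Equiv.Perm.mem_support, not_not, Finset.mem_singleton]
    constructor
    · intro hg
      have := congrArg Subtype.val hg
      rw [conjPermOn_apply] at this
      exact Subtype.ext (hfix g g.2 this)
    · rintro rfl
      exact Subtype.ext hfix₀
  rw [h7, Finset.card_singleton] at h6
  rw [Nat.card_eq_fintype_card]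
  exact h6.symm

/-- If `d³` fixes no point of the invariant set `S` (and `d` is a `3`-element), `9 ∣ |S|`. -/
theorem nine_dvd_card_of_cube_no_fixed (d : X) (S : Set X) [Finite S]
    (hS : ∀ x ∈ S, d * x * d⁻¹ ∈ S) (n : ℕ) (hd : d ^ 3 ^ n = 1)
    (h3 : ∀ x ∈ S, d ^ 3 * x * (d ^ 3)⁻¹ ≠ x) : 9 ∣ Nat.card S := by
  classical
  haveI : Fintype S := Fintype.ofFinite S
  rw [Nat.card_eq_fintype_card]
  apply nine_dvd_card_of_cube_fpf (conjPermOn d S hS) n (conjPermOn_pow_eq_one d S hS _ hd)
  intro x hx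
  apply h3 x x.2
  have := congrArg Subtype.val hx
  rwa [conjPermOn_pow] at this

end Cfsg.Agent.Lib.Helper20.ConjPerm
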