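import Mathlib
import Cfsg.Agent.Lib.Helper7.DHBDefs
import Cfsg.Agent.Lib.Helper7.DHBSQ
import Cfsg.Agent.Lib.Helper20.DHBPAR

/-!
helper20: leaf FIN (`fin_contra`, step G) of market "DHB" (S3616 algebraic core, planner helper7).

`a = |X|`, `c = |Y|`, `l = m`.  `par`: `2ac = ln`, `(a - c)² = k - l`.  For `g ∈ P ∖ 0`: `rep X X g = a` (`X` is
`P`-invariant and symmetric), so `dif Y Y g = l - a`.  Summing over `P`: `∑_w m_w² = c + (p - 1)(l - a)` over the
fibres of `u ↦ p • u` (the `n / p` cosets of `P`); Cauchy–Schwarz gives `p c² ≤ n c + (p - 1) a (2c - n)`, i.e.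
`(p - 2) n d² ≤ p d (2c - n)` for `d = a - c`.  `k > l` gives `d ≠ 0`, `p ∣ d² ` gives `|d| ≥ p ≥ 3`; `d > 0` contradicts
`2c - n < n`, `d < 0` contradicts `2c ≥ n` (from `l ≥ a`).
-/

set_option autoImplicit false
set_option linter.unusedSectionVars false
set_option linter.unusedVariables false

namespace Cfsg.Agent.Lib.Helper20.DHBFIN

open Finset Cfsg.Agent.Lib.Helper7.DHB Cfsg.Agent.Lib.Helper7.DHBSQ

variable {n : ℕ} [NeZero n] {X Y : Finset (ZMod n)} {k l m : ℕ}

/-- the integer arithmetic of step (G) -/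
theorem arith (a c n p k l : ℤ) (hp3 : 3 ≤ p) (ha : 1 ≤ a) (hc1 : 1 ≤ c) (hcn : c + 1 ≤ n)
    (hk : a + c = k) (h2 : 2 * a * c = l * n) (h3 : a ^ 2 + c ^ 2 + l = k + l * n)
    (hkl : l < k) (hla : a ≤ l) (hCS : p * c ^ 2 ≤ n * c + (p - 1) * (l * n - a * n))
    (hdvd : p ≤ |a - c|) : False := by
  set d := a - c with hd
  have hn : 1 ≤ n := by linarith
  have hd2 : d ^ 2 = k - l := by rw [hd]; nlinarith
  have hR : n * d ^ 2 - n * (a + c) + 2 * a * c = 0 := by rw [hd2, ← hk, h2]; ring
  -- `2c ≥ n`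
  have h2c : n ≤ 2 * c := by
    have h1 : a * n ≤ a * (2 * c) := by nlinarith
    exact le_of_mul_le_mul_left h1 (by linarith)
  -- the main inequality `E ≥ 0`
  have hE : 0 ≤ d * (p * (2 * c - n) - (p - 2) * n * d) := by
    have hS : 0 ≤ n * c + (p - 1) * (2 * a * c - a * n) - p * c ^ 2 := by
      rw [h2]; linarith
    have : d * (p * (2 * c - n) - (p - 2) * n * d) =
        2 * (n * c + (p - 1) * (2 * a * c - a * n) - p * c ^ 2) -
          (p - 2) * (n * d ^ 2 - n * (a + c) + 2 * a * c) := by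
      rw [hd]; ring
    rw [this, hR]
    linarith
  have hp2n : 0 < (p - 2) * n := by
    apply mul_pos <;> linarith
  rcases le_or_gt 0 d with hd0 | hd0
  · -- `d ≥ p ≥ 3`
    rw [abs_of_nonneg hd0] at hdvd
    have hdpos : 0 < d := by linarith
    have h1 : 0 ≤ p * (2 * c - n) - (p - 2) * n * d := by
      by_contra hneg
      rw [not_le] at hneg
      have := mul_neg_of_pos_of_neg hdpos hneg
      linarith
    have h4 : (p - 2) * n * 3 ≤ (p - 2) * n * d := by
      apply mul_le_mul_of_nonneg_left _ hp2n.le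
      linarith
    have h5 : p * (2 * c - n) ≤ p * (n - 2) := by
      apply mul_le_mul_of_nonneg_left _ (by linarith)
      linarith
    nlinarith
  · -- `d ≤ -p`
    have h1 : p * (2 * c - n) - (p - 2) * n * d ≤ 0 := by
      by_contra hpos
      rw [not_le] at hpos
      have := mul_neg_of_neg_of_pos hd0 hpos
      linarith
    have h4 : (p - 2) * n * d < 0 := mul_neg_of_pos_of_neg hp2n hd0
    have h5 : 0 ≤ p * (2 * c - n) := by
      apply mul_nonneg <;> linarith
    linarith

theorem fin_contra {p : ℕ} (hp : p.Prime) (hp3 : 3 ≤ p) (hpn : p ∣ n) (h : Hyp n X Y k l m) (hlm : l = m)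
    (hXinv : PInv p X) (hX : X.Nonempty) (hY : Y.Nonempty) (hY' : (Yᶜ).Nonempty)
    (hdiv : (p : ℤ) ∣ (k : ℤ) - l) : False := by
  classical
  subst hlm
  set a := X.card with ha
  set c := Y.card with hc
  set P := univ.filter (fun t : ZMod n => p • t = 0) with hPdef
  have hPcard : P.card = p := card_P hp hpn
  obtain ⟨hk, h2, h3⟩ := DHBPAR.par h
  have h0P : (0 : ZMod n) ∈ P := by
    rw [hPdef, Finset.mem_filter]; exact ⟨Finset.mem_univ _, smul_zero _⟩
  -- (S1) `rep X X g = a` for `g ∈ P`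
  have hrep : ∀ g ∈ P, rep X X g = a := by
    intro g hg
    rw [rep_eq_card]
    congr 1
    apply Finset.filter_true_of_mem
    intro s hs
    have : g - s = -s + g := by ring
    rw [this]
    exact hXinv _ (h.neg_mem s hs) g (Finset.mem_filter.mp hg).2
  -- (S2) `a + dif Y Y g = l` for `g ∈ P ∖ 0`
  have hdif : ∀ g ∈ P, g ≠ 0 → a + dif Y Y g = l := by
    intro g hg hg0
    have := h.E1 g
    rw [hrep g hg, if_neg hg0, ite_self] at this
    exact this
  -- `k > l`
  have hkl : l < k := by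
    obtain ⟨i, hi⟩ := hX
    have hi0 : i ≠ 0 := by
      rintro rfl
      exact h.zero_notMem hi
    have hE := h.E1 i
    rw [if_neg hi0, if_pos hi] at hE
    have h1 : rep X X i + 1 ≤ a := by
      rw [rep_eq_card]
      have hss : X.filter (fun s => i - s ∈ X) ⊂ X := by
        rw [Finset.ssubset_iff_of_subset (Finset.filter_subset _ _)]
        refine ⟨i, hi, ?_⟩
        rw [Finset.mem_filter, sub_self]
        exact fun hh => h.zero_notMem hh.2
      exact Finset.card_lt_card hss
    have h2' : dif Y Y i ≤ c := by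
      rw [dif_eq_card]
      exact Finset.card_le_card (Finset.filter_subset _ _)
    omega
  -- the fibres of `u ↦ p • u`
  set W := (univ : Finset (ZMod n)).image (fun u => p • u) with hWdef
  set mW : ZMod n → ℕ := fun w => (Y.filter (fun u => p • u = w)).card with hmW
  have hfibre : ∀ w ∈ W, (univ.filter (fun u : ZMod n => p • u = w)).card = p := by
    intro w hw
    rw [hWdef, Finset.mem_image] at hw
    obtain ⟨u₀, -, rfl⟩ := hw
    have : univ.filter (fun u : ZMod n => p • u = p • u₀) = P.image (fun t => u₀ + t) := by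
      ext u
      rw [Finset.mem_filter, Finset.mem_image]
      constructor
      · rintro ⟨_, hu⟩
        refine ⟨u - u₀, ?_, by abel⟩
        rw [hPdef, Finset.mem_filter]
        exact ⟨Finset.mem_univ _, by rw [smul_sub, hu, sub_self]⟩
      · rintro ⟨t, ht, rfl⟩
        rw [hPdef, Finset.mem_filter] at ht
        exact ⟨Finset.mem_univ _, by rw [smul_add, ht.2, add_zero]⟩
    rw [this, Finset.card_image_of_injective _ (add_right_injective u₀), hPcard]
  have hWp : W.card * p = n := by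
    have h1 : (univ : Finset (ZMod n)).card =
        ∑ w ∈ W, (univ.filter (fun u : ZMod n => p • u = w)).card :=
      Finset.card_eq_sum_card_fiberwise (f := fun u : ZMod n => p • u) (s := univ) (t := W)
        (fun u _ => by
          rw [hWdef, Finset.mem_coe, Finset.mem_image]; exact ⟨u, Finset.mem_univ _, rfl⟩)
    rw [Finset.card_univ, ZMod.card, Finset.sum_congr rfl hfibre, Finset.sum_const,
      smul_eq_mul] at h1
    exact h1.symm
  have hsum1 : ∑ w ∈ W, mW w = c :=
    (Finset.card_eq_sum_card_fiberwise (f := fun u : ZMod n => p • u) (s := Y) (t := W)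
      (fun u _ => by
        rw [hWdef, Finset.mem_coe, Finset.mem_image]; exact ⟨u, Finset.mem_univ _, rfl⟩)).symm
  -- pairs of `Y` inside cosets
  have hsum2 : ∑ w ∈ W, mW w ^ 2 =
      ((Y ×ˢ Y).filter (fun q => p • q.1 = p • q.2)).card := by
    rw [Finset.card_eq_sum_card_fiberwise (f := fun q : ZMod n × ZMod n => p • q.1)
      (s := (Y ×ˢ Y).filter (fun q => p • q.1 = p • q.2)) (t := W)
      (fun q _ => by
        rw [hWdef, Finset.mem_coe, Finset.mem_image]; exact ⟨q.1, Finset.mem_univ _, rfl⟩)]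
    refine Finset.sum_congr rfl (fun w _ => ?_)
    have : ((Y ×ˢ Y).filter (fun q => p • q.1 = p • q.2)).filter (fun q => p • q.1 = w) =
        (Y.filter (fun u => p • u = w)) ×ˢ (Y.filter (fun u => p • u = w)) := by
      ext q
      simp only [Finset.mem_filter, Finset.mem_product]
      constructor
      · rintro ⟨⟨⟨h1, h2⟩, h3⟩, h4⟩
        exact ⟨⟨h1, h4⟩, ⟨h2, by rw [← h3, h4]⟩⟩
      · rintro ⟨⟨h1, h4⟩, ⟨h2, h5⟩⟩
        exact ⟨⟨⟨h1, h2⟩, by rw [h4, h5]⟩, h4⟩
    rw [this, Finset.card_product, _root_.sq]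
  have hsum3 : ((Y ×ˢ Y).filter (fun q => p • q.1 = p • q.2)).card = ∑ g ∈ P, dif Y Y g := by
    rw [Finset.card_eq_sum_card_fiberwise (f := fun q : ZMod n × ZMod n => q.2 - q.1)
      (s := (Y ×ˢ Y).filter (fun q => p • q.1 = p • q.2)) (t := P)
      (fun q hq => by
        rw [Finset.mem_coe, Finset.mem_filter] at hq
        rw [hPdef, Finset.mem_coe, Finset.mem_filter]
        exact ⟨Finset.mem_univ _, by rw [smul_sub, hq.2, sub_self]⟩)]
    refine Finset.sum_congr rfl (fun g hg => ?_)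
    rw [hPdef, Finset.mem_filter] at hg
    unfold dif
    congr 1
    ext q
    simp only [Finset.mem_filter, Finset.mem_product]
    constructor
    · rintro ⟨⟨hq, _⟩, hq3⟩
      exact ⟨hq, hq3⟩
    · rintro ⟨hq, hq3⟩
      refine ⟨⟨hq, ?_⟩, hq3⟩
      have : q.2 = q.1 + g := by rw [← hq3]; ring
      rw [this, smul_add, hg.2, add_zero]
  have hsum4 : ∑ g ∈ P, dif Y Y g + (p - 1) * a = c + (p - 1) * l := by
    rw [← Finset.add_sum_erase P _ h0P, DHBPAR.dif_self_zero]
    have h1 : ∑ g ∈ P.erase 0, (a + dif Y Y g) = ∑ g ∈ P.erase 0, l := by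
      refine Finset.sum_congr rfl (fun g hg => ?_)
      rw [Finset.mem_erase] at hg
      exact hdif g hg.2 hg.1
    rw [Finset.sum_add_distrib, Finset.sum_const, Finset.sum_const, Finset.card_erase_of_mem h0P,
      hPcard, smul_eq_mul, smul_eq_mul] at h1
    rw [← hc]
    linarith
  -- `a ≤ l`
  have hla : a ≤ l := by
    -- a point of `P ∖ 0`
    have hex : ∃ g ∈ P, g ≠ 0 := by
      by_contra hno
      have hsub : P ⊆ {0} := by
        intro g hg
        rw [Finset.mem_singleton]
        by_contra hg0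
        exact hno ⟨g, hg, hg0⟩
      have := Finset.card_le_card hsub
      rw [hPcard, Finset.card_singleton] at this
      omega
    obtain ⟨g, hg, hg0⟩ := hex
    have := hdif g hg hg0
    omega
  -- Cauchy–Schwarz
  have hCS : c ^ 2 ≤ W.card * ∑ w ∈ W, mW w ^ 2 := by
    rw [← hsum1]
    exact sq_sum_le_card_mul_sum_sq
  -- cardinalities
  have ha1 : 1 ≤ a := Finset.card_pos.mpr hX
  have hc1 : 1 ≤ c := Finset.card_pos.mpr hY
  have hcn : c + 1 ≤ n := by
    have h1 : c + (Yᶜ).card = n := by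
      rw [hc, Finset.card_add_card_compl, ZMod.card]
    have h2' : 1 ≤ (Yᶜ).card := Finset.card_pos.mpr hY'
    omega
  -- `p ∣ a - c`
  have hd2 : ((a : ℤ) - c) ^ 2 = k - l := by
    have h3' : (a : ℤ) ^ 2 + (c : ℤ) ^ 2 + l * (a + 1) = k + l * a + l * n := by exact_mod_cast h3
    have h2' : 2 * (a : ℤ) * c + l * c = l * c + l * n := by exact_mod_cast h2
    have hk' : (a : ℤ) + c = k := by exact_mod_cast hk
    nlinarith
  have hpd : (p : ℤ) ∣ (a : ℤ) - c := by
    have : (p : ℤ) ∣ ((a : ℤ) - c) ^ 2 := by rw [hd2]; exact hdiv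
    exact Int.Prime.dvd_pow' hp this
  have hdne : (a : ℤ) - c ≠ 0 := by
    intro h0
    rw [h0] at hd2
    have : (l : ℤ) < k := by exact_mod_cast hkl
    nlinarith
  have hpabs : (p : ℤ) ≤ |(a : ℤ) - c| := by
    have h1 : (p : ℤ) ∣ |(a : ℤ) - c| := (dvd_abs _ _).mpr hpd
    exact Int.le_of_dvd (abs_pos.mpr hdne) h1
  -- assemble
  have hCSZ : (p : ℤ) * (c : ℤ) ^ 2 ≤ n * c + (p - 1) * (l * n - a * n) := by
    have e1 : (c : ℤ) ^ 2 ≤ W.card * ∑ w ∈ W, (mW w : ℤ) ^ 2 := by exact_mod_cast hCS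
    have e2 : (∑ w ∈ W, (mW w : ℤ) ^ 2) + (p - 1) * a = c + (p - 1) * l := by
      have := hsum4
      rw [← hsum3, ← hsum2] at this
      have hp1 : 1 ≤ p := hp.pos
      zify [hp1] at this
      exact this
    have e3 : (W.card : ℤ) * p = n := by exact_mod_cast hWp
    have hWnn : (0 : ℤ) ≤ W.card := Int.natCast_nonneg _
    have hpnn : (0 : ℤ) ≤ p := Int.natCast_nonneg _
    set S2 : ℤ := ∑ w ∈ W, (mW w : ℤ) ^ 2 with hS2
    have e4 : (p : ℤ) * (c : ℤ) ^ 2 ≤ p * (W.card * S2) := mul_le_mul_of_nonneg_left e1 hpnn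
    have e5 : (p : ℤ) * (W.card * S2) = n * S2 := by rw [← e3]; ring
    have e6 : S2 = c + (p - 1) * l - (p - 1) * a := by linarith
    rw [e5, e6] at e4
    linarith
  exact arith a c n p k l (by exact_mod_cast hp3) (by exact_mod_cast ha1) (by exact_mod_cast hc1)
    (by exact_mod_cast hcn) (by exact_mod_cast hk)
    (by
      have h2' : 2 * (a : ℤ) * c + l * c = l * c + l * n := by exact_mod_cast h2
      linarith)
    (by
      have h3' : (a : ℤ) ^ 2 + (c : ℤ) ^ 2 + l * (a + 1) = k + l * a + l * n := by exact_mod_cast h3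
      linarith)
    (by exact_mod_cast hkl) (by exact_mod_cast hla) hCSZ hpabs

end Cfsg.Agent.Lib.Helper20.DHBFIN
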