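import Cfsg.Agent.Lib.Helper2.EQDefs

/-!
# EQ leaf R4, core (planner helper2): the multiset of torus weights on `C_M(U)` is stable under
the Weyl group, from the leaves R1, R2, R3 (as explicit hypotheses).
-/

set_option autoImplicit false

namespace Cfsg.Agent.Lib.Helper20.EQ

open Matrix Module Cfsg.Agent.Lib.Helper16.SLMin Cfsg.Agent.Lib.Helper16.SLMinSpine
  Cfsg.Agent.Lib.Helper2.EQ

section R

variable {F : Type*} [Field F] [Fintype F] {M : Type*} [AddCommGroup M]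
  [Module ℂ M] [FiniteDimensional ℂ M]

variable {N : ℕ}

/-- `permTor` is multiplicative -/
theorem permTor_mul {m : ℕ} (σ τ : Equiv.Perm (Fin m)) (t : Tor m F) :
    permTor (σ * τ) t = permTor σ (permTor τ t) := by
  apply Subtype.ext
  funext i
  show (t : Fin m → Fˣ) ((σ * τ)⁻¹ i) = (t : Fin m → Fˣ) (τ⁻¹ (σ⁻¹ i))
  rw [_root_.mul_inv_rev]
  rfl

/-- `permTor 1` is the identity -/
theorem permTor_one {m : ℕ} (t : Tor m F) : permTor (1 : Equiv.Perm (Fin m)) t = t := by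
  apply Subtype.ext
  funext i
  show (t : Fin m → Fˣ) ((1 : Equiv.Perm (Fin m))⁻¹ i) = (t : Fin m → Fˣ) i
  rw [inv_one]
  rfl

/-- composition of characters with `permTor` -/
theorem comp_permTor_mul {m : ℕ} (θ : Tor m F →* ℂˣ) (σ τ : Equiv.Perm (Fin m)) :
    θ.comp (permTor (σ * τ)).toMonoidHom =
      (θ.comp (permTor σ).toMonoidHom).comp (permTor τ).toMonoidHom := by
  apply MonoidHom.ext
  intro t
  show θ (permTor (σ * τ) t) = θ (permTor σ (permTor τ t))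
  rw [permTor_mul]

/-- composition of characters with `permTor 1` -/
theorem comp_permTor_one {m : ℕ} (θ : Tor m F →* ℂˣ) :
    θ.comp (permTor (1 : Equiv.Perm (Fin m))).toMonoidHom = θ := by
  apply MonoidHom.ext
  intro t
  show θ (permTor 1 t) = θ t
  rw [permTor_one]

/-- one simple reflection: an inequality (the Hecke operator is injective) -/
theorem finrank_wtT_le_of (ρ : Representation ℂ (SpecialLinearGroup (Fin (N + 1)) F) M)
    (hR1 : ∀ (i : Fin N) {x : M}, x ∈ Cfix ρ → Ti ρ i x ∈ Cfix ρ)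
    (hR2 : ∀ (i : Fin N) (θ : Tor (N + 1) F →* ℂˣ) {x : M}, x ∈ wtT ρ θ →
      Ti ρ i x ∈ wtT ρ (θ.comp (permTor (Equiv.swap i.castSucc i.succ)).toMonoidHom))
    (hR3 : ∀ (i : Fin N) (θ : Tor (N + 1) F →* ℂˣ) {x : M}, x ∈ Cfix ρ ⊓ wtT ρ θ →
      ∃ γ : ℂ, Ti ρ i (Ti ρ i x) =
        (((θ (hc i.castSucc i.succ (-1)) : ℂˣ) : ℂ) * (Fintype.card F : ℂ)⁻¹) • x +
          γ • Ti ρ i x)
    (i : Fin N) (θ : Tor (N + 1) F →* ℂˣ) :
    finrank ℂ ↥(Cfix ρ ⊓ wtT ρ θ) ≤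
      finrank ℂ ↥(Cfix ρ ⊓
        wtT ρ (θ.comp (permTor (Equiv.swap i.castSucc i.succ)).toMonoidHom)) := by
  have hmap : ∀ x ∈ Cfix ρ ⊓ wtT ρ θ, Ti ρ i x ∈ Cfix ρ ⊓
      wtT ρ (θ.comp (permTor (Equiv.swap i.castSucc i.succ)).toMonoidHom) :=
    fun x hx => ⟨hR1 i hx.1, hR2 i θ hx.2⟩
  apply LinearMap.finrank_le_finrank_of_injective (f := (Ti ρ i).restrict hmap)
  rw [← LinearMap.ker_eq_bot, LinearMap.ker_eq_bot']
  intro x hx
  have h0 : Ti ρ i (x : M) = 0 := congrArg Subtype.val hx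
  obtain ⟨γ, hγ⟩ := hR3 i θ x.2
  rw [h0, map_zero, smul_zero, add_zero] at hγ
  have hc0 : ((θ (hc i.castSucc i.succ (-1)) : ℂˣ) : ℂ) * (Fintype.card F : ℂ)⁻¹ ≠ 0 :=
    mul_ne_zero (Units.ne_zero _) (inv_ne_zero (Nat.cast_ne_zero.2 Fintype.card_ne_zero))
  have h1 := (smul_eq_zero.1 hγ.symm).resolve_left hc0
  exact Subtype.ext h1

/-- one simple reflection: equality -/
theorem finrank_wtT_swap_of (ρ : Representation ℂ (SpecialLinearGroup (Fin (N + 1)) F) M)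
    (hR1 : ∀ (i : Fin N) {x : M}, x ∈ Cfix ρ → Ti ρ i x ∈ Cfix ρ)
    (hR2 : ∀ (i : Fin N) (θ : Tor (N + 1) F →* ℂˣ) {x : M}, x ∈ wtT ρ θ →
      Ti ρ i x ∈ wtT ρ (θ.comp (permTor (Equiv.swap i.castSucc i.succ)).toMonoidHom))
    (hR3 : ∀ (i : Fin N) (θ : Tor (N + 1) F →* ℂˣ) {x : M}, x ∈ Cfix ρ ⊓ wtT ρ θ →
      ∃ γ : ℂ, Ti ρ i (Ti ρ i x) =
        (((θ (hc i.castSucc i.succ (-1)) : ℂˣ) : ℂ) * (Fintype.card F : ℂ)⁻¹) • x +
          γ • Ti ρ i x)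
    (i : Fin N) (θ : Tor (N + 1) F →* ℂˣ) :
    finrank ℂ ↥(Cfix ρ ⊓
        wtT ρ (θ.comp (permTor (Equiv.swap i.castSucc i.succ)).toMonoidHom)) =
      finrank ℂ ↥(Cfix ρ ⊓ wtT ρ θ) := by
  apply le_antisymm
  · have h1 := finrank_wtT_le_of ρ hR1 hR2 hR3 i
      (θ.comp (permTor (Equiv.swap i.castSucc i.succ)).toMonoidHom)
    rw [← comp_permTor_mul, Equiv.swap_mul_self, comp_permTor_one] at h1
    exact h1
  · exact finrank_wtT_le_of ρ hR1 hR2 hR3 i θ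

/-- R4 from R1, R2, R3 -/
theorem finrank_wtT_perm_of (ρ : Representation ℂ (SpecialLinearGroup (Fin (N + 1)) F) M)
    (hR1 : ∀ (i : Fin N) {x : M}, x ∈ Cfix ρ → Ti ρ i x ∈ Cfix ρ)
    (hR2 : ∀ (i : Fin N) (θ : Tor (N + 1) F →* ℂˣ) {x : M}, x ∈ wtT ρ θ →
      Ti ρ i x ∈ wtT ρ (θ.comp (permTor (Equiv.swap i.castSucc i.succ)).toMonoidHom))
    (hR3 : ∀ (i : Fin N) (θ : Tor (N + 1) F →* ℂˣ) {x : M}, x ∈ Cfix ρ ⊓ wtT ρ θ →
      ∃ γ : ℂ, Ti ρ i (Ti ρ i x) =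
        (((θ (hc i.castSucc i.succ (-1)) : ℂˣ) : ℂ) * (Fintype.card F : ℂ)⁻¹) • x +
          γ • Ti ρ i x)
    (θ : Tor (N + 1) F →* ℂˣ) (σ : Equiv.Perm (Fin (N + 1))) :
    finrank ℂ ↥(Cfix ρ ⊓ wtT ρ (θ.comp (permTor σ).toMonoidHom)) =
      finrank ℂ ↥(Cfix ρ ⊓ wtT ρ θ) := by
  have hmem : σ ∈ Submonoid.closure
      (Set.range fun i : Fin N => Equiv.swap i.castSucc i.succ) := by
    rw [Equiv.Perm.mclosure_swap_castSucc_succ]
    trivial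
  revert θ
  induction hmem using Submonoid.closure_induction with
  | mem x hx =>
    obtain ⟨i, rfl⟩ := hx
    intro θ
    exact finrank_wtT_swap_of ρ hR1 hR2 hR3 i θ
  | one =>
    intro θ
    rw [comp_permTor_one]
  | mul x y _ _ ihx ihy =>
    intro θ
    rw [comp_permTor_mul, ihy, ihx]

end R

end Cfsg.Agent.Lib.Helper20.EQ
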