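import Mathlib

/-!
Helper lemmas (helper20): a commutative group `V` with commuting automorphisms
`α, ζ` of order dividing `p` and `β` with `α β = β α ζ`, `ζ` fixed point free:
`|C_V(α)| ^ p ≤ |V|` and `C_V(α) ≠ 1` (weight-space decomposition for `C_p × C_p`).
-/

set_option autoImplicit false

namespace Cfsg.Agent.Lib.Helper20.ESMod

variable {V : Type*} [CommGroup V]

/-- the norm operator `v ↦ ∏_{k<p} a^k v` -/
def nrm (a : MulAut V) (p : ℕ) : V →* V where
  toFun v := ∏ k ∈ Finset.range p, (a ^ k) v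
  map_one' := by simp
  map_mul' v w := by simp [Finset.prod_mul_distrib]

theorem nrm_apply (a : MulAut V) (p : ℕ) (v : V) :
    nrm a p v = ∏ k ∈ Finset.range p, (a ^ k) v := rfl

theorem nrm_fixed {a : MulAut V} {p : ℕ} (ha : a ^ p = 1) (v : V) :
    a (nrm a p v) = nrm a p v := by
  rw [nrm_apply, map_prod]
  have hk : ∀ k, a ((a ^ k) v) = (a ^ (k + 1)) v := by
    intro k; rw [pow_succ']; rfl
  simp only [hk]
  have h1 := Finset.prod_range_succ' (fun k => (a ^ k) v) p
  have h2 := Finset.prod_range_succ (fun k => (a ^ k) v) p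
  rw [h2] at h1
  simp only [pow_zero, ha, MulAut.one_apply] at h1
  exact (mul_right_cancel h1).symm

theorem pow_apply_of_fixed {a : MulAut V} {v : V} (h : a v = v) (k : ℕ) : (a ^ k) v = v := by
  induction k with
  | zero => simp
  | succ k ih => rw [pow_succ, MulAut.mul_apply, h, ih]

theorem nrm_of_fixed {a : MulAut V} {v : V} (h : a v = v) (p : ℕ) : nrm a p v = v ^ p := by
  rw [nrm_apply]
  simp only [pow_apply_of_fixed h]
  rw [Finset.prod_const, Finset.card_range]

theorem nrm_comm {a b : MulAut V} (hab : Commute a b) (p : ℕ) (v : V) :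
    b (nrm a p v) = nrm a p (b v) := by
  rw [nrm_apply, nrm_apply, map_prod]
  apply Finset.prod_congr rfl
  intro k _
  have := (hab.pow_left k).eq
  calc b ((a ^ k) v) = (b * a ^ k) v := rfl
    _ = (a ^ k * b) v := by rw [this]
    _ = (a ^ k) (b v) := rfl

/-- fixed points -/
def fix (a : MulAut V) : Subgroup V where
  carrier := {v | a v = v}
  mul_mem' := by
    intro x y hx hy
    simp only [Set.mem_setOf_eq] at *
    rw [map_mul, hx, hy]
  one_mem' := map_one a
  inv_mem' := by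
    intro x hx
    simp only [Set.mem_setOf_eq] at *
    rw [map_inv, hx]

theorem mem_fix {a : MulAut V} {v : V} : v ∈ fix a ↔ a v = v := Iff.rfl

theorem pow_fix {p : ℕ} [hp : Fact p.Prime] {g : MulAut V} (hg : g ^ p = 1) {a : ℕ}
    (ha0 : 0 < a) (hap : a < p) {t : V} (ht : (g ^ a) t = t) : g t = t := by
  have hcop : Nat.Coprime a p := by
    rw [Nat.coprime_comm]
    exact (Nat.Prime.coprime_iff_not_dvd hp.1).mpr (Nat.not_dvd_of_pos_of_lt ha0 hap)
  obtain ⟨m, -, hm⟩ := Nat.exists_mul_mod_eq_one_of_coprime hcop hp.1.one_lt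
  have h1 : g ^ (a * m) = g := by
    rw [pow_eq_pow_mod (a * m) hg, hm, pow_one]
  have h2 : ((g ^ a) ^ m) t = t := pow_apply_of_fixed ht m
  rw [← pow_mul, h1] at h2
  exact h2

/-- independence of the fixed point subgroups -/
theorem prod_card_fix_le [Finite V] {p : ℕ} (hV : ∀ v : V, v ^ p = 1 → v = 1)
    (γ : Fin p → MulAut V) (hcomm : ∀ i j, Commute (γ i) (γ j)) (hpow : ∀ i, γ i ^ p = 1)
    (hdisj : ∀ i j, i ≠ j → ∀ t, γ i t = t → γ j t = t → t = 1) :
    ∏ i, Nat.card (fix (γ i)) ≤ Nat.card V := by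
  rw [← Nat.card_pi]
  let f : (∀ i, fix (γ i)) → V := fun u => ∏ i, (u i : V)
  apply Nat.card_le_card_of_injective f
  intro u u' huu
  funext j
  have hd : ∀ i, ((u i : V) / (u' i : V)) ∈ fix (γ i) := fun i =>
    (fix (γ i)).div_mem (u i).2 (u' i).2
  have hprod : ∏ i, ((u i : V) / (u' i : V)) = 1 := by
    rw [Finset.prod_div_distrib]
    have : (∏ i, (u i : V)) = ∏ i, (u' i : V) := huu
    rw [this, div_self']
  have h2 := congrArg (nrm (γ j) p) hprod
  rw [map_prod, map_one] at h2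
  rw [Finset.prod_eq_single j] at h2
  · rw [nrm_of_fixed (hd j)] at h2
    have := hV _ h2
    apply Subtype.ext
    exact div_eq_one.mp this
  · intro i _ hij
    apply hdisj i j hij
    · rw [nrm_comm (hcomm j i), (hd i)]
    · exact nrm_fixed (hpow j) _
  · intro hj
    exact absurd (Finset.mem_univ j) hj

section main

variable {p : ℕ} [hp : Fact p.Prime] {α β ζ : MulAut V}

theorem rel_pow (hβζ : Commute β ζ) (hrel : α * β = β * α * ζ) (i : ℕ) :
    α * β ^ i = β ^ i * (α * ζ ^ i) := by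
  induction i with
  | zero => simp
  | succ i ih =>
    calc α * β ^ (i + 1) = (α * β ^ i) * β := by rw [pow_succ, mul_assoc]
      _ = β ^ i * (α * ζ ^ i) * β := by rw [ih]
      _ = β ^ i * α * (ζ ^ i * β) := by simp only [mul_assoc]
      _ = β ^ i * α * (β * ζ ^ i) := by rw [(hβζ.pow_right i).eq]
      _ = β ^ i * (α * β) * ζ ^ i := by simp only [mul_assoc]
      _ = β ^ i * (β * α * ζ) * ζ ^ i := by rw [hrel]
      _ = (β ^ i * β) * (α * (ζ * ζ ^ i)) := by simp only [mul_assoc]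
      _ = β ^ (i + 1) * (α * ζ ^ (i + 1)) := by rw [← pow_succ, ← pow_succ']

theorem card_fix_conj [Finite V] (hβζ : Commute β ζ) (hrel : α * β = β * α * ζ) (i : ℕ) :
    Nat.card (fix (α * ζ ^ i)) = Nat.card (fix α) := by
  have hr := rel_pow hβζ hrel i
  apply Nat.card_congr
  refine ⟨fun v => ⟨(β ^ i) v, ?_⟩, fun v => ⟨(β ^ i)⁻¹ v, ?_⟩, ?_, ?_⟩
  · rw [mem_fix]
    calc α ((β ^ i) v) = (α * β ^ i) v := rfl
      _ = (β ^ i * (α * ζ ^ i)) v := by rw [hr]
      _ = (β ^ i) ((α * ζ ^ i) v) := rfl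
      _ = (β ^ i) v := by rw [mem_fix.mp v.2]
  · rw [mem_fix]
    have h1 : α * ζ ^ i = (β ^ i)⁻¹ * α * β ^ i := by
      rw [mul_assoc, hr, inv_mul_cancel_left]
    calc (α * ζ ^ i) ((β ^ i)⁻¹ v) = ((β ^ i)⁻¹ * α * β ^ i) ((β ^ i)⁻¹ v) := by rw [h1]
      _ = (β ^ i)⁻¹ (α ((β ^ i) ((β ^ i)⁻¹ (v : V)))) := rfl
      _ = (β ^ i)⁻¹ (α (v : V)) := by rw [MulAut.apply_inv_self]
      _ = (β ^ i)⁻¹ (v : V) := by rw [mem_fix.mp v.2]
  · intro v
    apply Subtype.ext
    exact MulAut.inv_apply_self _ _ _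
  · intro v
    apply Subtype.ext
    exact MulAut.apply_inv_self _ _ _

omit hp in
theorem gam_pow (hαζ : Commute α ζ) (hα : α ^ p = 1) (hζ : ζ ^ p = 1) (i : ℕ) :
    (α * ζ ^ i) ^ p = 1 := by
  rw [(hαζ.pow_right i).mul_pow, hα, ← pow_mul, mul_comm, pow_mul, hζ, one_pow, one_mul]

theorem aux_disj (hζ : ζ ^ p = 1) (hfpf : ∀ v : V, ζ v = v → v = 1) {i j : ℕ} (hij : i < j)
    (hj : j < p) {t : V} (h : (ζ ^ i) t = (ζ ^ j) t) : t = 1 := by
  have h1 : ζ ^ j = ζ ^ i * ζ ^ (j - i) := by rw [← pow_add]; congr 1; omega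
  rw [h1, MulAut.mul_apply] at h
  have h2 : (ζ ^ (j - i)) t = t := ((ζ ^ i).injective h).symm
  apply hfpf
  exact pow_fix hζ (by omega) (by omega) h2

theorem card_pow_le [Finite V] (hV : ∀ v : V, v ^ p = 1 → v = 1) (hαζ : Commute α ζ)
    (hβζ : Commute β ζ) (hα : α ^ p = 1) (hζ : ζ ^ p = 1) (hrel : α * β = β * α * ζ)
    (hfpf : ∀ v : V, ζ v = v → v = 1) : Nat.card (fix α) ^ p ≤ Nat.card V := by
  have hcz : ∀ i j : ℕ, Commute (α * ζ ^ i) (α * ζ ^ j) := by
    intro i j
    have h1 : Commute α (α * ζ ^ j) := (Commute.refl α).mul_right (hαζ.pow_right j)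
    have h2 : Commute (ζ ^ i) (α * ζ ^ j) :=
      ((hαζ.pow_right i).symm).mul_right ((Commute.refl ζ).pow_pow i j)
    exact h1.mul_left h2
  have key := prod_card_fix_le (p := p) hV (fun i : Fin p => α * ζ ^ (i : ℕ))
    (fun i j => hcz i j) (fun i => gam_pow hαζ hα hζ i) (by
      intro i j hij t hi hj
      have hi' : α ((ζ ^ (i : ℕ)) t) = t := hi
      have hj' : α ((ζ ^ (j : ℕ)) t) = t := hj
      have heq : (ζ ^ (i : ℕ)) t = (ζ ^ (j : ℕ)) t := α.injective (hi'.trans hj'.symm)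
      have hne : (i : ℕ) ≠ (j : ℕ) := fun h => hij (Fin.ext h)
      rcases lt_or_gt_of_ne hne with hlt | hlt
      · exact aux_disj hζ hfpf hlt j.2 heq
      · exact aux_disj hζ hfpf hlt i.2 heq.symm)
  simp only [card_fix_conj hβζ hrel] at key
  rw [Finset.prod_const, Finset.card_univ, Fintype.card_fin] at key
  exact key

theorem fix_ne_bot [Finite V] [Nontrivial V] (hV : ∀ v : V, v ^ p = 1 → v = 1)
    (hαζ : Commute α ζ) (hβζ : Commute β ζ) (hα : α ^ p = 1) (hζ : ζ ^ p = 1)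
    (hrel : α * β = β * α * ζ) (hfpf : ∀ v : V, ζ v = v → v = 1) : fix α ≠ ⊥ := by
  intro hbot
  have hfix : ∀ (i : ℕ) (v : V), (α * ζ ^ i) v = v → v = 1 := by
    intro i v hv
    have hr := rel_pow hβζ hrel i
    have h1 : (β ^ i) v ∈ fix α := by
      rw [mem_fix]
      calc α ((β ^ i) v) = (α * β ^ i) v := rfl
        _ = (β ^ i * (α * ζ ^ i)) v := by rw [hr]
        _ = (β ^ i) ((α * ζ ^ i) v) := rfl
        _ = (β ^ i) v := by rw [hv]
    rw [hbot, Subgroup.mem_bot] at h1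
    have : (β ^ i) v = (β ^ i) 1 := by rw [h1, map_one]
    exact (β ^ i).injective this
  obtain ⟨v, hv⟩ := exists_ne (1 : V)
  apply hv
  apply hV
  have h1 : ∏ i ∈ Finset.range p, nrm (α * ζ ^ i) p v = 1 := by
    apply Finset.prod_eq_one
    intro i _
    exact hfix i _ (nrm_fixed (gam_pow hαζ hα hζ i) v)
  have h2 : ∏ i ∈ Finset.range p, nrm (α * ζ ^ i) p v
      = ∏ a ∈ Finset.range p, (α ^ a) (nrm (ζ ^ a) p v) := by
    simp only [nrm_apply]
    rw [Finset.prod_comm]
    apply Finset.prod_congr rfl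
    intro a _
    rw [map_prod]
    apply Finset.prod_congr rfl
    intro i _
    rw [(hαζ.pow_right i).mul_pow, ← pow_mul, ← pow_mul, mul_comm a i]
    rfl
  rw [h2, Finset.prod_eq_single 0] at h1
  · rw [pow_zero, pow_zero, MulAut.one_apply, nrm_of_fixed (a := (1 : MulAut V)) (v := v) rfl] at h1
    exact h1
  · intro a ha ha0
    have hap : a < p := Finset.mem_range.mp ha
    have hzp : (ζ ^ a) ^ p = 1 := by rw [← pow_mul, mul_comm, pow_mul, hζ, one_pow]
    have h3 : (ζ ^ a) (nrm (ζ ^ a) p v) = nrm (ζ ^ a) p v := nrm_fixed hzp v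
    have h4 : ζ (nrm (ζ ^ a) p v) = nrm (ζ ^ a) p v :=
      pow_fix hζ (Nat.pos_of_ne_zero ha0) hap h3
    rw [hfpf _ h4, map_one]
  · intro h0
    exact absurd (Finset.mem_range.mpr hp.1.pos) h0

end main

/-- restriction of an action by automorphisms to an invariant subgroup -/
def restr {E : Type*} [Group E] (ρ : E →* MulAut V) (W : Subgroup V)
    (hW : ∀ e, ∀ v ∈ W, ρ e v ∈ W) : E →* MulAut W where
  toFun e :=
    { toFun := fun v => ⟨ρ e v, hW e v v.2⟩
      invFun := fun v => ⟨ρ e⁻¹ v, hW e⁻¹ v v.2⟩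
      left_inv := by
        intro v
        apply Subtype.ext
        show ρ e⁻¹ (ρ e v) = v
        rw [map_inv]; exact MulAut.inv_apply_self _ _ _
      right_inv := by
        intro v
        apply Subtype.ext
        show ρ e (ρ e⁻¹ v) = v
        rw [map_inv]; exact MulAut.apply_inv_self _ _ _
      map_mul' := by
        intro v w
        apply Subtype.ext
        show ρ e ((v : V) * (w : V)) = ρ e v * ρ e w
        exact map_mul _ _ _ }
  map_one' := by
    ext v
    show ρ 1 (v : V) = v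
    rw [map_one]; rfl
  map_mul' := by
    intro e e'
    ext v
    show ρ (e * e') (v : V) = ρ e (ρ e' v)
    rw [map_mul]; rfl

theorem restr_apply {E : Type*} [Group E] (ρ : E →* MulAut V) (W : Subgroup V)
    (hW : ∀ e, ∀ v ∈ W, ρ e v ∈ W) (e : E) (v : W) :
    ((restr ρ W hW e v : W) : V) = ρ e v := rfl

/-- a fixed point free automorphism of order dividing `p`: `|V| ≡ 1 mod p` -/
theorem card_modEq_one [Finite V] {p : ℕ} [hp : Fact p.Prime] {ζ : MulAut V} (hζ : ζ ^ p = 1)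
    (hfpf : ∀ v : V, ζ v = v → v = 1) : Nat.card V ≡ 1 [MOD p] := by
  classical
  have : Fintype V := Fintype.ofFinite V
  let f : Function.End V := fun v => ζ v
  have hfk : ∀ k : ℕ, ∀ v, (f ^ k) v = (ζ ^ k) v := by
    intro k
    induction k with
    | zero => intro v; rfl
    | succ k ih =>
      intro v
      rw [pow_succ, pow_succ]
      show (f ^ k) (f v) = (ζ ^ k) (ζ v)
      rw [ih]
  have hf : f ^ p ^ 1 = 1 := by
    funext v
    rw [pow_one, hfk, hζ]; rfl
  have h := Equiv.Perm.card_fixedPoints_modEq (p := p) (n := 1) hf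
  rw [Nat.card_eq_fintype_card]
  refine h.trans ?_
  have : Fintype.card (Function.fixedPoints f) = 1 := by
    rw [Fintype.card_eq_one_iff]
    refine ⟨⟨1, map_one ζ⟩, ?_⟩
    rintro ⟨v, hv⟩
    apply Subtype.ext
    exact hfpf v hv
  rw [this]

end Cfsg.Agent.Lib.Helper20.ESMod
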