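import Mathlib
import Cfsg.Agent.Lib.Helper20.ESDecomp
import Cfsg.Agent.Lib.Helper20.ESMod
import Cfsg.Agent.Lib.Helper11.UniqueSubgroup

/-!
Helper lemmas (helper20): a group with extraspecial-type data `ESData p E z` of order
`p ^ (2 w + 1)` acting on a nontrivial abelian `r`-group `V` (`r ≠ p`) with `z` fixed point
free: `|V| ≥ r ^ (n p ^ w)` where `n` is the order of `r` modulo `p`.
-/

set_option autoImplicit false
open scoped commutatorElement

namespace Cfsg.Agent.Lib.Helper20.ESFaith

open Cfsg.Agent.Lib.Helper20.ES Cfsg.Agent.Lib.Helper20.ESMod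

section structure_lemmas

variable {p : ℕ} {E : Type*} [Group E] {z : E}

theorem pow_p_eq_one_of_mem (h : ESData p E z) {c : E} (hc : c ∈ Subgroup.zpowers z) :
    c ^ p = 1 := by
  obtain ⟨k, hk⟩ := Subgroup.mem_zpowers_iff.mp hc
  rw [← hk, ← zpow_natCast, ← zpow_mul, mul_comm, zpow_mul, zpow_natCast, h.z_pow, one_zpow]

theorem mul_pow_odd [hp : Fact p.Prime] (h : ESData p E z) (hp2 : p ≠ 2) (a b : E) :
    (a * b) ^ p = a ^ p * b ^ p := by
  have hcmem : (a * b)⁻¹ * (b * a) ∈ Subgroup.zpowers z := by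
    have : (a * b)⁻¹ * (b * a) = ⁅b⁻¹, a⁻¹⁆ := by rw [commutatorElement_def]; group
    rw [this]; exact h.comm_mem _ _
  have hcc := h.zpowers_le_center hcmem
  have hrel : b * a = a * b * ((a * b)⁻¹ * (b * a)) := by group
  have hca : Commute ((a * b)⁻¹ * (b * a)) a := (Subgroup.mem_center_iff.mp hcc a).symm
  have hcb : Commute ((a * b)⁻¹ * (b * a)) b := (Subgroup.mem_center_iff.mp hcc b).symm
  have key := Cfsg.Agent.Lib.Helper11.mul_pow_of_commutator_central hrel hca hcb p
  have hcp := pow_p_eq_one_of_mem h hcmem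
  have hdvd : p ∣ p.choose 2 :=
    Nat.Prime.dvd_choose_self hp.1 (by norm_num) (lt_of_le_of_ne hp.1.two_le (Ne.symm hp2))
  obtain ⟨m, hm⟩ := hdvd
  rw [key, hm, pow_mul, hcp, one_pow, mul_one]

theorem mem_zpowers_two (h : ESData 2 E z) {u : E} (hu : u ∈ Subgroup.zpowers z) :
    u = 1 ∨ u = z := by
  have hz2 : z * z = 1 := by rw [← pow_two]; exact h.z_pow
  obtain ⟨k, rfl⟩ := Subgroup.mem_zpowers_iff.mp hu
  rcases Int.even_or_odd' k with ⟨m, rfl | rfl⟩
  · left
    rw [zpow_mul, zpow_two, hz2, one_zpow]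
  · right
    rw [zpow_add, zpow_mul, zpow_two, hz2, one_zpow, one_mul, zpow_one]

theorem exists_not_mem [hp : Fact p.Prime] [Finite E] (h : ESData p E z) {w : ℕ} (hw : 1 ≤ w)
    (hcard : Nat.card E = p ^ (2 * w + 1)) : ∃ x : E, x ∉ Subgroup.zpowers z := by
  by_contra hcon
  push Not at hcon
  have htop : Subgroup.zpowers z = ⊤ := (Subgroup.eq_top_iff' _).mpr hcon
  have h1 : Nat.card (Subgroup.zpowers z) = Nat.card E := by rw [htop, Subgroup.card_top]
  rw [h.card_zpowers, hcard] at h1
  have h2 : p ^ 1 < p ^ (2 * w + 1) := Nat.pow_lt_pow_right hp.1.one_lt (by omega)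
  rw [pow_one] at h2
  omega

theorem exists_noncentral_pow_eq_one [hp : Fact p.Prime] [Finite E] (h : ESData p E z) {w : ℕ}
    (hw : 1 ≤ w) (hcard : Nat.card E = p ^ (2 * w + 1)) :
    (∃ x : E, x ∉ Subgroup.zpowers z ∧ x ^ p = 1) ∨ (p = 2 ∧ w = 1) := by
  by_cases hp2 : p = 2
  · by_cases hw1 : w = 1
    · exact Or.inr ⟨hp2, hw1⟩
    left
    subst hp2
    have hw2 : 2 ≤ w := by omega
    obtain ⟨x, hx⟩ := exists_not_mem h hw hcard
    have hz2 : z * z = 1 := by rw [← pow_two]; exact h.z_pow
    rcases mem_zpowers_two h (h.pow_mem x) with hx2 | hx2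
    · exact ⟨x, hx, hx2⟩
    -- x ^ 2 = z
    have hx4 : x ^ 4 = 1 := by
      have : x ^ 4 = (x ^ 2) ^ 2 := by rw [← pow_mul]
      rw [this, hx2, pow_two, hz2]
    have hcx : Nat.card (Subgroup.zpowers x) ≤ 4 := by
      rw [Nat.card_zpowers]
      exact Nat.le_of_dvd (by norm_num) (orderOf_dvd_of_pow_eq_one hx4)
    have hK : 16 ≤ Nat.card (h.commHom x).ker := by
      have h1 := Subgroup.card_mul_index (h.commHom x).ker
      rw [Subgroup.index_ker] at h1
      have h2 : Nat.card (h.commHom x).range ≤ 2 := by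
        have : (h.commHom x).range ≤ Subgroup.zpowers z := by
          rintro _ ⟨b, rfl⟩
          exact h.comm_mem x b
        calc Nat.card (h.commHom x).range ≤ Nat.card (Subgroup.zpowers z) :=
              Subgroup.card_le_of_le this
          _ = 2 := h.card_zpowers
      have h3 : (2 : ℕ) ^ 5 ≤ 2 ^ (2 * w + 1) := Nat.pow_le_pow_right (by norm_num) (by omega)
      rw [hcard] at h1
      nlinarith
    have hex : ∃ y ∈ (h.commHom x).ker, y ∉ Subgroup.zpowers x := by
      by_contra hcon
      push Not at hcon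
      have : (h.commHom x).ker ≤ Subgroup.zpowers x := hcon
      have := Subgroup.card_le_of_le this
      omega
    obtain ⟨y, hyK, hyx⟩ := hex
    have hzx : Subgroup.zpowers z ≤ Subgroup.zpowers x := by
      rw [Subgroup.zpowers_le, ← hx2]
      exact Subgroup.pow_mem _ (Subgroup.mem_zpowers x) 2
    have hyz : y ∉ Subgroup.zpowers z := fun hh => hyx (hzx hh)
    have hxy : Commute x y := by
      have : ⁅x, y⁆ = 1 := hyK
      exact commutatorElement_eq_one_iff_commute.mp this
    rcases mem_zpowers_two h (h.pow_mem y) with hy2 | hy2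
    · exact ⟨y, hyz, hy2⟩
    · refine ⟨x * y, ?_, ?_⟩
      · intro hh
        apply hyx
        have : y = x⁻¹ * (x * y) := by group
        rw [this]
        exact Subgroup.mul_mem _ (Subgroup.inv_mem _ (Subgroup.mem_zpowers x)) (hzx hh)
      · rw [hxy.mul_pow, hx2, hy2, hz2]
  · left
    -- odd p: the p-th power map is a homomorphism
    let φ : E →* E :=
      { toFun := fun a => a ^ p
        map_one' := one_pow p
        map_mul' := fun a b => mul_pow_odd h hp2 a b }
    have hr : φ.range ≤ Subgroup.zpowers z := by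
      rintro _ ⟨b, rfl⟩
      exact h.pow_mem b
    have h1 := Subgroup.card_mul_index φ.ker
    rw [Subgroup.index_ker, hcard] at h1
    have h2 : Nat.card φ.range ≤ p := by
      calc Nat.card φ.range ≤ Nat.card (Subgroup.zpowers z) := Subgroup.card_le_of_le hr
        _ = p := h.card_zpowers
    by_contra hcon
    push Not at hcon
    have hle : φ.ker ≤ Subgroup.zpowers z := by
      intro x hx
      by_contra hxz
      exact hcon x hxz hx
    have h3 : Nat.card φ.ker ≤ p := by
      calc Nat.card φ.ker ≤ Nat.card (Subgroup.zpowers z) := Subgroup.card_le_of_le hle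
        _ = p := h.card_zpowers
    have h4 : p ^ 3 ≤ p ^ (2 * w + 1) := Nat.pow_le_pow_right hp.1.pos (by omega)
    have h5 : Nat.card φ.ker * Nat.card φ.range ≤ p * p := Nat.mul_le_mul h3 h2
    have h6 : p * p < p ^ 3 := by
      have := hp.1.two_le
      calc p * p = p ^ 2 := (pow_two p).symm
        _ < p ^ 3 := Nat.pow_lt_pow_right hp.1.one_lt (by norm_num)
    omega

end structure_lemmas

/-- automorphisms of a group of prime order commute -/
theorem aut_comm_of_card_prime {V : Type*} [CommGroup V] [Finite V] {r : ℕ} [hr : Fact r.Prime]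
    (hV : Nat.card V = r) (a b : MulAut V) (v : V) : a (b v) = b (a v) := by
  obtain ⟨g, hg⟩ : ∃ g : V, ∀ u : V, u ∈ Subgroup.zpowers g := by
    haveI : IsCyclic V := isCyclic_of_prime_card hV
    exact IsCyclic.exists_generator
  obtain ⟨i, hi⟩ := Subgroup.mem_zpowers_iff.mp (hg (a g))
  obtain ⟨j, hj⟩ := Subgroup.mem_zpowers_iff.mp (hg (b g))
  obtain ⟨k, hk⟩ := Subgroup.mem_zpowers_iff.mp (hg v)
  have h1 : a (b v) = ((g ^ i) ^ j) ^ k := by
    rw [← hk, map_zpow, map_zpow, ← hj, map_zpow, ← hi]
  have h2 : b (a v) = ((g ^ j) ^ i) ^ k := by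
    rw [← hk, map_zpow, map_zpow, ← hi, map_zpow, ← hj]
  have h3 : (g ^ i) ^ j = (g ^ j) ^ i := by rw [← zpow_mul, ← zpow_mul, mul_comm]
  rw [h1, h2, h3]

theorem main {p r : ℕ} [hp : Fact p.Prime] [hr : Fact r.Prime] (hpr : p ≠ r) (n : ℕ)
    (hmin : ∀ k : ℕ, 1 ≤ k → p ∣ r ^ k - 1 → n ≤ k) (hn : 1 ≤ n) :
    ∀ (w : ℕ) (E : Type*) [Group E] [Finite E] (V : Type*) [CommGroup V] [Finite V] (z : E)
      (_ : ESData p E z) (_ : Nat.card E = p ^ (2 * w + 1)) (ρ : E →* MulAut V)
      (_ : IsPGroup r V) (_ : ∀ v : V, ρ z v = v → v = 1) (_ : Nontrivial V),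
      r ^ (n * p ^ w) ≤ Nat.card V := by
  intro w
  induction w with
  | zero =>
    intro E _ _ V _ _ z h hcard ρ hV hfpf hnt
    obtain ⟨d, hd⟩ := hV.exists_card_eq
    have hζ : (ρ z) ^ p = 1 := by rw [← map_pow, h.z_pow, map_one]
    have hmod := card_modEq_one hζ hfpf
    rw [hd] at hmod
    have hd1 : 1 ≤ d := by
      rcases Nat.eq_zero_or_pos d with h0 | h0
      · exfalso
        rw [h0, pow_zero] at hd
        have := Finite.one_lt_card (α := V)
        omega
      · exact h0
    have hdvd : p ∣ r ^ d - 1 := by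
      have h1 : 1 ≤ r ^ d := Nat.one_le_pow _ _ hr.1.pos
      exact (Nat.modEq_iff_dvd' h1).mp hmod.symm
    have := hmin d hd1 hdvd
    rw [pow_zero, mul_one, hd]
    exact Nat.pow_le_pow_right hr.1.pos this
  | succ w ih =>
    intro E _ _ V _ _ z h hcard ρ hV hfpf hnt
    have hVp : ∀ v : V, v ^ p = 1 → v = 1 := by
      intro v hv
      obtain ⟨k, hk⟩ := hV v
      have h1 : orderOf v ∣ p := orderOf_dvd_of_pow_eq_one hv
      have h2 : orderOf v ∣ r ^ k := orderOf_dvd_of_pow_eq_one hk
      have hcop : Nat.Coprime p (r ^ k) :=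
        Nat.Coprime.pow_right k ((Nat.coprime_primes hp.1 hr.1).mpr hpr)
      have := Nat.eq_one_of_dvd_coprimes hcop h1 h2
      exact orderOf_eq_one_iff.mp this
    have hzc : ∀ g : E, Commute (ρ g) (ρ z) := by
      intro g
      have := Subgroup.mem_center_iff.mp h.z_central g
      show ρ g * ρ z = ρ z * ρ g
      rw [← map_mul, ← map_mul, this]
    have hζ : (ρ z) ^ p = 1 := by rw [← map_pow, h.z_pow, map_one]
    rcases exists_noncentral_pow_eq_one h (Nat.succ_le_succ (Nat.zero_le w)) hcard with
      ⟨x, hxz, hxp⟩ | ⟨hp2, hw1⟩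
    · -- general step
      have hxc : x ∉ Subgroup.center E := fun hh => hxz (h.center_le x hh)
      rw [Subgroup.mem_center_iff] at hxc
      push Not at hxc
      obtain ⟨d, hd⟩ := hxc
      have hxd : ⁅x, d⁆ ≠ 1 := by
        rw [Ne, commutatorElement_eq_one_iff_mul_comm]
        exact fun hh => hd hh.symm
      obtain ⟨j, hj⟩ := h.exists_pair hxd
      set y := d ^ j with hy
      have hC := h.esData_cent hj
      have hcC : Nat.card (ESData.cent x y) = p ^ (2 * w + 1) := by
        have h1 := h.card_eq_sq_mul_card_cent hj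
        rw [hcard] at h1
        have h2 : p ^ (2 * (w + 1) + 1) = p ^ 2 * p ^ (2 * w + 1) := by
          rw [← pow_add]; congr 1; omega
        rw [h2] at h1
        exact (Nat.eq_of_mul_eq_mul_left (pow_pos hp.1.pos 2) h1).symm
      have hα : (ρ x) ^ p = 1 := by rw [← map_pow, hxp, map_one]
      have hrel : ρ x * ρ y = ρ y * ρ x * ρ z := by
        rw [← map_mul, ← map_mul, ← map_mul]
        congr 1
        have h1 : x * y = ⁅x, y⁆ * (y * x) := by rw [commutatorElement_def]; group
        rw [h1, hj]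
        exact (Subgroup.mem_center_iff.mp h.z_central (y * x)).symm
      have hle := card_pow_le (p := p) hVp (hzc x) (hzc y) hα hζ hrel hfpf
      have hne := fix_ne_bot (p := p) hVp (hzc x) (hzc y) hα hζ hrel hfpf
      -- the restricted action of the centralizer on the fixed points
      have hinv : ∀ c : ESData.cent x y, ∀ v ∈ fix (ρ x),
          (ρ.comp (ESData.cent x y).subtype) c v ∈ fix (ρ x) := by
        intro c v hv
        rw [mem_fix] at hv ⊢
        have hc := (ESData.mem_cent.mp c.2).1
        rw [commutatorElement_eq_one_iff_mul_comm] at hc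
        show ρ x (ρ (c : E) v) = ρ (c : E) v
        calc ρ x (ρ (c : E) v) = (ρ x * ρ (c : E)) v := rfl
          _ = (ρ (c : E) * ρ x) v := by rw [← map_mul, hc, map_mul]
          _ = ρ (c : E) (ρ x v) := rfl
          _ = ρ (c : E) v := by rw [hv]
      have hnt' : Nontrivial (fix (ρ x)) := (Subgroup.nontrivial_iff_ne_bot _).mpr hne
      have key := ih (ESData.cent x y) (fix (ρ x)) ⟨z, h.z_mem_cent x y⟩ hC hcC
        (restr (ρ.comp (ESData.cent x y).subtype) (fix (ρ x)) hinv) (hV.to_subgroup _)
        (by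
          intro v hv
          apply Subtype.ext
          apply hfpf
          exact congrArg Subtype.val hv) hnt'
      calc r ^ (n * p ^ (w + 1)) = (r ^ (n * p ^ w)) ^ p := by
            rw [← pow_mul]; congr 1; rw [pow_succ]; ring
        _ ≤ Nat.card (fix (ρ x)) ^ p := Nat.pow_le_pow_left key p
        _ ≤ Nat.card V := hle
    · -- p = 2, |E| = 8
      subst hp2
      have hw0 : w = 0 := by omega
      subst hw0
      have hn1 : n = 1 := by
        have hodd : 2 ∣ r ^ 1 - 1 := by
          rw [pow_one]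
          rcases hr.1.eq_two_or_odd with h2 | h2
          · exact absurd h2.symm hpr
          · omega
        have := hmin 1 le_rfl hodd
        omega
      subst hn1
      obtain ⟨d, hd⟩ := hV.exists_card_eq
      have hd2 : 2 ≤ d := by
        by_contra hlt
        push Not at hlt
        have hd1 : d = 1 := by
          rcases Nat.eq_zero_or_pos d with h0 | h0
          · exfalso
            rw [h0, pow_zero] at hd
            have := Finite.one_lt_card (α := V)
            omega
          · omega
        rw [hd1, pow_one] at hd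
        -- automorphisms commute, so z acts trivially
        obtain ⟨x, hx⟩ := exists_not_mem h le_rfl hcard
        have hxc : x ∉ Subgroup.center E := fun hh => hx (h.center_le x hh)
        rw [Subgroup.mem_center_iff] at hxc
        push Not at hxc
        obtain ⟨e, he⟩ := hxc
        have hxe : ⁅x, e⁆ ≠ 1 := by
          rw [Ne, commutatorElement_eq_one_iff_mul_comm]
          exact fun hh => he hh.symm
        obtain ⟨j, hj⟩ := h.exists_pair hxe
        have htriv : ∀ v : V, ρ z v = v := by
          intro v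
          rw [← hj, commutatorElement_def, map_mul, map_mul, map_mul, map_inv, map_inv]
          show ρ x (ρ (e ^ j) ((ρ x)⁻¹ ((ρ (e ^ j))⁻¹ v))) = v
          rw [aut_comm_of_card_prime hd (ρ (e ^ j)) (ρ x)⁻¹, MulAut.apply_inv_self,
            MulAut.apply_inv_self]
        obtain ⟨v, hv⟩ := exists_ne (1 : V)
        exact hv (hfpf v (htriv v))
      rw [hd]
      exact Nat.pow_le_pow_right hr.1.pos (by simpa using hd2)

end Cfsg.Agent.Lib.Helper20.ESFaith
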