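import Mathlib
import Cfsg.Agent.Lib.Helper20.KleinIndex

/-!
Helper lemmas (helper20): `|N₀ : C_{N₀}(T)| = 6` for a four-group `T` and any subgroup `N₀` of its
normalizer inducing two different transpositions; groups generated by two involutions with product of
order dividing three have at most six elements; normal 2-subgroups of `S₃` are trivial.
-/

set_option autoImplicit false

namespace Cfsg.Agent.Lib.Helper20.KleinIndex

open Cfsg.Agent.Lib.Helper4

variable {G : Type*} [Group G]

/-- `|N₀ : C_{N₀}(T)| = 6` for a four-group and a subgroup of its normalizer inducing two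
transpositions -/
theorem relIndex_klein_sub_eq_six (a b : G) (ha : a * a = 1) (hb : b * b = 1) (hab : a * b = b * a)
    (ha1 : a ≠ 1) (hb1 : b ≠ 1) (hne : a ≠ b) (N : Subgroup G)
    (hNT : N ≤ Subgroup.normalizer ((kleinOf a b ha hb hab : Subgroup G) : Set G)) (m n : G)
    (hm : m ∈ N) (hma : m * a * m⁻¹ = a) (hmb : m * b * m⁻¹ = a * b)
    (hn : n ∈ N) (hnb : n * b * n⁻¹ = b) (hna : n * a * n⁻¹ = a * b) :
    (Subgroup.centralizer ((kleinOf a b ha hb hab : Subgroup G) : Set G)).relIndex N = 6 := by
  set T := kleinOf a b ha hb hab with hT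
  set Na := N ⊓ Subgroup.centralizer ({a} : Set G) with hNa
  have haT : a ∈ T := mem_kleinOf.mpr (Or.inr (Or.inl rfl))
  have hbT : b ∈ T := mem_kleinOf.mpr (Or.inr (Or.inr (Or.inl rfl)))
  have hab1 : a * b ≠ 1 := by
    intro h
    apply hne
    have : a = b⁻¹ := eq_inv_of_mul_eq_one_left h
    rw [this, inv_eq_of_mul_eq_one_right hb]
  have haab : a ≠ a * b := fun h => hb1 (by
    have := mul_left_cancel ((mul_one a).trans h)
    exact this.symm)
  have hbab : b ≠ a * b := fun h => ha1 (by
    have := mul_right_cancel ((one_mul b).trans h)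
    exact this.symm)
  have hC : N ⊓ Subgroup.centralizer (T : Set G) = Na ⊓ Subgroup.centralizer ({b} : Set G) := by
    apply le_antisymm
    · intro x hx
      have hx1 : x ∈ N := hx.1
      have hx2 : x ∈ Subgroup.centralizer (T : Set G) := hx.2
      refine ⟨⟨hx1, ?_⟩, ?_⟩
      · show x ∈ Subgroup.centralizer ({a} : Set G)
        rw [Subgroup.mem_centralizer_iff]
        intro y hy
        rw [Set.mem_singleton_iff] at hy
        rw [hy]
        exact Subgroup.mem_centralizer_iff.mp hx2 a haT
      · show x ∈ Subgroup.centralizer ({b} : Set G)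
        rw [Subgroup.mem_centralizer_iff]
        intro y hy
        rw [Set.mem_singleton_iff] at hy
        rw [hy]
        exact Subgroup.mem_centralizer_iff.mp hx2 b hbT
    · intro x hx
      have hxN : x ∈ N := hx.1.1
      have hxa : x ∈ Subgroup.centralizer ({a} : Set G) := hx.1.2
      have hxb : x ∈ Subgroup.centralizer ({b} : Set G) := hx.2
      refine ⟨hxN, ?_⟩
      show x ∈ Subgroup.centralizer (T : Set G)
      rw [Subgroup.mem_centralizer_iff] at hxa hxb ⊢
      intro y hy
      exact (commute_kleinOf hy (hxa a rfl).symm (hxb b rfl).symm).symm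
  have conj_mem : ∀ k ∈ N, ∀ y ∈ T, k * y * k⁻¹ ∈ T := fun k hk y hy =>
    (Subgroup.mem_normalizer_iff.mp (hNT hk) y).mp hy
  have conj_ne : ∀ (k y : G), y ≠ 1 → k * y * k⁻¹ ≠ 1 := fun k y hy h =>
    hy (conj_eq_one_iff.mp h)
  have conj_inj : ∀ (k y y' : G), k * y * k⁻¹ = k * y' * k⁻¹ → y = y' := fun k y y' h =>
    mul_left_cancel (mul_right_cancel h)
  -- first index
  have h3 : Na.relIndex N = 3 := by
    rw [hNa, relIndex_inf_centralizer_eq_ncard]
    have hset : {y : G | ∃ k ∈ N, k * a * k⁻¹ = y} = {a, b, a * b} := by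
      ext y
      simp only [Set.mem_setOf_eq, Set.mem_insert_iff, Set.mem_singleton_iff]
      constructor
      · rintro ⟨k, hk, rfl⟩
        rcases mem_kleinOf.mp (conj_mem k hk a haT) with h | h | h | h
        · exact absurd h (conj_ne k a ha1)
        · exact Or.inl h
        · exact Or.inr (Or.inl h)
        · exact Or.inr (Or.inr h)
      · rintro (h | h | h)
        · rw [h]; exact ⟨1, N.one_mem, by simp⟩
        · rw [h]
          refine ⟨m * n, N.mul_mem hm hn, ?_⟩
          have h1 : m * n * a * (m * n)⁻¹ = m * (n * a * n⁻¹) * m⁻¹ := by group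
          have h2 : m * (a * b) * m⁻¹ = (m * a * m⁻¹) * (m * b * m⁻¹) := by group
          rw [h1, hna, h2, hma, hmb, ← mul_assoc, ha, one_mul]
        · rw [h]; exact ⟨n, hn, hna⟩
    rw [hset]
    exact Set.ncard_eq_three.mpr ⟨a, b, a * b, hne, haab, hbab, rfl⟩
  have h2 : (N ⊓ Subgroup.centralizer (T : Set G)).relIndex Na = 2 := by
    rw [hC, relIndex_inf_centralizer_eq_ncard]
    have hset : {y : G | ∃ k ∈ Na, k * b * k⁻¹ = y} = {b, a * b} := by
      ext y
      simp only [Set.mem_setOf_eq, Set.mem_insert_iff, Set.mem_singleton_iff]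
      constructor
      · rintro ⟨k, hkk, rfl⟩
        have hk : k ∈ N := hkk.1
        have hka : k ∈ Subgroup.centralizer ({a} : Set G) := hkk.2
        have hka' : k * a * k⁻¹ = a := by
          have := Subgroup.mem_centralizer_iff.mp hka a rfl
          rw [← this]; group
        rcases mem_kleinOf.mp (conj_mem k hk b hbT) with h | h | h | h
        · exact absurd h (conj_ne k b hb1)
        · exfalso
          exact hne (conj_inj k a b (hka'.trans h.symm))
        · exact Or.inl h
        · exact Or.inr h
      · rintro (h | h)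
        · rw [h]; exact ⟨1, Na.one_mem, by simp⟩
        · rw [h]
          refine ⟨m, ⟨hm, ?_⟩, hmb⟩
          show m ∈ Subgroup.centralizer ({a} : Set G)
          rw [Subgroup.mem_centralizer_iff]
          intro y hy
          rw [Set.mem_singleton_iff] at hy
          rw [hy]
          exact (mul_inv_eq_iff_eq_mul.mp hma).symm
    rw [hset]
    exact Set.ncard_pair hbab
  have hle1 : N ⊓ Subgroup.centralizer (T : Set G) ≤ Na := by rw [hC]; exact inf_le_left
  have hle2 : Na ≤ N := inf_le_left
  have h6 : (N ⊓ Subgroup.centralizer (T : Set G)).relIndex N = 6 := by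
    rw [← Subgroup.relIndex_mul_relIndex _ _ _ hle1 hle2, h2, h3]
  rw [← h6, inf_comm, Subgroup.inf_relIndex_right]

/-- a group generated by two involutions whose product has order dividing three has at most six
elements -/
theorem card_le_six_of_gens {D : Type*} [Group D] (a b : D) (ha : a * a = 1) (hb : b * b = 1)
    (hab : (a * b) * (a * b) * (a * b) = 1)
    (hgen : Subgroup.closure ({a, b} : Set D) = ⊤) : Nat.card D ≤ 6 := by
  set c := a * b with hc
  have hbc : b = a * c := by rw [hc, ← mul_assoc, ha, one_mul]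
  have hba : b * a = c * c := by
    have h1 : c * (b * a) = 1 := by
      rw [hc]
      calc a * b * (b * a) = a * (b * b) * a := by group
        _ = 1 := by rw [hb, mul_one, ha]
    have h2 : c * (c * c) = 1 := by rw [← mul_assoc]; exact hab
    exact mul_left_cancel (h1.trans h2.symm)
  have hccc : c * c * c = 1 := hab
  have key : ∀ d : D, d = 1 ∨ d = c ∨ d = c * c ∨ d = a ∨ d = a * c ∨ d = a * (c * c) := by
    intro d
    have hd : d ∈ Subgroup.closure ({a, b} : Set D) := by rw [hgen]; trivial
    have hmulA : ∀ y : D, (y = 1 ∨ y = c ∨ y = c * c ∨ y = a ∨ y = a * c ∨ y = a * (c * c)) →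
        (a * y = 1 ∨ a * y = c ∨ a * y = c * c ∨ a * y = a ∨ a * y = a * c ∨
          a * y = a * (c * c)) := by
      rintro y (rfl | rfl | rfl | rfl | rfl | rfl)
      · right; right; right; left; rw [mul_one]
      · right; right; right; right; left; rfl
      · right; right; right; right; right; rfl
      · left; exact ha
      · right; left; rw [← mul_assoc, ha, one_mul]
      · right; right; left; rw [← mul_assoc, ha, one_mul]
    have hmulB : ∀ y : D, (y = 1 ∨ y = c ∨ y = c * c ∨ y = a ∨ y = a * c ∨ y = a * (c * c)) →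
        (b * y = 1 ∨ b * y = c ∨ b * y = c * c ∨ b * y = a ∨ b * y = a * c ∨
          b * y = a * (c * c)) := by
      rintro y (rfl | rfl | rfl | rfl | rfl | rfl)
      · right; right; right; right; left; rw [mul_one]; exact hbc
      · right; right; right; right; right; rw [hbc, mul_assoc]
      · right; right; right; left
        calc b * (c * c) = a * (c * c * c) := by rw [hbc]; group
          _ = a := by rw [hccc, mul_one]
      · right; right; left; exact hba
      · left
        calc b * (a * c) = (b * a) * c := by group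
          _ = 1 := by rw [hba, hccc]
      · right; left
        calc b * (a * (c * c)) = (b * a) * (c * c) := by group
          _ = (c * c * c) * c := by rw [hba]; group
          _ = c := by rw [hccc, one_mul]
    induction hd using Subgroup.closure_induction_left with
    | one => left; rfl
    | mul_left x hx y _ ih =>
      rcases hx with rfl | hx
      · exact hmulA y ih
      · rw [Set.mem_singleton_iff] at hx; rw [hx]; exact hmulB y ih
    | inv_mul_cancel x hx y _ ih =>
      rcases hx with rfl | hx
      · rw [inv_eq_of_mul_eq_one_right ha]; exact hmulA y ih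
      · rw [Set.mem_singleton_iff] at hx; rw [hx, inv_eq_of_mul_eq_one_right hb]; exact hmulB y ih
  let f : Fin 6 → D := ![1, c, c * c, a, a * c, a * (c * c)]
  have hf : Function.Surjective f := by
    intro d
    rcases key d with h | h | h | h | h | h
    · exact ⟨0, h.symm⟩
    · exact ⟨1, h.symm⟩
    · exact ⟨2, h.symm⟩
    · exact ⟨3, h.symm⟩
    · exact ⟨4, h.symm⟩
    · exact ⟨5, h.symm⟩
  have := Nat.card_le_card_of_surjective f hf
  rwa [Nat.card_fin] at this

set_option maxRecDepth 100000 in
/-- a normal 2-subgroup of `S₃` is trivial -/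
theorem perm_three_normal_two_group (N : Subgroup (Equiv.Perm (Fin 3))) (hN : N.Normal)
    (h2 : IsPGroup 2 N) : N = ⊥ := by
  rw [eq_bot_iff]
  intro σ hσ
  rw [Subgroup.mem_bot]
  by_contra hne
  have hord : ∀ ρ ∈ N, ρ ^ 3 = 1 → ρ = 1 := by
    intro ρ hρ h3
    obtain ⟨k, hk⟩ := h2 ⟨ρ, hρ⟩
    have hk' : ρ ^ (2 ^ k) = 1 := by
      have := congrArg Subtype.val hk
      simpa using this
    have h1 : orderOf ρ ∣ 3 := orderOf_dvd_of_pow_eq_one h3
    have h2' : orderOf ρ ∣ 2 ^ k := orderOf_dvd_of_pow_eq_one hk'
    have h3' : orderOf ρ ∣ Nat.gcd 3 (2 ^ k) := Nat.dvd_gcd h1 h2'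
    have hcop : Nat.gcd 3 (2 ^ k) = 1 := Nat.Coprime.pow_right k (by decide)
    rw [hcop, Nat.dvd_one] at h3'
    exact orderOf_eq_one_iff.mp h3'
  have hsq' : ∀ σ : Equiv.Perm (Fin 3), σ ^ 2 = 1 ∨ σ ^ 3 = 1 := by decide
  have hex' : ∀ σ : Equiv.Perm (Fin 3), σ ≠ 1 → σ ^ 2 = 1 →
      ∃ τ : Equiv.Perm (Fin 3), (σ * (τ * σ * τ⁻¹)) ^ 3 = 1 ∧ σ * (τ * σ * τ⁻¹) ≠ 1 := by decide
  rcases hsq' σ with hsq | hsq
  · obtain ⟨τ, h3, hne'⟩ := hex' σ hne hsq
    exact hne' (hord _ (N.mul_mem hσ (hN.conj_mem σ hσ τ)) h3)
  · exact hne (hord σ hσ hsq)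

end Cfsg.Agent.Lib.Helper20.KleinIndex
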