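import Mathlib
import Cfsg.Agent.Lib.Helper20.KleinIndex2

/-!
Helper lemmas (helper20): a subgroup `X` of the normalizer of a four-group `T` with `|X : C_X(T)| = 6`
maps onto `S₃` with kernel `C_X(T)`.
-/

set_option autoImplicit false

namespace Cfsg.Agent.Lib.Helper20.KleinIndex

open Cfsg.Agent.Lib.Helper4

variable {G : Type*} [Group G]

theorem exists_hom_perm_three [Finite G] (a b : G) (ha : a * a = 1) (hb : b * b = 1)
    (hab : a * b = b * a) (ha1 : a ≠ 1) (hb1 : b ≠ 1) (hne : a ≠ b) (X : Subgroup G)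
    (hXT : X ≤ Subgroup.normalizer ((kleinOf a b ha hb hab : Subgroup G) : Set G))
    (h6 : (Subgroup.centralizer ((kleinOf a b ha hb hab : Subgroup G) : Set G)).relIndex X = 6) :
    ∃ φ : ↥X →* Equiv.Perm (Fin 3), Function.Surjective φ ∧
      φ.ker = (Subgroup.centralizer ((kleinOf a b ha hb hab : Subgroup G) : Set G)).subgroupOf X := by
  classical
  set T := kleinOf a b ha hb hab with hT
  have haT : a ∈ T := mem_kleinOf.mpr (Or.inr (Or.inl rfl))
  have hbT : b ∈ T := mem_kleinOf.mpr (Or.inr (Or.inr (Or.inl rfl)))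
  have habT : a * b ∈ T := mem_kleinOf.mpr (Or.inr (Or.inr (Or.inr rfl)))
  have hab1 : a * b ≠ 1 := by
    intro h
    apply hne
    have : a = b⁻¹ := eq_inv_of_mul_eq_one_left h
    rw [this, inv_eq_of_mul_eq_one_right hb]
  have haab : a ≠ a * b := fun h => hb1 (by
    have := mul_left_cancel ((mul_one a).trans h)
    exact this.symm)
  have hbab : b ≠ a * b := fun h => ha1 (by
    have := mul_right_cancel ((one_mul b).trans h)
    exact this.symm)
  have hconj : ∀ (x : ↥X) (t : G), t ∈ T ∧ t ≠ 1 →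
      (x : G) * t * (x : G)⁻¹ ∈ T ∧ (x : G) * t * (x : G)⁻¹ ≠ 1 := by
    rintro x t ⟨h1, h2⟩
    exact ⟨(Subgroup.mem_normalizer_iff.mp (hXT x.2) t).mp h1, fun h => h2 (conj_eq_one_iff.mp h)⟩
  let S := {t : G // t ∈ T ∧ t ≠ 1}
  letI : MulAction ↥X S :=
    { smul := fun x t => ⟨(x : G) * t.1 * (x : G)⁻¹, hconj x t.1 t.2⟩
      one_smul := by
        intro t
        apply Subtype.ext
        show ((1 : ↥X) : G) * t.1 * ((1 : ↥X) : G)⁻¹ = t.1
        simp
      mul_smul := by
        intro x y t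
        apply Subtype.ext
        show ((x * y : ↥X) : G) * t.1 * ((x * y : ↥X) : G)⁻¹ =
          (x : G) * ((y : G) * t.1 * (y : G)⁻¹) * (x : G)⁻¹
        rw [Subgroup.coe_mul]
        group }
  have hsmul : ∀ (x : ↥X) (t : S), ((x • t : S) : G) = (x : G) * t.1 * (x : G)⁻¹ := fun _ _ => rfl
  have hcard : Nat.card S = 3 := by
    have hset : {t : G | t ∈ T ∧ t ≠ 1} = {a, b, a * b} := by
      ext t
      simp only [Set.mem_setOf_eq, Set.mem_insert_iff, Set.mem_singleton_iff]
      constructor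
      · rintro ⟨h1, h2⟩
        rcases mem_kleinOf.mp h1 with h | h | h | h
        · exact absurd h h2
        · exact Or.inl h
        · exact Or.inr (Or.inl h)
        · exact Or.inr (Or.inr h)
      · rintro (h | h | h)
        · rw [h]; exact ⟨haT, ha1⟩
        · rw [h]; exact ⟨hbT, hb1⟩
        · rw [h]; exact ⟨habT, hab1⟩
    show Nat.card ↥{t : G | t ∈ T ∧ t ≠ 1} = 3
    rw [Nat.card_coe_set_eq, hset]
    exact Set.ncard_eq_three.mpr ⟨a, b, a * b, hne, haab, hbab, rfl⟩
  haveI : Finite S := Nat.finite_of_card_ne_zero (by rw [hcard]; norm_num)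
  letI : Fintype S := Fintype.ofFinite S
  have hcard' : Fintype.card S = 3 := by rw [← Nat.card_eq_fintype_card]; exact hcard
  let e : S ≃ Fin 3 := Fintype.equivFinOfCardEq hcard'
  let ψ : ↥X →* Equiv.Perm S := MulAction.toPermHom ↥X S
  let φ : ↥X →* Equiv.Perm (Fin 3) := (e.permCongrHom.toMonoidHom).comp ψ
  have hker : φ.ker = (Subgroup.centralizer (T : Set G)).subgroupOf X := by
    ext x
    rw [MonoidHom.mem_ker, Subgroup.mem_subgroupOf, Subgroup.mem_centralizer_iff]
    have h1 : φ x = 1 ↔ ψ x = 1 := by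
      show e.permCongrHom (ψ x) = 1 ↔ ψ x = 1
      exact map_eq_one_iff _ e.permCongrHom.injective
    rw [h1]
    constructor
    · intro h t ht
      by_cases ht1 : t = 1
      · rw [ht1]; simp
      · have h2 : ψ x ⟨t, ht, ht1⟩ = ⟨t, ht, ht1⟩ := by rw [h]; rfl
        have h3 : (x : G) * t * (x : G)⁻¹ = t := congrArg Subtype.val h2
        exact (mul_inv_eq_iff_eq_mul.mp h3).symm
    · intro h
      ext t
      show ((x • t : S) : G) = t.1
      rw [hsmul]
      exact mul_inv_eq_iff_eq_mul.mpr (h t.1 t.2.1).symm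
  refine ⟨φ, ?_, hker⟩
  have hidx : φ.ker.index = 6 := by rw [hker]; exact h6
  have hrange : Nat.card φ.range = 6 := by rw [← Subgroup.index_ker]; exact hidx
  have hperm : Nat.card (Equiv.Perm (Fin 3)) = 6 := by
    rw [Nat.card_perm, Nat.card_fin]; rfl
  have htop : φ.range = ⊤ := Subgroup.eq_top_of_card_eq _ (hrange.trans hperm.symm)
  exact MonoidHom.range_eq_top.mp htop

end Cfsg.Agent.Lib.Helper20.KleinIndex
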