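import Mathlib
import Cfsg.Prelude.Def_MonsterType
import Cfsg.Agent.Lib.Helper20.ESLargeR
import Cfsg.Agent.Lib.Helper20.KleinPerm
import Cfsg.Agent.Lib.Helper16.PCore

/-!
Helper lemmas (helper20): structure of `X = ⟨Q, Q^g⟩` in the large extraspecial configuration:
`R = C_X(V)`, `X/R ≅ S₃`, `N(V) = X C(V)`.
-/

set_option autoImplicit false
open scoped commutatorElement

namespace Cfsg.Agent.Lib.Helper20.ES

open Cfsg.Agent.Lib.Helper4
open Cfsg.Agent.Lib.Helper20.KleinIndex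

/-- conjugation chain -/
theorem conj_chain {G : Type*} [Group G] {x y t t' t'' : G} (h1 : y * t * y⁻¹ = t')
    (h2 : x * t' * x⁻¹ = t'') : (x * y) * t * (x * y)⁻¹ = t'' := by
  rw [← h2, ← h1]; group

/-- the centralizer is normalized by the normalizer -/
theorem conj_mem_centralizer {G : Type*} [Group G] {T : Subgroup G} {x r : G}
    (hx : x ∈ Subgroup.normalizer (T : Set G)) (hr : r ∈ Subgroup.centralizer (T : Set G)) :
    x * r * x⁻¹ ∈ Subgroup.centralizer (T : Set G) := by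
  rw [Subgroup.mem_centralizer_iff] at hr ⊢
  intro t ht
  have h1 : x⁻¹ * t * x ∈ T := by
    rw [Subgroup.mem_normalizer_iff] at hx
    apply (hx _).mpr
    have : x * (x⁻¹ * t * x) * x⁻¹ = t := by group
    rw [this]; exact ht
  have h2 := hr _ h1
  calc t * (x * r * x⁻¹) = x * ((x⁻¹ * t * x) * r) * x⁻¹ := by group
    _ = x * (r * (x⁻¹ * t * x)) * x⁻¹ := by rw [h2]
    _ = x * r * x⁻¹ * t := by group

/-- normalizing two subgroups normalizes their join -/
theorem mem_normalizer_sup {G : Type*} [Group G] [Finite G] {A B : Subgroup G} {x : G}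
    (hA : x ∈ Subgroup.normalizer (A : Set G)) (hB : x ∈ Subgroup.normalizer (B : Set G)) :
    x ∈ Subgroup.normalizer ((A ⊔ B : Subgroup G) : Set G) := by
  apply Subgroup.mem_normalizer_fintype
  intro y hy
  have hle : A ⊔ B ≤ (A ⊔ B).comap (MulAut.conj x).toMonoidHom := by
    apply sup_le
    · intro a ha
      rw [Subgroup.mem_comap]
      exact Subgroup.mem_sup_left ((Subgroup.mem_normalizer_iff.mp hA a).mp ha)
    · intro b hb
      rw [Subgroup.mem_comap]
      exact Subgroup.mem_sup_right ((Subgroup.mem_normalizer_iff.mp hB b).mp hb)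
  exact hle hy

/-- structure of `X` -/
theorem cfg_X_core {G : Type*} [Group G] [Finite G] (Q : Subgroup G) (z g : G) (h : Cfg Q z g)
    (V X R : Subgroup G) (hV : V = Subgroup.closure ({z, g * z * g⁻¹} : Set G))
    (hX : X = Q ⊔ (Q).map (MulAut.conj g).toMonoidHom)
    (hR : R = ((Q).map (MulAut.conj g).toMonoidHom ⊓ Subgroup.centralizer ({z} : Set G)) ⊔
      (Q ⊓ Subgroup.centralizer ({g * z * g⁻¹} : Set G))) :
    R ≤ X ∧ X ≤ Subgroup.normalizer (R : Set G) ∧ X ≤ Subgroup.normalizer (V : Set G) ∧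
    R ≤ Subgroup.centralizer (V : Set G) ∧ X ⊓ Subgroup.centralizer (V : Set G) ≤ R ∧
    Subgroup.normalizer (V : Set G) ≤ X ⊔ Subgroup.centralizer (V : Set G) ∧
    Subgroup.centralizer (V : Set G) ≤ Subgroup.normalizer (X : Set G) ∧
    z ∈ V ∧
    (∃ φ : ↥X →* Equiv.Perm (Fin 3), Function.Surjective φ ∧
      φ.ker = (Subgroup.centralizer (V : Set G)).subgroupOf X) := by
  have hA := h.amb
  set u : G := g * z * g⁻¹ with hu_def
  set Q' := Q.map (MulAut.conj g).toMonoidHom with hQ'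
  have hu : u ∈ Q := h.uQ
  have huQ' : u ∈ Q' := (Cfg.mem_Q' u).mpr ⟨z, hA.zQ, rfl⟩
  have huu : u * u = 1 := h.uu
  have hzu : z * u = u * z := h.zu
  have hzQ' : z ∈ Q' := h.zQ'
  set T := kleinOf z u hA.zz huu hzu with hT
  have hzT : z ∈ T := mem_kleinOf.mpr (Or.inr (Or.inl rfl))
  have huT : u ∈ T := mem_kleinOf.mpr (Or.inr (Or.inr (Or.inl rfl)))
  have hVT : V = T := by
    rw [hV]
    apply le_antisymm
    · rw [Subgroup.closure_le]
      intro x hx
      rcases hx with rfl | hx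
      · exact hzT
      · rw [Set.mem_singleton_iff] at hx; rw [hx]; exact huT
    · intro x hx
      have hz' : z ∈ Subgroup.closure ({z, u} : Set G) := Subgroup.subset_closure (by simp)
      have hu' : u ∈ Subgroup.closure ({z, u} : Set G) := Subgroup.subset_closure (by simp)
      rcases mem_kleinOf.mp hx with rfl | rfl | rfl | rfl
      · exact Subgroup.one_mem _
      · exact hz'
      · exact hu'
      · exact Subgroup.mul_mem _ hz' hu'
  rw [hVT]
  set P := Q ⊓ Subgroup.centralizer ({u} : Set G) with hP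
  set P' := Q' ⊓ Subgroup.centralizer ({z} : Set G) with hP'
  have hPmem : ∀ x : G, x ∈ P ↔ x ∈ Q ∧ x * u = u * x := by
    intro x
    rw [hP, Subgroup.mem_inf, Subgroup.mem_centralizer_iff]
    constructor
    · rintro ⟨h1, h2⟩
      exact ⟨h1, (h2 u rfl).symm⟩
    · rintro ⟨h1, h2⟩
      refine ⟨h1, ?_⟩
      intro y hy
      rw [Set.mem_singleton_iff] at hy
      rw [hy]; exact h2.symm
  have hP'mem : ∀ x : G, x ∈ P' ↔ x ∈ Q' ∧ x * z = z * x := by
    intro x
    rw [hP', Subgroup.mem_inf, Subgroup.mem_centralizer_iff]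
    constructor
    · rintro ⟨h1, h2⟩
      exact ⟨h1, (h2 z rfl).symm⟩
    · rintro ⟨h1, h2⟩
      refine ⟨h1, ?_⟩
      intro y hy
      rw [Set.mem_singleton_iff] at hy
      rw [hy]; exact h2.symm
  have hPR : P ≤ R := by rw [hR]; exact le_sup_right
  have hP'R : P' ≤ R := by rw [hR]; exact le_sup_left
  have hRC : R ≤ Subgroup.centralizer (T : Set G) := by
    rw [hR]
    apply sup_le
    · intro x hx
      obtain ⟨h1, h2⟩ := (hP'mem x).mp hx
      rw [Subgroup.mem_centralizer_iff]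
      intro y hy
      exact (commute_kleinOf hy h2 (h.Q'u x h1)).symm
    · intro x hx
      obtain ⟨h1, h2⟩ := (hPmem x).mp hx
      rw [Subgroup.mem_centralizer_iff]
      intro y hy
      exact (commute_kleinOf hy (hA.zc x h1) h2).symm
  have hQnT : Q ≤ Subgroup.normalizer (T : Set G) := by
    intro q hq
    apply Subgroup.mem_normalizer_fintype
    intro t ht
    have hqz : q * z * q⁻¹ = z := by rw [hA.zc q hq, mul_inv_cancel_right]
    have hqu : q * u * q⁻¹ ∈ T := by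
      have h1 : q * u * q⁻¹ = ⁅q, u⁆ * u := by rw [commutatorElement_def]; group
      rw [h1]
      rcases hA.comm q hq u hu with h2 | h2 <;> rw [h2]
      · rw [one_mul]; exact huT
      · exact T.mul_mem hzT huT
    rcases mem_kleinOf.mp ht with rfl | rfl | rfl | rfl
    · simp
    · rw [hqz]; exact hzT
    · exact hqu
    · have h1 : q * (z * u) * q⁻¹ = (q * z * q⁻¹) * (q * u * q⁻¹) := by group
      rw [SetLike.mem_coe, h1, hqz]
      exact T.mul_mem hzT hqu
  have hQ'nT : Q' ≤ Subgroup.normalizer (T : Set G) := by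
    intro q hq
    apply Subgroup.mem_normalizer_fintype
    intro t ht
    have hqu : q * u * q⁻¹ = u := by rw [h.Q'u q hq, mul_inv_cancel_right]
    have hqz : q * z * q⁻¹ ∈ T := by
      have h1 : q * z * q⁻¹ = ⁅q, z⁆ * z := by rw [commutatorElement_def]; group
      rw [h1]
      rcases h.Q'comm q hq z hzQ' with h2 | h2 <;> rw [h2]
      · rw [one_mul]; exact hzT
      · exact T.mul_mem huT hzT
    rcases mem_kleinOf.mp ht with rfl | rfl | rfl | rfl
    · simp
    · exact hqz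
    · rw [hqu]; exact huT
    · have h1 : q * (z * u) * q⁻¹ = (q * z * q⁻¹) * (q * u * q⁻¹) := by group
      rw [SetLike.mem_coe, h1, hqu]
      exact T.mul_mem hqz huT
  have hQX : Q ≤ X := by rw [hX]; exact le_sup_left
  have hQ'X : Q' ≤ X := by rw [hX]; exact le_sup_right
  have hXnT : X ≤ Subgroup.normalizer (T : Set G) := by rw [hX]; exact sup_le hQnT hQ'nT
  have hRX : R ≤ X := by
    rw [hR]; exact sup_le (inf_le_left.trans hQ'X) (inf_le_left.trans hQX)
  have hTP : T ≤ P := by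
    intro x hx
    have hzP : z ∈ P := (hPmem z).mpr ⟨hA.zQ, hzu⟩
    have huP : u ∈ P := (hPmem u).mpr ⟨hu, rfl⟩
    rcases mem_kleinOf.mp hx with rfl | rfl | rfl | rfl
    · exact P.one_mem
    · exact hzP
    · exact huP
    · exact P.mul_mem hzP huP
  have hzR : z ∈ R := hPR (hTP hzT)
  have huR : u ∈ R := hPR (hTP huT)
  have hPT : ∀ x, x ∈ Q → x ∈ Subgroup.centralizer (T : Set G) → x ∈ P := fun x hx hc =>
    (hPmem x).mpr ⟨hx, (Subgroup.mem_centralizer_iff.mp hc u huT).symm⟩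
  have hP'T : ∀ x, x ∈ Q' → x ∈ Subgroup.centralizer (T : Set G) → x ∈ P' := fun x hx hc =>
    (hP'mem x).mpr ⟨hx, (Subgroup.mem_centralizer_iff.mp hc z hzT).symm⟩
  -- `R` is normal in `X`
  have hQnR : Q ≤ Subgroup.normalizer (R : Set G) := by
    intro q hq
    apply Subgroup.mem_normalizer_fintype
    intro r hr
    have hle : P' ⊔ P ≤ R.comap (MulAut.conj q).toMonoidHom := by
      apply sup_le
      · intro t ht
        show q * t * q⁻¹ ∈ R
        have htN : t ∈ Subgroup.normalizer (Q : Set G) := h.nQ t ((hP'mem t).mp ht).2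
        have hc : q * t * q⁻¹ * t⁻¹ ∈ P := by
          apply hPT
          · have : q * t * q⁻¹ * t⁻¹ = q * (t * q⁻¹ * t⁻¹) := by group
            rw [this]
            exact Q.mul_mem hq ((Subgroup.mem_normalizer_iff.mp htN q⁻¹).mp (Q.inv_mem hq))
          · exact Subgroup.mul_mem _ (conj_mem_centralizer (hQnT hq) (hRC (hP'R ht)))
              (Subgroup.inv_mem _ (hRC (hP'R ht)))
        have : q * t * q⁻¹ = (q * t * q⁻¹ * t⁻¹) * t := by group
        rw [this]; exact R.mul_mem (hPR hc) (hP'R ht)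
      · intro p hp
        show q * p * q⁻¹ ∈ R
        exact hPR (hPT _ (Q.mul_mem (Q.mul_mem hq ((hPmem p).mp hp).1) (Q.inv_mem hq))
          (conj_mem_centralizer (hQnT hq) (hRC (hPR hp))))
    rw [← hR] at hle
    exact hle hr
  have hQ'nR : Q' ≤ Subgroup.normalizer (R : Set G) := by
    intro q hq
    apply Subgroup.mem_normalizer_fintype
    intro r hr
    have hle : P' ⊔ P ≤ R.comap (MulAut.conj q).toMonoidHom := by
      apply sup_le
      · intro t ht
        show q * t * q⁻¹ ∈ R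
        exact hP'R (hP'T _ (Q'.mul_mem (Q'.mul_mem hq ((hP'mem t).mp ht).1) (Q'.inv_mem hq))
          (conj_mem_centralizer (hQ'nT hq) (hRC (hP'R ht))))
      · intro p hp
        show q * p * q⁻¹ ∈ R
        have hpN : p ∈ Subgroup.normalizer (Q' : Set G) := h.nQ' p ((hPmem p).mp hp).2
        have hc : q * p * q⁻¹ * p⁻¹ ∈ P' := by
          apply hP'T
          · have : q * p * q⁻¹ * p⁻¹ = q * (p * q⁻¹ * p⁻¹) := by group
            rw [this]
            exact Q'.mul_mem hq ((Subgroup.mem_normalizer_iff.mp hpN q⁻¹).mp (Q'.inv_mem hq))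
          · exact Subgroup.mul_mem _ (conj_mem_centralizer (hQ'nT hq) (hRC (hPR hp)))
              (Subgroup.inv_mem _ (hRC (hPR hp)))
        have : q * p * q⁻¹ = (q * p * q⁻¹ * p⁻¹) * p := by group
        rw [this]; exact R.mul_mem (hP'R hc) (hPR hp)
    rw [← hR] at hle
    exact hle hr
  have hXnR : X ≤ Subgroup.normalizer (R : Set G) := by rw [hX]; exact sup_le hQnR hQ'nR
  -- the two transpositions
  obtain ⟨s, hsQ, hsu⟩ : ∃ s ∈ Q, s * u * s⁻¹ = z * u := by
    by_contra hcon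
    push Not at hcon
    have hall : ∀ q ∈ Q, q * u = u * q := by
      intro q hq
      rcases hA.comm q hq u hu with h1 | h1
      · exact commutatorElement_eq_one_iff_mul_comm.mp h1
      · exfalso; apply hcon q hq
        have : q * u * q⁻¹ = ⁅q, u⁆ * u := by rw [commutatorElement_def]; group
        rw [this, h1]
    rcases hA.cen u hu hall with h1 | h1
    · exact h.u1 h1
    · exact h.uz h1
  obtain ⟨s', hs'Q, hs'z⟩ : ∃ s' ∈ Q', s' * z * s'⁻¹ = z * u := by
    by_contra hcon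
    push Not at hcon
    have hall : ∀ q ∈ Q', q * z = z * q := by
      intro q hq
      rcases h.Q'comm q hq z hzQ' with h1 | h1
      · exact commutatorElement_eq_one_iff_mul_comm.mp h1
      · exfalso; apply hcon q hq
        have : q * z * q⁻¹ = ⁅q, z⁆ * z := by rw [commutatorElement_def]; group
        rw [this, h1]; exact hzu.symm
    obtain ⟨q₀, hq₀, hq₀z⟩ := (Cfg.mem_Q' z).mp hzQ'
    have hcen : ∀ q ∈ Q, q * q₀ = q₀ * q := by
      intro q hq
      have h1 := hall (g * q * g⁻¹) ((Cfg.mem_Q' _).mpr ⟨q, hq, rfl⟩)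
      have h2 : g * (q * q₀) * g⁻¹ = g * (q₀ * q) * g⁻¹ := by
        calc g * (q * q₀) * g⁻¹ = g * q * g⁻¹ * (g * q₀ * g⁻¹) := by group
          _ = g * q₀ * g⁻¹ * (g * q * g⁻¹) := by rw [hq₀z]; exact h1
          _ = g * (q₀ * q) * g⁻¹ := by group
      exact mul_left_cancel (mul_right_cancel h2)
    rcases hA.cen q₀ hq₀ hcen with h1 | h1
    · apply hA.z1; rw [← hq₀z, h1]; group
    · rw [h1] at hq₀z; exact h.uz hq₀z
  have hsz : s * z * s⁻¹ = z := by rw [hA.zc s hsQ, mul_inv_cancel_right]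
  have hs'u : s' * u * s'⁻¹ = u := by rw [h.Q'u s' hs'Q, mul_inv_cancel_right]
  have hs'u' : s'⁻¹ * u * s' = u := by
    calc s'⁻¹ * u * s' = s'⁻¹ * (s' * u * s'⁻¹) * s' := by rw [hs'u]
      _ = u := by group
  have hsz' : s⁻¹ * z * s = z := by
    calc s⁻¹ * z * s = s⁻¹ * (s * z * s⁻¹) * s := by rw [hsz]
      _ = z := by group
  have A2 : s'⁻¹ * z * s' = z * u := by
    have h1 : z = (s'⁻¹ * z * s') * u := by
      calc z = s'⁻¹ * (s' * z * s'⁻¹) * s' := by group
        _ = s'⁻¹ * (z * u) * s' := by rw [hs'z]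
        _ = (s'⁻¹ * z * s') * (s'⁻¹ * u * s') := by group
        _ = (s'⁻¹ * z * s') * u := by rw [hs'u']
    calc s'⁻¹ * z * s' = ((s'⁻¹ * z * s') * u) * u := by rw [mul_assoc _ u u, huu, mul_one]
      _ = z * u := by rw [← h1]
  have A5 : s⁻¹ * u * s = z * u := by
    have h1 : u = z * (s⁻¹ * u * s) := by
      calc u = s⁻¹ * (s * u * s⁻¹) * s := by group
        _ = s⁻¹ * (z * u) * s := by rw [hsu]
        _ = (s⁻¹ * z * s) * (s⁻¹ * u * s) := by group
        _ = z * (s⁻¹ * u * s) := by rw [hsz']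
    calc s⁻¹ * u * s = z * (z * (s⁻¹ * u * s)) := by rw [← mul_assoc z z, hA.zz, one_mul]
      _ = z * u := by rw [← h1]
  have A3 : s⁻¹ * (z * u) * s = u := by
    calc s⁻¹ * (z * u) * s = (s⁻¹ * z * s) * (s⁻¹ * u * s) := by group
      _ = z * (z * u) := by rw [hsz', A5]
      _ = u := by rw [← mul_assoc, hA.zz, one_mul]
  have A6 : s' * (z * u) * s'⁻¹ = z := by
    calc s' * (z * u) * s'⁻¹ = (s' * z * s'⁻¹) * (s' * u * s'⁻¹) := by group
      _ = z * u * u := by rw [hs'z, hs'u]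
      _ = z := by rw [mul_assoc, huu, mul_one]
  have A7 : s'⁻¹ * (z * u) * s' = z := by
    calc s'⁻¹ * (z * u) * s' = (s'⁻¹ * z * s') * (s'⁻¹ * u * s') := by group
      _ = z * u * u := by rw [A2, hs'u']
      _ = z := by rw [mul_assoc, huu, mul_one]
  -- the relation `(s s')³ ∈ R`
  have hx₀R : s * s' * s⁻¹ * s' * s⁻¹ * s'⁻¹ ∈ R := by
    have e1 : s * z * s⁻¹ = z := hsz
    have e2 : (s'⁻¹ * s) * z * (s'⁻¹ * s)⁻¹ = z * u := conj_chain e1 (by rw [inv_inv]; exact A2)
    have e3 : (s⁻¹ * (s'⁻¹ * s)) * z * (s⁻¹ * (s'⁻¹ * s))⁻¹ = u :=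
      conj_chain e2 (by rw [inv_inv]; exact A3)
    have e4 : (s' * (s⁻¹ * (s'⁻¹ * s))) * z * (s' * (s⁻¹ * (s'⁻¹ * s)))⁻¹ = u :=
      conj_chain e3 hs'u
    have e5 : (s⁻¹ * (s' * (s⁻¹ * (s'⁻¹ * s)))) * z * (s⁻¹ * (s' * (s⁻¹ * (s'⁻¹ * s))))⁻¹ =
        z * u := conj_chain e4 (by rw [inv_inv]; exact A5)
    have e6 : (s' * (s⁻¹ * (s' * (s⁻¹ * (s'⁻¹ * s))))) * z *
        (s' * (s⁻¹ * (s' * (s⁻¹ * (s'⁻¹ * s)))))⁻¹ = z := conj_chain e5 A6
    have hy : (g⁻¹ * s⁻¹ * s') * z = z * (g⁻¹ * s⁻¹ * s') := by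
      have h1 : (g⁻¹ * s⁻¹ * s') * z * (g⁻¹ * s⁻¹ * s')⁻¹ = z := by
        calc (g⁻¹ * s⁻¹ * s') * z * (g⁻¹ * s⁻¹ * s')⁻¹
            = g⁻¹ * (s⁻¹ * (s' * z * s'⁻¹) * s) * g := by group
          _ = g⁻¹ * u * g := by rw [hs'z, A3]
          _ = z := by rw [hu_def]; group
      exact mul_inv_eq_iff_eq_mul.mp h1
    have hyN := h.nQ _ hy
    have h2 : (g⁻¹ * s⁻¹ * s') * s⁻¹ * (g⁻¹ * s⁻¹ * s')⁻¹ ∈ Q :=
      (Subgroup.mem_normalizer_iff.mp hyN s⁻¹).mp (Q.inv_mem hsQ)
    have h3 : s⁻¹ * (s' * (s⁻¹ * (s'⁻¹ * s))) ∈ Q' := by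
      rw [Cfg.mem_Q']
      refine ⟨_, h2, ?_⟩
      group
    have hwQ' : s' * (s⁻¹ * (s' * (s⁻¹ * (s'⁻¹ * s)))) ∈ Q' := Q'.mul_mem hs'Q h3
    have hwP' : s' * (s⁻¹ * (s' * (s⁻¹ * (s'⁻¹ * s)))) ∈ P' :=
      (hP'mem _).mpr ⟨hwQ', mul_inv_eq_iff_eq_mul.mp e6⟩
    have h4 := (Subgroup.mem_normalizer_iff.mp (hQnR hsQ) _).mp (hP'R hwP')
    have h5 : s * (s' * (s⁻¹ * (s' * (s⁻¹ * (s'⁻¹ * s))))) * s⁻¹ =
        s * s' * s⁻¹ * s' * s⁻¹ * s'⁻¹ := by group
    rw [← h5]; exact h4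
  -- the index of `R` in `X`
  have hRn : (R.subgroupOf X).Normal :=
    (Subgroup.normal_subgroupOf_iff_le_normalizer hRX).mpr hXnR
  have hidx : R.relIndex X ≤ 6 := by
    haveI := hRn
    let π := QuotientGroup.mk' (R.subgroupOf X)
    let sX : ↥X := ⟨s, hQX hsQ⟩
    let s'X : ↥X := ⟨s', hQ'X hs'Q⟩
    have hπ1 : ∀ x : ↥X, (x : G) ∈ R → π x = 1 := fun x hx =>
      (QuotientGroup.eq_one_iff x).mpr (Subgroup.mem_subgroupOf.mpr hx)
    have haa : π sX * π sX = 1 := by
      rw [← map_mul]; apply hπ1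
      show s * s ∈ R
      rcases hA.sq s hsQ with h1 | h1 <;> rw [h1]
      · exact R.one_mem
      · exact hzR
    have hbb : π s'X * π s'X = 1 := by
      rw [← map_mul]; apply hπ1
      show s' * s' ∈ R
      rcases h.Q'sq s' hs'Q with h1 | h1 <;> rw [h1]
      · exact R.one_mem
      · exact huR
    have hx₀ : π sX * π s'X * (π sX)⁻¹ * π s'X * (π sX)⁻¹ * (π s'X)⁻¹ = 1 := by
      rw [← map_inv, ← map_inv, ← map_mul, ← map_mul, ← map_mul, ← map_mul, ← map_mul]
      apply hπ1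
      show s * s' * s⁻¹ * s' * s⁻¹ * s'⁻¹ ∈ R
      exact hx₀R
    have hainv : (π sX)⁻¹ = π sX := inv_eq_of_mul_eq_one_right haa
    have hbinv : (π s'X)⁻¹ = π s'X := inv_eq_of_mul_eq_one_right hbb
    rw [hainv, hbinv] at hx₀
    have habab : (π sX * π s'X) * (π sX * π s'X) * (π sX * π s'X) = 1 := by
      rw [← hx₀]; simp only [mul_assoc]
    have hgen : Subgroup.closure ({π sX, π s'X} : Set (↥X ⧸ R.subgroupOf X)) = ⊤ := by
      set K := Subgroup.closure ({π sX, π s'X} : Set (↥X ⧸ R.subgroupOf X)) with hK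
      have haK : π sX ∈ K := Subgroup.subset_closure (by simp)
      have hbK : π s'X ∈ K := Subgroup.subset_closure (by simp)
      have hmemK : ∀ x : ↥X, (x : G) ∈ R → π x ∈ K := fun x hx => by
        rw [hπ1 x hx]; exact K.one_mem
      have hQM : Q ≤ (K.comap π).map X.subtype := by
        intro q hq
        rcases hA.comm q hq u hu with h1 | h1
        · have hqP : q ∈ P := (hPmem q).mpr ⟨hq, commutatorElement_eq_one_iff_mul_comm.mp h1⟩
          exact Subgroup.mem_map.mpr ⟨⟨q, hQX hq⟩, hmemK _ (hPR hqP), rfl⟩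
        · have hqu : q * u * q⁻¹ = z * u := by
            have : q * u * q⁻¹ = ⁅q, u⁆ * u := by rw [commutatorElement_def]; group
            rw [this, h1]
          have hsq : s⁻¹ * q ∈ P := by
            rw [hPmem]
            refine ⟨Q.mul_mem (Q.inv_mem hsQ) hq, ?_⟩
            have : (s⁻¹ * q) * u * (s⁻¹ * q)⁻¹ = u := conj_chain hqu (by rw [inv_inv]; exact A3)
            exact mul_inv_eq_iff_eq_mul.mp this
          refine Subgroup.mem_map.mpr
            ⟨sX * ⟨s⁻¹ * q, hQX (Q.mul_mem (Q.inv_mem hsQ) hq)⟩, ?_, ?_⟩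
          · show π (sX * _) ∈ K
            rw [map_mul]
            exact K.mul_mem haK (hmemK _ (hPR hsq))
          · show s * (s⁻¹ * q) = q
            group
      have hQ'M : Q' ≤ (K.comap π).map X.subtype := by
        intro q hq
        rcases h.Q'comm q hq z hzQ' with h1 | h1
        · have hqP : q ∈ P' := (hP'mem q).mpr ⟨hq, commutatorElement_eq_one_iff_mul_comm.mp h1⟩
          exact Subgroup.mem_map.mpr ⟨⟨q, hQ'X hq⟩, hmemK _ (hP'R hqP), rfl⟩
        · have hqz : q * z * q⁻¹ = z * u := by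
            have : q * z * q⁻¹ = ⁅q, z⁆ * z := by rw [commutatorElement_def]; group
            rw [this, h1]; exact hzu.symm
          have hsq : s'⁻¹ * q ∈ P' := by
            rw [hP'mem]
            refine ⟨Q'.mul_mem (Q'.inv_mem hs'Q) hq, ?_⟩
            have : (s'⁻¹ * q) * z * (s'⁻¹ * q)⁻¹ = z := conj_chain hqz (by rw [inv_inv]; exact A7)
            exact mul_inv_eq_iff_eq_mul.mp this
          refine Subgroup.mem_map.mpr
            ⟨s'X * ⟨s'⁻¹ * q, hQ'X (Q'.mul_mem (Q'.inv_mem hs'Q) hq)⟩, ?_, ?_⟩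
          · show π (s'X * _) ∈ K
            rw [map_mul]
            exact K.mul_mem hbK (hmemK _ (hP'R hsq))
          · show s' * (s'⁻¹ * q) = q
            group
      have hXM : X ≤ (K.comap π).map X.subtype := le_trans (le_of_eq hX) (sup_le hQM hQ'M)
      rw [eq_top_iff]
      intro d _
      obtain ⟨x, rfl⟩ := QuotientGroup.mk'_surjective (R.subgroupOf X) d
      obtain ⟨y, hy, hyx⟩ := Subgroup.mem_map.mp (hXM x.2)
      have hyx' : y = x := Subtype.ext hyx
      rw [← hyx']; exact hy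
    have hcard := card_le_six_of_gens _ _ haa hbb habab hgen
    rw [Subgroup.relIndex, Subgroup.index_eq_card]; exact hcard
  -- the index of the centralizer
  have h6X : (Subgroup.centralizer (T : Set G)).relIndex X = 6 :=
    relIndex_klein_sub_eq_six z u hA.zz huu hzu hA.z1 h.u1 (Ne.symm h.uz) X hXnT s s'
      (hQX hsQ) hsz hsu (hQ'X hs'Q) hs'u hs'z
  have h6N : (Subgroup.centralizer (T : Set G)).relIndex (Subgroup.normalizer (T : Set G)) = 6 :=
    relIndex_klein_eq_six z u hA.zz huu hzu hA.z1 h.u1 (Ne.symm h.uz) s s'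
      (hXnT (hQX hsQ)) hsz hsu (hXnT (hQ'X hs'Q)) hs'u hs'z
  have hYR : X ⊓ Subgroup.centralizer (T : Set G) ≤ R := by
    have hle1 : R ≤ X ⊓ Subgroup.centralizer (T : Set G) := le_inf hRX hRC
    have hle2 : X ⊓ Subgroup.centralizer (T : Set G) ≤ X := inf_le_left
    have hmul := Subgroup.relIndex_mul_relIndex R (X ⊓ Subgroup.centralizer (T : Set G)) X hle1 hle2
    have h6' : (X ⊓ Subgroup.centralizer (T : Set G)).relIndex X = 6 := by
      rw [inf_comm, Subgroup.inf_relIndex_right]; exact h6X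
    rw [h6'] at hmul
    have hne0 : R.relIndex (X ⊓ Subgroup.centralizer (T : Set G)) ≠ 0 := by
      unfold Subgroup.relIndex; exact Subgroup.index_ne_zero_of_finite
    have h1 : R.relIndex (X ⊓ Subgroup.centralizer (T : Set G)) = 1 := by omega
    exact Subgroup.relIndex_eq_one.mp h1
  have hNle : Subgroup.normalizer (T : Set G) ≤ X ⊔ Subgroup.centralizer (T : Set G) := by
    have hK : X ⊔ Subgroup.centralizer (T : Set G) ≤ Subgroup.normalizer (T : Set G) :=
      sup_le hXnT (Subgroup.centralizer_le_normalizer _)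
    have h6K : (Subgroup.centralizer (T : Set G)).relIndex
        (X ⊔ Subgroup.centralizer (T : Set G)) = 6 :=
      relIndex_klein_sub_eq_six z u hA.zz huu hzu hA.z1 h.u1 (Ne.symm h.uz) _ hK s s'
        (Subgroup.mem_sup_left (hQX hsQ)) hsz hsu (Subgroup.mem_sup_left (hQ'X hs'Q)) hs'u hs'z
    have hmul := Subgroup.relIndex_mul_relIndex (Subgroup.centralizer (T : Set G))
      (X ⊔ Subgroup.centralizer (T : Set G)) (Subgroup.normalizer (T : Set G)) le_sup_right hK
    rw [h6K, h6N] at hmul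
    have h1 : (X ⊔ Subgroup.centralizer (T : Set G)).relIndex
        (Subgroup.normalizer (T : Set G)) = 1 := by omega
    exact Subgroup.relIndex_eq_one.mp h1
  have hCnX : Subgroup.centralizer (T : Set G) ≤ Subgroup.normalizer (X : Set G) := by
    intro c hc
    have hcz : c * z = z * c := (Subgroup.mem_centralizer_iff.mp hc z hzT).symm
    have hcu : c * u = u * c := (Subgroup.mem_centralizer_iff.mp hc u huT).symm
    rw [hX]
    exact mem_normalizer_sup (h.nQ c hcz) (h.nQ' c hcu)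
  exact ⟨hRX, hXnR, hXnT, hRC, hYR, hNle, hCnX, hzT,
    exists_hom_perm_three z u hA.zz huu hzu hA.z1 h.u1 (Ne.symm h.uz) X hXnT h6X⟩

/-- the theorem (= S5430) -/
theorem cfg_X {G : Type*} [Group G] [Finite G] (Q : Subgroup G) (z g : G) (h : Cfg Q z g)
    (V X R : Subgroup G) (hV : V = Subgroup.closure ({z, g * z * g⁻¹} : Set G))
    (hX : X = Q ⊔ (Q).map (MulAut.conj g).toMonoidHom)
    (hR : R = ((Q).map (MulAut.conj g).toMonoidHom ⊓ Subgroup.centralizer ({z} : Set G)) ⊔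
      (Q ⊓ Subgroup.centralizer ({g * z * g⁻¹} : Set G))) :
    R = X ⊓ Subgroup.centralizer (V : Set G) ∧ R = (Cfsg.pCore 2 ↥X).map X.subtype ∧
    (∃ h : (R.subgroupOf X).Normal, Nonempty (↥X ⧸ R.subgroupOf X ≃* Equiv.Perm (Fin 3))) ∧
    Subgroup.normalizer (V : Set G) =
      X ⊔ (Subgroup.centralizer ({z} : Set G) ⊓ Subgroup.centralizer (V : Set G)) ∧
    (∀ y ∈ Subgroup.normalizer (V : Set G), ∀ x ∈ X, y * x * y⁻¹ ∈ X) ∧
    R ≤ Subgroup.centralizer ({z} : Set G) ⊓ Subgroup.centralizer (V : Set G) ∧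
    (∀ x ∈ X, ∀ c ∈ Subgroup.centralizer ({z} : Set G) ⊓ Subgroup.centralizer (V : Set G),
      x * c * x⁻¹ * c⁻¹ ∈ R) ∧
    X ⊓ (Subgroup.centralizer ({z} : Set G) ⊓ Subgroup.centralizer (V : Set G)) = R := by
  haveI : Fact (Nat.Prime 2) := ⟨Nat.prime_two⟩
  obtain ⟨hRX, hXnR, hXnV, hRC, hYR, hNle, hCnX, hzV, φ, hφs, hφk⟩ :=
    cfg_X_core Q z g h V X R hV hX hR
  obtain ⟨-, -, -, hd, he, -, -⟩ :=
    cfg_R Q z g h V X R (Q ⊓ (Q).map (MulAut.conj g).toMonoidHom) hV hX hR rfl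
  have hR2 : IsPGroup 2 ↥R := by
    intro x
    refine ⟨2, ?_⟩
    have h1 := (he x x.2 x x.2).2
    have h2 := hd.2 _ h1
    apply Subtype.ext
    rw [Subgroup.coe_pow, Subgroup.coe_one]
    calc (x : G) ^ 2 ^ 2 = ((x : G) ^ 2) ^ 2 := by rw [← pow_mul]; norm_num
      _ = 1 := h2
  have hCz : Subgroup.centralizer ({z} : Set G) ⊓ Subgroup.centralizer (V : Set G) =
      Subgroup.centralizer (V : Set G) := by
    apply inf_eq_right.mpr
    apply Subgroup.centralizer_le
    intro y hy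
    rw [Set.mem_singleton_iff] at hy
    rw [hy]; exact hzV
  have h1 : R = X ⊓ Subgroup.centralizer (V : Set G) := le_antisymm (le_inf hRX hRC) hYR
  have hRn : (R.subgroupOf X).Normal :=
    (Subgroup.normal_subgroupOf_iff_le_normalizer hRX).mpr hXnR
  have hRk : R.subgroupOf X = φ.ker := by
    rw [hφk, h1, Subgroup.inf_subgroupOf_left]
  have hNX : Subgroup.normalizer (V : Set G) ≤ Subgroup.normalizer (X : Set G) :=
    hNle.trans (sup_le Subgroup.le_normalizer hCnX)
  rw [hCz]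
  refine ⟨h1, ?_, ⟨hRn, ?_⟩, ?_, ?_, hRC, ?_, h1.symm⟩
  · have hR2' : IsPGroup 2 ↥(R.subgroupOf X) := hR2.comap_subtype
    have hle : R.subgroupOf X ≤ Cfsg.pCore 2 ↥X := Cfsg.Agent.Lib.Helper16.le_pCore hRn hR2'
    have hge : Cfsg.pCore 2 ↥X ≤ R.subgroupOf X := by
      have hOn : (Cfsg.pCore 2 ↥X).Normal := inferInstance
      have h3 : (Cfsg.pCore 2 ↥X).map φ = ⊥ :=
        perm_three_normal_two_group _ (Subgroup.Normal.map hOn φ hφs)
          ((Cfsg.Agent.Lib.Helper16.pCore_isPGroup (G := ↥X) (p := 2)).map φ)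
      rw [hRk]
      intro x hx
      rw [MonoidHom.mem_ker]
      have h4 : φ x ∈ (Cfsg.pCore 2 ↥X).map φ := Subgroup.mem_map_of_mem φ hx
      rw [h3, Subgroup.mem_bot] at h4
      exact h4
    have heq : R.subgroupOf X = Cfsg.pCore 2 ↥X := le_antisymm hle hge
    rw [← heq, Subgroup.subgroupOf_map_subtype, inf_eq_left.mpr hRX]
  · haveI := hRn
    exact ⟨(QuotientGroup.quotientMulEquivOfEq hRk).trans
      (QuotientGroup.quotientKerEquivOfSurjective φ hφs)⟩
  · exact le_antisymm hNle (sup_le hXnV (Subgroup.centralizer_le_normalizer _))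
  · intro y hy x hx
    exact (Subgroup.mem_normalizer_iff.mp (hNX hy) x).mp hx
  · intro x hx c hc
    apply hYR
    refine ⟨?_, ?_⟩
    · have h5 : x * c * x⁻¹ * c⁻¹ = x * (c * x⁻¹ * c⁻¹) := by group
      show x * c * x⁻¹ * c⁻¹ ∈ X
      rw [h5]
      exact X.mul_mem hx ((Subgroup.mem_normalizer_iff.mp (hCnX hc) x⁻¹).mp (X.inv_mem hx))
    · show x * c * x⁻¹ * c⁻¹ ∈ Subgroup.centralizer (V : Set G)
      exact Subgroup.mul_mem _ (conj_mem_centralizer (hXnV hx) hc) (Subgroup.inv_mem _ hc)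

end Cfsg.Agent.Lib.Helper20.ES
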