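import Mathlib
import Cfsg.Prelude.Def_CaseTheorems
import Cfsg.Agent.Lib.Helper20.ESTwoClass
import Cfsg.Agent.Lib.Helper27.HeisForms

/-!
Helper lemmas (helper20): elementary abelian subgroups of extraspecial 2-groups and the 2-rank.
-/

set_option autoImplicit false
open scoped commutatorElement

namespace Cfsg.Agent.Lib.Helper20.ES

universe u v

/-- extend an elementary abelian 2-subgroup by a commuting involution outside it -/
theorem exists_extend {E : Type*} [Group E] (B : Subgroup E) [Finite B]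
    (hBc : ∀ a ∈ B, ∀ b ∈ B, a * b = b * a) (hB2 : ∀ a ∈ B, a ^ 2 = 1) {x : E} (hx : x ^ 2 = 1)
    (hxB : x ∉ B) (hxc : ∀ b ∈ B, x * b = b * x) :
    ∃ A : Subgroup E, B ≤ A ∧ (∀ a ∈ A, ∀ b ∈ A, a * b = b * a) ∧ (∀ a ∈ A, a ^ 2 = 1) ∧
      Nat.card A = 2 * Nat.card B := by
  have hx1 : x ≠ 1 := fun h => hxB (h ▸ B.one_mem)
  have hw : ∀ w ∈ Subgroup.zpowers x, w = 1 ∨ w = x := by
    intro w hw
    obtain ⟨k, rfl⟩ := Subgroup.mem_zpowers_iff.mp hw
    rcases Int.even_or_odd' k with ⟨m, rfl | rfl⟩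
    · left; rw [zpow_mul, zpow_ofNat, hx, one_zpow]
    · right; rw [zpow_add, zpow_mul, zpow_ofNat, hx, one_zpow, one_mul, zpow_one]
  have hcomm : ∀ (b : B) (w : Subgroup.zpowers x), Commute (B.subtype b) ((Subgroup.zpowers x).subtype w) := by
    intro b w
    rcases hw w w.2 with h1 | h1
    · show (b : E) * (w : E) = (w : E) * (b : E)
      rw [h1, mul_one, one_mul]
    · show (b : E) * (w : E) = (w : E) * (b : E)
      rw [h1]; exact (hxc b b.2).symm
  let ψ : B × Subgroup.zpowers x →* E :=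
    MonoidHom.noncommCoprod B.subtype (Subgroup.zpowers x).subtype hcomm
  have hψ : ∀ b w, ψ (b, w) = (b : E) * (w : E) := fun b w => rfl
  have hinj : Function.Injective ψ := by
    rw [injective_iff_map_eq_one]
    rintro ⟨b, w⟩ h1
    rw [hψ] at h1
    rcases hw w w.2 with h2 | h2
    · rw [h2, mul_one] at h1
      exact Prod.ext (Subtype.ext h1) (Subtype.ext h2)
    · exfalso
      rw [h2] at h1
      have : x = (b : E)⁻¹ := eq_inv_of_mul_eq_one_right h1
      exact hxB (this ▸ B.inv_mem b.2)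
  have hcomm2 : ∀ t t' : B × Subgroup.zpowers x, t * t' = t' * t := by
    rintro ⟨b, w⟩ ⟨b', w'⟩
    refine Prod.ext (Subtype.ext (hBc b b.2 b' b'.2)) (Subtype.ext ?_)
    show (w : E) * (w' : E) = (w' : E) * (w : E)
    rcases hw w w.2 with h1 | h1 <;> rcases hw w' w'.2 with h2 | h2 <;> rw [h1, h2] <;> simp
  have hsq : ∀ t : B × Subgroup.zpowers x, t ^ 2 = 1 := by
    rintro ⟨b, w⟩
    refine Prod.ext (Subtype.ext ?_) (Subtype.ext ?_)
    · show ((b ^ 2 : B) : E) = 1
      rw [Subgroup.coe_pow]; exact hB2 b b.2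
    · show ((w ^ 2 : Subgroup.zpowers x) : E) = 1
      rw [Subgroup.coe_pow]
      rcases hw w w.2 with h1 | h1 <;> rw [h1]
      · exact one_pow 2
      · exact hx
  refine ⟨ψ.range, ?_, ?_, ?_, ?_⟩
  · intro b hb
    exact ⟨(⟨b, hb⟩, 1), by rw [hψ]; simp⟩
  · rintro _ ⟨t, rfl⟩ _ ⟨t', rfl⟩
    rw [← map_mul, ← map_mul, hcomm2]
  · rintro _ ⟨t, rfl⟩
    rw [← map_pow, hsq, map_one]
  · rw [← Nat.card_congr (MonoidHom.ofInjective hinj).toEquiv, Nat.card_prod, Nat.card_zpowers,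
      orderOf_eq_prime hx hx1, mul_comm]

/-- large elementary abelian subgroups of extraspecial-type 2-groups -/
theorem exists_elemAb :
    ∀ (n : ℕ) {E : Type u} [Group E] [Finite E] (z : E),
      ESData 2 E z → (∃ x y : E, ⁅x, y⁆ ≠ 1) → Nat.card E = n →
      ∃ (m : ℕ) (A : Subgroup E), 1 ≤ m ∧ n = 2 ^ (2 * m + 1) ∧ z ∈ A ∧
        (∀ a ∈ A, ∀ b ∈ A, a * b = b * a) ∧ (∀ a ∈ A, a ^ 2 = 1) ∧
        ((Nat.card {e : E // e ^ 2 = 1} = 2 ^ (2 * m) + 2 ^ m ∧ Nat.card A = 2 ^ (m + 1)) ∨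
          (Nat.card {e : E // e ^ 2 = 1} = 2 ^ (2 * m) - 2 ^ m ∧ Nat.card A = 2 ^ m)) := by
  haveI : Fact (Nat.Prime 2) := ⟨Nat.prime_two⟩
  intro n
  induction n using Nat.strong_induction_on with
  | _ n ih =>
    intro E _ _ z h hna hcE
    have hZc : ∀ a ∈ Subgroup.zpowers z, ∀ b ∈ Subgroup.zpowers z, a * b = b * a := by
      intro a ha b hb
      obtain ⟨i, rfl⟩ := Subgroup.mem_zpowers_iff.mp ha
      obtain ⟨j, rfl⟩ := Subgroup.mem_zpowers_iff.mp hb
      exact ((Commute.refl z).zpow_zpow i j).eq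
    have hZ2 : ∀ a ∈ Subgroup.zpowers z, a ^ 2 = 1 := by
      intro a ha
      rcases h.mem_zpowers_two ha with rfl | rfl
      · exact one_pow 2
      · exact h.z_pow
    by_cases hE : ∃ x : E, x ^ 2 = 1 ∧ x ∉ Subgroup.zpowers z
    · obtain ⟨x, hx, hxz⟩ := hE
      obtain ⟨y, hy, hxy⟩ := h.exists_invol_pair hx hxz
      have hcC := h.card_eq_sq_mul_card_cent hxy
      have hNC := h.count_sq hx hy hxy
      have hxC : x ∉ ESData.cent x y := by
        intro hxC
        have h6 : ⁅y, x⁆ = 1 := (ESData.mem_cent.mp hxC).2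
        rw [← commutatorElement_inv, hxy, h.z_inv] at h6
        exact h.z_ne h6
      have hxcomm : ∀ b ∈ ESData.cent x y, x * b = b * x := by
        intro b hb
        rw [← commutatorElement_eq_one_iff_mul_comm]; exact (ESData.mem_cent.mp hb).1
      by_cases hc : ∀ a ∈ ESData.cent x y, ∀ b ∈ ESData.cent x y, a * b = b * a
      · have hC := h.cent_eq_of_comm hxy hc
        have hcC' : Nat.card (ESData.cent x y) = 2 := by rw [hC, h.card_zpowers]
        have hN2 := h.card_sq_cent_of_comm hC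
        obtain ⟨A, hBA, hAc, hA2, hAcard⟩ := exists_extend (Subgroup.zpowers z) hZc hZ2 hx
          (by rw [← hC]; exact hxC) (by rw [← hC]; exact hxcomm)
        refine ⟨1, A, le_refl 1, ?_, hBA (Subgroup.mem_zpowers z), hAc, hA2, Or.inl ⟨?_, ?_⟩⟩
        · rw [← hcE, hcC, hcC']; norm_num
        · rw [hNC, hN2, hcC']; norm_num
        · rw [hAcard, h.card_zpowers]; norm_num
      · have hlt : Nat.card (ESData.cent x y) < n := by
          rw [← hcE, hcC]
          have hpos : 0 < Nat.card (ESData.cent x y) := Nat.card_pos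
          omega
        obtain ⟨m', A', hm', hcm', hzA', hA'c, hA'2, hcase⟩ :=
          ih _ hlt (⟨z, h.z_mem_cent x y⟩ : ESData.cent x y)
          (h.esData_cent hxy) (exists_comm_ne_one_of_noncomm _ hc) rfl
        have hBle : A'.map (ESData.cent x y).subtype ≤ ESData.cent x y := by
          rintro _ ⟨a, -, rfl⟩
          exact a.2
        have hBc : ∀ a ∈ A'.map (ESData.cent x y).subtype,
            ∀ b ∈ A'.map (ESData.cent x y).subtype, a * b = b * a := by
          rintro _ ⟨a, ha, rfl⟩ _ ⟨b, hb, rfl⟩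
          exact congrArg Subtype.val (hA'c a ha b hb)
        have hB2 : ∀ a ∈ A'.map (ESData.cent x y).subtype, a ^ 2 = 1 := by
          rintro _ ⟨a, ha, rfl⟩
          have := congrArg Subtype.val (hA'2 a ha)
          rwa [Subgroup.coe_pow] at this
        have hBcard : Nat.card (A'.map (ESData.cent x y).subtype) = Nat.card A' :=
          Subgroup.card_subtype _ _
        obtain ⟨A, hBA, hAc, hA2, hAcard⟩ :=
          exists_extend (A'.map (ESData.cent x y).subtype) hBc hB2 hx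
            (fun hxB => hxC (hBle hxB)) (fun b hb => hxcomm b (hBle hb))
        have e1 : (2 : ℕ) ^ (2 * (m' + 1) + 1) = 4 * 2 ^ (2 * m' + 1) := by
          rw [show 2 * (m' + 1) + 1 = (2 * m' + 1) + 2 by ring, pow_add]; ring
        have e2 : (2 : ℕ) ^ (2 * (m' + 1)) = 4 * 2 ^ (2 * m') := by
          rw [show 2 * (m' + 1) = 2 * m' + 2 by ring, pow_add]; ring
        have e3 : (2 : ℕ) ^ (m' + 1) = 2 * 2 ^ m' := by rw [pow_succ]; ring
        have e4 : (2 : ℕ) ^ (2 * m' + 1) = 2 * 2 ^ (2 * m') := by rw [pow_succ]; ring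
        have e5 : (2 : ℕ) ^ m' ≤ 2 ^ (2 * m') := Nat.pow_le_pow_right (by norm_num) (by omega)
        have e6 : (2 : ℕ) ^ (m' + 1 + 1) = 2 * 2 ^ (m' + 1) := by rw [pow_succ]; ring
        refine ⟨m' + 1, A, by omega, ?_, hBA ⟨⟨z, h.z_mem_cent x y⟩, hzA', rfl⟩, hAc, hA2, ?_⟩
        · rw [← hcE, hcC, hcm', e1]; norm_num
        · rw [hNC, hcm', hAcard, hBcard, e2, e6, e3, e4]
          rcases hcase with ⟨h1, h2⟩ | ⟨h1, h2⟩
          · left; rw [h1, h2, e3]; constructor <;> ring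
          · right; rw [h1, h2]; constructor
            · omega
            · rfl
    · push Not at hE
      have hE' : ∀ e : E, e ^ 2 = 1 → e ∈ Subgroup.zpowers z := hE
      obtain ⟨x, y₀, hxy₀⟩ := hna
      obtain ⟨j, hxy⟩ := h.exists_pair hxy₀
      obtain ⟨-, -, hC⟩ := h.quat_case hE' hxy
      have hcC := h.card_eq_sq_mul_card_cent hxy
      have hcC' : Nat.card (ESData.cent x (y₀ ^ j)) = 2 := by rw [hC, h.card_zpowers]
      refine ⟨1, Subgroup.zpowers z, le_refl 1, ?_, Subgroup.mem_zpowers z, hZc, hZ2,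
        Or.inr ⟨?_, ?_⟩⟩
      · rw [← hcE, hcC, hcC']; norm_num
      · rw [h.card_sq_of_quat hE']; norm_num
      · rw [h.card_zpowers]; norm_num

theorem isMulCommutative_of {E : Type*} [Group E] (A : Subgroup E)
    (h : ∀ a ∈ A, ∀ b ∈ A, a * b = b * a) : IsMulCommutative A :=
  ⟨⟨fun a b => Subtype.ext (h a a.2 b b.2)⟩⟩

theorem prankLE_succ {E : Type*} [Group E] [Finite E] (hE : Cfsg.IsExtraspecial 2 E) (n : ℕ)
    (hn : Nat.card E = 2 ^ (2 * n + 1)) : Cfsg.PRankLE 2 (n + 1) E := by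
  haveI : Fact (Nat.Prime 2) := ⟨Nat.prime_two⟩
  intro A hAc hA2
  obtain ⟨k, hk⟩ := (hE.1.1.to_subgroup A).exists_card_eq
  have := Cfsg.Agent.Lib.Helper27.rank_le_of_extraspecial hE n hn A ⟨hAc, hA2⟩ k hk
  rw [hk]
  exact Nat.pow_le_pow_right (by norm_num) this

theorem pow_two_injective' {a b : ℕ} (h : (2 : ℕ) ^ (2 * a + 1) = 2 ^ (2 * b + 1)) : a = b := by
  have := Nat.pow_right_injective (le_refl 2) h
  omega

/-- plus type iff the 2-rank exceeds `n` -/
theorem plus_iff_not_prankLE {E : Type*} [Group E] [Finite E] (hE : Cfsg.IsExtraspecial 2 E) (n : ℕ)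
    (hn : Nat.card E = 2 ^ (2 * n + 1)) :
    Nat.card {e : E // e ^ 2 = 1} = 2 ^ (2 * n) + 2 ^ n ↔ ¬ Cfsg.PRankLE 2 n E := by
  haveI : Fact (Nat.Prime 2) := ⟨Nat.prime_two⟩
  obtain ⟨z, hz⟩ := exists_esData hE
  have hna := exists_comm_ne_one hE
  have hpos : 0 < (2 : ℕ) ^ n := pow_pos (by norm_num) n
  have hle : (2 : ℕ) ^ n ≤ 2 ^ (2 * n) := Nat.pow_le_pow_right (by norm_num) (by omega)
  constructor
  · intro hN hP
    obtain ⟨m, A, -, hcm, -, hAc, hA2, hcase⟩ := exists_elemAb (Nat.card E) z hz hna rfl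
    have hmn : m = n := pow_two_injective' (hcm.symm.trans hn)
    subst hmn
    rcases hcase with ⟨-, h2⟩ | ⟨h1, -⟩
    · have := hP A (isMulCommutative_of A hAc) hA2
      rw [h2, pow_succ] at this
      omega
    · rw [hN] at h1
      omega
  · intro hP
    unfold Cfsg.PRankLE at hP
    push Not at hP
    obtain ⟨A, hAc, hA2, hlt⟩ := hP
    obtain ⟨k, hk⟩ := (hE.1.1.to_subgroup A).exists_card_eq
    have hk1 := Cfsg.Agent.Lib.Helper27.rank_le_of_extraspecial hE n hn A ⟨hAc, hA2⟩ k hk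
    have hk2 : n < k := by
      rw [hk] at hlt
      exact (Nat.pow_lt_pow_iff_right (by norm_num)).mp hlt
    have hkn : k = n + 1 := by omega
    subst hkn
    have h4 := Cfsg.Agent.Lib.Helper16.extraspecial_plus_count n hE hn A ⟨hAc, hA2⟩ hk
    have hiff : ∀ x : E, orderOf x = 4 ↔ ¬ x ^ 2 = 1 := by
      intro x
      rw [Cfsg.Agent.Lib.Helper16.extraspecial_order_four_iff hz.z_ne
        (by rw [← pow_two]; exact hz.z_pow)
        (fun w hw => hz.mem_zpowers_two (hz.center_le w hw))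
        (fun x => hz.zpowers_le_center (hz.pow_mem x)) x]
      rcases hz.sq_eq x with h1 | h1
      · rw [h1]
        exact ⟨fun h => absurd h.symm hz.z_ne, fun h => absurd rfl h⟩
      · rw [h1]
        exact ⟨fun _ => hz.z_ne, fun _ => rfl⟩
    have hcompl : Nat.card {x : E // orderOf x = 4} =
        Nat.card E - Nat.card {e : E // e ^ 2 = 1} := by
      classical
      haveI := Fintype.ofFinite E
      rw [Nat.card_congr (Equiv.subtypeEquivRight hiff), Nat.card_eq_fintype_card,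
        Nat.card_eq_fintype_card, Nat.card_eq_fintype_card, Fintype.card_subtype_compl]
    have hle2 : Nat.card {e : E // e ^ 2 = 1} ≤ Nat.card E :=
      Nat.card_le_card_of_injective _ Subtype.val_injective
    have e4 : (2 : ℕ) ^ (2 * n + 1) = 2 * 2 ^ (2 * n) := by rw [pow_succ]; ring
    rw [hcompl, hn, e4] at h4
    rw [hn, e4] at hle2
    omega

end Cfsg.Agent.Lib.Helper20.ES
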