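import Mathlib
import Cfsg.Prelude.Def_Local
import Cfsg.Agent.Lib.Helper20.ExpPLenC

/-!
Helper lemmas (helper20): the Hall–Higman exponent step when the `p'`-Sylow subgroups are abelian (main argument).
-/

set_option autoImplicit false
open scoped BigOperators

namespace Cfsg.Agent.Lib.Helper20.ExpPLen

open Cfsg

variable {X : Type*} [Group X] [Finite X]

/-- a `ȳ`-invariant abelian subgroup `A ≠ 1` of `X / O_p(X)` of order prime to `p` on which `ȳ ^ (p ^ n)` has no
nontrivial fixed point cannot exist when the `p`-elements of `X` have order dividing `p ^ (n + 1)` -/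
theorem no_fpf_sub (p : ℕ) [hp : Fact p.Prime] [hn : (pCore p X).Normal]
    (hsol : IsPSolvable p X) (hO : pPrimeCore p X = ⊥) (n : ℕ) (hexp : PExp p (n + 1) X)
    (y : X) (hy : y ^ p ^ (n + 1) = 1)
    (A : Subgroup (X ⧸ pCore p X)) (hAc : (Nat.card A).Coprime p)
    (hAinv : ∀ a ∈ A, (QuotientGroup.mk y : X ⧸ pCore p X) * a * (QuotientGroup.mk y : X ⧸ pCore p X)⁻¹ ∈ A)
    (hAfpf : ∀ a ∈ A, (QuotientGroup.mk y : X ⧸ pCore p X) ^ p ^ n * a =
      a * (QuotientGroup.mk y : X ⧸ pCore p X) ^ p ^ n → a = 1)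
    (hznc : (QuotientGroup.mk y : X ⧸ pCore p X) ^ p ^ n ≠ 1) : A = ⊥ := by
  have hR : IsPGroup p ↥(pCore p X) := Cfsg.Agent.Lib.Helper1.pCore_isPGroup p X
  letI := Cfsg.Agent.Lib.Helper26.fqCommGroup hR
  set yb : X ⧸ pCore p X := QuotientGroup.mk y with hyb
  have hybm : yb ^ p ^ (n + 1) = 1 := by
    rw [hyb, ← QuotientGroup.mk_pow, hy]; rfl
  have hm1 : 1 ≤ p ^ (n + 1) := Nat.one_le_pow _ _ hp.out.pos
  -- the Frobenius sum argument
  have hact : ∀ a ∈ A, ∀ t : Additive (↥(pCore p X) ⧸ frattini ↥(pCore p X)), fqRho p a t = t := by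
    apply Cfsg.Agent.Lib.Helper12.apply_eq_of_frobenius_sum (fqRho p) A yb (p ^ (n + 1) - 1) (fun _ => 1) hAinv
    · intro i hi1 hi a ha hc
      apply hAfpf a ha
      exact (commute_pow_of_commute_pow hp.out n yb a hybm i hi1 (by omega) hc).eq
    · rw [Nat.sub_add_cancel hm1]
      simp only [one_smul]
      refine AddMonoidHom.ext (fun t => ?_)
      obtain ⟨w, rfl⟩ := Additive.ofMul.surjective t
      obtain ⟨v, rfl⟩ := QuotientGroup.mk_surjective w
      have hs := sum_fqRho_apply p y v (p ^ (n + 1))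
      rw [← hyb] at hs
      refine hs.trans ?_
      -- the product of conjugates is trivial
      have hvy : ∃ j : ℕ, ((v : X) * y) ^ p ^ j = 1 := by
        have h1 : ((v : X) * y) ^ p ^ (n + 1) ∈ pCore p X := by
          rw [← QuotientGroup.eq_one_iff, QuotientGroup.mk_pow, QuotientGroup.mk_mul,
            (QuotientGroup.eq_one_iff (v : X)).mpr v.2, one_mul]
          exact hybm
        obtain ⟨k, hk⟩ := hR ⟨_, h1⟩
        refine ⟨n + 1 + k, ?_⟩
        have hk' : (((v : X) * y) ^ p ^ (n + 1)) ^ p ^ k = 1 := congrArg Subtype.val hk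
        rw [pow_add, pow_mul]
        exact hk'
      have h2 := hexp _ hvy
      rw [mul_pow_eq_conjProd, hy, mul_one] at h2
      have h3 : (⟨conjProd (v : X) y (p ^ (n + 1)), conjProd_mem (pCore p X) (v : X) y v.2 (p ^ (n + 1))⟩ :
          ↥(pCore p X)) = 1 := Subtype.ext h2
      rw [h3]
      rfl
    · left; rfl
    · intro t ht
      obtain ⟨w, rfl⟩ := Additive.ofMul.surjective t
      have h1 : w ^ Nat.card A = 1 := by
        have : Additive.ofMul (w ^ Nat.card A) = 0 := by rw [ofMul_pow]; exact ht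
        exact this
      have h2 : w ^ p = 1 := Cfsg.Agent.Lib.Helper26.fq_pow hR w
      have h3 : w ^ Nat.gcd (Nat.card A) p = 1 := pow_gcd_eq_one.mpr ⟨h1, h2⟩
      rw [hAc, pow_one] at h3
      rw [h3]; rfl
  -- hence `A` is trivial
  rw [eq_bot_iff]
  intro a ha
  rw [Subgroup.mem_bot]
  obtain ⟨g, rfl⟩ := QuotientGroup.mk_surjective a
  have htriv : ∀ v : ↥(pCore p X), v⁻¹ * (MulAut.conjNormal (H := pCore p X) g) v ∈ frattini ↥(pCore p X) := by
    intro v
    have h1 := hact _ ha (Additive.ofMul (QuotientGroup.mk v))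
    rw [fqRho_mk] at h1
    have h2 : (QuotientGroup.mk ((MulAut.conjNormal (H := pCore p X) g) v) :
        ↥(pCore p X) ⧸ frattini ↥(pCore p X)) = QuotientGroup.mk v := Additive.ofMul.injective h1
    exact QuotientGroup.eq.mp h2.symm
  obtain ⟨k, hk⟩ := Cfsg.Agent.Lib.Helper26.exists_pow_eq_one_of_frattini hR _ htriv
  have hcent : g ^ p ^ k ∈ Subgroup.centralizer ((pCore p X : Subgroup X) : Set X) := by
    rw [Subgroup.mem_centralizer_iff]
    intro r hr
    have h1 : (MulAut.conjNormal (H := pCore p X) (g ^ p ^ k)) ⟨r, hr⟩ = ⟨r, hr⟩ := by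
      rw [map_pow, hk]; rfl
    have h2 : g ^ p ^ k * r * (g ^ p ^ k)⁻¹ = r := congrArg Subtype.val h1
    calc r * g ^ p ^ k = (g ^ p ^ k * r * (g ^ p ^ k)⁻¹) * g ^ p ^ k := by rw [h2]
      _ = g ^ p ^ k * r := by group
  have hmem : g ^ p ^ k ∈ pCore p X :=
    Cfsg.Agent.Lib.Helper12.centralizer_pCore_le_pCore p hsol hO hcent
  have h1 : (QuotientGroup.mk g : X ⧸ pCore p X) ^ p ^ k = 1 := by
    rw [← QuotientGroup.mk_pow]; exact (QuotientGroup.eq_one_iff _).mpr hmem
  have h2 : (QuotientGroup.mk g : X ⧸ pCore p X) ^ Nat.card A = 1 := by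
    have := pow_card_eq_one' (G := ↥A) (x := ⟨_, ha⟩)
    exact congrArg Subtype.val this
  exact Cfsg.Agent.Lib.Helper12.eq_one_of_pow_eq_one_of_coprime _ k _ h1 h2 hAc

end Cfsg.Agent.Lib.Helper20.ExpPLen
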