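import Mathlib
import Cfsg.Prelude.Def_Local
import Cfsg.Agent.Lib.Helper20.ExpPLenD

/-!
Helper lemmas (helper20): the Hall–Higman exponent step when the `p'`-Sylow subgroups are abelian, and the resulting
bound `p`-length ≤ `n` when the Sylow `p`-subgroups have exponent dividing `p ^ n`.
-/

set_option autoImplicit false
open scoped BigOperators

namespace Cfsg.Agent.Lib.Helper20.ExpPLen

open Cfsg

universe u

/-- the exponent step -/
theorem core_step {X : Type*} [Group X] [Finite X] (p : ℕ) [hp : Fact p.Prime] [hn : (pCore p X).Normal]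
    (hsol : IsPSolvable p X) (hO : pPrimeCore p X = ⊥) (hq : QAb p X) (n : ℕ)
    (hexp : PExp p (n + 1) X) : PExp p n (X ⧸ pCore p X) := by
  apply pexp_of_lift hp.out n (QuotientGroup.mk' (pCore p X)) (QuotientGroup.mk'_surjective _)
  intro y hyp
  have hy : y ^ p ^ (n + 1) = 1 := hexp y hyp
  by_contra hznc
  set yb : X ⧸ pCore p X := QuotientGroup.mk y with hyb
  have hznc' : yb ^ p ^ n ≠ 1 := hznc
  set zb : X ⧸ pCore p X := yb ^ p ^ n with hzb
  have hybm : yb ^ p ^ (n + 1) = 1 := by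
    rw [hyb, ← QuotientGroup.mk_pow, hy]; rfl
  have hzp : zb ^ p = 1 := by
    rw [hzb, ← pow_mul, ← pow_succ]; exact hybm
  have hyz : yb * zb = zb * yb := (Commute.self_pow yb _).eq
  -- the quotient
  have hsol' : IsPSolvable p (X ⧸ pCore p X) :=
    Cfsg.Agent.Lib.Helper24.isPSolvable_of_surjective p _ (QuotientGroup.mk'_surjective _) hsol
  have hOp : pCore p (X ⧸ pCore p X) = ⊥ := pcore_quot_eq_bot p
  set K : Subgroup (X ⧸ pCore p X) := pPrimeCore p (X ⧸ pCore p X) with hK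
  haveI hKn : K.Normal := Cfsg.Agent.Lib.Helper24.pPrimeCore_normal' p
  have hKc : (Nat.card K).Coprime p := Cfsg.Agent.Lib.Helper12.pPrimeCore_coprime p
  have hCK : Subgroup.centralizer (K : Set (X ⧸ pCore p X)) ≤ K :=
    Cfsg.Agent.Lib.Helper8.DualHH.centralizer_pPrimeCore_le p hsol' hOp
  -- elements of `K` killed by `p` are trivial
  have htorK : ∀ c ∈ K, c ^ p = 1 → c = 1 := by
    intro c hc hcp
    have h1 : c ^ Nat.card K = 1 := by
      have := pow_card_eq_one' (G := ↥K) (x := ⟨c, hc⟩)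
      exact congrArg Subtype.val this
    have h2 : c ^ Nat.gcd (Nat.card K) p = 1 := pow_gcd_eq_one.mpr ⟨h1, hcp⟩
    rwa [hKc, pow_one] at h2
  have hzK : zb ∉ K := fun h => hznc' (htorK zb h hzp)
  have hznc2 : ∃ k ∈ K, zb * k ≠ k * zb := by
    by_contra hcon
    push Not at hcon
    apply hzK
    apply hCK
    rw [Subgroup.mem_centralizer_iff]
    intro k hk
    exact (hcon k hk).symm
  -- the acting cyclic group
  set A₀ : Subgroup (X ⧸ pCore p X) := Subgroup.zpowers yb with hA₀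
  have hA₀norm : A₀ ≤ Subgroup.normalizer (K : Set (X ⧸ pCore p X)) := by
    rw [Subgroup.normalizer_eq_top]; exact le_top
  have hA₀p : IsPGroup p A₀ := by
    rintro ⟨x, hx⟩
    obtain ⟨k, rfl⟩ := Subgroup.mem_zpowers_iff.mp hx
    refine ⟨n + 1, Subtype.ext ?_⟩
    show (yb ^ k) ^ p ^ (n + 1) = 1
    rw [← zpow_natCast, ← zpow_mul, mul_comm, zpow_mul, zpow_natCast, hybm, one_zpow]
  have hcop : (Nat.card A₀).Coprime (Nat.card K) := by
    obtain ⟨e, he⟩ := IsPGroup.iff_card.mp hA₀p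
    rw [he]
    exact Nat.Coprime.pow_left e hKc.symm
  have hsolvA : Group.IsSolvable A₀ := by
    haveI : IsMulCommutative A₀ := inferInstance
    exact isSolvable_of_comm (fun a b => mul_comm' a b)
  have hybA : yb ∈ A₀ := Subgroup.mem_zpowers yb
  have hzbA : zb ∈ A₀ := A₀.pow_mem hybA _
  -- an invariant Sylow subgroup of `K` not centralized by `zb`
  have hexQ : ∃ (q : ℕ) (_ : q.Prime) (Q : Subgroup (X ⧸ pCore p X)), Q ≤ K ∧ IsPGroup q Q ∧
      A₀ ≤ Subgroup.normalizer (Q : Set (X ⧸ pCore p X)) ∧ ∃ b ∈ Q, zb * b ≠ b * zb := by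
    by_contra hcon
    push Not at hcon
    have hC : (Subgroup.centralizer ({zb} : Set (X ⧸ pCore p X))).subgroupOf K = ⊤ := by
      apply Cfsg.Agent.Lib.Helper1.eq_top_of_forall_sylow_le
      intro q hqf
      obtain ⟨P, hP⟩ := Cfsg.Agent.S0023.result A₀ K hA₀norm hcop (Or.inl hsolvA) q
      refine ⟨P, ?_⟩
      intro x hx
      rw [Subgroup.mem_subgroupOf, Subgroup.mem_centralizer_singleton_iff]
      have h1 := hcon q hqf.out ((P : Subgroup K).map K.subtype) (Subgroup.map_subtype_le _)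
        (P.2.map _) hP (x : X ⧸ pCore p X) ⟨x, hx, rfl⟩
      exact h1.symm
    obtain ⟨k, hk, hne⟩ := hznc2
    have h1 : (⟨k, hk⟩ : ↥K) ∈ (Subgroup.centralizer ({zb} : Set (X ⧸ pCore p X))).subgroupOf K := by
      rw [hC]; exact Subgroup.mem_top _
    rw [Subgroup.mem_subgroupOf, Subgroup.mem_centralizer_singleton_iff] at h1
    exact hne h1.symm
  obtain ⟨q, hqprime, Q, hQK, hQq, hQnorm, b, hb, hbne⟩ := hexQ
  -- `q ≠ p`
  have hqp : q ≠ p := by
    rintro rfl
    apply hbne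
    have hb1 : b = 1 := by
      obtain ⟨k, hk⟩ := hQq ⟨b, hb⟩
      have hk' : b ^ q ^ k = 1 := congrArg Subtype.val hk
      have h1 : b ^ Nat.card K = 1 := by
        have := pow_card_eq_one' (G := ↥K) (x := ⟨b, hQK hb⟩)
        exact congrArg Subtype.val this
      exact Cfsg.Agent.Lib.Helper12.eq_one_of_pow_eq_one_of_coprime b k _ hk' h1 hKc
    rw [hb1, mul_one, one_mul]
  have hQab : ∀ a ∈ Q, ∀ c ∈ Q, a * c = c * a := (QAb.quotient (pCore p X) hq) q hqprime hqp Q hQq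
  have hnormQ : ∀ g ∈ A₀, ∀ a ∈ Q, g * a * g⁻¹ ∈ Q := by
    intro g hg a ha
    exact (Subgroup.mem_normalizer_iff.mp (hQnorm hg) a).mp ha
  have hzQ : ∀ a ∈ Q, zb * a * zb⁻¹ ∈ Q := hnormQ zb hzbA
  have hyQ : ∀ a ∈ Q, yb * a * yb⁻¹ ∈ Q := hnormQ yb hybA
  have htorQ : ∀ c ∈ Q, c ^ p = 1 → c = 1 := fun c hc => htorK c (hQK hc)
  -- the subgroup `[Q, zb]`
  have hAbot := no_fpf_sub p hsol hO n hexp y hy (commSub Q hQab zb hzQ)
    (Nat.Coprime.coprime_dvd_left (Subgroup.card_dvd_of_le ((commSub_le Q hQab zb hzQ).trans hQK)) hKc)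
    (commSub_invariant Q hQab zb hzQ yb hyQ hyz)
    (commSub_fpf Q hQab zb hzQ p hzp htorQ)
    hznc'
  exact commSub_ne_bot Q hQab zb hzQ ⟨b, hb, hbne⟩ hAbot

end Cfsg.Agent.Lib.Helper20.ExpPLen
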