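import Mathlib
import Cfsg.Prelude.Def_Local
import Cfsg.Agent.Lib.Helper20.ExpPLenE
import Cfsg.Agent.Lib.Helper1.PLenSeries

/-!
Helper lemmas (helper20): in a `p`-soluble group whose `q`-subgroups are abelian for all primes `q ≠ p` and whose
`p`-elements have order dividing `p ^ n`, the `p`-length is at most `n`.
-/

set_option autoImplicit false

namespace Cfsg.Agent.Lib.Helper20.ExpPLen

open Cfsg

universe u

theorem plength_le_exp (p : ℕ) [hp : Fact p.Prime] : ∀ (n : ℕ) (G : Type u) [Group G] [Finite G],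
    IsPSolvable p G → QAb p G → PExp p n G → PLengthLE p n G := by
  intro n
  induction n with
  | zero =>
    intro G _ _ _ _ hexp
    apply Cfsg.Agent.Lib.Helper1.PLen.pLengthLE_zero_of_coprime p
    rw [Nat.coprime_comm, Nat.Prime.coprime_iff_not_dvd hp.out]
    intro hdvd
    obtain ⟨x, hx⟩ := exists_prime_orderOf_dvd_card' p hdvd
    have h1 : x ^ p ^ 0 = 1 := hexp x ⟨1, by rw [pow_one, ← hx]; exact pow_orderOf_eq_one x⟩
    rw [pow_zero, pow_one] at h1
    rw [h1, orderOf_one] at hx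
    exact hp.out.one_lt.ne' hx.symm
  | succ n ih =>
    intro G _ _ hsol hq hexp
    haveI hU : (pPrimeCore p G).Normal := Cfsg.Agent.Lib.Helper24.pPrimeCore_normal' p
    have hsolX : IsPSolvable p (G ⧸ pPrimeCore p G) :=
      Cfsg.Agent.Lib.Helper24.isPSolvable_of_surjective p _ (QuotientGroup.mk'_surjective _) hsol
    have hOX : pPrimeCore p (G ⧸ pPrimeCore p G) = ⊥ := Cfsg.Agent.Lib.Helper24.pPrimeCore_quotient_eq_bot' p
    have hqX : QAb p (G ⧸ pPrimeCore p G) := hq.quotient _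
    have hexpX : PExp p (n + 1) (G ⧸ pPrimeCore p G) :=
      hexp.of_surjective hp.out (QuotientGroup.mk' _) (QuotientGroup.mk'_surjective _)
    haveI hP : (pCore p (G ⧸ pPrimeCore p G)).Normal := Cfsg.Agent.Lib.Helper24.pCore_normal' p
    have h1 := core_step p hsolX hOX hqX n hexpX
    have h2 : PLengthLE p n ((G ⧸ pPrimeCore p G) ⧸ pCore p (G ⧸ pPrimeCore p G)) :=
      ih _ (Cfsg.Agent.Lib.Helper24.isPSolvable_of_surjective p _ (QuotientGroup.mk'_surjective _) hsolX)
        (hqX.quotient _) h1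
    have h3 : PLengthLE p 1 ↥(pCore p (G ⧸ pPrimeCore p G)) :=
      Cfsg.Agent.Lib.Helper1.PLen.pLengthLE_one_of_isPGroup p (Cfsg.Agent.Lib.Helper1.pCore_isPGroup p _)
    have h4 : PLengthLE p (1 + n) (G ⧸ pPrimeCore p G) :=
      Cfsg.Agent.Lib.Helper1.PLen.pLengthLE_of_extension p (pCore p (G ⧸ pPrimeCore p G)) h3 h2
    have h5 : PLengthLE p 0 ↥(pPrimeCore p G) :=
      Cfsg.Agent.Lib.Helper1.PLen.pLengthLE_zero_of_coprime p (Cfsg.Agent.Lib.Helper12.pPrimeCore_coprime p)
    have h6 : PLengthLE p (0 + (1 + n)) G :=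
      Cfsg.Agent.Lib.Helper1.PLen.pLengthLE_of_extension p (pPrimeCore p G) h5 h4
    have e : 0 + (1 + n) = n + 1 := by omega
    rw [e] at h6
    exact h6

end Cfsg.Agent.Lib.Helper20.ExpPLen
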