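import Mathlib
import Cfsg.Prelude.Def_GeometricClasses
import Cfsg.Agent.Lib.Helper20.AschDefs
import Cfsg.Agent.Lib.Helper20.FCDefs
import Cfsg.Agent.Lib.Helper20.FCMain
import Cfsg.Agent.Lib.Helper27.AschO4
import Cfsg.Agent.Lib.Helper29.SpAschDefs

/-!
FORM-CLIFFORD for the bilinear form `bfm J` (helper29's `SpAschDefs`) of an invertible symmetric or skew-symmetric Gram
matrix `J`, and for subgroups of `isoG J`.
-/

set_option autoImplicit false
set_option linter.unusedSectionVars false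
set_option linter.unusedVariables false

namespace Cfsg.Agent.Lib.Helper20.FCBfm
open Matrix Cfsg Cfsg.Geo Cfsg.Agent.Lib.Helper20.Asch Cfsg.Agent.Lib.Helper20.FC
  Cfsg.Agent.Lib.Helper29.SpAsch

variable {F : Type*} [Field F] {n : ℕ} {J : Matrix (Fin n) (Fin n) F}
  {H N : Subgroup (GL (Fin n) F)}

lemma bfm_swap (J : Matrix (Fin n) (Fin n) F) (u v : Fin n → F) : bfm J u v = bfm Jᵀ v u := by
  unfold bfm
  rw [Matrix.dotProduct_mulVec, ← Matrix.mulVec_transpose, dotProduct_comm]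

/-- the form of an invertible symmetric or skew-symmetric Gram matrix is a reflexive form -/
theorem rs_of_bfm (hJ : Jᵀ = J ∨ Jᵀ = -J) (hdet : J.det ≠ 0) : RSForm (RingHom.id F) (bfm J) where
  add_left := (Cfsg.Agent.Lib.Helper27.AschO4.bf_bilinear J).add_left
  smul_left := (Cfsg.Agent.Lib.Helper27.AschO4.bf_bilinear J).smul_left
  add_right := (Cfsg.Agent.Lib.Helper27.AschO4.bf_bilinear J).add_right
  smul_right := fun c v x => by
    rw [RingHom.id_apply]
    exact (Cfsg.Agent.Lib.Helper27.AschO4.bf_bilinear J).smul_right c v x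
  refl := fun u v h => by
    rw [bfm_swap]
    rcases hJ with hJ | hJ
    · rw [hJ]; exact h
    · rw [hJ]
      unfold bfm at h ⊢
      rw [Matrix.neg_mulVec, dotProduct_neg, h, neg_zero]
  nondeg := Cfsg.Agent.Lib.Helper27.AschO4.bf_nondeg J hdet

theorem isoms_of_le_isoG (h : H ≤ isoG J) : Isoms H (bfm J) :=
  fun y hy u v => h hy u v

variable [Fintype F]

/-- FORM-CLIFFORD for subgroups of `isoG J` -/
theorem form_clifford_bfm (hJ : Jᵀ = J ∨ Jᵀ = -J) (hdet : J.det ≠ 0) (hn : 0 < n) (hirr : Irr H)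
    (hN : N ≤ H) (hnorm : NormBy H N) (hH : H ≤ isoG J) :
    Homog N ∨ OutA (bfm J) H ∨ OutB (bfm J) H :=
  Cfsg.Agent.Lib.Helper20.FCLeaf.form_clifford_main (rs_of_bfm hJ hdet) hn hirr hN hnorm
    (isoms_of_le_isoG hH)

/-- odd dimension: only a non-degenerate decomposition, permuted transitively, is possible -/
theorem form_clifford_bfm_odd (hJ : Jᵀ = J ∨ Jᵀ = -J) (hdet : J.det ≠ 0) (hn : Odd n) (hirr : Irr H)
    (hN : N ≤ H) (hnorm : NormBy H N) (hH : H ≤ isoG J) :
    Homog N ∨ ∃ (t k : ℕ) (D : Fin t → Submodule F (Fin n → F)),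
      IsNondegenerateMDecomposition (bfm J) k D ∧ H ≤ decompositionStabilizer D ∧
      ∀ i j, ∃ y ∈ H, (D i).map (Matrix.toLin' (y : Matrix (Fin n) (Fin n) F)) = D j := by
  rcases form_clifford_bfm hJ hdet hn.pos hirr hN hnorm hH with h | h | ⟨k, D, hk, -, -, -⟩
  · exact Or.inl h
  · exact Or.inr h
  · exfalso
    rw [← hk] at hn
    exact (Nat.not_odd_iff_even.mpr (even_two_mul k)) hn

end Cfsg.Agent.Lib.Helper20.FCBfm
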