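import Mathlib
import Cfsg.Prelude.Def_GeometricClasses
import Cfsg.Agent.Lib.Helper20.AschDefs
import Cfsg.Agent.Lib.Helper20.FCDefs
import Cfsg.Agent.Lib.Helper20.FCMain
import Cfsg.Agent.Lib.Helper17.FCSp8
import Cfsg.Agent.Lib.Helper27.AschO4
import Cfsg.Agent.Lib.Helper29.SpAschDefs

/-!
S5662 (Aschbacher for `Sp`), block [CLF] `sgeo_of_not_homog` (exact signature of `notes/S5662_leaves.lean`), from the generic
FORM-CLIFFORD theorem.
-/

set_option autoImplicit false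
set_option linter.unusedSectionVars false
set_option linter.unusedVariables false

namespace Cfsg.Agent.Lib.Helper20.FCSp
open Matrix Cfsg Cfsg.Geo Cfsg.Agent.Lib.Helper20.Asch Cfsg.Agent.Lib.Helper20.FC
  Cfsg.Agent.Lib.Helper29.SpAsch

variable {F : Type*} [Field F] [Fintype F] {n m : ℕ} {J : Matrix (Fin n) (Fin n) F}
  {H N : Subgroup (GL (Fin n) F)}

/-- symplectic: outcome (A), or a t.s. pair with `q` odd (class 2), or class 8 (`q` even) -/
theorem fc_symplectic {n : ℕ} {f : (Fin n → F) → (Fin n → F) → F} (hf : IsSymplecticForm f)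
    {X Y : Subgroup (GL (Fin n) F)} (hiso : Isoms Y f) (hX : X ≤ Y) {t m : ℕ}
    {D : Fin t → Submodule F (Fin n → F)} (h : CDec X Y m D) :
    OutA f Y ∨ (Odd (Fintype.card F) ∧ OutB f Y) ∨
    (¬ Odd (Fintype.card F) ∧ ∃ Q : (Fin n → F) → F, IsNondegenerateQuadraticForm Q ∧
      (∀ u v, QuadraticMap.polar Q u v = f u v) ∧ FixesQuadForm (matrixSet Y) Q ∧
      Y ≤ quadSimilarityGroup Q) := by
  rcases Cfsg.Agent.Lib.Helper20.FCLeaf.form_clifford (rs_of_symplectic hf) hiso hX h with hA | hB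
  · exact Or.inl hA
  · by_cases hq : Odd (Fintype.card F)
    · exact Or.inr (Or.inl ⟨hq, hB⟩)
    · obtain ⟨k, D', -, hD', hts, hY⟩ := hB
      exact Or.inr (Or.inr ⟨hq, Cfsg.Agent.Lib.Helper17.FCLeaf.sp_c8 hf hq hiso hD' hts hY⟩)

theorem fc_symplectic_main {n : ℕ} {f : (Fin n → F) → (Fin n → F) → F} (hf : IsSymplecticForm f)
    {X Y : Subgroup (GL (Fin n) F)} (hn : 0 < n) (hirr : Irr Y) (hX : X ≤ Y) (hnorm : NormBy Y X)
    (hiso : Isoms Y f) :
    Homog X ∨ OutA f Y ∨ (Odd (Fintype.card F) ∧ OutB f Y) ∨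
    (¬ Odd (Fintype.card F) ∧ ∃ Q : (Fin n → F) → F, IsNondegenerateQuadraticForm Q ∧
      (∀ u v, QuadraticMap.polar Q u v = f u v) ∧ FixesQuadForm (matrixSet Y) Q ∧
      Y ≤ quadSimilarityGroup Q) := by
  rcases Cfsg.Agent.Lib.Helper20.FCLeaf.clifford_cdec hn hirr hX hnorm with h | ⟨t, m, D, h⟩
  · exact Or.inl h
  · exact Or.inr (fc_symplectic hf hiso hX h)

/-- the form of an alternating Gram matrix is symplectic -/
theorem isSymplecticForm_bfm (hJ : IsAltGram J) : IsSymplecticForm (bfm J) :=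
  Cfsg.Agent.Lib.Helper27.AschO4.symp_of_alt J
    (Cfsg.Agent.Lib.Helper27.AschO4.bf_alt J hJ.skew hJ.diag) hJ.det

theorem isoms_of_le_isoG (h : H ≤ isoG J) : Isoms H (bfm J) :=
  fun y hy u v => h hy u v

/-- [CLF] FORM-CLIFFORD for `Sp`: `V|_N` not homogeneous: C2a, C2b (`q` odd) or C8 (`q` even, one t.s. pair). -/
theorem sgeo_of_not_homog (h : SpCtx J m H) (hirr : Irr H) (hN : N ≤ H) (hnorm : NormBy H N)
    (hnh : ¬ Homog N) : SGeo J m H := by
  have hn0 : 0 < n := by have := h.dim; have := h.two_le; omega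
  rcases fc_symplectic_main (isSymplecticForm_bfm h.alt) hn0 hirr hN hnorm
    (isoms_of_le_isoG h.le) with h1 | ⟨t, k, D, hD, hst, -⟩ | ⟨hodd, k, D, hk, hD, hts, hst⟩ |
    ⟨heven, Q, hQ, hpol, -, hsim⟩
  · exact absurd h1 hnh
  · exact SGeo.of_C2a h.le D hD hst
  · have hkm : k = m := by have := h.dim; omega
    subst hkm
    exact SGeo.of_C2b h.le D hodd hD hts hst
  · exact SGeo.of_C8 h.le Q heven hQ hpol hsim

end Cfsg.Agent.Lib.Helper20.FCSp
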