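/-
helper20: S4642 leaf (GT) (planner helper2): `C_G(R)` is again `p`-constrained over `C_K(R)`.
`_of` form over (GT1) `mem_of_pRegular_centralizes`, then the exact statement over helper8 `FPTGT1`.
-/
import Mathlib
import Cfsg.Agent.Lib.Helper8.FPTGT1

set_option autoImplicit false

namespace Cfsg.Agent.Lib.Helper20.FPTGT

universe u

section generic
variable {Y : Type u} [Group Y] {p : ℕ} [hpp : Fact p.Prime]

/-- `A = N T` when `|A : A ∩ N|` is a power of `p` and `|A : A ∩ T|` is prime to `p`. -/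
theorem le_sup_of_relIndex (N T A : Subgroup Y) (a : ℕ) (hN : N.relIndex A = p ^ a)
    (hT : ¬ p ∣ T.relIndex A) : A ≤ N ⊔ T := by
  rw [← Subgroup.relIndex_eq_one]
  have h1 : (N ⊔ T).relIndex A ∣ p ^ a := hN ▸ Subgroup.relIndex_dvd_of_le_left A le_sup_left
  have h2 : (N ⊔ T).relIndex A ∣ T.relIndex A := Subgroup.relIndex_dvd_of_le_left A le_sup_right
  obtain ⟨k, -, hk⟩ := (Nat.dvd_prime_pow hpp.out).mp h1
  rcases Nat.eq_zero_or_pos k with rfl | hkpos
  · simpa using hk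
  · exfalso
    apply hT
    refine dvd_trans ?_ h2
    rw [hk]
    exact dvd_pow_self p hkpos.ne'

/-- for `A` normal, `|A : A ∩ T| = |T A : T|` -/
theorem relIndex_eq_relIndex_sup_of_normal [Finite Y] (T A : Subgroup Y) [hA : A.Normal] :
    T.relIndex A = T.relIndex (T ⊔ A) := by
  have e1 := Subgroup.relIndex_mul_relIndex (T ⊓ A) T (T ⊔ A) inf_le_left le_sup_left
  have e2 := Subgroup.relIndex_mul_relIndex (T ⊓ A) A (T ⊔ A) inf_le_right le_sup_right
  have e3 : (T ⊓ A).relIndex T = A.relIndex (T ⊔ A) := by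
    rw [Subgroup.inf_relIndex_left, Subgroup.relIndex_sup_right]
  have e4 : (T ⊓ A).relIndex A = T.relIndex A := Subgroup.inf_relIndex_right T A
  rw [e3] at e1
  rw [e4] at e2
  have hne : A.relIndex (T ⊔ A) ≠ 0 := by
    rw [Subgroup.relIndex]
    exact Subgroup.index_ne_zero_of_finite
  have : A.relIndex (T ⊔ A) * T.relIndex (T ⊔ A) = A.relIndex (T ⊔ A) * T.relIndex A := by
    rw [e1, ← e2, mul_comm]
  exact (Nat.eq_of_mul_eq_mul_left (Nat.pos_of_ne_zero hne) this).symm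

/-- for `A` normal, `|A : A ∩ T|` divides `|B : B ∩ T|` for `A ≤ B`, `T ≤ B` -/
theorem relIndex_dvd_relIndex_of_normal [Finite Y] (T A B : Subgroup Y) [hA : A.Normal]
    (hAB : A ≤ B) (hTB : T ≤ B) : T.relIndex A ∣ T.relIndex B := by
  rw [relIndex_eq_relIndex_sup_of_normal T A]
  exact Dvd.intro _ (Subgroup.relIndex_mul_relIndex T (T ⊔ A) B le_sup_left (sup_le hTB hAB))

/-- for `A` normal, `|A : A ∩ T|` divides `|Y : T|` -/
theorem relIndex_dvd_index_of_normal' [Finite Y] (T A : Subgroup Y) [hA : A.Normal] :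
    T.relIndex A ∣ T.index := by
  have := relIndex_dvd_relIndex_of_normal T A ⊤ le_top le_top
  rwa [Subgroup.relIndex_top_right] at this

/-- if all `p'`-elements of `X` lie in `N` then `|X : X ∩ N|` is a power of `p` -/
theorem exists_relIndex_eq_pow [Finite Y] (N X : Subgroup Y)
    (h : ∀ x ∈ X, ¬ p ∣ orderOf x → x ∈ N) : ∃ a : ℕ, N.relIndex X = p ^ a := by
  have hne : N.relIndex X ≠ 0 := by
    rw [Subgroup.relIndex]
    exact Subgroup.index_ne_zero_of_finite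
  refine ⟨_, Nat.eq_prime_pow_of_unique_prime_dvd hne ?_⟩
  intro r hr hrd
  by_contra hrp
  have hrf : Fact r.Prime := ⟨hr⟩
  -- a Sylow `r`-subgroup of `X`
  obtain W : Sylow r X := default
  have hWN : (W : Subgroup X).map X.subtype ≤ N ⊓ X := by
    rintro _ ⟨w, hw, rfl⟩
    refine ⟨h _ w.2 ?_, w.2⟩
    obtain ⟨k, hk⟩ := (IsPGroup.iff_orderOf.mp W.isPGroup') ⟨w, hw⟩
    have hk' : orderOf ((X.subtype w : Y)) = r ^ k := by
      rw [← hk]
      change orderOf ((w : X) : Y) = _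
      rw [Subgroup.orderOf_coe]
      exact (Subgroup.orderOf_mk w hw).symm
    rw [hk']
    intro hdvd
    have h1 : p ∣ r := hpp.out.dvd_of_dvd_pow hdvd
    exact hrp ((Nat.prime_dvd_prime_iff_eq hpp.out hr).mp h1).symm
  have h1 : (N ⊓ X).relIndex X ∣ ((W : Subgroup X).map X.subtype).relIndex X :=
    Subgroup.relIndex_dvd_of_le_left X hWN
  rw [Subgroup.inf_relIndex_right] at h1
  have h2 : ((W : Subgroup X).map X.subtype).relIndex X = (W : Subgroup X).index := by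
    rw [Subgroup.relIndex, Subgroup.subgroupOf,
      Subgroup.comap_map_eq_self_of_injective (Subgroup.subtype_injective X)]
  rw [h2] at h1
  exact W.not_dvd_index (dvd_trans hrd h1)

/-- a subgroup whose members conjugate `Z` into itself normalizes `Z` -/
theorem le_normalizer_of_conj_mem (T Z : Subgroup Y)
    (h : ∀ t ∈ T, ∀ z ∈ Z, t * z * t⁻¹ ∈ Z) : T ≤ Subgroup.normalizer (Z : Set Y) := by
  intro t ht
  rw [Subgroup.mem_normalizer_iff]
  intro z
  constructor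
  · exact h t ht z
  · intro hz
    have := h t⁻¹ (T.inv_mem ht) _ hz
    simpa [mul_assoc] using this

end generic

section main
variable {G : Type u} [Group G] [Fintype G] {p : ℕ} [hpp : Fact p.Prime]

/-- (GT) in `_of` form: (GT1) for the given `K L R` as a hypothesis. -/
theorem exists_constrained_centralizer_of (K L : Subgroup G) [hKn : K.Normal] [hLn : L.Normal]
    (hKL : K ≤ L) (hLK : ∃ a : ℕ, K.relIndex L = p ^ a) (R : Subgroup G)
    (hGT1 : ∀ Q₀ : Subgroup G, IsPGroup p Q₀ →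
      L ⊓ Subgroup.centralizer (R : Set G) ≤ K ⊔ Q₀ →
      ∀ x : G, x ∈ Subgroup.centralizer (R : Set G) → x ∈ Subgroup.centralizer (Q₀ : Set G) →
        ¬ p ∣ orderOf x → x ∈ K) :
    ∃ L₁ Q₁ : Subgroup ↥(Subgroup.centralizer (R : Set G)), L₁.Normal ∧
      K.subgroupOf (Subgroup.centralizer (R : Set G)) ≤ L₁ ∧
      (∃ a : ℕ, (K.subgroupOf (Subgroup.centralizer (R : Set G))).relIndex L₁ = p ^ a) ∧
      Q₁ ≤ L₁ ∧ IsPGroup p Q₁ ∧ ¬ p ∣ Q₁.relIndex L₁ ∧
      Subgroup.centralizer (Q₁ : Set ↥(Subgroup.centralizer (R : Set G))) ≤ L₁ := by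
  classical
  set H : Subgroup G := Subgroup.centralizer (R : Set G) with hH
  set K' : Subgroup H := K.subgroupOf H with hK'
  set Lh : Subgroup H := L.subgroupOf H with hLh
  have hK'n : K'.Normal := Subgroup.normal_subgroupOf
  have hLhn : Lh.Normal := Subgroup.normal_subgroupOf
  obtain S₀ : Sylow p H := default
  set L₁ : Subgroup H := (K' ⊔ (S₀ : Subgroup H)).normalCore with hL₁
  have hL₁n : L₁.Normal := Subgroup.normalCore_normal _
  have hKL₁ : K' ≤ L₁ := Subgroup.normal_le_normalCore.mpr le_sup_left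
  have hS₀i : ¬ p ∣ (S₀ : Subgroup H).index := S₀.not_dvd_index
  -- the index of `K'` in `K' ⊔ S₀`
  have hidx0 : ∃ a, K'.relIndex (K' ⊔ (S₀ : Subgroup H)) = p ^ a := by
    rw [Subgroup.relIndex_sup_left]
    obtain ⟨n, hn⟩ := (S₀.isPGroup').exists_card_eq
    have := Subgroup.relIndex_dvd_card K' (S₀ : Subgroup H)
    rw [hn] at this
    obtain ⟨k, -, hk⟩ := (Nat.dvd_prime_pow hpp.out).mp this
    exact ⟨k, hk⟩
  have hidx : ∃ a, K'.relIndex L₁ = p ^ a := by
    obtain ⟨a, ha⟩ := hidx0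
    have := Subgroup.relIndex_mul_relIndex K' L₁ (K' ⊔ (S₀ : Subgroup H)) hKL₁
      (Subgroup.normalCore_le _)
    have hd : K'.relIndex L₁ ∣ p ^ a := ha ▸ Dvd.intro _ this
    obtain ⟨k, -, hk⟩ := (Nat.dvd_prime_pow hpp.out).mp hd
    exact ⟨k, hk⟩
  -- a Sylow `p`-subgroup of `L₁`
  obtain P₁ : Sylow p L₁ := default
  set Q₁ : Subgroup H := (P₁ : Subgroup L₁).map L₁.subtype with hQ₁
  have hQ₁L : Q₁ ≤ L₁ := Subgroup.map_subtype_le _
  have hQ₁p : IsPGroup p Q₁ := P₁.isPGroup'.map _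
  have hQ₁i : ¬ p ∣ Q₁.relIndex L₁ := by
    rw [Subgroup.relIndex, Subgroup.subgroupOf,
      Subgroup.comap_map_eq_self_of_injective (Subgroup.subtype_injective L₁)]
    exact P₁.not_dvd_index
  refine ⟨L₁, Q₁, hL₁n, hKL₁, hidx, hQ₁L, hQ₁p, hQ₁i, ?_⟩
  -- `L ∩ H ≤ L₁`
  have hLhK : ∃ b, K'.relIndex Lh = p ^ b := by
    obtain ⟨a, ha⟩ := hLK
    have e1 : K'.relIndex Lh = K.relIndex (L ⊓ H) := by
      rw [hK', hLh, ← Subgroup.inf_subgroupOf_right L H]
      exact Subgroup.relIndex_subgroupOf inf_le_right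
    have e2 : K.relIndex (L ⊓ H) = K.relIndex (K ⊔ (L ⊓ H)) :=
      (Subgroup.relIndex_sup_left (L ⊓ H) K).symm
    have e3 := Subgroup.relIndex_mul_relIndex K (K ⊔ (L ⊓ H)) L le_sup_left
      (sup_le hKL inf_le_left)
    have hd : K'.relIndex Lh ∣ p ^ a := by
      rw [e1, e2, ← ha]
      exact Dvd.intro _ e3
    obtain ⟨k, -, hk⟩ := (Nat.dvd_prime_pow hpp.out).mp hd
    exact ⟨k, hk⟩
  have hLhS : Lh ≤ K' ⊔ (S₀ : Subgroup H) := by
    obtain ⟨b, hb⟩ := hLhK
    exact le_sup_of_relIndex K' (S₀ : Subgroup H) Lh b hb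
      (fun hd => hS₀i (dvd_trans hd (relIndex_dvd_index_of_normal' _ Lh)))
  have hLhL₁ : Lh ≤ L₁ := Subgroup.normal_le_normalCore.mpr hLhS
  have hLhQ : Lh ≤ K' ⊔ (Q₁ ⊓ Lh) := by
    obtain ⟨b, hb⟩ := hLhK
    refine le_sup_of_relIndex (p := p) K' (Q₁ ⊓ Lh) Lh b hb ?_
    rw [Subgroup.inf_relIndex_right]
    exact fun hd => hQ₁i (dvd_trans hd (relIndex_dvd_relIndex_of_normal Q₁ Lh L₁ hLhL₁ hQ₁L))
  -- the `p'`-elements of `X = C_H(Q₁)`
  set X : Subgroup H := Subgroup.centralizer (Q₁ : Set H) with hX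
  have hpreg : ∀ x ∈ X, ¬ p ∣ orderOf x → x ∈ K' := by
    intro x hx hxo
    rw [hK', Subgroup.mem_subgroupOf]
    refine hGT1 ((Q₁ ⊓ Lh).map H.subtype) ((hQ₁p.to_le inf_le_left).map _) ?_ x x.2 ?_ ?_
    · intro y hy
      have hyLh : (⟨y, hy.2⟩ : H) ∈ Lh := by
        rw [hLh, Subgroup.mem_subgroupOf]; exact hy.1
      have h1 := hLhQ hyLh
      have h2 : y ∈ (K' ⊔ (Q₁ ⊓ Lh)).map H.subtype := ⟨_, h1, rfl⟩
      rw [Subgroup.map_sup] at h2
      have h3 : K'.map H.subtype ≤ K := by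
        rintro _ ⟨k, hk, rfl⟩
        exact Subgroup.mem_subgroupOf.mp hk
      exact (sup_le_sup_right h3 _) h2
    · rw [Subgroup.mem_centralizer_iff]
      rintro _ ⟨q, hq, rfl⟩
      have := Subgroup.mem_centralizer_iff.mp hx q hq.1
      exact congrArg Subtype.val this
    · rwa [Subgroup.orderOf_coe]
  obtain ⟨c, hc⟩ := exists_relIndex_eq_pow (p := p) K' X hpreg
  -- `X ⊔ K'` is normal
  have hL₁Q : L₁ ≤ K' ⊔ Q₁ := by
    obtain ⟨a, ha⟩ := hidx
    exact le_sup_of_relIndex K' Q₁ L₁ a ha hQ₁i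
  have key : ∀ t ∈ Subgroup.normalizer (Q₁ : Set H), ∀ z ∈ X ⊔ K', t * z * t⁻¹ ∈ X ⊔ K' := by
    intro t ht
    have hle : X ⊔ K' ≤ (X ⊔ K').comap (MulAut.conj t).toMonoidHom := by
      refine sup_le ?_ ?_
      · intro x hx
        rw [Subgroup.mem_comap]
        apply Subgroup.mem_sup_left
        change t * x * t⁻¹ ∈ X
        rw [hX, Subgroup.mem_centralizer_iff]
        intro q hq
        have hq' : t⁻¹ * q * t ∈ Q₁ := by
          refine ((Subgroup.mem_normalizer_iff.mp ht) (t⁻¹ * q * t)).mpr ?_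
          have : t * (t⁻¹ * q * t) * t⁻¹ = q := by group
          rw [this]; exact hq
        have hc' := Subgroup.mem_centralizer_iff.mp hx _ hq'
        calc q * (t * x * t⁻¹) = t * ((t⁻¹ * q * t) * x) * t⁻¹ := by group
          _ = t * (x * (t⁻¹ * q * t)) * t⁻¹ := by rw [hc']
          _ = t * x * t⁻¹ * q := by group
      · intro k hk
        rw [Subgroup.mem_comap]
        exact Subgroup.mem_sup_right (hK'n.conj_mem k hk t)
    intro z hz
    exact hle hz
  have hYn : (X ⊔ K').Normal := by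
    rw [← Subgroup.normalizer_eq_top_iff, eq_top_iff, ← Sylow.normalizer_sup_eq_top P₁]
    have hN : Subgroup.normalizer (Q₁ : Set H) ≤ Subgroup.normalizer ((X ⊔ K' : Subgroup H) : Set H) :=
      le_normalizer_of_conj_mem _ _ key
    refine sup_le hN (hL₁Q.trans (sup_le ?_ ?_))
    · exact le_sup_right.trans Subgroup.le_normalizer
    · exact Subgroup.le_normalizer.trans hN
  -- `X ⊔ K' ≤ K' ⊔ S₀`
  have hY : X ⊔ K' ≤ K' ⊔ (S₀ : Subgroup H) := by
    refine le_sup_of_relIndex (p := p) K' (S₀ : Subgroup H) (X ⊔ K') c ?_ ?_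
    · rw [Subgroup.relIndex_sup_right]; exact hc
    · exact fun hd => hS₀i (dvd_trans hd (relIndex_dvd_index_of_normal' _ _))
  exact le_trans le_sup_left (Subgroup.normal_le_normalCore.mpr hY)

/-- (GT) `C_G(R)` is again `p`-constrained over `C_K(R)`. -/
theorem exists_constrained_centralizer (K L Q : Subgroup G) [hKn : K.Normal] [hLn : L.Normal]
    (hKp : ¬ p ∣ Nat.card K) (hKL : K ≤ L) (hLK : ∃ a : ℕ, K.relIndex L = p ^ a)
    (hQL : Q ≤ L) (hQp : IsPGroup p Q) (hQS : ¬ p ∣ Q.relIndex L)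
    (hCQ : Subgroup.centralizer (Q : Set G) ≤ L)
    (R : Subgroup G) (hR : IsPGroup p R) :
    ∃ L₁ Q₁ : Subgroup ↥(Subgroup.centralizer (R : Set G)), L₁.Normal ∧
      K.subgroupOf (Subgroup.centralizer (R : Set G)) ≤ L₁ ∧
      (∃ a : ℕ, (K.subgroupOf (Subgroup.centralizer (R : Set G))).relIndex L₁ = p ^ a) ∧
      Q₁ ≤ L₁ ∧ IsPGroup p Q₁ ∧ ¬ p ∣ Q₁.relIndex L₁ ∧
      Subgroup.centralizer (Q₁ : Set ↥(Subgroup.centralizer (R : Set G))) ≤ L₁ :=
  exists_constrained_centralizer_of K L hKL hLK R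
    (fun Q₀ hQ₀ hLR x hxR hxQ hx =>
      Cfsg.Agent.Lib.Helper8.FPTGT1.mem_of_pRegular_centralizes K L Q hKp hKL hLK hQL hQp hQS hCQ
        R hR Q₀ hQ₀ hLR x hxR hxQ hx)

end main

end Cfsg.Agent.Lib.Helper20.FPTGT
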