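import Mathlib
import Cfsg.Agent.Lib.Helper20.Fpf4Basic

/-!
# Fixed-point-free automorphisms of order dividing 4: the action theorem

`H` acts faithfully on the finite abelian group `V` through `ρ`, compatible automorphisms
`σH`, `σV` with `σ⁴ = 1`, both fixed-point-free.  Then an abelian normal `σH`-invariant subgroup
`R ≤ H'` of order prime to `|V|` is trivial.
-/

set_option autoImplicit false

open scoped commutatorElement

namespace Cfsg.Agent.Lib.Helper20.Fpf4

/-- Hypotheses of the action theorem. -/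
structure Hyp {H V : Type*} [Group H] [CommGroup V] (ρ : H →* MulAut V) (σH : MulAut H)
    (σV : MulAut V) : Prop where
  inj : Function.Injective ρ
  compat : ∀ h v, σV (ρ h v) = ρ (σH h) (σV v)
  h4H : ∀ h, σH (σH (σH (σH h))) = h
  h4V : ∀ v, σV (σV (σV (σV v))) = v
  fH : Fpf σH
  fV : Fpf σV

section general

theorem eq_one_of_sq_of_odd {K : Type*} [Group K] [Finite K] (hodd : Odd (Nat.card K)) {x : K}
    (hx : x * x = 1) : x = 1 := by
  have h1 : orderOf x ∣ 2 := orderOf_dvd_of_pow_eq_one (by rw [pow_two]; exact hx)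
  have h2 : orderOf x ∣ Nat.card K := orderOf_dvd_natCard x
  have h3 : orderOf x ∣ Nat.gcd 2 (Nat.card K) := Nat.dvd_gcd h1 h2
  have h4 : Nat.gcd 2 (Nat.card K) = 1 := Nat.coprime_two_left.mpr hodd
  rw [h4, Nat.dvd_one] at h3
  exact orderOf_eq_one_iff.mp h3

theorem fix_of_sq_fix {V : Type*} [Group V] (g : MulAut V) {n : ℕ} (hn : Odd n) (hg : g ^ n = 1)
    {w : V} (hw : g (g w) = w) : g w = w := by
  obtain ⟨k, rfl⟩ := hn
  have h1 : ∀ j : ℕ, (g ^ (2 * j)) w = w := by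
    intro j
    induction j with
    | zero => rfl
    | succ j ih =>
      rw [show 2 * (j + 1) = 2 * j + 2 from by ring, pow_add, MulAut.mul_apply, pow_two,
        MulAut.mul_apply, hw, ih]
  have h2 : (g ^ (2 * k + 1)) w = w := by rw [hg]; rfl
  rw [pow_succ, MulAut.mul_apply] at h2
  have h3 : (g ^ (2 * k)) (g w) = (g ^ (2 * k)) w := by rw [h2, h1]
  exact (g ^ (2 * k)).injective h3

end general

section Action

variable {H V : Type*} [Group H] [Finite H] [CommGroup V] [Finite V]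
  {ρ : H →* MulAut V} {σH : MulAut H} {σV : MulAut V}

theorem Hyp.compat2 (hy : Hyp ρ σH σV) (h : H) (v : V) :
    σV (σV (ρ h v)) = ρ (σH (σH h)) (σV (σV v)) := by
  rw [hy.compat, hy.compat]

theorem Hyp.pow4H (hy : Hyp ρ σH σV) : σH ^ 4 = 1 := by
  ext h
  rw [show (4 : ℕ) = 1 + 1 + 1 + 1 from rfl, pow_succ, pow_succ, pow_succ, pow_one]
  simp only [MulAut.mul_apply, MulAut.one_apply]
  exact hy.h4H h

theorem Hyp.pow4V (hy : Hyp ρ σH σV) : σV ^ 4 = 1 := by
  ext h
  rw [show (4 : ℕ) = 1 + 1 + 1 + 1 from rfl, pow_succ, pow_succ, pow_succ, pow_one]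
  simp only [MulAut.mul_apply, MulAut.one_apply]
  exact hy.h4V h

theorem Hyp.oddH (hy : Hyp ρ σH σV) : Odd (Nat.card H) := hy.fH.odd_card hy.pow4H

theorem Hyp.oddV (hy : Hyp ρ σH σV) : Odd (Nat.card V) := hy.fV.odd_card hy.pow4V

/-- `σV` inverts the fixed points of `σV²`. -/
theorem Hyp.inv_of_fix (hy : Hyp ρ σH σV) {u : V} (hu : σV (σV u) = u) : σV u = u⁻¹ := by
  have h1 : σV (u * σV u) = u * σV u := by rw [map_mul, hu, mul_comm]
  have h2 := hy.fV _ h1
  exact (eq_inv_of_mul_eq_one_right h2)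

/-- The part of an abelian subgroup inverted by `σH²`. -/
def invPart (σH : MulAut H) (R : Subgroup H) (hRab : ∀ a ∈ R, ∀ b ∈ R, a * b = b * a) :
    Subgroup H where
  carrier := {r | r ∈ R ∧ σH (σH r) = r⁻¹}
  one_mem' := ⟨R.one_mem, by simp⟩
  mul_mem' := by
    rintro a b ⟨ha, ha2⟩ ⟨hb, hb2⟩
    refine ⟨R.mul_mem ha hb, ?_⟩
    rw [map_mul, map_mul, ha2, hb2, mul_inv_rev]
    exact hRab _ (R.inv_mem ha) _ (R.inv_mem hb)
  inv_mem' := by
    rintro a ⟨ha, ha2⟩
    exact ⟨R.inv_mem ha, by rw [map_inv, map_inv, ha2]⟩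

theorem mem_invPart {R : Subgroup H} {hRab : ∀ a ∈ R, ∀ b ∈ R, a * b = b * a} {r : H} :
    r ∈ invPart σH R hRab ↔ r ∈ R ∧ σH (σH r) = r⁻¹ := Iff.rfl

/-- Step 1: the `σH²`-inverted part of `R` acts trivially, hence is trivial. -/
theorem Hyp.invPart_eq_bot (hy : Hyp ρ σH σV) (R : Subgroup H) (hRσ : ∀ r ∈ R, σH r ∈ R)
    (hRab : ∀ a ∈ R, ∀ b ∈ R, a * b = b * a)
    (hcop : (Nat.card R).Coprime (Nat.card V)) : invPart σH R hRab = ⊥ := by
  classical
  set Rm := invPart σH R hRab with hRm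
  haveI : Fintype Rm := Fintype.ofFinite _
  have hRmσ : ∀ r ∈ Rm, σH r ∈ Rm := by
    rintro r ⟨hr, hr2⟩
    exact ⟨hRσ r hr, by rw [hr2, map_inv]⟩
  have hcomm : ∀ a ∈ Rm, ∀ b ∈ Rm, a * b = b * a := fun a ha b hb => hRab a ha.1 b hb.1
  -- Claim A
  have hA : ∀ r ∈ Rm, ∀ v : V, ρ r (σV v) = v → v = 1 := by
    intro r hr v hv
    obtain ⟨s, hs⟩ := hy.fH.surjective r
    simp only at hs
    have h1 : σH s = s * r := by rw [← hs]; group
    have h2 : σV (ρ s v) = ρ s v := by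
      rw [hy.compat, h1, map_mul, MulAut.mul_apply, hv]
    have h3 := hy.fV _ h2
    have : ρ s v = ρ s 1 := by rw [h3, map_one]
    exact (ρ s).injective this
  -- Claim B
  have hB : ∀ r ∈ Rm, ∀ v : V, v * ρ r (σV v) * ρ (r * σH r) (σV (σV v)) *
      ρ (σH r) (σV (σV (σV v))) = 1 := by
    intro r hr v
    have hr2 : σH (σH r) = r⁻¹ := hr.2
    have g2 : ∀ u : V, ρ r (σV (ρ r (σV u))) = ρ (r * σH r) (σV (σV u)) := by
      intro u
      rw [hy.compat, map_mul, MulAut.mul_apply]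
    have g3 : ρ r (σV (ρ (r * σH r) (σV (σV v)))) = ρ (σH r) (σV (σV (σV v))) := by
      rw [hy.compat, ← MulAut.mul_apply, ← map_mul, map_mul σH, hr2]
      have : r * (σH r * r⁻¹) = σH r := by
        rw [hcomm (σH r) (hRmσ r hr) r⁻¹ (Rm.inv_mem hr)]; group
      rw [this]
    have g4 : ρ r (σV (ρ (σH r) (σV (σV (σV v))))) = v := by
      rw [hy.compat, ← MulAut.mul_apply, ← map_mul, hr2, mul_inv_cancel, map_one, hy.h4V]
      rfl
    apply hA r hr
    rw [map_mul, map_mul, map_mul, map_mul, map_mul, map_mul, g2, g3, g4]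
    rw [mul_comm]
    simp only [mul_assoc]
  -- reindexing maps
  let T : V → V := fun u => ∏ r : Rm, ρ (r : H) u
  have hT1 : ∀ u : V, ∏ r : Rm, ρ (σH (r : H)) u = T u := by
    intro u
    let e1 : Rm → Rm := fun r => ⟨σH r, hRmσ r r.2⟩
    have he1 : Function.Bijective e1 := by
      rw [← Finite.injective_iff_bijective]
      intro a b hab
      exact Subtype.ext (σH.injective (congrArg Subtype.val hab))
    exact he1.prod_comp (fun r : Rm => ρ (r : H) u)
  have hT2 : ∀ u : V, ∏ r : Rm, ρ ((r : H) * σH (r : H)) u = T u := by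
    intro u
    let e2 : Rm → Rm := fun r => ⟨r * σH r, Rm.mul_mem r.2 (hRmσ r r.2)⟩
    have he2 : Function.Bijective e2 := by
      rw [← Finite.injective_iff_bijective]
      intro a b hab
      have h0 : (a : H) * σH a = b * σH b := congrArg Subtype.val hab
      have ht : (a : H) * (b : H)⁻¹ ∈ Rm := Rm.mul_mem a.2 (Rm.inv_mem b.2)
      have h1 : σH ((a : H) * (b : H)⁻¹) = ((a : H) * (b : H)⁻¹)⁻¹ := by
        have h2 : σH (a : H) = (a : H)⁻¹ * (b * σH b) := by rw [← h0]; group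
        rw [map_mul, map_inv, h2, mul_inv_rev, inv_inv,
          hcomm (b : H) b.2 (a : H)⁻¹ (Rm.inv_mem a.2)]
        group
      have h3 : σH (σH ((a : H) * (b : H)⁻¹)) = (a : H) * (b : H)⁻¹ := by
        rw [h1, map_inv, h1, inv_inv]
      have h4 : ((a : H) * (b : H)⁻¹) * ((a : H) * (b : H)⁻¹) = 1 := by
        have := ht.2
        rw [h3] at this
        nth_rewrite 2 [this]
        exact mul_inv_cancel _
      have h5 := eq_one_of_sq_of_odd hy.oddH h4
      exact Subtype.ext (mul_inv_eq_one.mp h5)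
    exact he2.prod_comp (fun r : Rm => ρ (r : H) u)
  have hT3 : ∀ s ∈ Rm, ∀ u : V, ρ s (T u) = T u := by
    intro s hs u
    show ρ s (∏ r : Rm, ρ (r : H) u) = _
    rw [map_prod]
    have : ∀ r : Rm, ρ s (ρ (r : H) u) = ρ ((((⟨s, hs⟩ : Rm) * r : Rm) : H)) u := by
      intro r
      rw [Subgroup.coe_mul, map_mul, MulAut.mul_apply]
    simp_rw [this]
    exact Equiv.prod_comp (Equiv.mulLeft (⟨s, hs⟩ : Rm)) (fun r : Rm => ρ (r : H) u)
  -- the product identity
  have hC : ∀ v : V, v ^ (Fintype.card Rm) * T (σV v) * T (σV (σV v)) * T (σV (σV (σV v))) = 1 := by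
    intro v
    have h1 : ∏ r : Rm, (v * ρ (r : H) (σV v) * ρ ((r : H) * σH r) (σV (σV v)) *
        ρ (σH (r : H)) (σV (σV (σV v)))) = 1 :=
      Finset.prod_eq_one (fun r _ => hB r r.2 v)
    rw [Finset.prod_mul_distrib, Finset.prod_mul_distrib, Finset.prod_mul_distrib, hT1, hT2,
      Finset.prod_const, Finset.card_univ] at h1
    exact h1
  have hcop' : (Nat.card V).Coprime (Fintype.card Rm) := by
    have h1 : Nat.card Rm ∣ Nat.card R := Subgroup.card_dvd_of_le (fun x hx => hx.1)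
    rw [Nat.card_eq_fintype_card] at h1
    exact (Nat.Coprime.coprime_dvd_left h1 hcop).symm
  rw [Subgroup.eq_bot_iff_forall]
  intro s hs
  apply hy.inj
  ext v
  rw [map_one, MulAut.one_apply]
  have h1 : v ^ (Fintype.card Rm) = (T (σV v) * T (σV (σV v)) * T (σV (σV (σV v))))⁻¹ := by
    have := hC v
    rw [mul_assoc, mul_assoc] at this
    rw [← mul_assoc (T _)] at this
    exact eq_inv_of_mul_eq_one_left this
  have h2 : ρ s (v ^ (Fintype.card Rm)) = v ^ (Fintype.card Rm) := by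
    rw [h1, map_inv, map_mul, map_mul, hT3 s hs, hT3 s hs, hT3 s hs]
  rw [map_pow] at h2
  exact (powCoprime hcop').injective h2

/-- The action theorem. -/
theorem Hyp.main (hy : Hyp ρ σH σV) (R : Subgroup H) (hRn : R.Normal) (hRσ : ∀ r ∈ R, σH r ∈ R)
    (hRab : ∀ a ∈ R, ∀ b ∈ R, a * b = b * a) (hRH : R ≤ commutator H)
    (hcop : (Nat.card R).Coprime (Nat.card V)) : R = ⊥ := by
  have hm := hy.invPart_eq_bot R hRσ hRab hcop
  -- `σH²` centralizes `R`
  have hτ : ∀ r ∈ R, σH (σH r) = r := by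
    intro r hr
    have h1 : r⁻¹ * σH (σH r) ∈ invPart σH R hRab := by
      refine ⟨R.mul_mem (R.inv_mem hr) (hRσ _ (hRσ _ hr)), ?_⟩
      rw [map_mul, map_mul, map_inv, map_inv, hy.h4H, mul_inv_rev, inv_inv]
    rw [hm, Subgroup.mem_bot] at h1
    exact (inv_mul_eq_one.mp h1).symm
  -- `σH` inverts `R`
  have hinv : ∀ r ∈ R, σH r = r⁻¹ := by
    intro r hr
    have h1 : σH (r * σH r) = r * σH r := by
      rw [map_mul, hτ r hr]; exact hRab _ (hRσ r hr) _ hr
    exact (eq_inv_of_mul_eq_one_right (hy.fH _ h1))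
  -- `R` is central
  have hcen : ∀ r ∈ R, ∀ y : H, y * r = r * y := by
    intro r hr y
    obtain ⟨x, hx⟩ := hy.fH.surjective y
    simp only at hx
    have h1 : x * r⁻¹ * x⁻¹ ∈ R := hRn.conj_mem _ (R.inv_mem hr) x
    have h2 := hinv _ h1
    rw [map_mul, map_mul, hinv r⁻¹ (R.inv_mem hr), inv_inv, map_inv] at h2
    rw [← hx]
    have h3 : σH x * r = x * r * x⁻¹ * σH x := by
      have : σH x * r = (σH x * r * (σH x)⁻¹) * σH x := by group
      rw [this, h2]; group
    calc x⁻¹ * σH x * r = x⁻¹ * (σH x * r) := by group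
      _ = x⁻¹ * (x * r * x⁻¹ * σH x) := by rw [h3]
      _ = r * (x⁻¹ * σH x) := by group
  by_contra hne
  obtain ⟨z, hzR, hz1⟩ : ∃ z ∈ R, z ≠ 1 := by
    by_contra hcon
    push Not at hcon
    exact hne ((Subgroup.eq_bot_iff_forall R).mpr hcon)
  have hzτ : σH (σH z) = z := hτ z hzR
  have hzσ : σH z = z⁻¹ := hinv z hzR
  -- order of z
  have hmR : orderOf z ∣ Nat.card R := by
    have := orderOf_dvd_natCard (⟨z, hzR⟩ : R)
    rwa [← Subgroup.orderOf_coe] at this
  have hmcop : (Nat.card V).Coprime (orderOf z) :=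
    (Nat.Coprime.coprime_dvd_left hmR hcop).symm
  have hmodd : Odd (orderOf z) := by
    have h1 : orderOf z ∣ Nat.card H := orderOf_dvd_natCard z
    exact Odd.of_dvd_nat hy.oddH h1
  have hρm : (ρ z) ^ (orderOf z) = 1 := by rw [← map_pow, pow_orderOf_eq_one, map_one]
  -- the commutator map
  let δ : V →* V :=
    { toFun := fun v => v⁻¹ * ρ z v
      map_one' := by simp
      map_mul' := by intro a b; rw [map_mul, mul_inv]; exact mul_mul_mul_comm _ _ _ _ }
  have hδ : ∀ v, δ v = v⁻¹ * ρ z v := fun _ => rfl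
  -- (i)
  have hV1H : ∀ x : H, ∀ v ∈ δ.range, ρ x v ∈ δ.range := by
    rintro x _ ⟨w, rfl⟩
    refine ⟨ρ x w, ?_⟩
    rw [hδ, hδ, map_mul, map_inv, ← MulAut.mul_apply, ← MulAut.mul_apply, ← map_mul, ← map_mul,
      hcen z hzR x]
  -- (ii)
  have hV1τ : ∀ v ∈ δ.range, σV (σV v) ∈ δ.range := by
    rintro _ ⟨w, rfl⟩
    refine ⟨σV (σV w), ?_⟩
    rw [hδ, hδ, map_mul, map_mul, map_inv, map_inv, hy.compat2, hzτ]
  -- (iii)
  have hfix : ∀ v ∈ δ.range, ρ z v = v → v = 1 := by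
    rintro _ ⟨w, rfl⟩ hv
    have h1 : ∀ i : ℕ, ((ρ z) ^ i) (δ w) = δ w := by
      intro i
      induction i with
      | zero => rfl
      | succ i ih => rw [pow_succ, MulAut.mul_apply, hv, ih]
    have h2 : ∀ i : ℕ, ((ρ z) ^ i) (δ w) = ((ρ z) ^ (i + 1)) w / ((ρ z) ^ i) w := by
      intro i
      rw [hδ, map_mul, map_inv, pow_succ, MulAut.mul_apply, div_eq_mul_inv, mul_comm]
    have h3 : ∏ i ∈ Finset.range (orderOf z), ((ρ z) ^ i) (δ w) = 1 := by
      simp_rw [h2]
      rw [Finset.prod_range_div (fun i => ((ρ z) ^ i) w), hρm, pow_zero]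
      simp
    simp_rw [h1] at h3
    rw [Finset.prod_const, Finset.card_range] at h3
    have h4 : (powCoprime hmcop) (δ w) = (powCoprime hmcop) 1 := by
      simp only [powCoprime_apply, one_pow]; exact h3
    exact (powCoprime hmcop).injective h4
  -- (iv)
  have hfixτ : ∀ w ∈ δ.range, σV (σV w) = w → w = 1 := by
    intro w hw hwτ
    have hu : σV (σV (ρ z w)) = ρ z w := by rw [hy.compat2, hzτ, hwτ]
    have h1 := hy.inv_of_fix hu
    rw [hy.compat, hzσ, hy.inv_of_fix hwτ] at h1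
    -- h1 : ρ z⁻¹ w⁻¹ = (ρ z w)⁻¹
    have h2 : ρ z (ρ z w⁻¹) = w⁻¹ := by
      rw [map_inv (ρ z) w, ← h1, ← MulAut.mul_apply, ← map_mul, mul_inv_cancel, map_one]
      rfl
    have h3 := fix_of_sq_fix (ρ z) hmodd hρm h2
    rw [map_inv, inv_inj] at h3
    exact hfix w hw h3
  -- (v)
  have hτinv : ∀ v ∈ δ.range, σV (σV v) = v⁻¹ := by
    intro v hv
    have h1 : v * σV (σV v) ∈ δ.range := δ.range.mul_mem hv (hV1τ v hv)
    have h2 : σV (σV (v * σV (σV v))) = v * σV (σV v) := by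
      rw [map_mul, map_mul, hy.h4V, mul_comm]
    exact (eq_inv_of_mul_eq_one_right (hfixτ _ h1 h2))
  -- (vi) the kernel on V1
  let K : Subgroup H :=
    { carrier := {h | ∀ v ∈ δ.range, ρ h v = v}
      one_mem' := by intro v _; rw [map_one]; rfl
      mul_mem' := by
        intro a b ha hb v hv
        rw [map_mul, MulAut.mul_apply, hb v hv, ha v hv]
      inv_mem' := by
        intro a ha v hv
        have := ha v hv
        rw [map_inv]
        nth_rewrite 1 [← this]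
        exact MulAut.inv_apply_self _ _ _ }
  have hKmem : ∀ h, h ∈ K ↔ ∀ v ∈ δ.range, ρ h v = v := fun _ => Iff.rfl
  have hKn : K.Normal := by
    constructor
    intro n hn g
    rw [hKmem]
    intro v hv
    rw [map_mul, map_mul, MulAut.mul_apply, MulAut.mul_apply, hn _ (hV1H g⁻¹ v hv),
      ← MulAut.mul_apply, ← map_mul, mul_inv_cancel, map_one]
    rfl
  have hK1 : ∀ a : H, a⁻¹ * σH (σH a) ∈ K := by
    intro a
    rw [hKmem]
    intro v hv
    have hv' : v⁻¹ ∈ δ.range := δ.range.inv_mem hv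
    have h1 : v = σV (σV v⁻¹) := by rw [hτinv _ hv', inv_inv]
    have h2 : ρ (σH (σH a)) v = ρ a v := by
      nth_rewrite 1 [h1]
      rw [← hy.compat2, hτinv _ (hV1H a _ hv'), map_inv, inv_inv]
    rw [map_mul, MulAut.mul_apply, h2, ← MulAut.mul_apply, ← map_mul, inv_mul_cancel, map_one]
    rfl
  have hK2 : ∀ x : H, x * σH x ∈ K := by
    intro x
    obtain ⟨a, ha⟩ := hy.fH.surjective x
    simp only at ha
    have : x * σH x = a⁻¹ * σH (σH a) := by
      rw [← ha, map_mul, map_inv]; group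
    rw [this]; exact hK1 a
  have hK3 : commutator H ≤ K := by
    rw [commutator_def, Subgroup.commutator_le]
    intro x _ y _
    have hx := hK2 x
    have hy' := hK2 y
    have hxy := hK2 (x * y)
    have h1 : ⁅x, y⁆ = (x * y * σH (x * y)) * (y * σH y)⁻¹ * (y * (x * σH x)⁻¹ * y⁻¹) := by
      rw [commutatorElement_def, map_mul]; group
    rw [h1]
    exact K.mul_mem (K.mul_mem hxy (K.inv_mem hy')) (hKn.conj_mem _ (K.inv_mem hx) y)
  have hzK : z ∈ K := hK3 (hRH hzR)
  apply hz1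
  apply hy.inj
  ext w
  rw [map_one, MulAut.one_apply]
  have h1 : δ w = 1 := hfix _ ⟨w, rfl⟩ (hzK _ ⟨w, rfl⟩)
  rw [hδ] at h1
  exact (inv_mul_eq_one.mp h1).symm

end Action

end Cfsg.Agent.Lib.Helper20.Fpf4
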