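import Mathlib
import Cfsg.Agent.Lib.Helper20.Fpf4Action
import Cfsg.Agent.Lib.Helper20.Fpf4Quot

/-!
# Solvable groups with a fixed-point-free automorphism `σ`, `σ⁴ = 1`: `G'` is nilpotent
-/

set_option autoImplicit false

open scoped commutatorElement IsMulCommutative

namespace Cfsg.Agent.Lib.Helper20.Fpf4

universe u

theorem pow4_apply {G : Type*} [Group G] {σ : MulAut G} (h4 : σ ^ 4 = 1) (g : G) :
    σ (σ (σ (σ g))) = g := by
  have : (σ ^ 4) g = g := by rw [h4]; rfl
  rw [show (4 : ℕ) = 1 + 1 + 1 + 1 from rfl, pow_succ, pow_succ, pow_succ, pow_one] at this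
  simpa only [MulAut.mul_apply] using this

theorem pow4_of_apply {G : Type*} [Group G] {σ : MulAut G} (h : ∀ g, σ (σ (σ (σ g))) = g) :
    σ ^ 4 = 1 := by
  ext g
  rw [show (4 : ℕ) = 1 + 1 + 1 + 1 from rfl, pow_succ, pow_succ, pow_succ, pow_one]
  simp only [MulAut.mul_apply, MulAut.one_apply]
  exact h g

section Setup

variable {G : Type u} [Group G] [Finite G] (σ : MulAut G) (M : Subgroup G) [hMn : M.Normal]
  (hMσ : ∀ m ∈ M, σ m ∈ M)

/-- The conjugation action on the normal subgroup `M`. -/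
noncomputable abbrev rho0 : G →* MulAut M := MulAut.conjNormal

theorem rho0_compat (g : G) (m : M) :
    restrictAut σ M hMσ (rho0 M g m) = rho0 M (σ g) (restrictAut σ M hMσ m) := by
  apply Subtype.ext
  rw [restrictAut_coe, MulAut.conjNormal_apply, MulAut.conjNormal_apply, restrictAut_coe,
    map_mul, map_mul, map_inv]

include hMσ in
theorem ker_inv (k : G) (hk : k ∈ (rho0 M).ker) : σ k ∈ (rho0 M).ker := by
  rw [MonoidHom.mem_ker] at hk ⊢
  ext m
  obtain ⟨m', rfl⟩ := (restrictAut σ M hMσ).surjective m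
  rw [← rho0_compat, hk]; rfl

/-- The induced faithful action of the quotient. -/
noncomputable abbrev rhoBar : G ⧸ (rho0 M).ker →* MulAut M := QuotientGroup.kerLift (rho0 M)

/-- The induced automorphism of the quotient. -/
noncomputable abbrev sigBar : MulAut (G ⧸ (rho0 M).ker) :=
  quotAut σ (rho0 M).ker (ker_inv σ M hMσ)

theorem hyp_bar [IsMulCommutative M] (h4 : σ ^ 4 = 1) (hf : Fpf σ) :
    Hyp (rhoBar M) (sigBar σ M hMσ) (restrictAut σ M hMσ) where
  inj := QuotientGroup.kerLift_injective _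
  compat := by
    intro h v
    induction h using QuotientGroup.induction_on with
    | H g => exact rho0_compat σ M hMσ g v
  h4H := by
    intro h
    induction h using QuotientGroup.induction_on with
    | H g =>
      show QuotientGroup.mk (σ (σ (σ (σ g)))) = _
      rw [pow4_apply h4]
  h4V := by
    intro v
    apply Subtype.ext
    show σ (σ (σ (σ (v : G)))) = _
    rw [pow4_apply h4]
  fH := quotAut_fpf hf _ _
  fV := restrictAut_fpf hf _ _

end Setup

section Key

variable {G : Type u} [Group G] [Finite G]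

/-- A `σ`-invariant abelian normal subgroup of `G / C_G(M)` has order prime to `p`. -/
theorem not_dvd_card_of_minInv (σ : MulAut G) (h4 : σ ^ 4 = 1) (hf : Fpf σ)
    (M : Subgroup G) (hM : MinInv σ M) [M.Normal] [IsMulCommutative M] (p : ℕ) [hp : Fact p.Prime]
    (hpd : p ∣ Nat.card M)
    (R : Subgroup (G ⧸ (rho0 M).ker)) (hRn : R.Normal)
    (hRσ : ∀ r ∈ R, sigBar σ M hM.inv r ∈ R) (hRab : ∀ a ∈ R, ∀ b ∈ R, a * b = b * a) :
    ¬ p ∣ Nat.card R := by
  classical
  intro hdiv
  have hy := hyp_bar σ M hM.inv h4 hf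
  obtain ⟨s0, hs0⟩ := exists_prime_orderOf_dvd_card' p hdiv
  let S : Subgroup (G ⧸ (rho0 M).ker) :=
    { carrier := {r | r ∈ R ∧ r ^ p = 1}
      one_mem' := ⟨R.one_mem, one_pow _⟩
      mul_mem' := by
        rintro a b ⟨ha, ha2⟩ ⟨hb, hb2⟩
        refine ⟨R.mul_mem ha hb, ?_⟩
        rw [(show Commute a b from hRab a ha b hb).mul_pow, ha2, hb2, one_mul]
      inv_mem' := by
        rintro a ⟨ha, ha2⟩
        exact ⟨R.inv_mem ha, by rw [inv_pow, ha2, inv_one]⟩ }
  have hSn : ∀ s ∈ S, ∀ g : G ⧸ (rho0 M).ker, g * s * g⁻¹ ∈ S := by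
    rintro s ⟨hs, hs2⟩ g
    refine ⟨hRn.conj_mem s hs g, ?_⟩
    rw [conj_pow, hs2, mul_one, mul_inv_cancel]
  have hSσ : ∀ s ∈ S, sigBar σ M hM.inv s ∈ S := by
    rintro s ⟨hs, hs2⟩
    exact ⟨hRσ s hs, by rw [← map_pow, hs2, map_one]⟩
  let FixM : Subgroup M :=
    { carrier := {m | ∀ s ∈ S, rhoBar M s m = m}
      one_mem' := by intro s _; exact map_one _
      mul_mem' := by
        intro a b ha hb s hs
        rw [map_mul, ha s hs, hb s hs]
      inv_mem' := by
        intro a ha s hs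
        rw [map_inv, ha s hs] }
  let Fix : Subgroup G := FixM.map M.subtype
  have hFix_le : Fix ≤ M := by
    rintro _ ⟨m, _, rfl⟩
    exact m.2
  have hFixn : Fix.Normal := by
    constructor
    rintro _ ⟨m, hm, rfl⟩ g
    refine ⟨rho0 M g m, ?_, ?_⟩
    · intro s hs
      have h1 : (QuotientGroup.mk g : G ⧸ (rho0 M).ker)⁻¹ * s * (QuotientGroup.mk g) ∈ S := by
        have := hSn s hs (QuotientGroup.mk g)⁻¹
        rwa [inv_inv] at this
      have h2 := hm _ h1
      have h3 : rhoBar M s (rhoBar M (QuotientGroup.mk g) m) =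
          rhoBar M (QuotientGroup.mk g) (rhoBar M ((QuotientGroup.mk g)⁻¹ * s *
            (QuotientGroup.mk g)) m) := by
        rw [← MulAut.mul_apply, ← MulAut.mul_apply, ← map_mul, ← map_mul]
        congr 2
        group
      rw [h2] at h3
      exact h3
    · simp [MulAut.conjNormal_apply]
  have hFixσ : ∀ n ∈ Fix, σ n ∈ Fix := by
    rintro _ ⟨m, hm, rfl⟩
    refine ⟨restrictAut σ M hM.inv m, ?_, rfl⟩
    intro s hs
    obtain ⟨s', hs', rfl⟩ := exists_preimage_mem (sigBar σ M hM.inv) S hSσ hs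
    rw [← hy.compat, hm s' hs']
  have hFix1 : Fix ≠ ⊥ := by
    letI : MulAction S M := MulAction.compHom M ((rhoBar M).comp S.subtype)
    have hSp : IsPGroup p S := by
      intro s
      refine ⟨1, ?_⟩
      rw [pow_one]
      exact Subtype.ext s.2.2
    have h1 : (1 : M) ∈ MulAction.fixedPoints S M := by
      intro s
      exact map_one (rhoBar M s)
    obtain ⟨b, hb, hb1⟩ := hSp.exists_fixed_point_of_prime_dvd_card_of_fixed_point M hpd h1
    intro hbot
    have h2 : (b : G) ∈ Fix := ⟨b, fun s hs => hb ⟨s, hs⟩, rfl⟩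
    rw [hbot, Subgroup.mem_bot] at h2
    exact hb1 (Subtype.ext h2.symm)
  have hFixM := hM.min Fix hFixn hFixσ hFix1 hFix_le
  have hall : ∀ s ∈ S, rhoBar M s = 1 := by
    intro s hs
    ext m
    have h1 : (m : G) ∈ Fix := by rw [hFixM]; exact m.2
    obtain ⟨m', hm', hmm⟩ := h1
    have h2 : m' = m := Subtype.ext hmm
    rw [← h2, hm' s hs]
    rfl
  have hs0S : (s0 : G ⧸ (rho0 M).ker) ∈ S := by
    refine ⟨s0.2, ?_⟩
    have := pow_orderOf_eq_one s0
    rw [hs0] at this
    have := congrArg Subtype.val this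
    simpa using this
  have h5 : (s0 : G ⧸ (rho0 M).ker) = 1 := hy.inj ((hall _ hs0S).trans (map_one _).symm)
  have h6 : s0 = 1 := Subtype.ext h5
  rw [h6, orderOf_one] at hs0
  exact hp.out.one_lt.ne hs0

theorem key_step (σ : MulAut G) (h4 : σ ^ 4 = 1) (hf : Fpf σ)
    (M : Subgroup G) (hM : MinInv σ M) [M.Normal] [IsMulCommutative M] (p : ℕ) [hp : Fact p.Prime]
    (hpd : p ∣ Nat.card M) (hexp : ∀ m ∈ M, m ^ p = 1)
    (hnil : Group.IsNilpotent (commutator (G ⧸ (rho0 M).ker))) :
    commutator (G ⧸ (rho0 M).ker) = ⊥ := by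
  classical
  have hy := hyp_bar σ M hM.inv h4 hf
  have hcomσ : ∀ (τ : MulAut (G ⧸ (rho0 M).ker)) (c : G ⧸ (rho0 M).ker),
      c ∈ commutator (G ⧸ (rho0 M).ker) → τ c ∈ commutator (G ⧸ (rho0 M).ker) := by
    intro τ c hc
    have h1 : (commutator (G ⧸ (rho0 M).ker)).map τ.toMonoidHom ≤ commutator (G ⧸ (rho0 M).ker) :=
      Subgroup.characteristic_iff_map_le.mp inferInstance τ
    exact h1 (Subgroup.mem_map_of_mem _ hc)
  let R : Subgroup (G ⧸ (rho0 M).ker) := commutator (G ⧸ (rho0 M).ker) ⊓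
    Subgroup.centralizer (commutator (G ⧸ (rho0 M).ker) : Set (G ⧸ (rho0 M).ker))
  have hRn : R.Normal := inferInstance
  have hRσ : ∀ (τ : MulAut (G ⧸ (rho0 M).ker)), ∀ r ∈ R, τ r ∈ R := by
    intro τ r hr
    have hr' := Subgroup.mem_inf.mp hr
    refine Subgroup.mem_inf.mpr ⟨hcomσ τ r hr'.1, ?_⟩
    rw [Subgroup.mem_centralizer_iff]
    intro c hc
    have h1 : τ⁻¹ c ∈ commutator (G ⧸ (rho0 M).ker) := hcomσ τ⁻¹ c hc
    have h2 := (Subgroup.mem_centralizer_iff.mp hr'.2) _ h1
    have h3 := congrArg τ h2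
    rw [map_mul, map_mul, MulAut.apply_inv_self] at h3
    exact h3
  have hRab : ∀ a ∈ R, ∀ b ∈ R, a * b = b * a := by
    intro a ha b hb
    exact (Subgroup.mem_centralizer_iff.mp (Subgroup.mem_inf.mp hb).2) a (Subgroup.mem_inf.mp ha).1
  have hpR := not_dvd_card_of_minInv σ h4 hf M hM p hpd R hRn (hRσ _) hRab
  have hcop : (Nat.card R).Coprime (Nat.card M) := by
    have hMp : IsPGroup p M := by
      intro m
      exact ⟨1, by rw [pow_one]; exact Subtype.ext (hexp m m.2)⟩
    obtain ⟨k, hk⟩ := IsPGroup.iff_card.mp hMp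
    rw [hk]
    exact Nat.Coprime.pow_right k ((Nat.Prime.coprime_iff_not_dvd hp.out).mpr hpR).symm
  have hR := hy.main R hRn (hRσ _) hRab inf_le_left hcop
  by_contra hne
  haveI : Nontrivial (commutator (G ⧸ (rho0 M).ker)) := (Subgroup.nontrivial_iff_ne_bot _).mpr hne
  have hc := Group.IsNilpotent.center_ne_bot (commutator (G ⧸ (rho0 M).ker))
  apply hc
  rw [Subgroup.eq_bot_iff_forall]
  intro c hc
  have h1 : (c : G ⧸ (rho0 M).ker) ∈ R := by
    refine Subgroup.mem_inf.mpr ⟨c.2, ?_⟩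
    rw [Subgroup.mem_centralizer_iff]
    intro d hd
    have := Subgroup.mem_center_iff.mp hc ⟨d, hd⟩
    exact congrArg Subtype.val this
  rw [hR, Subgroup.mem_bot] at h1
  exact Subtype.ext h1

end Key

/-- The main theorem, by induction on the order. -/
theorem main_aux : ∀ (n : ℕ) (G : Type u) [Group G] [Finite G], Nat.card G = n →
    Group.IsSolvable G → ∀ σ : MulAut G, σ ^ 4 = 1 → Fpf σ →
    Group.IsNilpotent (commutator G) := by
  intro n
  induction n using Nat.strong_induction_on with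
  | _ n ih =>
  intro G _ _ hcard hsolv σ h4 hf
  rcases subsingleton_or_nontrivial G with hG1 | hG1
  · infer_instance
  obtain ⟨M, hM⟩ := exists_minInv σ
  haveI := hM.normal
  haveI : IsMulCommutative M := ⟨⟨fun a b => Subtype.ext (hM.comm a a.2 b b.2)⟩⟩
  obtain ⟨p, hp, hpd, hexp⟩ := hM.exists_prime_exp
  haveI : Fact p.Prime := ⟨hp⟩
  have hMcard : 1 < Nat.card M := (Subgroup.one_lt_card_iff_ne_bot M).mpr hM.ne_bot
  have ih1 : Group.IsNilpotent (commutator (G ⧸ M)) := by
    refine ih (Nat.card (G ⧸ M)) ?_ (G ⧸ M) rfl inferInstance (quotAut σ M hM.inv) ?_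
      (quotAut_fpf hf M hM.inv)
    · rw [← hcard, Subgroup.card_eq_card_quotient_mul_card_subgroup M]
      exact lt_mul_of_one_lt_right Nat.card_pos hMcard
    · apply pow4_of_apply
      intro y
      induction y using QuotientGroup.induction_on with
      | H g =>
        show QuotientGroup.mk (σ (σ (σ (σ g)))) = _
        rw [pow4_apply h4]
  have hMK : M ≤ (rho0 M).ker := by
    intro m hm
    rw [MonoidHom.mem_ker]
    ext x
    rw [MulAut.conjNormal_apply, MulAut.one_apply, hM.comm m hm x x.2]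
    group
  have hKcard : 1 < Nat.card (rho0 M).ker :=
    lt_of_lt_of_le hMcard (Nat.le_of_dvd Nat.card_pos (Subgroup.card_dvd_of_le hMK))
  have ih2 : Group.IsNilpotent (commutator (G ⧸ (rho0 M).ker)) := by
    refine ih (Nat.card (G ⧸ (rho0 M).ker)) ?_ _ rfl inferInstance (sigBar σ M hM.inv)
      (hyp_bar σ M hM.inv h4 hf).pow4H (quotAut_fpf hf _ _)
    rw [← hcard, Subgroup.card_eq_card_quotient_mul_card_subgroup (rho0 M).ker]
    exact lt_mul_of_one_lt_right Nat.card_pos hKcard
  have key := key_step σ h4 hf M hM p hpd hexp ih2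
  have hGK : commutator G ≤ (rho0 M).ker := by
    rw [commutator_def, Subgroup.commutator_le]
    intro x _ y _
    have h1 : (QuotientGroup.mk ⁅x, y⁆ : G ⧸ (rho0 M).ker) ∈ commutator (G ⧸ (rho0 M).ker) := by
      have : (QuotientGroup.mk ⁅x, y⁆ : G ⧸ (rho0 M).ker) =
          ⁅(QuotientGroup.mk x : G ⧸ (rho0 M).ker), QuotientGroup.mk y⁆ :=
        map_commutatorElement (QuotientGroup.mk' (rho0 M).ker) x y
      rw [this, commutator_def]
      exact Subgroup.commutator_mem_commutator (Subgroup.mem_top _) (Subgroup.mem_top _)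
    rw [key, Subgroup.mem_bot, QuotientGroup.eq_one_iff] at h1
    exact h1
  have hmap : ∀ x : commutator G, (QuotientGroup.mk' M) (x : G) ∈ commutator (G ⧸ M) := by
    intro x
    have h1 : (commutator G).map (QuotientGroup.mk' M) ≤ commutator (G ⧸ M) := by
      rw [commutator_def, Subgroup.map_commutator, commutator_def]
      exact Subgroup.commutator_mono le_top le_top
    exact h1 (Subgroup.mem_map_of_mem _ x.2)
  let f : commutator G →* commutator (G ⧸ M) :=
    ((QuotientGroup.mk' M).comp (commutator G).subtype).codRestrict (commutator (G ⧸ M)) hmap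
  haveI := ih1
  apply Subgroup.isNilpotent_of_ker_le_center f
  intro x hx
  have hxM : (x : G) ∈ M := by
    rw [MonoidHom.mem_ker] at hx
    have := congrArg Subtype.val hx
    exact (QuotientGroup.eq_one_iff (x : G)).mp this
  rw [Subgroup.mem_center_iff]
  intro y
  apply Subtype.ext
  have hyK : (y : G) ∈ (rho0 M).ker := hGK y.2
  rw [MonoidHom.mem_ker] at hyK
  have h1 := congrArg (fun φ : MulAut M => ((φ ⟨x, hxM⟩ : M) : G)) hyK
  simp only [MulAut.conjNormal_apply, MulAut.one_apply] at h1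
  -- h1 : y * x * y⁻¹ = x
  rw [Subgroup.coe_mul, Subgroup.coe_mul]
  calc (y : G) * x = (y * x * (y : G)⁻¹) * y := by group
    _ = x * y := by rw [h1]

end Cfsg.Agent.Lib.Helper20.Fpf4
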