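import Mathlib
import Cfsg.Prelude.Def_ClassicalGeometry
import Cfsg.Prelude.Def_GeometricClasses
import Cfsg.Agent.Lib.Helper5.SpMax
import Cfsg.Agent.Lib.Helper22.C3Defs
import Cfsg.Agent.Lib.Helper22.C3Tool
import Cfsg.Agent.Lib.Helper23.C3E

/-!
S5804 conjunct (6) (helper22's GU3 market), leaf **B** `exists_plane_of_singular_plane_of3`:
helper13's `exists_plane_of_singular_plane_of5` (= helper22's C3B) with the call of E1 replaced by its instance
(a non-singular vector orthogonal to `x₀, y₀, J x₀, J y₀`) as a hypothesis.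
-/

set_option autoImplicit false

namespace Cfsg.Agent.Lib.Helper20.GU3Leaf
open Cfsg Matrix Cfsg.Agent.Lib.Helper5 Cfsg.Agent.Lib.Helper5.SpMax Cfsg.Agent.Lib.Helper22.C3
  Cfsg.Agent.Lib.Helper22.C3Leaf

variable {F : Type*} [Field F] {m : ℕ}

local notation "𝕍" => (Fin m ⊕ Fin m → F)
local notation "𝕄" => Matrix (Fin m ⊕ Fin m) (Fin m ⊕ Fin m) F

/-- **B** = helper13's `exists_plane_of_singular_plane_of5` with the E1 call replaced by its instance. -/
theorem exists_plane_of_singular_plane_of3 (S : CS m F) (h2 : (2 : F) ≠ 0)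
    (M : Subgroup (GL (Fin m ⊕ Fin m) F)) (hMS : M ≤ spGL m F)
    (hM : ∀ g ∈ spGL m F, (g : 𝕄) * S.J = S.J * (g : 𝕄) → g ∈ M)
    (x₀ y₀ : 𝕍) (h₀ : sympForm m F x₀ y₀ = 1) (hz : zpl x₀ y₀ h₀ ∈ M)
    (hN : ∀ u ∈ Submodule.span F {x₀, y₀}, S.N u = 0)
    (E1 : ∃ v₁ : 𝕍, S.N v₁ ≠ 0 ∧ sympForm m F v₁ x₀ = 0 ∧ sympForm m F v₁ y₀ = 0 ∧
      sympForm m F v₁ (S.J *ᵥ x₀) = 0 ∧ sympForm m F v₁ (S.J *ᵥ y₀) = 0) :
    ∃ (x y : 𝕍) (hxy : sympForm m F x y = 1), zpl x y hxy ∈ M ∧ S.N x ≠ 0 ∧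
      S.J *ᵥ x ∉ Submodule.span F {x, y} := by
  classical
  -- the plane is totally singular for the polar form as well
  have hx₀ : sympForm m F x₀ (S.J *ᵥ x₀) = 0 := hN x₀ (Submodule.subset_span (Set.mem_insert _ _))
  have hy₀ : sympForm m F y₀ (S.J *ᵥ y₀) = 0 :=
    hN y₀ (Submodule.subset_span (Set.mem_insert_of_mem _ rfl))
  have hyJx : sympForm m F y₀ (S.J *ᵥ x₀) = sympForm m F x₀ (S.J *ᵥ y₀) := by
    rw [sympForm_swap, S.skew, neg_neg]
  have hxy₀ : sympForm m F x₀ (S.J *ᵥ y₀) = 0 := by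
    have h := hN (x₀ + y₀) (Submodule.add_mem _ (Submodule.subset_span (Set.mem_insert _ _))
      (Submodule.subset_span (Set.mem_insert_of_mem _ rfl)))
    unfold CS.N at h
    rw [Matrix.mulVec_add] at h
    simp only [sympForm_add_left, sympForm_add_right, hx₀, hy₀, hyJx] at h
    have h3 : (2 : F) * sympForm m F x₀ (S.J *ᵥ y₀) = 0 := by linear_combination h
    rcases mul_eq_zero.mp h3 with h4 | h4
    · exact absurd h4 h2
    · exact h4
  have hyJx0 : sympForm m F y₀ (S.J *ᵥ x₀) = 0 := by rw [hyJx, hxy₀]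
  have hyx : sympForm m F y₀ x₀ = -1 := by rw [sympForm_swap, h₀]
  -- a non-singular vector orthogonal to x₀, y₀, J x₀, J y₀
  obtain ⟨v₁, hv₁, p1, p2, p3, p4⟩ := E1
  have q1 : sympForm m F x₀ (S.J *ᵥ v₁) = 0 := by
    rw [sympForm_swap, S.skew, neg_neg, p3]
  have q2 : sympForm m F y₀ (S.J *ᵥ v₁) = 0 := by
    rw [sympForm_swap, S.skew, neg_neg, p4]
  have q3 : sympForm m F x₀ v₁ = 0 := by rw [sympForm_swap, p1, neg_zero]
  have q4 : sympForm m F y₀ v₁ = 0 := by rw [sympForm_swap, p2, neg_zero]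
  -- v' = x₀ + v₁ is non-singular
  have hNv' : S.N (x₀ + v₁) = S.N v₁ := by
    unfold CS.N
    rw [Matrix.mulVec_add]
    simp only [sympForm_add_left, sympForm_add_right, hx₀, q1, p3]
    ring
  have hv' : S.N (x₀ + v₁) ≠ 0 := by rw [hNv']; exact hv₁
  set z := zpl x₀ y₀ h₀ with hzdef
  have hzS : z ∈ spGL m F := zpl_mem _ _ _
  -- images under z
  have hzx : (z : 𝕄) *ᵥ (x₀ + v₁) = -x₀ + v₁ := by
    rw [hzdef, zpl_mulVec]
    simp only [sympForm_add_left, sympForm_self, h₀, p1, p2]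
    ext i
    simp only [Pi.add_apply, Pi.sub_apply, Pi.smul_apply, Pi.neg_apply, smul_eq_mul]
    ring
  have hzy : (z : 𝕄) *ᵥ ((S.N (x₀ + v₁))⁻¹ • (S.J *ᵥ (x₀ + v₁)))
      = (S.N v₁)⁻¹ • (S.J *ᵥ x₀ + S.J *ᵥ v₁) := by
    rw [hzdef, zpl_mulVec, hNv', Matrix.mulVec_add]
    have e1 : sympForm m F (S.J *ᵥ x₀) y₀ = 0 := by rw [S.skew, hxy₀, neg_zero]
    have e2 : sympForm m F (S.J *ᵥ v₁) y₀ = 0 := by rw [S.skew, p4, neg_zero]
    have e3 : sympForm m F (S.J *ᵥ x₀) x₀ = 0 := by rw [S.skew, hx₀, neg_zero]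
    have e4 : sympForm m F (S.J *ᵥ v₁) x₀ = 0 := by rw [S.skew, p3, neg_zero]
    simp only [sympForm_smul_left, sympForm_add_left, e1, e2, e3, e4]
    ext i
    simp only [Pi.add_apply, Pi.sub_apply, Pi.smul_apply, smul_eq_mul]
    ring
  -- the new involution
  have hz' : z * S.zK (x₀ + v₁) hv' * z⁻¹ ∈ M :=
    M.mul_mem (M.mul_mem hz (hM _ (S.zK_mem _ hv') (zK_comm S _ hv'))) (M.inv_mem hz)
  have hconj := conj_zpl hzS (x₀ + v₁) ((S.N (x₀ + v₁))⁻¹ • (S.J *ᵥ (x₀ + v₁)))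
    (S.form_self_scaled hv')
  have hxy : sympForm m F (-x₀ + v₁) ((S.N v₁)⁻¹ • (S.J *ᵥ x₀ + S.J *ᵥ v₁)) = 1 := by
    rw [← hzx, ← hzy, mem_spGL.mp hzS]
    exact S.form_self_scaled hv'
  have hzeq : z * S.zK (x₀ + v₁) hv' * z⁻¹
      = zpl (-x₀ + v₁) ((S.N v₁)⁻¹ • (S.J *ᵥ x₀ + S.J *ᵥ v₁)) hxy := by
    unfold CS.zK
    rw [hconj]
    congr 1
  refine ⟨-x₀ + v₁, (S.N v₁)⁻¹ • (S.J *ᵥ x₀ + S.J *ᵥ v₁), hxy, hzeq ▸ hz', ?_, ?_⟩
  · -- N x ≠ 0
    have : S.N (-x₀ + v₁) = S.N v₁ := by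
      unfold CS.N
      rw [Matrix.mulVec_add, Matrix.mulVec_neg]
      simp only [sympForm_add_left, sympForm_add_right, sympForm_neg_left, sympForm_neg_right, hx₀,
        q1, p3]
      ring
    rw [this]; exact hv₁
  · -- J x ∉ span {x, y}
    intro hmem
    obtain ⟨a, b, hab⟩ := Submodule.mem_span_pair.mp hmem
    rw [Matrix.mulVec_add, Matrix.mulVec_neg] at hab
    have e1 : sympForm m F (S.J *ᵥ x₀) y₀ = 0 := by rw [S.skew, hxy₀, neg_zero]
    have e2 : sympForm m F (S.J *ᵥ v₁) y₀ = 0 := by rw [S.skew, p4, neg_zero]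
    -- pair with y₀
    have ha : a = 0 := by
      have h := congrArg (fun u => sympForm m F u y₀) hab
      simp only [sympForm_add_left, sympForm_smul_left, sympForm_neg_left, h₀, q3, p2, e1, e2] at h
      linear_combination -h
    rw [ha, zero_smul, zero_add, smul_smul] at hab
    -- pair with J y₀
    have f1 : sympForm m F (S.J *ᵥ x₀) (S.J *ᵥ y₀) = -S.δ := by rw [S.form_JJ, h₀, mul_one]
    have f2 : sympForm m F (S.J *ᵥ v₁) (S.J *ᵥ y₀) = 0 := by rw [S.form_JJ, p2, mul_zero]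
    have hc1 : b * (S.N v₁)⁻¹ = -1 := by
      have h := congrArg (fun u => sympForm m F u (S.J *ᵥ y₀)) hab
      simp only [sympForm_add_left, sympForm_smul_left, sympForm_neg_left, f1, f2] at h
      have hδ := S.δ_ne_zero
      have h5 : S.δ * (b * (S.N v₁)⁻¹ + 1) = 0 := by linear_combination -h
      rcases mul_eq_zero.mp h5 with h6 | h6
      · exact absurd h6 hδ
      · linear_combination h6
    -- pair with v₁
    have g1 : sympForm m F (S.J *ᵥ x₀) v₁ = 0 := by rw [S.skew, q1, neg_zero]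
    have g2 : sympForm m F (S.J *ᵥ v₁) v₁ = -S.N v₁ := S.form_J_self v₁
    have hc2 : b * (S.N v₁)⁻¹ = 1 := by
      have h := congrArg (fun u => sympForm m F u v₁) hab
      simp only [sympForm_add_left, sympForm_smul_left, sympForm_neg_left, g1, g2] at h
      have h5 : S.N v₁ * (b * (S.N v₁)⁻¹ - 1) = 0 := by linear_combination -h
      rcases mul_eq_zero.mp h5 with h6 | h6
      · exact absurd h6 hv₁
      · linear_combination h6
    apply h2
    have h7 : (1 : F) = -1 := hc2.symm.trans hc1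
    linear_combination h7

end Cfsg.Agent.Lib.Helper20.GU3Leaf
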