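/-
helper20: S4561 (Gagola, planner helper21) easy leaves on `GData`: (B) the trivial group, (T) restriction along an
injective homomorphism, (N) only the prime divisors of `n` matter.
-/
import Mathlib
import Cfsg.Agent.Lib.Helper21.GagDefs

set_option autoImplicit false

namespace Cfsg.Agent.Lib.Helper20.GagBTN

open RegularWreathProduct Cfsg.Agent.Lib.Helper21.Gag

universe u

/-- (B) base of the induction: the trivial group.  Take `H = G`, `Z = ⊤`, `lam = 1`, `s = id`, `m = 1`. -/
theorem gdata_of_card_one {G : Type u} [Group G] [Finite G] (h : Nat.card G = 1) : GData G 1 := by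
  have hsub : Subsingleton G := (Nat.card_eq_one_iff_unique.mp h).1
  refine ⟨G, inferInstance, inferInstance, ⊤, fun _ => 1, id, 1, ?_⟩
  refine
    { normal := inferInstance
      lam_mul := fun _ _ _ _ => (mul_one _).symm
      lam_conj := fun _ _ _ => rfl
      star := fun x hx => absurd (Subgroup.mem_top x) hx
      s_mul := fun _ _ => Subgroup.mem_top _
      s_inj := fun a _ => Subsingleton.elim a 1
      primes_card := fun q _ hq => by rwa [h] at hq
      sqfree := squarefree_one
      primes_m := fun q _ hq => hq
      lam_pow := fun _ _ => one_pow _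
      witness := fun q hq hq1 => absurd (Nat.le_of_dvd Nat.one_pos hq1) (not_le.mpr hq.one_lt) }

/-- (T) a datum for `G` restricts along an injective homomorphism `G' →* G` (`s' = s ∘ j`). -/
theorem gdata_of_injective {G G' : Type u} [Group G] [Group G'] (j : G' →* G)
    (hj : Function.Injective j) {n : ℕ} (h : GData G n) : GData G' n := by
  obtain ⟨H, hG, hF, Z, lam, s, m, D⟩ := h
  refine ⟨H, hG, hF, Z, lam, fun a => s (j a), m, ?_⟩
  refine
    { normal := D.normal
      lam_mul := D.lam_mul
      lam_conj := D.lam_conj
      star := D.star
      s_mul := fun a b => by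
        have := D.s_mul (j a) (j b)
        rwa [← map_mul] at this
      s_inj := fun a ha => by
        have h1 := D.s_inj (j a) ha
        rw [← map_one j] at h1
        exact hj h1
      primes_card := D.primes_card
      sqfree := D.sqfree
      primes_m := D.primes_m
      lam_pow := D.lam_pow
      witness := D.witness }

/-- (N) only the prime divisors of `n` matter. -/
theorem gdata_congr {G : Type u} [Group G] {n n' : ℕ} (h : GData G n)
    (hn : ∀ q : ℕ, q.Prime → (q ∣ n ↔ q ∣ n')) : GData G n' := by
  obtain ⟨H, hG, hF, Z, lam, s, m, D⟩ := h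
  refine ⟨H, hG, hF, Z, lam, s, m, ?_⟩
  refine
    { normal := D.normal
      lam_mul := D.lam_mul
      lam_conj := D.lam_conj
      star := D.star
      s_mul := D.s_mul
      s_inj := D.s_inj
      primes_card := fun q hq hd => (hn q hq).mp (D.primes_card q hq hd)
      sqfree := D.sqfree
      primes_m := fun q hq hd => (hn q hq).mp (D.primes_m q hq hd)
      lam_pow := D.lam_pow
      witness := fun q hq hd => D.witness q hq ((hn q hq).mpr hd) }

end Cfsg.Agent.Lib.Helper20.GagBTN
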