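/-
helper20: S4561 (Gagola, planner helper21) leaf W1: `Z₁` is a normal subgroup of `(H × C_p) ≀ᵣ C_p`.
-/
import Mathlib
import Cfsg.Agent.Lib.Helper21.GagDefs

set_option autoImplicit false
set_option linter.unusedSectionVars false

namespace Cfsg.Agent.Lib.Helper20.GagW1

open RegularWreathProduct Cfsg.Agent.Lib.Helper21.Gag

universe u

section step

variable {H : Type u} [Group H] (p : ℕ) [NeZero p] (Z : Subgroup H) (lam : H → ℂˣ)

/-- the coordinates of a conjugate of an element with trivial top part -/
theorem conj_left (h z : Wr H p) (hz : z.right = 1) (q : Cp p) :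
    (h * z * h⁻¹).left q = h.left q * z.left (h.right⁻¹ * q) * (h.left q)⁻¹ := by
  rw [RegularWreathProduct.mul_left, RegularWreathProduct.mul_left, RegularWreathProduct.inv_left,
    RegularWreathProduct.mul_right, hz, mul_one]
  simp only [Pi.mul_apply, Pi.inv_apply, mul_inv_cancel_left]

theorem conj_right (h z : Wr H p) (hz : z.right = 1) : (h * z * h⁻¹).right = 1 := by
  rw [RegularWreathProduct.mul_right, RegularWreathProduct.mul_right, RegularWreathProduct.inv_right, hz,
    mul_one, mul_inv_cancel]

/-- (W1) `Z₁` is normal.  Use the conjugation formula in the header. -/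
theorem Z1_normal (hZ : Z.Normal) : (Z1 p Z).Normal := by
  constructor
  intro n hn g
  rw [mem_Z1] at hn ⊢
  obtain ⟨h1, h2, h3⟩ := hn
  refine ⟨conj_right p g n h1, ?_, ?_⟩
  · intro q
    rw [conj_left p g n h1 q, Prod.fst_mul, Prod.fst_mul, Prod.fst_inv]
    exact hZ.conj_mem _ (h2 _) _
  · have hq : ∀ q, ((g * n * g⁻¹).left q).2 = (n.left (g.right⁻¹ * q)).2 := by
      intro q
      rw [conj_left p g n h1 q, Prod.snd_mul, Prod.snd_mul, Prod.snd_inv, mul_comm, inv_mul_cancel_left]
    simp only [hq]
    rw [← h3]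
    exact Fintype.prod_equiv (Equiv.mulLeft g.right⁻¹) _ _ (fun q => rfl)

end step

end Cfsg.Agent.Lib.Helper20.GagW1
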