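/-
helper20: S4561 (Gagola, planner helper21) leaves W6 + W7: the primes of `#((H × C_p) ≀ᵣ C_p)` and the facts on
the new exponent `m₁`.
-/
import Mathlib
import Cfsg.Agent.Lib.Helper21.GagDefs

set_option autoImplicit false
set_option linter.unusedSectionVars false

namespace Cfsg.Agent.Lib.Helper20.GagW67

open RegularWreathProduct Cfsg.Agent.Lib.Helper21.Gag

universe u

section step

variable {H : Type u} [Group H] (p : ℕ) [NeZero p]

theorem card_Cp : Nat.card (Cp p) = p := by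
  rw [Nat.card_congr (Multiplicative.toAdd : Cp p ≃ ZMod p), Nat.card_zmod]

/-- (W6) primes dividing `#(Wr H p)` (`RegularWreathProduct.card`). -/
theorem prime_dvd_card_Wr [Finite H] (q : ℕ) (hq : q.Prime) (h : q ∣ Nat.card (Wr H p)) :
    q ∣ Nat.card H ∨ q ∣ p := by
  rw [RegularWreathProduct.card, Nat.card_prod, card_Cp] at h
  rcases (Nat.Prime.dvd_mul hq).mp h with h1 | h1
  · rcases (Nat.Prime.dvd_mul hq).mp (hq.dvd_of_dvd_pow h1) with h2 | h2
    · exact Or.inl h2
    · exact Or.inr h2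
  · exact Or.inr h1

/-- (W7) the new exponent. -/
theorem m1_facts (hp : p.Prime) (m : ℕ) (hm : Squarefree m) :
    Squarefree (m1 p m) ∧ m ∣ m1 p m ∧ p ∣ m1 p m ∧
      ∀ q : ℕ, q.Prime → q ∣ m1 p m → q ∣ m ∨ q = p := by
  unfold m1
  by_cases h : p ∣ m
  · rw [if_pos h]
    exact ⟨hm, dvd_refl _, h, fun q _ hq => Or.inl hq⟩
  · rw [if_neg h]
    refine ⟨?_, dvd_mul_right _ _, dvd_mul_left _ _, ?_⟩
    · rw [Nat.squarefree_mul_iff]
      exact ⟨((Nat.Prime.coprime_iff_not_dvd hp).mpr h).symm, hm, hp.prime.squarefree⟩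
    · intro q hq hqd
      rcases (Nat.Prime.dvd_mul hq).mp hqd with h1 | h1
      · exact Or.inl h1
      · exact Or.inr ((Nat.prime_dvd_prime_iff_eq hq hp).mp h1)

end step

end Cfsg.Agent.Lib.Helper20.GagW67
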