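/-
helper20: S4561 (Gagola, planner helper21) leaf W8: `lam₁` has exponent dividing `m₁` on `Z₁`.
-/
import Mathlib
import Cfsg.Agent.Lib.Helper21.GagDefs
import Cfsg.Agent.Lib.Helper20.GagW67

set_option autoImplicit false
set_option linter.unusedSectionVars false

namespace Cfsg.Agent.Lib.Helper20.GagW8

open RegularWreathProduct Cfsg.Agent.Lib.Helper21.Gag

universe u

section step

variable {H : Type u} [Group H] (p : ℕ) [NeZero p] (Z : Subgroup H) (lam : H → ℂˣ)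

theorem Cp_pow_self (x : Cp p) : x ^ p = 1 := by
  apply Multiplicative.toAdd.injective
  rw [toAdd_pow, toAdd_one, nsmul_eq_mul, ZMod.natCast_self, zero_mul]

/-- (W8) `lam₁` has exponent dividing `m₁` on `Z₁` (`eps x ^ p = 1`). -/
theorem lam1_pow (m : ℕ) (hm : Squarefree m) (hp : p.Prime) (hpow : ∀ z ∈ Z, lam z ^ m = 1) :
    ∀ z ∈ Z1 p Z, lam1 p lam z ^ (m1 p m) = 1 := by
  intro z hz
  obtain ⟨-, hmd, hpd, -⟩ := Cfsg.Agent.Lib.Helper20.GagW67.m1_facts p hp m hm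
  rw [mem_Z1] at hz
  obtain ⟨-, h2, -⟩ := hz
  unfold lam1
  rw [mul_pow, ← Finset.prod_pow]
  have h1 : ∀ q ∈ (Finset.univ : Finset (Cp p)), lam (z.left q).1 ^ (m1 p m) = 1 := by
    intro q _
    obtain ⟨c, hc⟩ := hmd
    rw [hc, pow_mul, hpow _ (h2 q), one_pow]
  rw [Finset.prod_eq_one h1, one_mul]
  obtain ⟨c, hc⟩ := hpd
  rw [hc, pow_mul, ← map_pow, Cp_pow_self, map_one, one_pow]

end step

end Cfsg.Agent.Lib.Helper20.GagW8
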