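import Mathlib

/-!
Helper20: `GlauPerf` — towards a Glauberman-type theorem: a perfect group of automorphisms of a finite
group `G` fixing a Sylow 2-subgroup pointwise acts on `G/O(G)` as a group of odd order.
File A: the "cocycle" `g ↦ g⁻¹ x(g)` of an automorphism `x`.
-/

set_option autoImplicit false

namespace Cfsg.Agent.Lib.Helper20.GlauPerf

variable {G : Type*} [Group G]

/-- the cocycle `g ↦ g⁻¹ x(g)` of an automorphism -/
def coc (x : MulAut G) (g : G) : G := g⁻¹ * x g

theorem coc_def (x : MulAut G) (g : G) : coc x g = g⁻¹ * x g := rfl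

theorem apply_eq_mul_coc (x : MulAut G) (g : G) : x g = g * coc x g := by
  unfold coc; group

@[simp] theorem coc_one_right (x : MulAut G) : coc x 1 = 1 := by
  unfold coc; simp

@[simp] theorem coc_one_left (g : G) : coc (1 : MulAut G) g = 1 := by
  unfold coc; simp

theorem coc_eq_one_iff (x : MulAut G) (g : G) : coc x g = 1 ↔ x g = g := by
  unfold coc
  constructor
  · intro h
    calc x g = g * (g⁻¹ * x g) := by group
      _ = g := by rw [h, mul_one]
  · intro h
    rw [h, inv_mul_cancel]

theorem coc_mul (x : MulAut G) (g h : G) : coc x (g * h) = h⁻¹ * coc x g * h * coc x h := by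
  unfold coc
  rw [map_mul]
  group

theorem coc_inv (x : MulAut G) (g : G) : coc x g⁻¹ = g * (coc x g)⁻¹ * g⁻¹ := by
  unfold coc
  rw [map_inv]
  group

/-- left multiplication by a fixed element does not change the cocycle -/
theorem coc_mul_of_fixed_left (x : MulAut G) {f : G} (hf : x f = f) (g : G) :
    coc x (f * g) = coc x g := by
  rw [coc_mul, (coc_eq_one_iff x f).mpr hf]
  group

/-- right multiplication by a fixed element conjugates the cocycle -/
theorem coc_mul_of_fixed_right (x : MulAut G) {f : G} (hf : x f = f) (g : G) :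
    coc x (g * f) = f⁻¹ * coc x g * f := by
  rw [coc_mul, (coc_eq_one_iff x f).mpr hf, mul_one]

theorem apply_coc_of_sq (x : MulAut G) (hx : x * x = 1) (g : G) : x (coc x g) = (coc x g)⁻¹ := by
  unfold coc
  have h2 : x (x g) = g := by
    have := congrArg (fun y : MulAut G => y g) hx
    simpa using this
  rw [map_mul, map_inv, h2]
  group

/-- if `x` inverts `w` then `coc x (w ^ m) = w ^ (-2m)` -/
theorem coc_pow_of_inverted (x : MulAut G) {w : G} (hw : x w = w⁻¹) (m : ℕ) :
    coc x (w ^ m) = (w ^ (2 * m))⁻¹ := by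
  unfold coc
  rw [map_pow, hw, inv_pow, ← mul_inv_rev, ← pow_add, two_mul]

/-- an element of odd order inverted by `x` is a value of the cocycle on its own powers -/
theorem exists_pow_coc_eq (x : MulAut G) {w : G} (hw : x w = w⁻¹) (hodd : Odd (orderOf w)) :
    ∃ m : ℕ, coc x (w ^ m) = w := by
  obtain ⟨k, hk⟩ := hodd
  refine ⟨k, ?_⟩
  rw [coc_pow_of_inverted x hw]
  have h1 : w ^ (2 * k) * w = 1 := by
    rw [← pow_succ, ← hk, pow_orderOf_eq_one]
  exact inv_eq_of_mul_eq_one_right h1

/-- the trick: if `coc x n = coc x o` then `n * o⁻¹` is fixed by `x` -/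
theorem fixed_mul_inv_of_coc_eq (x : MulAut G) {n o : G} (h : coc x n = coc x o) :
    x (n * o⁻¹) = n * o⁻¹ := by
  rw [← coc_eq_one_iff, coc_mul, coc_inv, h]
  group

end Cfsg.Agent.Lib.Helper20.GlauPerf
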