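import Mathlib
import Cfsg.Agent.Lib.Helper20.GlauPerfA

/-!
Helper20 `GlauPerf`, file B: restricting a group of automorphisms to an invariant subgroup and to the
quotient by an invariant normal subgroup; perfectness of images.
-/

set_option autoImplicit false

open scoped commutatorElement

namespace Cfsg.Agent.Lib.Helper20.GlauPerf

variable {G : Type*} [Group G]

/-- restriction of an automorphism to an invariant subgroup -/
def resEquiv (H : Subgroup G) (b : MulAut G) (h1 : ∀ h ∈ H, b h ∈ H) (h2 : ∀ h ∈ H, b⁻¹ h ∈ H) :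
    MulAut ↥H where
  toFun h := ⟨b h, h1 h h.2⟩
  invFun h := ⟨b⁻¹ h, h2 h h.2⟩
  left_inv h := by
    apply Subtype.ext
    show b⁻¹ (b h) = h
    simp
  right_inv h := by
    apply Subtype.ext
    show b (b⁻¹ h) = h
    simp
  map_mul' h k := by
    apply Subtype.ext
    show b ((h : G) * k) = b h * b k
    rw [map_mul]

@[simp] theorem resEquiv_apply_coe (H : Subgroup G) (b : MulAut G) (h1 : ∀ h ∈ H, b h ∈ H)
    (h2 : ∀ h ∈ H, b⁻¹ h ∈ H) (h : ↥H) : ((resEquiv H b h1 h2 h : ↥H) : G) = b h := rfl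

/-- restriction of a group of automorphisms to an invariant subgroup -/
def resHom (H : Subgroup G) (B : Subgroup (MulAut G)) (hB : ∀ b ∈ B, ∀ h ∈ H, b h ∈ H) :
    ↥B →* MulAut ↥H where
  toFun b := resEquiv H b (hB b b.2) (hB (b : MulAut G)⁻¹ (inv_mem b.2))
  map_one' := by
    ext h
    rfl
  map_mul' a b := by
    ext h
    rfl

@[simp] theorem resHom_apply_coe (H : Subgroup G) (B : Subgroup (MulAut G))
    (hB : ∀ b ∈ B, ∀ h ∈ H, b h ∈ H) (b : ↥B) (h : ↥H) :
    ((resHom H B hB b h : ↥H) : G) = (b : MulAut G) h := rfl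

theorem commutator_subtype_eq_top {A : Type*} [Group A] {B : Subgroup A} (hperf : ⁅B, B⁆ = B) :
    commutator ↥B = ⊤ := by
  apply Subgroup.map_injective B.subtype_injective
  rw [Subgroup.map_subtype_commutator, hperf, ← MonoidHom.range_eq_map, Subgroup.range_subtype]

/-- the image of a perfect group is perfect -/
theorem range_perfect {A A' : Type*} [Group A] [Group A'] {B : Subgroup A} (hperf : ⁅B, B⁆ = B)
    (f : ↥B →* A') : ⁅f.range, f.range⁆ = f.range := by
  have h1 : commutator ↥B = ⊤ := commutator_subtype_eq_top hperf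
  rw [MonoidHom.range_eq_map, ← Subgroup.map_commutator]
  congr 1

/-- an element of a perfect group whose image... helper: elements of the range -/
theorem mem_range_resHom (H : Subgroup G) (B : Subgroup (MulAut G))
    (hB : ∀ b ∈ B, ∀ h ∈ H, b h ∈ H) (b : ↥B) : resHom H B hB b ∈ (resHom H B hB).range :=
  ⟨b, rfl⟩

section quot

variable (N : Subgroup G) [N.Normal]

omit [N.Normal] in
theorem map_eq_of_invariant (b : MulAut G) (h1 : ∀ n ∈ N, b n ∈ N) (h2 : ∀ n ∈ N, b⁻¹ n ∈ N) :
    N.map (b : G →* G) = N := by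
  apply le_antisymm
  · rintro _ ⟨n, hn, rfl⟩
    exact h1 n hn
  · intro n hn
    refine ⟨b⁻¹ n, h2 n hn, ?_⟩
    show b (b⁻¹ n) = n
    simp

/-- the automorphism induced on the quotient by an invariant normal subgroup -/
noncomputable def quotEquiv (b : MulAut G) (h1 : ∀ n ∈ N, b n ∈ N) (h2 : ∀ n ∈ N, b⁻¹ n ∈ N) :
    MulAut (G ⧸ N) :=
  QuotientGroup.congr N N b (map_eq_of_invariant N b h1 h2)

@[simp] theorem quotEquiv_mk (b : MulAut G) (h1 : ∀ n ∈ N, b n ∈ N) (h2 : ∀ n ∈ N, b⁻¹ n ∈ N)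
    (g : G) : quotEquiv N b h1 h2 (QuotientGroup.mk g) = QuotientGroup.mk (b g) := rfl

/-- the action on the quotient by an invariant normal subgroup -/
noncomputable def quotHom (B : Subgroup (MulAut G)) (hB : ∀ b ∈ B, ∀ n ∈ N, b n ∈ N) :
    ↥B →* MulAut (G ⧸ N) where
  toFun b := quotEquiv N b (hB b b.2) (hB (b : MulAut G)⁻¹ (inv_mem b.2))
  map_one' := by
    ext q
    obtain ⟨g, rfl⟩ := QuotientGroup.mk_surjective q
    rfl
  map_mul' a b := by
    ext q
    obtain ⟨g, rfl⟩ := QuotientGroup.mk_surjective q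
    rfl

@[simp] theorem quotHom_mk (B : Subgroup (MulAut G)) (hB : ∀ b ∈ B, ∀ n ∈ N, b n ∈ N) (b : ↥B)
    (g : G) : quotHom N B hB b (QuotientGroup.mk g) = QuotientGroup.mk ((b : MulAut G) g) := rfl

end quot

end Cfsg.Agent.Lib.Helper20.GlauPerf
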