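import Mathlib
import Cfsg.Prelude.Def_Solvable
import Cfsg.Agent.S0215
import Cfsg.Agent.Lib.Helper20.GlauPerfA

/-!
Helper20 `GlauPerf`, file C: the `Z*`-theorem applied to `G ⋊ ⟨x⟩` for an involutory automorphism `x`
fixing a Sylow 2-subgroup pointwise: if no nontrivial value of the cocycle lies in `S`, then all values
lie in `O(G)`.
-/

set_option autoImplicit false

namespace Cfsg.Agent.Lib.Helper20.GlauPerf

open SemidirectProduct

variable {G : Type*} [Group G]

theorem le_pPrimeCore_of_normal_of_coprime {p : ℕ} (N : Subgroup G) [hN : N.Normal]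
    (h : (Nat.card N).Coprime p) : N ≤ Cfsg.pPrimeCore p G :=
  le_sSup ⟨hN, h⟩

/-- **`Z*` for an involutory automorphism.** -/
theorem coc_mem_pPrimeCore_of_isolated [Finite G] (S : Sylow 2 G) (x : MulAut G) (hx2 : x * x = 1)
    (hxS : ∀ s ∈ S, x s = s) (hiso : ∀ g : G, coc x g ∈ S → coc x g = 1) (g : G) :
    coc x g ∈ Cfsg.pPrimeCore 2 G := by
  classical
  by_cases hx1 : x = 1
  · rw [hx1, coc_one_left]; exact one_mem _
  set Z : Subgroup (MulAut G) := Subgroup.zpowers x with hZ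
  set φ : ↥Z →* MulAut G := Z.subtype with hφ
  set ξ : ↥Z := ⟨x, Subgroup.mem_zpowers x⟩ with hξ
  haveI : Finite ↥Z := inferInstance
  haveI : Finite (G ⋊[φ] ↥Z) := Finite.of_equiv _ (equivProd (φ := φ)).symm
  -- elements of `Z` fix `S` pointwise
  have hx' : ∀ t ∈ S, x⁻¹ t = t := by
    intro t ht
    have := hxS t ht
    calc x⁻¹ t = x⁻¹ (x t) := by rw [this]
      _ = t := by simp
  have hpow : ∀ k : ℤ, ∀ s ∈ S, (x ^ k) s = s := by
    intro k
    induction k using Int.induction_on with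
    | zero => intro s _; simp
    | succ n ih => intro s hs; rw [zpow_add_one, MulAut.mul_apply, hxS s hs, ih s hs]
    | pred n ih => intro s hs; rw [zpow_sub_one, MulAut.mul_apply, hx' s hs, ih s hs]
  have hZS : ∀ z : ↥Z, ∀ s ∈ S, φ z s = s := by
    rintro ⟨z, hz⟩ s hs
    obtain ⟨k, rfl⟩ := Subgroup.mem_zpowers_iff.mp hz
    exact hpow k s hs
  have hξcomm : ∀ z : ↥Z, z * ξ * z⁻¹ = ξ := by
    intro z
    have hc : ∀ a b : ↥Z, a * b = b * a := by
      intro a b
      apply Subtype.ext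
      obtain ⟨ka, hka⟩ := Subgroup.mem_zpowers_iff.mp a.2
      obtain ⟨kb, hkb⟩ := Subgroup.mem_zpowers_iff.mp b.2
      show (a : MulAut G) * b = b * a
      rw [← hka, ← hkb, ← zpow_add, ← zpow_add, add_comm]
    rw [hc z ξ, mul_assoc, mul_inv_cancel, mul_one]
  set u : G ⋊[φ] ↥Z := inr ξ with hu
  -- order of `u`
  have hxo : orderOf x = 2 := by
    apply orderOf_eq_prime
    · rw [pow_two]; exact hx2
    · exact hx1
  have huo : orderOf u = 2 := by
    rw [hu, orderOf_injective (inr : ↥Z →* G ⋊[φ] ↥Z) inr_injective ξ]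
    rw [← hxo]
    exact (Subgroup.orderOf_coe ξ).symm ▸ rfl
  -- the 2-subgroup `S ⋊ Z`
  let T : Subgroup (G ⋊[φ] ↥Z) :=
    { carrier := {m | m.left ∈ S}
      mul_mem' := by
        intro a b ha hb
        show (a * b).left ∈ S
        rw [mul_left, hZS a.right _ hb]
        exact mul_mem ha hb
      one_mem' := by
        show (1 : G ⋊[φ] ↥Z).left ∈ S
        rw [one_left]; exact one_mem _
      inv_mem' := by
        intro a ha
        show a⁻¹.left ∈ S
        rw [inv_left, hZS a.right⁻¹ _ (inv_mem ha)]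
        exact inv_mem ha }
  have hT2 : IsPGroup 2 ↥T := by
    have hcard : Nat.card ↥T = Nat.card ↥(S : Subgroup G) * Nat.card ↥Z := by
      rw [← Nat.card_prod]
      apply Nat.card_congr
      exact
        { toFun := fun m => (⟨m.1.left, m.2⟩, m.1.right)
          invFun := fun q => ⟨⟨q.1.1, q.2⟩, q.1.2⟩
          left_inv := fun m => by
            apply Subtype.ext
            rfl
          right_inv := fun q => by
            rfl }
    obtain ⟨k, hk⟩ := IsPGroup.iff_card.mp S.isPGroup'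
    have hZc : Nat.card ↥Z = 2 := by rw [hZ, Nat.card_zpowers, hxo]
    apply IsPGroup.of_card (n := k + 1)
    rw [hcard, hk, hZc, pow_succ]
  obtain ⟨P, hTP⟩ := hT2.exists_le_sylow
  have huP : u ∈ P := by
    apply hTP
    show u.left ∈ S
    rw [hu, left_inr]; exact one_mem _
  -- `P ∩ G = S`
  have hPS : ∀ a : G, (inl a : G ⋊[φ] ↥Z) ∈ P → a ∈ S := by
    intro a ha
    have hQ : IsPGroup 2 ↥((P : Subgroup (G ⋊[φ] ↥Z)).comap (inl : G →* G ⋊[φ] ↥Z)) :=
      P.isPGroup'.comap_of_injective _ inl_injective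
    have hSQ : (S : Subgroup G) ≤ (P : Subgroup (G ⋊[φ] ↥Z)).comap (inl : G →* G ⋊[φ] ↥Z) := by
      intro s hs
      apply hTP
      show (inl s : G ⋊[φ] ↥Z).left ∈ S
      rw [left_inl]; exact hs
    have hEq := S.is_maximal' hQ hSQ
    have ha' : a ∈ (P : Subgroup (G ⋊[φ] ↥Z)).comap (inl : G →* G ⋊[φ] ↥Z) := ha
    rw [hEq] at ha'
    exact ha' 
  -- conjugates of `u`
  have hconj : ∀ m : G ⋊[φ] ↥Z, m * u * m⁻¹ = inl (coc x m.left⁻¹) * u := by
    intro m
    have hm : m = inl m.left * inr m.right := (inl_left_mul_inr_right m).symm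
    have h1 : (inr m.right : G ⋊[φ] ↥Z) * u * (inr m.right)⁻¹ = u := by
      rw [hu, ← map_inv, ← map_mul, ← map_mul, hξcomm]
    have h2 : u * inl m.left⁻¹ * u⁻¹ = (inl (x m.left⁻¹) : G ⋊[φ] ↥Z) := by
      have := inl_aut (φ := φ) ξ m.left⁻¹
      rw [hu, ← map_inv]
      rw [← this]
      rfl
    calc m * u * m⁻¹ = inl m.left * (inr m.right * u * (inr m.right)⁻¹) * (inl m.left)⁻¹ := by
          conv_lhs => rw [hm]
          group
      _ = inl m.left * u * (inl m.left)⁻¹ := by rw [h1]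
      _ = inl m.left * (u * inl m.left⁻¹ * u⁻¹) * u := by
          rw [map_inv]; group
      _ = inl (coc x m.left⁻¹) * u := by
          rw [h2, ← map_mul, coc_def, inv_inv]
  have hiso' : ∀ m : G ⋊[φ] ↥Z, m * u * m⁻¹ ∈ P → m * u * m⁻¹ = u := by
    intro m hm
    rw [hconj m] at hm ⊢
    have h1 : (inl (coc x m.left⁻¹) : G ⋊[φ] ↥Z) ∈ P := by
      have := mul_mem hm (inv_mem huP)
      rwa [mul_inv_cancel_right] at this
    have h2 := hiso _ (hPS _ h1)
    rw [h2, map_one, one_mul]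
  obtain ⟨N, hNn, hNodd, hN⟩ := Cfsg.Agent.S0215.result P u huo huP hiso'
  -- pull back to `G`
  haveI : N.Normal := hNn
  set NG : Subgroup G := N.comap (inl : G →* G ⋊[φ] ↥Z) with hNG
  haveI : NG.Normal := hNn.comap _
  have hNGc : (Nat.card ↥NG).Coprime 2 := by
    have h1 : Nat.card ↥NG ∣ Nat.card ↥N :=
      Subgroup.card_comap_dvd_of_injective N _ inl_injective
    have h2 : (Nat.card ↥N).Coprime 2 := Nat.Coprime.symm (Nat.coprime_two_left.mpr hNodd)
    exact Nat.Coprime.coprime_dvd_left h1 h2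
  have hle := le_pPrimeCore_of_normal_of_coprime NG hNGc
  apply hle
  have h3 : (inl (x g * g⁻¹) : G ⋊[φ] ↥Z) ∈ N := by
    have h4 := hN (inl g)
    have h5 : u * inl g * u⁻¹ = (inl (x g) : G ⋊[φ] ↥Z) := by
      have := inl_aut (φ := φ) ξ g
      rw [hu, ← map_inv, ← this]
      rfl
    rw [h5, ← map_inv, ← map_mul] at h4
    exact h4
  have h6 : x g * g⁻¹ ∈ NG := h3
  have h7 : g⁻¹ * (x g * g⁻¹) * g⁻¹⁻¹ ∈ NG := ‹NG.Normal›.conj_mem _ h6 g⁻¹
  have h8 : g⁻¹ * (x g * g⁻¹) * g⁻¹⁻¹ = coc x g := by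
    rw [coc_def]; group
  rwa [h8] at h7

end Cfsg.Agent.Lib.Helper20.GlauPerf
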