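import Mathlib
import Cfsg.Agent.Lib.Helper12.FamilyTransfer
import Cfsg.Agent.Lib.Helper20.GlauPerfA

/-!
Helper20 `GlauPerf`, file D: the isolation lemma.  If an involutory automorphism `x` fixes a Sylow
2-subgroup `S` pointwise and is "locally central modulo cores" (the cocycle on the normalizer of every
tame noncentral subgroup of `S` has odd order values centralizing the subgroup), then no nontrivial value
of the cocycle lies in `S`.
-/

set_option autoImplicit false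

namespace Cfsg.Agent.Lib.Helper20.GlauPerf

open Subgroup Cfsg.Agent.Lib.Helper12

variable {G : Type*} [Group G]

/-- the fixed points of an automorphism -/
def fixedSub (x : MulAut G) : Subgroup G where
  carrier := {g | x g = g}
  mul_mem' := by
    intro a b ha hb
    show x (a * b) = a * b
    rw [map_mul, ha, hb]
  one_mem' := map_one x
  inv_mem' := by
    intro a ha
    show x a⁻¹ = a⁻¹
    rw [map_inv, ha]

theorem mem_fixedSub (x : MulAut G) (g : G) : g ∈ fixedSub x ↔ x g = g := Iff.rfl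

/-- the replacement trick -/
theorem exists_fixed_same_conj (x : MulAut G) (hx2 : x * x = 1) {T : Subgroup G} {n : G}
    (hn : n ∈ normalizer (T : Set G))
    (hc : coc x n ∈ centralizer (T : Set G)) (hodd : Odd (orderOf (coc x n))) :
    ∃ f, x f = f ∧ ∀ t ∈ T, n⁻¹ * t * n = f⁻¹ * t * f := by
  have hinv : x (coc x n) = (coc x n)⁻¹ := apply_coc_of_sq x hx2 n
  obtain ⟨m, hm⟩ := exists_pow_coc_eq x hinv hodd
  have hoc : (coc x n) ^ m ∈ centralizer (T : Set G) := pow_mem hc m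
  refine ⟨n * ((coc x n) ^ m)⁻¹, fixed_mul_inv_of_coc_eq x hm.symm, ?_⟩
  intro t ht
  have h1 : n⁻¹ * t * n ∈ T := by
    have := (Subgroup.mem_normalizer_iff.mp (inv_mem hn) t).mp ht
    simpa using this
  have h2 : (n⁻¹ * t * n) * (coc x n) ^ m = (coc x n) ^ m * (n⁻¹ * t * n) :=
    Subgroup.mem_centralizer_iff.mp hoc _ h1
  calc n⁻¹ * t * n = (coc x n) ^ m * (n⁻¹ * t * n) * ((coc x n) ^ m)⁻¹ := by
        rw [← h2]; group
    _ = (n * ((coc x n) ^ m)⁻¹)⁻¹ * t * (n * ((coc x n) ^ m)⁻¹) := by group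

/-- replacement along a chain -/
theorem exists_fixed_chain (x : MulAut G) (𝓕 : Set (Subgroup G))
    (hrep : ∀ T ∈ 𝓕, ∀ n ∈ normalizer (T : Set G),
      ∃ f, x f = f ∧ ∀ t ∈ T, n⁻¹ * t * n = f⁻¹ * t * f) :
    ∀ (l : List (Subgroup G × G)) (A : Set G), Chain 𝓕 A l →
      ∃ f, x f = f ∧ ∀ a ∈ A, (prodOf l)⁻¹ * a * prodOf l = f⁻¹ * a * f := by
  intro l
  induction l with
  | nil =>
    intro A _
    exact ⟨1, map_one x, fun a _ => by rw [prodOf_nil]⟩
  | cons q l ih =>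
    obtain ⟨T, n⟩ := q
    rintro A ⟨hT, hn, hA, hl⟩
    obtain ⟨f₁, hf₁, h1⟩ := hrep T hT n hn
    obtain ⟨f₂, hf₂, h2⟩ := ih _ hl
    refine ⟨f₁ * f₂, by rw [map_mul, hf₁, hf₂], ?_⟩
    intro a ha
    rw [prodOf_cons]
    have h3 := h2 (n⁻¹ * a * n) ⟨a, ha, rfl⟩
    have h4 := h1 a (hA ha)
    calc (n * prodOf l)⁻¹ * a * (n * prodOf l)
        = (prodOf l)⁻¹ * (n⁻¹ * a * n) * prodOf l := by group
      _ = f₂⁻¹ * (n⁻¹ * a * n) * f₂ := h3
      _ = f₂⁻¹ * (f₁⁻¹ * a * f₁) * f₂ := by rw [h4]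
      _ = (f₁ * f₂)⁻¹ * a * (f₁ * f₂) := by group

/-- replacement of an arbitrary conjugation between subgroups of `S` -/
theorem exists_fixed_same_conj_of_le [Finite G] (S : Sylow 2 G) (x : MulAut G)
    (hrep : ∀ T ∈ tameFamily S, ∀ n ∈ normalizer (T : Set G),
      ∃ f, x f = f ∧ ∀ t ∈ T, n⁻¹ * t * n = f⁻¹ * t * f)
    (T : Subgroup G) (hT : T ≤ (S : Subgroup G)) (g : G) (hTg : cj g⁻¹ T ≤ (S : Subgroup G)) :
    ∃ f, x f = f ∧ ∀ t ∈ T, g⁻¹ * t * g = f⁻¹ * t * f := by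
  haveI : Fact (Nat.Prime 2) := ⟨Nat.prime_two⟩
  obtain ⟨l, hl, hprod⟩ := reach_tame S T hT g hTg
  obtain ⟨f, hf, h⟩ := exists_fixed_chain x (tameFamily S) hrep l _ hl
  refine ⟨f, hf, ?_⟩
  intro t ht
  rw [← hprod]
  exact h t ht

/-- **Isolation lemma.** -/
theorem isolated_of_local [Finite G] (S : Sylow 2 G) (x : MulAut G) (hx2 : x * x = 1)
    (hxS : ∀ s ∈ S, x s = s) (hSZ : ¬ (S : Subgroup G) ≤ center G)
    (hloc : ∀ T ∈ tameFamily S, ¬ T ≤ center G → ∀ n ∈ normalizer (T : Set G),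
      coc x n ∈ centralizer (T : Set G) ∧ Odd (orderOf (coc x n)))
    (g : G) (hg : coc x g ∈ S) : coc x g = 1 := by
  haveI : Fact (Nat.Prime 2) := ⟨Nat.prime_two⟩
  -- the replacement property
  have hrep : ∀ T ∈ tameFamily S, ∀ n ∈ normalizer (T : Set G),
      ∃ f, x f = f ∧ ∀ t ∈ T, n⁻¹ * t * n = f⁻¹ * t * f := by
    intro T hT n hn
    by_cases hTZ : T ≤ center G
    · refine ⟨1, map_one x, ?_⟩
      intro t ht
      have := Subgroup.mem_center_iff.mp (hTZ ht) n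
      rw [inv_one, one_mul, mul_one, mul_assoc, ← this, ← mul_assoc, inv_mul_cancel, one_mul]
    · obtain ⟨h1, h2⟩ := hloc T hT hTZ n hn
      exact exists_fixed_same_conj x hx2 hn h1 h2
  set s := coc x g with hs
  have hs1 : x s = s := hxS s hg
  have hs2 : x s = s⁻¹ := apply_coc_of_sq x hx2 g
  have hss : s * s = 1 := by
    have : s = s⁻¹ := hs1.symm.trans hs2
    calc s * s = s * s⁻¹ := by rw [← this]
      _ = 1 := mul_inv_cancel s
  -- `R = C_S(s)`
  set R : Subgroup G := (S : Subgroup G) ⊓ centralizer ({s} : Set G) with hR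
  have hRS : R ≤ (S : Subgroup G) := inf_le_left
  have hsR : s ∈ R := ⟨hg, Subgroup.mem_centralizer_iff.mpr (by
    intro h hh
    rw [Set.mem_singleton_iff] at hh
    rw [hh])⟩
  have hRs : ∀ r ∈ R, r * s = s * r := by
    intro r hr
    have := Subgroup.mem_centralizer_iff.mp hr.2 s (Set.mem_singleton s)
    exact this.symm
  -- `g R g⁻¹` is fixed by `x`
  have hfix : cj g R ≤ fixedSub x := by
    rintro _ ⟨r, hr, rfl⟩
    show x (g * r * g⁻¹) = g * r * g⁻¹
    have hxr : x r = r := hxS r (hRS hr)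
    rw [map_mul, map_mul, map_inv, hxr, apply_eq_mul_coc x g, ← hs]
    have := hRs r hr
    calc g * s * r * (g * s)⁻¹ = g * (s * r) * s⁻¹ * g⁻¹ := by group
      _ = g * (r * s) * s⁻¹ * g⁻¹ := by rw [this]
      _ = g * r * g⁻¹ := by group
  have hSF : (S : Subgroup G) ≤ fixedSub x := fun t ht => hxS t ht
  have hR2 : IsPGroup 2 ↥(cj g R) := by
    rw [cj_def]
    exact (S.2.to_le hRS).map _
  obtain ⟨f, hfF, hf⟩ := exists_conj_mem_sylow S (fixedSub x) (cj g R) hSF hfix hR2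
  -- `g' = f g`
  have hg'R : cj (f * g) R ≤ (S : Subgroup G) := by
    rintro _ ⟨r, hr, rfl⟩
    have := hf (g * r * g⁻¹) ⟨r, hr, rfl⟩
    have e : (MulAut.conj (f * g)).toMonoidHom r = f * (g * r * g⁻¹) * f⁻¹ := by
      simp [MulAut.conj_apply, mul_assoc]
    rw [e]
    exact this
  have hg's : coc x (f * g) = s := coc_mul_of_fixed_left x hfF g
  -- replace `g'` by a fixed element on `R`
  obtain ⟨h₀, hh₀, hh₀R⟩ := exists_fixed_same_conj_of_le S x hrep R hRS (f * g)⁻¹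
    (by rw [inv_inv]; exact hg'R)
  -- `c' = h₀ g'` centralizes `R`
  have hc'R : ∀ r ∈ R, (h₀ * (f * g)) * r = r * (h₀ * (f * g)) := by
    intro r hr
    have := hh₀R r hr
    rw [inv_inv] at this
    calc (h₀ * (f * g)) * r = h₀ * ((f * g) * r * (f * g)⁻¹) * (f * g) := by group
      _ = h₀ * (h₀⁻¹ * r * h₀) * (f * g) := by rw [this]
      _ = r * (h₀ * (f * g)) := by group
  have hc's : coc x (h₀ * (f * g)) = s := by
    rw [coc_mul_of_fixed_left x hh₀, hg's]
  -- a tame conjugate of `R`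
  obtain ⟨b, V, hV, hbV, -⟩ := exists_tame_conj S hRS
  obtain ⟨f₀, hf₀, hf₀R⟩ := exists_fixed_same_conj_of_le S x hrep R hRS b⁻¹
    (by rw [inv_inv, hbV]; exact hV.1)
  have hf₀R' : ∀ r ∈ R, b * r * b⁻¹ = f₀⁻¹ * r * f₀ := by
    intro r hr
    have := hf₀R r hr
    rwa [inv_inv] at this
  have hVmem : ∀ v ∈ V, ∃ r ∈ R, v = f₀⁻¹ * r * f₀ := by
    intro v hv
    rw [← hbV] at hv
    obtain ⟨r, hr, rfl⟩ := hv
    refine ⟨r, hr, ?_⟩
    rw [← hf₀R' r hr]
    simp [MulAut.conj_apply]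
  set c := f₀⁻¹ * ((h₀ * (f * g)) * f₀) with hc
  have hcV : c ∈ centralizer (V : Set G) := by
    rw [Subgroup.mem_centralizer_iff]
    intro v hv
    obtain ⟨r, hr, rfl⟩ := hVmem v hv
    have := hc'R r hr
    rw [hc]
    calc f₀⁻¹ * r * f₀ * (f₀⁻¹ * ((h₀ * (f * g)) * f₀)) = f₀⁻¹ * (r * (h₀ * (f * g))) * f₀ := by group
      _ = f₀⁻¹ * ((h₀ * (f * g)) * r) * f₀ := by rw [this]
      _ = f₀⁻¹ * ((h₀ * (f * g)) * f₀) * (f₀⁻¹ * r * f₀) := by group
  have hcs : coc x c = f₀⁻¹ * s * f₀ := by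
    have hf₀' : x f₀⁻¹ = f₀⁻¹ := by rw [map_inv, hf₀]
    rw [hc, coc_mul_of_fixed_left x hf₀', coc_mul_of_fixed_right x hf₀, hc's]
  by_cases hVZ : V ≤ center G
  · exfalso
    apply hSZ
    have hRZ : R ≤ center G := by
      intro r hr
      have h1 : f₀⁻¹ * r * f₀ ∈ V := by
        rw [← hbV, ← hf₀R' r hr]
        exact ⟨r, hr, by simp [MulAut.conj_apply]⟩
      have h2 := hVZ h1
      have h3 : f₀ * (f₀⁻¹ * r * f₀) * f₀⁻¹ ∈ center G :=
        (inferInstance : (center G).Normal).conj_mem _ h2 f₀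
      have e : f₀ * (f₀⁻¹ * r * f₀) * f₀⁻¹ = r := by group
      rwa [e] at h3
    have hsZ : s ∈ center G := hRZ hsR
    have hSR : (S : Subgroup G) ≤ R := by
      intro y hy
      refine ⟨hy, ?_⟩
      show y ∈ centralizer ({s} : Set G)
      rw [Subgroup.mem_centralizer_iff]
      intro h hh
      rw [Set.mem_singleton_iff] at hh
      rw [hh]
      exact (Subgroup.mem_center_iff.mp hsZ y).symm
    exact hSR.trans hRZ
  · obtain ⟨-, hodd⟩ := hloc V hV hVZ c (Subgroup.centralizer_le_normalizer (V : Set G) hcV)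
    rw [hcs] at hodd
    have ho : orderOf (f₀⁻¹ * s * f₀) = orderOf s := by
      have := orderOf_injective (MulAut.conj f₀⁻¹).toMonoidHom (MulAut.conj f₀⁻¹).injective s
      rw [← this]
      simp [MulAut.conj_apply]
    rw [ho] at hodd
    have hdvd : orderOf s ∣ 2 := orderOf_dvd_of_pow_eq_one (by rw [pow_two]; exact hss)
    have h1 : orderOf s = 1 := by
      rcases (Nat.dvd_prime Nat.prime_two).mp hdvd with h | h
      · exact h
      · rw [h] at hodd
        exact absurd hodd (by decide)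
    exact orderOf_eq_one_iff.mp h1

end Cfsg.Agent.Lib.Helper20.GlauPerf
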