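import Mathlib
import Cfsg.Agent.Lib.Helper20.GlauPerfA

/-!
Helper20 `GlauPerf`, file E: averaging a cocycle with values in an abelian normal subgroup (an
automorphism fixing a subgroup `S` pointwise and acting trivially modulo an abelian normal subgroup `A`
of exponent prime to `|G : S|` is conjugation by an element of `A`), and the transfer into the centre
(a perfect finite group has no nontrivial 2-elements once its centre has odd index).
-/

set_option autoImplicit false

open scoped commutatorElement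

namespace Cfsg.Agent.Lib.Helper20.GlauPerf

open Subgroup

section averaging

variable {G : Type*} [Group G]

/-- **Averaging.** -/
theorem inner_of_coc_mem_abelian [Finite G] (S A : Subgroup G) [hAn : A.Normal]
    (hA : ∀ a ∈ A, ∀ a' ∈ A, a * a' = a' * a) (m : ℕ) (hm : ∀ a ∈ A, a ^ m = 1)
    (hcop : Nat.Coprime S.index m) (b : MulAut G) (hbS : ∀ s ∈ S, b s = s)
    (hbA : ∀ g, b g * g⁻¹ ∈ A) : ∃ z ∈ A, ∀ g, b g = z * g * z⁻¹ := by
  classical
  letI : CommGroup ↥A :=
    { (inferInstance : Group ↥A) with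
      mul_comm := fun a a' => Subtype.ext (hA a a.2 a' a'.2) }
  letI : Fintype (G ⧸ S) := Fintype.ofFinite _
  set φ₀ : G → ↥A := fun g => ⟨b g * g⁻¹, hbA g⟩ with hφ₀
  have hφ₀S : ∀ g : G, ∀ s ∈ S, φ₀ (g * s) = φ₀ g := by
    intro g s hs
    apply Subtype.ext
    show b (g * s) * (g * s)⁻¹ = b g * g⁻¹
    rw [map_mul, hbS s hs]
    group
  set φ : G ⧸ S → ↥A := fun q => Quotient.liftOn' q φ₀ (by
    intro x y hxy
    rw [QuotientGroup.leftRel_apply] at hxy
    have := hφ₀S x _ hxy
    rw [← this]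
    congr 1
    group) with hφ
  have hφmk : ∀ g : G, φ (QuotientGroup.mk g) = φ₀ g := fun g => rfl
  have hφ₀mul : ∀ h g : G, φ₀ (h * g) = φ₀ h * MulAut.conjNormal h (φ₀ g) := by
    intro h g
    apply Subtype.ext
    rw [Subgroup.coe_mul, MulAut.conjNormal_apply]
    show b (h * g) * (h * g)⁻¹ = b h * h⁻¹ * (h * (b g * g⁻¹) * h⁻¹)
    rw [map_mul]
    group
  set a : ↥A := ∏ q : G ⧸ S, φ q with ha
  have hsum : ∀ h : G, φ₀ h ^ S.index * MulAut.conjNormal h a = a := by
    intro h
    have h1 : ∏ q : G ⧸ S, φ (h • q) = a := by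
      rw [ha]
      exact Fintype.prod_equiv (MulAction.toPerm h) _ _ (fun q => rfl)
    have h2 : ∀ q : G ⧸ S, φ (h • q) = φ₀ h * MulAut.conjNormal h (φ q) := by
      intro q
      obtain ⟨g, rfl⟩ := QuotientGroup.mk_surjective q
      rw [MulAction.Quotient.smul_mk, hφmk, hφmk, smul_eq_mul, hφ₀mul]
    symm
    calc a = ∏ q : G ⧸ S, φ (h • q) := h1.symm
      _ = ∏ q : G ⧸ S, (φ₀ h * MulAut.conjNormal h (φ q)) :=
          Finset.prod_congr rfl (fun q _ => h2 q)
      _ = φ₀ h ^ S.index * MulAut.conjNormal h a := by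
          rw [Finset.prod_mul_distrib, Finset.prod_const, Finset.card_univ, ← map_prod,
            Subgroup.index_eq_card, Nat.card_eq_fintype_card]
  -- Bezout
  have hbez : (S.index : ℤ) * Nat.gcdA S.index m + (m : ℤ) * Nat.gcdB S.index m = 1 := by
    have := Nat.gcd_eq_gcd_ab S.index m
    rw [hcop.gcd_eq_one] at this
    exact_mod_cast this.symm
  set u : ℤ := Nat.gcdA S.index m with hu
  have hmA : ∀ t : ↥A, t ^ m = 1 := by
    intro t
    apply Subtype.ext
    rw [Subgroup.coe_pow]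
    exact hm t t.2
  have hpow : ∀ t : ↥A, t = (t ^ S.index) ^ u := by
    intro t
    have h1 : t ^ ((S.index : ℤ) * u + (m : ℤ) * Nat.gcdB S.index m) = t := by
      rw [hbez, zpow_one]
    rw [zpow_add, zpow_mul, zpow_mul, zpow_natCast, zpow_natCast, hmA t, one_zpow, mul_one] at h1
    exact h1.symm
  refine ⟨(a ^ u : ↥A), (a ^ u : ↥A).2, ?_⟩
  intro g
  have h1 : φ₀ g ^ S.index = a * (MulAut.conjNormal g a)⁻¹ := by
    rw [eq_mul_inv_iff_mul_eq]
    exact hsum g
  have h2 : φ₀ g = a ^ u * (MulAut.conjNormal g (a ^ u))⁻¹ := by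
    rw [hpow (φ₀ g), h1, mul_zpow, inv_zpow, map_zpow]
  have h3 := congrArg (fun t : ↥A => (t : G)) h2
  simp only [Subgroup.coe_mul, Subgroup.coe_inv, MulAut.conjNormal_apply] at h3
  have h4 : b g * g⁻¹ = ((a ^ u : ↥A) : G) * (g * ((a ^ u : ↥A) : G) * g⁻¹)⁻¹ := h3
  calc b g = (b g * g⁻¹) * g := by group
    _ = ((a ^ u : ↥A) : G) * (g * ((a ^ u : ↥A) : G) * g⁻¹)⁻¹ * g := by rw [h4]
    _ = ((a ^ u : ↥A) : G) * g * ((a ^ u : ↥A) : G)⁻¹ := by group

end averaging

section transfer

variable {B : Type*} [Group B]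

/-- in a finite perfect group, `b ^ |B : Z(B)| = 1` -/
theorem pow_index_center_eq_one_of_perfect [Finite B] (hperf : commutator B = ⊤) (b : B) :
    b ^ (center B).index = 1 := by
  have h1 : commutator B ≤ (MonoidHom.transferCenterPow B).ker := by
    rw [commutator_def, Subgroup.commutator_le]
    intro x _ y _
    rw [MonoidHom.mem_ker, map_commutatorElement, commutatorElement_eq_one_iff_mul_comm]
    apply Subtype.ext
    rw [Subgroup.coe_mul, Subgroup.coe_mul]
    exact (Subgroup.mem_center_iff.mp ((MonoidHom.transferCenterPow B) x).2 _).symm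
  rw [hperf] at h1
  have h2 : b ∈ (MonoidHom.transferCenterPow B).ker := h1 (Subgroup.mem_top b)
  rw [MonoidHom.mem_ker] at h2
  have h3 := congrArg (fun t : ↥(center B) => (t : B)) h2
  simpa [MonoidHom.transferCenterPow_apply] using h3

/-- a perfect finite group with a central subgroup of odd index has no nontrivial 2-elements -/
theorem eq_one_of_two_elt_of_central_odd_index [Finite B] (hperf : commutator B = ⊤)
    (K : Subgroup B) (hK : K ≤ center B) (hodd : Odd K.index) (b : B) (k : ℕ)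
    (hb : b ^ (2 ^ k) = 1) : b = 1 := by
  have h1 : (center B).index ∣ K.index := Subgroup.index_dvd_of_le hK
  have h2 : b ^ K.index = 1 := by
    obtain ⟨c, hc⟩ := h1
    rw [hc, pow_mul, pow_index_center_eq_one_of_perfect hperf, one_pow]
  have h3 : orderOf b ∣ K.index := orderOf_dvd_of_pow_eq_one h2
  have h4 : orderOf b ∣ 2 ^ k := orderOf_dvd_of_pow_eq_one hb
  have h5 : Nat.Coprime K.index (2 ^ k) := by
    apply Nat.Coprime.pow_right
    exact Nat.Coprime.symm (Nat.coprime_two_left.mpr hodd)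
  have h6 : orderOf b ∣ 1 := by
    have := Nat.dvd_gcd h3 h4
    rwa [h5.gcd_eq_one] at this
  exact orderOf_eq_one_iff.mp (Nat.dvd_one.mp h6)

/-- a finite group without nontrivial 2-elements has odd order -/
theorem odd_card_of_no_two_elt [Finite B] (h : ∀ b : B, ∀ k : ℕ, b ^ (2 ^ k) = 1 → b = 1) :
    Odd (Nat.card B) := by
  rw [← Nat.not_even_iff_odd]
  intro heven
  haveI : Fact (Nat.Prime 2) := ⟨Nat.prime_two⟩
  obtain ⟨x, hx⟩ := exists_prime_orderOf_dvd_card' 2 (even_iff_two_dvd.mp heven)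
  have h1 : x ^ (2 ^ 1) = 1 := by
    rw [pow_one, ← hx]; exact pow_orderOf_eq_one x
  have h2 := h x 1 h1
  rw [h2, orderOf_one] at hx
  norm_num at hx

/-- every nontrivial 2-element has a power which is an involution -/
theorem exists_involution_pow (b : B) (k : ℕ) (hb : b ^ (2 ^ k) = 1) (hb1 : b ≠ 1) :
    ∃ j : ℕ, b ^ (2 ^ j) ≠ 1 ∧ b ^ (2 ^ j) * b ^ (2 ^ j) = 1 := by
  induction k with
  | zero =>
    rw [pow_zero, pow_one] at hb
    exact absurd hb hb1
  | succ k ih =>
    by_cases h : b ^ (2 ^ k) = 1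
    · exact ih h
    · refine ⟨k, h, ?_⟩
      rw [← pow_add, ← two_mul, ← pow_succ']
      exact hb

end transfer

end Cfsg.Agent.Lib.Helper20.GlauPerf
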