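import Mathlib
import Cfsg.Prelude.Def_Solvable
import Cfsg.Prelude.Def_CaseTheorems
import Cfsg.Agent.Lib.Helper9.PComponent
import Cfsg.Agent.Lib.Helper12.Cores
import Cfsg.Agent.Lib.Helper16.Minimal
import Cfsg.Agent.Lib.Helper20.GlauPerfB
import Cfsg.Agent.Lib.Helper20.GlauPerfC
import Cfsg.Agent.Lib.Helper20.GlauPerfD
import Cfsg.Agent.Lib.Helper20.GlauPerfE

/-!
Helper20 `GlauPerf`, file F: **Theorem P**.  Let `G` be a finite group, `S` a Sylow 2-subgroup and `B` a
perfect group of automorphisms of `G` fixing `S` pointwise.  Then every 2-element of `B` acts trivially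
on `G / O(G)`.  This file sets up the induction and treats the reduction steps.
-/

set_option autoImplicit false

open scoped commutatorElement

namespace Cfsg.Agent.Lib.Helper20.GlauPerf

open Subgroup

universe u

/-- the statement of Theorem P for a given group -/
def PStmt (G : Type u) [Group G] : Prop :=
  ∀ (S : Sylow 2 G) (B : Subgroup (MulAut G)), (∀ b ∈ B, ∀ s ∈ S, b s = s) → ⁅B, B⁆ = B →
    ∀ b ∈ B, (∃ k : ℕ, b ^ (2 ^ k) = 1) → ∀ g : G, coc b g ∈ Cfsg.pPrimeCore 2 G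

/-- the inductive hypothesis -/
def PBelow (n : ℕ) : Prop :=
  ∀ (H : Type u) [Group H] [Finite H], Nat.card H < n → PStmt H

variable {G : Type u} [Group G]

theorem card_lt_of_ne_top [Finite G] {H : Subgroup G} (hH : H ≠ ⊤) : Nat.card ↥H < Nat.card G := by
  by_contra h
  exact hH (Subgroup.eq_top_of_le_card H (not_lt.mp h))

/-- the inductive hypothesis applied to a proper invariant subgroup -/
theorem ih_sub [Finite G] (hIH : PBelow.{u} (Nat.card G))
    (S : Sylow 2 G) (B : Subgroup (MulAut G)) (hBS : ∀ b ∈ B, ∀ s ∈ S, b s = s)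
    (hperf : ⁅B, B⁆ = B) (H : Subgroup G) (hH : H ≠ ⊤) (hBH : ∀ b ∈ B, ∀ h ∈ H, b h ∈ H)
    (SH : Sylow 2 ↥H) (hSH : ∀ h ∈ SH, (h : G) ∈ S) :
    ∀ b' ∈ (resHom H B hBH).range, (∃ k : ℕ, b' ^ (2 ^ k) = 1) →
      ∀ h : ↥H, coc b' h ∈ Cfsg.pPrimeCore 2 ↥H := by
  apply hIH ↥H (card_lt_of_ne_top hH) SH (resHom H B hBH).range ?_ (range_perfect hperf _)
  rintro _ ⟨b, rfl⟩ h hh
  apply Subtype.ext
  rw [resHom_apply_coe]
  exact hBS b b.2 _ (hSH h hh)

/-- characteristic subgroups are invariant under groups of automorphisms -/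
theorem apply_mem_of_characteristic {N : Subgroup G} (hN : N.Characteristic) (b : MulAut G)
    {n : G} (hn : n ∈ N) : b n ∈ N := by
  have := Subgroup.characteristic_iff_map_eq.mp hN b
  rw [← this]
  exact ⟨n, hn, rfl⟩

/-- Step 0: reduction to `O(G) = 1`. -/
theorem step0 [Finite G] (hIH : PBelow.{u} (Nat.card G)) (hO : Cfsg.pPrimeCore 2 G ≠ ⊥) :
    PStmt G := by
  intro S B hBS hperf b hb hb2 g
  obtain ⟨k, hk⟩ := hb2
  haveI : Fact (Nat.Prime 2) := ⟨Nat.prime_two⟩
  set N := Cfsg.pPrimeCore 2 G with hN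
  have hchar : N.Characteristic := Cfsg.Agent.Lib.Helper12.pPrimeCore_characteristic 2
  have hBN : ∀ b ∈ B, ∀ n ∈ N, b n ∈ N := fun b _ n hn => apply_mem_of_characteristic hchar b hn
  have hcard : Nat.card (G ⧸ N) < Nat.card G := by
    rw [Subgroup.card_eq_card_quotient_mul_card_subgroup N]
    have h1 : 1 < Nat.card ↥N := (Subgroup.one_lt_card_iff_ne_bot N).mpr hO
    have h2 : 0 < Nat.card (G ⧸ N) := Nat.card_pos
    nlinarith
  set S' : Sylow 2 (G ⧸ N) := S.mapSurjective (QuotientGroup.mk'_surjective N) with hS'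
  have hfix : ∀ b' ∈ (quotHom N B hBN).range, ∀ s ∈ S', b' s = s := by
    rintro _ ⟨b, rfl⟩ s hs
    have hs' : s ∈ (S : Subgroup G).map (QuotientGroup.mk' N) := by
      rw [← Sylow.coe_mapSurjective (QuotientGroup.mk'_surjective N) S]
      exact hs
    obtain ⟨t, ht, rfl⟩ := hs'
    show quotHom N B hBN b (QuotientGroup.mk t) = QuotientGroup.mk t
    rw [quotHom_mk, hBS b b.2 t ht]
  have h2elt : (quotHom N B hBN ⟨b, hb⟩) ^ (2 ^ k) = 1 := by
    rw [← map_pow]
    have : (⟨b, hb⟩ : ↥B) ^ (2 ^ k) = 1 := by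
      apply Subtype.ext
      rw [Subgroup.coe_pow]
      exact hk
    rw [this, map_one]
  have h := hIH (G ⧸ N) hcard S' (quotHom N B hBN).range hfix (range_perfect hperf _)
    (quotHom N B hBN ⟨b, hb⟩) ⟨_, rfl⟩ ⟨k, h2elt⟩ (QuotientGroup.mk g)
  rw [Cfsg.Agent.Lib.Helper9.pPrimeCore_quotient_eq_bot, Subgroup.mem_bot] at h
  have h' : (QuotientGroup.mk (coc b g) : G ⧸ N) = 1 := by
    rw [← h]
    show _ = (QuotientGroup.mk g)⁻¹ * quotHom N B hBN ⟨b, hb⟩ (QuotientGroup.mk g)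
    rw [quotHom_mk]
    rfl
  exact (QuotientGroup.eq_one_iff _).mp h'

/-- a finite group with `O(G) = 1` and a central Sylow 2-subgroup is a 2-group -/
theorem sylow_eq_top_of_le_center [Finite G] (S : Sylow 2 G)
    (hS : (S : Subgroup G) ≤ center G) (hO : Cfsg.pPrimeCore 2 G = ⊥) : (S : Subgroup G) = ⊤ := by
  haveI : Fact (Nat.Prime 2) := ⟨Nat.prime_two⟩
  haveI hSn : (S : Subgroup G).Normal := by
    constructor
    intro n hn g
    have := Subgroup.mem_center_iff.mp (hS hn) g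
    rw [this, mul_inv_cancel_right]
    exact hn
  obtain ⟨H, hH⟩ := Subgroup.exists_right_complement'_of_coprime (N := (S : Subgroup G))
    S.card_coprime_index
  have hHcard : Nat.card ↥H = (S : Subgroup G).index := by
    have h1 := hH.card_mul_card
    have h2 := (S : Subgroup G).card_mul_index
    have h3 : 0 < Nat.card ↥(S : Subgroup G) := Nat.card_pos
    rw [← h2] at h1
    exact Nat.eq_of_mul_eq_mul_left h3 h1
  haveI hHn : H.Normal := by
    constructor
    intro n hn g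
    obtain ⟨⟨s, h⟩, hsh⟩ := (Subgroup.isComplement'_def.mp hH).2 g
    have hg : g = (s : G) * (h : G) := hsh.symm
    have hsc := Subgroup.mem_center_iff.mp (hS s.2)
    have e : g * n * g⁻¹ = (h : G) * n * (h : G)⁻¹ := by
      rw [hg]
      calc (s : G) * h * n * ((s : G) * h)⁻¹ = (s : G) * (h * n * (h : G)⁻¹) * (s : G)⁻¹ := by group
        _ = (h * n * (h : G)⁻¹) * (s : G) * (s : G)⁻¹ := by rw [hsc]
        _ = h * n * (h : G)⁻¹ := by group
    rw [e]
    exact H.mul_mem (H.mul_mem h.2 hn) (H.inv_mem h.2)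
  have hHle : H ≤ Cfsg.pPrimeCore 2 G := by
    apply Cfsg.Agent.Lib.Helper12.le_pPrimeCore 2 H hHn
    rw [hHcard]
    exact Nat.Coprime.symm ((Nat.Prime.coprime_iff_not_dvd Nat.prime_two).mpr S.not_dvd_index)
  rw [hO, le_bot_iff] at hHle
  apply Subgroup.eq_top_of_card_eq
  have h1 := hH.card_mul_card
  rw [hHle, Subgroup.card_bot, mul_one] at h1
  exact h1

end Cfsg.Agent.Lib.Helper20.GlauPerf
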