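import Mathlib
import Cfsg.Agent.Lib.Helper20.GlauPerfF

/-!
Helper20 `GlauPerf`, file G: the two main cases of the induction (`O_2(G)` not central: averaging and
transfer; `O_2(G)` central: isolation and the `Z*`-theorem) and **Theorem P** itself.
-/

set_option autoImplicit false

open scoped commutatorElement

namespace Cfsg.Agent.Lib.Helper20.GlauPerf

open Subgroup Cfsg.Agent.Lib.Helper12

universe u

variable {G : Type u} [Group G]

/-- the local hypothesis of the isolation lemma follows from the inductive hypothesis -/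
theorem local_of_ih [Finite G] (hIH : PBelow.{u} (Nat.card G))
    (S : Sylow 2 G) (B : Subgroup (MulAut G)) (hBS : ∀ b ∈ B, ∀ s ∈ S, b s = s)
    (hperf : ⁅B, B⁆ = B) (hQ : Cfsg.pCore 2 G ≤ center G)
    (x : MulAut G) (hx : x ∈ B) (hx2 : x * x = 1) (T : Subgroup G) (hT : T ∈ tameFamily S)
    (hTZ : ¬ T ≤ center G) (n : G) (hn : n ∈ normalizer (T : Set G)) :
    coc x n ∈ centralizer (T : Set G) ∧ Odd (orderOf (coc x n)) := by
  haveI : Fact (Nat.Prime 2) := ⟨Nat.prime_two⟩
  set N := normalizer (T : Set G) with hNdef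
  have hT2 : IsPGroup 2 ↥T := S.2.to_le hT.1
  have hN : N ≠ ⊤ := by
    intro h
    have hTn : T.Normal := Subgroup.normalizer_eq_top_iff.mp h
    exact hTZ ((le_pCore' 2 T hTn hT2).trans hQ)
  have hBT : ∀ b ∈ B, ∀ t ∈ T, b t = t := fun b hb t ht => hBS b hb t (hT.1 ht)
  have hBN : ∀ b ∈ B, ∀ h ∈ N, b h ∈ N := by
    intro b hb h hh
    apply Subgroup.mem_normalizer_fintype
    intro t ht
    have h1 : h * t * h⁻¹ ∈ T := (Subgroup.mem_normalizer_iff.mp hh t).mp ht
    have h2 : b (h * t * h⁻¹) = h * t * h⁻¹ := hBT b hb _ h1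
    rw [map_mul, map_mul, map_inv, hBT b hb t ht] at h2
    rw [h2]; exact h1
  have hP1 : IsPGroup 2 ↥(((S : Subgroup G) ⊓ N).subgroupOf N) :=
    (S.2.to_le inf_le_left).comap_subtype
  have hP2 : ¬ 2 ∣ (((S : Subgroup G) ⊓ N).subgroupOf N).index := hT.2
  set SN : Sylow 2 ↥N := hP1.toSylow hP2 with hSNdef
  have hSN : ∀ h ∈ SN, (h : G) ∈ S := by
    intro h hh
    rw [hSNdef, IsPGroup.mem_toSylow, Subgroup.mem_subgroupOf] at hh
    exact hh.1
  set x' := resHom N B hBN ⟨x, hx⟩ with hx'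
  have hx'2 : x' ^ (2 ^ 1) = 1 := by
    rw [pow_one, pow_two, ← map_mul]
    have : (⟨x, hx⟩ : ↥B) * ⟨x, hx⟩ = 1 := Subtype.ext hx2
    rw [this, map_one]
  have key := ih_sub hIH S B hBS hperf N hN hBN SN hSN x' ⟨_, rfl⟩ ⟨1, hx'2⟩ ⟨n, hn⟩
  set w' : ↥N := coc x' ⟨n, hn⟩ with hw'
  have hw : (w' : G) = coc x n := rfl
  have hcop : (Nat.card ↥(Cfsg.pPrimeCore 2 ↥N)).Coprime 2 := pPrimeCore_coprime 2
  have hdvd_of_mem : ∀ c : ↥N, c ∈ Cfsg.pPrimeCore 2 ↥N → (orderOf c).Coprime 2 := by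
    intro c hc
    exact Nat.Coprime.coprime_dvd_left (Subgroup.orderOf_dvd_natCard _ hc) hcop
  constructor
  · rw [Subgroup.mem_centralizer_iff]
    intro t ht
    set t' : ↥N := ⟨t, Subgroup.le_normalizer ht⟩ with ht'
    set c : ↥N := w' * (t' * w'⁻¹ * t'⁻¹) with hc
    have hcO : c ∈ Cfsg.pPrimeCore 2 ↥N :=
      mul_mem key ((inferInstance : (Cfsg.pPrimeCore 2 ↥N).Normal).conj_mem _ (inv_mem key) t')
    have hcT : (c : G) ∈ T := by
      have h1 : (w' : G) * t * (w' : G)⁻¹ ∈ T := (Subgroup.mem_normalizer_iff.mp w'.2 t).mp ht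
      have e : (c : G) = (w' : G) * t * (w' : G)⁻¹ * t⁻¹ := by
        rw [hc]
        simp only [Subgroup.coe_mul, Subgroup.coe_inv, ht']
        group
      rw [e]
      exact mul_mem h1 (inv_mem ht)
    obtain ⟨j, hj⟩ := hT2 ⟨(c : G), hcT⟩
    have hj' : (c : G) ^ (2 ^ j) = 1 := by
      have := congrArg Subtype.val hj
      simpa using this
    have h1 : orderOf (c : G) ∣ 2 ^ j := orderOf_dvd_of_pow_eq_one hj'
    have h2 : (orderOf (c : G)).Coprime 2 := by
      rw [Subgroup.orderOf_coe]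
      exact hdvd_of_mem c hcO
    have h3 : orderOf (c : G) = 1 := by
      have := Nat.Coprime.eq_one_of_dvd (Nat.Coprime.pow_right j h2) h1
      exact this
    have h4 : (c : G) = 1 := orderOf_eq_one_iff.mp h3
    have e : (c : G) = (w' : G) * t * (w' : G)⁻¹ * t⁻¹ := by
      rw [hc]
      simp only [Subgroup.coe_mul, Subgroup.coe_inv, ht']
      group
    rw [e, hw] at h4
    calc t * coc x n = (coc x n * t * (coc x n)⁻¹ * t⁻¹)⁻¹ * (coc x n * t) := by group
      _ = coc x n * t := by rw [h4, inv_one, one_mul]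
  · rw [← hw, Subgroup.orderOf_coe]
    exact Nat.coprime_two_right.mp (hdvd_of_mem w' key)

/-- Case `γ`: `O(G) = 1`, `O_2(G)` central, `S` not central. -/
theorem caseGamma [Finite G] (hIH : PBelow.{u} (Nat.card G)) (hO : Cfsg.pPrimeCore 2 G = ⊥)
    (S : Sylow 2 G) (B : Subgroup (MulAut G)) (hBS : ∀ b ∈ B, ∀ s ∈ S, b s = s)
    (hperf : ⁅B, B⁆ = B) (hQ : Cfsg.pCore 2 G ≤ center G) (hSZ : ¬ (S : Subgroup G) ≤ center G)
    (x : MulAut G) (hx : x ∈ B) (hx2 : x * x = 1) : x = 1 := by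
  have hxS : ∀ s ∈ S, x s = s := hBS x hx
  have hloc : ∀ T ∈ tameFamily S, ¬ T ≤ center G → ∀ n ∈ normalizer (T : Set G),
      coc x n ∈ centralizer (T : Set G) ∧ Odd (orderOf (coc x n)) := by
    intro T hT hTZ n hn
    exact local_of_ih hIH S B hBS hperf hQ x hx hx2 T hT hTZ n hn
  have hiso := isolated_of_local S x hx2 hxS hSZ hloc
  ext g
  have h1 := coc_mem_pPrimeCore_of_isolated S x hx2 hxS hiso g
  rw [hO, Subgroup.mem_bot, coc_eq_one_iff] at h1
  rw [h1]; rfl

theorem mul_inv_mem_centralizer (κ : MulAut G) (Y : Subgroup G) [hY : Y.Normal]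
    (hκ : ∀ y ∈ Y, κ y = y) (g : G) : κ g * g⁻¹ ∈ centralizer (Y : Set G) := by
  rw [Subgroup.mem_centralizer_iff]
  intro y hy
  have h1 : g⁻¹ * y * g ∈ Y := by simpa using hY.conj_mem y hy g⁻¹
  have h2 := hκ _ h1
  rw [map_mul, map_mul, map_inv, hκ y hy] at h2
  calc y * (κ g * g⁻¹) = κ g * ((κ g)⁻¹ * y * κ g) * g⁻¹ := by group
    _ = κ g * (g⁻¹ * y * g) * g⁻¹ := by rw [h2]
    _ = κ g * g⁻¹ * y := by group

/-- Case `α`: `O(G) = 1`, `O_2(G)` not central. -/
theorem caseAlpha [Finite G] (hIH : PBelow.{u} (Nat.card G)) (hO : Cfsg.pPrimeCore 2 G = ⊥)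
    (S : Sylow 2 G) (B : Subgroup (MulAut G)) (hBS : ∀ b ∈ B, ∀ s ∈ S, b s = s)
    (hperf : ⁅B, B⁆ = B) (hQ : ¬ Cfsg.pCore 2 G ≤ center G)
    (b : MulAut G) (hb : b ∈ B) (k : ℕ) (hk : b ^ (2 ^ k) = 1) : b = 1 := by
  haveI : Fact (Nat.Prime 2) := ⟨Nat.prime_two⟩
  set Q := Cfsg.pCore 2 G with hQdef
  have hQ2 : IsPGroup 2 ↥Q := pCore_isPGroup' 2
  have hQS : Q ≤ (S : Subgroup G) := by
    have hsup : IsPGroup 2 ↥(Q ⊔ (S : Subgroup G)) :=
      IsPGroup.to_sup_of_normal_left hQ2 S.isPGroup'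
    have := S.is_maximal' hsup le_sup_right
    rw [← this]; exact le_sup_left
  set D := centralizer (Q : Set G) with hDdef
  haveI hDn : D.Normal := Subgroup.normal_centralizer
  have hD : D ≠ ⊤ := by
    intro h
    exact hQ (Subgroup.centralizer_eq_top_iff_subset.mp h)
  have hBQ : ∀ b ∈ B, ∀ q ∈ Q, b q = q := fun b hb q hq => hBS b hb q (hQS hq)
  have hBD : ∀ b ∈ B, ∀ d ∈ D, b d ∈ D := by
    intro b hb d hd
    rw [hDdef, Subgroup.mem_centralizer_iff] at hd ⊢
    intro q hq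
    have h2 := congrArg b (hd q hq)
    rw [map_mul, map_mul, hBQ b hb q hq] at h2
    exact h2
  obtain ⟨SD, hSD⟩ := Cfsg.Agent.Lib.Helper16.exists_sylow_of_normal_inf S D
  have hSD' : ∀ h ∈ SD, (h : G) ∈ S := by
    intro h hh
    have : (h : G) ∈ (SD : Subgroup D).map D.subtype := ⟨h, hh, rfl⟩
    rw [hSD] at this
    exact this.1
  have key := ih_sub hIH S B hBS hperf D hD hBD SD hSD'
  have hOD : Cfsg.pPrimeCore 2 ↥D = ⊥ := by
    have hsub : ((Cfsg.pPrimeCore 2 ↥D).map D.subtype).IsSubnormal :=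
      Subgroup.IsSubnormal.trans' (Subgroup.Normal.isSubnormal inferInstance)
        (Subgroup.Normal.isSubnormal hDn)
    have hc : (Nat.card ↥((Cfsg.pPrimeCore 2 ↥D).map D.subtype)).Coprime 2 := by
      rw [Subgroup.card_map_of_injective D.subtype_injective]
      exact pPrimeCore_coprime 2
    have := Cfsg.Agent.Lib.Helper9.subnormal_le_pPrimeCore 2 hsub hc
    rw [hO, le_bot_iff] at this
    exact (Subgroup.map_eq_bot_iff_of_injective _ D.subtype_injective).mp this
  set ρ := resHom D B hBD with hρ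
  haveI : Finite ↥B := inferInstance
  have hodd : Odd (Nat.card ↥ρ.range) := by
    apply odd_card_of_no_two_elt
    rintro ⟨b', hb'⟩ j hj
    have h1 : b' ^ (2 ^ j) = 1 := by
      have := congrArg Subtype.val hj
      simpa using this
    apply Subtype.ext
    show b' = 1
    ext d
    have := key b' hb' ⟨j, h1⟩ d
    rw [hOD, Subgroup.mem_bot, coc_eq_one_iff] at this
    rw [this]; rfl
  have hKodd : Odd ρ.ker.index := by rw [Subgroup.index_ker]; exact hodd
  have hKcen : ρ.ker ≤ center ↥B := by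
    intro κ hκ
    have hκD : ∀ d ∈ D, (κ : MulAut G) d = d := by
      intro d hd
      have := congrArg (fun f : MulAut ↥D => ((f ⟨d, hd⟩ : ↥D) : G)) (MonoidHom.mem_ker.mp hκ)
      simpa [hρ] using this
    set A : Subgroup G := D ⊓ centralizer (D : Set G) with hA
    haveI hAn : A.Normal := inferInstance
    have hAab : ∀ a ∈ A, ∀ a' ∈ A, a * a' = a' * a := by
      intro a ha a' ha'
      exact Subgroup.mem_centralizer_iff.mp ha'.2 a ha.1
    have hAQ : A ≤ Q := by
      have hnil : Group.IsNilpotent ↥A := by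
        letI : CommGroup ↥A :=
          { (inferInstance : Group ↥A) with
            mul_comm := fun a a' => Subtype.ext (hAab a a.2 a' a'.2) }
        exact CommGroup.isNilpotent
      have h1 : A ≤ Cfsg.fittingSubgroup G := le_sSup ⟨hAn, hnil⟩
      rw [Cfsg.Agent.Lib.Helper9.fittingSubgroup_eq_pCore_of_pPrimeCore_eq_bot 2 hO] at h1
      exact h1
    have hAS : A ≤ (S : Subgroup G) := hAQ.trans hQS
    have hm : ∀ a ∈ A, a ^ Nat.card ↥(S : Subgroup G) = 1 := by
      intro a ha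
      have := Subgroup.orderOf_dvd_natCard (S : Subgroup G) (hAS ha)
      exact orderOf_dvd_iff_pow_eq_one.mp this
    have hcop : Nat.Coprime (S : Subgroup G).index (Nat.card ↥(S : Subgroup G)) :=
      S.card_coprime_index.symm
    have hbA : ∀ g, (κ : MulAut G) g * g⁻¹ ∈ A := by
      intro g
      exact ⟨mul_inv_mem_centralizer _ Q (fun q hq => hBQ _ κ.2 q hq) g,
        mul_inv_mem_centralizer _ D hκD g⟩
    obtain ⟨z, hzA, hz⟩ := inner_of_coc_mem_abelian (S : Subgroup G) A hAab _ hm hcop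
      (κ : MulAut G) (hBS _ κ.2) hbA
    rw [Subgroup.mem_center_iff]
    intro β
    apply Subtype.ext
    rw [Subgroup.coe_mul, Subgroup.coe_mul]
    ext g
    rw [MulAut.mul_apply, MulAut.mul_apply, hz, hz, map_mul, map_mul, map_inv,
      hBS _ β.2 z (hAS hzA)]
  have := eq_one_of_two_elt_of_central_odd_index (commutator_subtype_eq_top hperf) ρ.ker hKcen
    hKodd ⟨b, hb⟩ k (Subtype.ext (by rw [Subgroup.coe_pow]; exact hk))
  exact congrArg Subtype.val this

/-- **Theorem P**, inductive form. -/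
theorem theoremP_aux : ∀ n : ℕ, ∀ (G : Type u) [Group G] [Finite G], Nat.card G = n → PStmt G := by
  intro n
  induction n using Nat.strong_induction_on with
  | _ n ih =>
    intro G _ _ hn
    have hIH : PBelow.{u} (Nat.card G) := fun H _ _ hH => ih (Nat.card H) (hn ▸ hH) H rfl
    by_cases hO : Cfsg.pPrimeCore 2 G = ⊥
    · intro S B hBS hperf b hb hb2 g
      obtain ⟨k, hk⟩ := hb2
      suffices b = 1 by rw [this, coc_one_left]; exact one_mem _
      by_cases hQ : Cfsg.pCore 2 G ≤ center G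
      · by_contra hb1
        obtain ⟨j, hj1, hj2⟩ := exists_involution_pow b k hk hb1
        have hxB : b ^ (2 ^ j) ∈ B := pow_mem hb _
        by_cases hSZ : (S : Subgroup G) ≤ center G
        · apply hj1
          have htop := sylow_eq_top_of_le_center S hSZ hO
          ext g
          have hg : g ∈ (S : Subgroup G) := by rw [htop]; exact Subgroup.mem_top g
          rw [hBS _ hxB g hg]; rfl
        · exact hj1 (caseGamma hIH hO S B hBS hperf hQ hSZ _ hxB hj2)
      · exact caseAlpha hIH hO S B hBS hperf hQ b hb k hk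
    · exact step0 hIH hO

/-- **Theorem P.**  If `B` is a perfect group of automorphisms of the finite group `G` fixing a Sylow
2-subgroup pointwise, then every 2-element of `B` acts trivially on `G / O(G)`. -/
theorem theoremP (G : Type u) [Group G] [Finite G] : PStmt G := theoremP_aux _ G rfl

/-- **Theorem P** when `O(G) = 1`. -/
theorem eq_one_of_two_elt_of_perfect [Finite G] (hO : Cfsg.pPrimeCore 2 G = ⊥) (S : Sylow 2 G)
    (B : Subgroup (MulAut G)) (hBS : ∀ b ∈ B, ∀ s ∈ S, b s = s) (hperf : ⁅B, B⁆ = B)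
    (b : MulAut G) (hb : b ∈ B) (k : ℕ) (hk : b ^ (2 ^ k) = 1) : b = 1 := by
  ext g
  have := theoremP G S B hBS hperf b hb ⟨k, hk⟩ g
  rw [hO, Subgroup.mem_bot, coc_eq_one_iff] at this
  rw [this]; rfl

end Cfsg.Agent.Lib.Helper20.GlauPerf
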