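import Mathlib
import Cfsg.Agent.Lib.Helper26.HTDefs
import Cfsg.Agent.Lib.Helper20.SuzCenter

set_option autoImplicit false

/-! S3371 (HT market), leaf CINV: a nontrivial finite 2-group has a central involution (helper20). -/

namespace Cfsg.Agent.Lib.Helper20.HTCINV

open Subgroup Cfsg.Agent.Lib.Helper26.HT

variable {q : ℕ} [Fact q.Prime] {V : Type*} [AddCommGroup V] [Module (ZMod q) V]
  {G : Type*} [Group G]

/-- **HT-CINV** a nontrivial finite 2-group has a central involution. -/
theorem exists_central_invol [Finite G] [Nontrivial G] (hG : IsPGroup 2 G) :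
    ∃ z : G, orderOf z = 2 ∧ z ∈ center G := by
  obtain ⟨z, hzc, hz1, hz2⟩ := Cfsg.Agent.Lib.Helper20.SuzTwist.exists_central_invol hG
  refine ⟨z, ?_, ?_⟩
  · exact orderOf_eq_prime (by rw [pow_two, hz2]) hz1
  · rw [Subgroup.mem_center_iff]
    intro g
    exact (hzc g).symm

end Cfsg.Agent.Lib.Helper20.HTCINV
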