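import Mathlib
import Cfsg.Agent.Lib.Helper26.HTDefs

set_option autoImplicit false

/-! S3371 (HT market), leaf DIDX: the rotation subgroup of `D_{2n}` (helper20). -/

namespace Cfsg.Agent.Lib.Helper20.HTDIDX

open Subgroup Cfsg.Agent.Lib.Helper26.HT

variable {q : ℕ} [Fact q.Prime] {V : Type*} [AddCommGroup V] [Module (ZMod q) V]
  {G : Type*} [Group G]

/-- a rotation of order two is central -/
theorem r_central_of_order_two (n : ℕ) (i : ZMod n)
    (ho : orderOf (DihedralGroup.r i) = 2) : DihedralGroup.r i ∈ center (DihedralGroup n) := by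
  have h2 : DihedralGroup.r i * DihedralGroup.r i = 1 := by
    rw [← pow_two, ← ho, pow_orderOf_eq_one]
  rw [DihedralGroup.r_mul_r, DihedralGroup.one_def] at h2
  have hii : i + i = 0 := by
    injection h2
  rw [Subgroup.mem_center_iff]
  intro g
  cases g with
  | r j => rw [DihedralGroup.r_mul_r, DihedralGroup.r_mul_r, add_comm]
  | sr j =>
    rw [DihedralGroup.sr_mul_r, DihedralGroup.r_mul_sr]
    congr 1
    rw [eq_sub_iff_add_eq, add_assoc, hii, add_zero]

/-- **HT-DIDX** the rotation subgroup of `D_{2n}`. -/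
theorem dihedral_index_two (n : ℕ) (hn : 3 ≤ n) :
    ∃ C : Subgroup (DihedralGroup n), C.index = 2 ∧
      ∀ t ∈ C, orderOf t = 2 → t ∈ center (DihedralGroup n) := by
  haveI : NeZero n := ⟨by omega⟩
  refine ⟨Subgroup.zpowers (DihedralGroup.r 1), ?_, ?_⟩
  · have h1 := Subgroup.card_mul_index (Subgroup.zpowers (DihedralGroup.r (1 : ZMod n)))
    rw [Nat.card_zpowers, DihedralGroup.orderOf_r_one, DihedralGroup.nat_card] at h1
    have hn0 : 0 < n := by omega
    have : n * (Subgroup.zpowers (DihedralGroup.r (1 : ZMod n))).index = n * 2 := by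
      rw [h1]; ring
    exact Nat.eq_of_mul_eq_mul_left hn0 this
  · intro t ht hto
    obtain ⟨k, rfl⟩ := Subgroup.mem_zpowers_iff.mp ht
    rw [DihedralGroup.r_one_zpow] at hto ⊢
    exact r_central_of_order_two n _ hto

end Cfsg.Agent.Lib.Helper20.HTDIDX
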