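import Mathlib
import Cfsg.Agent.Lib.Helper26.HTDefs
import Cfsg.Agent.Lib.Helper20.HTDIDX

set_option autoImplicit false

/-! S3371 (HT market), leaf DCOUNT: `D_{2n}`, `n ≥ 3`, has exactly `n` non-central involutions
(helper20). -/

namespace Cfsg.Agent.Lib.Helper20.HTDCOUNT

open Subgroup Cfsg.Agent.Lib.Helper26.HT

variable {q : ℕ} [Fact q.Prime] {V : Type*} [AddCommGroup V] [Module (ZMod q) V]
  {G : Type*} [Group G]

/-- a reflection is not central when `n ≥ 3` -/
theorem sr_not_mem_center (n : ℕ) (hn : 3 ≤ n) (i : ZMod n) :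
    DihedralGroup.sr i ∉ center (DihedralGroup n) := by
  intro h
  rw [Subgroup.mem_center_iff] at h
  have h1 := h (DihedralGroup.r 1)
  rw [DihedralGroup.r_mul_sr, DihedralGroup.sr_mul_r] at h1
  have h2 : i - 1 = i + 1 := by
    injection h1
  have h3 : ((2 : ℕ) : ZMod n) = 0 := by
    have : (1 : ZMod n) + 1 = 0 := by
      have h4 : i + 1 - (i - 1) = 0 := by rw [h2]; ring
      have h5 : i + 1 - (i - 1) = 1 + 1 := by ring
      rw [← h5, h4]
    push_cast
    rw [← this]
    norm_num
  rw [ZMod.natCast_eq_zero_iff] at h3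
  have := Nat.le_of_dvd (by norm_num) h3
  omega

/-- **HT-DCOUNT** `D_{2n}`, `n ≥ 3`, has exactly `n` non-central involutions. -/
theorem dihedral_count (n : ℕ) (hn : 3 ≤ n) :
    Nat.card {g : DihedralGroup n // orderOf g = 2 ∧ g ∉ center (DihedralGroup n)} = n := by
  have key : {g : DihedralGroup n // orderOf g = 2 ∧ g ∉ center (DihedralGroup n)} ≃ ZMod n :=
    { toFun := fun g => match g.1 with
        | DihedralGroup.r _ => 0
        | DihedralGroup.sr i => i
      invFun := fun i => ⟨DihedralGroup.sr i, DihedralGroup.orderOf_sr i,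
        sr_not_mem_center n hn i⟩
      left_inv := by
        rintro ⟨g, hg1, hg2⟩
        cases g with
        | r i =>
          exact absurd (Cfsg.Agent.Lib.Helper20.HTDIDX.r_central_of_order_two n i hg1) hg2
        | sr i => rfl
      right_inv := by
        intro i
        rfl }
  rw [Nat.card_congr key, Nat.card_zmod]

end Cfsg.Agent.Lib.Helper20.HTDCOUNT
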