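import Mathlib
import Cfsg.Agent.Lib.Helper26.HTDefs

set_option autoImplicit false

/-! S3371 (HT market), leaf TRC: transport of the count of non-central involutions (helper20). -/

namespace Cfsg.Agent.Lib.Helper20.HTTRC

open Subgroup Cfsg.Agent.Lib.Helper26.HT

variable {q : ℕ} [Fact q.Prime] {V : Type*} [AddCommGroup V] [Module (ZMod q) V]
  {G : Type*} [Group G]

theorem mem_center_congr {G' : Type*} [Group G'] (e : G ≃* G') (g : G) :
    g ∈ center G ↔ e g ∈ center G' := by
  rw [Subgroup.mem_center_iff, Subgroup.mem_center_iff]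
  constructor
  · intro h y
    obtain ⟨x, rfl⟩ := e.surjective y
    rw [← map_mul, ← map_mul, h x]
  · intro h x
    apply e.injective
    rw [map_mul, map_mul, h (e x)]

/-- **HT-TRC** transport of the count of non-central involutions. -/
theorem card_noncentral_invol_congr {G' : Type*} [Group G'] (e : G ≃* G') :
    Nat.card {g : G // orderOf g = 2 ∧ g ∉ center G} =
      Nat.card {g : G' // orderOf g = 2 ∧ g ∉ center G'} := by
  apply Nat.card_congr
  refine e.toEquiv.subtypeEquiv ?_
  intro g
  show orderOf g = 2 ∧ g ∉ center G ↔ orderOf (e g) = 2 ∧ e g ∉ center G'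
  rw [MulEquiv.orderOf_eq, mem_center_congr e g]

end Cfsg.Agent.Lib.Helper20.HTTRC
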