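import Mathlib
import Cfsg.Agent.Lib.Helper26.HTDefs
import Cfsg.Agent.Lib.Helper20.HTTRC

set_option autoImplicit false

/-! S3371 (HT market), leaf QUAT: involutions of a (finite) generalized quaternion group are
central (helper20).  NOTE: finiteness is needed (`QuaternionGroup 0` has non-central involutions). -/

namespace Cfsg.Agent.Lib.Helper20.HTQUAT

open Subgroup Cfsg.Agent.Lib.Helper26.HT

variable {q : ℕ} [Fact q.Prime] {V : Type*} [AddCommGroup V] [Module (ZMod q) V]
  {G : Type*} [Group G]

theorem quaternion_invol_central' (n : ℕ) (hn : n ≠ 0) (y : QuaternionGroup n)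
    (ho : orderOf y = 2) : y ∈ center (QuaternionGroup n) := by
  haveI : NeZero n := ⟨hn⟩
  cases y with
  | a i =>
    have h2 : QuaternionGroup.a i * QuaternionGroup.a i = 1 := by
      rw [← pow_two, ← ho, pow_orderOf_eq_one]
    rw [QuaternionGroup.a_mul_a, QuaternionGroup.one_def] at h2
    have hii : i + i = 0 := by
      injection h2
    rw [Subgroup.mem_center_iff]
    intro g
    cases g with
    | a j => rw [QuaternionGroup.a_mul_a, QuaternionGroup.a_mul_a, add_comm]
    | xa j =>
      rw [QuaternionGroup.xa_mul_a, QuaternionGroup.a_mul_xa]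
      congr 1
      rw [eq_sub_iff_add_eq, add_assoc, hii, add_zero]
  | xa i =>
    rw [QuaternionGroup.orderOf_xa] at ho
    norm_num at ho

/-- **HT-QUAT** involutions of a finite generalized quaternion group are central. -/
theorem quaternion_invol_central [Finite G] (n : ℕ) (e : G ≃* QuaternionGroup n) :
    ∀ t : G, orderOf t = 2 → t ∈ center G := by
  have hn : n ≠ 0 := by
    rintro rfl
    haveI : Finite (QuaternionGroup 0) := Finite.of_equiv G e.toEquiv
    have hinj : Function.Injective
        (QuaternionGroup.a : ZMod (2 * 0) → QuaternionGroup 0) := fun i j h => by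
      injection h
    haveI : Finite (ZMod (2 * 0)) := Finite.of_injective _ hinj
    haveI : Infinite (ZMod (2 * 0)) := by
      show Infinite ℤ
      infer_instance
    exact not_finite (ZMod (2 * 0))
  intro t ht
  rw [Cfsg.Agent.Lib.Helper20.HTTRC.mem_center_congr e t]
  apply quaternion_invol_central' n hn
  rw [MulEquiv.orderOf_eq, ht]

end Cfsg.Agent.Lib.Helper20.HTQUAT
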