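import Mathlib
import Cfsg.Agent.Lib.Helper26.HTDefs
import Cfsg.Agent.Lib.Helper20.HTTRC

set_option autoImplicit false

/-! S3371 (HT market), leaf TRI: transport of the index-two data (helper20). -/

namespace Cfsg.Agent.Lib.Helper20.HTTRI

open Subgroup Cfsg.Agent.Lib.Helper26.HT

variable {q : ℕ} [Fact q.Prime] {V : Type*} [AddCommGroup V] [Module (ZMod q) V]
  {G : Type*} [Group G]

/-- **HT-TRI** transport of the index-two data. -/
theorem index_two_data_congr {G' : Type*} [Group G'] (e : G ≃* G')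
    (h : ∃ C : Subgroup G', C.index = 2 ∧ ∀ t ∈ C, orderOf t = 2 → t ∈ center G') :
    ∃ C : Subgroup G, C.index = 2 ∧ ∀ t ∈ C, orderOf t = 2 → t ∈ center G := by
  obtain ⟨C, hC2, hC⟩ := h
  refine ⟨C.comap e.toMonoidHom, ?_, ?_⟩
  · rw [Subgroup.index_comap_of_surjective C e.surjective, hC2]
  · intro t ht hto
    rw [Cfsg.Agent.Lib.Helper20.HTTRC.mem_center_congr e t]
    apply hC (e t) ht
    rw [MulEquiv.orderOf_eq, hto]

end Cfsg.Agent.Lib.Helper20.HTTRI
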