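import Mathlib
import Cfsg.Agent.Lib.Helper23.WAct5

set_option autoImplicit false

/-!
# M. Hall's theorem on quadruply transitive groups, part A

Abstract group lemmas: involutions in cosets of groups of odd order, and the
Brauer–Wielandt formula for a four-group acting on a subgroup of odd order.
-/

namespace Cfsg.Agent.Lib.Helper20.Hall

open Cfsg.Agent.Lib.Helper23.WAct

variable {Γ : Type*} [Group Γ]

theorem inv_eq_of_sq {t : Γ} (ht : t * t = 1) : t⁻¹ = t := inv_eq_of_mul_eq_one_left ht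

theorem orderOf_odd_of_mem [Finite Γ] {K : Subgroup Γ} (hK : Odd (Nat.card K)) {g : Γ}
    (hg : g ∈ K) : Odd (orderOf g) := by
  have h1 : orderOf (⟨g, hg⟩ : K) ∣ Nat.card K := orderOf_dvd_natCard _
  rw [Subgroup.orderOf_mk] at h1
  exact Odd.of_dvd_nat hK h1

/-- from an element whose square lies in a subgroup of odd order we get an involution as an
odd power. -/
theorem odd_pow_invol [Finite Γ] {K : Subgroup Γ} (hK : Odd (Nat.card K)) {g : Γ}
    (hg : g * g ∈ K) : ∃ d : ℕ, Odd d ∧ (g ^ d) * (g ^ d) = 1 := by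
  refine ⟨orderOf (g * g), orderOf_odd_of_mem hK hg, ?_⟩
  have : (g ^ orderOf (g * g)) * (g ^ orderOf (g * g)) = (g * g) ^ orderOf (g * g) := by
    rw [(Commute.refl g).mul_pow]
  rw [this, pow_orderOf_eq_one]

/-- two involutions `t`, `t'` whose quotient has odd order are conjugate by a power of the
quotient. -/
theorem conj_of_invol {t t' : Γ} (ht : t * t = 1) (ht' : t' * t' = 1)
    (hodd : Odd (orderOf (t⁻¹ * t'))) :
    ∃ k ∈ Subgroup.zpowers (t⁻¹ * t'), k⁻¹ * t * k = t' := by
  set h := t⁻¹ * t' with hh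
  have hti : t⁻¹ = t := inv_eq_of_sq ht
  have hti' : t'⁻¹ = t' := inv_eq_of_sq ht'
  have hinv : t * h * t⁻¹ = h⁻¹ := by
    have h0 : t * h * t⁻¹ = t' * t⁻¹ := by rw [hh]; group
    rw [h0, hh, mul_inv_rev, inv_inv, hti', hti]
  obtain ⟨j, hj⟩ := hodd
  set k := h ^ (j + 1) with hk
  have hkk : k * k = h := by
    rw [hk, ← pow_add]
    have : j + 1 + (j + 1) = orderOf h + 1 := by omega
    rw [this, pow_succ, pow_orderOf_eq_one, one_mul]
  have hkinv : t * k * t⁻¹ = k⁻¹ := by
    rw [hk, ← conj_pow, hinv, inv_pow]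
  refine ⟨k, Subgroup.pow_mem _ (Subgroup.mem_zpowers h) _, ?_⟩
  have h1 : k⁻¹ * t * k = t * (t⁻¹ * k⁻¹ * t) * k := by group
  have h2 : t⁻¹ * k⁻¹ * t = k := by
    have : t⁻¹ * k⁻¹ * t = (t * k * t⁻¹)⁻¹ := by
      simp only [mul_inv_rev, inv_inv, hti, mul_assoc]
    rw [this, hkinv, inv_inv]
  rw [h1, h2, mul_assoc, hkk, hh]
  group

/-- the central involution of a dihedral group of order `4 * odd`. -/
theorem dihedral_center [Finite Γ] {x y₀ : Γ} (hx : x * x = 1) (hy : y₀ * y₀ = 1)
    {K : Subgroup Γ} (hK : Odd (Nat.card K)) (hw : (x * y₀) * (x * y₀) ∈ K) :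
    ∃ d : ℕ, Odd d ∧ ((x * y₀) ^ d) * ((x * y₀) ^ d) = 1 ∧
      x * (x * y₀) ^ d = (x * y₀) ^ d * x := by
  obtain ⟨d, hd, hz⟩ := odd_pow_invol hK hw
  refine ⟨d, hd, hz, ?_⟩
  set w := x * y₀ with hwd
  have hxi : x⁻¹ = x := inv_eq_of_sq hx
  have hyi : y₀⁻¹ = y₀ := inv_eq_of_sq hy
  have hconj : x * w * x⁻¹ = w⁻¹ := by
    rw [hwd, mul_inv_rev, hxi, hyi]
    have : x * (x * y₀) * x = (x * x) * y₀ * x := by group
    rw [this, hx, one_mul]
  have h1 : x * w ^ d * x⁻¹ = (w ^ d)⁻¹ := by
    rw [← conj_pow, hconj, inv_pow]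
  have h2 : (w ^ d)⁻¹ = w ^ d := inv_eq_of_sq hz
  rw [h2] at h1
  calc x * w ^ d = (x * w ^ d * x⁻¹) * x := by group
    _ = w ^ d * x := by rw [h1]

section BW

variable {F : Type*} [Group F] [Finite F]

/-- **Brauer–Wielandt** for two commuting involutory automorphisms of a group of odd order. -/
theorem bw2 (hF : Odd (Nat.card F)) (a b : MulAut F) (ha : a * a = 1) (hb : b * b = 1)
    (hab : a * b = b * a) :
    Nat.card F * Nat.card (fix (MonoidHom.id (MulAut F)) {a, b}) ^ 2 =
      Nat.card (fix (MonoidHom.id (MulAut F)) {b}) *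
        (Nat.card (fix (MonoidHom.id (MulAut F)) {a}) *
          Nat.card (fix (MonoidHom.id (MulAut F)) {a * b})) := by
  have hk : ∀ g ∈ ({a, b} : Set (MulAut F)), ∀ h ∈ ({a, b} : Set (MulAut F)),
      g * h = h * g := by
    rintro g (rfl | rfl) h (rfl | rfl)
    · rfl
    · exact hab
    · exact hab.symm
    · rfl
  set Z : Subgroup (MulAut F) := Subgroup.closure {a, b} with hZ
  have hZcomm : ∀ g ∈ Z, ∀ h ∈ Z, g * h = h * g := by
    intro g hg h hh
    have := (Subgroup.isMulCommutative_closure hk).is_comm.comm ⟨g, hg⟩ ⟨h, hh⟩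
    exact congrArg Subtype.val this
  have hsq : ∀ g ∈ Z, g ^ 2 = 1 := by
    intro g hg
    induction hg using Subgroup.closure_induction with
    | mem g hg =>
      rcases hg with rfl | rfl
      · rw [pow_two]; exact ha
      · rw [pow_two]; exact hb
    | one => simp
    | mul g h hg hh ihg ihh =>
      have hc : Commute g h := hZcomm g hg h hh
      rw [hc.mul_pow, ihg, ihh, one_mul]
    | inv g hg ihg => rw [inv_pow, ihg, inv_one]
  have : Fact (Nat.Prime 2) := ⟨Nat.prime_two⟩
  have hA : IsPGroup 2 Z := by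
    intro g
    refine ⟨1, ?_⟩
    apply Subtype.ext
    rw [pow_one, Subgroup.coe_pow, hsq g.1 g.2]
    rfl
  have hcop : ¬ 2 ∣ Nat.card F := by
    intro h
    exact (Nat.not_even_iff_odd.mpr hF) (even_iff_two_dvd.mpr h)
  have haZ : a ∈ Z := Subgroup.subset_closure (by simp)
  have hbZ : b ∈ Z := Subgroup.subset_closure (by simp)
  have hW := wielandt (p := 2) hA (Nat.card F) F rfl hcop Z.subtype
    (fun u v => by rw [map_mul, map_mul]; exact hZcomm _ u.2 _ v.2)
    (fun u => by rw [map_pow]; exact hsq _ u.2) ⟨a, haZ⟩ ⟨b, hbZ⟩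
  have e1 : fix Z.subtype {(⟨a, haZ⟩ : Z), ⟨b, hbZ⟩} = fix (MonoidHom.id (MulAut F)) {a, b} := by
    ext f
    rw [mem_fix_pair, mem_fix_pair]
    rfl
  have e2 : fix Z.subtype {(⟨b, hbZ⟩ : Z)} = fix (MonoidHom.id (MulAut F)) {b} := by
    ext f
    rw [mem_fix_singleton, mem_fix_singleton]
    rfl
  have e3 : ∀ i : ℕ, fix Z.subtype {(⟨a, haZ⟩ : Z) * ⟨b, hbZ⟩ ^ i}
      = fix (MonoidHom.id (MulAut F)) {a * b ^ i} := by
    intro i
    ext f
    rw [mem_fix_singleton, mem_fix_singleton]
    rfl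
  rw [e1, e2] at hW
  simp only [e3] at hW
  rw [Finset.prod_range_succ, Finset.prod_range_one, pow_zero, mul_one, pow_one] at hW
  exact hW

end BW

/-- conjugation by an element normalizing `H`, as an automorphism of `H`. -/
def conjAut (H : Subgroup Γ) (g : Γ) (hg : ∀ h ∈ H, g * h * g⁻¹ ∈ H)
    (hg' : ∀ h ∈ H, g⁻¹ * h * g ∈ H) : MulAut ↥H where
  toFun h := ⟨g * h * g⁻¹, hg h h.2⟩
  invFun h := ⟨g⁻¹ * h * g, hg' h h.2⟩
  left_inv h := by
    apply Subtype.ext
    show g⁻¹ * (g * h * g⁻¹) * g = h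
    group
  right_inv h := by
    apply Subtype.ext
    show g * (g⁻¹ * h * g) * g⁻¹ = h
    group
  map_mul' h k := by
    apply Subtype.ext
    show g * (h * k) * g⁻¹ = (g * h * g⁻¹) * (g * k * g⁻¹)
    group

theorem conjAut_apply (H : Subgroup Γ) (g : Γ) (hg hg') (h : ↥H) :
    ((conjAut H g hg hg' h : ↥H) : Γ) = g * h * g⁻¹ := rfl

/-- the centralizer in `H` of the set `S`. -/
def cent (H : Subgroup Γ) (S : Set Γ) : Subgroup Γ := H ⊓ Subgroup.centralizer S

theorem mem_cent {H : Subgroup Γ} {S : Set Γ} {g : Γ} :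
    g ∈ cent H S ↔ g ∈ H ∧ ∀ s ∈ S, s * g = g * s := by
  unfold cent
  rw [Subgroup.mem_inf, Subgroup.mem_centralizer_iff]

/-- **Brauer–Wielandt** for a four-group normalizing a subgroup of odd order. -/
theorem bw_subgroup [Finite Γ] (H : Subgroup Γ) (hH : Odd (Nat.card H)) {x z : Γ}
    (hx : x * x = 1) (hz : z * z = 1) (hxz : x * z = z * x)
    (hxH : ∀ h ∈ H, x * h * x⁻¹ ∈ H) (hzH : ∀ h ∈ H, z * h * z⁻¹ ∈ H) :
    Nat.card H * Nat.card (cent H {x, z}) ^ 2 =
      Nat.card (cent H {z}) * (Nat.card (cent H {x}) * Nat.card (cent H {x * z})) := by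
  have hxi : x⁻¹ = x := inv_eq_of_sq hx
  have hzi : z⁻¹ = z := inv_eq_of_sq hz
  have hxH' : ∀ h ∈ H, x⁻¹ * h * x ∈ H := by
    intro h hh
    have := hxH h hh
    rwa [hxi] at this ⊢
  have hzH' : ∀ h ∈ H, z⁻¹ * h * z ∈ H := by
    intro h hh
    have := hzH h hh
    rwa [hzi] at this ⊢
  set a : MulAut ↥H := conjAut H x hxH hxH' with ha
  set b : MulAut ↥H := conjAut H z hzH hzH' with hb
  have haa : a * a = 1 := by
    ext h
    show x * (x * h * x⁻¹) * x⁻¹ = h
    rw [hxi]
    have : x * (x * h * x) * x = (x * x) * h * (x * x) := by group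
    rw [this, hx, one_mul, mul_one]
  have hbb : b * b = 1 := by
    ext h
    show z * (z * h * z⁻¹) * z⁻¹ = h
    rw [hzi]
    have : z * (z * h * z) * z = (z * z) * h * (z * z) := by group
    rw [this, hz, one_mul, mul_one]
  have hab : a * b = b * a := by
    ext h
    show x * (z * h * z⁻¹) * x⁻¹ = z * (x * h * x⁻¹) * z⁻¹
    have h1 : x * (z * h * z⁻¹) * x⁻¹ = (x * z) * h * (x * z)⁻¹ := by group
    have h2 : z * (x * h * x⁻¹) * z⁻¹ = (z * x) * h * (z * x)⁻¹ := by group
    rw [h1, h2, hxz]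
  have hW := bw2 hH a b haa hbb hab
  -- translate
  have key : ∀ (S : Set (MulAut ↥H)) (T : Set Γ),
      (∀ h : ↥H, (∀ u ∈ S, u h = h) ↔ ∀ s ∈ T, s * (h : Γ) = (h : Γ) * s) →
      Nat.card (fix (MonoidHom.id (MulAut ↥H)) S) = Nat.card (cent H T) := by
    intro S T hST
    have : (fix (MonoidHom.id (MulAut ↥H)) S).map H.subtype = cent H T := by
      ext g
      rw [Subgroup.mem_map, mem_cent]
      constructor
      · rintro ⟨h, hh, rfl⟩
        exact ⟨h.2, (hST h).mp hh⟩
      · rintro ⟨hg, hc⟩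
        exact ⟨⟨g, hg⟩, (hST ⟨g, hg⟩).mpr hc, rfl⟩
    rw [← this, Subgroup.card_map_of_injective H.subtype_injective]
  have conj_iff : ∀ (g : Γ) (h : Γ), g * h * g⁻¹ = h ↔ g * h = h * g := by
    intro g h
    constructor
    · intro e
      calc g * h = (g * h * g⁻¹) * g := by group
        _ = h * g := by rw [e]
    · intro e
      rw [e]; group
  have k1 := key {a, b} {x, z} (by
    intro h
    constructor
    · intro hu s hs
      rcases hs with rfl | rfl
      · have := hu a (by simp)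
        have h2 := congrArg Subtype.val this
        exact (conj_iff _ _).mp h2
      · have := hu b (by simp)
        have h2 := congrArg Subtype.val this
        exact (conj_iff _ _).mp h2
    · intro hs u hu
      rcases hu with rfl | rfl
      · apply Subtype.ext
        exact (conj_iff _ _).mpr (hs x (by simp))
      · apply Subtype.ext
        exact (conj_iff _ _).mpr (hs z (by simp)))
  have k2 := key {b} {z} (by
    intro h
    constructor
    · intro hu s hs
      rw [Set.mem_singleton_iff] at hs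
      subst hs
      have := hu b (by simp)
      have h2 := congrArg Subtype.val this
      exact (conj_iff _ _).mp h2
    · intro hs u hu
      rw [Set.mem_singleton_iff] at hu
      subst hu
      apply Subtype.ext
      exact (conj_iff _ _).mpr (hs z (by simp)))
  have k3 := key {a} {x} (by
    intro h
    constructor
    · intro hu s hs
      rw [Set.mem_singleton_iff] at hs
      subst hs
      have := hu a (by simp)
      have h2 := congrArg Subtype.val this
      exact (conj_iff _ _).mp h2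
    · intro hs u hu
      rw [Set.mem_singleton_iff] at hu
      subst hu
      apply Subtype.ext
      exact (conj_iff _ _).mpr (hs x (by simp)))
  have k4 := key {a * b} {x * z} (by
    intro h
    constructor
    · intro hu s hs
      rw [Set.mem_singleton_iff] at hs
      subst hs
      have := hu (a * b) (by simp)
      have h2 : x * (z * (h : Γ) * z⁻¹) * x⁻¹ = h := congrArg Subtype.val this
      have h3 : (x * z) * (h : Γ) * (x * z)⁻¹ = h := by
        have h4 : (x * z) * (h : Γ) * (x * z)⁻¹ = x * (z * (h : Γ) * z⁻¹) * x⁻¹ := by group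
        rw [h4, h2]
      exact (conj_iff _ _).mp h3
    · intro hs u hu
      rw [Set.mem_singleton_iff] at hu
      subst hu
      apply Subtype.ext
      show x * (z * (h : Γ) * z⁻¹) * x⁻¹ = h
      have h3 := (conj_iff _ _).mpr (hs (x * z) (by simp))
      have h4 : x * (z * (h : Γ) * z⁻¹) * x⁻¹ = (x * z) * (h : Γ) * (x * z)⁻¹ := by group
      rw [h4, h3])
  rw [k1, k2, k3, k4] at hW
  exact hW

end Cfsg.Agent.Lib.Helper20.Hall
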