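import Mathlib
import Cfsg.Agent.Lib.Helper20.HallA
import Cfsg.Agent.Lib.Helper20.MillerH

set_option autoImplicit false

/-!
# M. Hall's theorem on quadruply transitive groups, part B

The basic set-up: a finite group acting faithfully and `4`-transitively such that the
stabilizers of four points have odd order.  Involutions with a prescribed action on four
points, conjugacy of involutions and of four-groups with the same action on four points.
-/

namespace Cfsg.Agent.Lib.Helper20.Hall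

open MulAction

variable {Γ : Type*} [Group Γ] [Finite Γ] {α : Type*} [Fintype α] [DecidableEq α]
  [MulAction Γ α]

/-- the standing hypotheses. -/
structure HSet (Γ : Type*) [Group Γ] (α : Type*) [MulAction Γ α] : Prop where
  faithful : ∀ g : Γ, (∀ a : α, g • a = a) → g = 1
  trans4 : IsMultiplyPretransitive Γ α 4
  odd : ∀ p : Fin 4 ↪ α, Odd (Nat.card (stabilizer Γ p))

/-- the set of fixed points of `g`. -/
def fx (g : Γ) : Finset α := Finset.univ.filter (fun a => g • a = a)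

theorem mem_fx {g : Γ} {a : α} : a ∈ fx g ↔ g • a = a := by
  unfold fx
  simp

theorem mem_stab4 {g : Γ} {p : Fin 4 ↪ α} : g ∈ stabilizer Γ p ↔ ∀ i, g • p i = p i := by
  rw [mem_stabilizer_iff]
  constructor
  · intro h i
    exact congrArg (fun f : Fin 4 ↪ α => f i) h
  · intro h
    ext i
    exact h i

/-- an embedding from four distinct points. -/
def mk4 (a b c d : α) (h : a ≠ b ∧ a ≠ c ∧ a ≠ d ∧ b ≠ c ∧ b ≠ d ∧ c ≠ d) : Fin 4 ↪ α :=
  ⟨![a, b, c, d], by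
    obtain ⟨h1, h2, h3, h4, h5, h6⟩ := h
    intro i j hij
    fin_cases i <;> fin_cases j <;> simp_all⟩

@[simp] theorem mk4_zero (a b c d : α) (h) : mk4 a b c d h 0 = a := rfl
@[simp] theorem mk4_one (a b c d : α) (h) : mk4 a b c d h 1 = b := rfl
@[simp] theorem mk4_two (a b c d : α) (h) : mk4 a b c d h 2 = c := rfl
@[simp] theorem mk4_three (a b c d : α) (h) : mk4 a b c d h 3 = d := rfl

theorem smul_pow_odd {g : Γ} {a b : α} (hab : g • a = b) (hba : g • b = a) {d : ℕ}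
    (hd : Odd d) : g ^ d • a = b := by
  obtain ⟨j, rfl⟩ := hd
  have h2 : ∀ j : ℕ, g ^ (2 * j) • a = a := by
    intro j
    induction j with
    | zero => simp
    | succ n ih =>
      have : 2 * (n + 1) = 2 * n + 2 := by ring
      rw [this, pow_add, mul_smul, pow_two, mul_smul, hab, hba, ih]
  rw [pow_succ, mul_smul, hab]
  have h3 : ∀ j : ℕ, g ^ (2 * j) • b = b := by
    intro j
    induction j with
    | zero => simp
    | succ n ih =>
      have : 2 * (n + 1) = 2 * n + 2 := by ring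
      rw [this, pow_add, mul_smul, pow_two, mul_smul, hba, hab, ih]
  exact h3 j

theorem smul_pow_fix {g : Γ} {a : α} (ha : g • a = a) (d : ℕ) : g ^ d • a = a := by
  induction d with
  | zero => simp
  | succ n ih => rw [pow_succ, mul_smul, ha, ih]

namespace HSet

variable (S : HSet Γ α)
include S

/-- an involution with a prescribed involutory action on four points. -/
theorem exists_invol (p : Fin 4 ↪ α) (σ : Fin 4 → Fin 4) (hσ : ∀ i, σ (σ i) = i) :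
    ∃ t : Γ, t * t = 1 ∧ ∀ i, t • p i = p (σ i) := by
  have hinj : Function.Injective σ := fun i j hij => by
    rw [← hσ i, ← hσ j, hij]
  let q : Fin 4 ↪ α := (⟨σ, hinj⟩ : Fin 4 ↪ Fin 4).trans p
  have := S.trans4
  obtain ⟨g, hg⟩ := exists_smul_eq Γ p q
  have hg' : ∀ i, g • p i = p (σ i) := by
    intro i
    exact congrArg (fun f : Fin 4 ↪ α => f i) hg
  have hgg : g * g ∈ stabilizer Γ p := by
    rw [mem_stab4]
    intro i
    rw [mul_smul, hg', hg', hσ]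
  obtain ⟨d, hd, hdd⟩ := odd_pow_invol (S.odd p) hgg
  refine ⟨g ^ d, hdd, fun i => ?_⟩
  by_cases hi : σ i = i
  · rw [hi]
    apply smul_pow_fix
    rw [hg', hi]
  · apply smul_pow_odd (hg' i) _ hd
    rw [hg', hσ]

/-- a non-identity element of order two fixes at most three points. -/
theorem card_fx_le {t : Γ} (ht : t * t = 1) (ht1 : t ≠ 1) : (fx t : Finset α).card ≤ 3 := by
  by_contra hh
  push Not at hh
  have hc : Fintype.card (Fin 4) ≤ Fintype.card {a // a ∈ (fx t : Finset α)} := by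
    rw [Fintype.card_coe, Fintype.card_fin]; exact hh
  obtain ⟨ι⟩ := Function.Embedding.nonempty_of_card_le hc
  let p : Fin 4 ↪ α := ι.trans (Function.Embedding.subtype _)
  have hmem : t ∈ stabilizer Γ p := by
    rw [mem_stab4]
    intro i
    exact mem_fx.mp (ι i).2
  have hodd := orderOf_odd_of_mem (S.odd p) hmem
  have h2 : orderOf t = 2 := orderOf_eq_prime (by rw [pow_two]; exact ht) ht1
  rw [h2] at hodd
  exact absurd hodd (by decide)

/-- an element permuting four points normalizes their stabilizer. -/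
theorem normalizes {t : Γ} {p : Fin 4 ↪ α} {σ : Fin 4 → Fin 4}
    (hσ : Function.Surjective σ) (ht : ∀ i, t • p i = p (σ i)) :
    ∀ h ∈ stabilizer Γ p, t * h * t⁻¹ ∈ stabilizer Γ p := by
  intro h hh
  rw [mem_stab4] at hh ⊢
  intro i
  obtain ⟨j, rfl⟩ := hσ i
  rw [← ht j, mul_smul, mul_smul, inv_smul_smul, hh j]

/-- pairs of commuting involutions with the same action on four points are conjugate by an
element mapping the four points to the four points. -/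
theorem conj2 {x y x' y' : Γ} (hx : x * x = 1) (hy : y * y = 1) (hxy : x * y = y * x)
    (hx' : x' * x' = 1) (hy' : y' * y' = 1) (hxy' : x' * y' = y' * x')
    (p q : Fin 4 ↪ α) (σ τ : Fin 4 → Fin 4)
    (hxp : ∀ i, x • p i = p (σ i)) (hxq : ∀ i, x' • q i = q (σ i))
    (hyp : ∀ i, y • p i = p (τ i)) (hyq : ∀ i, y' • q i = q (τ i)) :
    ∃ g : Γ, g * x * g⁻¹ = x' ∧ g * y * g⁻¹ = y' ∧ ∀ i, g • p i = q i := by
  have := S.trans4
  obtain ⟨g₀, hg₀⟩ := exists_smul_eq Γ p q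
  have hg₀' : ∀ i, g₀ • p i = q i := fun i => congrArg (fun f : Fin 4 ↪ α => f i) hg₀
  have hg₀inv : ∀ i, g₀⁻¹ • q i = p i := fun i => by rw [← hg₀' i, inv_smul_smul]
  -- step 1
  set x₂ := g₀ * x * g₀⁻¹ with hx₂
  set y₂ := g₀ * y * g₀⁻¹ with hy₂
  have hx₂x₂ : x₂ * x₂ = 1 := by
    rw [hx₂]
    have : g₀ * x * g₀⁻¹ * (g₀ * x * g₀⁻¹) = g₀ * (x * x) * g₀⁻¹ := by group
    rw [this, hx]; group
  have hy₂y₂ : y₂ * y₂ = 1 := by
    rw [hy₂]
    have : g₀ * y * g₀⁻¹ * (g₀ * y * g₀⁻¹) = g₀ * (y * y) * g₀⁻¹ := by group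
    rw [this, hy]; group
  have hx₂q : ∀ i, x₂ • q i = q (σ i) := by
    intro i
    rw [hx₂, mul_smul, mul_smul, hg₀inv, hxp, hg₀']
  have hy₂q : ∀ i, y₂ • q i = q (τ i) := by
    intro i
    rw [hy₂, mul_smul, mul_smul, hg₀inv, hyp, hg₀']
  have hmem1 : x₂⁻¹ * x' ∈ stabilizer Γ q := by
    rw [mem_stab4]
    intro i
    rw [mul_smul, hxq, ← hx₂q i, inv_smul_smul]
  obtain ⟨k₁, hk₁, hk₁c⟩ := conj_of_invol hx₂x₂ hx' (orderOf_odd_of_mem (S.odd q) hmem1)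
  have hk₁q : k₁ ∈ stabilizer Γ q :=
    (Subgroup.zpowers_le.mpr hmem1) hk₁
  -- step 2
  set y₃ := k₁⁻¹ * y₂ * k₁ with hy₃
  have hy₃y₃ : y₃ * y₃ = 1 := by
    rw [hy₃]
    have : k₁⁻¹ * y₂ * k₁ * (k₁⁻¹ * y₂ * k₁) = k₁⁻¹ * (y₂ * y₂) * k₁ := by group
    rw [this, hy₂y₂]; group
  have hk₁fix : ∀ i, k₁ • q i = q i := mem_stab4.mp hk₁q
  have hk₁inv : ∀ i, k₁⁻¹ • q i = q i := fun i => by
    rw [inv_smul_eq_iff, hk₁fix]
  have hy₃q : ∀ i, y₃ • q i = q (τ i) := by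
    intro i
    rw [hy₃, mul_smul, mul_smul, hk₁fix, hy₂q, hk₁inv]
  have hx₂y₂ : x₂ * y₂ = y₂ * x₂ := by
    rw [hx₂, hy₂]
    have h1 : g₀ * x * g₀⁻¹ * (g₀ * y * g₀⁻¹) = g₀ * (x * y) * g₀⁻¹ := by group
    have h2 : g₀ * y * g₀⁻¹ * (g₀ * x * g₀⁻¹) = g₀ * (y * x) * g₀⁻¹ := by group
    rw [h1, h2, hxy]
  have hx'y₃ : x' * y₃ = y₃ * x' := by
    rw [← hk₁c, hy₃]
    have h1 : k₁⁻¹ * x₂ * k₁ * (k₁⁻¹ * y₂ * k₁) = k₁⁻¹ * (x₂ * y₂) * k₁ := by group
    have h2 : k₁⁻¹ * y₂ * k₁ * (k₁⁻¹ * x₂ * k₁) = k₁⁻¹ * (y₂ * x₂) * k₁ := by group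
    rw [h1, h2, hx₂y₂]
  have hmem2 : y₃⁻¹ * y' ∈ stabilizer Γ q := by
    rw [mem_stab4]
    intro i
    rw [mul_smul, hyq, ← hy₃q i, inv_smul_smul]
  obtain ⟨k₂, hk₂, hk₂c⟩ := conj_of_invol hy₃y₃ hy' (orderOf_odd_of_mem (S.odd q) hmem2)
  have hk₂q : k₂ ∈ stabilizer Γ q := (Subgroup.zpowers_le.mpr hmem2) hk₂
  -- k₂ commutes with x'
  have hcomm : Commute x' (y₃⁻¹ * y') := by
    have h1 : Commute x' y₃ := hx'y₃
    have h2 : Commute x' y' := hxy'
    exact h1.inv_right.mul_right h2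
  have hk₂x : Commute x' k₂ := by
    obtain ⟨m, rfl⟩ := Subgroup.mem_zpowers_iff.mp hk₂
    exact hcomm.zpow_right m
  have hk₂fix : ∀ i, k₂ • q i = q i := mem_stab4.mp hk₂q
  have hk₂inv : ∀ i, k₂⁻¹ • q i = q i := fun i => by
    rw [inv_smul_eq_iff, hk₂fix]
  refine ⟨k₂⁻¹ * k₁⁻¹ * g₀, ?_, ?_, ?_⟩
  · have h1 : k₂⁻¹ * k₁⁻¹ * g₀ * x * (k₂⁻¹ * k₁⁻¹ * g₀)⁻¹
        = k₂⁻¹ * (k₁⁻¹ * (g₀ * x * g₀⁻¹) * k₁) * k₂ := by group
    rw [h1, ← hx₂, hk₁c]
    have h2 : k₂⁻¹ * x' * k₂ = k₂⁻¹ * (x' * k₂) := by group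
    rw [h2, hk₂x.eq]
    group
  · have h1 : k₂⁻¹ * k₁⁻¹ * g₀ * y * (k₂⁻¹ * k₁⁻¹ * g₀)⁻¹
        = k₂⁻¹ * (k₁⁻¹ * (g₀ * y * g₀⁻¹) * k₁) * k₂ := by group
    rw [h1, ← hy₂, ← hy₃, hk₂c]
  · intro i
    rw [mul_smul, mul_smul, hg₀', hk₁inv, hk₂inv]

/-- the single involution version. -/
theorem conj1 {t t' : Γ} (ht : t * t = 1) (ht' : t' * t' = 1) (p q : Fin 4 ↪ α)
    (σ : Fin 4 → Fin 4) (htp : ∀ i, t • p i = p (σ i)) (htq : ∀ i, t' • q i = q (σ i)) :
    ∃ g : Γ, g * t * g⁻¹ = t' ∧ ∀ i, g • p i = q i := by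
  obtain ⟨g, h1, _, h3⟩ := S.conj2 ht ht rfl ht' ht' rfl p q σ σ htp htq htp htq
  exact ⟨g, h1, h3⟩

end HSet

end Cfsg.Agent.Lib.Helper20.Hall
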