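import Mathlib
import Cfsg.Agent.Lib.Helper20.HallB

set_option autoImplicit false

/-!
# M. Hall's theorem on quadruply transitive groups, part C

Counting tools: the subgroups `CS T F` of elements commuting with `T` and fixing the points of
`F`, the orbit–stabilizer count for them, invariance of the orders of centralizers in
four-point stabilizers under conjugation, and conjugacy of all involutions.
-/

namespace Cfsg.Agent.Lib.Helper20.Hall

open MulAction

variable {Γ : Type*} [Group Γ] [Finite Γ] {α : Type*} [Fintype α] [DecidableEq α]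
  [MulAction Γ α]

/-- elements commuting with all of `T` and fixing all points of `F`. -/
def CS (T : Set Γ) (F : Finset α) : Subgroup Γ where
  carrier := {g | (∀ s ∈ T, s * g = g * s) ∧ ∀ a ∈ F, g • a = a}
  one_mem' := by
    refine ⟨fun s _ => ?_, fun a _ => ?_⟩
    · rw [mul_one, one_mul]
    · rw [one_smul]
  mul_mem' := by
    rintro g h ⟨hg1, hg2⟩ ⟨hh1, hh2⟩
    refine ⟨fun s hs => ?_, fun a ha => ?_⟩
    · rw [← mul_assoc, hg1 s hs, mul_assoc, hh1 s hs, mul_assoc]
    · rw [mul_smul, hh2 a ha, hg2 a ha]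
  inv_mem' := by
    rintro g ⟨hg1, hg2⟩
    refine ⟨fun s hs => ?_, fun a ha => ?_⟩
    · have := hg1 s hs
      calc s * g⁻¹ = g⁻¹ * (g * s) * g⁻¹ := by group
        _ = g⁻¹ * (s * g) * g⁻¹ := by rw [this]
        _ = g⁻¹ * s := by group
    · rw [inv_smul_eq_iff, hg2 a ha]

theorem mem_CS {T : Set Γ} {F : Finset α} {g : Γ} :
    g ∈ CS T F ↔ (∀ s ∈ T, s * g = g * s) ∧ ∀ a ∈ F, g • a = a := Iff.rfl

/-- orbit–stabilizer for the groups `CS T F`. -/
theorem card_orbit_mul (T : Set Γ) (F : Finset α) (k : α) (O : Finset α)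
    (hO : ∀ a, a ∈ O ↔ ∃ g ∈ CS T F, g • k = a) :
    O.card * Nat.card (CS T (insert k F)) = Nat.card (CS T F) := by
  set K := CS T F with hK
  have h1 : (stabilizer ↥K k).index = (orbit ↥K k).ncard := index_stabilizer ↥K k
  have h2 := Subgroup.index_mul_card (stabilizer ↥K k)
  have h3 : Nat.card (stabilizer ↥K k) = Nat.card (CS T (insert k F)) := by
    have : (stabilizer ↥K k).map K.subtype = CS T (insert k F) := by
      ext g
      rw [Subgroup.mem_map, mem_CS]
      constructor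
      · rintro ⟨u, hu, rfl⟩
        have hu2 : (u : Γ) ∈ CS T F := u.2
        rw [mem_CS] at hu2
        refine ⟨hu2.1, fun a ha => ?_⟩
        rw [Finset.mem_insert] at ha
        rcases ha with rfl | ha
        · exact hu
        · exact hu2.2 a ha
      · rintro ⟨hg1, hg2⟩
        have hgK : g ∈ K := by
          rw [hK, mem_CS]
          exact ⟨hg1, fun a ha => hg2 a (Finset.mem_insert_of_mem ha)⟩
        refine ⟨⟨g, hgK⟩, ?_, rfl⟩
        rw [mem_stabilizer_iff]
        exact hg2 k (Finset.mem_insert_self k F)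
    rw [← this, Subgroup.card_map_of_injective K.subtype_injective]
  have h4 : (orbit ↥K k).ncard = O.card := by
    have : orbit ↥K k = (O : Set α) := by
      ext a
      rw [Finset.mem_coe, hO a]
      constructor
      · rintro ⟨u, rfl⟩
        exact ⟨u.1, u.2, rfl⟩
      · rintro ⟨g, hg, rfl⟩
        exact ⟨⟨g, hg⟩, rfl⟩
    rw [this, Set.ncard_coe_finset]
  rw [← h4, ← h1, ← h3]
  exact h2

/-- the centralizer in a four point stabilizer as a `CS`. -/
theorem cent_eq_CS (p : Fin 4 ↪ α) (T : Set Γ) (F : Finset α)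
    (hF : ∀ a, a ∈ F ↔ ∃ i, p i = a) : cent (stabilizer Γ p) T = CS T F := by
  ext g
  rw [mem_cent, mem_CS, mem_stab4]
  constructor
  · rintro ⟨h1, h2⟩
    refine ⟨h2, fun a ha => ?_⟩
    obtain ⟨i, rfl⟩ := (hF a).mp ha
    exact h1 i
  · rintro ⟨h1, h2⟩
    exact ⟨fun i => h2 _ ((hF _).mpr ⟨i, rfl⟩), h1⟩

theorem cent_mk4 (a b c d : α) (h) (T : Set Γ) :
    cent (stabilizer Γ (mk4 a b c d h)) T = CS T {a, b, c, d} := by
  apply cent_eq_CS
  intro e
  simp only [Finset.mem_insert, Finset.mem_singleton, Fin.exists_fin_succ, mk4_zero]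
  constructor
  · rintro (rfl | rfl | rfl | rfl)
    · exact Or.inl rfl
    · exact Or.inr (Or.inl rfl)
    · exact Or.inr (Or.inr (Or.inl rfl))
    · exact Or.inr (Or.inr (Or.inr (Or.inl rfl)))
  · rintro (h | h | h | h | h)
    · exact Or.inl h.symm
    · exact Or.inr (Or.inl h.symm)
    · exact Or.inr (Or.inr (Or.inl h.symm))
    · exact Or.inr (Or.inr (Or.inr h.symm))
    · exact absurd h (by simp)

theorem card_CS_le (g : Γ) (T T' : Set Γ) (F F' : Finset α)
    (hT' : ∀ s ∈ T', g⁻¹ * s * g ∈ T) (hF' : ∀ a ∈ F', g⁻¹ • a ∈ F) :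
    Nat.card (CS T F) ≤ Nat.card (CS T' F') := by
  have hmem : ∀ u ∈ CS T F, g * u * g⁻¹ ∈ CS T' F' := by
    intro u hu
    rw [mem_CS] at hu ⊢
    refine ⟨fun s hs => ?_, fun a ha => ?_⟩
    · have := hu.1 _ (hT' s hs)
      calc s * (g * u * g⁻¹) = g * ((g⁻¹ * s * g) * u) * g⁻¹ := by group
        _ = g * (u * (g⁻¹ * s * g)) * g⁻¹ := by rw [this]
        _ = g * u * g⁻¹ * s := by group
    · rw [mul_smul, mul_smul, hu.2 _ (hF' a ha), smul_inv_smul]
  apply Nat.card_le_card_of_injective (fun u : CS T F => (⟨g * u * g⁻¹, hmem u u.2⟩ : CS T' F'))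
  intro u v huv
  have := congrArg Subtype.val huv
  apply Subtype.ext
  simpa using this

theorem card_CS_conj (g : Γ) (T T' : Set Γ) (F F' : Finset α)
    (hT : ∀ s ∈ T, g * s * g⁻¹ ∈ T') (hT' : ∀ s ∈ T', g⁻¹ * s * g ∈ T)
    (hF : ∀ a ∈ F, g • a ∈ F') (hF' : ∀ a ∈ F', g⁻¹ • a ∈ F) :
    Nat.card (CS T F) = Nat.card (CS T' F') := by
  apply le_antisymm
  · exact card_CS_le g T T' F F' hT' hF'
  · apply card_CS_le g⁻¹ T' T F' F
    · intro s hs
      rw [inv_inv]
      exact hT s hs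
    · intro a ha
      rw [inv_inv]
      exact hF a ha

/-- conjugate configurations have centralizers of the same order. -/
theorem card_cent_conj (g : Γ) (T T' : Set Γ) (p q : Fin 4 ↪ α)
    (hT : ∀ s ∈ T, g * s * g⁻¹ ∈ T') (hT' : ∀ s ∈ T', g⁻¹ * s * g ∈ T)
    (hpq : ∀ i, g • p i = q i) :
    Nat.card (cent (stabilizer Γ p) T) = Nat.card (cent (stabilizer Γ q) T') := by
  rw [cent_eq_CS p T (Finset.univ.map p) (by simp),
    cent_eq_CS q T' (Finset.univ.map q) (by simp)]
  apply card_CS_conj g T T' _ _ hT hT'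
  · intro a ha
    rw [Finset.mem_map] at ha ⊢
    obtain ⟨i, _, rfl⟩ := ha
    exact ⟨i, Finset.mem_univ _, (hpq i).symm⟩
  · intro a ha
    rw [Finset.mem_map] at ha ⊢
    obtain ⟨i, _, rfl⟩ := ha
    refine ⟨i, Finset.mem_univ _, ?_⟩
    rw [← hpq i, inv_smul_smul]

theorem stab_comp (p : Fin 4 ↪ α) (π : Fin 4 → Fin 4) (hπ : Function.Bijective π) :
    stabilizer Γ ((⟨π, hπ.1⟩ : Fin 4 ↪ Fin 4).trans p) = stabilizer Γ p := by
  ext g
  rw [mem_stab4, mem_stab4]
  constructor
  · intro h i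
    obtain ⟨j, rfl⟩ := hπ.2 i
    exact h j
  · intro h i
    exact h (π i)

theorem fx_conj (g t : Γ) : (fx (g * t * g⁻¹) : Finset α).card = (fx t : Finset α).card := by
  symm
  apply Finset.card_bij (fun a _ => g • a)
  · intro a ha
    rw [mem_fx] at ha ⊢
    rw [mul_smul, mul_smul, inv_smul_smul, ha]
  · intro a _ b _ hab
    exact smul_left_cancel g hab
  · intro b hb
    rw [mem_fx, mul_smul, mul_smul] at hb
    refine ⟨g⁻¹ • b, ?_, smul_inv_smul g b⟩
    rw [mem_fx]
    have := congrArg (fun e => g⁻¹ • e) hb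
    simp only [inv_smul_smul] at this
    exact this

namespace HSet

variable (S : HSet Γ α)
include S

/-- the order of the centralizer of an involution in a four point stabilizer depends only on
the action of the involution on the four points, up to renumbering. -/
theorem card_cent_pattern {t t' : Γ} (ht : t * t = 1) (ht' : t' * t' = 1) (p q : Fin 4 ↪ α)
    (σ σ' π : Fin 4 → Fin 4) (hπ : Function.Bijective π) (hσ : ∀ i, σ (π i) = π (σ' i))
    (htp : ∀ i, t • p i = p (σ i)) (htq : ∀ i, t' • q i = q (σ' i)) :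
    Nat.card (cent (stabilizer Γ p) {t}) = Nat.card (cent (stabilizer Γ q) {t'}) := by
  set p' : Fin 4 ↪ α := (⟨π, hπ.1⟩ : Fin 4 ↪ Fin 4).trans p with hp'
  have hp'i : ∀ i, p' i = p (π i) := fun i => rfl
  have htp' : ∀ i, t • p' i = p' (σ' i) := by
    intro i
    rw [hp'i, hp'i, htp, hσ]
  obtain ⟨g, hg, hgp⟩ := S.conj1 ht ht' p' q σ' htp' htq
  rw [← stab_comp p π hπ]
  apply card_cent_conj g {t} {t'} p' q _ _ hgp
  · intro s hs
    rw [Set.mem_singleton_iff] at hs ⊢
    rw [hs, hg]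
  · intro s hs
    rw [Set.mem_singleton_iff] at hs ⊢
    rw [hs, ← hg]
    group

/-- every involution has two `2`-cycles. -/
theorem exists_pattern {t : Γ} (ht : t * t = 1) (ht1 : t ≠ 1) (hn : 6 ≤ Fintype.card α) :
    ∃ p : Fin 4 ↪ α, ∀ i, t • p i = p ((![1, 0, 3, 2] : Fin 4 → Fin 4) i) := by
  have htt : ∀ e : α, t • t • e = e := by
    intro e
    rw [← mul_smul, ht, one_smul]
  obtain ⟨a, ha⟩ : ∃ a : α, t • a ≠ a := by
    by_contra hh
    push Not at hh
    exact ht1 (S.faithful t hh)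
  have h3 := S.card_fx_le ht ht1
  have hcard : ((fx t : Finset α) ∪ {a, t • a}).card < Fintype.card α := by
    have h1 := Finset.card_union_le (fx t : Finset α) {a, t • a}
    have h2 : ({a, t • a} : Finset α).card ≤ 2 := Finset.card_le_two
    omega
  obtain ⟨c, hc⟩ : ∃ c, c ∉ (fx t : Finset α) ∪ {a, t • a} := by
    by_contra hh
    push Not at hh
    have : (fx t : Finset α) ∪ {a, t • a} = Finset.univ := Finset.eq_univ_iff_forall.mpr hh
    rw [this, Finset.card_univ] at hcard
    exact lt_irrefl _ hcard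
  rw [Finset.mem_union, mem_fx, Finset.mem_insert, Finset.mem_singleton] at hc
  push Not at hc
  obtain ⟨hc1, hc2, hc3⟩ := hc
  refine ⟨mk4 a (t • a) c (t • c) ⟨ha.symm, hc2.symm, ?_, hc3.symm, ?_, hc1.symm⟩, ?_⟩
  · intro h
    apply hc3
    rw [h, htt]
  · intro h
    exact hc2 (smul_left_cancel t h).symm
  · intro i
    fin_cases i
    · rfl
    · exact htt a
    · rfl
    · exact htt c

/-- all involutions have the same number of fixed points. -/
theorem card_fx_eq {t t' : Γ} (ht : t * t = 1) (ht1 : t ≠ 1) (ht' : t' * t' = 1) (ht1' : t' ≠ 1)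
    (hn : 6 ≤ Fintype.card α) : (fx t : Finset α).card = (fx t' : Finset α).card := by
  obtain ⟨p, hp⟩ := S.exists_pattern ht ht1 hn
  obtain ⟨q, hq⟩ := S.exists_pattern ht' ht1' hn
  obtain ⟨g, hg, _⟩ := S.conj1 ht ht' p q _ hp hq
  rw [← hg, fx_conj]

end HSet

end Cfsg.Agent.Lib.Helper20.Hall
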