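import Mathlib
import Cfsg.Agent.Lib.Helper20.HallC

set_option autoImplicit false

/-!
# M. Hall's theorem on quadruply transitive groups, part D

The four-group `{1, x, z, x * z}` attached to four points and its fixed points.
-/

namespace Cfsg.Agent.Lib.Helper20.Hall

open MulAction

variable {Γ : Type*} [Group Γ] [Finite Γ] {α : Type*} [Fintype α] [DecidableEq α]
  [MulAction Γ α]

/-- four points `a b c d` and commuting involutions `x = (a)(b)(c d)…`, `z = (a b)(c d)…`. -/
structure VData (Γ : Type*) [Group Γ] (α : Type*) [MulAction Γ α] where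
  a : α
  b : α
  c : α
  d : α
  hd : a ≠ b ∧ a ≠ c ∧ a ≠ d ∧ b ≠ c ∧ b ≠ d ∧ c ≠ d
  x : Γ
  z : Γ
  hx : x * x = 1
  hz : z * z = 1
  hxz : x * z = z * x
  xa : x • a = a
  xb : x • b = b
  xc : x • c = d
  xd : x • d = c
  za : z • a = b
  zb : z • b = a
  zc : z • c = d
  zd : z • d = c

theorem HSet.exists_VData (S : HSet Γ α) (p : Fin 4 ↪ α) : Nonempty (VData Γ α) := by
  obtain ⟨x, hx, hxp⟩ := S.exists_invol p ![0, 1, 3, 2] (by decide)
  obtain ⟨y₀, hy₀, hyp⟩ := S.exists_invol p ![1, 0, 2, 3] (by decide)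
  have hwp : ∀ i, (x * y₀) • p i = p ((![1, 0, 3, 2] : Fin 4 → Fin 4) i) := by
    intro i
    rw [mul_smul, hyp, hxp]
    congr 1
    revert i
    decide
  have hw : (x * y₀) * (x * y₀) ∈ stabilizer Γ p := by
    rw [mem_stab4]
    intro i
    rw [mul_smul, hwp, hwp]
    congr 1
    revert i
    decide
  obtain ⟨k, hk, hzz, hxz⟩ := dihedral_center hx hy₀ (S.odd p) hw
  have hzp : ∀ i, (x * y₀) ^ k • p i = p ((![1, 0, 3, 2] : Fin 4 → Fin 4) i) := by
    intro i
    apply smul_pow_odd (hwp i) _ hk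
    rw [hwp]
    congr 1
    revert i
    decide
  have hinj := p.injective
  refine ⟨⟨p 0, p 1, p 2, p 3, ⟨?_, ?_, ?_, ?_, ?_, ?_⟩, x, (x * y₀) ^ k, hx, hzz, hxz,
    hxp 0, hxp 1, hxp 2, hxp 3, hzp 0, hzp 1, hzp 2, hzp 3⟩⟩ <;>
  · intro h
    exact absurd (hinj h) (by decide)

namespace VData

variable (V : VData Γ α)

/-- the four points as an embedding. -/
def p₀ : Fin 4 ↪ α := mk4 V.a V.b V.c V.d V.hd

theorem xx (e : α) : V.x • V.x • e = e := by rw [← mul_smul, V.hx, one_smul]

theorem zz (e : α) : V.z • V.z • e = e := by rw [← mul_smul, V.hz, one_smul]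

theorem zx (e : α) : V.z • V.x • e = V.x • V.z • e := by
  rw [← mul_smul, ← mul_smul, V.hxz]

theorem hy : (V.x * V.z) * (V.x * V.z) = 1 := by
  have h1 : (V.x * V.z) * (V.x * V.z) = V.x * (V.z * V.x) * V.z := by group
  rw [h1, ← V.hxz]
  have h2 : V.x * (V.x * V.z) * V.z = (V.x * V.x) * (V.z * V.z) := by group
  rw [h2, V.hx, V.hz, one_mul]

theorem x_ne_one : V.x ≠ 1 := by
  intro h
  have := V.xc
  rw [h, one_smul] at this
  exact V.hd.2.2.2.2.2 this

theorem z_ne_one : V.z ≠ 1 := by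
  intro h
  have := V.zc
  rw [h, one_smul] at this
  exact V.hd.2.2.2.2.2 this

theorem y_ne_one : V.x * V.z ≠ 1 := by
  intro h
  have : (V.x * V.z) • V.a = V.b := by rw [mul_smul, V.za, V.xb]
  rw [h, one_smul] at this
  exact V.hd.1 this

theorem x_p₀ (i : Fin 4) : V.x • V.p₀ i = V.p₀ ((![0, 1, 3, 2] : Fin 4 → Fin 4) i) := by
  fin_cases i
  · exact V.xa
  · exact V.xb
  · exact V.xc
  · exact V.xd

theorem z_p₀ (i : Fin 4) : V.z • V.p₀ i = V.p₀ ((![1, 0, 3, 2] : Fin 4 → Fin 4) i) := by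
  fin_cases i
  · exact V.za
  · exact V.zb
  · exact V.zc
  · exact V.zd

theorem y_p₀ (i : Fin 4) :
    (V.x * V.z) • V.p₀ i = V.p₀ ((![1, 0, 2, 3] : Fin 4 → Fin 4) i) := by
  rw [mul_smul]
  fin_cases i
  · show V.x • V.z • V.a = V.b
    rw [V.za, V.xb]
  · show V.x • V.z • V.b = V.a
    rw [V.zb, V.xa]
  · show V.x • V.z • V.c = V.c
    rw [V.zc, V.xd]
  · show V.x • V.z • V.d = V.d
    rw [V.zd, V.xc]

/-- commutation with `x`, on points. -/
theorem comm_smul {g s : Γ} (h : s * g = g * s) (e : α) : s • g • e = g • s • e := by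
  rw [← mul_smul, ← mul_smul, h]

/-- the regular points of the four-group. -/
def R : Finset α := Finset.univ \ (fx V.x ∪ fx (V.x * V.z) ∪ fx V.z)

theorem mem_R {e : α} : e ∈ V.R ↔ V.x • e ≠ e ∧ V.x • V.z • e ≠ e ∧ V.z • e ≠ e := by
  unfold R
  rw [Finset.mem_sdiff, Finset.mem_union, Finset.mem_union, mem_fx, mem_fx, mem_fx, mul_smul]
  constructor
  · rintro ⟨_, h⟩
    push Not at h
    exact ⟨h.1.1, h.1.2, h.2⟩
  · rintro ⟨h1, h2, h3⟩
    refine ⟨Finset.mem_univ _, ?_⟩
    push Not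
    exact ⟨⟨h1, h2⟩, h3⟩

section Fix

variable (S : HSet Γ α)
include S

theorem fx_x_third {e : α} (he : V.x • e = e) (ha : e ≠ V.a) (hb : e ≠ V.b) : V.z • e = e := by
  by_contra hne
  have h1 : V.x • V.z • e = V.z • e := by rw [← V.zx, he]
  have h2 : V.z • e ≠ V.a := by
    intro h
    apply hb
    rw [← V.zz e, h, V.za]
  have h3 : V.z • e ≠ V.b := by
    intro h
    apply ha
    rw [← V.zz e, h, V.zb]
  have h4 := S.card_fx_le V.hx V.x_ne_one
  let q := mk4 V.a V.b e (V.z • e)
    ⟨V.hd.1, ha.symm, h2.symm, hb.symm, h3.symm, fun h => hne h.symm⟩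
  have hsub : Finset.univ.map q ⊆ fx V.x := by
    intro u hu
    rw [Finset.mem_map] at hu
    obtain ⟨i, _, rfl⟩ := hu
    rw [mem_fx]
    fin_cases i
    · exact V.xa
    · exact V.xb
    · exact he
    · exact h1
  have := Finset.card_le_card hsub
  rw [Finset.card_map, Finset.card_univ, Fintype.card_fin] at this
  omega

theorem fx_y_third {e : α} (he : V.x • V.z • e = e) (hc : e ≠ V.c) (hd : e ≠ V.d) :
    V.x • e = e := by
  by_contra hne
  have hze : V.z • e = V.x • e := by
    rw [← he, V.xx, he]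
  have h1 : (V.x * V.z) • V.x • e = V.x • e := by
    rw [mul_smul, V.zx, V.xx, hze]
  have h2 : V.x • e ≠ V.c := by
    intro h
    apply hd
    rw [← V.xx e, h, V.xc]
  have h3 : V.x • e ≠ V.d := by
    intro h
    apply hc
    rw [← V.xx e, h, V.xd]
  have h4 := S.card_fx_le V.hy V.y_ne_one
  let q := mk4 V.c V.d e (V.x • e)
    ⟨V.hd.2.2.2.2.2, hc.symm, h2.symm, hd.symm, h3.symm, fun h => hne h.symm⟩
  have hsub : Finset.univ.map q ⊆ fx (V.x * V.z) := by
    intro u hu
    rw [Finset.mem_map] at hu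
    obtain ⟨i, _, rfl⟩ := hu
    rw [mem_fx]
    fin_cases i
    · show (V.x * V.z) • V.c = V.c
      rw [mul_smul, V.zc, V.xd]
    · show (V.x * V.z) • V.d = V.d
      rw [mul_smul, V.zd, V.xc]
    · show (V.x * V.z) • e = e
      rw [mul_smul, he]
    · exact h1
  have := Finset.card_le_card hsub
  rw [Finset.card_map, Finset.card_univ, Fintype.card_fin] at this
  omega

theorem two_le_r : 2 ≤ (fx V.x : Finset α).card := by
  have hsub : ({V.a, V.b} : Finset α) ⊆ fx V.x := by
    intro u hu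
    rw [Finset.mem_insert, Finset.mem_singleton] at hu
    rw [mem_fx]
    rcases hu with rfl | rfl
    · exact V.xa
    · exact V.xb
  have := Finset.card_le_card hsub
  rwa [Finset.card_pair V.hd.1] at this

theorem r_le_three : (fx V.x : Finset α).card ≤ 3 := S.card_fx_le V.hx V.x_ne_one

/-- the number of regular points. -/
theorem card_R (hn : 6 ≤ Fintype.card α) :
    V.R.card + (fx V.x : Finset α).card + 4 = Fintype.card α := by
  have hrz : (fx V.z : Finset α).card = (fx V.x : Finset α).card :=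
    S.card_fx_eq V.hz V.z_ne_one V.hx V.x_ne_one hn
  have h2 := V.two_le_r S
  have hab : ({V.a, V.b} : Finset α) ⊆ fx V.x := by
    intro u hu
    rw [Finset.mem_insert, Finset.mem_singleton] at hu
    rw [mem_fx]
    rcases hu with rfl | rfl
    · exact V.xa
    · exact V.xb
  have hinter : (fx V.z ∩ fx V.x : Finset α) = fx V.x \ {V.a, V.b} := by
    ext e
    rw [Finset.mem_inter, Finset.mem_sdiff, mem_fx, mem_fx, Finset.mem_insert,
      Finset.mem_singleton]
    constructor
    · rintro ⟨hz, hx⟩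
      refine ⟨hx, ?_⟩
      rintro (rfl | rfl)
      · rw [V.za] at hz
        exact V.hd.1 hz.symm
      · rw [V.zb] at hz
        exact V.hd.1 hz
    · rintro ⟨hx, hne⟩
      push Not at hne
      exact ⟨V.fx_x_third S hx hne.1 hne.2, hx⟩
  have hC : (fx V.z \ fx V.x : Finset α).card = 2 := by
    have h1 := Finset.card_sdiff_add_card_inter (fx V.z : Finset α) (fx V.x)
    rw [hinter, Finset.card_sdiff_of_subset hab, Finset.card_pair V.hd.1, hrz] at h1
    omega
  have hU : (fx V.x ∪ fx (V.x * V.z) ∪ fx V.z : Finset α)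
      = fx V.x ∪ ({V.c, V.d} ∪ (fx V.z \ fx V.x)) := by
    ext e
    simp only [Finset.mem_union, mem_fx, Finset.mem_insert, Finset.mem_singleton,
      Finset.mem_sdiff, mul_smul]
    constructor
    · rintro ((h | h) | h)
      · exact Or.inl h
      · by_cases hc : e = V.c
        · exact Or.inr (Or.inl (Or.inl hc))
        by_cases hd : e = V.d
        · exact Or.inr (Or.inl (Or.inr hd))
        exact Or.inl (V.fx_y_third S h hc hd)
      · by_cases hx : V.x • e = e
        · exact Or.inl hx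
        · exact Or.inr (Or.inr ⟨h, hx⟩)
    · rintro (h | (rfl | rfl) | h)
      · exact Or.inl (Or.inl h)
      · refine Or.inl (Or.inr ?_)
        rw [V.zc, V.xd]
      · refine Or.inl (Or.inr ?_)
        rw [V.zd, V.xc]
      · exact Or.inr h.1
  have hd1 : Disjoint ({V.c, V.d} : Finset α) (fx V.z \ fx V.x) := by
    rw [Finset.disjoint_left]
    intro e he he2
    rw [Finset.mem_insert, Finset.mem_singleton] at he
    rw [Finset.mem_sdiff, mem_fx] at he2
    rcases he with rfl | rfl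
    · rw [V.zc] at he2
      exact V.hd.2.2.2.2.2 he2.1.symm
    · rw [V.zd] at he2
      exact V.hd.2.2.2.2.2 he2.1
  have hd2 : Disjoint (fx V.x : Finset α) ({V.c, V.d} ∪ (fx V.z \ fx V.x)) := by
    rw [Finset.disjoint_left]
    intro e he he2
    rw [mem_fx] at he
    rw [Finset.mem_union, Finset.mem_insert, Finset.mem_singleton, Finset.mem_sdiff, mem_fx]
      at he2
    rcases he2 with (rfl | rfl) | h
    · rw [V.xc] at he
      exact V.hd.2.2.2.2.2 he.symm
    · rw [V.xd] at he
      exact V.hd.2.2.2.2.2 he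
    · exact h.2 (mem_fx.mpr he)
  have hUc : (fx V.x ∪ fx (V.x * V.z) ∪ fx V.z : Finset α).card
      = (fx V.x : Finset α).card + 4 := by
    rw [hU, Finset.card_union_of_disjoint hd2, Finset.card_union_of_disjoint hd1,
      Finset.card_pair V.hd.2.2.2.2.2, hC]
  unfold R
  rw [Finset.card_univ_sdiff, hUc]
  have := Finset.card_le_univ (fx V.x ∪ fx (V.x * V.z) ∪ fx V.z : Finset α)
  rw [hUc] at this
  omega

end Fix

end VData

end Cfsg.Agent.Lib.Helper20.Hall
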