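import Mathlib
import Cfsg.Agent.Lib.Helper20.HallD

set_option autoImplicit false

/-!
# M. Hall's theorem on quadruply transitive groups, part E

The counting relations for the centralizers of `x` and of the four-group.
-/

namespace Cfsg.Agent.Lib.Helper20.Hall

open MulAction

variable {Γ : Type*} [Group Γ] [Finite Γ] {α : Type*} [Fintype α] [DecidableEq α]
  [MulAction Γ α]

theorem CS_eq_of (T : Set Γ) (F F' : Finset α) (h2 : F ⊆ F')
    (h1 : ∀ g ∈ CS T F, ∀ a ∈ F', g • a = a) : CS T F = CS T F' := by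
  ext g
  constructor
  · intro hg
    exact ⟨hg.1, h1 g hg⟩
  · intro hg
    exact ⟨hg.1, fun a ha => hg.2 a (h2 ha)⟩

theorem comm_of_conj {g x : Γ} (h : g * x * g⁻¹ = x) : x * g = g * x := by
  calc x * g = (g * x * g⁻¹) * g := by rw [h]
    _ = g * x := by group

namespace VData

variable (V : VData Γ α)

/-- the order of the centralizer of `z` in the stabilizer of the four points. -/
noncomputable def zeta : ℕ := Nat.card (cent (stabilizer Γ V.p₀) {V.z})

/-- the order of the centralizer of `x` in the stabilizer of the four points. -/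
noncomputable def alph : ℕ := Nat.card (cent (stabilizer Γ V.p₀) {V.x})

/-- the order of the centralizer of the four-group in the stabilizer of the four points. -/
noncomputable def eps : ℕ := Nat.card (cent (stabilizer Γ V.p₀) {V.x, V.z})

/-- the four points of a regular orbit. -/
def qR {β : α} (hβ : β ∈ V.R) : Fin 4 ↪ α :=
  mk4 β (V.x • β) (V.z • β) (V.x • V.z • β) (by
    obtain ⟨h1, h2, h3⟩ := V.mem_R.mp hβ
    refine ⟨h1.symm, h3.symm, h2.symm, ?_, ?_, ?_⟩
    · intro h
      apply h2
      rw [← h, V.xx]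
    · intro h
      exact h3 (smul_left_cancel V.x h).symm
    · intro h
      apply h1
      have := congrArg (fun e => V.z • e) h
      simp only [V.zz, V.zx] at this
      exact this.symm)

theorem x_qR {β : α} (hβ : β ∈ V.R) (i : Fin 4) :
    V.x • V.qR hβ i = V.qR hβ ((![1, 0, 3, 2] : Fin 4 → Fin 4) i) := by
  fin_cases i
  · rfl
  · exact V.xx β
  · rfl
  · exact V.xx _

theorem z_qR {β : α} (hβ : β ∈ V.R) (i : Fin 4) :
    V.z • V.qR hβ i = V.qR hβ ((![2, 3, 0, 1] : Fin 4 → Fin 4) i) := by
  fin_cases i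
  · rfl
  · exact V.zx β
  · exact V.zz β
  · show V.z • V.x • V.z • β = V.x • β
    rw [V.zx, V.zz]

theorem y_qR {β : α} (hβ : β ∈ V.R) (i : Fin 4) :
    (V.x * V.z) • V.qR hβ i = V.qR hβ ((![3, 2, 1, 0] : Fin 4 → Fin 4) i) := by
  rw [mul_smul]
  fin_cases i
  · rfl
  · show V.x • V.z • V.x • β = V.z • β
    rw [V.zx, V.xx]
  · show V.x • V.z • V.z • β = V.x • β
    rw [V.zz]
  · show V.x • V.z • V.x • V.z • β = β
    rw [V.zx, V.xx, V.zz]

variable (S : HSet Γ α)
include S

/-- the first count of the centralizer of `x` in the stabilizer of `c` and `d`. -/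
theorem count1 (hn : 8 ≤ Fintype.card α) :
    (Fintype.card α - (fx V.x : Finset α).card - 2) * V.zeta
      = Nat.card (CS {V.x} ({V.c, V.d} : Finset α)) := by
  have hr3 := V.r_le_three S
  set O : Finset α := Finset.univ \ (fx V.x ∪ {V.c, V.d}) with hOdef
  have hmemO : ∀ e, e ∈ O ↔ V.x • e ≠ e ∧ e ≠ V.c ∧ e ≠ V.d := by
    intro e
    rw [hOdef, Finset.mem_sdiff, Finset.mem_union, mem_fx, Finset.mem_insert,
      Finset.mem_singleton]
    constructor
    · rintro ⟨_, h⟩
      push Not at h
      exact h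
    · intro h
      refine ⟨Finset.mem_univ _, ?_⟩
      push Not
      exact h
  have hdisj : Disjoint (fx V.x : Finset α) {V.c, V.d} := by
    rw [Finset.disjoint_left]
    intro e he he2
    rw [mem_fx] at he
    rw [Finset.mem_insert, Finset.mem_singleton] at he2
    rcases he2 with rfl | rfl
    · rw [V.xc] at he
      exact V.hd.2.2.2.2.2 he.symm
    · rw [V.xd] at he
      exact V.hd.2.2.2.2.2 he
  have hUc : (fx V.x ∪ {V.c, V.d} : Finset α).card = (fx V.x : Finset α).card + 2 := by
    rw [Finset.card_union_of_disjoint hdisj, Finset.card_pair V.hd.2.2.2.2.2]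
  have hOcard : O.card = Fintype.card α - (fx V.x : Finset α).card - 2 := by
    rw [hOdef, Finset.card_univ_sdiff, hUc]
    omega
  have hOpos : 0 < O.card := by
    rw [hOcard]
    omega
  obtain ⟨k, hk⟩ := Finset.card_pos.mp hOpos
  -- the tuples
  have hq : ∀ e, e ∈ O → ∃ q : Fin 4 ↪ α, q 0 = V.c ∧ q 1 = V.d ∧ q 2 = e ∧ q 3 = V.x • e ∧
      ∀ i, V.x • q i = q ((![1, 0, 3, 2] : Fin 4 → Fin 4) i) := by
    intro e he
    obtain ⟨h1, h2, h3⟩ := (hmemO e).mp he
    refine ⟨mk4 V.c V.d e (V.x • e) ⟨V.hd.2.2.2.2.2, h2.symm, ?_, h3.symm, ?_, h1.symm⟩,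
      rfl, rfl, rfl, rfl, ?_⟩
    · intro h
      apply h3
      rw [← V.xx e, ← h, V.xc]
    · intro h
      apply h2
      rw [← V.xx e, ← h, V.xd]
    · intro i
      fin_cases i
      · exact V.xc
      · exact V.xd
      · rfl
      · exact V.xx e
  have hO : ∀ e, e ∈ O ↔ ∃ g ∈ CS {V.x} ({V.c, V.d} : Finset α), g • k = e := by
    intro e
    constructor
    · intro he
      obtain ⟨q, q0, q1, q2, q3, hqx⟩ := hq k hk
      obtain ⟨q', q0', q1', q2', q3', hqx'⟩ := hq e he
      obtain ⟨g, hg, hgq⟩ := S.conj1 V.hx V.hx q q' _ hqx hqx'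
      refine ⟨g, ⟨?_, ?_⟩, ?_⟩
      · intro s hs
        rw [Set.mem_singleton_iff] at hs
        rw [hs]
        exact comm_of_conj hg
      · intro u hu
        rw [Finset.mem_insert, Finset.mem_singleton] at hu
        rcases hu with rfl | rfl
        · have := hgq 0
          rwa [q0, q0'] at this
        · have := hgq 1
          rwa [q1, q1'] at this
      · have := hgq 2
        rwa [q2, q2'] at this
    · rintro ⟨g, ⟨hg1, hg2⟩, rfl⟩
      obtain ⟨h1, h2, h3⟩ := (hmemO k).mp hk
      have hc : V.x * g = g * V.x := hg1 _ rfl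
      have hgc : g • V.c = V.c := hg2 _ (by simp)
      have hgd : g • V.d = V.d := hg2 _ (by simp)
      rw [hmemO]
      refine ⟨?_, ?_, ?_⟩
      · rw [comm_smul hc]
        intro h
        exact h1 (smul_left_cancel g h)
      · intro h
        rw [← hgc] at h
        exact h2 (smul_left_cancel g h)
      · intro h
        rw [← hgd] at h
        exact h3 (smul_left_cancel g h)
  have hmain := card_orbit_mul {V.x} ({V.c, V.d} : Finset α) k O hO
  rw [← hmain, hOcard]
  congr 1
  obtain ⟨h1, h2, h3⟩ := (hmemO k).mp hk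
  have hdist : V.c ≠ V.d ∧ V.c ≠ k ∧ V.c ≠ V.x • k ∧ V.d ≠ k ∧ V.d ≠ V.x • k ∧ k ≠ V.x • k := by
    refine ⟨V.hd.2.2.2.2.2, h2.symm, ?_, h3.symm, ?_, h1.symm⟩
    · intro h
      apply h3
      rw [← V.xx k, ← h, V.xc]
    · intro h
      apply h2
      rw [← V.xx k, ← h, V.xd]
  have hCS : CS {V.x} (insert k ({V.c, V.d} : Finset α))
      = CS {V.x} ({V.c, V.d, k, V.x • k} : Finset α) := by
    apply CS_eq_of
    · intro u hu
      simp only [Finset.mem_insert, Finset.mem_singleton] at hu ⊢
      tauto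
    · rintro g ⟨hg1, hg2⟩ u hu
      have hc : V.x * g = g * V.x := hg1 _ rfl
      simp only [Finset.mem_insert, Finset.mem_singleton] at hu
      rcases hu with rfl | rfl | rfl | rfl
      · exact hg2 _ (by simp)
      · exact hg2 _ (by simp)
      · exact hg2 _ (by simp)
      · rw [← comm_smul hc, hg2 _ (by simp)]
  rw [hCS, ← cent_mk4 V.c V.d k (V.x • k) hdist {V.x}]
  unfold zeta
  symm
  apply S.card_cent_pattern V.hx V.hz _ V.p₀ ![1, 0, 3, 2] ![1, 0, 3, 2] id
    Function.bijective_id (fun i => rfl) _ V.z_p₀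
  intro i
  fin_cases i
  · exact V.xc
  · exact V.xd
  · rfl
  · exact V.xx k

/-- the second count of the centralizer of `x` in the stabilizer of `c` and `d`. -/
theorem count2 :
    (fx V.x : Finset α).card * (((fx V.x : Finset α).card - 1) * V.alph)
      = Nat.card (CS {V.x} ({V.c, V.d} : Finset α)) := by
  have hr2 := V.two_le_r S
  -- tuples
  have hq : ∀ e e', V.x • e = e → V.x • e' = e' → e ≠ e' →
      ∃ q : Fin 4 ↪ α, q 0 = e ∧ q 1 = e' ∧ q 2 = V.c ∧ q 3 = V.d ∧
      ∀ i, V.x • q i = q ((![0, 1, 3, 2] : Fin 4 → Fin 4) i) := by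
    intro e e' he he' hee'
    refine ⟨mk4 e e' V.c V.d ⟨hee', ?_, ?_, ?_, ?_, V.hd.2.2.2.2.2⟩, rfl, rfl, rfl, rfl, ?_⟩
    · rintro rfl
      rw [V.xc] at he
      exact V.hd.2.2.2.2.2 he.symm
    · rintro rfl
      rw [V.xd] at he
      exact V.hd.2.2.2.2.2 he
    · rintro rfl
      rw [V.xc] at he'
      exact V.hd.2.2.2.2.2 he'.symm
    · rintro rfl
      rw [V.xd] at he'
      exact V.hd.2.2.2.2.2 he'
    · intro i
      fin_cases i
      · exact he
      · exact he'
      · exact V.xc
      · exact V.xd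
  have hconj : ∀ e e', V.x • e = e → V.x • e' = e' → e ≠ e' →
      ∃ g : Γ, V.x * g = g * V.x ∧ g • V.a = e ∧ g • V.b = e' ∧ g • V.c = V.c ∧
        g • V.d = V.d := by
    intro e e' he he' hee'
    obtain ⟨q, q0, q1, q2, q3, hqx⟩ := hq e e' he he' hee'
    obtain ⟨g, hg, hgq⟩ := S.conj1 V.hx V.hx V.p₀ q _ V.x_p₀ hqx
    refine ⟨g, comm_of_conj hg, ?_, ?_, ?_, ?_⟩
    · have := hgq 0
      rwa [q0] at this
    · have := hgq 1
      rwa [q1] at this
    · have := hgq 2
      rwa [q2] at this
    · have := hgq 3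
      rwa [q3] at this
  -- first stage
  have hO1 : ∀ e, e ∈ (fx V.x : Finset α) ↔
      ∃ g ∈ CS {V.x} ({V.c, V.d} : Finset α), g • V.a = e := by
    intro e
    rw [mem_fx]
    constructor
    · intro he
      obtain ⟨e', he', hne⟩ := Finset.exists_mem_ne (by omega : 1 < (fx V.x : Finset α).card) e
      rw [mem_fx] at he'
      obtain ⟨g, hc, h1, _, h3, h4⟩ := hconj e e' he he' hne.symm
      refine ⟨g, ⟨?_, ?_⟩, h1⟩
      · intro s hs
        rw [Set.mem_singleton_iff] at hs
        rw [hs]
        exact hc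
      · intro u hu
        rw [Finset.mem_insert, Finset.mem_singleton] at hu
        rcases hu with rfl | rfl
        · exact h3
        · exact h4
    · rintro ⟨g, ⟨hg1, _⟩, rfl⟩
      have hc : V.x * g = g * V.x := hg1 _ rfl
      rw [comm_smul hc, V.xa]
  have h1 := card_orbit_mul {V.x} ({V.c, V.d} : Finset α) V.a (fx V.x) hO1
  -- second stage
  have hO2 : ∀ e, e ∈ (fx V.x : Finset α).erase V.a ↔
      ∃ g ∈ CS {V.x} (insert V.a ({V.c, V.d} : Finset α)), g • V.b = e := by
    intro e
    rw [Finset.mem_erase, mem_fx]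
    constructor
    · rintro ⟨hne, he⟩
      obtain ⟨g, hc, h1, h2, h3, h4⟩ := hconj V.a e V.xa he hne.symm
      refine ⟨g, ⟨?_, ?_⟩, h2⟩
      · intro s hs
        rw [Set.mem_singleton_iff] at hs
        rw [hs]
        exact hc
      · intro u hu
        rw [Finset.mem_insert, Finset.mem_insert, Finset.mem_singleton] at hu
        rcases hu with rfl | rfl | rfl
        · exact h1
        · exact h3
        · exact h4
    · rintro ⟨g, ⟨hg1, hg2⟩, rfl⟩
      have hc : V.x * g = g * V.x := hg1 _ rfl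
      have hga : g • V.a = V.a := hg2 _ (by simp)
      refine ⟨?_, ?_⟩
      · intro h
        rw [← hga] at h
        exact V.hd.1 (smul_left_cancel g h).symm
      · rw [comm_smul hc, V.xb]
  have h2 := card_orbit_mul {V.x} (insert V.a ({V.c, V.d} : Finset α)) V.b _ hO2
  have hcard2 : ((fx V.x : Finset α).erase V.a).card = (fx V.x : Finset α).card - 1 :=
    Finset.card_erase_of_mem (mem_fx.mpr V.xa)
  have hCS : CS {V.x} (insert V.b (insert V.a ({V.c, V.d} : Finset α)))
      = cent (stabilizer Γ V.p₀) {V.x} := by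
    unfold p₀
    rw [cent_mk4, Finset.insert_comm]
  rw [← h1, ← h2, hcard2, hCS]
  rfl

/-- the first count of the centralizer of the four-group. -/
theorem count3 : 4 * V.eps = Nat.card (CS {V.x, V.z} (∅ : Finset α)) := by
  have hzmem : V.z ∈ CS {V.x, V.z} (∅ : Finset α) := by
    refine ⟨?_, fun u hu => absurd hu (Finset.notMem_empty u)⟩
    rintro s (rfl | rfl)
    · exact V.hxz
    · rfl
  have hxmem : V.x ∈ CS {V.x, V.z} (insert V.a (∅ : Finset α)) := by
    refine ⟨?_, ?_⟩
    · rintro s (rfl | rfl)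
      · rfl
      · exact V.hxz.symm
    · intro u hu
      rw [Finset.mem_insert] at hu
      rcases hu with rfl | hu
      · exact V.xa
      · exact absurd hu (Finset.notMem_empty u)
  have hO1 : ∀ e, e ∈ ({V.a, V.b} : Finset α) ↔
      ∃ g ∈ CS {V.x, V.z} (∅ : Finset α), g • V.a = e := by
    intro e
    rw [Finset.mem_insert, Finset.mem_singleton]
    constructor
    · rintro (rfl | rfl)
      · exact ⟨1, Subgroup.one_mem _, one_smul _ _⟩
      · exact ⟨V.z, hzmem, V.za⟩
    · rintro ⟨g, ⟨hg1, _⟩, rfl⟩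
      have hcx : V.x * g = g * V.x := hg1 _ (by simp)
      have hcz : V.z * g = g * V.z := hg1 _ (by simp)
      by_contra hh
      push Not at hh
      have hx : V.x • g • V.a = g • V.a := by rw [comm_smul hcx, V.xa]
      have := V.fx_x_third S hx hh.1 hh.2
      rw [comm_smul hcz, V.za] at this
      exact V.hd.1 (smul_left_cancel g this).symm
  have h1 := card_orbit_mul {V.x, V.z} (∅ : Finset α) V.a _ hO1
  have hO2 : ∀ e, e ∈ ({V.c, V.d} : Finset α) ↔
      ∃ g ∈ CS {V.x, V.z} (insert V.a (∅ : Finset α)), g • V.c = e := by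
    intro e
    rw [Finset.mem_insert, Finset.mem_singleton]
    constructor
    · rintro (rfl | rfl)
      · exact ⟨1, Subgroup.one_mem _, one_smul _ _⟩
      · exact ⟨V.x, hxmem, V.xc⟩
    · rintro ⟨g, ⟨hg1, _⟩, rfl⟩
      have hcx : V.x * g = g * V.x := hg1 _ (by simp)
      have hcz : V.z * g = g * V.z := hg1 _ (by simp)
      by_contra hh
      push Not at hh
      have hy : V.x • V.z • g • V.c = g • V.c := by
        rw [comm_smul hcz, comm_smul hcx, V.zc, V.xd]
      have := V.fx_y_third S hy hh.1 hh.2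
      rw [comm_smul hcx, V.xc] at this
      exact V.hd.2.2.2.2.2 (smul_left_cancel g this).symm
  have h2 := card_orbit_mul {V.x, V.z} (insert V.a (∅ : Finset α)) V.c _ hO2
  have hCS : CS {V.x, V.z} (insert V.c (insert V.a (∅ : Finset α)))
      = cent (stabilizer Γ V.p₀) {V.x, V.z} := by
    unfold p₀
    rw [cent_mk4]
    apply CS_eq_of
    · intro u hu
      simp only [Finset.mem_insert, Finset.mem_singleton, Finset.notMem_empty, or_false] at hu ⊢
      tauto
    · rintro g ⟨hg1, hg2⟩ u hu
      have hcx : V.x * g = g * V.x := hg1 _ (by simp)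
      have hcz : V.z * g = g * V.z := hg1 _ (by simp)
      have hga : g • V.a = V.a := hg2 _ (by simp)
      have hgc : g • V.c = V.c := hg2 _ (by simp)
      simp only [Finset.mem_insert, Finset.mem_singleton] at hu
      rcases hu with rfl | rfl | rfl | rfl
      · exact hga
      · rw [← V.za, ← comm_smul hcz, hga]
      · exact hgc
      · rw [← V.xc, ← comm_smul hcx, hgc]
  rw [← h1, ← h2, hCS, Finset.card_pair V.hd.1, Finset.card_pair V.hd.2.2.2.2.2]
  unfold eps
  ring

/-- the second count of the centralizer of the four-group. -/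
theorem count4 {β : α} (hβ : β ∈ V.R) :
    V.R.card * Nat.card (cent (stabilizer Γ (V.qR hβ)) {V.x, V.z})
      = Nat.card (CS {V.x, V.z} (∅ : Finset α)) := by
  have hO : ∀ e, e ∈ V.R ↔ ∃ g ∈ CS {V.x, V.z} (∅ : Finset α), g • β = e := by
    intro e
    constructor
    · intro he
      obtain ⟨g, hgx, hgz, hgq⟩ := S.conj2 V.hx V.hz V.hxz V.hx V.hz V.hxz (V.qR hβ) (V.qR he)
        _ _ (V.x_qR hβ) (V.x_qR he) (V.z_qR hβ) (V.z_qR he)
      refine ⟨g, ⟨?_, fun u hu => absurd hu (Finset.notMem_empty u)⟩, hgq 0⟩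
      rintro s (rfl | rfl)
      · exact comm_of_conj hgx
      · exact comm_of_conj hgz
    · rintro ⟨g, ⟨hg1, _⟩, rfl⟩
      have hcx : V.x * g = g * V.x := hg1 _ (by simp)
      have hcz : V.z * g = g * V.z := hg1 _ (by simp)
      obtain ⟨h1, h2, h3⟩ := V.mem_R.mp hβ
      rw [V.mem_R]
      refine ⟨?_, ?_, ?_⟩
      · rw [comm_smul hcx]
        intro h
        exact h1 (smul_left_cancel g h)
      · rw [comm_smul hcz, comm_smul hcx]
        intro h
        exact h2 (smul_left_cancel g h)
      · rw [comm_smul hcz]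
        intro h
        exact h3 (smul_left_cancel g h)
  have h1 := card_orbit_mul {V.x, V.z} (∅ : Finset α) β _ hO
  have hCS : CS {V.x, V.z} (insert β (∅ : Finset α))
      = cent (stabilizer Γ (V.qR hβ)) {V.x, V.z} := by
    unfold qR
    rw [cent_mk4]
    apply CS_eq_of
    · intro u hu
      simp only [Finset.mem_insert, Finset.mem_singleton, Finset.notMem_empty, or_false] at hu ⊢
      tauto
    · rintro g ⟨hg1, hg2⟩ u hu
      have hcx : V.x * g = g * V.x := hg1 _ (by simp)
      have hcz : V.z * g = g * V.z := hg1 _ (by simp)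
      have hgβ : g • β = β := hg2 _ (by simp)
      simp only [Finset.mem_insert, Finset.mem_singleton] at hu
      rcases hu with rfl | rfl | rfl | rfl
      · exact hgβ
      · rw [← comm_smul hcx, hgβ]
      · rw [← comm_smul hcz, hgβ]
      · rw [← comm_smul hcx, ← comm_smul hcz, hgβ]
  rw [← h1, hCS]

end VData

end Cfsg.Agent.Lib.Helper20.Hall
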