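import Mathlib
import Cfsg.Agent.Lib.Helper20.HallE

set_option autoImplicit false

/-!
# M. Hall's theorem on quadruply transitive groups, part F

The Brauer–Wielandt relations and the degree.
-/

namespace Cfsg.Agent.Lib.Helper20.Hall

open MulAction

variable {Γ : Type*} [Group Γ] [Finite Γ] {α : Type*} [Fintype α] [DecidableEq α]
  [MulAction Γ α]

theorem hall_arith (n r N h e e₀ ζ αc : ℕ) (hh : 0 < h) (he₀ : 0 < e₀) (hζ : 0 < ζ)
    (hr2 : 2 ≤ r) (hr3 : r ≤ 3) (hN : N + r + 4 = n)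
    (R1 : (n - r - 2) * ζ = r * ((r - 1) * αc)) (T : 4 * e = N * e₀)
    (B1 : h * e ^ 2 = ζ * (αc * αc)) (B2 : h * e₀ ^ 2 = ζ * (ζ * ζ)) :
    n = 11 ∧ r = 3 ∧ N = 4 := by
  have h1 : (e * ζ) ^ 2 * h = (e₀ * αc) ^ 2 * h := by
    calc (e * ζ) ^ 2 * h = (h * e ^ 2) * ζ ^ 2 := by ring
      _ = (ζ * (αc * αc)) * ζ ^ 2 := by rw [B1]
      _ = (ζ * (ζ * ζ)) * αc ^ 2 := by ring
      _ = (h * e₀ ^ 2) * αc ^ 2 := by rw [B2]
      _ = (e₀ * αc) ^ 2 * h := by ring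
  have h2 : (e * ζ) ^ 2 = (e₀ * αc) ^ 2 := Nat.eq_of_mul_eq_mul_right hh h1
  have h3 : e * ζ = e₀ * αc := Nat.pow_left_injective (by norm_num : 2 ≠ 0) h2
  have h4 : 4 * αc = N * ζ := by
    apply Nat.eq_of_mul_eq_mul_left he₀
    calc e₀ * (4 * αc) = 4 * (e₀ * αc) := by ring
      _ = 4 * (e * ζ) := by rw [h3]
      _ = (4 * e) * ζ := by ring
      _ = (N * e₀) * ζ := by rw [T]
      _ = e₀ * (N * ζ) := by ring
  have h5 : 4 * (n - r - 2) = r * ((r - 1) * N) := by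
    apply Nat.eq_of_mul_eq_mul_right hζ
    calc 4 * (n - r - 2) * ζ = 4 * ((n - r - 2) * ζ) := by ring
      _ = 4 * (r * ((r - 1) * αc)) := by rw [R1]
      _ = r * ((r - 1) * (4 * αc)) := by ring
      _ = r * ((r - 1) * (N * ζ)) := by rw [h4]
      _ = r * ((r - 1) * N) * ζ := by ring
  have hnr : n - r - 2 = N + 2 := by omega
  rw [hnr] at h5
  interval_cases r
  · simp only [Nat.add_one_sub_one] at h5
    omega
  · simp only [Nat.add_one_sub_one] at h5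
    omega

namespace VData

variable (V : VData Γ α) (S : HSet Γ α)
include S

theorem bw1 : Nat.card (stabilizer Γ V.p₀) * V.eps ^ 2 = V.zeta * (V.alph * V.alph) := by
  have hs1 : Function.Surjective (![0, 1, 3, 2] : Fin 4 → Fin 4) := by decide
  have hs2 : Function.Surjective (![1, 0, 3, 2] : Fin 4 → Fin 4) := by decide
  have h := bw_subgroup (stabilizer Γ V.p₀) (S.odd V.p₀) V.hx V.hz V.hxz
    (S.normalizes hs1 V.x_p₀) (S.normalizes hs2 V.z_p₀)
  have hy : Nat.card (cent (stabilizer Γ V.p₀) {V.x * V.z})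
      = Nat.card (cent (stabilizer Γ V.p₀) {V.x}) :=
    S.card_cent_pattern V.hy V.hx V.p₀ V.p₀ ![1, 0, 2, 3] ![0, 1, 3, 2] ![2, 3, 0, 1]
      (by decide) (by decide) V.y_p₀ V.x_p₀
  rw [hy] at h
  exact h

theorem bw2 {β : α} (hβ : β ∈ V.R) :
    Nat.card (stabilizer Γ (V.qR hβ)) * Nat.card (cent (stabilizer Γ (V.qR hβ)) {V.x, V.z}) ^ 2
      = V.zeta * (V.zeta * V.zeta) := by
  have hs1 : Function.Surjective (![1, 0, 3, 2] : Fin 4 → Fin 4) := by decide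
  have hs2 : Function.Surjective (![2, 3, 0, 1] : Fin 4 → Fin 4) := by decide
  have h := bw_subgroup (stabilizer Γ (V.qR hβ)) (S.odd _) V.hx V.hz V.hxz
    (S.normalizes hs1 (V.x_qR hβ)) (S.normalizes hs2 (V.z_qR hβ))
  have h1 : Nat.card (cent (stabilizer Γ (V.qR hβ)) {V.z}) = V.zeta :=
    S.card_cent_pattern V.hz V.hz (V.qR hβ) V.p₀ ![2, 3, 0, 1] ![1, 0, 3, 2] ![0, 2, 1, 3]
      (by decide) (by decide) (V.z_qR hβ) V.z_p₀
  have h2 : Nat.card (cent (stabilizer Γ (V.qR hβ)) {V.x}) = V.zeta :=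
    S.card_cent_pattern V.hx V.hz (V.qR hβ) V.p₀ ![1, 0, 3, 2] ![1, 0, 3, 2] id
      Function.bijective_id (fun i => rfl) (V.x_qR hβ) V.z_p₀
  have h3 : Nat.card (cent (stabilizer Γ (V.qR hβ)) {V.x * V.z}) = V.zeta :=
    S.card_cent_pattern V.hy V.hz (V.qR hβ) V.p₀ ![3, 2, 1, 0] ![1, 0, 3, 2] ![0, 3, 1, 2]
      (by decide) (by decide) (V.y_qR hβ) V.z_p₀
  rw [h1, h2, h3] at h
  exact h

/-- the degree is `11`. -/
theorem degree (hn : 8 ≤ Fintype.card α) :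
    Fintype.card α = 11 ∧ (fx V.x : Finset α).card = 3 ∧ V.R.card = 4 := by
  have hr2 := V.two_le_r S
  have hr3 := V.r_le_three S
  have hR := V.card_R S (by omega)
  have hRpos : 0 < V.R.card := by omega
  obtain ⟨β, hβ⟩ := Finset.card_pos.mp hRpos
  have hstab : Nat.card (stabilizer Γ (V.qR hβ)) = Nat.card (stabilizer Γ V.p₀) :=
    Miller.card_stab_eq S.trans4 _ _
  have B2 := V.bw2 S hβ
  rw [hstab] at B2
  refine hall_arith (Fintype.card α) (fx V.x : Finset α).card V.R.card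
    (Nat.card (stabilizer Γ V.p₀)) V.eps
    (Nat.card (cent (stabilizer Γ (V.qR hβ)) {V.x, V.z})) V.zeta V.alph
    Nat.card_pos Nat.card_pos Nat.card_pos hr2 hr3 hR ?_ ?_ (V.bw1 S) B2
  · rw [V.count1 S hn, V.count2 S]
  · rw [V.count3 S, V.count4 S hβ]

end VData

end Cfsg.Agent.Lib.Helper20.Hall
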