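import Mathlib
import Cfsg.Agent.Lib.Helper20.HallF

set_option autoImplicit false

/-!
# M. Hall's theorem on quadruply transitive groups, part G

In degree `11` the stabilizer of four points is trivial.
-/

namespace Cfsg.Agent.Lib.Helper20.Hall

open MulAction

variable {Γ : Type*} [Group Γ] [Finite Γ] {α : Type*} [Fintype α] [DecidableEq α]
  [MulAction Γ α]

theorem HSet.card_dvd_factorial (S : HSet Γ α) :
    Nat.card Γ ∣ (Fintype.card α).factorial := by
  have hinj : Function.Injective (MulAction.toPermHom Γ α) := by
    rw [injective_iff_map_eq_one]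
    intro g hg
    apply S.faithful
    intro a
    have := congrArg (fun f : Equiv.Perm α => f a) hg
    simpa using this
  have := Subgroup.card_dvd_of_injective _ hinj
  rwa [Nat.card_perm, Nat.card_eq_fintype_card (α := α)] at this

namespace VData

variable (V : VData Γ α)

theorem R_invariant {g : Γ} (hcx : V.x * g = g * V.x) (hcz : V.z * g = g * V.z) {e : α}
    (he : e ∈ V.R) : g • e ∈ V.R := by
  obtain ⟨h1, h2, h3⟩ := V.mem_R.mp he
  rw [V.mem_R]
  refine ⟨?_, ?_, ?_⟩
  · rw [comm_smul hcx]
    intro h
    exact h1 (smul_left_cancel g h)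
  · rw [comm_smul hcz, comm_smul hcx]
    intro h
    exact h2 (smul_left_cancel g h)
  · rw [comm_smul hcz]
    intro h
    exact h3 (smul_left_cancel g h)

variable (S : HSet Γ α)
include S

theorem card_fz_sdiff (hn : 6 ≤ Fintype.card α) : (fx V.z \ fx V.x : Finset α).card = 2 := by
  have hrz : (fx V.z : Finset α).card = (fx V.x : Finset α).card :=
    S.card_fx_eq V.hz V.z_ne_one V.hx V.x_ne_one hn
  have h2 := V.two_le_r S
  have hab : ({V.a, V.b} : Finset α) ⊆ fx V.x := by
    intro u hu
    rw [Finset.mem_insert, Finset.mem_singleton] at hu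
    rw [mem_fx]
    rcases hu with rfl | rfl
    · exact V.xa
    · exact V.xb
  have hinter : (fx V.z ∩ fx V.x : Finset α) = fx V.x \ {V.a, V.b} := by
    ext e
    rw [Finset.mem_inter, Finset.mem_sdiff, mem_fx, mem_fx, Finset.mem_insert,
      Finset.mem_singleton]
    constructor
    · rintro ⟨hz, hx⟩
      refine ⟨hx, ?_⟩
      rintro (rfl | rfl)
      · rw [V.za] at hz
        exact V.hd.1 hz.symm
      · rw [V.zb] at hz
        exact V.hd.1 hz
    · rintro ⟨hx, hne⟩
      push Not at hne
      exact ⟨V.fx_x_third S hx hne.1 hne.2, hx⟩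
  have h1 := Finset.card_sdiff_add_card_inter (fx V.z : Finset α) (fx V.x)
  rw [hinter, Finset.card_sdiff_of_subset hab, Finset.card_pair V.hd.1, hrz] at h1
  omega

/-- in degree `11` the centralizer of the four-group in the stabilizer of the four points is
trivial. -/
theorem eps_eq_one (hn : 8 ≤ Fintype.card α) : V.eps = 1 := by
  obtain ⟨h11, hr, hN⟩ := V.degree S hn
  have hbot : cent (stabilizer Γ V.p₀) {V.x, V.z} = ⊥ := by
    rw [Subgroup.eq_bot_iff_forall]
    intro g hg
    rw [mem_cent] at hg
    obtain ⟨hgs, hgc⟩ := hg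
    have hcx : V.x * g = g * V.x := hgc _ (by simp)
    have hcz : V.z * g = g * V.z := hgc _ (by simp)
    have hfix := mem_stab4.mp hgs
    have hga : g • V.a = V.a := hfix 0
    have hgb : g • V.b = V.b := hfix 1
    have hgc' : g • V.c = V.c := hfix 2
    have hgd : g • V.d = V.d := hfix 3
    have hodd : Odd (orderOf g) := orderOf_odd_of_mem (S.odd V.p₀) hgs
    have hswap : ∀ e e' : α, g • e = e' → g • e' = e → e' = e := by
      intro e e' h1 h2
      have := smul_pow_odd h1 h2 hodd
      rw [pow_orderOf_eq_one, one_smul] at this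
      exact this.symm
    -- fixed points of `x`
    have hfx : ∀ e : α, V.x • e = e → g • e = e := by
      intro e he
      by_cases hea : e = V.a
      · rw [hea]; exact hga
      by_cases heb : e = V.b
      · rw [heb]; exact hgb
      have hab : ({V.a, V.b} : Finset α) ⊆ fx V.x := by
        intro u hu
        rw [Finset.mem_insert, Finset.mem_singleton] at hu
        rw [mem_fx]
        rcases hu with rfl | rfl
        · exact V.xa
        · exact V.xb
      have hcard : (fx V.x \ {V.a, V.b} : Finset α).card ≤ 1 := by
        rw [Finset.card_sdiff_of_subset hab, Finset.card_pair V.hd.1, hr]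
      have h1 : e ∈ (fx V.x \ {V.a, V.b} : Finset α) := by
        rw [Finset.mem_sdiff, mem_fx, Finset.mem_insert, Finset.mem_singleton]
        exact ⟨he, fun h => h.elim hea heb⟩
      have h2 : g • e ∈ (fx V.x \ {V.a, V.b} : Finset α) := by
        rw [Finset.mem_sdiff, mem_fx, Finset.mem_insert, Finset.mem_singleton]
        refine ⟨?_, ?_⟩
        · rw [comm_smul hcx, he]
        · rintro (h | h)
          · rw [← hga] at h
            exact hea (smul_left_cancel g h)
          · rw [← hgb] at h
            exact heb (smul_left_cancel g h)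
      exact Finset.card_le_one.mp hcard _ h2 _ h1
    apply S.faithful
    intro e
    by_cases hex : V.x • e = e
    · exact hfx e hex
    by_cases hey : V.x • V.z • e = e
    · by_cases hec : e = V.c
      · rw [hec]; exact hgc'
      by_cases hed : e = V.d
      · rw [hed]; exact hgd
      exact absurd (V.fx_y_third S hey hec hed) hex
    by_cases hez : V.z • e = e
    · -- the two fixed points of `z` not fixed by `x`
      have hC := V.card_fz_sdiff S (by omega)
      have hmem : ∀ u : α, u ∈ (fx V.z \ fx V.x : Finset α) → g • u ∈ (fx V.z \ fx V.x : Finset α) := by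
        intro u hu
        rw [Finset.mem_sdiff, mem_fx, mem_fx] at hu ⊢
        refine ⟨?_, ?_⟩
        · rw [comm_smul hcz, hu.1]
        · rw [comm_smul hcx]
          intro h
          exact hu.2 (smul_left_cancel g h)
      have h0 : e ∈ (fx V.z \ fx V.x : Finset α) := by
        rw [Finset.mem_sdiff, mem_fx, mem_fx]
        exact ⟨hez, hex⟩
      have h1 := hmem _ h0
      have h2 := hmem _ h1
      by_contra hne
      have hne2 : g • g • e ≠ g • e := fun h => hne (smul_left_cancel g h)
      by_cases h3 : g • g • e = e
      · exact hne (hswap e (g • e) rfl h3)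
      · have hsub : ({e, g • e, g • g • e} : Finset α) ⊆ fx V.z \ fx V.x := by
          intro u hu
          rw [Finset.mem_insert, Finset.mem_insert, Finset.mem_singleton] at hu
          rcases hu with rfl | rfl | rfl
          · exact h0
          · exact h1
          · exact h2
        have hc3 : ({e, g • e, g • g • e} : Finset α).card = 3 :=
          Finset.card_eq_three.mpr ⟨e, g • e, g • g • e, fun h => hne h.symm,
            fun h => h3 h.symm, fun h => hne2 h.symm, rfl⟩
        have := Finset.card_le_card hsub
        omega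
    · -- regular points
      have heR : e ∈ V.R := V.mem_R.mpr ⟨hex, hey, hez⟩
      have hsub : Finset.univ.map (V.qR heR) ⊆ V.R := by
        intro u hu
        rw [Finset.mem_map] at hu
        obtain ⟨i, _, rfl⟩ := hu
        fin_cases i
        · exact heR
        · exact V.R_invariant rfl V.hxz.symm heR
        · exact V.R_invariant V.hxz rfl heR
        · show V.x • V.z • e ∈ V.R
          exact V.R_invariant rfl V.hxz.symm (V.R_invariant V.hxz rfl heR)
      have heq : Finset.univ.map (V.qR heR) = V.R := by
        apply Finset.eq_of_subset_of_card_le hsub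
        rw [Finset.card_map, Finset.card_univ, Fintype.card_fin, hN]
      have hge : g • e ∈ Finset.univ.map (V.qR heR) := by
        rw [heq]
        exact V.R_invariant hcx hcz heR
      rw [Finset.mem_map] at hge
      obtain ⟨i, _, hi⟩ := hge
      fin_cases i
      · exact hi.symm
      · have h1 : g • e = V.x • e := hi.symm
        have h2 : g • V.x • e = e := by rw [← comm_smul hcx, h1, V.xx]
        exact absurd (hswap e _ h1 h2) hex
      · have h1 : g • e = V.z • e := hi.symm
        have h2 : g • V.z • e = e := by rw [← comm_smul hcz, h1, V.zz]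
        exact absurd (hswap e _ h1 h2) hez
      · have h1 : g • e = V.x • V.z • e := hi.symm
        have h2 : g • V.x • V.z • e = e := by
          rw [← comm_smul hcx, ← comm_smul hcz, h1, V.zx, V.xx, V.zz]
        exact absurd (hswap e _ h1 h2) hey
  unfold eps
  rw [hbot]
  exact Subgroup.card_bot

/-- in degree `11` the stabilizer of four points is trivial. -/
theorem stab_trivial (hn : 8 ≤ Fintype.card α) : Nat.card (stabilizer Γ V.p₀) = 1 := by
  obtain ⟨h11, hr, hN⟩ := V.degree S hn
  have he := V.eps_eq_one S hn
  have hRpos : 0 < V.R.card := by omega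
  obtain ⟨β, hβ⟩ := Finset.card_pos.mp hRpos
  have hstab : Nat.card (stabilizer Γ (V.qR hβ)) = Nat.card (stabilizer Γ V.p₀) :=
    Miller.card_stab_eq S.trans4 _ _
  have B2 := V.bw2 S hβ
  have T : 4 * V.eps = V.R.card * Nat.card (cent (stabilizer Γ (V.qR hβ)) {V.x, V.z}) := by
    rw [V.count3 S, V.count4 S hβ]
  rw [he, hN] at T
  have he₀ : Nat.card (cent (stabilizer Γ (V.qR hβ)) {V.x, V.z}) = 1 := by omega
  rw [he₀, hstab, one_pow, mul_one] at B2
  -- divisibility
  have hmul := Miller.card_stab_mul S.trans4 V.p₀
  rw [Nat.card_eq_fintype_card (α := α), h11] at hmul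
  have hdvd := S.card_dvd_factorial
  rw [h11] at hdvd
  obtain ⟨m, hm⟩ := hdvd
  have h7 : Nat.card (stabilizer Γ V.p₀) * m = Nat.factorial 7 := by
    have hpos : 0 < Nat.card Γ := Nat.card_pos
    apply Nat.eq_of_mul_eq_mul_left hpos
    have h117 : 11 - 4 = 7 := rfl
    rw [h117] at hmul
    calc Nat.card Γ * (Nat.card (stabilizer Γ V.p₀) * m)
        = Nat.card (stabilizer Γ V.p₀) * (Nat.card Γ * m) := by ring
      _ = Nat.card (stabilizer Γ V.p₀) * Nat.factorial 11 := by rw [hm]
      _ = Nat.card Γ * Nat.factorial 7 := hmul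
  have hodd := S.odd V.p₀
  have hzdvd : V.zeta * (V.zeta * V.zeta) ∣ 5040 := by
    rw [← B2]
    exact ⟨m, by rw [h7]; rfl⟩
  have hzodd : Odd V.zeta := by
    rw [B2] at hodd
    exact (Nat.odd_mul.mp hodd).1
  have hzle : V.zeta ≤ 17 := by
    by_contra hh
    push Not at hh
    have h1 : 18 * (18 * 18) ≤ V.zeta * (V.zeta * V.zeta) :=
      Nat.mul_le_mul hh (Nat.mul_le_mul hh hh)
    have h2 := Nat.le_of_dvd (by norm_num) hzdvd
    omega
  have hz1 : V.zeta = 1 := by
    have hpos : 0 < V.zeta := Nat.card_pos
    generalize V.zeta = ζ at *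
    interval_cases ζ <;> first | rfl | (exfalso; revert hzodd; decide) |
      (exfalso; revert hzdvd; decide)
  rw [B2, hz1]

end VData

end Cfsg.Agent.Lib.Helper20.Hall
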