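import Mathlib

/-!
Helper lemmas (helper20): polynomial sequences with respect to an N-series
(Lazard / Leibman), Taylor expansion, and the Hall–Petrescu type consequence:
`((x y)^m)⁻¹ x^m y^m` is a product of powers `g_j ^ (m.choose j)`, `g_j ∈ F j`, `j ≥ 2`.
-/

set_option autoImplicit false
open scoped commutatorElement

namespace Cfsg.Agent.Lib.Helper20.PolySeq

variable {G : Type*} [Group G]

/-- an N-series -/
structure NSeries (F : ℕ → Subgroup G) : Prop where
  anti : ∀ i, F (i + 1) ≤ F i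
  comm : ∀ i j, ⁅F i, F j⁆ ≤ F (i + j)

theorem NSeries.anti_le {F : ℕ → Subgroup G} (h : NSeries F) {i j : ℕ} (hij : i ≤ j) :
    F j ≤ F i := by
  induction j with
  | zero =>
    have : i = 0 := by omega
    subst this; exact le_rfl
  | succ j ih =>
    rcases Nat.lt_or_ge i (j + 1) with hlt | hge
    · exact (h.anti j).trans (ih (by omega))
    · have : i = j + 1 := by omega
      subst this; exact le_rfl

/-- left difference -/
def D (f : ℕ → G) : ℕ → G := fun n => f (n + 1) * (f n)⁻¹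

theorem D_apply (f : ℕ → G) (n : ℕ) : D f n = f (n + 1) * (f n)⁻¹ := rfl

/-- polynomial sequences of level `k`, tested to depth `t` -/
def Pol (F : ℕ → Subgroup G) : ℕ → ℕ → Set (ℕ → G)
  | 0, k => {f | ∀ n, f n ∈ F k}
  | t + 1, k => {f | (∀ n, f n ∈ F k) ∧ D f ∈ Pol F t (k + 1)}

variable {F : ℕ → Subgroup G}

theorem Pol_zero {k : ℕ} {f : ℕ → G} : f ∈ Pol F 0 k ↔ ∀ n, f n ∈ F k := Iff.rfl

theorem Pol_succ {t k : ℕ} {f : ℕ → G} :
    f ∈ Pol F (t + 1) k ↔ (∀ n, f n ∈ F k) ∧ D f ∈ Pol F t (k + 1) := Iff.rfl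

theorem Pol_val {t k : ℕ} {f : ℕ → G} (hf : f ∈ Pol F t k) : ∀ n, f n ∈ F k := by
  cases t with
  | zero => exact hf
  | succ t => exact hf.1

theorem Pol_mono_k (h : NSeries F) : ∀ (t k k' : ℕ), k ≤ k' → Pol F t k' ⊆ Pol F t k := by
  intro t
  induction t with
  | zero =>
    intro k k' hkk f hf n
    exact h.anti_le hkk (hf n)
  | succ t ih =>
    intro k k' hkk f hf
    exact ⟨fun n => h.anti_le hkk (hf.1 n), ih (k + 1) (k' + 1) (by omega) hf.2⟩

theorem Pol_mono_t : ∀ (t k : ℕ), Pol F (t + 1) k ⊆ Pol F t k := by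
  intro t
  induction t with
  | zero =>
    intro k f hf
    exact hf.1
  | succ t ih =>
    intro k f hf
    exact ⟨hf.1, ih (k + 1) hf.2⟩

theorem D_one : D (1 : ℕ → G) = 1 := by
  funext n
  simp [D]

theorem one_mem : ∀ (t k : ℕ), (1 : ℕ → G) ∈ Pol F t k := by
  intro t
  induction t with
  | zero => intro k n; exact (F k).one_mem
  | succ t ih =>
    intro k
    refine ⟨fun n => (F k).one_mem, ?_⟩
    rw [D_one]
    exact ih (k + 1)

theorem const_mem {k : ℕ} {g : G} (hg : g ∈ F k) (t : ℕ) : (fun _ => g) ∈ Pol F t k := by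
  cases t with
  | zero => intro n; exact hg
  | succ t =>
    refine ⟨fun n => hg, ?_⟩
    have : D (fun _ : ℕ => g) = 1 := by
      funext n
      simp [D]
    rw [this]
    exact one_mem t (k + 1)

theorem comm_apply (f g : ℕ → G) (n : ℕ) : ⁅f, g⁆ n = ⁅f n, g n⁆ := rfl

theorem D_mul (f g : ℕ → G) : D (f * g) = D f * ⁅f, D g⁆ * D g := by
  funext n
  show f (n + 1) * g (n + 1) * (f n * g n)⁻¹ =
    f (n + 1) * (f n)⁻¹ * ⁅f n, g (n + 1) * (g n)⁻¹⁆ * (g (n + 1) * (g n)⁻¹)
  rw [commutatorElement_def]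
  group

theorem D_inv (f : ℕ → G) : D f⁻¹ = ⁅f⁻¹, (D f)⁻¹⁆ * (D f)⁻¹ := by
  funext n
  show (f (n + 1))⁻¹ * ((f n)⁻¹)⁻¹ =
    ⁅(f n)⁻¹, (f (n + 1) * (f n)⁻¹)⁻¹⁆ * (f (n + 1) * (f n)⁻¹)⁻¹
  rw [commutatorElement_def]
  group

theorem comm_expand (a f b g : G) : ⁅a * f, b * g⁆ * ⁅f, g⁆⁻¹ =
    ⁅a, ⁅f, b * g⁆⁆ * ⁅f, b⁆ * ⁅b, ⁅f, g⁆⁆ * ⁅⁅f, g⁆, ⁅a, b * g⁆⁆ * ⁅a, b * g⁆ := by
  simp only [commutatorElement_def]
  group

theorem D_comm (f g : ℕ → G) : D ⁅f, g⁆ =
    ⁅D f, ⁅f, D g * g⁆⁆ * ⁅f, D g⁆ * ⁅D g, ⁅f, g⁆⁆ * ⁅⁅f, g⁆, ⁅D f, D g * g⁆⁆ * ⁅D f, D g * g⁆ := by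
  funext n
  have hf : f (n + 1) = D f n * f n := by simp [D]
  have hg : g (n + 1) = D g n * g n := by simp [D]
  simp only [Pi.mul_apply, comm_apply]
  rw [← comm_expand, ← hf, ← hg]
  rfl

/-- the main closure theorem (Lazard–Leibman) -/
theorem closure_all (h : NSeries F) : ∀ t : ℕ,
    (∀ (k : ℕ) (f g : ℕ → G), f ∈ Pol F t k → g ∈ Pol F t k → f * g ∈ Pol F t k) ∧
    (∀ (k : ℕ) (f : ℕ → G), f ∈ Pol F t k → f⁻¹ ∈ Pol F t k) ∧
    (∀ (k l : ℕ) (f g : ℕ → G), f ∈ Pol F t k → g ∈ Pol F t l → ⁅f, g⁆ ∈ Pol F t (k + l)) := by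
  intro t
  induction t with
  | zero =>
    refine ⟨?_, ?_, ?_⟩
    · intro k f g hf hg n
      exact (F k).mul_mem (hf n) (hg n)
    · intro k f hf n
      exact (F k).inv_mem (hf n)
    · intro k l f g hf hg n
      exact h.comm k l (Subgroup.commutator_mem_commutator (hf n) (hg n))
  | succ t ih =>
    obtain ⟨ihm, ihi, ihc⟩ := ih
    refine ⟨?_, ?_, ?_⟩
    · intro k f g hf hg
      refine ⟨fun n => (F k).mul_mem (hf.1 n) (hg.1 n), ?_⟩
      rw [D_mul]
      have h1 : ⁅f, D g⁆ ∈ Pol F t (k + 1) :=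
        Pol_mono_k h t _ _ (by omega) (ihc k (k + 1) f (D g) (Pol_mono_t t k hf) hg.2)
      exact ihm _ _ _ (ihm _ _ _ hf.2 h1) hg.2
    · intro k f hf
      refine ⟨fun n => (F k).inv_mem (hf.1 n), ?_⟩
      rw [D_inv]
      have h0 : f⁻¹ ∈ Pol F t k := ihi k f (Pol_mono_t t k hf)
      have h1 : (D f)⁻¹ ∈ Pol F t (k + 1) := ihi _ _ hf.2
      have h2 : ⁅f⁻¹, (D f)⁻¹⁆ ∈ Pol F t (k + 1) :=
        Pol_mono_k h t _ _ (by omega) (ihc k (k + 1) _ _ h0 h1)
      exact ihm _ _ _ h2 h1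
    · intro k l f g hf hg
      refine ⟨fun n => h.comm k l (Subgroup.commutator_mem_commutator (hf.1 n) (hg.1 n)), ?_⟩
      rw [D_comm]
      have hf0 : f ∈ Pol F t k := Pol_mono_t t k hf
      have hg0 : g ∈ Pol F t l := Pol_mono_t t l hg
      have ha : D f ∈ Pol F t (k + 1) := hf.2
      have hb : D g ∈ Pol F t (l + 1) := hg.2
      have hbg : D g * g ∈ Pol F t l := ihm _ _ _ (Pol_mono_k h t l (l + 1) (by omega) hb) hg0
      have hh : ⁅f, g⁆ ∈ Pol F t (k + l) := ihc _ _ _ _ hf0 hg0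
      have hfbg : ⁅f, D g * g⁆ ∈ Pol F t (k + l) := ihc _ _ _ _ hf0 hbg
      have habg : ⁅D f, D g * g⁆ ∈ Pol F t (k + l + 1) :=
        Pol_mono_k h t _ _ (by omega) (ihc _ _ _ _ ha hbg)
      have T1 : ⁅D f, ⁅f, D g * g⁆⁆ ∈ Pol F t (k + l + 1) :=
        Pol_mono_k h t _ _ (by omega) (ihc _ _ _ _ ha hfbg)
      have T2 : ⁅f, D g⁆ ∈ Pol F t (k + l + 1) :=
        Pol_mono_k h t _ _ (by omega) (ihc _ _ _ _ hf0 hb)
      have T3 : ⁅D g, ⁅f, g⁆⁆ ∈ Pol F t (k + l + 1) :=
        Pol_mono_k h t _ _ (by omega) (ihc _ _ _ _ hb hh)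
      have T4 : ⁅⁅f, g⁆, ⁅D f, D g * g⁆⁆ ∈ Pol F t (k + l + 1) :=
        Pol_mono_k h t _ _ (by omega) (ihc _ _ _ _ hh habg)
      exact ihm _ _ _ (ihm _ _ _ (ihm _ _ _ (ihm _ _ _ T1 T2) T3) T4) habg

theorem mul_mem (h : NSeries F) {t k : ℕ} {f g : ℕ → G} (hf : f ∈ Pol F t k)
    (hg : g ∈ Pol F t k) : f * g ∈ Pol F t k := (closure_all h t).1 k f g hf hg

theorem inv_mem (h : NSeries F) {t k : ℕ} {f : ℕ → G} (hf : f ∈ Pol F t k) :
    f⁻¹ ∈ Pol F t k := (closure_all h t).2.1 k f hf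

/-- vanishing at `0, …, i - 1` -/
def Van (i : ℕ) (f : ℕ → G) : Prop := ∀ n < i, f n = 1

theorem val_of_van (h : NSeries F) : ∀ (i t k : ℕ) (f : ℕ → G), i ≤ t → f ∈ Pol F t k →
    Van i f → f i ∈ F (k + i) := by
  intro i
  induction i with
  | zero =>
    intro t k f _ hf _
    exact Pol_val hf 0
  | succ i ih =>
    intro t k f hit hf hv
    obtain ⟨t', rfl⟩ : ∃ t', t = t' + 1 := ⟨t - 1, by omega⟩
    have hvD : Van i (D f) := by
      intro n hn
      rw [D_apply, hv (n + 1) (by omega), hv n (by omega)]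
      simp
    have h1 := ih t' (k + 1) (D f) (by omega) hf.2 hvD
    rw [D_apply, hv i (by omega), inv_one, mul_one] at h1
    have : k + 1 + i = k + (i + 1) := by omega
    rw [this] at h1
    exact h1

theorem binom_mem (h : NSeries F) : ∀ (i t k : ℕ) (g : G), g ∈ F (k + i) →
    (fun n : ℕ => g ^ (n.choose i)) ∈ Pol F t k := by
  intro i
  induction i with
  | zero =>
    intro t k g hg
    have : (fun n : ℕ => g ^ (n.choose 0)) = fun _ => g := by
      funext n; simp
    rw [this]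
    exact const_mem hg t
  | succ i ih =>
    intro t k g hg
    have hv : ∀ n : ℕ, g ^ (n.choose (i + 1)) ∈ F k := fun n =>
      (F k).pow_mem (h.anti_le (by omega) hg) _
    cases t with
    | zero => exact hv
    | succ t =>
      refine ⟨hv, ?_⟩
      have : D (fun n : ℕ => g ^ (n.choose (i + 1))) = fun n : ℕ => g ^ (n.choose i) := by
        funext n
        rw [D_apply, Nat.choose_succ_succ, pow_add, mul_inv_cancel_right]
      rw [this]
      apply ih t (k + 1) g
      have : k + 1 + i = k + (i + 1) := by omega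
      rw [this]; exact hg

/-- Taylor expansion, in the form needed -/
theorem taylor (h : NSeries F) {c : ℕ} (hc : F (c + 1) = ⊥) (S : Subgroup G) (m : ℕ) :
    ∀ (d i : ℕ) (f : ℕ → G), c + 1 ≤ i + d → (∀ t, f ∈ Pol F t 0) → Van i f →
      (∀ j, i ≤ j → j ≤ c → ∀ g ∈ F j, g ^ (m.choose j) ∈ S) → f m ∈ S := by
  intro d
  induction d with
  | zero =>
    intro i f hi hf hv _
    have hall : ∀ j, Van (i + j) f := by
      intro j
      induction j with
      | zero => exact hv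
      | succ j ihj =>
        intro n hn
        rcases Nat.lt_or_ge n (i + j) with hlt | hge
        · exact ihj n hlt
        · have hn' : n = i + j := by omega
          subst hn'
          have h1 := val_of_van h (i + j) (i + j) 0 f le_rfl (hf _) ihj
          have h2 : F (0 + (i + j)) ≤ F (c + 1) := h.anti_le (by omega)
          have h3 := h2 h1
          rw [hc, Subgroup.mem_bot] at h3
          exact h3
    rw [hall (m + 1) m (by omega)]
    exact S.one_mem
  | succ d ih =>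
    intro i f hi hf hv hS
    by_cases hic : c + 1 ≤ i
    · -- same as the zero case
      have hall : ∀ j, Van (i + j) f := by
        intro j
        induction j with
        | zero => exact hv
        | succ j ihj =>
          intro n hn
          rcases Nat.lt_or_ge n (i + j) with hlt | hge
          · exact ihj n hlt
          · have hn' : n = i + j := by omega
            subst hn'
            have h1 := val_of_van h (i + j) (i + j) 0 f le_rfl (hf _) ihj
            have h2 : F (0 + (i + j)) ≤ F (c + 1) := h.anti_le (by omega)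
            have h3 := h2 h1
            rw [hc, Subgroup.mem_bot] at h3
            exact h3
      rw [hall (m + 1) m (by omega)]
      exact S.one_mem
    · have hic' : i ≤ c := by omega
      have hg : f i ∈ F i := by
        have := val_of_van h i i 0 f le_rfl (hf _) hv
        rwa [zero_add] at this
      set b : ℕ → G := fun n : ℕ => (f i) ^ (n.choose i) with hb
      have hbP : ∀ t, b ∈ Pol F t 0 := fun t => binom_mem h i t 0 (f i) (by rwa [zero_add])
      have hf' : ∀ t, b⁻¹ * f ∈ Pol F t 0 := fun t => mul_mem h (inv_mem h (hbP t)) (hf t)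
      have hv' : Van (i + 1) (b⁻¹ * f) := by
        intro n hn
        rcases Nat.lt_or_ge n i with hlt | hge
        · simp only [Pi.mul_apply, Pi.inv_apply, hb, Nat.choose_eq_zero_of_lt hlt, pow_zero,
            inv_one, one_mul]
          exact hv n hlt
        · have hn' : n = i := by omega
          subst hn'
          simp only [Pi.mul_apply, Pi.inv_apply, hb, Nat.choose_self, pow_one, inv_mul_cancel]
      have key := ih (i + 1) (b⁻¹ * f) (by omega) hf' hv'
        (fun j hj hjc g hg => hS j (by omega) hjc g hg)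
      have h1 : b m ∈ S := hS i le_rfl hic' (f i) hg
      have h2 : f m = b m * (b⁻¹ * f) m := by
        simp only [Pi.mul_apply, Pi.inv_apply, mul_inv_cancel_left]
      rw [h2]
      exact S.mul_mem h1 key

theorem pow_mem_Pol (hF1 : F 1 = ⊤) (h : NSeries F) (u : G) :
    ∀ t, (fun n : ℕ => u ^ n) ∈ Pol F t 0 := by
  have hF0 : F 0 = ⊤ := by
    apply top_le_iff.mp
    rw [← hF1]
    exact h.anti 0
  intro t
  cases t with
  | zero => intro n; rw [hF0]; exact Subgroup.mem_top _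
  | succ t =>
    refine ⟨fun n => by rw [hF0]; exact Subgroup.mem_top _, ?_⟩
    have : D (fun n : ℕ => u ^ n) = fun _ => u := by
      funext n
      rw [D_apply, pow_succ', mul_inv_cancel_right]
    rw [this]
    exact const_mem (by rw [hF1]; exact Subgroup.mem_top _) t

/-- Hall–Petrescu, in the form needed -/
theorem hall_petrescu (h : NSeries F) (hF1 : F 1 = ⊤) {c : ℕ} (hc : F (c + 1) = ⊥)
    (S : Subgroup G) (m : ℕ)
    (hS : ∀ j, 2 ≤ j → j ≤ c → ∀ g ∈ F j, g ^ (m.choose j) ∈ S) (x y : G) :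
    ((x * y) ^ m)⁻¹ * x ^ m * y ^ m ∈ S := by
  set f : ℕ → G := (fun n : ℕ => (x * y) ^ n)⁻¹ * (fun n : ℕ => x ^ n) * (fun n : ℕ => y ^ n)
    with hf
  have hfP : ∀ t, f ∈ Pol F t 0 := fun t =>
    mul_mem h (mul_mem h (inv_mem h (pow_mem_Pol hF1 h (x * y) t)) (pow_mem_Pol hF1 h x t))
      (pow_mem_Pol hF1 h y t)
  have hv : Van 2 f := by
    intro n hn
    have : n = 0 ∨ n = 1 := by omega
    rcases this with rfl | rfl
    · simp [hf]
    · simp [hf, mul_assoc]
  have key := taylor h hc S m c 2 f (by omega) hfP hv hS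
  simpa [hf] using key

end Cfsg.Agent.Lib.Helper20.PolySeq
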