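import Mathlib
import Cfsg.Prelude.Def_PLocal
import Cfsg.Agent.Lib.Helper20.PolySeq
import Cfsg.Agent.Lib.Helper22.Commutator

/-!
Helper lemmas (helper20): the lower central series is an N-series; Hall–Petrescu for
groups of class `< p`: `(a b)^(p^n) = a^(p^n) b^(p^n) c` with `c` a product of `p^n`-th powers
of elements of the derived subgroup of `⟨a, b⟩`.
-/

set_option autoImplicit false
open scoped commutatorElement

namespace Cfsg.Agent.Lib.Helper20.HP

open Cfsg.Agent.Lib.Helper20.PolySeq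

variable {K : Type*} [Group K]

theorem lcs_comm : ∀ (j i : ℕ),
    ⁅(⊤ : Subgroup K).lowerCentralSeries i, (⊤ : Subgroup K).lowerCentralSeries j⁆ ≤
      (⊤ : Subgroup K).lowerCentralSeries (i + j + 1) := by
  intro j
  induction j with
  | zero =>
    intro i
    exact le_rfl
  | succ j ih =>
    intro i
    rw [Subgroup.lowerCentralSeries_succ (⊤ : Subgroup K) j, Subgroup.commutator_comm]
    apply Cfsg.Agent.Lib.Helper22.three_subgroups_normal
    · -- ⁅⁅⊤, L i⁆, L j⁆
      rw [Subgroup.commutator_comm (⊤ : Subgroup K)]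
      have h1 := ih (i + 1)
      rw [Subgroup.lowerCentralSeries_succ (⊤ : Subgroup K) i] at h1
      have : i + 1 + j + 1 = i + (j + 1) + 1 := by omega
      rw [this] at h1
      exact h1
    · -- ⁅⁅L i, L j⁆, ⊤⁆
      have h2 := ih i
      have h3 := Subgroup.commutator_mono h2 (le_refl (⊤ : Subgroup K))
      exact h3

/-- the shifted lower central series -/
def F (K : Type*) [Group K] (k : ℕ) : Subgroup K := (⊤ : Subgroup K).lowerCentralSeries (k - 1)

theorem nseries_F : NSeries (F K) where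
  anti := by
    intro i
    exact Subgroup.lowerCentralSeries_antitone (⊤ : Subgroup K) (by omega)
  comm := by
    intro i j
    rcases Nat.eq_zero_or_pos i with hi | hi
    · subst hi
      rw [zero_add]
      haveI : (F K j).Normal := by unfold F; infer_instance
      exact Subgroup.commutator_le_right _ _
    rcases Nat.eq_zero_or_pos j with hj | hj
    · subst hj
      rw [add_zero]
      haveI : (F K i).Normal := by unfold F; infer_instance
      exact Subgroup.commutator_le_left _ _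
    have h1 := lcs_comm (K := K) (j - 1) (i - 1)
    have : i - 1 + (j - 1) + 1 = i + j - 1 := by omega
    rw [this] at h1
    exact h1

theorem F_one : F K 1 = ⊤ := rfl

theorem dvd_choose_pow {p e j : ℕ} (hp : p.Prime) (hj0 : 0 < j) (hjp : j < p) :
    p ^ e ∣ (p ^ e).choose j := by
  have hpe : 0 < p ^ e := pow_pos hp.pos e
  have h1 := Nat.add_one_mul_choose_eq (p ^ e - 1) (j - 1)
  have e1 : p ^ e - 1 + 1 = p ^ e := by omega
  have e2 : j - 1 + 1 = j := by omega
  rw [e1, e2] at h1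
  have hcop : Nat.Coprime (p ^ e) j := by
    apply Nat.Coprime.pow_left
    exact (Nat.Prime.coprime_iff_not_dvd hp).mpr (Nat.not_dvd_of_pos_of_lt hj0 hjp)
  exact hcop.dvd_of_dvd_mul_right ⟨_, h1.symm⟩

theorem key {p : ℕ} [hp : Fact p.Prime]
    (hcl : (⊤ : Subgroup K).lowerCentralSeries (p - 1) = ⊥) (e : ℕ) (x y : K) :
    ((x * y) ^ (p ^ e))⁻¹ * x ^ (p ^ e) * y ^ (p ^ e) ∈
      Subgroup.closure {z : K | ∃ u ∈ ⁅(⊤ : Subgroup K), (⊤ : Subgroup K)⁆, z = u ^ (p ^ e)} := by
  apply hall_petrescu (F := F K) nseries_F F_one (c := p - 1) (by exact hcl)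
  intro j hj2 hjc g hg
  have hg1 : g ∈ ⁅(⊤ : Subgroup K), (⊤ : Subgroup K)⁆ := by
    have h1 : (⊤ : Subgroup K).lowerCentralSeries (j - 1) ≤
        (⊤ : Subgroup K).lowerCentralSeries 1 :=
      Subgroup.lowerCentralSeries_antitone (⊤ : Subgroup K) (by omega)
    exact h1 hg
  obtain ⟨u, hu⟩ := dvd_choose_pow (e := e) hp.1 (by omega : 0 < j)
    (by have := hp.1.pos; omega : j < p)
  rw [hu, mul_comm, pow_mul]
  apply Subgroup.subset_closure
  exact ⟨g ^ u, Subgroup.pow_mem _ hg1 u, rfl⟩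

theorem regular_aux {G : Type*} [Group G] {p : ℕ} [hp : Fact p.Prime]
    (hcl : (⊤ : Subgroup G).lowerCentralSeries (p - 1) = ⊥) (a b : G) (n : ℕ) :
    ∃ c ∈ Cfsg.powerClosure p n
        ⁅Subgroup.closure ({a, b} : Set G), Subgroup.closure ({a, b} : Set G)⁆,
      (a * b) ^ (p ^ n) = a ^ (p ^ n) * b ^ (p ^ n) * c := by
  set H : Subgroup G := Subgroup.closure ({a, b} : Set G) with hH
  have ha : a ∈ H := Subgroup.subset_closure (by simp)
  have hb : b ∈ H := Subgroup.subset_closure (by simp)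
  have hclH : (⊤ : Subgroup H).lowerCentralSeries (p - 1) = ⊥ := by
    have h1 := Subgroup.top_subtype_lowerCentralSeries H (p - 1)
    have h2 : H.lowerCentralSeries (p - 1) ≤ (⊤ : Subgroup G).lowerCentralSeries (p - 1) :=
      Subgroup.lowerCentralSeries_mono (p - 1) le_top
    rw [hcl, le_bot_iff] at h2
    rw [h2] at h1
    exact (Subgroup.map_eq_bot_iff_of_injective _ H.subtype_injective).mp h1
  have hk := key hclH n (⟨a, ha⟩ : H) ⟨b, hb⟩
  set s : H := ((⟨a, ha⟩ * ⟨b, hb⟩ : H) ^ (p ^ n))⁻¹ * (⟨a, ha⟩ : H) ^ (p ^ n) *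
    (⟨b, hb⟩ : H) ^ (p ^ n) with hs
  refine ⟨((s⁻¹ : H) : G), ?_, ?_⟩
  · have hle : Subgroup.closure {z : H | ∃ u ∈ ⁅(⊤ : Subgroup H), (⊤ : Subgroup H)⁆,
        z = u ^ (p ^ n)} ≤ (Cfsg.powerClosure p n ⁅H, H⁆).comap H.subtype := by
      rw [Subgroup.closure_le]
      rintro z ⟨u, hu, rfl⟩
      show ((u ^ (p ^ n) : H) : G) ∈ Cfsg.powerClosure p n ⁅H, H⁆
      apply Subgroup.subset_closure
      refine ⟨(u : G), ?_, by rw [Subgroup.coe_pow]⟩
      have h1 : (u : G) ∈ (⁅(⊤ : Subgroup H), (⊤ : Subgroup H)⁆).map H.subtype :=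
        Subgroup.mem_map_of_mem _ hu
      rw [Subgroup.map_commutator, ← MonoidHom.range_eq_map, Subgroup.range_subtype] at h1
      exact h1
    have := hle (Subgroup.inv_mem _ hk)
    exact this
  · have h1 : (⟨a, ha⟩ * ⟨b, hb⟩ : H) ^ (p ^ n) =
        (⟨a, ha⟩ : H) ^ (p ^ n) * (⟨b, hb⟩ : H) ^ (p ^ n) * s⁻¹ := by
      rw [hs]; group
    have h2 := congrArg (Subtype.val) h1
    simpa using h2

end Cfsg.Agent.Lib.Helper20.HP
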