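import Mathlib
import Cfsg.Prelude.Def_HallClasses
import Cfsg.Agent.Lib.Helper29.Frobenius

/-!
Helper lemmas (helper20): for which sets of primes `π` does every finite group possess Hall
`π`-subgroups (statement S3878).  Counterexamples: `A_(r+1)` has no subgroup of index `r`
(`r ≥ 5` prime), and `S_q` has no Hall `{p, q}`-subgroup when `p + 2 ≤ q`.
-/

set_option autoImplicit false

namespace Cfsg.Agent.Lib.Helper20.HallPi

open Nat

/-- In a finite simple group, the order divides `(index H)!` for every proper subgroup `H`. -/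
theorem card_dvd_factorial_index_of_simple {G : Type*} [Group G] [Finite G] [IsSimpleGroup G]
    (H : Subgroup G) (hH : H ≠ ⊤) : Nat.card G ∣ (H.index)! := by
  have hcore : H.normalCore = ⊥ := by
    rcases H.normalCore_normal.eq_bot_or_eq_top with h | h
    · exact h
    · exact absurd (top_le_iff.mp (h ▸ H.normalCore_le)) hH
  have h : H.normalCore.index ∣ H.index ! := by
    rw [Subgroup.normalCore_eq_ker, Subgroup.index_ker, Subgroup.index_eq_card, ← Nat.card_perm]
    exact Subgroup.card_subgroup_dvd_card (MulAction.toPermHom G (G ⧸ H)).range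
  rwa [hcore, Subgroup.index_bot] at h

/-- `r² ∤ (r+1)!` for a prime `r`. -/
theorem sq_not_dvd_factorial_succ {r : ℕ} (hr : r.Prime) : ¬ r ^ 2 ∣ (r + 1)! := by
  intro h
  have h2 : 2 ≤ r := hr.two_le
  have e : (r + 1)! = r * ((r + 1) * (r - 1)!) := by
    have : r ! = r * (r - 1)! := (Nat.mul_factorial_pred hr.ne_zero).symm
    rw [Nat.factorial_succ, this]; ring
  rw [e, pow_two] at h
  have h' : r ∣ (r + 1) * (r - 1)! := Nat.dvd_of_mul_dvd_mul_left hr.pos h
  rcases (Nat.Prime.dvd_mul hr).mp h' with h1 | h1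
  · have : r ∣ 1 := (Nat.dvd_add_right (dvd_refl r)).mp h1
    exact hr.one_lt.ne' (Nat.dvd_one.mp this)
  · have := (Nat.Prime.dvd_factorial hr).mp h1
    omega

/-- `A_(r+1)` has no Hall `π`-subgroup when `r ≥ 5` is the least prime outside `π`. -/
theorem no_hall_alternating (π : Set ℕ) (r : ℕ) (hr : r.Prime) (hr5 : 5 ≤ r) (hrπ : r ∉ π)
    (hlt : ∀ ℓ : ℕ, ℓ.Prime → ℓ < r → ℓ ∈ π) :
    ¬ Cfsg.IsEPiGroup π (alternatingGroup (Fin (r + 1))) := by
  rintro ⟨H, hH1, hH2⟩
  haveI : Nontrivial (Fin (r + 1)) := Fin.nontrivial_iff_two_le.mpr (by omega)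
  have hcard : 2 * Nat.card (alternatingGroup (Fin (r + 1))) = (r + 1)! := by
    have := two_mul_nat_card_alternatingGroup (α := Fin (r + 1))
    rw [this, Nat.card_perm, Nat.card_eq_fintype_card, Fintype.card_fin]
  have hidx : H.index * Nat.card H = Nat.card (alternatingGroup (Fin (r + 1))) :=
    H.index_mul_card
  have hidx0 : H.index ≠ 0 := Subgroup.index_ne_zero_of_finite
  have hidxdvd : H.index ∣ (r + 1)! := by
    rw [← hcard, ← hidx]
    exact Dvd.dvd.mul_left (Dvd.intro _ rfl) 2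
  have hrodd : ¬ 2 ∣ r := by
    intro h
    have := (Nat.prime_dvd_prime_iff_eq Nat.prime_two hr).mp h
    omega
  have hr1 : ¬ (r + 1).Prime := by
    intro h
    have h2 : 2 ∣ r + 1 := by omega
    have := (Nat.prime_dvd_prime_iff_eq Nat.prime_two h).mp h2
    omega
  -- every prime divisor of the index is `r`
  have hprime : ∀ {ℓ : ℕ}, ℓ.Prime → ℓ ∣ H.index → ℓ = r := by
    intro ℓ hℓ hd
    have hℓπ : ℓ ∉ π := fun h => hH2 ℓ hℓ h hd
    have hle : ℓ ≤ r + 1 := (Nat.Prime.dvd_factorial hℓ).mp (hd.trans hidxdvd)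
    by_contra hne
    rcases Nat.lt_or_ge ℓ r with h1 | h1
    · exact hℓπ (hlt ℓ hℓ h1)
    · have : ℓ = r + 1 := by omega
      exact hr1 (this ▸ hℓ)
  have hpow := Nat.eq_prime_pow_of_unique_prime_dvd hidx0 hprime
  set k := H.index.primeFactorsList.length with hk
  -- `r` divides the order of the group
  have hrG : r ∣ Nat.card (alternatingGroup (Fin (r + 1))) := by
    have h1 : r ∣ 2 * Nat.card (alternatingGroup (Fin (r + 1))) := by
      rw [hcard]; exact (Nat.Prime.dvd_factorial hr).mpr (by omega)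
    rcases (Nat.Prime.dvd_mul hr).mp h1 with h2 | h2
    · have := (Nat.prime_dvd_prime_iff_eq hr Nat.prime_two).mp h2
      omega
    · exact h2
  have hk1 : k = 1 := by
    rcases Nat.lt_or_ge k 1 with h0 | h0
    · -- index one
      exfalso
      have hk0 : k = 0 := by omega
      rw [hk0, pow_zero] at hpow
      rw [hpow, one_mul] at hidx
      exact hrπ (hH1 r hr (hidx ▸ hrG))
    · rcases Nat.lt_or_ge 1 k with h2 | h2
      · exfalso
        apply sq_not_dvd_factorial_succ hr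
        refine Dvd.dvd.trans ?_ hidxdvd
        rw [hpow]
        exact pow_dvd_pow r h2
      · omega
  rw [hk1, pow_one] at hpow
  haveI : IsSimpleGroup (alternatingGroup (Fin (r + 1))) :=
    alternatingGroup.isSimpleGroup (by rw [Nat.card_eq_fintype_card, Fintype.card_fin]; omega)
  have hHtop : H ≠ ⊤ := by
    intro h
    rw [h, Subgroup.index_top] at hpow
    omega
  have hd := card_dvd_factorial_index_of_simple H hHtop
  rw [hpow] at hd
  have : (r + 1)! ∣ 2 * r ! := by
    rw [← hcard]; exact Nat.mul_dvd_mul_left 2 hd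
  rw [Nat.factorial_succ, mul_comm 2] at this
  have h3 : r + 1 ∣ 2 := by
    rw [mul_comm] at this
    exact Nat.dvd_of_mul_dvd_mul_left (Nat.factorial_pos r) this
  have := Nat.le_of_dvd (by norm_num) h3
  omega

section TwoPrimes

variable {H : Type*} [Group H] [Finite H] {p q : ℕ} [hp : Fact p.Prime] [hq : Fact q.Prime]

omit [Finite H] in
/-- an element of prime order `q ≠ p` lies in no `p`-subgroup -/
theorem not_mem_of_orderOf_eq {T : Subgroup H} (hT : IsPGroup p T) (hpq : p ≠ q) {x : H}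
    (hx : orderOf x = q) : x ∉ T := by
  intro hxT
  obtain ⟨k, hk⟩ := IsPGroup.iff_orderOf.mp hT ⟨x, hxT⟩
  rw [Subgroup.orderOf_mk, hx] at hk
  have : q ∣ p ^ k := by rw [← hk]
  have := (Nat.prime_dvd_prime_iff_eq hq.out hp.out).mp (hq.out.dvd_of_dvd_pow this)
  exact hpq this.symm

/-- Case of pairwise trivially intersecting Sylow `p`-subgroups of index `q`: counting. -/
theorem normal_zpowers_of_TI (hpq : p ≠ q)
    (hidx : ∀ T : Sylow p H, (T : Subgroup H).index = q)
    (hcore : ∀ K : Subgroup H, K.Normal → IsPGroup p K → K = ⊥)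
    (hTI : ∀ T₁ T₂ : Sylow p H, T₁ ≠ T₂ → (T₁ : Subgroup H) ⊓ (T₂ : Subgroup H) = ⊥)
    (c : H) (hc : orderOf c = q) : (Subgroup.zpowers c).Normal := by
  classical
  haveI : Fintype H := Fintype.ofFinite H
  haveI : Fintype (Sylow p H) := Fintype.ofFinite _
  have hcardH : ∀ T : Sylow p H, Nat.card (T : Subgroup H) * q = Nat.card H := by
    intro T
    rw [← hidx T]; exact (T : Subgroup H).card_mul_index
  have hQcard : Nat.card (Subgroup.zpowers c) = q := by rw [Nat.card_zpowers, hc]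
  -- key claim
  have key : ∀ x : H, orderOf x = q → x ∈ Subgroup.zpowers c := by
    have hnp : Nat.card (Sylow p H) ∣ q := by
      have := Sylow.card_dvd_index (default : Sylow p H)
      rwa [hidx] at this
    rcases (Nat.dvd_prime hq.out).mp hnp with h1 | h1
    · -- unique Sylow p-subgroup: it is trivial
      haveI : Subsingleton (Sylow p H) := (Nat.card_eq_one_iff_unique.mp h1).1
      have hn : ((default : Sylow p H) : Subgroup H).Normal := Sylow.normal_of_subsingleton _
      have hbot := hcore _ hn (default : Sylow p H).2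
      have := hcardH default
      rw [hbot, Subgroup.card_bot, one_mul] at this
      have htop : Subgroup.zpowers c = ⊤ := Subgroup.eq_top_of_card_eq _ (by rw [hQcard, this])
      intro x _
      rw [htop]; trivial
    · -- `q` Sylow `p`-subgroups
      set a := Nat.card H / q with ha
      have hqpos : 0 < q := hq.out.pos
      have hcardT : ∀ T : Sylow p H, Nat.card (T : Subgroup H) = a := by
        intro T
        rw [ha, ← hcardH T, Nat.mul_div_cancel _ hqpos]
      have hHa : Nat.card H = a * q := by rw [← hcardT default, hcardH default]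
      have ha1 : 1 ≤ a := by
        rw [← hcardT default]; exact Nat.card_pos
      let F : Sylow p H → Finset H := fun T =>
        (Finset.univ.filter (fun x : H => x ∈ (T : Subgroup H))).erase 1
      have hFcard : ∀ T : Sylow p H, (F T).card = a - 1 := by
        intro T
        have h1 : (1 : H) ∈ Finset.univ.filter (fun x : H => x ∈ (T : Subgroup H)) := by
          simp
        rw [Finset.card_erase_of_mem h1]
        have : (Finset.univ.filter (fun x : H => x ∈ (T : Subgroup H))).card =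
            Nat.card (T : Subgroup H) := by
          rw [Nat.card_eq_fintype_card, Fintype.card_subtype]
        rw [this, hcardT]
      have hFdisj : ∀ T₁ ∈ (Finset.univ : Finset (Sylow p H)),
          ∀ T₂ ∈ (Finset.univ : Finset (Sylow p H)), T₁ ≠ T₂ → Disjoint (F T₁) (F T₂) := by
        intro T₁ _ T₂ _ hne
        rw [Finset.disjoint_left]
        intro x hx1 hx2
        simp only [F, Finset.mem_erase, Finset.mem_filter, Finset.mem_univ, true_and] at hx1 hx2
        have : x ∈ (T₁ : Subgroup H) ⊓ (T₂ : Subgroup H) := ⟨hx1.2, hx2.2⟩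
        rw [hTI T₁ T₂ hne, Subgroup.mem_bot] at this
        exact hx1.1 this
      set U : Finset H := (Finset.univ : Finset (Sylow p H)).biUnion F with hU
      have hUcard : U.card = q * (a - 1) := by
        rw [hU, Finset.card_biUnion hFdisj]
        simp only [hFcard, Finset.sum_const, smul_eq_mul]
        rw [Finset.card_univ, ← Nat.card_eq_fintype_card, h1]
      have hUc : (Uᶜ).card = q := by
        rw [Finset.card_compl, hUcard, ← Nat.card_eq_fintype_card, hHa]
        have : a * q = q * (a - 1) + q := by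
          obtain ⟨b, hb⟩ : ∃ b, a = b + 1 := ⟨a - 1, by omega⟩
          rw [hb]; simp; ring
        omega
      -- elements of order `q` or `1` avoid `U`
      have havoid : ∀ x : H, (x = 1 ∨ orderOf x = q) → x ∈ Uᶜ := by
        intro x hx
        rw [Finset.mem_compl, hU, Finset.mem_biUnion]
        rintro ⟨T, _, hxT⟩
        simp only [F, Finset.mem_erase, Finset.mem_filter, Finset.mem_univ, true_and] at hxT
        rcases hx with hx | hx
        · exact hxT.1 hx
        · exact not_mem_of_orderOf_eq T.2 hpq hx hxT.2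
      set Qf : Finset H := Finset.univ.filter (fun x : H => x ∈ Subgroup.zpowers c) with hQf
      have hQfcard : Qf.card = q := by
        rw [hQf, ← hQcard, Nat.card_eq_fintype_card, Fintype.card_subtype]
      have hsub : Qf ⊆ Uᶜ := by
        intro x hx
        rw [hQf, Finset.mem_filter] at hx
        apply havoid
        by_cases hx1 : x = 1
        · exact Or.inl hx1
        · right
          have hd : orderOf x ∣ q := by
            have := orderOf_dvd_natCard (⟨x, hx.2⟩ : Subgroup.zpowers c)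
            rwa [hQcard, Subgroup.orderOf_mk] at this
          rcases (Nat.dvd_prime hq.out).mp hd with h | h
          · exact absurd (orderOf_eq_one_iff.mp h) hx1
          · exact h
      have heq : Qf = Uᶜ := Finset.eq_of_subset_of_card_le hsub (by rw [hUc, hQfcard])
      intro x hx
      have := havoid x (Or.inr hx)
      rw [← heq, hQf, Finset.mem_filter] at this
      exact this.2
  refine ⟨fun n hn g => ?_⟩
  by_cases hn1 : n = 1
  · rw [hn1]; simp
  · apply key
    have hd : orderOf n ∣ q := by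
      have := orderOf_dvd_natCard (⟨n, hn⟩ : Subgroup.zpowers c)
      rwa [hQcard, Subgroup.orderOf_mk] at this
    have hno : orderOf n = q := by
      rcases (Nat.dvd_prime hq.out).mp hd with h | h
      · exact absurd (orderOf_eq_one_iff.mp h) hn1
      · exact h
    rw [← hno]
    have : g * n * g⁻¹ = MulAut.conj g n := by simp [MulAut.conj_apply]
    rw [this, MulEquiv.orderOf_eq]

/-- If the Sylow `p`-subgroups have prime index `q` and there is no nontrivial normal
`p`-subgroup, then distinct Sylow `p`-subgroups intersect trivially. -/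
theorem sylow_TI_of_index_prime (hpq : p ≠ q)
    (hidx : ∀ T : Sylow p H, (T : Subgroup H).index = q)
    (hcore : ∀ K : Subgroup H, K.Normal → IsPGroup p K → K = ⊥) :
    ∀ T₁ T₂ : Sylow p H, T₁ ≠ T₂ → (T₁ : Subgroup H) ⊓ (T₂ : Subgroup H) = ⊥ := by
  classical
  by_contra hcon
  push Not at hcon
  obtain ⟨A₁, A₂, hA, hAne⟩ := hcon
  -- choose a pair with maximal intersection
  obtain ⟨⟨T₁, T₂⟩, hT12, hmax⟩ := Set.exists_max_image
    {P : Sylow p H × Sylow p H | P.1 ≠ P.2}
    (fun P => Nat.card ((P.1 : Subgroup H) ⊓ (P.2 : Subgroup H) : Subgroup H))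
    (Set.toFinite _) ⟨(A₁, A₂), hA⟩
  simp only [Set.mem_setOf_eq] at hT12
  set D : Subgroup H := (T₁ : Subgroup H) ⊓ (T₂ : Subgroup H) with hD
  have hmax' : ∀ S₁ S₂ : Sylow p H, S₁ ≠ S₂ →
      Nat.card ((S₁ : Subgroup H) ⊓ (S₂ : Subgroup H) : Subgroup H) ≤ Nat.card D :=
    fun S₁ S₂ h => hmax (S₁, S₂) h
  have hDne : D ≠ ⊥ := by
    intro h
    have h1 := hmax' A₁ A₂ hA
    rw [h, Subgroup.card_bot] at h1
    have : Nat.card ((A₁ : Subgroup H) ⊓ (A₂ : Subgroup H) : Subgroup H) = 1 :=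
      le_antisymm h1 Nat.card_pos
    exact hAne (Subgroup.card_eq_one.mp this)
  have hlt : ∀ S₁ S₂ : Sylow p H, S₁ ≠ S₂ →
      (S₁ : Subgroup H) ⊓ (S₂ : Subgroup H) < (S₁ : Subgroup H) := by
    intro S₁ S₂ h
    refine lt_of_le_of_ne inf_le_left ?_
    intro he
    have hle : (S₁ : Subgroup H) ≤ (S₂ : Subgroup H) := inf_eq_left.mp he
    exact h (Sylow.ext (S₁.3 S₂.2 hle).symm)
  have hD1 : D < (T₁ : Subgroup H) := hlt T₁ T₂ hT12
  have hD2 : D < (T₂ : Subgroup H) := by
    have := hlt T₂ T₁ (Ne.symm hT12)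
    rwa [inf_comm] at this
  obtain ⟨s₁, hs₁T, hs₁N, hs₁D⟩ :=
    Cfsg.Agent.Lib.Helper29.exists_mem_normalizer_not_mem T₁ D hD1
  obtain ⟨s₂, hs₂T, hs₂N, hs₂D⟩ :=
    Cfsg.Agent.Lib.Helper29.exists_mem_normalizer_not_mem T₂ D hD2
  -- the normalizer of `D` is not a `p`-group
  have hNp : ¬ IsPGroup p (Subgroup.normalizer (D : Set H)) := by
    intro hN
    obtain ⟨T₃, hT₃⟩ := hN.exists_le_sylow
    have h31 : T₃ = T₁ := by
      by_contra hne
      have h1 := hmax' T₃ T₁ hne
      have hle : D ≤ (T₃ : Subgroup H) ⊓ (T₁ : Subgroup H) :=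
        le_inf (Subgroup.le_normalizer.trans hT₃) hD1.le
      have := Subgroup.eq_of_le_of_card_ge hle h1
      apply hs₁D
      rw [this]
      exact ⟨hT₃ hs₁N, hs₁T⟩
    have h32 : T₃ = T₂ := by
      by_contra hne
      have h1 := hmax' T₃ T₂ hne
      have hle : D ≤ (T₃ : Subgroup H) ⊓ (T₂ : Subgroup H) :=
        le_inf (Subgroup.le_normalizer.trans hT₃) hD2.le
      have := Subgroup.eq_of_le_of_card_ge hle h1
      apply hs₂D
      rw [this]
      exact ⟨hT₃ hs₂N, hs₂T⟩
    exact hT12 (h31.symm.trans h32)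
  have hcardH : Nat.card (T₁ : Subgroup H) * q = Nat.card H := by
    rw [← hidx T₁]; exact (T₁ : Subgroup H).card_mul_index
  obtain ⟨a, ha⟩ := IsPGroup.iff_card.mp T₁.2
  -- `q` divides the order of the normalizer
  have hqN : q ∣ Nat.card (Subgroup.normalizer (D : Set H)) := by
    by_contra hq'
    apply hNp
    have hcop : (Nat.card (Subgroup.normalizer (D : Set H))).Coprime q :=
      (Nat.Coprime.symm ((Nat.Prime.coprime_iff_not_dvd hq.out).mpr hq'))
    have hd : Nat.card (Subgroup.normalizer (D : Set H)) ∣ Nat.card (T₁ : Subgroup H) * q := by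
      rw [hcardH]; exact Subgroup.card_subgroup_dvd_card _
    have hd' := hcop.dvd_of_dvd_mul_right hd
    rw [ha] at hd'
    obtain ⟨j, _, hj⟩ := (Nat.dvd_prime_pow hp.out).mp hd'
    exact IsPGroup.of_card hj
  obtain ⟨x, hx⟩ := exists_prime_orderOf_dvd_card' q hqN
  have hxo : orderOf (x : H) = q := by rw [Subgroup.orderOf_coe, hx]
  -- `H = T₁ ⟨x⟩`
  have hcompl : Subgroup.IsComplement' (T₁ : Subgroup H) (Subgroup.zpowers (x : H)) := by
    apply Subgroup.isComplement'_of_coprime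
    · rw [Nat.card_zpowers, hxo, hcardH]
    · rw [Nat.card_zpowers, hxo, ha]
      exact Nat.Coprime.pow_left _ ((Nat.coprime_primes hp.out hq.out).mpr hpq)
  have hfact : ∀ g : H, ∃ t ∈ (T₁ : Subgroup H), ∃ y ∈ Subgroup.zpowers (x : H), t * y = g := by
    intro g
    obtain ⟨⟨t, y⟩, hty, _⟩ := (Subgroup.isComplement_iff_existsUnique.mp hcompl) g
    exact ⟨t.1, t.2, y.1, y.2, hty⟩
  have hzN : Subgroup.zpowers (x : H) ≤ Subgroup.normalizer (D : Set H) := by
    rw [Subgroup.zpowers_le]; exact x.2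
  -- the normal closure of `D` lies in `T₁`
  have hK : Subgroup.normalClosure (D : Set H) ≤ (T₁ : Subgroup H) := by
    rw [Subgroup.normalClosure, Subgroup.closure_le]
    intro u hu
    obtain ⟨d, hd, hdu⟩ := Group.mem_conjugatesOfSet_iff.mp hu
    obtain ⟨g, hg⟩ := isConj_iff.mp hdu
    obtain ⟨t, ht, y, hy, hty⟩ := hfact g
    have hyd : y * d * y⁻¹ ∈ D := (Subgroup.mem_normalizer_iff.mp (hzN hy) d).mp hd
    have : u = t * (y * d * y⁻¹) * t⁻¹ := by
      rw [← hg, ← hty]; group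
    rw [this]
    exact (T₁ : Subgroup H).mul_mem ((T₁ : Subgroup H).mul_mem ht (hD1.le hyd))
      ((T₁ : Subgroup H).inv_mem ht)
  have hKbot := hcore _ Subgroup.normalClosure_normal (T₁.2.to_le hK)
  apply hDne
  rw [eq_bot_iff, ← hKbot]
  exact Subgroup.le_normalClosure

/-- **Two-prime lemma.** If the Sylow `p`-subgroups of `H` have prime index `q ≠ p` and `H`
has no nontrivial normal `p`-subgroup, then every cyclic subgroup of order `q` is normal. -/
theorem normal_zpowers_of_index_prime (hpq : p ≠ q)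
    (hidx : ∀ T : Sylow p H, (T : Subgroup H).index = q)
    (hcore : ∀ K : Subgroup H, K.Normal → IsPGroup p K → K = ⊥)
    (c : H) (hc : orderOf c = q) : (Subgroup.zpowers c).Normal :=
  normal_zpowers_of_TI hpq hidx hcore (sylow_TI_of_index_prime hpq hidx hcore) c hc

end TwoPrimes

section SymPrime

/-- a `p`-subgroup of `S_q` (`p ∤ q`) fixes a point -/
theorem exists_fixed_of_isPGroup {p q : ℕ} [Fact p.Prime] (hpq : ¬ p ∣ q)
    (K : Subgroup (Equiv.Perm (Fin q))) (hK : IsPGroup p K) :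
    ∃ x : Fin q, ∀ k ∈ K, k x = x := by
  obtain ⟨x, hx⟩ := hK.nonempty_fixed_point_of_prime_not_dvd_card (Fin q)
    (by rwa [Nat.card_eq_fintype_card, Fintype.card_fin])
  exact ⟨x, fun k hk => MulAction.mem_fixedPoints.mp hx ⟨k, hk⟩⟩

/-- An element of order `q` in `S_q` acts transitively. -/
theorem exists_pow_apply_eq_of_orderOf_eq {q : ℕ} [hq : Fact q.Prime] (c : Equiv.Perm (Fin q))
    (hc : orderOf c = q) (x y : Fin q) : ∃ i : ℕ, (c ^ i) x = y := by
  have hcyc : c.IsCycle :=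
    Equiv.Perm.isCycle_of_prime_order'' (by rw [Fintype.card_fin]; exact hq.out)
      (by rw [Fintype.card_fin]; exact hc)
  have hsupp : c.support = Finset.univ := by
    apply Finset.eq_univ_of_card
    rw [← hcyc.orderOf, hc, Fintype.card_fin]
  have hx : c x ≠ x := Equiv.Perm.mem_support.mp (hsupp ▸ Finset.mem_univ x)
  have hy : c y ≠ y := Equiv.Perm.mem_support.mp (hsupp ▸ Finset.mem_univ y)
  exact hcyc.exists_pow_eq hx hy

/-- `q² ∤ q!` for a prime `q`. -/
theorem sq_not_dvd_factorial_self {q : ℕ} (hq : q.Prime) : ¬ q ^ 2 ∣ q ! := by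
  intro h
  rw [← Nat.mul_factorial_pred hq.ne_zero, pow_two] at h
  have h' : q ∣ (q - 1)! := Nat.dvd_of_mul_dvd_mul_left hq.pos h
  have := (Nat.Prime.dvd_factorial hq).mp h'
  have := hq.two_le
  omega

/-- `S_q` has no Hall `π`-subgroup when `p < q` are the two least primes of `π`, `p + 2 ≤ q`. -/
theorem no_hall_perm_prime (π : Set ℕ) (p q : ℕ) [hp : Fact p.Prime] [hq : Fact q.Prime]
    (hpq : p + 2 ≤ q) (hpπ : p ∈ π) (hqπ : q ∈ π)
    (honly : ∀ ℓ : ℕ, ℓ.Prime → ℓ ∈ π → ℓ < q → ℓ = p) :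
    ¬ Cfsg.IsEPiGroup π (Equiv.Perm (Fin q)) := by
  rintro ⟨H, hH1, hH2⟩
  have hpneq : p ≠ q := by omega
  have hpndq : ¬ p ∣ q := fun h =>
    hpneq ((Nat.prime_dvd_prime_iff_eq hp.out hq.out).mp h)
  have hqndp : ¬ q ∣ p := fun h =>
    hpneq ((Nat.prime_dvd_prime_iff_eq hq.out hp.out).mp h).symm
  have hcardG : Nat.card (Equiv.Perm (Fin q)) = q ! := by
    rw [Nat.card_perm, Nat.card_eq_fintype_card, Fintype.card_fin]
  have hidx : H.index * Nat.card H = q ! := by rw [← hcardG]; exact H.index_mul_card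
  have hHdvd : Nat.card H ∣ q ! := Dvd.intro_left _ hidx
  -- `q` divides `|H|`
  have hqH : q ∣ Nat.card H := by
    have h1 : q ∣ H.index * Nat.card H := by
      rw [hidx]; exact (Nat.Prime.dvd_factorial hq.out).mpr le_rfl
    rcases (Nat.Prime.dvd_mul hq.out).mp h1 with h2 | h2
    · exact absurd h2 (hH2 q hq.out hqπ)
    · exact h2
  obtain ⟨c, hc⟩ := exists_prime_orderOf_dvd_card' q hqH
  have hcG : orderOf (c : Equiv.Perm (Fin q)) = q := by rw [Subgroup.orderOf_coe, hc]
  have htrans := exists_pow_apply_eq_of_orderOf_eq (c : Equiv.Perm (Fin q)) hcG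
  -- prime divisors of `|H|`
  have hprimes : ∀ ℓ : ℕ, ℓ.Prime → ℓ ∣ Nat.card H → ℓ = p ∨ ℓ = q := by
    intro ℓ hℓ hd
    have hℓπ := hH1 ℓ hℓ hd
    have hle : ℓ ≤ q := (Nat.Prime.dvd_factorial hℓ).mp (hd.trans hHdvd)
    rcases Nat.lt_or_ge ℓ q with h | h
    · exact Or.inl (honly ℓ hℓ hℓπ h)
    · exact Or.inr (le_antisymm hle h)
  -- Sylow `p`-subgroups of `H` have index `q`
  have hsylidx : ∀ T : Sylow p H, (T : Subgroup H).index = q := by
    intro T
    have hm0 : (T : Subgroup H).index ≠ 0 := Subgroup.index_ne_zero_of_finite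
    have hmul : Nat.card (T : Subgroup H) * (T : Subgroup H).index = Nat.card H :=
      (T : Subgroup H).card_mul_index
    have hmdvd : (T : Subgroup H).index ∣ Nat.card H := Dvd.intro_left _ hmul
    have hpm : ¬ p ∣ (T : Subgroup H).index := T.not_dvd_index
    have hunique : ∀ {ℓ : ℕ}, ℓ.Prime → ℓ ∣ (T : Subgroup H).index → ℓ = q := by
      intro ℓ hℓ hd
      rcases hprimes ℓ hℓ (hd.trans hmdvd) with h | h
      · exact absurd (h ▸ hd) hpm
      · exact h
    have hpow := Nat.eq_prime_pow_of_unique_prime_dvd hm0 hunique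
    set k := (T : Subgroup H).index.primeFactorsList.length
    obtain ⟨a, ha⟩ := IsPGroup.iff_card.mp T.2
    have hqm : q ∣ (T : Subgroup H).index := by
      have h1 : q ∣ Nat.card (T : Subgroup H) * (T : Subgroup H).index := by rw [hmul]; exact hqH
      rcases (Nat.Prime.dvd_mul hq.out).mp h1 with h2 | h2
      · rw [ha] at h2
        exact absurd (hq.out.dvd_of_dvd_pow h2) hqndp
      · exact h2
    have hk1 : k = 1 := by
      rcases Nat.lt_or_ge k 1 with h0 | h0
      · exfalso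
        have hk0 : k = 0 := by omega
        rw [hk0, pow_zero] at hpow
        rw [hpow] at hqm
        exact hq.out.one_lt.ne' (Nat.dvd_one.mp hqm)
      · rcases Nat.lt_or_ge 1 k with h2 | h2
        · exfalso
          apply sq_not_dvd_factorial_self hq.out
          refine Dvd.dvd.trans ?_ (hmdvd.trans hHdvd)
          rw [hpow]
          exact pow_dvd_pow q h2
        · omega
    rw [hpow, hk1, pow_one]
  -- no nontrivial normal `p`-subgroup
  have hcore : ∀ K : Subgroup H, K.Normal → IsPGroup p K → K = ⊥ := by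
    intro K hKn hKp
    obtain ⟨x, hx⟩ := exists_fixed_of_isPGroup hpndq (K.map H.subtype) (hKp.map H.subtype)
    rw [Subgroup.eq_bot_iff_forall]
    intro k hk
    have hall : ∀ y : Fin q, (k : Equiv.Perm (Fin q)) y = y := by
      intro y
      obtain ⟨i, hi⟩ := htrans x y
      have hconj : (c ^ i)⁻¹ * k * (c ^ i) ∈ K := by
        have := hKn.conj_mem k hk (c ^ i)⁻¹
        simpa using this
      have h1 := hx _ (Subgroup.mem_map_of_mem H.subtype hconj)
      have h2 : (H.subtype ((c ^ i)⁻¹ * k * (c ^ i)) : Equiv.Perm (Fin q)) =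
          ((c : Equiv.Perm (Fin q)) ^ i)⁻¹ * (k : Equiv.Perm (Fin q)) *
            ((c : Equiv.Perm (Fin q)) ^ i) := by
        simp
      rw [h2, Equiv.Perm.mul_apply, Equiv.Perm.mul_apply, hi] at h1
      have := congrArg ((c : Equiv.Perm (Fin q)) ^ i) h1
      rw [← Equiv.Perm.mul_apply, mul_inv_cancel, Equiv.Perm.one_apply, hi] at this
      exact this
    apply Subtype.ext
    apply Equiv.ext
    intro y
    rw [hall y]; rfl
  haveI hQn : (Subgroup.zpowers c).Normal :=
    normal_zpowers_of_index_prime hpneq hsylidx hcore c hc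
  -- a Sylow `p`-subgroup of `H` embeds in `Aut ⟨c⟩`
  let T : Sylow p H := default
  let f : (T : Subgroup H) →* MulAut (Subgroup.zpowers c) :=
    (MulAut.conjNormal (H := Subgroup.zpowers c)).comp (T : Subgroup H).subtype
  have hf : Function.Injective f := by
    rw [injective_iff_map_eq_one]
    intro t ht
    have hcomm : (t : H) * c * (t : H)⁻¹ = c := by
      have h1 := DFunLike.congr_fun ht ⟨c, Subgroup.mem_zpowers c⟩
      have h2 := congrArg Subtype.val h1
      simpa [f, MulAut.conjNormal_apply] using h2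
    have hcomm' : ((t : H) : Equiv.Perm (Fin q)) * (c : Equiv.Perm (Fin q)) =
        (c : Equiv.Perm (Fin q)) * ((t : H) : Equiv.Perm (Fin q)) := by
      have := congrArg (fun u : H => (u : Equiv.Perm (Fin q))) (mul_inv_eq_iff_eq_mul.mp hcomm)
      simpa using this
    have hcommi : ∀ i : ℕ, ((t : H) : Equiv.Perm (Fin q)) * (c : Equiv.Perm (Fin q)) ^ i =
        (c : Equiv.Perm (Fin q)) ^ i * ((t : H) : Equiv.Perm (Fin q)) := fun i =>
      (Commute.pow_right (show Commute _ _ from hcomm') i).eq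
    -- `t` fixes a point
    have htp : IsPGroup p (Subgroup.zpowers (H.subtype (t : H))) := by
      obtain ⟨j, hj⟩ := IsPGroup.iff_orderOf.mp T.2 t
      apply IsPGroup.of_card (n := j)
      rw [Nat.card_zpowers, Subgroup.coe_subtype, Subgroup.orderOf_coe, Subgroup.orderOf_coe, hj]
    obtain ⟨x, hx⟩ := exists_fixed_of_isPGroup hpndq _ htp
    have hxt := hx _ (Subgroup.mem_zpowers _)
    have hall : ∀ y : Fin q, ((t : H) : Equiv.Perm (Fin q)) y = y := by
      intro y
      obtain ⟨i, hi⟩ := htrans x y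
      have hxt' : ((t : H) : Equiv.Perm (Fin q)) x = x := hxt
      rw [← hi, ← Equiv.Perm.mul_apply, hcommi i, Equiv.Perm.mul_apply, hxt']
    apply Subtype.ext
    apply Subtype.ext
    apply Equiv.ext
    intro y
    rw [hall y]; rfl
  have hdvd : Nat.card (T : Subgroup H) ∣ q - 1 := by
    have h1 := Subgroup.card_dvd_of_injective f hf
    rwa [IsCyclic.card_mulAut, Nat.card_zpowers, hc, Nat.totient_prime hq.out] at h1
  -- arithmetic contradiction
  have hmul : Nat.card (T : Subgroup H) * q = Nat.card H := by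
    have := (T : Subgroup H).card_mul_index
    rw [hsylidx T] at this
    exact this
  have hp2 : p ∣ (q - 2)! := (Nat.Prime.dvd_factorial hp.out).mpr (by omega)
  have h1 : p * Nat.card (T : Subgroup H) ∣ (q - 2)! * (q - 1) := Nat.mul_dvd_mul hp2 hdvd
  have h2 : (q - 2)! * (q - 1) = (q - 1)! := by
    have : q - 1 = (q - 2) + 1 := by omega
    rw [this, Nat.factorial_succ]; ring
  have h3 : (q - 1)! ∣ q ! := Nat.factorial_dvd_factorial (by omega)
  have h4 : p * Nat.card (T : Subgroup H) ∣ (H.index * q) * Nat.card (T : Subgroup H) := by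
    have : (H.index * q) * Nat.card (T : Subgroup H) = q ! := by
      rw [← hidx, ← hmul]; ring
    rw [this, ← h2] at *
    exact h1.trans (h2 ▸ h3)
  have h5 : p ∣ H.index * q := Nat.dvd_of_mul_dvd_mul_right Nat.card_pos h4
  rcases (Nat.Prime.dvd_mul hp.out).mp h5 with h6 | h6
  · exact hH2 p hp.out hpπ h6
  · exact hpndq h6

end SymPrime

section Easy

variable {G : Type*} [Group G] [Finite G] (π : Set ℕ)

omit [Finite G] in
theorem isPiSubgroup_bot : Cfsg.IsPiSubgroup π (⊥ : Subgroup G) := by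
  intro p hp hd
  rw [Subgroup.card_bot] at hd
  exact absurd (Nat.dvd_one.mp hd) hp.one_lt.ne'

omit [Finite G] in
theorem isPiSubgroup_of_isPGroup {p : ℕ} (hp : p.Prime) (hpπ : p ∈ π) {L : Subgroup G}
    [Finite L] (hL : IsPGroup p L) : Cfsg.IsPiSubgroup π L := by
  haveI : Fact p.Prime := ⟨hp⟩
  intro ℓ hℓ hd
  obtain ⟨k, hk⟩ := IsPGroup.iff_card.mp hL
  rw [hk] at hd
  rw [(Nat.prime_dvd_prime_iff_eq hℓ hp).mp (hℓ.dvd_of_dvd_pow hd)]
  exact hpπ

/-- `D_π ⇒ E_π` for finite groups. -/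
theorem isEPiGroup_of_isDPiGroup (h : Cfsg.IsDPiGroup π G) : Cfsg.IsEPiGroup π G := by
  obtain ⟨M, -, hM⟩ := Finite.exists_le_maximal (p := Cfsg.IsPiSubgroup π)
    (isPiSubgroup_bot (G := G) π)
  refine ⟨M, hM.prop, ?_⟩
  intro p hp hpπ hd
  haveI : Fact p.Prime := ⟨hp⟩
  let P : Sylow p G := default
  have hP : Cfsg.IsPiSubgroup π (P : Subgroup G) := isPiSubgroup_of_isPGroup π hp hpπ P.2
  obtain ⟨M', hPM', hM'⟩ := Finite.exists_le_maximal (p := Cfsg.IsPiSubgroup π) hP
  obtain ⟨g, hg⟩ := h M M' hM hM'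
  have hidx : M'.index = M.index := by
    rw [hg]; exact Subgroup.index_map_equiv M (MulAut.conj g)
  have : M.index ∣ (P : Subgroup G).index := by
    rw [← hidx]; exact Subgroup.index_dvd_of_le hPM'
  exact P.not_dvd_index (hd.trans this)

omit [Finite G] in
theorem isEPiGroup_of_all (hall : ∀ p : ℕ, p.Prime → p ∈ π) : Cfsg.IsEPiGroup π G :=
  ⟨⊤, fun p hp _ => hall p hp, fun p hp _ hd => by
    rw [Subgroup.index_top] at hd; exact hp.one_lt.ne' (Nat.dvd_one.mp hd)⟩

omit [Finite G] in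
theorem isDPiGroup_of_all (hall : ∀ p : ℕ, p.Prime → p ∈ π) : Cfsg.IsDPiGroup π G := by
  intro H K hH hK
  have htop : Cfsg.IsPiSubgroup π (⊤ : Subgroup G) := fun p hp _ => hall p hp
  have h1 : H = ⊤ := top_le_iff.mp (hH.le_of_ge htop le_top)
  have h2 : K = ⊤ := top_le_iff.mp (hK.le_of_ge htop le_top)
  refine ⟨1, ?_⟩
  rw [h1, h2]
  exact (Subgroup.map_top_of_surjective _ (MulAut.conj (1 : G)).surjective).symm

theorem isEPiGroup_of_subsingleton
    (hone : ∀ p q : ℕ, p.Prime → q.Prime → p ∈ π → q ∈ π → p = q) : Cfsg.IsEPiGroup π G := by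
  by_cases hex : ∃ p : ℕ, p.Prime ∧ p ∈ π
  · obtain ⟨p, hp, hpπ⟩ := hex
    haveI : Fact p.Prime := ⟨hp⟩
    let P : Sylow p G := default
    refine ⟨P, isPiSubgroup_of_isPGroup π hp hpπ P.2, ?_⟩
    intro ℓ hℓ hℓπ hd
    rw [hone ℓ p hℓ hp hℓπ hpπ] at hd
    exact P.not_dvd_index hd
  · refine ⟨⊥, isPiSubgroup_bot π, fun ℓ hℓ hℓπ _ => hex ⟨ℓ, hℓ, hℓπ⟩⟩

theorem isDPiGroup_of_subsingleton
    (hone : ∀ p q : ℕ, p.Prime → q.Prime → p ∈ π → q ∈ π → p = q) : Cfsg.IsDPiGroup π G := by
  intro H K hH hK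
  by_cases hex : ∃ p : ℕ, p.Prime ∧ p ∈ π
  · obtain ⟨p, hp, hpπ⟩ := hex
    haveI : Fact p.Prime := ⟨hp⟩
    have hiff : ∀ L : Subgroup G, Cfsg.IsPiSubgroup π L → IsPGroup p L := by
      intro L hL
      have h0 : Nat.card L ≠ 0 := Nat.card_pos.ne'
      have := Nat.eq_prime_pow_of_unique_prime_dvd h0
        (fun {d} hd hdvd => hone d p hd hp (hL d hd hdvd) hpπ)
      exact IsPGroup.of_card this
    let PH : Sylow p G := ⟨H, hiff H hH.prop, fun {Q} hQ hle =>
      le_antisymm (hH.le_of_ge (isPiSubgroup_of_isPGroup π hp hpπ hQ) hle) hle⟩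
    let PK : Sylow p G := ⟨K, hiff K hK.prop, fun {Q} hQ hle =>
      le_antisymm (hK.le_of_ge (isPiSubgroup_of_isPGroup π hp hpπ hQ) hle) hle⟩
    obtain ⟨g, hg⟩ := MulAction.exists_smul_eq G PH PK
    refine ⟨g, ?_⟩
    ext x
    have h1 : x ∈ K ↔ x ∈ (g • PH : Sylow p G) := by rw [hg]; rfl
    rw [h1, Cfsg.Agent.Lib.Helper29.mem_smul_sylow_iff, Subgroup.mem_map]
    constructor
    · intro hx
      exact ⟨g⁻¹ * x * g, hx, by simp [MulAut.conj_apply, mul_assoc]⟩
    · rintro ⟨y, hy, rfl⟩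
      have : g⁻¹ * (MulAut.conj g).toMonoidHom y * g = y := by
        simp [MulAut.conj_apply, mul_assoc]
      rw [this]; exact hy
  · have hbot : ∀ L : Subgroup G, Cfsg.IsPiSubgroup π L → L = ⊥ := by
      intro L hL
      rw [← Subgroup.card_eq_one]
      by_contra hne
      obtain ⟨ℓ, hℓ, hd⟩ := Nat.exists_prime_and_dvd hne
      exact hex ⟨ℓ, hℓ, hL ℓ hℓ hd⟩
    refine ⟨1, ?_⟩
    rw [hbot H hH.prop, hbot K hK.prop, Subgroup.map_bot]

end Easy

/-- The condition: `π` contains at most one prime, or every prime. -/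
def Cond (π : Set ℕ) : Prop :=
  (∀ p q : ℕ, p.Prime → q.Prime → p ∈ π → q ∈ π → p = q) ∨ ∀ p : ℕ, p.Prime → p ∈ π

theorem exists_counterexample (π : Set ℕ) (hnot : ¬ Cond π) :
    ∃ (G : Type) (_ : Group G) (_ : Finite G), ¬ Cfsg.IsEPiGroup π G := by
  classical
  unfold Cond at hnot
  push Not at hnot
  obtain ⟨⟨p, q, hp, hq, hpπ, hqπ, hpq⟩, ⟨r, hr, hrπ⟩⟩ := hnot
  have hex1 : ∃ n : ℕ, n.Prime ∧ n ∈ π := ⟨p, hp, hpπ⟩
  set p₀ := Nat.find hex1 with hp₀
  have hp₀p : p₀.Prime := (Nat.find_spec hex1).1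
  have hp₀π : p₀ ∈ π := (Nat.find_spec hex1).2
  have hp₀min : ∀ n : ℕ, n.Prime → n ∈ π → p₀ ≤ n := fun n hn hnπ => Nat.find_min' hex1 ⟨hn, hnπ⟩
  have hex2 : ∃ n : ℕ, n.Prime ∧ n ∈ π ∧ n ≠ p₀ := by
    by_cases h : p = p₀
    · exact ⟨q, hq, hqπ, fun hq0 => hpq (h.trans hq0.symm)⟩
    · exact ⟨p, hp, hpπ, h⟩
  set q₀ := Nat.find hex2 with hq₀
  have hq₀p : q₀.Prime := (Nat.find_spec hex2).1
  have hq₀π : q₀ ∈ π := (Nat.find_spec hex2).2.1
  have hq₀ne : q₀ ≠ p₀ := (Nat.find_spec hex2).2.2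
  have hq₀min : ∀ n : ℕ, n.Prime → n ∈ π → n ≠ p₀ → q₀ ≤ n :=
    fun n hn hnπ hne => Nat.find_min' hex2 ⟨hn, hnπ, hne⟩
  have hlt : p₀ < q₀ := lt_of_le_of_ne (hp₀min q₀ hq₀p hq₀π) (Ne.symm hq₀ne)
  have honly : ∀ ℓ : ℕ, ℓ.Prime → ℓ ∈ π → ℓ < q₀ → ℓ = p₀ := by
    intro ℓ hℓ hℓπ hℓq
    by_contra hne
    have := hq₀min ℓ hℓ hℓπ hne
    omega
  rcases Nat.lt_or_ge q₀ (p₀ + 2) with hcase | hcase
  · -- `p₀ = 2`, `q₀ = 3`
    have hq₀e : q₀ = p₀ + 1 := by omega
    have hp2 : p₀ = 2 := by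
      rcases hp₀p.eq_two_or_odd' with h | h
      · exact h
      · exfalso
        have h2 : 2 ∣ q₀ := by
          rw [hq₀e]; obtain ⟨k, hk⟩ := h; exact ⟨k + 1, by omega⟩
        have := (Nat.prime_dvd_prime_iff_eq Nat.prime_two hq₀p).mp h2
        have := hp₀p.two_le
        omega
    have hq3 : q₀ = 3 := by omega
    have hex3 : ∃ n : ℕ, n.Prime ∧ n ∉ π := ⟨r, hr, hrπ⟩
    set r₀ := Nat.find hex3 with hr₀
    have hr₀p : r₀.Prime := (Nat.find_spec hex3).1
    have hr₀π : r₀ ∉ π := (Nat.find_spec hex3).2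
    have hr₀min : ∀ ℓ : ℕ, ℓ.Prime → ℓ < r₀ → ℓ ∈ π := by
      intro ℓ hℓ hℓr
      by_contra hℓπ
      have := Nat.find_min' hex3 ⟨hℓ, hℓπ⟩
      omega
    have h2π : 2 ∈ π := hp2 ▸ hp₀π
    have h3π : 3 ∈ π := hq3 ▸ hq₀π
    have hr5 : 5 ≤ r₀ := by
      have h2 := hr₀p.two_le
      have hne2 : r₀ ≠ 2 := fun h => hr₀π (h ▸ h2π)
      have hne3 : r₀ ≠ 3 := fun h => hr₀π (h ▸ h3π)
      have hne4 : r₀ ≠ 4 := fun h => by
        rw [h] at hr₀p; exact absurd hr₀p (by norm_num)
      omega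
    exact ⟨alternatingGroup (Fin (r₀ + 1)), inferInstance, inferInstance,
      no_hall_alternating π r₀ hr₀p hr5 hr₀π hr₀min⟩
  · haveI : Fact p₀.Prime := ⟨hp₀p⟩
    haveI : Fact q₀.Prime := ⟨hq₀p⟩
    exact ⟨Equiv.Perm (Fin q₀), inferInstance, inferInstance,
      no_hall_perm_prime π p₀ q₀ hcase hp₀π hq₀π honly⟩

/-- Statement S3878. -/
theorem main (π : Set ℕ) :
    ((∀ (G : Type) [Group G] [Finite G], Cfsg.IsEPiGroup π G) ↔
      ((∀ p q : ℕ, p.Prime → q.Prime → p ∈ π → q ∈ π → p = q) ∨ ∀ p : ℕ, p.Prime → p ∈ π)) ∧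
    ((∀ (G : Type) [Group G] [Finite G], Cfsg.IsDPiGroup π G) ↔
      ((∀ p q : ℕ, p.Prime → q.Prime → p ∈ π → q ∈ π → p = q) ∨ ∀ p : ℕ, p.Prime → p ∈ π)) := by
  refine ⟨⟨fun h => ?_, fun h G _ _ => ?_⟩, ⟨fun h => ?_, fun h G _ _ => ?_⟩⟩
  · by_contra hnot
    obtain ⟨G, hG1, hG2, hG⟩ := exists_counterexample π hnot
    exact hG (h G)
  · rcases h with h | h
    · exact isEPiGroup_of_subsingleton π h
    · exact isEPiGroup_of_all π h
  · by_contra hnot
    obtain ⟨G, hG1, hG2, hG⟩ := exists_counterexample π hnot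
    exact hG (isEPiGroup_of_isDPiGroup π (h G))
  · rcases h with h | h
    · exact isDPiGroup_of_subsingleton π h
    · exact isDPiGroup_of_all π h

end Cfsg.Agent.Lib.Helper20.HallPi
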