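import Mathlib
import Cfsg.Agent.S1140

/-!
Helper lemmas (helper20): Higman's computation for Suzuki `2`-groups with `|P| = |Z(P)|²`.
A quadratic map `q : F → F` on a finite field of characteristic two which is semilinear for a
generator `μ` of `Fˣ` (`q (μ a) = lam * q a`) and has nonzero polar form is of the shape
`q a = c * σ a * τ a` for two distinct field automorphisms `σ`, `τ`.
-/

set_option autoImplicit false

namespace Cfsg.Agent.Lib.Helper20.HigmanQ

open Cfsg.Agent.S1140

section

variable {F : Type*} [Field F] [Fintype F] [CharP F 2]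

/-- one-variable independence of automorphisms -/
theorem indep1 [Fintype (F ≃+* F)] (g : (F ≃+* F) → F)
    (h : ∀ x : F, ∑ σ : F ≃+* F, g σ * σ x = 0) : ∀ σ, g σ = 0 := by
  have hli := li_fun (F := F)
  rw [Fintype.linearIndependent_iff] at hli
  apply hli g
  funext x
  rw [Finset.sum_apply]
  simp only [Pi.smul_apply, smul_eq_mul, Pi.zero_apply]
  exact h x

/-- two-variable independence of automorphisms -/
theorem indep2 [Fintype (F ≃+* F)] (C : (F ≃+* F) × (F ≃+* F) → F)
    (h : ∀ x y : F, ∑ p : (F ≃+* F) × (F ≃+* F), C p * (p.1 x * p.2 y) = 0) : ∀ p, C p = 0 := by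
  have h1 : ∀ (y : F) (σ : F ≃+* F), ∑ τ : F ≃+* F, C (σ, τ) * τ y = 0 := by
    intro y
    apply indep1
    intro x
    have := h x y
    rw [Fintype.sum_prod_type] at this
    rw [← this]
    refine Finset.sum_congr rfl (fun σ _ => ?_)
    rw [Finset.sum_mul]
    refine Finset.sum_congr rfl (fun τ _ => ?_)
    ring
  rintro ⟨σ, τ⟩
  exact indep1 (fun τ => C (σ, τ)) (fun y => h1 y σ) τ

end

section

variable {F : Type*} [Field F] [Fintype F] [CharP F 2]

omit [Fintype F] [CharP F 2] in
/-- values at powers of a generator -/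
theorem prod_eq_of_gen (μ : F) (hμ : ∀ x : F, x ≠ 0 → ∃ i : ℕ, x = μ ^ i) (σ τ σ' τ' : F ≃+* F)
    (h : σ μ * τ μ = σ' μ * τ' μ) : ∀ x, σ x * τ x = σ' x * τ' x := by
  intro x
  by_cases hx : x = 0
  · rw [hx]; simp
  · obtain ⟨i, rfl⟩ := hμ x hx
    rw [map_pow, map_pow, map_pow, map_pow, ← mul_pow, ← mul_pow, h]

omit [Fintype F] [CharP F 2] in
theorem sum_eq_of_prod_eq (σ τ σ' τ' : F ≃+* F) (h : ∀ x, σ x * τ x = σ' x * τ' x) :
    ∀ a, σ a + τ a = σ' a + τ' a := by
  intro a
  have h1 := h (a + 1)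
  have h0 := h a
  simp only [map_add, map_one] at h1
  linear_combination h1 - h0

/-- an unordered pair of automorphisms is determined by the product function -/
theorem pair_unique [Fintype (F ≃+* F)] (σ τ σ' τ' : F ≃+* F)
    (h : ∀ x, σ x * τ x = σ' x * τ' x) : (σ = σ' ∧ τ = τ') ∨ (σ = τ' ∧ τ = σ') := by
  classical
  have hs := sum_eq_of_prod_eq σ τ σ' τ' h
  by_cases h1 : σ = σ'
  · left
    refine ⟨h1, ?_⟩
    ext a
    have := hs a
    rw [h1] at this
    exact add_left_cancel this
  by_cases h2 : σ = τ'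
  · right
    refine ⟨h2, ?_⟩
    ext a
    have := hs a
    rw [h2, add_comm (σ' a)] at this
    exact add_left_cancel this
  exfalso
  have key := indep1 (fun ρ : F ≃+* F => (if ρ = σ then (1 : F) else 0) +
      (if ρ = τ then 1 else 0) - (if ρ = σ' then 1 else 0) - (if ρ = τ' then 1 else 0)) (by
    intro x
    simp only [sub_mul, add_mul, ite_mul, one_mul, zero_mul, Finset.sum_sub_distrib,
      Finset.sum_add_distrib, Finset.sum_ite_eq', Finset.mem_univ, if_true]
    rw [hs x]; ring)
  have k1 := key σ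
  simp only [if_true, if_neg h1, if_neg h2, sub_zero] at k1
  by_cases h3 : σ = τ
  · have h4 : σ' = τ' := by
      ext a
      have := hs a
      rw [← h3, CharTwo.add_self_eq_zero] at this
      exact CharTwo.add_eq_zero.mp this.symm
    apply h1
    ext a
    have := h a
    rw [← h3, ← h4, ← sq, ← sq] at this
    exact CharTwo.sq_inj.mp this
  · rw [if_neg h3, add_zero] at k1
    exact one_ne_zero k1

end

section

variable {F : Type*} [Field F] [Fintype F] [CharP F 2]

/-- Higman's computation -/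
theorem main (q : F → F) (μ lam : F)
    (hμ : ∀ x : F, x ≠ 0 → ∃ i : ℕ, x = μ ^ i)
    (hq : ∀ a, q (μ * a) = lam * q a)
    (B : F →+ F →+ F) (hB : ∀ a b, B a b = q (a + b) + q a + q b)
    (hB0 : ∃ a b, B a b ≠ 0) :
    ∃ (c : F) (σ τ : F ≃+* F), c ≠ 0 ∧ σ ≠ τ ∧ ∀ a, q a = c * (σ a * τ a) := by
  classical
  haveI : Finite (F ≃+* F) := finite_aut
  letI : Fintype (F ≃+* F) := Fintype.ofFinite _
  have hq0 : q 0 = 0 := by
    have h := hB 0 0
    rw [map_zero, add_zero, CharTwo.add_self_eq_zero, zero_add] at h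
    exact h.symm
  -- representation of B
  obtain ⟨s, c0, hc0⟩ := biadd_repr B
  obtain ⟨C, hC⟩ : ∃ C : (F ≃+* F) × (F ≃+* F) → F,
      ∀ x y, B x y = ∑ p, C p * (p.1 x * p.2 y) := by
    refine ⟨fun p => if p ∈ s then c0 p else 0, fun x y => ?_⟩
    rw [hc0 x y]
    rw [← Finset.sum_subset (Finset.subset_univ s)]
    · refine Finset.sum_congr rfl (fun p hp => ?_)
      dsimp only
      rw [if_pos hp]
    · intro p _ hp
      dsimp only
      rw [if_neg hp, zero_mul]
  -- equivariance of B
  have hBeq : ∀ a b, B (μ * a) (μ * b) = lam * B a b := by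
    intro a b
    rw [hB, hB, ← mul_add, hq, hq, hq]; ring
  have hcoef : ∀ p, C p * (p.1 μ * p.2 μ - lam) = 0 := by
    apply indep2
    intro x y
    have h1 := hBeq x y
    rw [hC, hC, Finset.mul_sum, ← sub_eq_zero, ← Finset.sum_sub_distrib] at h1
    rw [← h1]
    refine Finset.sum_congr rfl (fun p _ => ?_)
    rw [map_mul, map_mul]; ring
  obtain ⟨a0, b0, hab⟩ := hB0
  obtain ⟨p0, hp0⟩ : ∃ p0, C p0 ≠ 0 := by
    by_contra hcon
    push Not at hcon
    apply hab
    rw [hC]
    exact Finset.sum_eq_zero (fun p _ => by rw [hcon p, zero_mul])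
  have hlam : p0.1 μ * p0.2 μ = lam := by
    rcases mul_eq_zero.mp (hcoef p0) with h | h
    · exact absurd h hp0
    · exact sub_eq_zero.mp h
  have hsupp : ∀ p, C p ≠ 0 → p = p0 ∨ p = p0.swap := by
    intro p hp
    have hpl : p.1 μ * p.2 μ = lam := by
      rcases mul_eq_zero.mp (hcoef p) with h | h
      · exact absurd h hp
      · exact sub_eq_zero.mp h
    rcases pair_unique p.1 p.2 p0.1 p0.2
      (prod_eq_of_gen μ hμ _ _ _ _ (hpl.trans hlam.symm)) with ⟨h1, h2⟩ | ⟨h1, h2⟩
    · left; exact Prod.ext h1 h2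
    · right; exact Prod.ext h1 h2
  have hB11 : B 1 1 = 0 := by
    rw [hB, CharTwo.add_self_eq_zero, hq0, zero_add, CharTwo.add_self_eq_zero]
  have hne : p0.1 ≠ p0.2 := by
    intro heq
    have hsw : p0.swap = p0 := Prod.ext heq.symm heq
    have : B 1 1 = C p0 * (p0.1 1 * p0.2 1) := by
      rw [hC]
      apply Finset.sum_eq_single p0
      · intro p _ hp
        by_cases hCp : C p = 0
        · rw [hCp, zero_mul]
        · rcases hsupp p hCp with h | h
          · exact absurd h hp
          · rw [hsw] at h; exact absurd h hp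
      · intro h; exact absurd (Finset.mem_univ _) h
    rw [hB11, map_one, map_one, mul_one, mul_one] at this
    exact hp0 this.symm
  have hswne : p0 ≠ p0.swap := by
    intro h
    apply hne
    have := congrArg Prod.fst h
    simpa using this
  have hBform : ∀ a b, B a b = C p0 * (p0.1 a * p0.2 b) + C p0.swap * (p0.2 a * p0.1 b) := by
    intro a b
    rw [hC]
    rw [Finset.sum_eq_add p0 p0.swap hswne]
    · rfl
    · intro p _ hp
      by_cases hCp : C p = 0
      · rw [hCp, zero_mul]
      · rcases hsupp p hCp with h | h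
        · exact absurd h hp.1
        · exact absurd h hp.2
    · intro h; exact absurd (Finset.mem_univ _) h
    · intro h; exact absurd (Finset.mem_univ _) h
  have hc2 : C p0.swap = C p0 := by
    have := hBform 1 1
    rw [hB11] at this
    simp only [map_one, mul_one] at this
    exact (CharTwo.add_eq_zero.mp this.symm).symm
  obtain ⟨c, hcdef⟩ : ∃ c : F, c = C p0 := ⟨_, rfl⟩
  obtain ⟨σ0, hσ0⟩ : ∃ σ0 : F ≃+* F, σ0 = p0.1 := ⟨_, rfl⟩
  obtain ⟨τ0, hτ0⟩ : ∃ τ0 : F ≃+* F, τ0 = p0.2 := ⟨_, rfl⟩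
  rw [← hσ0, ← hτ0] at hlam hne
  have hBform' : ∀ a b, B a b = c * (σ0 a * τ0 b + τ0 a * σ0 b) := by
    intro a b
    rw [hBform, hc2, ← hcdef, ← hσ0, ← hτ0]; ring
  -- the additive remainder
  have hqadd : ∀ a b, q (a + b) = B a b + q a + q b := by
    intro a b
    have h1 := hB a b
    have e1 := CharTwo.add_self_eq_zero (q a)
    have e2 := CharTwo.add_self_eq_zero (q b)
    linear_combination -h1 - e1 - e2
  let A : F →+ F := AddMonoidHom.mk' (fun a => q a + c * (σ0 a * τ0 a)) (by
    intro a b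
    simp only [map_add]
    rw [hqadd, hBform']
    have e := CharTwo.add_self_eq_zero (c * (σ0 a * τ0 b + τ0 a * σ0 b))
    linear_combination e)
  have hAdef : ∀ a, A a = q a + c * (σ0 a * τ0 a) := fun a => rfl
  have hAeq : ∀ a, A (μ * a) = lam * A a := by
    intro a
    rw [hAdef, hAdef, hq, map_mul, map_mul, ← hlam]; ring
  obtain ⟨sA, d0, hd0⟩ := add_repr A
  obtain ⟨Dc, hDc⟩ : ∃ Dc : (F ≃+* F) → F, ∀ x, A x = ∑ σ, Dc σ * σ x := by
    refine ⟨fun σ => if σ ∈ sA then d0 σ else 0, fun x => ?_⟩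
    rw [hd0 x]
    rw [← Finset.sum_subset (Finset.subset_univ sA)]
    · refine Finset.sum_congr rfl (fun p hp => ?_)
      dsimp only
      rw [if_pos hp]
    · intro p _ hp
      dsimp only
      rw [if_neg hp, zero_mul]
  have hcoefA : ∀ σ, Dc σ * (σ μ - lam) = 0 := by
    apply indep1
    intro x
    have h1 := hAeq x
    rw [hDc, hDc, Finset.mul_sum, ← sub_eq_zero, ← Finset.sum_sub_distrib] at h1
    rw [← h1]
    refine Finset.sum_congr rfl (fun σ _ => ?_)
    rw [map_mul]; ring
  have hDc0 : ∀ σ, Dc σ = 0 := by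
    intro σ1
    by_contra hne1
    have h1 : σ1 μ = lam := by
      rcases mul_eq_zero.mp (hcoefA σ1) with h | h
      · exact absurd h hne1
      · exact sub_eq_zero.mp h
    have h2 : ∀ x, σ1 x = σ0 x * τ0 x := by
      intro x
      by_cases hx : x = 0
      · rw [hx]; simp
      · obtain ⟨i, rfl⟩ := hμ x hx
        rw [map_pow, map_pow, map_pow, ← mul_pow, h1, hlam]
    apply hne
    ext a
    have e1 := h2 (a + 1)
    have e0 := h2 a
    simp only [map_add, map_one] at e1
    have : σ0 a + τ0 a = 0 := by linear_combination e0 - e1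
    exact CharTwo.add_eq_zero.mp this
  refine ⟨c, σ0, τ0, by rw [hcdef]; exact hp0, hne, fun a => ?_⟩
  have hA0 : A a = 0 := by
    rw [hDc]
    exact Finset.sum_eq_zero (fun σ _ => by rw [hDc0 σ, zero_mul])
  rw [hAdef] at hA0
  exact CharTwo.add_eq_zero.mp hA0

end

section

variable {F : Type*} [Field F] [Fintype F] [CharP F 2]

theorem sum_range_even_odd {M : Type*} [AddCommMonoid M] (f : ℕ → M) (m : ℕ) :
    ∑ j ∈ Finset.range (m + m), f j =
      ∑ i ∈ Finset.range m, f (2 * i) + ∑ i ∈ Finset.range m, f (2 * i + 1) := by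
  induction m with
  | zero => simp
  | succ m ih =>
    have h : m + 1 + (m + 1) = (m + m) + 1 + 1 := by ring
    rw [h, Finset.sum_range_succ, Finset.sum_range_succ, ih, Finset.sum_range_succ,
      Finset.sum_range_succ, ← two_mul]
    abel

/-- if `a ↦ a * φ a` is injective, then `φ` has odd order -/
theorem odd_orderOf_of_injective (φ : F ≃+* F)
    (hinj : Function.Injective (fun a : F => a * φ a)) : Odd (orderOf φ) := by
  classical
  haveI : Finite (F ≃+* F) := finite_aut
  by_contra hodd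
  rw [Nat.not_odd_iff_even] at hodd
  obtain ⟨m, hm⟩ := hodd
  have hpos : 0 < orderOf φ := orderOf_pos φ
  have hm0 : 0 < m := by omega
  have hli := li_fun (F := F)
  have hinjpow : Function.Injective (fun j : Fin (m + m) => φ ^ (j : ℕ)) := by
    intro i j hij
    have hi : (i : ℕ) ∈ Set.Iio (orderOf φ) := by rw [hm]; exact i.2
    have hj : (j : ℕ) ∈ Set.Iio (orderOf φ) := by rw [hm]; exact j.2
    exact Fin.ext (pow_injOn_Iio_orderOf hi hj hij)
  have hli2 := hli.comp _ hinjpow
  rw [Fintype.linearIndependent_iff] at hli2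
  obtain ⟨w, hw⟩ : ∃ w : F, ∑ j : Fin (m + m), (φ ^ (j : ℕ)) w ≠ 0 := by
    by_contra hcon
    push Not at hcon
    have := hli2 (fun _ => 1) (by
      funext x
      rw [Finset.sum_apply]
      simp only [Function.comp, one_smul, Pi.zero_apply]
      exact hcon x) ⟨0, by omega⟩
    exact one_ne_zero this
  rw [Fin.sum_univ_eq_sum_range (fun j => (φ ^ j) w) (m + m), sum_range_even_odd] at hw
  have hstep : ∀ j : ℕ, φ ((φ ^ j) w) = (φ ^ (j + 1)) w := by
    intro j
    rw [pow_succ']
    rfl
  obtain ⟨u, hu⟩ : ∃ u : F, u = ∑ i ∈ Finset.range m, (φ ^ (2 * i)) w := ⟨_, rfl⟩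
  have hφu : φ u = ∑ i ∈ Finset.range m, (φ ^ (2 * i + 1)) w := by
    rw [hu, map_sum]
    exact Finset.sum_congr rfl (fun i _ => hstep _)
  have hφφu : φ (φ u) = u := by
    rw [hφu, map_sum]
    have h1 : ∑ i ∈ Finset.range m, φ ((φ ^ (2 * i + 1)) w) =
        ∑ i ∈ Finset.range m, (φ ^ (2 * (i + 1))) w :=
      Finset.sum_congr rfl (fun i _ => by rw [hstep]; congr 2)
    rw [h1]
    have h2 := Finset.sum_range_succ' (fun i => (φ ^ (2 * i)) w) m
    have h3 := Finset.sum_range_succ (fun i => (φ ^ (2 * i)) w) m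
    rw [h3] at h2
    have h4 : (φ ^ (2 * m)) w = (φ ^ (2 * 0)) w := by
      rw [two_mul, ← hm, pow_orderOf_eq_one, mul_zero, pow_zero]
    rw [h4] at h2
    rw [hu]
    exact (add_right_cancel h2).symm
  rw [← hu, ← hφu] at hw
  have hne : u ≠ φ u := by
    intro h
    apply hw
    rw [← h]
    exact CharTwo.add_self_eq_zero u
  have hu0 : u ≠ 0 := by
    intro h
    apply hne
    rw [h, map_zero]
  have hφu0 : φ u ≠ 0 := by
    intro h
    apply hu0
    exact (map_eq_zero_iff φ φ.injective).mp h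
  have ht : (u * (φ u)⁻¹) * φ (u * (φ u)⁻¹) = 1 * φ 1 := by
    rw [map_mul, map_inv₀, hφφu, map_one, mul_one]
    field_simp
  have := hinj ht
  apply hne
  calc u = (u * (φ u)⁻¹) * φ u := by field_simp
    _ = φ u := by rw [this, one_mul]

end

end Cfsg.Agent.Lib.Helper20.HigmanQ
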