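import Cfsg.Agent.Lib.Helper14.HNx.G100

/-!
# S2082 (Out(HN) = 2; owner helper15), LEAF D2 (helper20)

A permutation of the 100 points commuting with `Y = π(y)` and `Y' = π(x⁻¹ y x)` is trivial: `⟨Y, Y'⟩` has the two orbits
(length 50) of the points 0 and 1, and for `b = 0, 1` two words in `Y, Y'` fix `b` and have no other common fixed point.
Words in `Y` (`false`), `Y'` (`true`) are lists of Booleans; certificates found by a python search on the table.
-/

set_option autoImplicit false
set_option maxRecDepth 100000

namespace Cfsg.Agent.Lib.Helper20.HnO

open Cfsg.Agent.Lib.Helper14.HNx
open Cfsg.Agent.Lib.Helper28.TC2Upper Cfsg.Agent.Lib.Helper28.TC2Lower Cfsg.Agent.Lib.Helper28.TC2Range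

/-- the table letters of a word in `Y` (`false` ↦ `[2]`) and `Y'` (`true` ↦ `[0, 2, 1]`) -/
def lett (bs : List Bool) : List ℕ :=
  @List.rec Bool (fun _ => List ℕ) [] (fun b _ ih => cond b (0 :: 2 :: 1 :: ih) (2 :: ih)) bs

theorem lett_nil : lett [] = [] := rfl
theorem lett_cons_false (bs : List Bool) : lett (false :: bs) = 2 :: lett bs := rfl
theorem lett_cons_true (bs : List Bool) : lett (true :: bs) = 0 :: 2 :: 1 :: lett bs := rfl

/-- for every point `q` a word taking `0` or `1` to `q` -/
def d2paths : List (List Bool) := [
  [],
  [],
  [false],
  [false, false],
  [false],
  [true],
  [true, true],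
  [true],
  [true, false],
  [false, true, false, false, false],
  [true, false, true],
  [false, true, false, false, false, true],
  [true, false],
  [true, false, false, true, false],
  [false, true],
  [false, true],
  [false, false, true, false, false],
  [false, true, false, false],
  [false, false, true],
  [true, false, true, false],
  [false, false, true, false, false, false],
  [false, true, true, false, true],
  [true, false, false],
  [true, false, false, true],
  [false, false, true, false, false, false, false],
  [false, true, false],
  [false, false, true, false],
  [true, false, true, false],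
  [false, false, true, true],
  [true, false, true, false, false],
  [false, true, true],
  [true, false, false, false],
  [false, true, true, false],
  [false, true, false, false, false, true, true],
  [true, false, true],
  [false, false, true, false, true, false],
  [true, false, true, true],
  [true, false, true, false, false],
  [false, false, true, true, false],
  [true, false, true, false, false, false, true, false],
  [false, false, true, false, true],
  [false, true, true, false, false, true],
  [false, true, true, true],
  [false, true, true, false, false],
  [true, false, false, true, true, true, false],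
  [true, false, true, true, false, true],
  [false, false, true, false, true, false, false],
  [true, false, true, true, false],
  [false, true, false, false, true],
  [true, false, true, false, false, false],
  [false, false, true, true, false, false],
  [false, true, false, false, true, false, false, false],
  [true, false, true, false, false, false, true],
  [false, false, true, false, true, false, false, true],
  [true, false, false, true, true, false],
  [false, true, true, false, false, false, false],
  [true, false, true, false, false, true],
  [false, true, true, true, false],
  [false, true, true, true, false, false],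
  [true, false, false, true, true],
  [false, true, true, false, false, false],
  [true, false, true, false, false, true, true],
  [false, true, true, false, false, false, true],
  [true, false, false, true, true, true],
  [true, false, true, true, false, false, false, false],
  [true, false, true, true, false, true, true],
  [false, false, true, false, true, false, false, false],
  [true, false, true, true, false, false],
  [false, true, false, false, true, false],
  [true, false, true, true, false, true, true, false],
  [false, true, false, false, true, true],
  [false, true, false, false, true, true, false],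
  [true, false, true, false, false, true],
  [false, false, true, true, false, false, false],
  [false, true, false, false, true, false, false],
  [false, false, true, false, true, false, false, false, false],
  [true, false, false, true, true, false, false],
  [false, false, true, false, true, true],
  [true, false, false, false, true],
  [true, false, false, false, true, false],
  [false, false, true, false, true, true, true, true],
  [false, true, true, false, false, true, true],
  [true, false, true, true, false, false, false, true],
  [true, false, true, true, false, false, false],
  [true, false, true, true, false, true, true, true],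
  [true, false, true, true, false, true, true, true, false],
  [true, false, true, false, false, true, false],
  [false, false, true, false, true, true, false],
  [false, false, true, false, true, true, false, false],
  [false, false, true, false, true, true, true, false],
  [true, false, true, false, false, true, false, false],
  [false, false, true, false, true, true, true],
  [true, false, true, true, false, true, true, true, false, false],
  [false, false, true, true, false, false, true],
  [true, false, true, true, false, false, true],
  [true, false, true, true, false, false, true, false],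
  [false, false, true, true, false, false, true, true],
  [false, false, true, false, true, false, false, false, false, true],
  [true, false, true, false, false, true, false, false, true],
  [false, false, true, false, true, true, false, false, true]]

def d2s0a : List Bool := [true, true]
def d2s0b : List Bool := [true, false, false, true, false, false, true]
def d2s1a : List Bool := [false, false]
def d2s1b : List Bool := [false, true, true, false, true, true, false]

/-- every point is the image of `0` or of `1` under its word -/
noncomputable def d2orbChk : Bool :=
  allLoop (fun q => or (Nat.beq (G100.T.walkT (lett (d2paths.getD q [])) 0) q)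
    (Nat.beq (G100.T.walkT (lett (d2paths.getD q [])) 1) q)) 100

/-- the words `u`, `v` fix `b` and have no other common fixed point -/
noncomputable def d2stabChk (b : ℕ) (u v : List Bool) : Bool :=
  and (and (Nat.beq (G100.T.walkT (lett u) b) b) (Nat.beq (G100.T.walkT (lett v) b) b))
    (allLoop (fun p => or (Nat.beq p b)
      (not (and (Nat.beq (G100.T.walkT (lett u) p) p) (Nat.beq (G100.T.walkT (lett v) p) p)))) 100)

theorem d2orbChk_true : d2orbChk = true := by decide +kernel
theorem d2stabChk0_true : d2stabChk 0 d2s0a d2s0b = true := by decide +kernel
theorem d2stabChk1_true : d2stabChk 1 d2s1a d2s1b = true := by decide +kernel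

/-- the action of a word in `Y`, `Y'` (first letter first) -/
def d2act (Y Y' : Equiv.Perm (Fin G100.T.n)) : List Bool → Fin G100.T.n → Fin G100.T.n
  | [], p => p
  | b :: bs, p => d2act Y Y' bs ((cond b Y' Y) p)

theorem d2act_val (Y Y' : Equiv.Perm (Fin G100.T.n))
    (hY : ∀ p : Fin G100.T.n, (Y p).val = G100.T.walkT [2] p.val)
    (hY' : ∀ p : Fin G100.T.n, (Y' p).val = G100.T.walkT [0, 2, 1] p.val)
    (bs : List Bool) (p : Fin G100.T.n) :
    (d2act Y Y' bs p).val = G100.T.walkT (lett bs) p.val := by
  induction bs generalizing p with
  | nil => rfl
  | cons b bs ih =>
    cases b
    · show (d2act Y Y' bs (Y p)).val = _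
      rw [ih, hY, lett_cons_false]
      simp only [Cfsg.Agent.Lib.Helper28.TC2Lower.Table.walkT_cons, Cfsg.Agent.Lib.Helper28.TC2Lower.Table.walkT_nil]
    · show (d2act Y Y' bs (Y' p)).val = _
      rw [ih, hY', lett_cons_true]
      simp only [Cfsg.Agent.Lib.Helper28.TC2Lower.Table.walkT_cons, Cfsg.Agent.Lib.Helper28.TC2Lower.Table.walkT_nil]

theorem d2act_comm (Y Y' c : Equiv.Perm (Fin G100.T.n)) (h1 : c * Y = Y * c) (h2 : c * Y' = Y' * c)
    (bs : List Bool) (p : Fin G100.T.n) : c (d2act Y Y' bs p) = d2act Y Y' bs (c p) := by
  induction bs generalizing p with
  | nil => rfl
  | cons b bs ih =>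
    cases b
    · show c (d2act Y Y' bs (Y p)) = d2act Y Y' bs (Y (c p))
      rw [ih]
      have : c (Y p) = Y (c p) := by
        have := congrArg (fun f : Equiv.Perm (Fin G100.T.n) => f p) h1
        simpa only [Equiv.Perm.mul_apply] using this
      rw [this]
    · show c (d2act Y Y' bs (Y' p)) = d2act Y Y' bs (Y' (c p))
      rw [ih]
      have : c (Y' p) = Y' (c p) := by
        have := congrArg (fun f : Equiv.Perm (Fin G100.T.n) => f p) h2
        simpa only [Equiv.Perm.mul_apply] using this
      rw [this]

/-- **LEAF D2** of `notes/S2082_leavesD.lean`. -/
theorem D2 (Y Y' c : Equiv.Perm (Fin G100.T.n))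
    (hY : ∀ p : Fin G100.T.n, (Y p).val = G100.T.walkT [2] p.val)
    (hY' : ∀ p : Fin G100.T.n, (Y' p).val = G100.T.walkT [0, 2, 1] p.val)
    (h1 : c * Y = Y * c) (h2 : c * Y' = Y' * c) : c = 1 := by
  have key : ∀ (b : ℕ) (hb : b < G100.T.n) (u v : List Bool), d2stabChk b u v = true →
      c ⟨b, hb⟩ = ⟨b, hb⟩ := by
    intro b hb u v hchk
    unfold d2stabChk at hchk
    rw [Bool.and_eq_true, Bool.and_eq_true, Data.nbeq_iff, Data.nbeq_iff, allLoop_eq_true] at hchk
    obtain ⟨⟨hu, hv⟩, hall⟩ := hchk
    have hub : d2act Y Y' u ⟨b, hb⟩ = ⟨b, hb⟩ := Fin.ext (by rw [d2act_val Y Y' hY hY']; exact hu)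
    have hvb : d2act Y Y' v ⟨b, hb⟩ = ⟨b, hb⟩ := Fin.ext (by rw [d2act_val Y Y' hY hY']; exact hv)
    have hcu : d2act Y Y' u (c ⟨b, hb⟩) = c ⟨b, hb⟩ := by rw [← d2act_comm Y Y' c h1 h2, hub]
    have hcv : d2act Y Y' v (c ⟨b, hb⟩) = c ⟨b, hb⟩ := by rw [← d2act_comm Y Y' c h1 h2, hvb]
    have e1 : G100.T.walkT (lett u) (c ⟨b, hb⟩).val = (c ⟨b, hb⟩).val := by
      rw [← d2act_val Y Y' hY hY', hcu]
    have e2 : G100.T.walkT (lett v) (c ⟨b, hb⟩).val = (c ⟨b, hb⟩).val := by
      rw [← d2act_val Y Y' hY hY', hcv]
    have h := hall (c ⟨b, hb⟩).val (c ⟨b, hb⟩).2
    rw [e1, e2, Bool.or_eq_true, Data.nbeq_iff] at h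
    rcases h with h | h
    · exact Fin.ext h
    · exfalso
      have hr : Nat.beq (c ⟨b, hb⟩).val (c ⟨b, hb⟩).val = true := (Data.nbeq_iff _ _).2 rfl
      rw [hr] at h
      simp at h
  have hc0 := key 0 (by decide) d2s0a d2s0b d2stabChk0_true
  have hc1 := key 1 (by decide) d2s1a d2s1b d2stabChk1_true
  apply Equiv.ext
  intro q
  have h := d2orbChk_true
  unfold d2orbChk at h
  rw [allLoop_eq_true] at h
  have hq := h q.val q.2
  rw [Bool.or_eq_true, Data.nbeq_iff, Data.nbeq_iff] at hq
  show c q = q
  rcases hq with hq | hq
  · have e : q = d2act Y Y' (d2paths.getD q.val []) ⟨0, by decide⟩ :=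
      Fin.ext (by rw [d2act_val Y Y' hY hY']; exact hq.symm)
    rw [e, d2act_comm Y Y' c h1 h2, hc0]
  · have e : q = d2act Y Y' (d2paths.getD q.val []) ⟨1, by decide⟩ :=
      Fin.ext (by rw [d2act_val Y Y' hY hY']; exact hq.symm)
    rw [e, d2act_comm Y Y' c h1 h2, hc1]

end Cfsg.Agent.Lib.Helper20.HnO
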