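import Cfsg.Agent.Lib.Helper25.InvAutDefs

/-!
# S3928 leaf E (planner helper25): a normal 2-subgroup `P` not centralized by `x ∈ J` gives a
second element of `J` in the coset `x P`.

`σ y = a y⁻¹ a⁻¹` is an involution of the `P`-conjugacy class of `x` (which has `2 ^ k ≥ 2`
elements) fixing `x`; by parity it has a second fixed point.
-/

set_option autoImplicit false

namespace Cfsg.Agent.Lib.Helper20.IAE

open Cfsg.Agent.Lib.Helper25.InvAut

/-- LEAF E -/
theorem exists_ne_mem_JJ_of_not_commute {H : Type*} [Group H] [Finite H] {a : H}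
    (ha : a * a = 1) (P : Subgroup H) [P.Normal] (hP : IsPGroup 2 P) {x : H} (hx : x ∈ JJ a)
    {u : H} (hu : u ∈ P) (hux : u * x ≠ x * u) :
    ∃ x' ∈ JJ a, x' ≠ x ∧ x⁻¹ * x' ∈ P := by
  classical
  have : Fact (Nat.Prime 2) := ⟨Nat.prime_two⟩
  have hainv : a⁻¹ = a := inv_eq_of_mul_eq_one_right ha
  -- the conjugation action of `P` on `H`
  let act : MulAction P H := MulAction.compHom H ((MulAut.conj (G := H)).comp P.subtype)
  have hsmul : ∀ (w : P) (y : H), w • y = (w : H) * y * (w : H)⁻¹ := fun w y => rfl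
  have hΩ : ∀ y : H, y ∈ MulAction.orbit P x ↔ ∃ w ∈ P, y = w * x * w⁻¹ := by
    intro y
    constructor
    · rintro ⟨w, rfl⟩
      exact ⟨w, w.2, hsmul w x⟩
    · rintro ⟨w, hw, rfl⟩
      exact ⟨⟨w, hw⟩, hsmul ⟨w, hw⟩ x⟩
  have hxΩ : x ∈ MulAction.orbit P x := MulAction.mem_orbit_self x
  -- the class has even cardinality
  obtain ⟨n, hn⟩ := hP.card_orbit (α := H) x
  have hn1 : n ≠ 0 := by
    intro h0
    rw [h0, pow_zero] at hn
    have hsub : Subsingleton (MulAction.orbit P x) :=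
      (Nat.card_eq_one_iff_unique.1 hn).1
    have h1 : u * x * u⁻¹ ∈ MulAction.orbit P x := (hΩ _).2 ⟨u, hu, rfl⟩
    have h2 : (⟨u * x * u⁻¹, h1⟩ : MulAction.orbit P x) = ⟨x, hxΩ⟩ := Subsingleton.elim _ _
    have h3 : u * x * u⁻¹ = x := congrArg Subtype.val h2
    apply hux
    calc u * x = (u * x * u⁻¹) * u := by group
      _ = x * u := by rw [h3]
  have heven : Nat.card (MulAction.orbit P x) ≡ 0 [MOD 2] := by
    rw [hn]
    obtain ⟨k, rfl⟩ := Nat.exists_eq_succ_of_ne_zero hn1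
    rw [pow_succ]
    exact (Nat.mul_mod_left _ 2)
  -- the involution `σ`
  have h1x : a * x⁻¹ * a⁻¹ = x := by
    have h := hx.2
    calc a * x⁻¹ * a⁻¹ = (a * x * a⁻¹)⁻¹ := by group
      _ = x := by rw [h, inv_inv]
  have hσmem : ∀ y ∈ MulAction.orbit P x, a * y⁻¹ * a⁻¹ ∈ MulAction.orbit P x := by
    intro y hy
    obtain ⟨w, hw, rfl⟩ := (hΩ y).1 hy
    refine (hΩ _).2 ⟨a * w * a⁻¹, Subgroup.Normal.conj_mem inferInstance w hw a, ?_⟩
    calc a * (w * x * w⁻¹)⁻¹ * a⁻¹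
        = (a * w * a⁻¹) * (a * x⁻¹ * a⁻¹) * (a * w * a⁻¹)⁻¹ := by group
      _ = (a * w * a⁻¹) * x * (a * w * a⁻¹)⁻¹ := by rw [h1x]
  let f : Function.End (MulAction.orbit P x) := fun y => ⟨a * (y : H)⁻¹ * a⁻¹, hσmem y y.2⟩
  have hf : f ^ 2 ^ 1 = 1 := by
    rw [pow_one, pow_two]
    funext y
    apply Subtype.ext
    show a * (a * (y : H)⁻¹ * a⁻¹)⁻¹ * a⁻¹ = (y : H)
    calc a * (a * (y : H)⁻¹ * a⁻¹)⁻¹ * a⁻¹ = (a * a) * (y : H) * (a * a)⁻¹ := by group
      _ = (y : H) := by rw [ha, inv_one, one_mul, mul_one]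
  have : Fintype (MulAction.orbit P x) := Fintype.ofFinite _
  have hmod := Equiv.Perm.card_fixedPoints_modEq (p := 2) (n := 1) hf
  rw [← Nat.card_eq_fintype_card, ← Nat.card_eq_fintype_card] at hmod
  have hfix0 : Nat.card (Function.fixedPoints f) ≡ 0 [MOD 2] := hmod.symm.trans heven
  -- `x` is a fixed point
  have hxfix : (⟨x, hxΩ⟩ : MulAction.orbit P x) ∈ Function.fixedPoints f := by
    show f ⟨x, hxΩ⟩ = ⟨x, hxΩ⟩
    apply Subtype.ext
    exact h1x
  have hcard : 1 < Nat.card (Function.fixedPoints f) := by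
    have : Nonempty (Function.fixedPoints f) := ⟨⟨_, hxfix⟩⟩
    have hpos : 0 < Nat.card (Function.fixedPoints f) := Nat.card_pos
    have h2 : Nat.card (Function.fixedPoints f) % 2 = 0 := hfix0
    omega
  have : Nontrivial (Function.fixedPoints f) := Finite.one_lt_card_iff_nontrivial.1 hcard
  obtain ⟨⟨y, hyfix⟩, hyne⟩ := exists_ne (⟨_, hxfix⟩ : Function.fixedPoints f)
  obtain ⟨w, hw, hyw⟩ := (hΩ (y : H)).1 y.2
  have hyfix' : a * (y : H)⁻¹ * a⁻¹ = (y : H) := congrArg Subtype.val hyfix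
  refine ⟨(y : H), ⟨?_, ?_⟩, ?_, ?_⟩
  · -- odd order
    rw [hyw]
    have h4 : orderOf (w * x * w⁻¹) = orderOf x := by
      have := orderOf_injective (MulAut.conj w).toMonoidHom (MulAut.conj w).injective x
      simpa using this
    rw [h4]
    exact hx.1
  · -- inverted by `a`
    calc a * (y : H) * a⁻¹ = (a * (y : H)⁻¹ * a⁻¹)⁻¹ := by group
      _ = (y : H)⁻¹ := by rw [hyfix']
  · intro h
    apply hyne
    apply Subtype.ext
    apply Subtype.ext
    exact h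
  · rw [hyw]
    have h5 : x⁻¹ * (w * x * w⁻¹) = (x⁻¹ * w * x⁻¹⁻¹) * w⁻¹ := by group
    rw [h5]
    exact P.mul_mem (Subgroup.Normal.conj_mem inferInstance w hw x⁻¹) (P.inv_mem hw)

end Cfsg.Agent.Lib.Helper20.IAE
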