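import Cfsg.Agent.Lib.Helper25.InvAutDefs
import Cfsg.Agent.Lib.Helper29.DCG6a
import Cfsg.Agent.Lib.Helper7.DCG1

/-!
# S3928 leaf G (planner helper25; twin of helper24): Brauer–Fowler for a nonabelian minimal
normal subgroup `N` of `H`: `|C_H(a)| ≤ c` for an involution-like `a` gives `|N| ≤ (c (c + 1))!`.

`Y = H ⧸ C_H(N)`, `S` the image of `N` (perfect, `C_Y(S) = 1`); `S0233.core` in `Y` gives `x ≠ 1`
with `|Y : C*(x)| ≤ c (c + 1)`; `S ≰ C*(x)`, so by minimality `N` embeds in `Perm (Y ⧸ C*(x))`.
-/

set_option autoImplicit false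

universe u

namespace Cfsg.Agent.Lib.Helper20.IAG

open Cfsg Cfsg.Agent.Lib.Helper13.DC Cfsg.Agent.S0233
open scoped commutatorElement

/-- the Brauer–Fowler element: `x ≠ 1` with `|Y : C*(x)| ≤ c (c + 1)` (extracted from helper29's
`DCG6a.card_simple_le_of_involution`). -/
theorem exists_extCent_index_le {Y : Type u} [Group Y] [Finite Y] (t : Y) (ht : orderOf t = 2)
    (c : ℕ) (hc : Nat.card (Subgroup.centralizer ({t} : Set Y)) ≤ c) :
    ∃ x : Y, x ≠ 1 ∧ (extCent x).index ≤ c * (c + 1) := by
  classical
  have : Fintype Y := Fintype.ofFinite Y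
  have hinv : (invs Y).Nonempty := ⟨t, (mem_invs t).mpr ht⟩
  obtain ⟨x, hx1, -, hlt⟩ := core (G := Y) hinv
  have hcardI : Nat.card {s : Y // orderOf s = 2} = (invs Y).card := by
    rw [Nat.card_eq_fintype_card, Fintype.card_subtype]
    rfl
  have hk := Cfsg.Agent.S0212.card_le_invs_mul_cent t ht
  rw [hcardI] at hk
  set n := (invs Y).card with hn
  set m := Nat.card Y with hm
  set h := (extCent x).index with hh
  have hnpos : 0 < n := Finset.card_pos.mpr hinv
  have hk' : m ≤ n * c := le_trans hk (Nat.mul_le_mul_left _ hc)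
  have h4 : m * (m + n) ≤ n ^ 2 * (c * (c + 1)) := by
    calc m * (m + n) ≤ (n * c) * (n * c + n) :=
          Nat.mul_le_mul hk' (Nat.add_le_add_right hk' n)
      _ = n ^ 2 * (c * (c + 1)) := by ring
  have h5 : h ≤ c * (c + 1) := by
    have h6 : n ^ 2 * (2 * h) < n ^ 2 * (c * (c + 1)) := by
      calc n ^ 2 * (2 * h) = 2 * h * n ^ 2 := by ring
        _ < m * (m + n) := hlt
        _ ≤ _ := h4
    have := lt_of_mul_lt_mul_left h6 (Nat.zero_le _)
    omega
  exact ⟨x, hx1, h5⟩

/-- LEAF G -/
theorem card_le_of_minimal_normal_nonabelian {H : Type u} [Group H] [Finite H] (a : H)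
    (ha : a * a = 1) (c : ℕ) (hc : Nat.card (Subgroup.centralizer ({a} : Set H)) ≤ c)
    (N : Subgroup H) [N.Normal]
    (hmin : ∀ M : Subgroup H, M.Normal → M ≤ N → M = ⊥ ∨ M = N)
    (hnc : ¬ ∀ x ∈ N, ∀ y ∈ N, x * y = y * x) :
    Nat.card N ≤ (c * (c + 1)).factorial := by
  classical
  -- `N ∩ C_H(N) = 1`
  have hNC : N ⊓ Subgroup.centralizer (N : Set H) = ⊥ := by
    rcases hmin (N ⊓ Subgroup.centralizer (N : Set H)) inferInstance inf_le_left with h | h
    · exact h
    · exfalso
      apply hnc
      intro x hx y hy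
      have hxC : x ∈ N ⊓ Subgroup.centralizer (N : Set H) := by
        rw [h]
        exact hx
      exact ((Subgroup.mem_centralizer_iff.1 hxC.2) y hy).symm
  -- `N` is perfect
  have hperfN : ⁅N, N⁆ = N := by
    rcases hmin ⁅N, N⁆ inferInstance (Subgroup.commutator_le_left N N) with h | h
    · exfalso
      apply hnc
      intro x hx y hy
      have h1 : ⁅x, y⁆ ∈ (⁅N, N⁆ : Subgroup H) := Subgroup.commutator_mem_commutator hx hy
      rw [h, Subgroup.mem_bot] at h1
      exact commutatorElement_eq_one_iff_mul_comm.1 h1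
    · exact h
  -- the image `S` of `N` in `Y = H ⧸ C_H(N)`
  have hperfS : ⁅N.map (QuotientGroup.mk' (Subgroup.centralizer (N : Set H))),
      N.map (QuotientGroup.mk' (Subgroup.centralizer (N : Set H)))⁆ =
      N.map (QuotientGroup.mk' (Subgroup.centralizer (N : Set H))) := by
    rw [← Subgroup.map_commutator, hperfN]
  have hcentS : Subgroup.centralizer
      ((N.map (QuotientGroup.mk' (Subgroup.centralizer (N : Set H))) :
        Subgroup (H ⧸ Subgroup.centralizer (N : Set H))) :
        Set (H ⧸ Subgroup.centralizer (N : Set H))) = ⊥ := by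
    rw [eq_bot_iff]
    intro ybar hy
    obtain ⟨y, rfl⟩ := QuotientGroup.mk'_surjective (Subgroup.centralizer (N : Set H)) ybar
    rw [Subgroup.mem_bot]
    show ((y : H) : H ⧸ Subgroup.centralizer (N : Set H)) = 1
    rw [QuotientGroup.eq_one_iff, Subgroup.mem_centralizer_iff]
    intro n hn
    have h1 := (Subgroup.mem_centralizer_iff.1 hy) (QuotientGroup.mk' _ n)
      (Subgroup.mem_map_of_mem _ hn)
    have h2 : ((n * y : H) : H ⧸ Subgroup.centralizer (N : Set H)) = ((y * n : H) : _) := h1
    rw [QuotientGroup.eq] at h2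
    have h3 : (n * y)⁻¹ * (y * n) ∈ N := by
      have h4 : (n * y)⁻¹ * (y * n) = (y⁻¹ * n⁻¹ * y⁻¹⁻¹) * n := by group
      rw [h4]
      exact N.mul_mem (Subgroup.Normal.conj_mem inferInstance n⁻¹ (N.inv_mem hn) y⁻¹) hn
    have h5 : (n * y)⁻¹ * (y * n) ∈ N ⊓ Subgroup.centralizer (N : Set H) := ⟨h3, h2⟩
    rw [hNC, Subgroup.mem_bot] at h5
    exact inv_mul_eq_one.1 h5
  by_cases habar : (QuotientGroup.mk' (Subgroup.centralizer (N : Set H)) a) = 1
  · -- `a` centralizes `N`
    have haC : a ∈ Subgroup.centralizer (N : Set H) := by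
      have : ((a : H) : H ⧸ Subgroup.centralizer (N : Set H)) = 1 := habar
      rwa [QuotientGroup.eq_one_iff] at this
    have hle : N ≤ Subgroup.centralizer ({a} : Set H) := by
      intro n hn
      rw [Subgroup.mem_centralizer_iff]
      intro h hh
      rw [Set.mem_singleton_iff] at hh
      subst hh
      exact ((Subgroup.mem_centralizer_iff.1 haC) n hn).symm
    have h1 : Nat.card N ≤ c := le_trans (Subgroup.card_le_of_le hle) hc
    have h2 : c ≤ c * (c + 1) := Nat.le_mul_of_pos_right c (Nat.succ_pos c)
    exact le_trans h1 (le_trans h2 (Nat.self_le_factorial _))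
  · -- the image of `a` is an involution
    have hord : orderOf (QuotientGroup.mk' (Subgroup.centralizer (N : Set H)) a) = 2 := by
      apply orderOf_eq_prime
      · rw [pow_two, ← map_mul, ha, map_one]
      · exact habar
    have hcbar : Nat.card (Subgroup.centralizer
        ({QuotientGroup.mk' (Subgroup.centralizer (N : Set H)) a} :
          Set (H ⧸ Subgroup.centralizer (N : Set H)))) ≤ c :=
      le_trans (Cfsg.Agent.Lib.Helper7.DCG1.card_centralizer_quotient_singleton_le
        (Subgroup.centralizer (N : Set H)) a) hc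
    obtain ⟨x, hx1, hidx⟩ := exists_extCent_index_le _ hord c hcbar
    -- `S ≰ C*(x)`
    have hne : ¬ N.map (QuotientGroup.mk' (Subgroup.centralizer (N : Set H))) ≤ extCent x := by
      intro hle
      have h7 := Cfsg.Agent.Lib.Helper29.DCG6a.le_cent_of_le_extCent _ hperfS x hle
      have hx : x ∈ Subgroup.centralizer
          ((N.map (QuotientGroup.mk' (Subgroup.centralizer (N : Set H))) :
            Subgroup (H ⧸ Subgroup.centralizer (N : Set H))) :
            Set (H ⧸ Subgroup.centralizer (N : Set H))) := by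
        rw [Subgroup.mem_centralizer_iff]
        intro s hs
        have h8 := h7 hs
        rw [Subgroup.mem_centralizer_iff] at h8
        exact (h8 x rfl).symm
      rw [hcentS, Subgroup.mem_bot] at hx
      exact hx1 hx
    -- the permutation representation
    have hker : ∀ n ∈ N, n ∈ ((MulAction.toPermHom (H ⧸ Subgroup.centralizer (N : Set H))
        ((H ⧸ Subgroup.centralizer (N : Set H)) ⧸ extCent x)).comp
        (QuotientGroup.mk' (Subgroup.centralizer (N : Set H)))).ker → n = 1 := by
      rcases hmin (((MulAction.toPermHom (H ⧸ Subgroup.centralizer (N : Set H))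
        ((H ⧸ Subgroup.centralizer (N : Set H)) ⧸ extCent x)).comp
        (QuotientGroup.mk' (Subgroup.centralizer (N : Set H)))).ker ⊓ N) inferInstance
        inf_le_right with h | h
      · intro n hn hnk
        have h9 : n ∈ ((MulAction.toPermHom (H ⧸ Subgroup.centralizer (N : Set H))
          ((H ⧸ Subgroup.centralizer (N : Set H)) ⧸ extCent x)).comp
          (QuotientGroup.mk' (Subgroup.centralizer (N : Set H)))).ker ⊓ N := ⟨hnk, hn⟩
        rw [h, Subgroup.mem_bot] at h9
        exact h9
      · exfalso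
        apply hne
        rintro s ⟨n, hn, rfl⟩
        have h9 : n ∈ ((MulAction.toPermHom (H ⧸ Subgroup.centralizer (N : Set H))
          ((H ⧸ Subgroup.centralizer (N : Set H)) ⧸ extCent x)).comp
          (QuotientGroup.mk' (Subgroup.centralizer (N : Set H)))).ker ⊓ N := by
          rw [h]
          exact hn
        have h10 : QuotientGroup.mk' (Subgroup.centralizer (N : Set H)) n ∈
            (MulAction.toPermHom (H ⧸ Subgroup.centralizer (N : Set H))
              ((H ⧸ Subgroup.centralizer (N : Set H)) ⧸ extCent x)).ker := by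
          have h12 := (Subgroup.mem_inf.1 h9).1
          rw [MonoidHom.mem_ker, MonoidHom.comp_apply] at h12
          rw [MonoidHom.mem_ker]
          exact h12
        rw [← Subgroup.normalCore_eq_ker] at h10
        exact Subgroup.normalCore_le _ h10
    have hinj : Function.Injective
        (((MulAction.toPermHom (H ⧸ Subgroup.centralizer (N : Set H))
          ((H ⧸ Subgroup.centralizer (N : Set H)) ⧸ extCent x)).comp
          (QuotientGroup.mk' (Subgroup.centralizer (N : Set H)))).comp N.subtype) := by
      rw [injective_iff_map_eq_one]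
      intro n hn
      apply Subtype.ext
      apply hker n n.2
      rw [MonoidHom.mem_ker]
      exact hn
    have h11 := Nat.card_le_card_of_injective _ hinj
    rw [Nat.card_perm, ← Subgroup.index_eq_card] at h11
    exact le_trans h11 (Nat.factorial_le hidx)

end Cfsg.Agent.Lib.Helper20.IAG
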