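import Mathlib
import Cfsg.Agent.Lib.Helper8.OrdSieveE
import Cfsg.Agent.Lib.Helper1.M11RecC
import Cfsg.Agent.Lib.Helper22.SylowPrimeCount

/-!
# Tools for killing candidate orders of simple groups (helper20, for S4274)

`Prof G p n c`: the Sylow `p`-subgroups of `G` have order `p`, there are `n` of them and their
centralizers have order `p * c`.  Cross-divisibility between two such primes, exclusivity of the
sets of `p`-singular elements, counting, fixed points.
-/

set_option autoImplicit false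
set_option linter.unusedSectionVars false
set_option linter.style.haveILetI false

namespace Cfsg.Agent.Lib.Helper20.J1Ord

open Subgroup Cfsg.Agent.Lib.Helper8.OrdSieve

variable {G : Type*} [Group G] [Finite G]

/-- profile of the prime `p` in `G` -/
def Prof (G : Type*) [Group G] (p n c : ℕ) [Fact p.Prime] : Prop :=
  Nat.card (Sylow p G) = n ∧ ∀ P : Sylow p G, Nat.card ↥(P : Subgroup G) = p ∧
    Nat.card ↥(centralizer ((P : Subgroup G) : Set G)) = p * c

/-- commuting elements of orders `s`, `p`: `p` divides the order of the centralizer of a Sylow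
`s`-subgroup -/
theorem Prof.dvd_of_commute {p s n c : ℕ} [Fact p.Prime] [Fact s.Prime] (hs : Prof G s n c)
    (x y : G) (hx : orderOf x = s) (hy : orderOf y = p) (hxy : Commute x y) : p ∣ s * c := by
  have hzc : Nat.card (zpowers x) = s := by rw [Nat.card_zpowers, hx]
  have hzp : IsPGroup s (zpowers x) := IsPGroup.of_card (n := 1) (by rw [hzc, pow_one])
  obtain ⟨Q, hQ⟩ := hzp.exists_le_sylow
  have hQc := (hs.2 Q).1
  have hQeq : zpowers x = (Q : Subgroup G) :=
    Subgroup.eq_of_le_of_card_ge hQ (by rw [hzc, hQc])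
  have hyC : y ∈ centralizer ((Q : Subgroup G) : Set G) := by
    rw [mem_centralizer_iff]
    intro z hz
    rw [SetLike.mem_coe, ← hQeq] at hz
    obtain ⟨k, rfl⟩ := mem_zpowers_iff.mp hz
    exact (hxy.zpow_left k).eq
  have := Subgroup.orderOf_dvd_natCard _ hyC
  rw [hy, (hs.2 Q).2] at this
  exact this

/-- if `s` divides `|C(P)|` (`P` Sylow `p`), then `p` divides `|C(Q)|` (`Q` Sylow `s`) -/
theorem Prof.cross {p s n c n' c' : ℕ} [Fact p.Prime] [Fact s.Prime] (hp : Prof G p n c)
    (hs : Prof G s n' c') (h : s ∣ p * c) : p ∣ s * c' := by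
  have P : Sylow p G := default
  have hC := (hp.2 P).2
  obtain ⟨x, hx⟩ := exists_prime_orderOf_dvd_card'
    (G := ↥(centralizer ((P : Subgroup G) : Set G))) s (by rw [hC]; exact h)
  obtain ⟨y, hy⟩ := exists_prime_orderOf_dvd_card' (G := ↥(P : Subgroup G)) p
    (by rw [(hp.2 P).1])
  apply hs.dvd_of_commute (x : G) (y : G) (by rw [Subgroup.orderOf_coe]; exact hx)
    (by rw [Subgroup.orderOf_coe]; exact hy)
  exact ((mem_centralizer_iff.mp x.2) (y : G) y.2).symm

/-- an element of order divisible by `p` and `s` -/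
theorem Prof.excl {p s n c : ℕ} [Fact p.Prime] [Fact s.Prime] (hs : Prof G s n c) (g : G)
    (hp : p ∣ orderOf g) (hsd : s ∣ orderOf g) : p ∣ s * c := by
  have ho : orderOf g ≠ 0 := (orderOf_pos g).ne'
  apply hs.dvd_of_commute (g ^ (orderOf g / s)) (g ^ (orderOf g / p))
    (orderOf_pow_orderOf_div ho hsd) (orderOf_pow_orderOf_div ho hp)
  exact (Commute.refl g).pow_pow _ _

/-- lower bound for the number of `p`-singular elements -/
theorem Prof.count {p n c : ℕ} [Fact p.Prime] (hp : Prof G p n c) :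
    n * ((p - 1) * c) ≤ Nat.card {g : G // p ∣ orderOf g} := by
  apply Cfsg.Agent.Lib.Helper22.SylowPrimeCount.le_card_dvd_orderOf (fun P => (hp.2 P).1)
  intro P
  rw [hp.1, (hp.2 P).2, Nat.mul_div_cancel_left _ (Fact.out : p.Prime).pos]

/-- fixed points of an element of prime order `s` of `C(P)` on the cosets of `N(P)` -/
theorem Prof.fix [IsSimpleGroup G] {p s n c : ℕ} [Fact p.Prime] [Fact s.Prime]
    (hp : Prof G p n c) (hn : n ≠ 1) (h : s ∣ p * c) :
    ∃ f : ℕ, f % p = 1 ∧ f % s = n % s ∧ f < n := by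
  have hpP : p.Prime := Fact.out
  have hsP : s.Prime := Fact.out
  have P : Sylow p G := default
  have hC := (hp.2 P).2
  have hP := (hp.2 P).1
  set N := normalizer ((P : Subgroup G) : Set G) with hN
  have hidx : N.index = n := by rw [← hp.1]; exact (Sylow.card_eq_index_normalizer P).symm
  have hNtop : N ≠ ⊤ := by
    intro h
    rw [h, Subgroup.index_top] at hidx
    exact hn hidx.symm
  obtain ⟨x, hx⟩ := exists_prime_orderOf_dvd_card'
    (G := ↥(centralizer ((P : Subgroup G) : Set G))) s (by rw [hC]; exact h)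
  have hxo : orderOf (x : G) = s := by rw [Subgroup.orderOf_coe]; exact hx
  have hcardX : Nat.card (G ⧸ N) = n := by rw [← hidx, Subgroup.index]
  refine ⟨Nat.card (MulAction.fixedBy (G ⧸ N) (x : G)), ?_, ?_, ?_⟩
  · have h5 := Cfsg.Agent.Lib.Helper8.SmallSimple.card_fixedBy_modEq_one P hP (x : G) x.2
    rw [← hN] at h5
    unfold Nat.ModEq at h5
    rw [h5]
    exact Nat.mod_eq_of_lt hpP.one_lt
  · have hzp : IsPGroup s (zpowers (x : G)) :=
      IsPGroup.of_card (n := 1) (by rw [Nat.card_zpowers, hxo, pow_one])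
    have h3 := Cfsg.Agent.Lib.Helper8.SmallSimple2.card_modEq_card_fixedBy (X := G ⧸ N) (x : G) hzp
    rw [hcardX] at h3
    exact h3.symm
  · have hle : Nat.card (MulAction.fixedBy (G ⧸ N) (x : G)) ≤ n := by
      rw [← hcardX]
      exact Nat.card_le_card_of_injective _ Subtype.val_injective
    have hne : Nat.card (MulAction.fixedBy (G ⧸ N) (x : G)) ≠ n := by
      intro h
      have hx1 : (x : G) = 1 := by
        apply Cfsg.Agent.Lib.Helper8.SmallSimple.eq_one_of_smul_eq N hNtop
        apply Cfsg.Agent.Lib.Helper8.SmallSimple.smul_eq_of_card_fixedBy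
        rw [h, hcardX]
      rw [hx1, orderOf_one] at hxo
      exact hsP.one_lt.ne hxo
    omega

/-- the profile of a prime dividing the order of a simple group exactly once -/
theorem exists_prof [IsSimpleGroup G] (hnc : ¬ IsMulCommutative G) {p m : ℕ} [Fact p.Prime]
    (hG : Nat.card G = p * m) (hpm : ¬ p ∣ m) :
    ∃ n k c r : ℕ, Prof G p n c ∧ n ∈ npList p 1 m ∧ n * k = m ∧ c * r = k ∧ r ∣ p - 1 ∧
      r ≠ 1 := by
  have hpP : p.Prime := Fact.out
  have P : Sylow p G := default
  obtain ⟨hP, n, k, c, r, hn, -, hc, -, hnk, hcr, hmod, hn1, hr, hr1, -, -⟩ :=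
    Cfsg.Agent.Lib.Helper8.SmallSimple2.sylow_prime_data hnc hG hpm P
  refine ⟨n, k, c, r, ⟨hn, fun Q => ⟨?_, ?_⟩⟩, ?_, hnk, hcr, hr, hr1⟩
  · exact (Cfsg.Agent.Lib.Helper8.SmallSimple2.sylow_prime_data hnc hG hpm Q).1
  · rw [Cfsg.Agent.Lib.Helper1.M11Rec.card_centralizer_sylow_eq Q P, hc]
  · have hm1 : 1 < m := by
      have hk0 : k ≠ 0 := by
        rintro rfl
        apply hpm
        rw [← hnk, mul_zero]
        exact dvd_zero p
      have hn0 : n ≠ 0 := by
        rintro rfl
        rw [Nat.zero_mod] at hmod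
        omega
      have h2 : 2 ≤ n := by omega
      have hk1 : 1 ≤ k := by omega
      calc 1 < 2 * 1 := by norm_num
        _ ≤ n * k := Nat.mul_le_mul h2 hk1
        _ = m := hnk
    have := sylow_count_mem hnc hpP (le_refl 1) hm1 (by rw [hG, pow_one]) hpm
    rw [hn] at this
    exact this

/-- three pairwise exclusive properties -/
theorem card_add_card_add_card_le {X : Type*} [Finite X] (A B C : X → Prop)
    (hAB : ∀ x, A x → B x → False) (hAC : ∀ x, A x → C x → False)
    (hBC : ∀ x, B x → C x → False) :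
    Nat.card {x // A x} + Nat.card {x // B x} + Nat.card {x // C x} ≤ Nat.card X := by
  let f : ({x // A x} ⊕ {x // B x}) ⊕ {x // C x} → X :=
    Sum.elim (Sum.elim (fun z => z.1) (fun z => z.1)) (fun z => z.1)
  have hf : Function.Injective f := by
    rintro ((⟨a, ha⟩ | ⟨a, ha⟩) | ⟨a, ha⟩) ((⟨b, hb⟩ | ⟨b, hb⟩) | ⟨b, hb⟩) hab <;>
      simp only [f, Sum.elim_inl, Sum.elim_inr] at hab <;> subst hab
    · rfl
    · exact (hAB _ ha hb).elim
    · exact (hAC _ ha hb).elim
    · exact (hAB _ hb ha).elim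
    · rfl
    · exact (hBC _ ha hb).elim
    · exact (hAC _ hb ha).elim
    · exact (hBC _ hb ha).elim
    · rfl
  have := Nat.card_le_card_of_injective f hf
  rwa [Nat.card_sum, Nat.card_sum] at this

/-- the possible pairs `(n_p, c_p)` for a prime `p` dividing the order `p * m` exactly once -/
def profPairs (p m : ℕ) : List (ℕ × ℕ) :=
  (npList p 1 m).flatMap fun n =>
    ((divs (p - 1)).filter fun r => decide (r ≠ 1) && decide (r ∣ m / n)).map
      fun r => (n, m / n / r)

theorem exists_prof' [IsSimpleGroup G] (hnc : ¬ IsMulCommutative G) {p m : ℕ} [Fact p.Prime]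
    (hG : Nat.card G = p * m) (hpm : ¬ p ∣ m) :
    ∃ n c : ℕ, Prof G p n c ∧ (n, c) ∈ profPairs p m := by
  have hpP : p.Prime := Fact.out
  obtain ⟨n, k, c, r, hp, hn, hnk, hcr, hr, hr1⟩ := exists_prof hnc hG hpm
  refine ⟨n, c, hp, ?_⟩
  have hm0 : m ≠ 0 := by rintro rfl; exact hpm (dvd_zero p)
  have hn0 : 0 < n := by
    rcases Nat.eq_zero_or_pos n with h | h
    · rw [h, zero_mul] at hnk; exact absurd hnk.symm hm0
    · exact h
  have hp1 : 0 < p - 1 := by have := hpP.two_le; omega
  have hk : m / n = k := by rw [← hnk]; exact Nat.mul_div_cancel_left k hn0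
  have hr0 : 0 < r := Nat.pos_of_dvd_of_pos hr hp1
  have hc : k / r = c := by rw [← hcr]; exact Nat.mul_div_cancel c hr0
  unfold profPairs
  rw [List.mem_flatMap]
  refine ⟨n, hn, ?_⟩
  rw [List.mem_map]
  refine ⟨r, ?_, ?_⟩
  · rw [List.mem_filter]
    refine ⟨mem_divs hp1 hr, ?_⟩
    rw [Bool.and_eq_true, decide_eq_true_eq, decide_eq_true_eq]
    exact ⟨hr1, by rw [hk, ← hcr]; exact dvd_mul_left r c⟩
  · rw [hk, hc]

/-- the counting contradiction: three primes with pairwise exclusive singular elements -/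
theorem count_kill {p q s np cp nq cq ns cs N : ℕ} [Fact p.Prime] [Fact q.Prime] [Fact s.Prime]
    (hp : Prof G p np cp) (hq : Prof G q nq cq) (hs : Prof G s ns cs) (hN : Nat.card G = N)
    (hpq : ¬ p ∣ q * cq) (hps : ¬ p ∣ s * cs) (hqs : ¬ q ∣ s * cs)
    (hlt : N < np * ((p - 1) * cp) + nq * ((q - 1) * cq) + ns * ((s - 1) * cs)) : False := by
  have h := card_add_card_add_card_le (X := G) (fun g => p ∣ orderOf g) (fun g => q ∣ orderOf g)
    (fun g => s ∣ orderOf g) (fun g h1 h2 => hpq (hq.excl g h1 h2))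
    (fun g h1 h2 => hps (hs.excl g h1 h2)) (fun g h1 h2 => hqs (hs.excl g h1 h2))
  have h1 := hp.count
  have h2 := hq.count
  have h3 := hs.count
  rw [hN] at h
  omega

end Cfsg.Agent.Lib.Helper20.J1Ord
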