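import Mathlib
import Cfsg.Agent.Lib.Helper20.J1OrdTools

/-!
# No simple groups of orders 11704, 17556, 7980, 35112 (helper20, for S4274)
-/

set_option autoImplicit false
set_option linter.unusedSectionVars false
set_option linter.style.haveILetI false
set_option linter.unusedVariables false
set_option linter.unreachableTactic false
set_option linter.unusedTactic false

namespace Cfsg.Agent.Lib.Helper20.J1Ord

open Subgroup Cfsg.Agent.Lib.Helper8.OrdSieve

variable {G : Type*} [Group G] [Finite G]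

theorem no_simple_11704 [IsSimpleGroup G] (hnc : ¬ IsMulCommutative G)
    (hG : Nat.card G = 11704) : False := by
  haveI : Fact (Nat.Prime 7) := ⟨by norm_num⟩
  haveI : Fact (Nat.Prime 19) := ⟨by norm_num⟩
  obtain ⟨n19, c19, hp19, hm19⟩ := exists_prof' hnc (p := 19) (m := 616)
    (hG.trans (by norm_num)) (by norm_num)
  obtain ⟨n7, c7, hp7, hm7⟩ := exists_prof' hnc (p := 7) (m := 1672)
    (hG.trans (by norm_num)) (by norm_num)
  have e19 : profPairs 19 616 = [(77, 4)] := by decide +kernel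
  have e7 : profPairs 7 1672 = [(22, 38)] := by decide +kernel
  rw [e19] at hm19
  rw [e7] at hm7
  simp only [List.mem_cons, Prod.mk.injEq, List.not_mem_nil, or_false] at hm19 hm7
  obtain ⟨rfl, rfl⟩ := hm19
  obtain ⟨rfl, rfl⟩ := hm7
  exact absurd (hp7.cross hp19 (by decide)) (by decide)

theorem no_simple_17556 [IsSimpleGroup G] (hnc : ¬ IsMulCommutative G)
    (hG : Nat.card G = 17556) : False := by
  haveI : Fact (Nat.Prime 7) := ⟨by norm_num⟩
  haveI : Fact (Nat.Prime 11) := ⟨by norm_num⟩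
  haveI : Fact (Nat.Prime 19) := ⟨by norm_num⟩
  obtain ⟨n19, c19, hp19, hm19⟩ := exists_prof' hnc (p := 19) (m := 924)
    (hG.trans (by norm_num)) (by norm_num)
  obtain ⟨n11, c11, hp11, hm11⟩ := exists_prof' hnc (p := 11) (m := 1596)
    (hG.trans (by norm_num)) (by norm_num)
  obtain ⟨n7, c7, hp7, hm7⟩ := exists_prof' hnc (p := 7) (m := 2508)
    (hG.trans (by norm_num)) (by norm_num)
  have e19 : profPairs 19 924 = [(77, 6), (77, 4), (77, 2)] := by decide +kernel
  have e11 : profPairs 11 1596 = [(133, 6)] := by decide +kernel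
  have e7 : profPairs 7 2508 = [(22, 57), (22, 38), (22, 19), (57, 22), (1254, 1)] := by
    decide +kernel
  rw [e19] at hm19
  rw [e11] at hm11
  rw [e7] at hm7
  simp only [List.mem_cons, Prod.mk.injEq, List.not_mem_nil, or_false] at hm19 hm11 hm7
  obtain ⟨rfl, rfl⟩ := hm11
  rcases hm19 with ⟨rfl, rfl⟩ | ⟨rfl, rfl⟩ | ⟨rfl, rfl⟩ <;>
  rcases hm7 with ⟨rfl, rfl⟩ | ⟨rfl, rfl⟩ | ⟨rfl, rfl⟩ | ⟨rfl, rfl⟩ | ⟨rfl, rfl⟩ <;>
  first
  | exact absurd (hp7.cross hp19 (by decide)) (by decide)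
  | exact absurd (hp7.cross hp11 (by decide)) (by decide)
  | exact count_kill hp7 hp11 hp19 hG (by decide) (by decide) (by decide) (by decide)

theorem no_simple_7980 [IsSimpleGroup G] (hnc : ¬ IsMulCommutative G)
    (hG : Nat.card G = 7980) : False := by
  haveI : Fact (Nat.Prime 5) := ⟨by norm_num⟩
  haveI : Fact (Nat.Prime 7) := ⟨by norm_num⟩
  haveI : Fact (Nat.Prime 19) := ⟨by norm_num⟩
  obtain ⟨n19, c19, hp19, hm19⟩ := exists_prof' hnc (p := 19) (m := 420)
    (hG.trans (by norm_num)) (by norm_num)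
  obtain ⟨n7, c7, hp7, hm7⟩ := exists_prof' hnc (p := 7) (m := 1140)
    (hG.trans (by norm_num)) (by norm_num)
  obtain ⟨n5, c5, hp5, hm5⟩ := exists_prof' hnc (p := 5) (m := 1596)
    (hG.trans (by norm_num)) (by norm_num)
  have e19 : profPairs 19 420 = [(210, 1)] := by decide +kernel
  have e7 : profPairs 7 1140 = [(57, 10), (190, 3), (190, 2), (190, 1)] := by decide +kernel
  have e5 : profPairs 5 1596 = [(21, 38), (21, 19), (266, 3)] := by decide +kernel
  rw [e19] at hm19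
  rw [e7] at hm7
  rw [e5] at hm5
  simp only [List.mem_cons, Prod.mk.injEq, List.not_mem_nil, or_false] at hm19 hm7 hm5
  obtain ⟨rfl, rfl⟩ := hm19
  rcases hm5 with ⟨rfl, rfl⟩ | ⟨rfl, rfl⟩ | ⟨rfl, rfl⟩ <;>
  rcases hm7 with ⟨rfl, rfl⟩ | ⟨rfl, rfl⟩ | ⟨rfl, rfl⟩ | ⟨rfl, rfl⟩ <;>
  first
  | exact absurd (hp5.cross hp19 (by decide)) (by decide)
  | exact absurd (hp7.cross hp5 (by decide)) (by decide)
  | exact count_kill hp19 hp5 hp7 hG (by decide) (by decide) (by decide) (by decide)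

theorem no_simple_35112 [IsSimpleGroup G] (hnc : ¬ IsMulCommutative G)
    (hG : Nat.card G = 35112) : False := by
  haveI : Fact (Nat.Prime 7) := ⟨by norm_num⟩
  haveI : Fact (Nat.Prime 11) := ⟨by norm_num⟩
  haveI : Fact (Nat.Prime 19) := ⟨by norm_num⟩
  obtain ⟨n19, c19, hp19, hm19⟩ := exists_prof' hnc (p := 19) (m := 1848)
    (hG.trans (by norm_num)) (by norm_num)
  obtain ⟨n11, c11, hp11, hm11⟩ := exists_prof' hnc (p := 11) (m := 3192)
    (hG.trans (by norm_num)) (by norm_num)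
  obtain ⟨n7, c7, hp7, hm7⟩ := exists_prof' hnc (p := 7) (m := 5016)
    (hG.trans (by norm_num)) (by norm_num)
  have e19 : profPairs 19 1848 = [(77, 12), (77, 8), (77, 4)] := by decide +kernel
  have e11 : profPairs 11 3192 = [(133, 12), (1596, 1)] := by decide +kernel
  have e7 : profPairs 7 5016 = [(22, 114), (22, 76), (22, 38), (57, 44), (1254, 2)] := by
    decide +kernel
  rw [e19] at hm19
  rw [e11] at hm11
  rw [e7] at hm7
  simp only [List.mem_cons, Prod.mk.injEq, List.not_mem_nil, or_false] at hm19 hm11 hm7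
  rcases hm19 with ⟨rfl, rfl⟩ | ⟨rfl, rfl⟩ | ⟨rfl, rfl⟩ <;>
  rcases hm11 with ⟨rfl, rfl⟩ | ⟨rfl, rfl⟩ <;>
  rcases hm7 with ⟨rfl, rfl⟩ | ⟨rfl, rfl⟩ | ⟨rfl, rfl⟩ | ⟨rfl, rfl⟩ | ⟨rfl, rfl⟩ <;>
  first
  | exact absurd (hp7.cross hp19 (by decide)) (by decide)
  | exact absurd (hp7.cross hp11 (by decide)) (by decide)
  | exact count_kill hp7 hp11 hp19 hG (by decide) (by decide) (by decide) (by decide)

end Cfsg.Agent.Lib.Helper20.J1Ord
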