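import Mathlib
import Cfsg.Agent.Lib.Helper20.J1OrdTools

/-!
# No simple groups of orders 58520, 87780 (helper20, for S4274)
-/

set_option autoImplicit false
set_option linter.unusedSectionVars false
set_option linter.style.haveILetI false
set_option linter.unusedVariables false
set_option linter.unreachableTactic false
set_option linter.unusedTactic false

namespace Cfsg.Agent.Lib.Helper20.J1Ord

open Subgroup Cfsg.Agent.Lib.Helper8.OrdSieve

variable {G : Type*} [Group G] [Finite G]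

theorem no_simple_58520 [IsSimpleGroup G] (hnc : ¬ IsMulCommutative G)
    (hG : Nat.card G = 58520) : False := by
  haveI : Fact (Nat.Prime 5) := ⟨by norm_num⟩
  haveI : Fact (Nat.Prime 7) := ⟨by norm_num⟩
  haveI : Fact (Nat.Prime 11) := ⟨by norm_num⟩
  haveI : Fact (Nat.Prime 19) := ⟨by norm_num⟩
  obtain ⟨n19, c19, hp19, hm19⟩ := exists_prof' hnc (p := 19) (m := 3080)
    (hG.trans (by norm_num)) (by norm_num)
  obtain ⟨n11, c11, hp11, hm11⟩ := exists_prof' hnc (p := 11) (m := 5320)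
    (hG.trans (by norm_num)) (by norm_num)
  obtain ⟨n7, c7, hp7, hm7⟩ := exists_prof' hnc (p := 7) (m := 8360)
    (hG.trans (by norm_num)) (by norm_num)
  obtain ⟨n5, c5, hp5, hm5⟩ := exists_prof' hnc (p := 5) (m := 11704)
    (hG.trans (by norm_num)) (by norm_num)
  have e19 : profPairs 19 3080 = [(77, 20), (1540, 1)] := by decide +kernel
  have e11 : profPairs 11 5320 = [(56, 19), (133, 20), (133, 8), (133, 4)] := by decide +kernel
  have e7 : profPairs 7 8360 = [(22, 190), (190, 22), (4180, 1)] := by decide +kernel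
  have e5 : profPairs 5 11704 =
      [(76, 77), (266, 22), (266, 11), (836, 7), (2926, 2), (2926, 1)] := by decide +kernel
  rw [e19] at hm19
  rw [e11] at hm11
  rw [e7] at hm7
  rw [e5] at hm5
  simp only [List.mem_cons, Prod.mk.injEq, List.not_mem_nil, or_false] at hm19 hm11 hm7 hm5
  rcases hm19 with ⟨rfl, rfl⟩ | ⟨rfl, rfl⟩
  all_goals try (obtain ⟨f, h1, h2, h3⟩ := hp19.fix (s := 5) (by decide) (by decide); omega)
  all_goals (rcases hm11 with ⟨rfl, rfl⟩ | ⟨rfl, rfl⟩ | ⟨rfl, rfl⟩ | ⟨rfl, rfl⟩)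
  all_goals try (exact absurd (hp11.cross hp19 (by decide)) (by decide))
  all_goals (rcases hm7 with ⟨rfl, rfl⟩ | ⟨rfl, rfl⟩ | ⟨rfl, rfl⟩)
  all_goals try (exact absurd (hp7.cross hp19 (by decide)) (by decide))
  all_goals try (exact absurd (hp7.cross hp11 (by decide)) (by decide))
  all_goals (rcases hm5 with ⟨rfl, rfl⟩ | ⟨rfl, rfl⟩ | ⟨rfl, rfl⟩ | ⟨rfl, rfl⟩ | ⟨rfl, rfl⟩ |
    ⟨rfl, rfl⟩)
  all_goals try (exact absurd (hp5.cross hp7 (by decide)) (by decide))
  all_goals try (exact absurd (hp5.cross hp11 (by decide)) (by decide))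
  all_goals first
    | exact count_kill hp19 hp7 hp5 hG (by decide) (by decide) (by decide) (by decide)
    | exact count_kill hp19 hp7 hp11 hG (by decide) (by decide) (by decide) (by decide)

theorem no_simple_87780 [IsSimpleGroup G] (hnc : ¬ IsMulCommutative G)
    (hG : Nat.card G = 87780) : False := by
  haveI : Fact (Nat.Prime 5) := ⟨by norm_num⟩
  haveI : Fact (Nat.Prime 7) := ⟨by norm_num⟩
  haveI : Fact (Nat.Prime 11) := ⟨by norm_num⟩
  haveI : Fact (Nat.Prime 19) := ⟨by norm_num⟩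
  obtain ⟨n19, c19, hp19, hm19⟩ := exists_prof' hnc (p := 19) (m := 4620)
    (hG.trans (by norm_num)) (by norm_num)
  obtain ⟨n11, c11, hp11, hm11⟩ := exists_prof' hnc (p := 11) (m := 7980)
    (hG.trans (by norm_num)) (by norm_num)
  obtain ⟨n7, c7, hp7, hm7⟩ := exists_prof' hnc (p := 7) (m := 12540)
    (hG.trans (by norm_num)) (by norm_num)
  obtain ⟨n5, c5, hp5, hm5⟩ := exists_prof' hnc (p := 5) (m := 17556)
    (hG.trans (by norm_num)) (by norm_num)
  have e19 : profPairs 19 4620 = [(77, 30), (77, 20), (77, 10), (210, 11), (1540, 1)] := by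
    decide +kernel
  have e11 : profPairs 11 7980 = [(133, 30), (133, 12), (133, 6), (210, 19), (1596, 1)] := by
    decide +kernel
  have e7 : profPairs 7 12540 = [(22, 285), (22, 190), (22, 95), (57, 110), (190, 33), (190, 22),
      (190, 11), (330, 19), (1254, 5), (4180, 1)] := by decide +kernel
  have e5 : profPairs 5 17556 = [(21, 418), (21, 209), (66, 133), (231, 38), (231, 19), (266, 33),
      (2926, 3)] := by decide +kernel
  rw [e19] at hm19
  rw [e11] at hm11
  rw [e7] at hm7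
  rw [e5] at hm5
  simp only [List.mem_cons, Prod.mk.injEq, List.not_mem_nil, or_false] at hm19 hm11 hm7 hm5
  rcases hm19 with ⟨rfl, rfl⟩ | ⟨rfl, rfl⟩ | ⟨rfl, rfl⟩ | ⟨rfl, rfl⟩ | ⟨rfl, rfl⟩
  all_goals try (obtain ⟨f, h1, h2, h3⟩ := hp19.fix (s := 5) (by decide) (by decide); omega)
  all_goals (rcases hm11 with ⟨rfl, rfl⟩ | ⟨rfl, rfl⟩ | ⟨rfl, rfl⟩ | ⟨rfl, rfl⟩ | ⟨rfl, rfl⟩)
  all_goals try (exact absurd (hp19.cross hp11 (by decide)) (by decide))
  all_goals try (exact absurd (hp11.cross hp19 (by decide)) (by decide))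
  all_goals (rcases hm7 with ⟨rfl, rfl⟩ | ⟨rfl, rfl⟩ | ⟨rfl, rfl⟩ | ⟨rfl, rfl⟩ | ⟨rfl, rfl⟩ |
    ⟨rfl, rfl⟩ | ⟨rfl, rfl⟩ | ⟨rfl, rfl⟩ | ⟨rfl, rfl⟩ | ⟨rfl, rfl⟩)
  all_goals try (exact absurd (hp7.cross hp19 (by decide)) (by decide))
  all_goals try (exact absurd (hp7.cross hp11 (by decide)) (by decide))
  all_goals (rcases hm5 with ⟨rfl, rfl⟩ | ⟨rfl, rfl⟩ | ⟨rfl, rfl⟩ | ⟨rfl, rfl⟩ | ⟨rfl, rfl⟩ |
    ⟨rfl, rfl⟩ | ⟨rfl, rfl⟩)
  all_goals try (exact absurd (hp5.cross hp19 (by decide)) (by decide))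
  all_goals try (exact absurd (hp7.cross hp5 (by decide)) (by decide))
  all_goals try (exact absurd (hp5.cross hp11 (by decide)) (by decide))
  all_goals first
    | exact count_kill hp19 hp5 hp7 hG (by decide) (by decide) (by decide) (by decide)
    | exact count_kill hp19 hp7 hp11 hG (by decide) (by decide) (by decide) (by decide)

end Cfsg.Agent.Lib.Helper20.J1Ord
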