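import Mathlib
import Cfsg.Agent.Lib.Helper20.J1OrdTools
import Cfsg.Agent.Lib.Helper24.Ord4320A

/-!
# No simple group of order 15960 (helper20, for S4274)

`n_19 = 210`, `|N(P)| = 76`, `|C(P)| = 38`: the involution `t` of `C(P)` is central in `N(P)`;
`M = C(t)` has `1` or `210` Sylow `19`-subgroups; fixed point count of `t` on `G / N(P)`.
-/

set_option autoImplicit false
set_option linter.unusedSectionVars false
set_option linter.style.haveILetI false
set_option linter.unusedVariables false

namespace Cfsg.Agent.Lib.Helper20.J1Ord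

open MulAction Subgroup Cfsg.Agent.Lib.Helper8.OrdSieve Cfsg.Agent.Lib.Helper7
  Cfsg.Agent.Lib.Helper8.SmallSimple Cfsg.Agent.Lib.Helper8.SmallSimple2
  Cfsg.Agent.Lib.Helper24.Ord4320

variable {G : Type*} [Group G] [Finite G]

theorem no_simple_15960 [IsSimpleGroup G] (hnc : ¬ IsMulCommutative G)
    (hG : Nat.card G = 15960) : False := by
  haveI : Fact (Nat.Prime 19) := ⟨by norm_num⟩
  obtain ⟨n19, c19, hp19, hm19⟩ := exists_prof' hnc (p := 19) (m := 840)
    (hG.trans (by norm_num)) (by norm_num)
  have e19 : profPairs 19 840 = [(210, 2)] := by decide +kernel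
  rw [e19] at hm19
  simp only [List.mem_cons, Prod.mk.injEq, List.not_mem_nil, or_false] at hm19
  obtain ⟨rfl, rfl⟩ := hm19
  have P : Sylow 19 G := default
  have hP : Nat.card ↥(P : Subgroup G) = 19 := (hp19.2 P).1
  have hCc : Nat.card ↥(Subgroup.centralizer ((P : Subgroup G) : Set G)) = 38 := by
    rw [(hp19.2 P).2]
  set N := Subgroup.normalizer ((P : Subgroup G) : Set G) with hN
  set C := Subgroup.centralizer ((P : Subgroup G) : Set G) with hC
  have hCN : C ≤ N := Subgroup.centralizer_le_normalizer _
  have hG2 : 2 < Nat.card G := by rw [hG]; norm_num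
  have hidx : N.index = 210 := by
    rw [← hp19.1]; exact (Sylow.card_eq_index_normalizer P).symm
  have hNc : Nat.card ↥N = 76 := by
    have := N.card_mul_index
    rw [hidx, hG] at this
    omega
  have hNtop : N ≠ ⊤ := by
    intro h
    rw [h, Subgroup.index_top] at hidx
    omega
  obtain ⟨t, htC, ht⟩ := exists_invol_mem C (by rw [hCc]; norm_num)
  have huniq : ∀ s ∈ C, orderOf s = 2 → s = t := fun s hs hs2 =>
    invol_unique_of_card (p := 19) (by norm_num) (P : Subgroup G) hP (by rw [← hC, hCc]) s t hs htC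
      hs2 ht
  set M := Subgroup.centralizer ({t} : Set G) with hMdef
  have hNM : N ≤ M := by
    intro n hn
    have h1 : n * t * n⁻¹ ∈ C := conj_mem_centralizer_of_mem_normalizer (P : Subgroup G) hn htC
    have h2 : orderOf (n * t * n⁻¹) = 2 := by
      have := MulEquiv.orderOf_eq (MulAut.conj n) t
      rw [MulAut.conj_apply] at this
      rw [this, ht]
    have h3 := huniq _ h1 h2
    rw [hMdef, Subgroup.mem_centralizer_singleton_iff]
    calc n * t = n * t * n⁻¹ * n := by group
      _ = t * n := by rw [h3]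
  have hPM : (P : Subgroup G) ≤ M := (Subgroup.le_normalizer (H := (P : Subgroup G))).trans hNM
  have hcount := card_sylow_subgroup_mul P M hPM
  rw [← hN, inf_eq_left.mpr hNM, hNc] at hcount
  have hmodM : Nat.card (Sylow 19 ↥M) % 19 = 1 := by
    have := card_sylow_modEq_one 19 ↥M
    unfold Nat.ModEq at this
    omega
  have hMdvd : Nat.card ↥M ∣ 15960 := by
    rw [← hG]; exact Subgroup.card_subgroup_dvd_card M
  obtain ⟨h1, ⟨s, ⟨k4, hk4⟩, hs⟩, h3⟩ := invol_fix_data hG2 P hP hNtop t htC ht
  rw [← hN] at h1 hs h3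
  rw [hidx] at hs h3
  have hformula := card_fixedBy_mul_card N t
  rw [hNc, ← hMdef, ← hcount] at hformula
  set a := Nat.card (Sylow 19 ↥M) with ha
  set k := Nat.card {s : G // s ∈ N ∧ IsConj t s} with hk
  set fx := Nat.card (fixedBy (G ⧸ N) t) with hfx
  have hfk : fx = k * a := by
    have : fx * 76 = (k * a) * 76 := by rw [hformula]; ring
    exact Nat.eq_of_mul_eq_mul_right (by norm_num) this
  have hle := card_conj_invol_le (p := 19) (P : Subgroup G) hP t ht huniq
  rw [← hN, ← hC, ← hk, hCc] at hle
  have hadvd : a ∣ 210 := by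
    have h210 : a * 76 ∣ 210 * 76 := by rw [hcount]; exact hMdvd
    exact Nat.dvd_of_mul_dvd_mul_right (by norm_num) h210
  have hale : a ≤ 210 := Nat.le_of_dvd (by norm_num) hadvd
  have hacases : a = 1 ∨ a = 210 := by
    have key : ∀ b : ℕ, b ≤ 210 → b ∣ 210 → b % 19 = 1 → b = 1 ∨ b = 210 := by
      intro b hb1 hb2 hb3
      interval_cases b <;> omega
    exact key a hale hadvd hmodM
  have hMtop : M ≠ ⊤ := by
    intro h
    have hcen : t ∈ Subgroup.center G := by
      rw [Subgroup.mem_center_iff]
      intro g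
      have : g ∈ M := by rw [h]; trivial
      exact Subgroup.mem_centralizer_singleton_iff.mp this
    rw [center_eq_bot hnc, Subgroup.mem_bot] at hcen
    rw [hcen, orderOf_one] at ht
    omega
  rcases hacases with h | h
  · rw [h] at hfk
    omega
  · rw [h] at hcount
    apply hMtop
    apply Subgroup.eq_top_of_card_eq
    rw [← hcount, hG]

end Cfsg.Agent.Lib.Helper20.J1Ord
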