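import Mathlib
import Cfsg.Agent.Lib.Helper8.OrdSieveE

/-!
# Orders `19 * m`, `m ∣ 9240`: evaluation of helper8's order sieve (helper20, for S4274)
-/

set_option autoImplicit false

namespace Cfsg.Agent.Lib.Helper20.J1Ord

open Cfsg.Agent.Lib.Helper8.OrdSieve

/-- the divisors `m` of `9240` for which the sieve does not kill the order `19 m` -/
def residual9240 : List ℕ := [420, 616, 840, 924, 1848, 3080, 4620]

theorem sieve_9240 : ∀ m ∈ divs 9240,
    m = 9240 ∨ m ∈ residual9240 ∨ sieveOK (19 * m) = true := by
  decide +kernel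

end Cfsg.Agent.Lib.Helper20.J1Ord
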