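import Mathlib
import Cfsg.Agent.Lib.Helper20.J1OrdSieve
import Cfsg.Agent.Lib.Helper20.J1OrdKillA
import Cfsg.Agent.Lib.Helper20.J1OrdKillB
import Cfsg.Agent.Lib.Helper20.J1OrdKillC

/-!
# A non-abelian simple group of order `19 m`, `m ∣ 9240`, has order `175560` (helper20, S4274)
-/

set_option autoImplicit false
set_option linter.unusedSectionVars false

namespace Cfsg.Agent.Lib.Helper20.J1Ord

open Cfsg.Agent.Lib.Helper8.OrdSieve

variable {G : Type*} [Group G] [Finite G]

theorem eq_9240_of_simple [IsSimpleGroup G] (hnc : ¬ IsMulCommutative G) {m : ℕ}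
    (hm : m ∣ 9240) (hG : Nat.card G = 19 * m) : m = 9240 := by
  rcases sieve_9240 m (mem_divs (by norm_num) hm) with h | h | h
  · exact h
  · exfalso
    unfold residual9240 at h
    simp only [List.mem_cons, List.not_mem_nil, or_false] at h
    rcases h with rfl | rfl | rfl | rfl | rfl | rfl | rfl
    · exact no_simple_7980 hnc (hG.trans (by norm_num))
    · exact no_simple_11704 hnc (hG.trans (by norm_num))
    · exact no_simple_15960 hnc (hG.trans (by norm_num))
    · exact no_simple_17556 hnc (hG.trans (by norm_num))
    · exact no_simple_35112 hnc (hG.trans (by norm_num))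
    · exact no_simple_58520 hnc (hG.trans (by norm_num))
    · exact no_simple_87780 hnc (hG.trans (by norm_num))
  · exfalso
    have := sieve_sound hnc
    rw [hG, h] at this
    exact Bool.noConfusion this

end Cfsg.Agent.Lib.Helper20.J1Ord
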