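import Mathlib
import Cfsg.Agent.Lib.Helper20.J1OrdMain

/-!
# Groups of order dividing `175560`: uniqueness of the subgroup of order `19`, or simple of order
`175560` (helper20, for S4274)
-/

set_option autoImplicit false
set_option linter.unusedSectionVars false
set_option linter.style.haveILetI false

namespace Cfsg.Agent.Lib.Helper20.J1Ord

open Subgroup Cfsg.Agent.Lib.Helper8.OrdSieve

universe u

/-- prime powers dividing `9240` are smaller than `19` -/
theorem primePow_lt_19 {r k : ℕ} (hr : r.Prime) (h : r ^ k ∣ 9240) : r ^ k < 19 := by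
  by_contra hge
  push Not at hge
  have key : ∀ d ∈ divs 9240, 19 ≤ d → ∃ q1 ∈ [2, 3, 5, 7, 11], ∃ q2 ∈ [2, 3, 5, 7, 11],
      q1 ≠ q2 ∧ q1 ∣ d ∧ q2 ∣ d := by decide +kernel
  have hpr : ∀ q ∈ [2, 3, 5, 7, 11], Nat.Prime q := by
    intro q hq
    simp only [List.mem_cons, List.not_mem_nil, or_false] at hq
    rcases hq with rfl | rfl | rfl | rfl | rfl <;> norm_num
  obtain ⟨q1, hq1, q2, hq2, hne, hd1, hd2⟩ := key _ (mem_divs (by norm_num) h) hge
  have e1 : q1 = r := (Nat.prime_dvd_prime_iff_eq (hpr q1 hq1) hr).mp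
    ((hpr q1 hq1).dvd_of_dvd_pow hd1)
  have e2 : q2 = r := (Nat.prime_dvd_prime_iff_eq (hpr q2 hq2) hr).mp
    ((hpr q2 hq2).dvd_of_dvd_pow hd2)
  exact hne (e1.trans e2.symm)

variable {H : Type u} [Group H] [Finite H]

/-- an element of `19`-power order normalizing a subgroup of order `< 19` centralizes it -/
theorem mem_centralizer_of_small (R : Subgroup H) (hR : Nat.card R < 19) (a : H)
    (ha : a ^ 19 = 1) (hn : a ∈ normalizer (R : Set H)) : a ∈ centralizer (R : Set H) := by
  classical
  set ψ := Subgroup.normalizerMonoidHom R with hψ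
  set a' : ↥(normalizer (R : Set H)) := ⟨a, hn⟩ with ha'
  have h19 : (ψ a') ^ 19 = 1 := by
    rw [← map_pow]
    have : a' ^ 19 = 1 := by
      apply Subtype.ext
      simp only [ha', Subgroup.coe_pow, Subgroup.coe_one]
      exact ha
    rw [this, map_one]
  have ho : orderOf (ψ a') ∣ 19 := orderOf_dvd_of_pow_eq_one h19
  have hcard : orderOf (ψ a') ∣ (Nat.card R).factorial := by
    have h1 : orderOf (ψ a') ∣ Nat.card (MulAut ↥R) := orderOf_dvd_natCard _
    have h2 : Nat.card (MulAut ↥R) ∣ Nat.card (Equiv.Perm ↥R) :=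
      Subgroup.card_dvd_of_injective (MulAut.toPerm ↥R) (fun x y hxy => by
        apply MulEquiv.ext
        intro z
        exact congrArg (fun σ : Equiv.Perm ↥R => σ z) hxy)
    haveI : Fintype ↥R := Fintype.ofFinite _
    have h3 : Nat.card (Equiv.Perm ↥R) = (Nat.card R).factorial := by
      rw [Nat.card_eq_fintype_card, Fintype.card_perm, Nat.card_eq_fintype_card]
    rw [h3] at h2
    exact h1.trans h2
  have h1 : orderOf (ψ a') = 1 := by
    rcases (Nat.dvd_prime (by norm_num : Nat.Prime 19)).mp ho with h | h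
    · exact h
    · exfalso
      rw [h] at hcard
      have := ((by norm_num : Nat.Prime 19).dvd_factorial).mp hcard
      omega
  have hker : a' ∈ ψ.ker := by
    rw [MonoidHom.mem_ker]
    exact orderOf_eq_one_iff.mp h1
  rw [hψ, Subgroup.normalizerMonoidHom_ker, mem_subgroupOf] at hker
  exact hker

/-- a subgroup of order `19` centralizes a normal subgroup of order dividing `9240` -/
theorem centralizes_normal (N : Subgroup H) [N.Normal] (hN : Nat.card N ∣ 9240)
    (A : Subgroup H) (hA : Nat.card A = 19) : N ≤ centralizer (A : Set H) := by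
  classical
  haveI : Fact (Nat.Prime 19) := ⟨by norm_num⟩
  have hAp : IsPGroup 19 A := IsPGroup.of_card (n := 1) (by rw [hA, pow_one])
  have hA19 : ∀ a ∈ A, a ^ 19 = 1 := by
    intro a ha
    have := pow_card_eq_one' (x := (⟨a, ha⟩ : ↥A))
    rw [hA] at this
    exact congrArg Subtype.val this
  set K : Subgroup ↥N := (centralizer (A : Set H)).subgroupOf N with hK
  suffices hidx : K.index = 1 by
    have : K = ⊤ := Subgroup.index_eq_one.mp hidx
    rw [hK, Subgroup.subgroupOf_eq_top] at this
    exact this
  rw [Nat.eq_one_iff_not_exists_prime_dvd]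
  intro r hr hdvd
  haveI : Fact r.Prime := ⟨hr⟩
  let φ : ↥A →* MulAut ↥N := (MulAut.conjNormal (H := N)).comp A.subtype
  letI : MulAction ↥A (Sylow r ↥N) := MulAction.compHom (Sylow r ↥N) φ
  have hnd : ¬ 19 ∣ Nat.card (Sylow r ↥N) := by
    intro h
    have P : Sylow r ↥N := default
    have h1 := (Sylow.card_dvd_index P).trans (Subgroup.index_dvd_card (P : Subgroup ↥N))
    have := (h.trans h1).trans hN
    omega
  obtain ⟨R, hR⟩ := hAp.nonempty_fixed_point_of_prime_not_dvd_card (Sylow r ↥N) hnd
  set R' : Subgroup H := (R : Subgroup ↥N).map N.subtype with hR'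
  have hconj : ∀ a ∈ A, ∀ h ∈ R', a * h * a⁻¹ ∈ R' := by
    intro a ha h hh
    obtain ⟨x, hx, rfl⟩ := hh
    have hfix : (φ ⟨a, ha⟩ • R : Sylow r ↥N) = R := hR ⟨a, ha⟩
    have h2 : (φ ⟨a, ha⟩) x ∈ ((φ ⟨a, ha⟩ • R : Sylow r ↥N) : Subgroup ↥N) := by
      rw [Sylow.pointwise_smul_def]
      exact Subgroup.smul_mem_pointwise_smul x (φ ⟨a, ha⟩) (R : Subgroup ↥N) hx
    rw [hfix] at h2
    exact ⟨(φ ⟨a, ha⟩) x, h2, rfl⟩
  have hRcard : Nat.card R' < 19 := by
    rw [hR', Subgroup.card_map_of_injective N.subtype_injective]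
    obtain ⟨k, hk⟩ := IsPGroup.iff_card.mp R.isPGroup'
    rw [hk]
    apply primePow_lt_19 hr
    rw [← hk]
    exact (Subgroup.card_subgroup_dvd_card (R : Subgroup ↥N)).trans hN
  have hnorm : ∀ a ∈ A, a ∈ normalizer (R' : Set H) := by
    intro a ha
    rw [mem_normalizer_iff]
    intro h
    constructor
    · exact hconj a ha h
    · intro hh
      have := hconj a⁻¹ (A.inv_mem ha) _ hh
      simpa [mul_assoc] using this
  have hcent : ∀ a ∈ A, a ∈ centralizer (R' : Set H) := fun a ha =>
    mem_centralizer_of_small R' hRcard a (hA19 a ha) (hnorm a ha)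
  have hRK : (R : Subgroup ↥N) ≤ K := by
    intro x hx
    rw [hK, mem_subgroupOf, mem_centralizer_iff]
    intro a ha
    have h1 := (mem_centralizer_iff.mp (hcent a ha)) (x : H) ⟨x, hx, rfl⟩
    exact h1.symm
  have h1 := Subgroup.index_dvd_of_le hRK
  exact R.not_dvd_index (hdvd.trans h1)

/-- uniqueness of the subgroup of order `19` -/
def U19 (H : Type u) [Group H] : Prop :=
  ∀ A B : Subgroup H, Nat.card A = 19 → Nat.card B = 19 → A = B

/-- `N` normal of order prime to `19` dividing `9240`, the images of `A`, `B` in `H ⧸ N` agree -/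
theorem eq_of_map_eq (N : Subgroup H) [N.Normal] (hN : Nat.card N ∣ 9240)
    (A B : Subgroup H) (hA : Nat.card A = 19) (hB : Nat.card B = 19)
    (h : A.map (QuotientGroup.mk' N) = B.map (QuotientGroup.mk' N)) : A = B := by
  have hcen := centralizes_normal N hN A hA
  symm
  apply Subgroup.eq_of_le_of_card_ge
  · intro b hb
    have hbm : QuotientGroup.mk' N b ∈ A.map (QuotientGroup.mk' N) := by
      rw [h]; exact Subgroup.mem_map_of_mem _ hb
    obtain ⟨a, ha, hab⟩ := hbm
    have hn : a⁻¹ * b ∈ N := by
      rw [QuotientGroup.mk'_apply, QuotientGroup.mk'_apply] at hab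
      exact QuotientGroup.eq.mp hab
    set n := a⁻¹ * b with hndef
    have hb' : b = a * n := by rw [hndef]; group
    have hcomm : Commute a n := by
      have := (mem_centralizer_iff.mp (hcen hn)) a ha
      exact this
    have hb19 : b ^ 19 = 1 := by
      have := pow_card_eq_one' (x := (⟨b, hb⟩ : ↥B))
      rw [hB] at this
      exact congrArg Subtype.val this
    have ha19 : a ^ 19 = 1 := by
      have := pow_card_eq_one' (x := (⟨a, ha⟩ : ↥A))
      rw [hA] at this
      exact congrArg Subtype.val this
    have hn19 : n ^ 19 = 1 := by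
      have := hcomm.mul_pow 19
      rw [← hb', hb19, ha19, one_mul] at this
      exact this.symm
    have hnN : n ^ Nat.card N = 1 := by
      have := pow_card_eq_one' (x := (⟨n, hn⟩ : ↥N))
      exact congrArg Subtype.val this
    have ho1 : orderOf n ∣ 19 := orderOf_dvd_of_pow_eq_one hn19
    have ho2 : orderOf n ∣ 9240 := (orderOf_dvd_of_pow_eq_one hnN).trans hN
    have ho : orderOf n ∣ Nat.gcd 19 9240 := Nat.dvd_gcd ho1 ho2
    have hg : Nat.gcd 19 9240 = 1 := by norm_num
    rw [hg, Nat.dvd_one, orderOf_eq_one_iff] at ho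
    rw [hb', ho, mul_one]
    exact ha
  · rw [hA, hB]

omit [Finite H] in
theorem u19_of_not_nontrivial (hnt : ¬ Nontrivial H) : U19 H := by
  intro A B hA _
  exfalso
  rw [not_nontrivial_iff_subsingleton] at hnt
  have h1 : Nat.card ↥A = 1 := Nat.card_unique
  omega

theorem main_aux : ∀ n : ℕ, ∀ (H : Type u) [Group H] [Finite H], Nat.card H = n → n ∣ 175560 →
    U19 H ∨ (IsSimpleGroup H ∧ Nat.card H = 175560) := by
  intro n
  induction n using Nat.strong_induction_on with
  | _ n ih =>
  intro H _ _ hcard hdvd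
  by_cases hnt : Nontrivial H
  swap
  · exact Or.inl (u19_of_not_nontrivial hnt)
  by_cases hs : IsSimpleGroup H
  · by_cases hc : IsMulCommutative H
    · left
      intro A B hA hB
      have hnorm : ∀ S : Subgroup H, S.Normal := fun S => ⟨fun x hx g => by
        have : g * x * g⁻¹ = x := by rw [hc.is_comm.comm g x, mul_inv_cancel_right]
        rw [this]; exact hx⟩
      have htop : ∀ S : Subgroup H, Nat.card S = 19 → S = ⊤ := by
        intro S hS
        rcases hs.eq_bot_or_eq_top_of_normal S (hnorm S) with h | h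
        · rw [h, Subgroup.card_bot] at hS; omega
        · exact h
      rw [htop A hA, htop B hB]
    · by_cases h19 : 19 ∣ n
      · right
        obtain ⟨m, rfl⟩ := h19
        have hm : m ∣ 9240 := by
          have : 19 * m ∣ 19 * 9240 := by
            have e : 19 * 9240 = 175560 := by norm_num
            rw [e]; exact hdvd
          exact Nat.dvd_of_mul_dvd_mul_left (by norm_num) this
        have := eq_9240_of_simple hc hm hcard
        subst this
        exact ⟨hs, hcard.trans (by norm_num)⟩
      · left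
        intro A B hA _
        exfalso
        apply h19
        rw [← hcard, ← hA]
        exact Subgroup.card_subgroup_dvd_card A
  · have hex : ∃ N : Subgroup H, N.Normal ∧ N ≠ ⊥ ∧ N ≠ ⊤ := by
      by_contra hcon
      push Not at hcon
      apply hs
      exact { toNontrivial := hnt
              eq_bot_or_eq_top_of_normal := fun N hN => by
                by_cases hb : N = ⊥
                · exact Or.inl hb
                · exact Or.inr (hcon N hN hb) }
    obtain ⟨N, hNn, hNb, hNt⟩ := hex
    haveI := hNn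
    left
    have hmul := Subgroup.card_eq_card_quotient_mul_card_subgroup N
    have hN1 : Nat.card N ≠ 1 := fun h => hNb (Subgroup.eq_bot_of_card_eq N h)
    have hNn' : Nat.card N ≠ Nat.card H := fun h => hNt (Subgroup.eq_top_of_card_eq N h)
    have hn0 : 0 < n := Nat.pos_of_dvd_of_pos hdvd (by norm_num)
    have hnle : n ≤ 175560 := Nat.le_of_dvd (by norm_num) hdvd
    obtain ⟨a, ha⟩ : ∃ a, Nat.card ↥N = a := ⟨_, rfl⟩
    obtain ⟨q, hq⟩ : ∃ q, Nat.card (H ⧸ N) = q := ⟨_, rfl⟩
    rw [hcard, ha, hq] at hmul
    rw [hcard, ha] at hNn'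
    rw [ha] at hN1
    have ha0 : 0 < a := by rw [← ha]; exact Nat.card_pos
    have hq0 : 0 < q := by rw [← hq]; exact Nat.card_pos
    have hadn : a ∣ n := Dvd.intro_left q hmul.symm
    have hqdn : q ∣ n := Dvd.intro a hmul.symm
    have halt : a < n := by
      have : a ≤ n := Nat.le_of_dvd hn0 hadn
      omega
    have hq1 : q ≠ 1 := by
      intro h
      rw [h, one_mul] at hmul
      exact hNn' hmul.symm
    have hqlt : q < n := by
      have h2 : 2 ≤ a := by omega
      nlinarith
    have ihN : U19 ↥N := by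
      rcases ih a halt ↥N ha (hadn.trans hdvd) with h | ⟨-, h⟩
      · exact h
      · exfalso; omega
    have ihQ : U19 (H ⧸ N) := by
      rcases ih q hqlt (H ⧸ N) hq (hqdn.trans hdvd) with h | ⟨-, h⟩
      · exact h
      · exfalso; omega
    intro A B hA hB
    have hmapdvd : ∀ S : Subgroup H, Nat.card S = 19 →
        Nat.card (S.map (QuotientGroup.mk' N)) ∣ 19 := by
      intro S hS
      have := Subgroup.card_map_dvd (H := S) (QuotientGroup.mk' N)
      rwa [hS] at this
    by_cases h19 : 19 ∣ a
    · have hq19 : ¬ 19 ∣ q := by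
        intro h
        obtain ⟨a', rfl⟩ := h19
        obtain ⟨q', rfl⟩ := h
        have : 361 ∣ 175560 := by
          refine dvd_trans ?_ hdvd
          exact ⟨q' * a', by rw [hmul]; ring⟩
        omega
      have hle : ∀ S : Subgroup H, Nat.card S = 19 → S ≤ N := by
        intro S hS
        have h1 := hmapdvd S hS
        have h2 : Nat.card (S.map (QuotientGroup.mk' N)) ∣ q := by
          rw [← hq]; exact Subgroup.card_subgroup_dvd_card _
        have h3 : Nat.card (S.map (QuotientGroup.mk' N)) = 1 := by
          rcases (Nat.dvd_prime (by norm_num : Nat.Prime 19)).mp h1 with h | h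
          · exact h
          · exfalso; rw [h] at h2; exact hq19 h2
        have := Subgroup.eq_bot_of_card_eq _ h3
        rw [Subgroup.map_eq_bot_iff, QuotientGroup.ker_mk'] at this
        exact this
      have hAN := hle A hA
      have hBN := hle B hB
      have e := ihN (A.subgroupOf N) (B.subgroupOf N)
        (by rw [Nat.card_congr (Subgroup.subgroupOfEquivOfLe hAN).toEquiv, hA])
        (by rw [Nat.card_congr (Subgroup.subgroupOfEquivOfLe hBN).toEquiv, hB])
      rw [← Subgroup.map_subgroupOf_eq_of_le hAN, ← Subgroup.map_subgroupOf_eq_of_le hBN, e]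
    · have hadvd' : a ∣ 9240 := by
        have h1 : a ∣ 19 * 9240 := by
          have e : 19 * 9240 = 175560 := by norm_num
          rw [e]; exact hadn.trans hdvd
        have hcop : Nat.Coprime a 19 :=
          ((Nat.Prime.coprime_iff_not_dvd (by norm_num : Nat.Prime 19)).mpr h19).symm
        exact hcop.dvd_of_dvd_mul_left h1
      have himg : ∀ S : Subgroup H, Nat.card S = 19 →
          Nat.card (S.map (QuotientGroup.mk' N)) = 19 := by
        intro S hS
        rcases (Nat.dvd_prime (by norm_num : Nat.Prime 19)).mp (hmapdvd S hS) with h | h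
        · exfalso
          have := Subgroup.eq_bot_of_card_eq _ h
          rw [Subgroup.map_eq_bot_iff, QuotientGroup.ker_mk'] at this
          apply h19
          rw [← hS, ← ha]
          exact Subgroup.card_dvd_of_le this
        · exact h
      exact eq_of_map_eq N (ha ▸ hadvd') A B hA hB (ihQ _ _ (himg A hA) (himg B hB))

end Cfsg.Agent.Lib.Helper20.J1Ord
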