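import Mathlib
import Cfsg.Prelude.Def_Solvable
import Cfsg.Agent.Lib.Helper20.GlauPerfC
import Cfsg.Agent.Lib.Helper20.GlauPerfE

/-!
Helper20 `JanR`, file A: automorphisms of 2-power order fixing an abelian Sylow 2-subgroup pointwise
are inner (for groups with `O(G) = 1`).
-/

set_option autoImplicit false

namespace Cfsg.Agent.Lib.Helper20.JanR

open SemidirectProduct Cfsg.Agent.Lib.Helper20.GlauPerf

section relavg

variable {Γ : Type*} [Group Γ]

/-- relative averaging: an element of an abelian subgroup `T` can be corrected by an element of `A`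
to centralize the normalizer of `T`. -/
theorem exists_mul_centralizes_normalizer [Finite Γ] (T A : Subgroup Γ)
    (hT : ∀ a ∈ T, ∀ b ∈ T, a * b = b * a) (hAT : A ≤ T)
    (hAN : ∀ n ∈ Subgroup.normalizer (T : Set Γ), ∀ a ∈ A, n * a * n⁻¹ ∈ A)
    (m : ℕ) (hm : ∀ a ∈ A, a ^ m = 1)
    (hcop : Nat.Coprime (T.relIndex (Subgroup.normalizer (T : Set Γ))) m)
    (u : Γ) (hu : u ∈ T)
    (huA : ∀ n ∈ Subgroup.normalizer (T : Set Γ), u * n * u⁻¹ * n⁻¹ ∈ A) :
    ∃ z ∈ A, ∀ n ∈ Subgroup.normalizer (T : Set Γ), (z⁻¹ * u) * n = n * (z⁻¹ * u) := by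
  set N := Subgroup.normalizer (T : Set Γ) with hN
  have hTN : T ≤ N := Subgroup.le_normalizer
  have : (A.subgroupOf N).Normal := by
    constructor
    intro a ha g
    rw [Subgroup.mem_subgroupOf] at ha ⊢
    have := hAN g g.2 a ha
    simpa using this
  have huN : u ∈ N := hTN hu
  obtain ⟨z, hz, hzg⟩ := inner_of_coc_mem_abelian (T.subgroupOf N) (A.subgroupOf N)
    (by
      intro a ha b hb
      rw [Subgroup.mem_subgroupOf] at ha hb
      apply Subtype.ext
      exact hT a (hAT ha) b (hAT hb))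
    m
    (by
      intro a ha
      rw [Subgroup.mem_subgroupOf] at ha
      apply Subtype.ext
      rw [Subgroup.coe_pow]
      exact hm a ha)
    hcop
    (MulAut.conj ⟨u, huN⟩)
    (by
      intro s hs
      rw [Subgroup.mem_subgroupOf] at hs
      apply Subtype.ext
      rw [MulAut.conj_apply]
      show u * s * u⁻¹ = s
      rw [hT u hu s hs, mul_inv_cancel_right])
    (by
      intro g
      rw [Subgroup.mem_subgroupOf, MulAut.conj_apply]
      exact huA g g.2)
  refine ⟨z, hz, ?_⟩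
  intro n hn
  have h1 := hzg ⟨n, hn⟩
  rw [MulAut.conj_apply] at h1
  have h2 : u * n * u⁻¹ = (z : Γ) * n * (z : Γ)⁻¹ := congrArg Subtype.val h1
  calc (z : Γ)⁻¹ * u * n = (z : Γ)⁻¹ * (u * n * u⁻¹) * u := by group
    _ = (z : Γ)⁻¹ * ((z : Γ) * n * (z : Γ)⁻¹) * u := by rw [h2]
    _ = n * ((z : Γ)⁻¹ * u) := by group

end relavg

section main

variable {G : Type*} [Group G]

/-- **Automorphisms of 2-power order fixing an abelian Sylow 2-subgroup pointwise are inner**
(when `O(G) = 1`). -/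
theorem inner_of_fixes_abelian_sylow [Finite G] (hO : Cfsg.pPrimeCore 2 G = ⊥)
    (S : Sylow 2 G) (hS : ∀ a ∈ S, ∀ b ∈ S, a * b = b * a) (x : MulAut G) (k : ℕ)
    (hxk : x ^ (2 ^ k) = 1) (hxS : ∀ s ∈ S, x s = s) :
    ∃ s ∈ S, ∀ g, x g = s * g * s⁻¹ := by
  classical
  have : Fact (Nat.Prime 2) := ⟨Nat.prime_two⟩
  set Z : Subgroup (MulAut G) := Subgroup.zpowers x with hZ
  set φ : ↥Z →* MulAut G := Z.subtype with hφ
  set ξ : ↥Z := ⟨x, Subgroup.mem_zpowers x⟩ with hξ
  have : Finite ↥Z := inferInstance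
  have : Finite (G ⋊[φ] ↥Z) := Finite.of_equiv _ (equivProd (φ := φ)).symm
  -- elements of `Z` fix `S` pointwise
  have hx' : ∀ t ∈ S, x⁻¹ t = t := by
    intro t ht
    have := hxS t ht
    calc x⁻¹ t = x⁻¹ (x t) := by rw [this]
      _ = t := by simp
  have hpow : ∀ k : ℤ, ∀ s ∈ S, (x ^ k) s = s := by
    intro k
    induction k using Int.induction_on with
    | zero => intro s _; simp
    | succ n ih => intro s hs; rw [zpow_add_one, MulAut.mul_apply, hxS s hs, ih s hs]
    | pred n ih => intro s hs; rw [zpow_sub_one, MulAut.mul_apply, hx' s hs, ih s hs]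
  have hZS : ∀ z : ↥Z, ∀ s ∈ S, φ z s = s := by
    rintro ⟨z, hz⟩ s hs
    obtain ⟨k, rfl⟩ := Subgroup.mem_zpowers_iff.mp hz
    exact hpow k s hs
  have hZc : ∀ a b : ↥Z, a * b = b * a := by
    intro a b
    apply Subtype.ext
    obtain ⟨ka, hka⟩ := Subgroup.mem_zpowers_iff.mp a.2
    obtain ⟨kb, hkb⟩ := Subgroup.mem_zpowers_iff.mp b.2
    show (a : MulAut G) * b = b * a
    rw [← hka, ← hkb, ← zpow_add, ← zpow_add, add_comm]
  set u : G ⋊[φ] ↥Z := inr ξ with hu
  -- the 2-subgroup `S ⋊ Z`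
  let T : Subgroup (G ⋊[φ] ↥Z) :=
    { carrier := {m | m.left ∈ S}
      mul_mem' := by
        intro a b ha hb
        show (a * b).left ∈ S
        rw [mul_left, hZS a.right _ hb]
        exact mul_mem ha hb
      one_mem' := by
        show (1 : G ⋊[φ] ↥Z).left ∈ S
        rw [one_left]; exact one_mem _
      inv_mem' := by
        intro a ha
        show a⁻¹.left ∈ S
        rw [inv_left, hZS a.right⁻¹ _ (inv_mem ha)]
        exact inv_mem ha }
  have hTmem : ∀ m : G ⋊[φ] ↥Z, m ∈ T ↔ m.left ∈ S := fun m => Iff.rfl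
  have hTcomm : ∀ a ∈ T, ∀ b ∈ T, a * b = b * a := by
    intro a ha b hb
    rw [hTmem] at ha hb
    apply SemidirectProduct.ext
    · rw [mul_left, mul_left, hZS a.right _ hb, hZS b.right _ ha]
      exact hS _ ha _ hb
    · rw [mul_right, mul_right]
      exact hZc _ _
  have hZ2 : ∃ j : ℕ, Nat.card ↥Z = 2 ^ j := by
    rw [hZ, Nat.card_zpowers]
    have h1 : orderOf x ∣ 2 ^ k := orderOf_dvd_of_pow_eq_one hxk
    exact (Nat.dvd_prime_pow Nat.prime_two).mp h1 |>.imp fun j hj => hj.2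
  have hT2 : IsPGroup 2 ↥T := by
    have hcard : Nat.card ↥T = Nat.card ↥(S : Subgroup G) * Nat.card ↥Z := by
      rw [← Nat.card_prod]
      apply Nat.card_congr
      exact
        { toFun := fun m => (⟨m.1.left, m.2⟩, m.1.right)
          invFun := fun q => ⟨⟨q.1.1, q.2⟩, q.1.2⟩
          left_inv := fun m => by
            apply Subtype.ext
            rfl
          right_inv := fun q => by
            rfl }
    obtain ⟨i, hi⟩ := IsPGroup.iff_card.mp S.isPGroup'
    obtain ⟨j, hj⟩ := hZ2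
    apply IsPGroup.of_card (n := i + j)
    rw [hcard, hi, hj, pow_add]
  obtain ⟨P, hTP⟩ := hT2.exists_le_sylow
  -- `P ∩ G = S`
  have hPS : ∀ a : G, (inl a : G ⋊[φ] ↥Z) ∈ P → a ∈ S := by
    intro a ha
    have hQ : IsPGroup 2 ↥((P : Subgroup (G ⋊[φ] ↥Z)).comap (inl : G →* G ⋊[φ] ↥Z)) :=
      P.isPGroup'.comap_of_injective _ inl_injective
    have hSQ : (S : Subgroup G) ≤ (P : Subgroup (G ⋊[φ] ↥Z)).comap (inl : G →* G ⋊[φ] ↥Z) := by
      intro s hs
      apply hTP
      show (inl s : G ⋊[φ] ↥Z).left ∈ S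
      rw [left_inl]; exact hs
    have hEq := S.is_maximal' hQ hSQ
    have ha' : a ∈ (P : Subgroup (G ⋊[φ] ↥Z)).comap (inl : G →* G ⋊[φ] ↥Z) := ha
    rw [hEq] at ha'
    exact ha'
  -- `P = T`
  have hPT : (P : Subgroup (G ⋊[φ] ↥Z)) = T := by
    apply le_antisymm _ hTP
    intro q hq
    have h1 : (inr q.right : G ⋊[φ] ↥Z) ∈ P := by
      apply hTP
      show (inr q.right : G ⋊[φ] ↥Z).left ∈ S
      rw [left_inr]; exact one_mem _
    have h2 : (inl q.left : G ⋊[φ] ↥Z) ∈ P := by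
      have h3 : (inl q.left : G ⋊[φ] ↥Z) = q * (inr q.right)⁻¹ := by
        rw [eq_mul_inv_iff_mul_eq, inl_left_mul_inr_right]
      rw [h3]
      exact mul_mem hq (inv_mem h1)
    exact hPS _ h2
  -- elements of `T` with trivial right component
  have hTl : ∀ m ∈ T, m.right = 1 → m ∈ (S : Subgroup G).map (inl : G →* G ⋊[φ] ↥Z) := by
    intro m hm hr
    refine ⟨m.left, hm, ?_⟩
    apply SemidirectProduct.ext
    · rw [left_inl]
    · rw [right_inl, hr]
  set N := Subgroup.normalizer (T : Set (G ⋊[φ] ↥Z)) with hN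
  have hTN : T ≤ N := Subgroup.le_normalizer
  have hconjT : ∀ n ∈ N, ∀ a ∈ T, n * a * n⁻¹ ∈ T := by
    intro n hn a ha
    exact (Subgroup.mem_normalizer_iff.mp hn a).mp ha
  have huT : u ∈ T := by
    show u.left ∈ S
    rw [hu, left_inr]; exact one_mem _
  have hAT : (S : Subgroup G).map (inl : G →* G ⋊[φ] ↥Z) ≤ T := by
    rintro _ ⟨s, hs, rfl⟩
    show (inl s : G ⋊[φ] ↥Z).left ∈ S
    rw [left_inl]; exact hs
  -- coprimality
  have hcop : Nat.Coprime (T.relIndex N) (Nat.card ↥(S : Subgroup G)) := by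
    obtain ⟨i, hi⟩ := IsPGroup.iff_card.mp S.isPGroup'
    rw [hi]
    apply Nat.Coprime.pow_right
    have hodd : Odd (T.relIndex N) := by
      rw [← Nat.not_even_iff_odd, even_iff_two_dvd]
      intro h2
      have h3 : T.relIndex N ∣ T.index := Subgroup.relIndex_dvd_index_of_le hTN
      have h4 : ¬ 2 ∣ (P : Subgroup (G ⋊[φ] ↥Z)).index := P.not_dvd_index
      rw [hPT] at h4
      exact h4 (dvd_trans h2 h3)
    exact (Nat.coprime_two_left.mpr hodd).symm
  obtain ⟨z, hzA, hzc⟩ := exists_mul_centralizes_normalizer T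
    ((S : Subgroup G).map (inl : G →* G ⋊[φ] ↥Z)) hTcomm hAT
    (by
      intro n hn a ha
      apply hTl _ (hconjT n hn a (hAT ha))
      obtain ⟨s, hs, rfl⟩ := ha
      rw [mul_right, mul_right, right_inl, mul_one, inv_right, mul_inv_cancel])
    (Nat.card ↥(S : Subgroup G))
    (by
      rintro _ ⟨s, hs, rfl⟩
      rw [← map_pow]
      have : s ^ Nat.card ↥(S : Subgroup G) = 1 := by
        have h1 : (⟨s, hs⟩ : ↥(S : Subgroup G)) ^ Nat.card ↥(S : Subgroup G) = 1 :=
          pow_card_eq_one'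
        have h2 := congrArg Subtype.val h1
        rw [Subgroup.coe_pow, Subgroup.coe_one] at h2
        exact h2
      rw [this, map_one])
    hcop u huT
    (by
      intro n hn
      apply hTl
      · have h1 : n * u⁻¹ * n⁻¹ ∈ T := hconjT n hn _ (inv_mem huT)
        have h2 : u * n * u⁻¹ * n⁻¹ = u * (n * u⁻¹ * n⁻¹) := by group
        rw [h2]
        exact mul_mem huT h1
      · rw [mul_right, mul_right, mul_right, inv_right, inv_right, hZc u.right n.right,
          mul_inv_cancel_right, mul_inv_cancel])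
  obtain ⟨s₀, hs₀, rfl⟩ := hzA
  set c : G ⋊[φ] ↥Z := (inl s₀)⁻¹ * u with hc
  have hcT : c ∈ T := mul_mem (inv_mem (hAT ⟨s₀, hs₀, rfl⟩)) huT
  -- the action hom
  set ρ : G ⋊[φ] ↥Z →* MulAut G := SemidirectProduct.lift (MulAut.conj : G →* MulAut G) Z.subtype
    (by
      intro g
      ext n w
      simp [hφ]) with hρ
  have hρapp : ∀ (m : G ⋊[φ] ↥Z) (g : G), ρ m g = m.left * (φ m.right g) * m.left⁻¹ := by
    intro m g
    rw [hρ]
    simp [SemidirectProduct.lift, hφ]
  have hρT : ∀ m ∈ T, ∀ s ∈ S, ρ m s = s := by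
    intro m hm s hs
    rw [hρapp, hZS m.right s hs, hS m.left hm s hs, mul_inv_cancel_right]
  have hconj : ∀ (m : G ⋊[φ] ↥Z) (g : G), (inl g)⁻¹ * m * inl g = inl (coc (ρ m) g) * m := by
    intro m g
    apply SemidirectProduct.ext
    · rw [coc_def, hρapp]
      simp [mul_assoc]
    · simp
  set γ : MulAut G := ρ c with hγ
  have hγ1 : γ = 1 := by
    by_contra hne
    -- some power `2 ^ K` kills `γ`
    obtain ⟨K, hK⟩ : ∃ K : ℕ, γ ^ (2 ^ K) = 1 := by
      obtain ⟨K, hK⟩ := (IsPGroup.iff_orderOf.mp hT2) ⟨c, hcT⟩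
      refine ⟨K, ?_⟩
      have h1 : c ^ (2 ^ K) = 1 := by
        have h2 : (⟨c, hcT⟩ : ↥T) ^ (2 ^ K) = 1 := by
          rw [← hK]; exact pow_orderOf_eq_one _
        have h3 := congrArg Subtype.val h2
        simpa using h3
      rw [hγ, ← map_pow, h1, map_one]
    obtain ⟨j, hj1, hj2⟩ := exists_involution_pow γ K hK hne
    set y : G ⋊[φ] ↥Z := c ^ (2 ^ j) with hy
    have hyT : y ∈ T := pow_mem hcT _
    have hρy : ρ y = γ ^ (2 ^ j) := by rw [hy, map_pow]
    have hycent : ∀ n ∈ N, y * n = n * y := by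
      intro n hn
      have h1 : Commute c n := hzc n hn
      exact (h1.pow_left _).eq
    have hiso : ∀ g : G, coc (γ ^ (2 ^ j)) g ∈ S → coc (γ ^ (2 ^ j)) g = 1 := by
      intro g hg
      have h1 := hconj y g
      rw [hρy] at h1
      have h2 : (inl g)⁻¹ * y * inl g ∈ T := by
        rw [h1]
        refine mul_mem ?_ hyT
        show (inl (coc (γ ^ (2 ^ j)) g) : G ⋊[φ] ↥Z).left ∈ S
        rw [left_inl]; exact hg
      have hcP : ∀ w ∈ T, w ∈ Subgroup.centralizer ((P : Subgroup (G ⋊[φ] ↥Z)) : Set (G ⋊[φ] ↥Z)) := by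
        intro w hw
        rw [hPT, Subgroup.mem_centralizer_iff]
        intro v hv
        exact hTcomm v hv w hw
      obtain ⟨n, hn, hn2⟩ := P.conj_eq_normalizer_conj_of_mem_centralizer y (inl g)
        (hcP y hyT) (hcP _ h2)
      have hn' : n ∈ N := by
        rw [hN, ← hPT]; exact hn
      have h3 : n⁻¹ * y * n = y := by
        rw [mul_assoc, hycent n hn', inv_mul_cancel_left]
      rw [hn2, h3] at h1
      have h4 : (inl (coc (γ ^ (2 ^ j)) g) : G ⋊[φ] ↥Z) = 1 := by
        have := h1.symm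
        rwa [mul_eq_right] at this
      have h5 := congrArg SemidirectProduct.left h4
      rwa [left_inl, one_left] at h5
    have hfix : ∀ s ∈ S, (γ ^ (2 ^ j)) s = s := by
      intro s hs
      rw [← hρy]
      exact hρT y hyT s hs
    apply hj1
    ext g
    have h1 := coc_mem_pPrimeCore_of_isolated S (γ ^ (2 ^ j)) hj2 hfix hiso g
    rw [hO, Subgroup.mem_bot, coc_eq_one_iff] at h1
    rw [h1, MulAut.one_apply]
  refine ⟨s₀, hs₀, ?_⟩
  intro g
  have h1 : ρ c g = g := by rw [← hγ, hγ1, MulAut.one_apply]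
  have h2 : ρ c = (MulAut.conj s₀)⁻¹ * x := by
    rw [hc, map_mul, map_inv, hρ, SemidirectProduct.lift_inl, hu, SemidirectProduct.lift_inr]
    rfl
  rw [h2, MulAut.mul_apply] at h1
  have h3 : x g = MulAut.conj s₀ g := by
    calc x g = MulAut.conj s₀ ((MulAut.conj s₀)⁻¹ (x g)) := (MulAut.apply_inv_self _ _ _).symm
      _ = MulAut.conj s₀ g := by rw [h1]
  rw [h3, MulAut.conj_apply]

end main

end Cfsg.Agent.Lib.Helper20.JanR
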