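import Mathlib
import Cfsg.Agent.Lib.Helper20.JanRB

/-!
Helper20 `JanR`, file C: a perfect central extension by a group of order 2 of a group whose Sylow
2-subgroups are elementary abelian of order 8 with `C_S(N_G(S)) = 1` does not exist.
-/

set_option autoImplicit false

namespace Cfsg.Agent.Lib.Helper20.JanR

open Subgroup

variable {L G : Type*} [Group L] [Group G]

theorem central_ext_contra [Finite L] (π : L →* G) (hπ : Function.Surjective π)
    (hperf : commutator L = ⊤) (hker : π.ker ≤ center L) (hk2 : Nat.card ↥π.ker = 2)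
    (S : Sylow 2 L) (hcard : Nat.card ↥(S : Subgroup L) = 16) (hsq : ∀ a ∈ S, π a * π a = 1)
    (hC : ∀ r ∈ (S : Subgroup L).map π,
      (∀ m ∈ normalizer (((S : Subgroup L).map π : Subgroup G) : Set G), m * r * m⁻¹ = r) → r = 1) :
    False := by
  classical
  have : Fact (Nat.Prime 2) := ⟨Nat.prime_two⟩
  set Z₀ : Subgroup L := π.ker with hZ₀
  have hZS : Z₀ ≤ (S : Subgroup L) :=
    IsPGroup.le_sylow_of_normal (IsPGroup.of_card (n := 1) (by rw [hk2, pow_one])) S
  -- commutators of `S` lie in `Z₀`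
  have hinvG : ∀ a ∈ S, (π a)⁻¹ = π a := by
    intro a ha
    exact inv_eq_of_mul_eq_one_left (hsq a ha)
  have hcommL : ∀ g ∈ S, ∀ h ∈ S, g * h * g⁻¹ * h⁻¹ ∈ Z₀ := by
    intro g hg h hh
    rw [hZ₀, MonoidHom.mem_ker, map_mul, map_mul, map_mul, map_inv, map_inv, hinvG g hg,
      hinvG h hh]
    have := hsq (g * h) (mul_mem hg hh)
    rw [map_mul] at this
    rw [← this]; group
  -- `S` is not abelian
  have hnab : ¬ ∀ a ∈ S, ∀ b ∈ S, a * b = b * a := by
    intro hab
    let _ : CommGroup ↥(S : Subgroup L) :=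
      { (inferInstance : Group ↥(S : Subgroup L)) with
        mul_comm := fun a b => Subtype.ext (hab a a.2 b b.2) }
    obtain ⟨z, hz, hz1⟩ : ∃ z ∈ Z₀, z ≠ 1 := by
      by_contra hcon
      push Not at hcon
      have : Z₀ = ⊥ := (Subgroup.eq_bot_iff_forall _).mpr hcon
      rw [this, Subgroup.card_bot] at hk2
      omega
    have hzc := hker hz
    have key : ∀ (k : ℕ) (g₀ : L), g₀⁻¹ * z ^ k * g₀ ∈ (S : Subgroup L) →
        g₀⁻¹ * z ^ k * g₀ = z ^ k := by
      intro k g₀ _
      have := mem_center_iff.mp (pow_mem hzc k) g₀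
      rw [mul_assoc, ← this, inv_mul_cancel_left]
    have h1 := MonoidHom.transfer_eq_pow (MonoidHom.id ↥(S : Subgroup L)) z key
    have h2 : MonoidHom.transfer (MonoidHom.id ↥(S : Subgroup L)) z = 1 := by
      have h3 : commutator L ≤ (MonoidHom.transfer (MonoidHom.id ↥(S : Subgroup L))).ker :=
        Abelianization.commutator_subset_ker _
      rw [hperf] at h3
      exact MonoidHom.mem_ker.mp (h3 (mem_top z))
    rw [h2] at h1
    have h3 : z ^ (S : Subgroup L).index = 1 := by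
      have := congrArg Subtype.val h1
      simpa using this.symm
    have h4 : z ^ 2 = 1 := by
      have h5 : (⟨z, hz⟩ : ↥Z₀) ^ Nat.card ↥Z₀ = 1 := pow_card_eq_one'
      rw [hk2] at h5
      have := congrArg Subtype.val h5
      rw [Subgroup.coe_pow, Subgroup.coe_one] at this
      exact this
    have h5 : orderOf z ∣ 2 := orderOf_dvd_of_pow_eq_one h4
    have h6 : orderOf z ∣ (S : Subgroup L).index := orderOf_dvd_of_pow_eq_one h3
    have h7 : Nat.Coprime 2 (S : Subgroup L).index :=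
      (Nat.Prime.coprime_iff_not_dvd Nat.prime_two).mpr S.not_dvd_index
    have h8 : orderOf z = 1 := Nat.eq_one_of_dvd_coprimes h7 h5 h6
    exact hz1 (orderOf_eq_one_iff.mp h8)
  push Not at hnab
  obtain ⟨a, ha, b, hb, hab⟩ := hnab
  -- the centre of `S`
  have hcardZ' : Nat.card ↥(Z₀.subgroupOf (S : Subgroup L)) = 2 := by
    exact (Nat.card_congr (Subgroup.subgroupOfEquivOfLe hZS).toEquiv).trans hk2
  have hc4 : Nat.card ↥(center ↥(S : Subgroup L)) = 4 := by
    apply card_center_eq_four hcard (Z₀.subgroupOf (S : Subgroup L)) _ hcardZ' _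
      ⟨a, ha⟩ ⟨b, hb⟩
    · intro h
      exact hab (congrArg Subtype.val h)
    · intro z hz
      rw [mem_subgroupOf] at hz
      rw [mem_center_iff]
      intro g
      apply Subtype.ext
      exact mem_center_iff.mp (hker hz) g
    · intro g h
      rw [mem_subgroupOf]
      exact hcommL g g.2 h h.2
  set R : Subgroup L := (center ↥(S : Subgroup L)).map (S : Subgroup L).subtype with hR
  have hRcard : Nat.card ↥R = 4 := by
    rw [hR, Subgroup.card_map_of_injective (Subgroup.subtype_injective _), hc4]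
  have hRmem : ∀ x : L, x ∈ R ↔ x ∈ S ∧ ∀ s ∈ S, s * x = x * s := by
    intro x
    constructor
    · rintro ⟨q, hq, rfl⟩
      refine ⟨q.2, ?_⟩
      intro s hs
      have := mem_center_iff.mp hq ⟨s, hs⟩
      exact congrArg Subtype.val this
    · rintro ⟨hx, hxs⟩
      refine ⟨⟨x, hx⟩, mem_center_iff.mpr ?_, rfl⟩
      intro g
      apply Subtype.ext
      exact hxs g g.2
  have hZR : Z₀ ≤ R := by
    intro z hz
    rw [hRmem]
    exact ⟨hZS hz, fun s _ => mem_center_iff.mp (hker hz) s⟩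
  obtain ⟨c, hcR, hcZ⟩ : ∃ c ∈ R, c ∉ Z₀ := by
    by_contra hcon
    push Not at hcon
    have h1 : R ≤ Z₀ := hcon
    have h2 := Subgroup.card_le_of_le h1
    rw [hRcard, hk2] at h2
    omega
  have hcS : c ∈ S := ((hRmem c).mp hcR).1
  have hr1 : π c ≠ 1 := fun h => hcZ (MonoidHom.mem_ker.mpr h)
  apply hr1
  apply hC (π c) ⟨c, hcS, rfl⟩
  intro m hm
  obtain ⟨n, rfl⟩ := hπ m
  -- lifts of normalizing elements normalize
  have hlift : ∀ n' : L, π n' ∈ normalizer (((S : Subgroup L).map π : Subgroup G) : Set G) →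
      ∀ s ∈ S, n' * s * n'⁻¹ ∈ S := by
    intro n' hn' s hs
    have h1 : π n' * π s * (π n')⁻¹ ∈ (S : Subgroup L).map π :=
      (mem_normalizer_iff.mp hn' (π s)).mp ⟨s, hs, rfl⟩
    obtain ⟨s', hs', hs'2⟩ := h1
    have h2 : s'⁻¹ * (n' * s * n'⁻¹) ∈ Z₀ := by
      rw [hZ₀, MonoidHom.mem_ker, map_mul, map_inv, hs'2, map_mul, map_mul, map_inv]
      group
    have h3 : n' * s * n'⁻¹ = s' * (s'⁻¹ * (n' * s * n'⁻¹)) := by group
    rw [h3]
    exact mul_mem hs' (hZS h2)
  have hn1 := hlift n hm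
  have hn2 : ∀ s ∈ S, n⁻¹ * s * n ∈ S := by
    intro s hs
    have := hlift n⁻¹ (by rw [map_inv]; exact inv_mem hm) s hs
    rwa [inv_inv] at this
  have hcR' : n * c * n⁻¹ ∈ R := by
    rw [hRmem]
    refine ⟨hn1 c hcS, ?_⟩
    intro s hs
    have h1 := ((hRmem c).mp hcR).2 (n⁻¹ * s * n) (hn2 s hs)
    calc s * (n * c * n⁻¹) = n * ((n⁻¹ * s * n) * c) * n⁻¹ := by group
      _ = n * (c * (n⁻¹ * s * n)) * n⁻¹ := by rw [h1]
      _ = n * c * n⁻¹ * s := by group
  have hcZ' : n * c * n⁻¹ ∉ Z₀ := by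
    intro h
    apply hcZ
    have h1 : c = n⁻¹ * (n * c * n⁻¹) * n⁻¹⁻¹ := by group
    rw [h1]
    exact (inferInstance : Z₀.Normal).conj_mem _ h n⁻¹
  have h1 := mul_inv_mem_of_card_eq_two_mul hZR (by rw [hRcard, hk2]) hcR' hcZ' hcR hcZ
  rw [hZ₀, MonoidHom.mem_ker, map_mul, map_mul, map_mul, map_inv, map_inv] at h1
  exact mul_inv_eq_one.mp h1

end Cfsg.Agent.Lib.Helper20.JanR
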