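import Mathlib
import Cfsg.Agent.S0276
import Cfsg.Agent.Lib.Helper12.Basic
import Cfsg.Agent.Lib.Helper13.DkDihExist

/-!
Helper20 `JanR`, file D: an abelian Sylow 2-subgroup of `PSL₂(q)`, `q` odd, is a four-group.
-/

set_option autoImplicit false

namespace Cfsg.Agent.Lib.Helper20.JanR

open Subgroup

section general

variable {X : Type*} [Group X]

/-- In a group with abelian Sylow 2-subgroups, an element of order dividing 4 inverted by an element
of order dividing 2 has order dividing 2. -/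
theorem sq_eq_one_of_inverted [Finite X] (P : Sylow 2 X) (hP : ∀ a ∈ P, ∀ b ∈ P, a * b = b * a)
    (a b : X) (ha : a ^ 4 = 1) (hb : b ^ 2 = 1) (hba : b * a * b⁻¹ = a⁻¹) : a ^ 2 = 1 := by
  have : Fact (Nat.Prime 2) := ⟨Nat.prime_two⟩
  have hA : IsPGroup 2 ↥(zpowers a) := by
    rw [IsPGroup.iff_orderOf]
    rintro ⟨w, hw⟩
    obtain ⟨k, rfl⟩ := mem_zpowers_iff.mp hw
    have h1 : (a ^ k) ^ (2 ^ 2) = 1 := by
      rw [← zpow_natCast, ← zpow_mul, mul_comm, zpow_mul, zpow_natCast]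
      norm_num
      rw [ha, one_zpow]
    have h2 : orderOf (⟨a ^ k, hw⟩ : ↥(zpowers a)) ∣ 2 ^ 2 := by
      rw [Subgroup.orderOf_mk]
      exact orderOf_dvd_of_pow_eq_one h1
    obtain ⟨j, _, hj⟩ := (Nat.dvd_prime_pow Nat.prime_two).mp h2
    exact ⟨j, hj⟩
  have hB : IsPGroup 2 ↥(zpowers b) := by
    rw [IsPGroup.iff_orderOf]
    rintro ⟨w, hw⟩
    obtain ⟨k, rfl⟩ := mem_zpowers_iff.mp hw
    have h1 : (b ^ k) ^ (2 ^ 1) = 1 := by
      rw [← zpow_natCast, ← zpow_mul, mul_comm, zpow_mul, zpow_natCast]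
      norm_num
      rw [hb, one_zpow]
    have h2 : orderOf (⟨b ^ k, hw⟩ : ↥(zpowers b)) ∣ 2 ^ 1 := by
      rw [Subgroup.orderOf_mk]
      exact orderOf_dvd_of_pow_eq_one h1
    obtain ⟨j, _, hj⟩ := (Nat.dvd_prime_pow Nat.prime_two).mp h2
    exact ⟨j, hj⟩
  have hnorm : zpowers b ≤ normalizer ((zpowers a : Subgroup X) : Set X) := by
    rw [zpowers_le, mem_normalizer_iff]
    have key : ∀ w : X, w ∈ zpowers a → b * w * b⁻¹ ∈ zpowers a := by
      intro w hw
      obtain ⟨k, rfl⟩ := mem_zpowers_iff.mp hw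
      have h1 : b * a ^ k * b⁻¹ = (b * a * b⁻¹) ^ k := by
        have := map_zpow (MulAut.conj b) a k
        simpa [MulAut.conj_apply] using this
      rw [h1, hba]
      exact zpow_mem (inv_mem (mem_zpowers a)) k
    intro w
    constructor
    · exact key w
    · intro hw
      have hb' : b⁻¹ = b := by
        rw [inv_eq_iff_mul_eq_one, ← pow_two, hb]
      have := key _ hw
      rw [hb'] at this
      have h2 : b * (b * w * b) * b = (b ^ 2) * w * (b ^ 2) := by
        rw [pow_two]; group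
      rwa [h2, hb, one_mul, mul_one] at this
  have hK : IsPGroup 2 ↥(zpowers b ⊔ zpowers a) := IsPGroup.to_sup_of_normal_right' hB hA hnorm
  obtain ⟨h, -, hh⟩ := Cfsg.Agent.Lib.Helper12.exists_conj_mem_sylow P ⊤ (zpowers b ⊔ zpowers a)
    le_top le_top hK
  have h1 := hh a (le_sup_right (α := Subgroup X) (mem_zpowers a))
  have h2 := hh b (le_sup_left (α := Subgroup X) (mem_zpowers b))
  have h3 := hP _ h1 _ h2
  have h4 : a * b = b * a := by
    have h5 : h * (a * b) * h⁻¹ = h * (b * a) * h⁻¹ := by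
      calc h * (a * b) * h⁻¹ = (h * a * h⁻¹) * (h * b * h⁻¹) := by group
        _ = (h * b * h⁻¹) * (h * a * h⁻¹) := h3
        _ = h * (b * a) * h⁻¹ := by group
    exact mul_left_cancel (mul_right_cancel h5)
  have h5 : a = a⁻¹ := by
    rw [← hba, ← h4, mul_inv_cancel_right]
  rw [pow_two]
  calc a * a = a * a⁻¹ := by rw [← h5]
    _ = 1 := mul_inv_cancel a

/-- A group containing a dihedral subgroup `D_n`, `4 ∣ n`, has non-abelian Sylow 2-subgroups. -/
theorem not_abelian_sylow_of_dihedral [Finite X] (P : Sylow 2 X)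
    (hP : ∀ a ∈ P, ∀ b ∈ P, a * b = b * a) (n : ℕ) (hn0 : n ≠ 0) (hn : 4 ∣ n) (H : Subgroup X)
    (e : ↥H ≃* DihedralGroup n) : False := by
  obtain ⟨m, rfl⟩ := hn
  have hm0 : m ≠ 0 := by
    rintro rfl
    exact hn0 rfl
  have : NeZero (4 * m) := ⟨hn0⟩
  set a₀ : DihedralGroup (4 * m) := DihedralGroup.r (m : ZMod (4 * m)) with ha₀
  set b₀ : DihedralGroup (4 * m) := DihedralGroup.sr 0 with hb₀
  have ha4 : a₀ ^ 4 = 1 := by
    rw [ha₀, DihedralGroup.r_pow, DihedralGroup.one_def]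
    congr 1
    have : ((m : ZMod (4 * m)) * ((4 : ℕ) : ZMod (4 * m))) = ((4 * m : ℕ) : ZMod (4 * m)) := by
      push_cast; ring
    rw [this, ZMod.natCast_self]
  have hb2 : b₀ ^ 2 = 1 := by
    rw [hb₀, pow_two, DihedralGroup.sr_mul_sr, DihedralGroup.one_def, sub_self]
  have hba : b₀ * a₀ * b₀⁻¹ = a₀⁻¹ := by
    have hbinv : b₀⁻¹ = b₀ := by
      rw [inv_eq_iff_mul_eq_one, ← pow_two, hb2]
    rw [hbinv, ha₀, hb₀, DihedralGroup.sr_mul_r, DihedralGroup.sr_mul_sr, DihedralGroup.inv_r,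
      zero_add, zero_sub]
  have ha2 : a₀ ^ 2 ≠ 1 := by
    rw [ha₀, DihedralGroup.r_pow, DihedralGroup.one_def]
    intro h
    have h1 : (m : ZMod (4 * m)) * ((2 : ℕ) : ZMod (4 * m)) = 0 := DihedralGroup.r.inj h
    have h2 : ((m * 2 : ℕ) : ZMod (4 * m)) = 0 := by
      push_cast; exact h1
    rw [ZMod.natCast_eq_zero_iff] at h2
    have := Nat.le_of_dvd (by omega) h2
    omega
  set a : X := ((e.symm a₀ : ↥H) : X) with ha
  set b : X := ((e.symm b₀ : ↥H) : X) with hb
  have h1 : a ^ 4 = 1 := by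
    rw [ha, ← Subgroup.coe_pow, ← map_pow, ha4, map_one, Subgroup.coe_one]
  have h2 : b ^ 2 = 1 := by
    rw [hb, ← Subgroup.coe_pow, ← map_pow, hb2, map_one, Subgroup.coe_one]
  have h3 : b * a * b⁻¹ = a⁻¹ := by
    rw [ha, hb, ← Subgroup.coe_inv, ← Subgroup.coe_mul, ← Subgroup.coe_mul, ← Subgroup.coe_inv,
      ← map_inv, ← map_mul, ← map_mul, ← map_inv, hba]
  have h4 := sq_eq_one_of_inverted P hP a b h1 h2 h3
  apply ha2
  have h5 : ((e.symm (a₀ ^ 2) : ↥H) : X) = 1 := by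
    rw [map_pow, Subgroup.coe_pow]
    exact h4
  have h6 : e.symm (a₀ ^ 2) = 1 := Subtype.ext h5
  have := congrArg e h6
  rwa [MulEquiv.apply_symm_apply, map_one] at this

end general

section psl

open Matrix Cfsg.Agent.Lib.Helper13

variable {F : Type*} [Field F] [Fintype F]

/-- An abelian Sylow 2-subgroup of `PSL₂(q)`, `q` odd, is a four-group. -/
theorem abelian_sylow_two_PSL2 (hodd : Odd (Fintype.card F)) (h3 : 3 < Fintype.card F)
    (P : Sylow 2 (Matrix.ProjectiveSpecialLinearGroup (Fin 2) F))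
    (hP : ∀ a ∈ P, ∀ b ∈ P, a * b = b * a) :
    Nat.card ↥(P : Subgroup (Matrix.ProjectiveSpecialLinearGroup (Fin 2) F)) = 4 ∧
      ∀ x ∈ P, x * x = 1 := by
  classical
  have : Finite (ProjectiveSpecialLinearGroup (Fin 2) F) := by
    unfold ProjectiveSpecialLinearGroup
    infer_instance
  obtain ⟨p, hp⟩ := CharP.exists F
  have : Fact p.Prime := ⟨CharP.char_is_prime F p⟩
  obtain ⟨j, hj⟩ := hodd
  have hq8 : Fintype.card F % 8 = 1 ∨ Fintype.card F % 8 = 3 ∨ Fintype.card F % 8 = 5 ∨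
      Fintype.card F % 8 = 7 := by omega
  have hgcd : Nat.gcd 2 (Fintype.card F - 1) = 2 := by
    apply Nat.gcd_eq_left
    omega
  rcases hq8 with h | h | h | h
  · exfalso
    obtain ⟨H, ⟨e⟩⟩ := Dk.exists_dihedral_sub_one (F := F) p (by omega)
    rw [hgcd] at e
    exact not_abelian_sylow_of_dihedral P hP _ (by omega) (by omega) H e
  · have hK := Cfsg.Agent.S0276.result (F := F) rfl (Or.inl h) P
    refine ⟨hK.card_four, ?_⟩
    intro x hx
    have h1 : (⟨x, hx⟩ : ↥(P : Subgroup (ProjectiveSpecialLinearGroup (Fin 2) F))) ^ 2 = 1 := by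
      have h0 := Monoid.pow_exponent_eq_one
        (⟨x, hx⟩ : ↥(P : Subgroup (ProjectiveSpecialLinearGroup (Fin 2) F)))
      rw [hK.exponent_two] at h0
      exact h0
    have h2 := congrArg Subtype.val h1
    rw [Subgroup.coe_pow, Subgroup.coe_one, pow_two] at h2
    exact h2
  · have hK := Cfsg.Agent.S0276.result (F := F) rfl (Or.inr h) P
    refine ⟨hK.card_four, ?_⟩
    intro x hx
    have h1 : (⟨x, hx⟩ : ↥(P : Subgroup (ProjectiveSpecialLinearGroup (Fin 2) F))) ^ 2 = 1 := by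
      have h0 := Monoid.pow_exponent_eq_one
        (⟨x, hx⟩ : ↥(P : Subgroup (ProjectiveSpecialLinearGroup (Fin 2) F)))
      rw [hK.exponent_two] at h0
      exact h0
    have h2 := congrArg Subtype.val h1
    rw [Subgroup.coe_pow, Subgroup.coe_one, pow_two] at h2
    exact h2
  · exfalso
    obtain ⟨H, ⟨e⟩⟩ := Dk.exists_dihedral_add_one (F := F) p
    rw [hgcd] at e
    exact not_abelian_sylow_of_dihedral P hP _ (by omega) (by omega) H e

end psl

end Cfsg.Agent.Lib.Helper20.JanR
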