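import Mathlib
import Cfsg.Prelude.Def_Solvable
import Cfsg.Prelude.Def_TwoFusion
import Cfsg.Agent.Lib.Helper12.PComplement
import Cfsg.Agent.Lib.Helper13.PSL2MaxOdd
import Cfsg.Agent.Lib.Helper20.JanRA
import Cfsg.Agent.Lib.Helper20.JanRB
import Cfsg.Agent.Lib.Helper20.JanRD

/-!
Helper20 `JanR`, file E: groups of Janko-Ree type have elementary abelian Sylow 2-subgroups of order 8.
-/

set_option autoImplicit false

namespace Cfsg.Agent.Lib.Helper20.JanR

open Subgroup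

section basics

variable {G : Type*} [Group G]

theorem pPrimeCore_two_eq_bot_of_simple [Finite G] [IsSimpleGroup G] (heven : 2 ∣ Nat.card G) :
    Cfsg.pPrimeCore 2 G = ⊥ := by
  rw [eq_bot_iff]
  apply sSup_le
  rintro N ⟨hN, hcop⟩
  rcases hN.eq_bot_or_eq_top with h | h
  · rw [h]
  · exfalso
    rw [h, Subgroup.card_top] at hcop
    have := Nat.Coprime.eq_one_of_dvd hcop.symm heven
    omega

theorem exists_mul_of_mem_sup_of_commute {A B : Subgroup G}
    (hc : ∀ a ∈ A, ∀ b ∈ B, a * b = b * a) {x : G} (hx : x ∈ A ⊔ B) :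
    ∃ a ∈ A, ∃ b ∈ B, x = a * b := by
  let K : Subgroup G :=
    { carrier := {x | ∃ a ∈ A, ∃ b ∈ B, x = a * b}
      mul_mem' := by
        rintro _ _ ⟨a, ha, b, hb, rfl⟩ ⟨a', ha', b', hb', rfl⟩
        refine ⟨a * a', mul_mem ha ha', b * b', mul_mem hb hb', ?_⟩
        calc a * b * (a' * b') = a * (b * a') * b' := by group
          _ = a * (a' * b) * b' := by rw [hc a' ha' b hb]
          _ = a * a' * (b * b') := by group
      one_mem' := ⟨1, one_mem _, 1, one_mem _, by rw [one_mul]⟩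
      inv_mem' := by
        rintro _ ⟨a, ha, b, hb, rfl⟩
        refine ⟨a⁻¹, inv_mem ha, b⁻¹, inv_mem hb, ?_⟩
        rw [mul_inv_rev, hc a⁻¹ (inv_mem ha) b⁻¹ (inv_mem hb)] }
  have hAK : A ≤ K := fun a ha => ⟨a, ha, 1, one_mem _, by rw [mul_one]⟩
  have hBK : B ≤ K := fun b hb => ⟨1, one_mem _, b, hb, by rw [one_mul]⟩
  exact (sup_le hAK hBK) hx

/-- the intersection of a Sylow subgroup with a subgroup normalized by an overgroup of the Sylow
subgroup, as a Sylow subgroup of that subgroup -/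
theorem exists_sylow_subgroupOf [Finite G] {p : ℕ} [Fact p.Prime] (S : Sylow p G)
    (H K : Subgroup G) (hSH : (S : Subgroup G) ≤ H) (hKH : K ≤ H)
    (hnorm : ∀ h ∈ H, ∀ k ∈ K, h * k * h⁻¹ ∈ K) :
    ∃ P : Sylow p ↥K, (P : Subgroup ↥K) = (S : Subgroup G).subgroupOf K := by
  have h1 := Cfsg.Agent.Lib.Helper12.sylow_inf_relIndex S H K hSH hKH hnorm
  rw [Subgroup.inf_relIndex_right] at h1
  have h2 : IsPGroup p ↥((S : Subgroup G).subgroupOf K) := S.isPGroup'.comap_subtype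
  exact ⟨h2.toSylow h1, rfl⟩

end basics

section jrstructure

open Matrix

variable {G : Type*} [Group G]

theorem sylow_two_structure [Finite G]
    (hab : ∀ S : Sylow 2 G, ∀ a ∈ S, ∀ b ∈ S, a * b = b * a)
    (t : G) (ht : orderOf t = 2) (E : Subgroup G)
    (hE : Cfsg.IsInternalDirectProduct (zpowers t) E (centralizer ({t} : Set G)))
    {F : Type*} [Field F] [Fintype F] (hFo : Odd (Fintype.card F)) (hF3 : 3 < Fintype.card F)
    (N : Subgroup ↥E) [hNn : N.Normal] (e : ↥N ≃* Matrix.ProjectiveSpecialLinearGroup (Fin 2) F)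
    (hNc : centralizer (N : Set ↥E) = ⊥) (S : Sylow 2 G) :
    Nat.card ↥(S : Subgroup G) = 8 ∧ ∀ s ∈ S, s * s = 1 := by
  classical
  have : Fact (Nat.Prime 2) := ⟨Nat.prime_two⟩
  obtain ⟨hAH, hEH, hcomm, hdisj, hsup⟩ := hE
  have ht2 : t * t = 1 := by
    rw [← pow_two, ← ht]; exact pow_orderOf_eq_one t
  have ht1 : t ≠ 1 := by
    intro h; rw [h, orderOf_one] at ht; omega
  have htE : t ∉ E := by
    intro h
    have h1 : t ∈ zpowers t ⊓ E := ⟨mem_zpowers t, h⟩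
    rw [hdisj] at h1
    exact ht1 (mem_bot.mp h1)
  have hzt : IsPGroup 2 ↥(zpowers t) :=
    IsPGroup.of_card (n := 1) (by rw [Nat.card_zpowers, ht, pow_one])
  obtain ⟨S₀, hS₀⟩ := hzt.exists_le_sylow
  have htS : t ∈ S₀ := hS₀ (mem_zpowers t)
  set H := centralizer ({t} : Set G) with hH
  have hSH : (S₀ : Subgroup G) ≤ H := by
    intro s hs
    rw [hH, mem_centralizer_iff]
    intro x hx
    rw [Set.mem_singleton_iff] at hx
    subst hx
    exact hab S₀ x htS s hs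
  have hdec : ∀ h ∈ H, ∃ a ∈ zpowers t, ∃ b ∈ E, h = a * b := by
    intro h hh
    rw [← hsup] at hh
    exact exists_mul_of_mem_sup_of_commute hcomm hh
  have hnormE : ∀ h ∈ H, ∀ k ∈ E, h * k * h⁻¹ ∈ E := by
    intro h hh k hk
    obtain ⟨a, ha, b, hb, rfl⟩ := hdec h hh
    have hbk : b * k * b⁻¹ ∈ E := E.mul_mem (E.mul_mem hb hk) (E.inv_mem hb)
    have h1 := hcomm a ha (b * k * b⁻¹) hbk
    have h2 : a * b * k * (a * b)⁻¹ = b * k * b⁻¹ := by
      calc a * b * k * (a * b)⁻¹ = a * (b * k * b⁻¹) * a⁻¹ := by group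
        _ = (b * k * b⁻¹) * a * a⁻¹ := by rw [h1]
        _ = b * k * b⁻¹ := by group
    rw [h2]; exact hbk
  obtain ⟨SE, hSE⟩ := exists_sylow_subgroupOf S₀ H E hSH hEH hnormE
  obtain ⟨SN, hSN⟩ := exists_sylow_subgroupOf SE ⊤ N le_top le_top
    (fun h _ k hk => hNn.conj_mem k hk h)
  have hSEmem : ∀ s : ↥E, s ∈ SE ↔ (s : G) ∈ S₀ := by
    intro s
    have h0 : s ∈ SE ↔ s ∈ (SE : Subgroup ↥E) := Iff.rfl
    rw [h0, hSE, mem_subgroupOf]
    exact Iff.rfl
  have hSNmem : ∀ n : ↥N, n ∈ SN ↔ ((n : ↥E) : G) ∈ S₀ := by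
    intro n
    have h0 : n ∈ SN ↔ n ∈ (SN : Subgroup ↥N) := Iff.rfl
    rw [h0, hSN, mem_subgroupOf]
    exact hSEmem _
  -- `N` is simple of even order
  have hcardF : Nat.card F = Fintype.card F := Nat.card_eq_fintype_card
  have hsimpleP : IsSimpleGroup (Matrix.ProjectiveSpecialLinearGroup (Fin 2) F) :=
    Matrix.ProjectiveSpecialLinearGroup.rank_two_simple (by rw [hcardF]; omega)
  have : IsSimpleGroup ↥N := e.isSimpleGroup
  have hNeven : 2 ∣ Nat.card ↥N := by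
    rw [Nat.card_congr e.toEquiv]
    have h1 := Cfsg.Agent.Lib.Helper13.PSL2MaxOdd.card_PSL2_odd hFo
    obtain ⟨j, hj⟩ := hFo
    have h2 : Fintype.card F * (Fintype.card F ^ 2 - 1) = 4 * ((2 * j + 1) * (j * (j + 1))) := by
      rw [hj]
      have : (2 * j + 1) ^ 2 - 1 = 4 * (j * (j + 1)) := by
        have : (2 * j + 1) ^ 2 = 4 * (j * (j + 1)) + 1 := by ring
        omega
      rw [this]; ring
    rw [h2] at h1
    omega
  have hON : Cfsg.pPrimeCore 2 ↥N = ⊥ := pPrimeCore_two_eq_bot_of_simple hNeven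
  have hSNab : ∀ a ∈ SN, ∀ b ∈ SN, a * b = b * a := by
    intro a ha b hb
    rw [hSNmem] at ha hb
    apply Subtype.ext
    apply Subtype.ext
    exact hab S₀ _ ha _ hb
  -- Fact B
  have hB : ∀ s : ↥E, s ∈ SE → s ∈ N := by
    intro s hs
    obtain ⟨k, hk⟩ := (IsPGroup.iff_orderOf.mp SE.isPGroup') ⟨s, hs⟩
    have hsk : s ^ (2 ^ k) = 1 := by
      have h1 : (⟨s, hs⟩ : ↥(SE : Subgroup ↥E)) ^ (2 ^ k) = 1 := by
        rw [← hk]; exact pow_orderOf_eq_one _
      have h2 := congrArg Subtype.val h1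
      rw [Subgroup.coe_pow, Subgroup.coe_one] at h2
      exact h2
    set α : MulAut ↥N := MulAut.conjNormal s with hα
    have hαk : α ^ (2 ^ k) = 1 := by
      rw [hα, ← map_pow, hsk, map_one]
    have hfix : ∀ n ∈ SN, α n = n := by
      intro n hn
      rw [hSNmem] at hn
      rw [hSEmem] at hs
      apply Subtype.ext
      rw [hα, MulAut.conjNormal_apply]
      apply Subtype.ext
      show (s : G) * ((n : ↥E) : G) * (s : G)⁻¹ = ((n : ↥E) : G)
      rw [hab S₀ _ hs _ hn, mul_inv_cancel_right]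
    obtain ⟨n₀, hn₀, hn₀g⟩ := inner_of_fixes_abelian_sylow hON SN hSNab α k hαk hfix
    have hcent : (n₀ : ↥E)⁻¹ * s ∈ centralizer (N : Set ↥E) := by
      rw [mem_centralizer_iff]
      intro g hg
      have h1 := hn₀g ⟨g, hg⟩
      have h2 : s * g * s⁻¹ = (n₀ : ↥E) * g * (n₀ : ↥E)⁻¹ := by
        have := congrArg Subtype.val h1
        rw [hα, MulAut.conjNormal_apply] at this
        exact this
      calc g * ((n₀ : ↥E)⁻¹ * s) = (n₀ : ↥E)⁻¹ * ((n₀ : ↥E) * g * (n₀ : ↥E)⁻¹) * s := by group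
        _ = (n₀ : ↥E)⁻¹ * (s * g * s⁻¹) * s := by rw [h2]
        _ = (n₀ : ↥E)⁻¹ * s * g := by group
    rw [hNc, mem_bot] at hcent
    have h3 : s = (n₀ : ↥E) := by
      have := inv_mul_eq_one.mp hcent
      exact this.symm
    rw [h3]; exact n₀.2
  have hSEN : (SE : Subgroup ↥E) ≤ N := fun s hs => hB s hs
  -- the Sylow subgroup of `PSL₂`
  set P' : Sylow 2 (Matrix.ProjectiveSpecialLinearGroup (Fin 2) F) :=
    SN.mapSurjective (f := e.toMonoidHom) (show Function.Surjective e.toMonoidHom from e.surjective)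
    with hP'
  have hP'mem : ∀ y, y ∈ P' ↔ ∃ n ∈ SN, e n = y := by
    intro y
    rfl
  have hP'ab : ∀ a ∈ P', ∀ b ∈ P', a * b = b * a := by
    intro a ha b hb
    obtain ⟨n, hn, rfl⟩ := (hP'mem a).mp ha
    obtain ⟨m, hm, rfl⟩ := (hP'mem b).mp hb
    rw [← map_mul, ← map_mul, hSNab n hn m hm]
  obtain ⟨hP'4, hP'2⟩ := abelian_sylow_two_PSL2 hFo hF3 P' hP'ab
  have hSN4 : Nat.card ↥(SN : Subgroup ↥N) = 4 := by
    rw [← hP'4]
    exact (Subgroup.card_map_of_injective (f := e.toMonoidHom)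
      (show Function.Injective e.toMonoidHom from e.injective)).symm
  have hSE4 : Nat.card ↥(SE : Subgroup ↥E) = 4 := by
    rw [← hSN4, hSN]
    exact (Nat.card_congr (Subgroup.subgroupOfEquivOfLe hSEN).toEquiv).symm
  have hSE2 : ∀ s : ↥E, s ∈ SE → s * s = 1 := by
    intro s hs
    have hsN := hB s hs
    have h1 : (⟨s, hsN⟩ : ↥N) ∈ SN := by
      rw [hSNmem]
      exact (hSEmem s).mp hs
    have h2 := hP'2 (e ⟨s, hsN⟩) ((hP'mem _).mpr ⟨_, h1, rfl⟩)
    rw [← map_mul] at h2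
    have h3 : (⟨s, hsN⟩ : ↥N) * ⟨s, hsN⟩ = 1 := by
      apply e.injective
      rw [h2, map_one]
    exact congrArg Subtype.val h3
  -- `Q = S₀ ∩ E`
  set Q : Subgroup G := (S₀ : Subgroup G) ⊓ E with hQ
  have hQ4 : Nat.card ↥Q = 4 := by
    rw [← hSE4, hSE, ← Subgroup.inf_subgroupOf_right]
    exact (Nat.card_congr (Subgroup.subgroupOfEquivOfLe (inf_le_right : Q ≤ E)).toEquiv).symm
  have hQ2 : ∀ q ∈ Q, q * q = 1 := by
    intro q hq
    have h1 : (⟨q, hq.2⟩ : ↥E) ∈ SE := (hSEmem _).mpr hq.1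
    have h2 := hSE2 _ h1
    exact congrArg Subtype.val h2
  have hza : ∀ a ∈ zpowers t, a * a = 1 := by
    intro a ha
    obtain ⟨i, rfl⟩ := mem_zpowers_iff.mp ha
    rw [← _root_.zpow_add, ← two_mul, _root_.zpow_mul, zpow_two, ht2, _root_.one_zpow]
  have hS₀dec : ∀ s ∈ S₀, ∃ a ∈ zpowers t, ∃ b ∈ Q, s = a * b := by
    intro s hs
    obtain ⟨a, ha, b, hb, rfl⟩ := hdec s (hSH hs)
    refine ⟨a, ha, b, ⟨?_, hb⟩, rfl⟩
    have haS : a ∈ (S₀ : Subgroup G) := hS₀ ha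
    have : b = a⁻¹ * (a * b) := by group
    rw [this]
    exact (S₀ : Subgroup G).mul_mem ((S₀ : Subgroup G).inv_mem haS) hs
  have hS₀2 : ∀ s ∈ S₀, s * s = 1 := by
    intro s hs
    obtain ⟨a, ha, b, hb, rfl⟩ := hS₀dec s hs
    calc a * b * (a * b) = a * (b * a) * b := by group
      _ = a * (a * b) * b := by rw [hcomm a ha b hb.2]
      _ = (a * a) * (b * b) := by group
      _ = 1 := by rw [hza a ha, hQ2 b hb, one_mul]
  have hS₀8 : Nat.card ↥(S₀ : Subgroup G) = 8 := by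
    apply le_antisymm
    · have hsurj : Function.Surjective
          (fun x : ↥(zpowers t) × ↥Q => (⟨(x.1 : G) * (x.2 : G),
            mul_mem (hS₀ x.1.2) x.2.2.1⟩ : ↥(S₀ : Subgroup G))) := by
        rintro ⟨s, hs⟩
        obtain ⟨a, ha, b, hb, rfl⟩ := hS₀dec s hs
        exact ⟨(⟨a, ha⟩, ⟨b, hb⟩), rfl⟩
      have h1 := Nat.card_le_card_of_surjective _ hsurj
      rw [Nat.card_prod, hQ4, Nat.card_zpowers, ht] at h1
      exact h1
    · have hlt : Q < (S₀ : Subgroup G) := by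
        apply lt_of_le_of_ne inf_le_left
        intro h
        apply htE
        have hle : (S₀ : Subgroup G) ≤ Q := h.ge
        exact (hle htS).2
      have := two_mul_card_le_of_lt hlt
      rw [hQ4] at this
      exact this
  -- transfer to `S`
  refine ⟨?_, ?_⟩
  · rw [Sylow.card_eq_multiplicity, ← hS₀8, Sylow.card_eq_multiplicity]
  · intro s hs
    obtain ⟨h, -, hh⟩ := Cfsg.Agent.Lib.Helper12.exists_conj_mem_sylow S₀ ⊤ (S : Subgroup G)
      le_top le_top S.isPGroup'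
    have h1 := hS₀2 _ (hh s hs)
    have h2 : h * (s * s) * h⁻¹ = h * 1 * h⁻¹ := by
      calc h * (s * s) * h⁻¹ = (h * s * h⁻¹) * (h * s * h⁻¹) := by group
        _ = 1 := h1
        _ = h * 1 * h⁻¹ := by group
    exact mul_left_cancel (mul_right_cancel h2)

end jrstructure

end Cfsg.Agent.Lib.Helper20.JanR
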