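import Mathlib
import Cfsg.Agent.Lib.Helper20.JanRB
import Cfsg.Agent.Lib.Helper20.JanRC

/-!
Helper20 `JanR`, file F: a perfect group with elementary abelian Sylow 2-subgroups of order 8 has no
nontrivial perfect central extension by a 2-group.
-/

set_option autoImplicit false

namespace Cfsg.Agent.Lib.Helper20.JanR

open Subgroup

theorem relIndex_mul_card_of_le {X : Type*} [Group X] {H K : Subgroup X} (hHK : H ≤ K) :
    H.relIndex K * Nat.card ↥H = Nat.card ↥K := by
  have h2 : Nat.card ↥(H.subgroupOf K) * (H.subgroupOf K).index = Nat.card ↥K :=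
    Subgroup.card_mul_index _
  have h6 : Nat.card ↥(H.subgroupOf K) = Nat.card ↥H :=
    Nat.card_congr (Subgroup.subgroupOfEquivOfLe hHK).toEquiv
  rw [h6, mul_comm] at h2
  exact h2

theorem no_two_cover {G : Type*} [Group G] [Finite G] (hperfG : commutator G = ⊤)
    (hab : ∀ S : Sylow 2 G, ∀ a ∈ S, ∀ b ∈ S, a * b = b * a)
    (hstr : ∀ S : Sylow 2 G, Nat.card ↥(S : Subgroup G) = 8 ∧ ∀ s ∈ S, s * s = 1)
    {L : Type*} [Group L] [Finite L] (Z : Subgroup L) [hZn : Z.Normal]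
    (hperf : commutator L = ⊤) (hZc : Z ≤ center L) (hZ2 : IsPGroup 2 ↥Z) (e : L ⧸ Z ≃* G) :
    Z = ⊥ := by
  classical
  have : Fact (Nat.Prime 2) := ⟨Nat.prime_two⟩
  by_contra hne
  obtain ⟨j', hj'⟩ := IsPGroup.iff_card.mp hZ2
  have hj0 : j' ≠ 0 := by
    rintro rfl
    rw [pow_zero] at hj'
    exact hne (Subgroup.card_eq_one.mp hj')
  obtain ⟨j, rfl⟩ : ∃ j, j' = j + 1 := ⟨j' - 1, by omega⟩
  obtain ⟨K, hK⟩ := Sylow.exists_subgroup_card_pow_prime (G := ↥Z) 2 (n := j)
    (by rw [hj']; exact pow_dvd_pow 2 (Nat.le_succ j))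
  set Z₁ : Subgroup L := K.map Z.subtype with hZ₁
  have hZ₁card : Nat.card ↥Z₁ = 2 ^ j := by
    rw [hZ₁, Subgroup.card_map_of_injective (Subgroup.subtype_injective _), hK]
  have hZ₁Z : Z₁ ≤ Z := Subgroup.map_subtype_le _
  have hZ₁n : Z₁.Normal := by
    constructor
    intro n hn g
    have := mem_center_iff.mp (hZc (hZ₁Z hn)) g
    rw [this, mul_inv_cancel_right]
    exact hn
  have hrel : Z₁.relIndex Z = 2 := by
    have h1 := relIndex_mul_card_of_le hZ₁Z
    rw [hZ₁card, hj', pow_succ] at h1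
    have h2 : 0 < 2 ^ j := by positivity
    have h3 : Z₁.relIndex Z * 2 ^ j = 2 * 2 ^ j := by rw [h1, mul_comm]
    exact Nat.eq_of_mul_eq_mul_right h2 h3
  -- the quotient
  set π₀ : L →* G := e.toMonoidHom.comp (QuotientGroup.mk' Z) with hπ₀
  have hπ₀ker : ∀ y : L, π₀ y = 1 ↔ y ∈ Z := by
    intro y
    rw [hπ₀, MonoidHom.comp_apply]
    constructor
    · intro h
      have h1 : (QuotientGroup.mk' Z) y = 1 := by
        apply e.injective
        rw [map_one]
        exact h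
      exact (QuotientGroup.eq_one_iff y).mp h1
    · intro h
      have h1 : (QuotientGroup.mk' Z) y = 1 := (QuotientGroup.eq_one_iff y).mpr h
      rw [h1, map_one]
  set π : L ⧸ Z₁ →* G := QuotientGroup.lift Z₁ π₀
    (fun x hx => (hπ₀ker x).mpr (hZ₁Z hx)) with hπ
  have hπmk : ∀ y : L, π (QuotientGroup.mk y) = π₀ y := fun y => rfl
  have hπsurj : Function.Surjective π := by
    intro g
    obtain ⟨q, hq⟩ := e.surjective g
    obtain ⟨y, rfl⟩ := QuotientGroup.mk_surjective q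
    exact ⟨QuotientGroup.mk y, hq⟩
  have hkerπ : π.ker = Z.map (QuotientGroup.mk' Z₁) := by
    ext x
    obtain ⟨y, rfl⟩ := QuotientGroup.mk_surjective x
    rw [MonoidHom.mem_ker, hπmk, hπ₀ker]
    constructor
    · intro hy
      exact ⟨y, hy, rfl⟩
    · rintro ⟨z, hz, hzy⟩
      have h1 : z⁻¹ * y ∈ Z₁ := by
        rw [← QuotientGroup.eq]
        exact hzy
      have h2 : y = z * (z⁻¹ * y) := by group
      rw [h2]
      exact mul_mem hz (hZ₁Z h1)
  have hk2 : Nat.card ↥π.ker = 2 := by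
    rw [hkerπ, ← Subgroup.relIndex_ker, QuotientGroup.ker_mk', hrel]
  have hkerc : π.ker ≤ center (L ⧸ Z₁) := by
    rw [hkerπ]
    rintro _ ⟨z, hz, rfl⟩
    rw [mem_center_iff]
    intro x
    obtain ⟨y, rfl⟩ := QuotientGroup.mk_surjective x
    have := mem_center_iff.mp (hZc hz) y
    show (QuotientGroup.mk y : L ⧸ Z₁) * QuotientGroup.mk z = QuotientGroup.mk z * QuotientGroup.mk y
    rw [← QuotientGroup.mk_mul, ← QuotientGroup.mk_mul, this]
  have hperf₁ : commutator (L ⧸ Z₁) = ⊤ := by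
    have h1 : (commutator L).map (QuotientGroup.mk' Z₁) = ⊤ := by
      rw [hperf]
      exact Subgroup.map_top_of_surjective _ (QuotientGroup.mk'_surjective Z₁)
    rw [commutator_def, Subgroup.map_commutator,
      Subgroup.map_top_of_surjective _ (QuotientGroup.mk'_surjective Z₁)] at h1
    rw [commutator_def]
    exact h1
  obtain ⟨S⟩ : Nonempty (Sylow 2 (L ⧸ Z₁)) := inferInstance
  set S' : Sylow 2 G := S.mapSurjective hπsurj with hS'
  have hS'coe : (S' : Subgroup G) = (S : Subgroup (L ⧸ Z₁)).map π := rfl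
  obtain ⟨h8, hsq8⟩ := hstr S'
  have hkS : π.ker ≤ (S : Subgroup (L ⧸ Z₁)) :=
    IsPGroup.le_sylow_of_normal (IsPGroup.of_card (n := 1) (by rw [hk2, pow_one])) S
  have hcard16 : Nat.card ↥(S : Subgroup (L ⧸ Z₁)) = 16 := by
    have h1 := relIndex_mul_card_of_le hkS
    rw [Subgroup.relIndex_ker, ← hS'coe, h8, hk2] at h1
    omega
  apply central_ext_contra π hπsurj hperf₁ hkerc hk2 S hcard16
  · intro a ha
    exact hsq8 (π a) ⟨a, ha, rfl⟩
  · intro r hr hcent
    exact eq_one_of_normalizer_centralizes hperfG S' (hab S') r hr hcent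

end Cfsg.Agent.Lib.Helper20.JanR
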