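/-
helper20: S4638 leaf (FUS) (planner helper27): the subsections `(u, f u)`, `u ∈ P`, below a maximal
pair `(P, c)` with `P` abelian; two of them conjugate in `G` are conjugate under `T = N_G(P, c)`.
Built over helper24 `KleinSC` (`exists_block_below`, `exists_centralizer_mul_mem₂`).
-/
import Mathlib
import Cfsg.Agent.Lib.Helper24.KleinSC

set_option autoImplicit false

namespace Cfsg.Agent.Lib.Helper20.KleinPIFUS

open Cfsg Cfsg.Agent.CharLib Cfsg.Agent.Lib.Helper24 Cfsg.Agent.Lib.Helper6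
open Cfsg.Agent.Lib.Helper24.KleinSC

universe u

section aux
variable {G : Type u} [Group G]

/-- membership in a transported block -/
theorem exists_of_mem_castBlock {H H' : Subgroup G} (h : H = H') (b : Set (IrrCharacter H))
    (ζ : IrrCharacter H') (hζ : ζ ∈ castBlock h b) :
    ∃ ζ₀ ∈ b, ∀ (k : H) (k' : H'), (k : G) = (k' : G) →
      (ζ : H' → ℂ) k' = (ζ₀ : H → ℂ) k := by
  subst h
  refine ⟨ζ, hζ, ?_⟩
  intro k k' hk
  rw [Subtype.ext hk]

/-- membership in the second component of a conjugate pair -/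
theorem mem_of_cjPair_eq (x : G) (Q Q' : Subgroup G)
    (f : Set (IrrCharacter (Subgroup.centralizer (Q : Set G))))
    (f' : Set (IrrCharacter (Subgroup.centralizer (Q' : Set G))))
    (h : cjPair x (⟨Q, f⟩ : BrauerPairIdx G) = ⟨Q', f'⟩)
    (ξ' : IrrCharacter (Subgroup.centralizer (Q' : Set G)))
    (hξ' : ∃ ξ ∈ f, ∀ (c : Subgroup.centralizer (Q : Set G))
      (c' : Subgroup.centralizer (Q' : Set G)), (c' : G) = x * (c : G) * x⁻¹ →
        (ξ' : _ → ℂ) c' = (ξ : Subgroup.centralizer (Q : Set G) → ℂ) c) :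
    ξ' ∈ f' := by
  have h1 : Q.map (MulAut.conj x).toMonoidHom = Q' := congrArg Sigma.fst h
  subst h1
  have h2 : conjBlock Q x f = f' := eq_of_heq (Sigma.mk.inj h).2
  rw [← h2]
  exact hξ'

end aux

theorem exists_subsection_family {G : Type u} [Group G] [Fintype G] {M : Ideal AlgInt}
    {p : ℕ} [hpp : Fact p.Prime] (hM : IsPModular p M)
    (B : Set (IrrCharacter G)) (hB : IsPBlock M B)
    (P : Subgroup G) (hPD : IsDefectGroup p M B P) (hab : ∀ x ∈ P, ∀ y ∈ P, x * y = y * x)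
    (c : Set (IrrCharacter (Subgroup.centralizer (P : Set G))))
    (hc : IsInducedBlock M (Subgroup.centralizer (P : Set G)) c B) (T : Subgroup G)
    (hT : ∀ g : G, g ∈ T ↔ (g ∈ Subgroup.normalizer (P : Set G) ∧
      StabilizesBlock (Subgroup.centralizer (P : Set G)) c g)) :
    ∃ f : ∀ u : G, Set (IrrCharacter (Subgroup.centralizer ({u} : Set G))),
      (∀ u ∈ P, IsInducedBlock M (Subgroup.centralizer ({u} : Set G)) (f u) B ∧
        IsDefectGroup p M (f u) (P.subgroupOf (Subgroup.centralizer ({u} : Set G)))) ∧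
      ∀ u ∈ P, ∀ u' ∈ P, ∀ g : G, g * u * g⁻¹ = u' →
        (∃ ζ ∈ f u, ∃ ζ' ∈ f u',
          ∀ (k : Subgroup.centralizer ({u} : Set G)) (k' : Subgroup.centralizer ({u'} : Set G)),
            (k' : G) = g * (k : G) * g⁻¹ →
              (ζ' : Subgroup.centralizer ({u'} : Set G) → ℂ) k' =
                (ζ : Subgroup.centralizer ({u} : Set G) → ℂ) k) →
        ∃ t ∈ T, t * u * t⁻¹ = u' := by
  classical
  have hprime : M.IsPrime := isPrime_of_isPModular hM
  have hmax : IsMaximalBrauerPair p M B P c := isMaximalBrauerPair_of_defect hM B hB P hPD c hc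
  -- the family `f'`
  let f' : ∀ u : G, Set (IrrCharacter
      (Subgroup.centralizer ((Subgroup.zpowers u : Subgroup G) : Set G))) := fun u =>
    if h : u ∈ P then Classical.choose (exists_block_below hM B P c hmax hab u h) else ∅
  have hf' : ∀ u (h : u ∈ P),
      SubpairLE p M (Subgroup.zpowers u) (f' u) P c ∧
      IsBrauerPairOf p M B (Subgroup.zpowers u) (f' u) ∧
      IsInducedBlock M (Subgroup.centralizer ((Subgroup.zpowers u : Subgroup G) : Set G)) (f' u) B ∧
      IsDefectGroup p M (f' u) (P.subgroupOf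
        (Subgroup.centralizer ((Subgroup.zpowers u : Subgroup G) : Set G))) := by
    intro u h
    have := Classical.choose_spec (exists_block_below hM B P c hmax hab u h)
    simp only [f', dif_pos h]
    exact this
  refine ⟨fun u => castBlock (centralizer_zpowers_eq u) (f' u), ?_, ?_⟩
  · intro u hu
    obtain ⟨-, -, hind, hdef⟩ := hf' u hu
    exact ⟨(isInducedBlock_castBlock (centralizer_zpowers_eq u) (f' u) B).mpr hind,
      (isDefectGroup_castBlock p (centralizer_zpowers_eq u) (f' u) P).mpr hdef⟩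
  · intro u hu u' hu' g hg hex
    obtain ⟨ζ, hζ, ζ', hζ', hrel⟩ := hex
    obtain ⟨hle, hpair, -, -⟩ := hf' u hu
    obtain ⟨hle', hpair', -, -⟩ := hf' u' hu'
    have hblk : IsPBlock M (f' u) := hpair.1.2
    have hblk' : IsPBlock M (f' u') := hpair'.1.2
    obtain ⟨ζ₀, hζ₀, hζ₀r⟩ := exists_of_mem_castBlock (centralizer_zpowers_eq u) (f' u) ζ hζ
    obtain ⟨ζ'₀, hζ'₀, hζ'₀r⟩ := exists_of_mem_castBlock (centralizer_zpowers_eq u') (f' u') ζ' hζ'
    obtain ⟨f'', hf''⟩ := PConj.exists' g u u' hg (f' u)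
    have hblk'' : IsPBlock M f'' := PConj.isPBlock hblk hf''
    have hmem : ζ'₀ ∈ f'' := by
      refine mem_of_cjPair_eq g (Subgroup.zpowers u) (Subgroup.zpowers u') (f' u) f'' hf''.2 ζ'₀
        ⟨ζ₀, hζ₀, ?_⟩
      intro c0 c0' hcc
      have hk : (c0 : G) ∈ Subgroup.centralizer ({u} : Set G) := by
        rw [← centralizer_zpowers_eq]; exact c0.2
      have hk' : (c0' : G) ∈ Subgroup.centralizer ({u'} : Set G) := by
        rw [← centralizer_zpowers_eq]; exact c0'.2
      have h1 := hζ'₀r c0' ⟨(c0' : G), hk'⟩ rfl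
      have h2 := hζ₀r c0 ⟨(c0 : G), hk⟩ rfl
      have h3 := hrel ⟨(c0 : G), hk⟩ ⟨(c0' : G), hk'⟩ hcc
      rw [← h1, h3, h2]
    have heq : f'' = f' u' := isPBlock_eq_of_mem hblk'' hblk' hmem hζ'₀
    rw [heq] at hf''
    obtain ⟨c0, hc0, hN, hS⟩ := exists_centralizer_mul_mem₂ hM B P c hmax hab _ _ (f' u) (f' u')
      hle hle' g hf''.2
    have htT : c0 * g ∈ T := (hT _).mpr ⟨hN, hS⟩
    refine ⟨c0 * g, htT, ?_⟩
    have h1 : (c0 * g) * u * (c0 * g)⁻¹ = c0 * (g * u * g⁻¹) * c0⁻¹ := by group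
    rw [h1, hg]
    have h2 := Subgroup.mem_centralizer_iff.mp hc0 u' (Subgroup.mem_zpowers u')
    rw [← h2]; group

end Cfsg.Agent.Lib.Helper20.KleinPIFUS
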