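import Mathlib
import Cfsg.Prelude.Def_Local
import Cfsg.Agent.Lib.Helper12.LBalance
import Cfsg.Agent.Lib.Helper20.GlauPerfG
import Cfsg.Agent.Lib.Helper20.LBal2C

/-!
Helper20 `LBal2`, file D: **`L`-balance for `p = 2`, core-free case.**  If `O(G) = 1` and `R` is a
2-subgroup, then every 2-component of `C_G(R)` lies in `E(G)`.
-/

set_option autoImplicit false

open scoped commutatorElement

namespace Cfsg.Agent.Lib.Helper20.LBal2

open Subgroup Cfsg.Agent.Lib.Helper9 Cfsg.Agent.Lib.Helper12 Cfsg.Agent.Lib.Helper20.GlauPerf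

universe u

variable {G : Type u} [Group G]

/-- the end of the pumping-up process: if `R` contains a Sylow 2-subgroup of `E(G)`, then `C_G(R)` has no
2-components at all. -/
theorem final_contra [Finite G] (hO : Cfsg.pPrimeCore 2 G = ⊥) (R : Subgroup G)
    (hR : IsPGroup 2 R) (S₀ : Sylow 2 G)
    (hSE : (S₀ : Subgroup G) ⊓ Cfsg.layer G ≤ R) (C : Subgroup G)
    (hC : C = centralizer (R : Set G)) (J : Subgroup ↥C) (hJ : Cfsg.IsPComponent 2 J) : False := by
  classical
  haveI : Fact (Nat.Prime 2) := ⟨Nat.prime_two⟩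
  set N := normalizer (R : Set G) with hN
  have hIC : J.map C.subtype ≤ C := Subgroup.map_subtype_le _
  have hCN : C ≤ N := hC ▸ Subgroup.centralizer_le_normalizer _
  have hCn : (C.subgroupOf N).Normal := by
    apply Subgroup.normal_subgroupOf_of_le_normalizer
    rw [hC]
    exact normalizer_le_normalizer_centralizer' R
  have hJN : Cfsg.IsPComponent 2 ((J.map C.subtype).subgroupOf N) :=
    isPComponent_subgroupOf_of_le hCN hCn.isSubnormal hJ
  have hIperf : ⁅J.map C.subtype, J.map C.subtype⁆ = J.map C.subtype := by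
    rw [← Subgroup.map_commutator, IsPComponent_commutator_eq hJ]
  -- `I` normalizes every component
  have h1 : ∀ L : Subgroup G, Cfsg.IsComponent L →
      J.map C.subtype ≤ normalizer (L : Set G) := by
    intro L hL x hx
    have hxN : x ∈ N := hCN (hIC hx)
    have := pComponent_normalizer_le_normalizer_component hO hR N rfl hJN hL
      (show (⟨x, hxN⟩ : ↥N) ∈ (J.map C.subtype).subgroupOf N from
        Subgroup.mem_subgroupOf.mpr hx)
    exact Subgroup.mem_subgroupOf.mp this
  -- `I` centralizes `O_2(G)`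
  have h4 : J.map C.subtype ≤ centralizer (Cfsg.pCore 2 G : Set G) := by
    have := pComponent_normalizer_le_centralizer_pCore hR N rfl hJN
    rwa [Subgroup.map_subgroupOf_eq_of_le (hIC.trans hCN)] at this
  -- `I` centralizes every component
  have h2 : ∀ L : Subgroup G, Cfsg.IsComponent L →
      J.map C.subtype ≤ centralizer (L : Set G) := by
    intro L hL
    have hOL : Cfsg.pPrimeCore 2 ↥L = ⊥ := by
      rw [pPrimeCore_subgroup_eq_subgroupOf 2 hL.1, hO, Subgroup.bot_subgroupOf]
    obtain ⟨P, hP⟩ := exists_sylow_of_subnormal_inf S₀ hL.1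
    have hPR : ∀ s ∈ P, (s : G) ∈ R := by
      intro s hs
      have : (s : G) ∈ (P : Subgroup ↥L).map L.subtype := ⟨s, hs, rfl⟩
      rw [hP] at this
      exact hSE ⟨this.1, Cfsg.Agent.Lib.Helper9.component_le_layer hL this.2⟩
    set B₀ : Subgroup (MulAut G) := (J.map C.subtype).map (MulAut.conj : G →* MulAut G) with hB₀
    have hB₀L : ∀ b ∈ B₀, ∀ l ∈ L, b l ∈ L := by
      rintro _ ⟨i, hi, rfl⟩ l hl
      rw [MulAut.conj_apply]
      exact (Subgroup.mem_normalizer_iff.mp (h1 L hL hi) l).mp hl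
    have hB₀perf : ⁅B₀, B₀⁆ = B₀ := by rw [hB₀, ← Subgroup.map_commutator, hIperf]
    have hBperf : ⁅(resHom L B₀ hB₀L).range, (resHom L B₀ hB₀L).range⁆ =
        (resHom L B₀ hB₀L).range := range_perfect hB₀perf _
    have hBS : ∀ b ∈ (resHom L B₀ hB₀L).range, ∀ s ∈ P, b s = s := by
      rintro _ ⟨⟨_, i, hi, rfl⟩, rfl⟩ s hs
      apply Subtype.ext
      rw [resHom_apply_coe]
      show MulAut.conj i (s : G) = s
      rw [MulAut.conj_apply]
      have hiC : i ∈ centralizer (R : Set G) := hC ▸ hIC hi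
      have := Subgroup.mem_centralizer_iff.mp hiC (s : G) (hPR s hs)
      rw [← this]
      group
    rw [← IsPComponent_pElementsClosure_eq hJ]
    unfold pElementsClosure
    rw [MonoidHom.map_closure, Subgroup.closure_le]
    rintro _ ⟨x, ⟨hxJ, k, hk⟩, rfl⟩
    have hiI : (x : G) ∈ J.map C.subtype := ⟨x, hxJ, rfl⟩
    have hik : (x : G) ^ (2 ^ k) = 1 := by
      have : x ^ (2 ^ k) = 1 := by rw [← hk]; exact pow_orderOf_eq_one x
      have := congrArg Subtype.val this
      simpa using this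
    have hmem : MulAut.conj (x : G) ∈ B₀ := ⟨(x : G), hiI, rfl⟩
    have hbk : (resHom L B₀ hB₀L ⟨MulAut.conj (x : G), hmem⟩) ^ (2 ^ k) = 1 := by
      rw [← map_pow]
      have : (⟨MulAut.conj (x : G), hmem⟩ : ↥B₀) ^ (2 ^ k) = 1 := by
        apply Subtype.ext
        rw [Subgroup.coe_pow]
        show (MulAut.conj (x : G)) ^ (2 ^ k) = 1
        rw [← map_pow, hik, map_one]
      rw [this, map_one]
    have hb1 := eq_one_of_two_elt_of_perfect hOL P (resHom L B₀ hB₀L).range hBS hBperf
      (resHom L B₀ hB₀L ⟨MulAut.conj (x : G), hmem⟩) ⟨_, rfl⟩ k hbk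
    show (x : G) ∈ centralizer (L : Set G)
    rw [Subgroup.mem_centralizer_iff]
    intro l hl
    have h5 := congrArg (fun f : MulAut ↥L => ((f ⟨l, hl⟩ : ↥L) : G)) hb1
    simp only [resHom_apply_coe, MulAut.conj_apply, MulAut.one_apply] at h5
    calc l * (x : G) = ((x : G) * l * (x : G)⁻¹) * (x : G) := by rw [h5]
      _ = (x : G) * l := by group
  -- `I` centralizes `E(G)`
  have h3 : J.map C.subtype ≤ centralizer (Cfsg.layer G : Set G) := by
    rw [Subgroup.le_centralizer_iff]
    apply Cfsg.Agent.Lib.Helper9.layer_le_of_forall_component_le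
    intro L hL
    exact Subgroup.le_centralizer_iff.mp (h2 L hL)
  -- `I` centralizes `F*(G)`
  have h5 : J.map C.subtype ≤ centralizer (Cfsg.generalizedFittingSubgroup G : Set G) := by
    intro i hi
    rw [Subgroup.mem_centralizer_iff]
    intro x hx
    have hx' : x ∈ Cfsg.layer G ⊔ Cfsg.fittingSubgroup G := hx
    have h6 : Cfsg.layer G ⊔ Cfsg.fittingSubgroup G ≤
        centralizer ((zpowers i : Subgroup G) : Set G) := by
      apply sup_le
      · rw [Subgroup.le_centralizer_iff, Subgroup.zpowers_le]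
        exact h3 hi
      · rw [Subgroup.le_centralizer_iff, Subgroup.zpowers_le,
          fittingSubgroup_eq_pCore_of_pPrimeCore_eq_bot 2 hO]
        exact h4 hi
    exact (Subgroup.mem_centralizer_iff.mp (h6 hx') i (Subgroup.mem_zpowers i)).symm
  have h7 : J.map C.subtype ≤ Cfsg.generalizedFittingSubgroup G :=
    h5.trans Cfsg.Agent.Lib.Helper8.centralizer_fstar_le
  have hab : ⁅J.map C.subtype, J.map C.subtype⁆ = ⊥ := by
    rw [Subgroup.commutator_eq_bot_iff_le_centralizer]
    exact h5.trans (Subgroup.centralizer_le (SetLike.coe_subset_coe.mpr h7))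
  have hIbot : J.map C.subtype = ⊥ := by rw [← hIperf, hab]
  have hJbot : J = ⊥ := (Subgroup.map_eq_bot_iff_of_injective _ C.subtype_injective).mp hIbot
  exact IsPComponent_not_le_pPrimeCore hJ (hJbot ▸ bot_le)

/-- inductive form -/
theorem pComponent_centralizer_le_layer_aux [Finite G] (hO : Cfsg.pPrimeCore 2 G = ⊥) :
    ∀ (d : ℕ) (R : Subgroup G), IsPGroup 2 R → Nat.card G - Nat.card R = d →
      ∀ (C : Subgroup G), C = centralizer (R : Set G) → ∀ J : Subgroup ↥C,
        Cfsg.IsPComponent 2 J → J.map C.subtype ≤ Cfsg.layer G := by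
  haveI : Fact (Nat.Prime 2) := ⟨Nat.prime_two⟩
  intro d
  induction d using Nat.strong_induction_on with
  | _ d IH =>
    intro R hR hd C hC J hJ
    by_contra hJE
    obtain ⟨S₀, hRS⟩ := hR.exists_le_sylow
    apply final_contra hO R hR S₀ ?_ C hC J hJ
    by_contra hSE
    set T' := ((S₀ : Subgroup G) ⊓ Cfsg.layer G) ⊔ R with hT'
    have hT'S : T' ≤ (S₀ : Subgroup G) := sup_le inf_le_left hRS
    have hT'2 : IsPGroup 2 T' := S₀.2.to_le hT'S
    have hRT' : R ≤ T' := le_sup_right
    have hne : R ≠ T' := by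
      intro h
      apply hSE
      rw [h]
      exact le_sup_left
    have hlt := card_lt_card_inf_normalizer hT'2 hRT' hne
    set R₁ := T' ⊓ normalizer (R : Set G) with hR₁
    have hR₁2 : IsPGroup 2 R₁ := hT'2.to_le inf_le_left
    have hR₁E : R₁ ≤ Cfsg.layer G ⊔ R :=
      inf_le_left.trans (sup_le (inf_le_right.trans le_sup_left) le_sup_right)
    obtain ⟨K₁, hK₁, hK₁E⟩ := pump R R₁ hR₁2 (le_inf hRT' Subgroup.le_normalizer) inf_le_right
      hR₁E C hC J hJ hJE
    apply hK₁E
    have hd₁ : Nat.card G - Nat.card R₁ < d := by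
      have h1 : Nat.card R₁ ≤ Nat.card G := Subgroup.card_le_card_group R₁
      omega
    exact IH _ hd₁ R₁ hR₁2 rfl _ rfl K₁ hK₁

/-- **`L`-balance for `p = 2`, core-free case.** -/
theorem pComponent_centralizer_le_layer [Finite G] (hO : Cfsg.pPrimeCore 2 G = ⊥)
    {R : Subgroup G} (hR : IsPGroup 2 R) (C : Subgroup G) (hC : C = centralizer (R : Set G))
    {J : Subgroup ↥C} (hJ : Cfsg.IsPComponent 2 J) : J.map C.subtype ≤ Cfsg.layer G :=
  pComponent_centralizer_le_layer_aux hO _ R hR rfl C hC J hJ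

end Cfsg.Agent.Lib.Helper20.LBal2
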