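/-
helper20: S5286 (Leary–Stancu, planner helper21) leaf RED: every element of `G F` is the value of a reduced word.
-/
import Mathlib
import Cfsg.Agent.Lib.Helper21.LSBasic

set_option autoImplicit false
universe u
open Cfsg
open Cfsg.Agent.Lib.Helper21.LS

namespace Cfsg.Agent.Lib.Helper20.LSRED

variable {Ω : Type u} [Group Ω] {S : Subgroup Ω} (F : FusionSystem S)

/-- changing the `s` of the head step keeps a word reduced -/
theorem reduced_head_s (i : Idx F) (ε : Bool) (s s' : ↥S) (l : List (Step F))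
    (h : Reduced F (⟨i, ε, s⟩ :: l)) : Reduced F (⟨i, ε, s'⟩ :: l) := by
  unfold Reduced at h ⊢
  cases l with
  | nil => exact List.isChain_singleton _
  | cons b l' =>
    rw [List.isChain_cons_cons] at h ⊢
    exact ⟨h.1, h.2⟩

/-- right multiplication of the value of a reduced word by `ι s` -/
theorem mul_iota (s0 : ↥S) (l : List (Step F)) (hl : Reduced F l) (s : ↥S) :
    ∃ (s0' : ↥S) (l' : List (Step F)), Reduced F l' ∧ evalR F s0' l' = evalR F s0 l * iotaHat F s := by
  cases l with
  | nil =>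
    refine ⟨s0 * s, [], hl, ?_⟩
    show iotaHat F (s0 * s) = iotaHat F s0 * iotaHat F s
    rw [map_mul]
  | cons a l' =>
    obtain ⟨i, ε, sa⟩ := a
    refine ⟨s0, ⟨i, ε, sa * s⟩ :: l', reduced_head_s F i ε sa (sa * s) l' hl, ?_⟩
    show evalR F s0 l' * tau F i ε * iotaHat F (sa * s) =
      evalR F s0 l' * tau F i ε * iotaHat F sa * iotaHat F s
    rw [map_mul, mul_assoc, mul_assoc, mul_assoc]

theorem reduced_tail (a : Step F) (l : List (Step F)) (h : Reduced F (a :: l)) : Reduced F l := by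
  unfold Reduced at h ⊢
  have := h.tail
  simpa using this

variable (hPS : ∀ b a : Step F, Pinch F b a →
      ∃ s' : ↥S, tau F b.i b.ε * iotaHat F b.s * tau F a.i a.ε = iotaHat F s')

include hPS in
/-- right multiplication of the value of a reduced word by `τ(i,ε)` -/
theorem mul_tau (s0 : ↥S) (l : List (Step F)) (hl : Reduced F l) (i : Idx F) (ε : Bool) :
    ∃ (s0' : ↥S) (l' : List (Step F)), Reduced F l' ∧ evalR F s0' l' = evalR F s0 l * tau F i ε := by
  have hval : evalR F s0 (⟨i, ε, 1⟩ :: l) = evalR F s0 l * tau F i ε := by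
    show evalR F s0 l * tau F i ε * iotaHat F 1 = evalR F s0 l * tau F i ε
    rw [map_one, mul_one]
  cases l with
  | nil => exact ⟨s0, [⟨i, ε, 1⟩], List.isChain_singleton _, hval⟩
  | cons b l' =>
    by_cases hp : Pinch F b ⟨i, ε, 1⟩
    · obtain ⟨s', hs'⟩ := hPS b ⟨i, ε, 1⟩ hp
      obtain ⟨s0', l'', hred, hev⟩ := mul_iota F s0 l' (reduced_tail F b l' hl) s'
      refine ⟨s0', l'', hred, ?_⟩
      rw [hev]
      show evalR F s0 l' * iotaHat F s' = evalR F s0 l' * tau F b.i b.ε * iotaHat F b.s * tau F i ε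
      rw [← hs', mul_assoc, mul_assoc, mul_assoc]
    · refine ⟨s0, ⟨i, ε, 1⟩ :: b :: l', ?_, hval⟩
      unfold Reduced at hl ⊢
      rw [List.isChain_cons_cons]
      exact ⟨hp, hl⟩

include hPS in
theorem exists_reduced_of (g : Ghat F) (hg : g ∈ G F) :
    ∃ (s0 : ↥S) (l : List (Step F)), Reduced F l ∧ evalR F s0 l = g := by
  unfold G at hg
  induction hg using Subgroup.closure_induction_right with
  | one =>
    refine ⟨1, [], List.isChain_nil, ?_⟩
    show iotaHat F 1 = 1
    rw [map_one]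
  | mul_right x hx y hy ih =>
    obtain ⟨s0, l, hl, rfl⟩ := ih
    rcases hy with ⟨s, rfl⟩ | ⟨i, rfl⟩
    · exact mul_iota F s0 l hl s
    · exact mul_tau F hPS s0 l hl i true
  | mul_inv_cancel x hx y hy ih =>
    obtain ⟨s0, l, hl, rfl⟩ := ih
    rcases hy with ⟨s, rfl⟩ | ⟨i, rfl⟩
    · have := mul_iota F s0 l hl s⁻¹
      rwa [map_inv] at this
    · exact mul_tau F hPS s0 l hl i false

end Cfsg.Agent.Lib.Helper20.LSRED
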