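import Mathlib

/-!
# Laws in groups: sections, central quotients (helper20 library)

`IsLaw w G` : the word `w` is a law of `G`.  Laws pass to subgroups, quotients, and from
`G̃ ⧸ Z(G̃)` to `K ⧸ Z(K)` for every `K` embedded in `G̃`.
-/

set_option autoImplicit false

namespace Cfsg.Agent.Lib.Helper20.GLaw

/-- `w` is a law of `G`. -/
def IsLaw (w : FreeGroup ℕ) (G : Type*) [Group G] : Prop :=
  ∀ f : ℕ → G, FreeGroup.lift f w = 1

variable {w : FreeGroup ℕ}

theorem map_lift {G H : Type*} [Group G] [Group H] (φ : G →* H) (f : ℕ → G) (w : FreeGroup ℕ) :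
    φ (FreeGroup.lift f w) = FreeGroup.lift (φ ∘ f) w := by
  have h : φ.comp (FreeGroup.lift f) = FreeGroup.lift (φ ∘ f) := by
    ext i
    simp
  exact DFunLike.congr_fun h w

theorem IsLaw.of_injective {G H : Type*} [Group G] [Group H] (hG : IsLaw w G) (φ : H →* G)
    (hφ : Function.Injective φ) : IsLaw w H := by
  intro f
  apply hφ
  rw [map_lift, map_one]
  exact hG _

theorem IsLaw.of_surjective {G H : Type*} [Group G] [Group H] (hG : IsLaw w G) (φ : G →* H)
    (hφ : Function.Surjective φ) : IsLaw w H := by
  intro f
  choose g hg using fun i => hφ (f i)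
  have : f = φ ∘ g := by
    funext i
    exact (hg i).symm
  rw [this, ← map_lift, hG g, map_one]

theorem IsLaw.of_mulEquiv {G H : Type*} [Group G] [Group H] (hG : IsLaw w G) (e : G ≃* H) :
    IsLaw w H :=
  hG.of_surjective e.toMonoidHom e.surjective

/-- If `K` embeds in `G̃` and `w` is a law of `G̃ ⧸ Z(G̃)`, then `w` is a law of `K ⧸ Z(K)`. -/
theorem IsLaw.center_quotient {K G' : Type*} [Group K] [Group G']
    (hG : IsLaw w (G' ⧸ Subgroup.center G')) (φ : K →* G') (hφ : Function.Injective φ) :
    IsLaw w (K ⧸ Subgroup.center K) := by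
  intro f
  choose k hk using fun i => QuotientGroup.mk_surjective (s := Subgroup.center K) (f i)
  have hf : f = (QuotientGroup.mk' (Subgroup.center K)) ∘ k := by
    funext i
    exact (hk i).symm
  rw [hf, ← map_lift]
  set x := FreeGroup.lift k w with hx
  have h1 : (QuotientGroup.mk' (Subgroup.center G')) (φ x) = 1 := by
    rw [map_lift, map_lift]
    exact hG _
  have h2 : φ x ∈ Subgroup.center G' := by
    rwa [QuotientGroup.mk'_apply, QuotientGroup.eq_one_iff] at h1
  have h3 : x ∈ Subgroup.center K := by
    rw [Subgroup.mem_center_iff]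
    intro y
    apply hφ
    rw [map_mul, map_mul]
    exact Subgroup.mem_center_iff.mp h2 (φ y)
  rw [QuotientGroup.mk'_apply, QuotientGroup.eq_one_iff]
  exact h3

/-- A perfect group maps into the commutator subgroup. -/
theorem range_le_commutator {T H : Type*} [Group T] [Group H] (hT : commutator T = ⊤)
    (ψ : T →* H) : ψ.range ≤ commutator H := by
  rw [MonoidHom.range_eq_map, ← hT, commutator_def, commutator_def, Subgroup.map_commutator]
  exact Subgroup.commutator_mono le_top le_top

/-- A perfect group has only the trivial homomorphism to a commutative group. -/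
theorem hom_eq_one_of_perfect {T A : Type*} [Group T] [CommGroup A] (hT : commutator T = ⊤)
    (ψ : T →* A) (t : T) : ψ t = 1 := by
  have h := range_le_commutator hT ψ ⟨t, rfl⟩
  rw [commutator_def, Subgroup.commutator_eq_bot_iff_le_centralizer.mpr] at h
  · exact Subgroup.mem_bot.mp h
  · intro x _
    rw [Subgroup.mem_centralizer_iff]
    intro y _
    exact mul_comm _ _

/-- An injective hom from a perfect group corestricts to the commutator subgroup. -/
theorem exists_hom_commutator {T H : Type*} [Group T] [Group H] (hT : commutator T = ⊤)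
    (ψ : T →* H) (hψ : Function.Injective ψ) :
    ∃ φ : T →* commutator H, Function.Injective φ := by
  refine ⟨ψ.codRestrict (commutator H) (fun t => range_le_commutator hT ψ ⟨t, rfl⟩), ?_⟩
  intro a b hab
  apply hψ
  exact congrArg Subtype.val hab

end Cfsg.Agent.Lib.Helper20.GLaw
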