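import Mathlib
import Cfsg.Agent.Lib.Helper20.LawA

/-!
# Embedding tools for the law theorem (helper20 library)

* `SL(2,F)` is perfect for `4 ≤ |F|`;
* a finite group embeds in `Perm X` whenever `|T| ≤ |X|`;
* permutation matrices `Perm ι →* GL ι F`, block extension `GL κ F →* GL ι F`,
  the hyperbolic embedding `GL_m(F) →* GL (Fin m ⊕ Fin m) F`;
* perfect groups inside `GL` land in `SL`.
-/

set_option autoImplicit false

namespace Cfsg.Agent.Lib.Helper20.GLaw

open Matrix

section perfect

variable {F : Type*} [Field F] [Fintype F]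

theorem sl2_perfect (hF : 4 ≤ Fintype.card F) :
    commutator (Matrix.SpecialLinearGroup (Fin 2) F) = ⊤ := by
  classical
  obtain ⟨a, ha⟩ : ∃ a : F, a ∉ ({0, 1, -1} : Finset F) := by
    by_contra hcon
    push Not at hcon
    have hsub : (Finset.univ : Finset F) ⊆ {0, 1, -1} := fun x _ => hcon x
    have := Finset.card_le_card hsub
    have h3 : ({0, 1, -1} : Finset F).card ≤ 3 := Finset.card_le_three
    rw [Finset.card_univ] at this
    omega
  simp only [Finset.mem_insert, Finset.mem_singleton, not_or] at ha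
  have ha2 : a ^ 2 ≠ 1 := by
    intro h
    have : (a - 1) * (a + 1) = 0 := by ring_nf; rw [h]; ring
    rcases mul_eq_zero.mp this with h' | h'
    · exact ha.2.1 (sub_eq_zero.mp h')
    · exact ha.2.2 (eq_neg_of_add_eq_zero_left h')
  exact Matrix.SL2.commutator_eq_top ha.1 ha2

end perfect

section perm

/-- A finite group embeds into `Perm X` as soon as `|T| ≤ |X|`. -/
theorem exists_hom_perm (T : Type*) [Group T] [Fintype T] (X : Type*) [Fintype X]
    (h : Fintype.card T ≤ Fintype.card X) :
    ∃ φ : T →* Equiv.Perm X, Function.Injective φ := by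
  obtain ⟨e⟩ := Function.Embedding.nonempty_of_card_le h
  refine ⟨(Equiv.Perm.viaEmbeddingHom e).comp (MulAction.toPermHom T T), ?_⟩
  exact (Equiv.Perm.viaEmbeddingHom_injective e).comp MulAction.toPerm_injective

variable (F : Type*) [Field F] (ι : Type*) [Fintype ι] [DecidableEq ι]

/-- permutation matrices as a hom into `GL`. -/
noncomputable def permGL : Equiv.Perm ι →* GL ι F :=
  (Matrix.permMatrixHom (n := ι) (R := F)).toHomUnits

theorem permGL_coe (σ : Equiv.Perm ι) :
    ((permGL F ι σ : GL ι F) : Matrix ι ι F) = (σ⁻¹).permMatrix F := rfl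

theorem permGL_mulVec (σ : Equiv.Perm ι) (v : ι → F) :
    ((permGL F ι σ : GL ι F) : Matrix ι ι F) *ᵥ v = v ∘ (σ⁻¹ : Equiv.Perm ι) := by
  rw [permGL_coe, Matrix.permMatrix_mulVec]

theorem permGL_injective : Function.Injective (permGL F ι) := by
  intro σ τ h
  have h1 : ∀ v : ι → F, v ∘ (σ⁻¹ : Equiv.Perm ι) = v ∘ (τ⁻¹ : Equiv.Perm ι) := by
    intro v
    rw [← permGL_mulVec, ← permGL_mulVec, h]
  have h2 : σ⁻¹ = τ⁻¹ := by
    ext i
    by_contra hne
    have := congrFun (h1 (Pi.single ((σ⁻¹ : Equiv.Perm ι) i) 1)) i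
    simp only [Function.comp_apply, Pi.single_eq_same] at this
    rw [Pi.single_eq_of_ne (Ne.symm hne)] at this
    exact one_ne_zero this
  exact inv_injective h2

end perm

end Cfsg.Agent.Lib.Helper20.GLaw
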