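import Mathlib
import Cfsg.Agent.Lib.Helper20.LawB

/-!
# Block extension and hyperbolic embeddings of `GL` (helper20 library)
-/

set_option autoImplicit false

namespace Cfsg.Agent.Lib.Helper20.GLaw

open Matrix

section ext

variable (F : Type*) [Field F] {κ κ' ι : Type*} [Fintype κ] [DecidableEq κ] [Fintype κ']
  [DecidableEq κ'] [Fintype ι] [DecidableEq ι]

/-- `A ↦ diag(A, 1)` as a monoid hom on matrices. -/
def blockHom (κ κ' : Type*) [Fintype κ] [DecidableEq κ] [Fintype κ'] [DecidableEq κ'] :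
    Matrix κ κ F →* Matrix (κ ⊕ κ') (κ ⊕ κ') F where
  toFun A := Matrix.fromBlocks A 0 0 1
  map_one' := Matrix.fromBlocks_one
  map_mul' A B := by
    rw [Matrix.fromBlocks_multiply]
    simp

/-- `A ↦ diag(A, 1)` reindexed along `e : κ ⊕ κ' ≃ ι`. -/
def extMat (e : κ ⊕ κ' ≃ ι) : Matrix κ κ F →* Matrix ι ι F :=
  ((Matrix.reindexAlgEquiv F F e : Matrix (κ ⊕ κ') (κ ⊕ κ') F ≃ₐ[F] Matrix ι ι F) :
    Matrix (κ ⊕ κ') (κ ⊕ κ') F →* Matrix ι ι F).comp (blockHom F κ κ')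

theorem extMat_apply (e : κ ⊕ κ' ≃ ι) (A : Matrix κ κ F) :
    extMat F e A = Matrix.reindex e e (Matrix.fromBlocks A 0 0 1) := rfl

theorem extMat_injective (e : κ ⊕ κ' ≃ ι) : Function.Injective (extMat F e) := by
  intro A B h
  rw [extMat_apply, extMat_apply] at h
  have h2 := (Matrix.reindex e e).injective h
  exact (Matrix.fromBlocks_inj.mp h2).1

theorem extMat_mulVec (e : κ ⊕ κ' ≃ ι) (A : Matrix κ κ F) (v : ι → F) :
    (extMat F e A *ᵥ v) ∘ e = Sum.elim (A *ᵥ (v ∘ e ∘ Sum.inl)) (v ∘ e ∘ Sum.inr) := by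
  rw [extMat_apply, Matrix.reindex_apply, Matrix.submatrix_mulVec_equiv, Matrix.fromBlocks_mulVec]
  funext k
  rcases k with k | k
  · simp [Function.comp_def]
  · simp [Function.comp_def]

theorem extMat_det (e : κ ⊕ κ' ≃ ι) (A : Matrix κ κ F) : (extMat F e A).det = A.det := by
  rw [extMat_apply, Matrix.det_reindex_self, Matrix.det_fromBlocks_zero₂₁, Matrix.det_one,
    mul_one]

/-- block extension on `GL`. -/
def extGL (e : κ ⊕ κ' ≃ ι) : GL κ F →* GL ι F := Units.map (extMat F e)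

theorem extGL_coe (e : κ ⊕ κ' ≃ ι) (A : GL κ F) :
    ((extGL F e A : GL ι F) : Matrix ι ι F) = extMat F e (A : Matrix κ κ F) := rfl

theorem extGL_injective (e : κ ⊕ κ' ≃ ι) : Function.Injective (extGL F e) :=
  Units.map_injective (extMat_injective F e)

/-- if a two-variable form splits along `e` and `A` preserves the first summand, the block
extension of `A` preserves the form. -/
theorem extMat_preserves (e : κ ⊕ κ' ≃ ι) (f : (ι → F) → (ι → F) → F)
    (f₁ : (κ → F) → (κ → F) → F) (f₂ : (κ' → F) → (κ' → F) → F)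
    (hf : ∀ u v, f u v = f₁ (u ∘ e ∘ Sum.inl) (v ∘ e ∘ Sum.inl) +
      f₂ (u ∘ e ∘ Sum.inr) (v ∘ e ∘ Sum.inr))
    (A : Matrix κ κ F) (hA : ∀ u v, f₁ (A *ᵥ u) (A *ᵥ v) = f₁ u v) (u v : ι → F) :
    f (extMat F e A *ᵥ u) (extMat F e A *ᵥ v) = f u v := by
  have key : ∀ x : ι → F, (extMat F e A *ᵥ x) ∘ e ∘ Sum.inl = A *ᵥ (x ∘ e ∘ Sum.inl) ∧
      (extMat F e A *ᵥ x) ∘ e ∘ Sum.inr = x ∘ e ∘ Sum.inr := by
    intro x
    have h := extMat_mulVec F e A x
    constructor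
    · funext k
      exact congrFun h (Sum.inl k)
    · funext k
      exact congrFun h (Sum.inr k)
  rw [hf, (key u).1, (key u).2, (key v).1, (key v).2, hA, ← hf]

end ext

section hyp

variable (F : Type*) [Field F] (m : ℕ)

/-- `A ↦ diag(A, A⁻ᵀ)` on `GL_m(F)`. -/
noncomputable def hypMat : GL (Fin m) F →* Matrix (Fin m ⊕ Fin m) (Fin m ⊕ Fin m) F where
  toFun A := Matrix.fromBlocks (A : Matrix (Fin m) (Fin m) F) 0 0
    (((A⁻¹ : GL (Fin m) F) : Matrix (Fin m) (Fin m) F))ᵀ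
  map_one' := by
    simp [Matrix.fromBlocks_one]
  map_mul' A B := by
    rw [Matrix.fromBlocks_multiply]
    simp [Matrix.transpose_mul]

theorem hypMat_apply (A : GL (Fin m) F) :
    hypMat F m A = Matrix.fromBlocks (A : Matrix (Fin m) (Fin m) F) 0 0
      (((A⁻¹ : GL (Fin m) F) : Matrix (Fin m) (Fin m) F))ᵀ := rfl

theorem hypMat_injective : Function.Injective (hypMat F m) := by
  intro A B h
  rw [hypMat_apply, hypMat_apply] at h
  exact Units.ext (Matrix.fromBlocks_inj.mp h).1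

theorem hypMat_mulVec (A : GL (Fin m) F) (v : Fin m ⊕ Fin m → F) :
    hypMat F m A *ᵥ v = Sum.elim ((A : Matrix (Fin m) (Fin m) F) *ᵥ (v ∘ Sum.inl))
      ((v ∘ Sum.inr) ᵥ* ((A⁻¹ : GL (Fin m) F) : Matrix (Fin m) (Fin m) F)) := by
  rw [hypMat_apply, Matrix.fromBlocks_mulVec]
  simp [Matrix.mulVec_transpose]

/-- the hyperbolic pairing is preserved. -/
theorem hypMat_pairing (A : GL (Fin m) F) (v : Fin m ⊕ Fin m → F) :
    ∑ i : Fin m, (hypMat F m A *ᵥ v) (Sum.inl i) * (hypMat F m A *ᵥ v) (Sum.inr i) =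
      ∑ i : Fin m, v (Sum.inl i) * v (Sum.inr i) := by
  rw [hypMat_mulVec]
  simp only [Sum.elim_inl, Sum.elim_inr]
  have h1 : ∑ i : Fin m, ((A : Matrix (Fin m) (Fin m) F) *ᵥ (v ∘ Sum.inl)) i *
      ((v ∘ Sum.inr) ᵥ* ((A⁻¹ : GL (Fin m) F) : Matrix (Fin m) (Fin m) F)) i =
      ((v ∘ Sum.inr) ᵥ* ((A⁻¹ : GL (Fin m) F) : Matrix (Fin m) (Fin m) F)) ⬝ᵥ
        ((A : Matrix (Fin m) (Fin m) F) *ᵥ (v ∘ Sum.inl)) := by
    rw [dotProduct]
    exact Finset.sum_congr rfl (fun i _ => mul_comm _ _)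
  rw [h1, ← Matrix.dotProduct_mulVec, Matrix.mulVec_mulVec]
  have h2 : ((A⁻¹ : GL (Fin m) F) : Matrix (Fin m) (Fin m) F) * (A : Matrix (Fin m) (Fin m) F)
      = 1 := by
    rw [← Units.val_mul, inv_mul_cancel, Units.val_one]
  rw [h2, Matrix.one_mulVec, dotProduct]
  exact Finset.sum_congr rfl (fun i _ => mul_comm _ _)

end hyp

section toSL

variable {F : Type*} [Field F] {ι : Type*} [Fintype ι] [DecidableEq ι]

/-- A perfect group inside `GL` lies in `SL`. -/
theorem exists_hom_SL {T : Type*} [Group T] (hT : commutator T = ⊤) (ψ : T →* GL ι F)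
    (hψ : Function.Injective ψ) :
    ∃ φ : T →* Matrix.SpecialLinearGroup ι F, Function.Injective φ ∧
      ∀ t, ((φ t : Matrix.SpecialLinearGroup ι F) : Matrix ι ι F) = ((ψ t : GL ι F) : Matrix ι ι F) := by
  have hdet : ∀ t, ((ψ t : GL ι F) : Matrix ι ι F).det = 1 := by
    intro t
    have h := hom_eq_one_of_perfect hT (Matrix.GeneralLinearGroup.det.comp ψ) t
    have h2 := congrArg (fun x : Fˣ => (x : F)) h
    simpa using h2
  refine ⟨{ toFun := fun t => ⟨((ψ t : GL ι F) : Matrix ι ι F), hdet t⟩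
            map_one' := ?_
            map_mul' := ?_ }, ?_, ?_⟩
  · apply Subtype.ext
    simp
  · intro a b
    apply Subtype.ext
    show ((ψ (a * b) : GL ι F) : Matrix ι ι F) = _
    rw [map_mul]
    rfl
  · intro a b hab
    apply hψ
    apply Units.ext
    exact congrArg Subtype.val hab
  · intro t
    rfl

end toSL

end Cfsg.Agent.Lib.Helper20.GLaw
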