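import Mathlib
import Cfsg.Prelude.Def_Classical
import Cfsg.Agent.Lib.Helper20.LawC

/-!
# Perfect subgroups of `GL_r(F)` embed in the classical groups (helper20 library)
-/

set_option autoImplicit false

namespace Cfsg.Agent.Lib.Helper20.GLaw

open Matrix

/-- every perfect group with a faithful `r`-dimensional representation over `F` embeds in `G'`. -/
def PerfEmb (F : Type) [Field F] (r : ℕ) (G' : Type) [Group G'] : Prop :=
  ∀ (T : Type) [Group T], commutator T = ⊤ → ∀ ψ : T →* GL (Fin r) F, Function.Injective ψ →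
    ∃ φ : T →* G', Function.Injective φ

variable (F : Type) [Field F]

theorem perfEmb_SL (n : ℕ) : PerfEmb F n (Matrix.SpecialLinearGroup (Fin n) F) := by
  intro T _ hT ψ hψ
  obtain ⟨φ, hφ, -⟩ := exists_hom_SL hT ψ hψ
  exact ⟨φ, hφ⟩

section sp

theorem hypMat_mem_symplectic (m : ℕ) (A : GL (Fin m) F) :
    hypMat F m A ∈ Matrix.symplecticGroup (Fin m) F := by
  rw [hypMat_apply, SymplecticGroup.fromBlocks_mem_iff]
  have h1 : ((A⁻¹ : GL (Fin m) F) : Matrix (Fin m) (Fin m) F) * (A : Matrix (Fin m) (Fin m) F)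
      = 1 := by
    rw [← Units.val_mul, inv_mul_cancel, Units.val_one]
  have h2 : ((A : Matrix (Fin m) (Fin m) F))ᵀ *
      (((A⁻¹ : GL (Fin m) F) : Matrix (Fin m) (Fin m) F))ᵀ = 1 := by
    rw [← Matrix.transpose_mul, h1, Matrix.transpose_one]
  refine ⟨by simp, by simp, ?_⟩
  rw [h2]
  simp

/-- `GL_m(F) →* Sp_{2m}(F)`. -/
noncomputable def hypSp (m : ℕ) : GL (Fin m) F →* Matrix.symplecticGroup (Fin m) F :=
  (hypMat F m).codRestrict (Matrix.symplecticGroup (Fin m) F) (hypMat_mem_symplectic F m)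

theorem hypSp_injective (m : ℕ) : Function.Injective (hypSp F m) := by
  intro A B h
  apply hypMat_injective F m
  exact congrArg Subtype.val h

theorem perfEmb_Sp (m : ℕ) : PerfEmb F m (Matrix.symplecticGroup (Fin m) F) := by
  intro T _ _ ψ hψ
  exact ⟨(hypSp F m).comp ψ, (hypSp_injective F m).comp hψ⟩

end sp

section orth

/-- `GL_m(F) →* GL(Fin m ⊕ Fin m, F)`. -/
noncomputable def hypGL (m : ℕ) : GL (Fin m) F →* GL (Fin m ⊕ Fin m) F :=
  (hypMat F m).toHomUnits

theorem hypGL_coe (m : ℕ) (A : GL (Fin m) F) :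
    ((hypGL F m A : GL (Fin m ⊕ Fin m) F) : Matrix (Fin m ⊕ Fin m) (Fin m ⊕ Fin m) F) =
      hypMat F m A := rfl

theorem hypGL_injective (m : ℕ) : Function.Injective (hypGL F m) := by
  intro A B h
  apply hypMat_injective F m
  rw [← hypGL_coe, ← hypGL_coe, h]

theorem hypMat_quadFormPlus (m : ℕ) (A : GL (Fin m) F) (v : Fin m ⊕ Fin m → F) :
    Cfsg.quadFormPlus m F (hypMat F m A *ᵥ v) = Cfsg.quadFormPlus m F v := by
  unfold Cfsg.quadFormPlus
  exact hypMat_pairing F m A v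

/-- generic: corestrict a hom into `GL ι F` to an isometry group. -/
theorem exists_hom_isometry {ι : Type} [Fintype ι] [DecidableEq ι] (Q : (ι → F) → F)
    {T : Type} [Group T] (ψ : T →* GL ι F) (hψ : Function.Injective ψ)
    (hQ : ∀ t v, Q (((ψ t : GL ι F) : Matrix ι ι F) *ᵥ v) = Q v) :
    ∃ φ : T →* Cfsg.isometryGroup F Q, Function.Injective φ := by
  refine ⟨ψ.codRestrict (Cfsg.isometryGroup F Q) (fun t u _ => hQ t u), ?_⟩
  intro a b hab
  apply hψ
  exact congrArg Subtype.val hab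

theorem perfEmb_of_isometry {ι : Type} [Fintype ι] [DecidableEq ι] (Q : (ι → F) → F) (r : ℕ)
    (Ψ : GL (Fin r) F →* GL ι F) (hΨ : Function.Injective Ψ)
    (hQ : ∀ A v, Q (((Ψ A : GL ι F) : Matrix ι ι F) *ᵥ v) = Q v) :
    PerfEmb F r (Cfsg.Omega F Q) := by
  intro T _ hT ψ hψ
  obtain ⟨φ, hφ⟩ := exists_hom_isometry F Q (Ψ.comp ψ) (hΨ.comp hψ) (fun t v => hQ (ψ t) v)
  exact exists_hom_commutator hT φ hφ

theorem perfEmb_OmegaPlus (m : ℕ) : PerfEmb F m (Cfsg.Omega F (Cfsg.quadFormPlus m F)) :=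
  perfEmb_of_isometry F _ m (hypGL F m) (hypGL_injective F m)
    (fun A v => hypMat_quadFormPlus F m A v)

theorem perfEmb_OmegaOdd (m : ℕ) : PerfEmb F m (Cfsg.Omega F (Cfsg.quadFormOdd m F)) := by
  let e : (Fin m ⊕ Fin m) ⊕ Unit ≃ Unit ⊕ (Fin m ⊕ Fin m) := Equiv.sumComm _ _
  refine perfEmb_of_isometry F _ m ((extGL F e).comp (hypGL F m))
    ((extGL_injective F e).comp (hypGL_injective F m)) ?_
  intro A v
  have h := extMat_preserves F e (fun u _ => Cfsg.quadFormOdd m F u)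
    (fun u _ => Cfsg.quadFormPlus m F u) (fun u _ => u () ^ 2) ?_ (hypMat F m A)
    (fun u _ => hypMat_quadFormPlus F m A u) v v
  · exact h
  · intro u _
    unfold Cfsg.quadFormOdd Cfsg.quadFormPlus
    simp only [Function.comp_apply, e, Equiv.sumComm_apply, Sum.swap_inl, Sum.swap_inr]
    ring

theorem perfEmb_OmegaMinus (k : ℕ) (a b : F) :
    PerfEmb F k (Cfsg.Omega F (Cfsg.quadFormMinus k F a b)) := by
  let e : (Fin k ⊕ Fin k) ⊕ Fin 2 ≃ (Fin k ⊕ Fin k) ⊕ Fin 2 := Equiv.refl _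
  refine perfEmb_of_isometry F _ k ((extGL F e).comp (hypGL F k))
    ((extGL_injective F e).comp (hypGL_injective F k)) ?_
  intro A v
  have h := extMat_preserves F e (fun u _ => Cfsg.quadFormMinus k F a b u)
    (fun u _ => Cfsg.quadFormPlus k F u)
    (fun u _ => u 0 ^ 2 + a * u 0 * u 1 + b * u 1 ^ 2) ?_ (hypMat F k A)
    (fun u _ => hypMat_quadFormPlus F k A u) v v
  · exact h
  · intro u _
    unfold Cfsg.quadFormMinus Cfsg.quadFormPlus
    simp only [Function.comp_apply, e, Equiv.refl_apply]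

end orth

end Cfsg.Agent.Lib.Helper20.GLaw
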