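import Mathlib
import Cfsg.Prelude.Def_Classical
import Cfsg.Agent.Lib.Helper20.LawD
import Cfsg.Agent.S0281

/-!
# Sources of perfect subgroups: `SL(2,F)` and finite perfect groups via permutation matrices;
the unitary case (helper20 library)
-/

set_option autoImplicit false

namespace Cfsg.Agent.Lib.Helper20.GLaw

open Matrix

/-- `Fin 2 ⊕ Fin (r - 2) ≃ Fin r`. -/
def fin2Equiv (r : ℕ) (h : 2 ≤ r) : Fin 2 ⊕ Fin (r - 2) ≃ Fin r :=
  finSumFinEquiv.trans (finCongr (by omega))

section sources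

variable (F : Type) [Field F]

theorem PerfEmb.of_SL2 [Fintype F] {r : ℕ} {G' : Type} [Group G'] (h : PerfEmb F r G')
    (hr : 2 ≤ r) (hF : 4 ≤ Fintype.card F) :
    ∃ φ : Matrix.SpecialLinearGroup (Fin 2) F →* G', Function.Injective φ := by
  refine h _ (sl2_perfect hF)
    ((extGL F (fin2Equiv r hr)).comp Matrix.SpecialLinearGroup.toGL) ?_
  exact (extGL_injective F (fin2Equiv r hr)).comp Matrix.SpecialLinearGroup.toGL_injective

theorem PerfEmb.of_perm {r : ℕ} {G' : Type} [Group G'] (h : PerfEmb F r G')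
    (T : Type) [Group T] [Fintype T] (hT : commutator T = ⊤) (hr : Fintype.card T ≤ r) :
    ∃ φ : T →* G', Function.Injective φ := by
  obtain ⟨φ₀, hφ₀⟩ := exists_hom_perm T (Fin r) (by simpa using hr)
  exact h T hT ((permGL F (Fin r)).comp φ₀) ((permGL_injective F (Fin r)).comp hφ₀)

end sources

section unitary

variable (F : Type) [Field F]

theorem exists_hom_SU (n q : ℕ) {T : Type} [Group T] (hT : commutator T = ⊤)
    (ψ : T →* GL (Fin n) F) (hψ : Function.Injective ψ)
    (hU : ∀ t u v, Cfsg.hermForm n F q (((ψ t : GL (Fin n) F) : Matrix (Fin n) (Fin n) F) *ᵥ u)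
      (((ψ t : GL (Fin n) F) : Matrix (Fin n) (Fin n) F) *ᵥ v) = Cfsg.hermForm n F q u v) :
    ∃ φ : T →* Cfsg.SU n F q, Function.Injective φ := by
  obtain ⟨φ₀, hφ₀, hcoe⟩ := exists_hom_SL hT ψ hψ
  refine ⟨φ₀.codRestrict (Cfsg.SU n F q) ?_, ?_⟩
  · intro t u v
    show Cfsg.hermForm n F q (((φ₀ t : Matrix.SpecialLinearGroup (Fin n) F) :
      Matrix (Fin n) (Fin n) F) *ᵥ u) (((φ₀ t : Matrix.SpecialLinearGroup (Fin n) F) :
      Matrix (Fin n) (Fin n) F) *ᵥ v) = _
    rw [hcoe]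
    exact hU t u v
  · intro a b hab
    apply hφ₀
    exact congrArg Subtype.val hab

/-- rank bound: a finite perfect group of order `≤ n` embeds in `SU_n`. -/
theorem su_of_perm (n q : ℕ) (T : Type) [Group T] [Fintype T] (hT : commutator T = ⊤)
    (hr : Fintype.card T ≤ n) : ∃ φ : T →* Cfsg.SU n F q, Function.Injective φ := by
  obtain ⟨φ₀, hφ₀⟩ := exists_hom_perm T (Fin n) (by simpa using hr)
  refine exists_hom_SU F n q hT ((permGL F (Fin n)).comp φ₀)
    ((permGL_injective F (Fin n)).comp hφ₀) ?_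
  intro t u v
  rw [MonoidHom.comp_apply, permGL_mulVec, permGL_mulVec]
  unfold Cfsg.hermForm
  exact Equiv.sum_comp ((φ₀ t)⁻¹ : Equiv.Perm (Fin n)) (fun i => u i * v i ^ q)

theorem hermForm_split (n q : ℕ) (hn : 2 ≤ n) (u v : Fin n → F) :
    Cfsg.hermForm n F q u v =
      Cfsg.hermForm 2 F q (u ∘ fin2Equiv n hn ∘ Sum.inl) (v ∘ fin2Equiv n hn ∘ Sum.inl) +
      Cfsg.hermForm (n - 2) F q (u ∘ fin2Equiv n hn ∘ Sum.inr) (v ∘ fin2Equiv n hn ∘ Sum.inr) := by
  unfold Cfsg.hermForm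
  rw [← Equiv.sum_comp (fin2Equiv n hn), Fintype.sum_sum_type]
  rfl

/-- field bound: `SL_2(K) ≅ SU_2(q)` embeds in `SU_n(q)`. -/
theorem su_of_SL2 [Fintype F] (n q : ℕ) (hn : 2 ≤ n) (hF : Fintype.card F = q ^ 2)
    (K : Type) [Field K] [Fintype K] (hK : Fintype.card K = q) (hq : 4 ≤ q) :
    ∃ φ : Matrix.SpecialLinearGroup (Fin 2) K →* Cfsg.SU n F q, Function.Injective φ := by
  obtain ⟨E⟩ := Cfsg.Agent.S0281.result hF hK
  have hperf : commutator (Matrix.SpecialLinearGroup (Fin 2) K) = ⊤ :=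
    sl2_perfect (by rw [hK]; exact hq)
  let ψ₀ : Matrix.SpecialLinearGroup (Fin 2) K →* Matrix.SpecialLinearGroup (Fin 2) F :=
    (Cfsg.SU 2 F q).subtype.comp E.symm.toMonoidHom
  have hψ₀ : Function.Injective ψ₀ :=
    (Subgroup.subtype_injective _).comp E.symm.injective
  refine exists_hom_SU F n q hperf
    ((extGL F (fin2Equiv n hn)).comp (Matrix.SpecialLinearGroup.toGL.comp ψ₀))
    ((extGL_injective F (fin2Equiv n hn)).comp
      (Matrix.SpecialLinearGroup.toGL_injective.comp hψ₀)) ?_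
  intro t u v
  have hmem : ψ₀ t ∈ Cfsg.SU 2 F q := (E.symm t).2
  exact extMat_preserves F (fin2Equiv n hn) (Cfsg.hermForm n F q) (Cfsg.hermForm 2 F q)
    (Cfsg.hermForm (n - 2) F q) (hermForm_split F n q hn)
    ((ψ₀ t : Matrix.SpecialLinearGroup (Fin 2) F) : Matrix (Fin 2) (Fin 2) F)
    (fun u v => hmem u v) u v

/-- a finite field with `q` elements when `q ^ 2` is the order of a finite field. -/
theorem exists_field_card [Fintype F] (q : ℕ) (hF : Fintype.card F = q ^ 2) :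
    ∃ (K : Type) (_ : Field K) (_ : Fintype K), Fintype.card K = q := by
  obtain ⟨p, -, n, hp, hcard⟩ := FiniteField.card' F
  have hq1 : 1 < q := by
    have h2 : 1 < Fintype.card F := Fintype.one_lt_card
    rw [hF] at h2
    by_contra hcon
    push Not at hcon
    interval_cases q <;> simp at h2
  have hdvd : q ∣ p ^ (n : ℕ) := by
    rw [← hcard, hF]
    exact dvd_pow_self q (by norm_num)
  obtain ⟨j, -, hj⟩ := (Nat.dvd_prime_pow hp).mp hdvd
  have hj0 : j ≠ 0 := by
    rintro rfl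
    rw [pow_zero] at hj
    omega
  have : Fact p.Prime := ⟨hp⟩
  have : Finite (GaloisField p j) := Nat.finite_of_card_ne_zero (by
    rw [GaloisField.card p j hj0]
    exact pow_ne_zero _ hp.ne_zero)
  let _ : Fintype (GaloisField p j) := Fintype.ofFinite _
  refine ⟨GaloisField p j, inferInstance, inferInstance, ?_⟩
  rw [← Nat.card_eq_fintype_card, GaloisField.card p j hj0, hj]

end unitary

end Cfsg.Agent.Lib.Helper20.GLaw
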