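import Mathlib
import Cfsg.Prelude.Def_Classical
import Cfsg.Agent.Lib.Helper20.LawE

/-!
# A non-trivial law bounds the order of alternating and classical simple groups
(helper20 library; main assembly for S2355)
-/

set_option autoImplicit false

namespace Cfsg.Agent.Lib.Helper20.GLaw

open Matrix

/-- the hypothesis extracted from S2353: `w` fails in `PSL_2(F)` for `|F| ≥ N₂`. -/
def FailsPSL2 (w : FreeGroup ℕ) (N₂ : ℕ) : Prop :=
  ∀ (F : Type) [Field F] [Fintype F], N₂ ≤ Fintype.card F →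
    ∃ f : ℕ → Matrix.ProjectiveSpecialLinearGroup (Fin 2) F, FreeGroup.lift f w ≠ 1

variable {w : FreeGroup ℕ} {N₂ : ℕ}

theorem not_law_of_emb (hN : FailsPSL2 w N₂) {F' : Type} [Field F'] [Fintype F']
    (hF' : N₂ ≤ Fintype.card F') {G' : Type} [Group G']
    (φ : Matrix.SpecialLinearGroup (Fin 2) F' →* G') (hφ : Function.Injective φ)
    {G : Type*} [Group G] (e : G ≃* G' ⧸ Subgroup.center G') : ¬ IsLaw w G := by
  intro hG
  have h1 : IsLaw w (G' ⧸ Subgroup.center G') := hG.of_mulEquiv e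
  have h2 := h1.center_quotient φ hφ
  obtain ⟨f, hf⟩ := hN F' hF'
  exact hf (h2 f)

theorem not_law_of_emb' (hN : FailsPSL2 w N₂) {F' : Type} [Field F'] [Fintype F']
    (hF' : N₂ ≤ Fintype.card F') {G : Type*} [Group G]
    (φ : Matrix.SpecialLinearGroup (Fin 2) F' →* G) (hφ : Function.Injective φ) : ¬ IsLaw w G := by
  intro hG
  have h1 : IsLaw w (Matrix.SpecialLinearGroup (Fin 2) F') := hG.of_injective φ hφ
  have h2 : IsLaw w (Matrix.ProjectiveSpecialLinearGroup (Fin 2) F') :=
    h1.of_surjective (QuotientGroup.mk' _) (QuotientGroup.mk'_surjective _)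
  obtain ⟨f, hf⟩ := hN F' hF'
  exact hf (h2 f)

section card

theorem card_matrix_le {F ι : Type} [Field F] [Fintype F] [Fintype ι] [DecidableEq ι]
    {C D : ℕ} (hC : Fintype.card F ≤ C) (hD : Fintype.card ι ≤ D) (hC1 : 1 ≤ C) :
    Nat.card (Matrix ι ι F) ≤ C ^ (D * D) := by
  have h : Nat.card (Matrix ι ι F) = Fintype.card F ^ (Fintype.card ι * Fintype.card ι) := by
    rw [Nat.card_eq_fintype_card]
    show Fintype.card (ι → ι → F) = _
    rw [Fintype.card_fun, Fintype.card_fun, ← pow_mul]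
  rw [h]
  calc Fintype.card F ^ (Fintype.card ι * Fintype.card ι)
      ≤ C ^ (Fintype.card ι * Fintype.card ι) := Nat.pow_le_pow_left hC _
    _ ≤ C ^ (D * D) := Nat.pow_le_pow_right hC1 (Nat.mul_le_mul hD hD)

theorem card_le_of_matrix {F ι : Type} [Field F] [Fintype F] [Fintype ι] [DecidableEq ι]
    {G' : Type} [Group G'] (j : G' → Matrix ι ι F) (hj : Function.Injective j)
    {G : Type*} [Group G] (e : G ≃* G' ⧸ Subgroup.center G')
    {C D : ℕ} (hC : Fintype.card F ≤ C) (hD : Fintype.card ι ≤ D) (hC1 : 1 ≤ C) :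
    Nat.card G ≤ C ^ (D * D) := by
  have hfin : Finite G' := Finite.of_injective j hj
  calc Nat.card G = Nat.card (G' ⧸ Subgroup.center G') := Nat.card_congr e.toEquiv
    _ ≤ Nat.card G' := Nat.card_le_card_of_surjective _ (QuotientGroup.mk_surjective)
    _ ≤ Nat.card (Matrix ι ι F) := Nat.card_le_card_of_injective j hj
    _ ≤ C ^ (D * D) := card_matrix_le hC hD hC1

end card

section test

variable (p : ℕ) [Fact p.Prime]

/-- the test group `SL_2(𝔽_p)`. -/
abbrev TestGp : Type := Matrix.SpecialLinearGroup (Fin 2) (ZMod p)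

theorem testGp_perfect (hp : 5 ≤ p) : commutator (TestGp p) = ⊤ :=
  sl2_perfect (by rw [ZMod.card]; omega)

/-- the bound for the classical families. -/
def classBound (N₂ t : ℕ) : ℕ := ((max N₂ 4) ^ 2) ^ ((2 * t + 2) * (2 * t + 2))

theorem one_le_sq (N₂ : ℕ) : 1 ≤ (max N₂ 4) ^ 2 :=
  Nat.one_le_pow _ _ (lt_of_lt_of_le (by norm_num) (le_max_right N₂ 4))

theorem le_sq (N₂ : ℕ) : max N₂ 4 ≤ (max N₂ 4) ^ 2 := by
  have : 1 ≤ max N₂ 4 := le_trans (by norm_num) (le_max_right N₂ 4)
  nlinarith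

/-- the uniform bound for a family in which perfect subgroups of `GL_r(F)` embed. -/
theorem family_bound (hN : FailsPSL2 w N₂) (hp5 : 5 ≤ p) (hpN : N₂ ≤ p)
    {F : Type} [Field F] [Fintype F] {r : ℕ} (hr : 2 ≤ r) {G' : Type} [Group G']
    (hPE : PerfEmb F r G') {ι : Type} [Fintype ι] [DecidableEq ι] (j : G' → Matrix ι ι F)
    (hj : Function.Injective j) (hι : Fintype.card ι ≤ 2 * r + 2)
    {G : Type*} [Group G] (e : G ≃* G' ⧸ Subgroup.center G') (hlaw : IsLaw w G) :
    Nat.card G ≤ classBound N₂ (Fintype.card (TestGp p)) := by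
  have h1 : Fintype.card F < max N₂ 4 := by
    by_contra hcon
    push Not at hcon
    obtain ⟨φ, hφ⟩ := hPE.of_SL2 F hr (le_trans (le_max_right _ _) hcon)
    exact not_law_of_emb hN (le_trans (le_max_left _ _) hcon) φ hφ e hlaw
  have h2 : r < Fintype.card (TestGp p) := by
    by_contra hcon
    push Not at hcon
    obtain ⟨φ, hφ⟩ := hPE.of_perm F (TestGp p) (testGp_perfect p hp5) hcon
    exact not_law_of_emb hN (by rw [ZMod.card]; exact hpN) φ hφ e hlaw
  exact card_le_of_matrix j hj e (le_trans h1.le (le_sq N₂)) (by omega) (one_le_sq N₂)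

/-- the unitary family. -/
theorem unitary_bound (hN : FailsPSL2 w N₂) (hp5 : 5 ≤ p) (hpN : N₂ ≤ p)
    {F : Type} [Field F] [Fintype F] {n q : ℕ} (hn : 2 ≤ n) (hF : Fintype.card F = q ^ 2)
    {G : Type*} [Group G] (e : G ≃* Cfsg.SU n F q ⧸ Subgroup.center (Cfsg.SU n F q))
    (hlaw : IsLaw w G) :
    Nat.card G ≤ classBound N₂ (Fintype.card (TestGp p)) := by
  have h1 : q < max N₂ 4 := by
    by_contra hcon
    push Not at hcon
    obtain ⟨K, _, _, hK⟩ := exists_field_card F q hF
    obtain ⟨φ, hφ⟩ := su_of_SL2 F n q hn hF K hK (le_trans (le_max_right _ _) hcon)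
    exact not_law_of_emb hN (by rw [hK]; exact le_trans (le_max_left _ _) hcon) φ hφ e hlaw
  have h2 : n < Fintype.card (TestGp p) := by
    by_contra hcon
    push Not at hcon
    obtain ⟨φ, hφ⟩ := su_of_perm F n q (TestGp p) (testGp_perfect p hp5) hcon
    exact not_law_of_emb hN (by rw [ZMod.card]; exact hpN) φ hφ e hlaw
  have hj : Function.Injective (fun g : Cfsg.SU n F q =>
      ((g : Matrix.SpecialLinearGroup (Fin n) F) : Matrix (Fin n) (Fin n) F)) :=
    Subtype.val_injective.comp Subtype.val_injective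
  refine card_le_of_matrix _ hj e ?_ (D := 2 * Fintype.card (TestGp p) + 2)
    (by rw [Fintype.card_fin]; omega) (one_le_sq N₂)
  rw [hF]
  exact Nat.pow_le_pow_left h1.le 2

/-- the alternating family. -/
theorem alternating_bound (hN : FailsPSL2 w N₂) (hp5 : 5 ≤ p) (hpN : N₂ ≤ p) {n : ℕ}
    {G : Type*} [Group G] (e : G ≃* alternatingGroup (Fin n)) (hlaw : IsLaw w G) :
    Nat.card G ≤ (Fintype.card (TestGp p)).factorial := by
  have h2 : n < Fintype.card (TestGp p) := by
    by_contra hcon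
    push Not at hcon
    obtain ⟨φ₀, hφ₀⟩ := exists_hom_perm (TestGp p) (Fin n) (by simpa using hcon)
    have hmem : ∀ t, φ₀ t ∈ alternatingGroup (Fin n) := by
      intro t
      rw [Equiv.Perm.mem_alternatingGroup]
      exact hom_eq_one_of_perfect (testGp_perfect p hp5) (Equiv.Perm.sign.comp φ₀) t
    have hinj : Function.Injective (φ₀.codRestrict (alternatingGroup (Fin n)) hmem) := by
      intro a b hab
      apply hφ₀
      exact congrArg Subtype.val hab
    exact not_law_of_emb' hN (by rw [ZMod.card]; exact hpN) _ hinj (hlaw.of_mulEquiv e)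
  calc Nat.card G = Nat.card (alternatingGroup (Fin n)) := Nat.card_congr e.toEquiv
    _ ≤ Nat.card (Equiv.Perm (Fin n)) := Nat.card_le_card_of_injective _ Subtype.val_injective
    _ = n.factorial := by
        rw [Nat.card_eq_fintype_card, Fintype.card_perm, Fintype.card_fin]
    _ ≤ (Fintype.card (TestGp p)).factorial := Nat.factorial_le h2.le

end test

end Cfsg.Agent.Lib.Helper20.GLaw
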