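import Mathlib
import Cfsg.Agent.Lib.Helper20.CyclicSelfCent
import Cfsg.Agent.Lib.Helper1.MaxClassTwo
import Cfsg.Agent.Lib.Helper1.MaxNormalAbelian
import Cfsg.Agent.Lib.Helper1.Noncyclic

/-!
Helper lemmas (helper20): a nonabelian `2`-group has maximal class iff every noncyclic subgroup
contains its centralizer (statement S3919).
-/

set_option autoImplicit false

namespace Cfsg.Agent.Lib.Helper20.MCS

open Cfsg.Agent.Lib.Helper20.CSC

universe u

/-- In a `2`-group of maximal class every noncyclic subgroup contains its centralizer. -/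
theorem centralizer_le_of_maximal_class {G : Type u} [Group G] [Finite G] (n : ℕ) (hn : 3 ≤ n)
    (hG : Nat.card G = 2 ^ n) (hc : Group.nilpotencyClass G = n - 1) (H : Subgroup G)
    (hH : ¬ IsCyclic ↥H) : Subgroup.centralizer (H : Set G) ≤ H := by
  obtain ⟨C, hCcyc, hCi⟩ :=
    Cfsg.Agent.Lib.Helper1.exists_cyclic_index_two_of_maximal_class n hn G hG hc
  have hZ : Nat.card (Subgroup.center G) = 2 :=
    Cfsg.Agent.Lib.Helper1.card_center_of_maximal_class n hn hG hc
  obtain ⟨x, rfl⟩ := exists_generator_of_isCyclic C hCcyc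
  have hCcard : Nat.card (Subgroup.zpowers x) = 2 ^ (n - 1) := by
    have h1 := Subgroup.card_mul_index (Subgroup.zpowers x)
    rw [hCi, hG] at h1
    have h2 : 2 ^ n = 2 ^ (n - 1) * 2 := by rw [← pow_succ]; congr 1; omega
    rw [h2] at h1
    exact Nat.eq_of_mul_eq_mul_right (by norm_num) h1
  have hord : orderOf x = 2 ^ (n - 1) := by rw [← Nat.card_zpowers]; exact hCcard
  -- the involution of C
  have hz2 : (x ^ (2 ^ (n - 2))) ^ 2 = 1 := by
    rw [← pow_mul, ← pow_succ]
    have : n - 2 + 1 = n - 1 := by omega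
    rw [this, ← hord]; exact pow_orderOf_eq_one x
  have hinvol : ∀ w ∈ Subgroup.zpowers x, w ^ 2 = 1 → w = 1 ∨ w = x ^ (2 ^ (n - 2)) := by
    intro w hw hw2
    have h1 := mem_zpowers_pow_of_pow_eq_one (p := 2) (n := n - 1) (j := 1) two_ne_zero hord
      (by omega) hw (by rwa [pow_one])
    have h2 : n - 1 - 1 = n - 2 := by omega
    rw [h2] at h1
    obtain ⟨i, rfl⟩ := Subgroup.mem_zpowers_iff.mp h1
    have hz2' : (x ^ (2 ^ (n - 2))) ^ (2 : ℤ) = 1 := by rw [zpow_ofNat]; exact hz2
    rcases Int.even_or_odd' i with ⟨r, rfl | rfl⟩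
    · left; rw [zpow_mul, hz2', one_zpow]
    · right; rw [zpow_add, zpow_mul, hz2', one_zpow, one_mul, zpow_one]
  -- center ≤ C
  have hZC : Subgroup.center G ≤ Subgroup.zpowers x := by
    intro z' hz'
    by_contra hz'C
    have h1 := Cfsg.Agent.Lib.Helper1.inf_centralizer_le_center_of_index_two (Subgroup.zpowers x)
      inferInstance hCi z' hz'C
    have h2 : Subgroup.zpowers x ≤ Subgroup.center G := by
      intro y hy
      apply h1
      exact ⟨hy, (Ctx.mem_centralizer_singleton_iff z' y).mpr (Subgroup.mem_center_iff.mp hz' y)⟩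
    have h3 := Subgroup.card_le_of_le h2
    rw [hCcard, hZ] at h3
    have : 2 ^ 2 ≤ 2 ^ (n - 1) := Nat.pow_le_pow_right (by norm_num) (by omega)
    omega
  -- the center is {1, z}
  have hcenter : ∀ w ∈ Subgroup.center G, w = 1 ∨ w = x ^ (2 ^ (n - 2)) := by
    intro w hw
    apply hinvol w (hZC hw)
    have h1 : (⟨w, hw⟩ : Subgroup.center G) ^ Nat.card (Subgroup.center G) = 1 := pow_card_eq_one'
    rw [hZ] at h1
    exact congrArg Subtype.val h1
  have hzcenter : x ^ (2 ^ (n - 2)) ∈ Subgroup.center G := by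
    have hnt : Nontrivial (Subgroup.center G) := by
      rw [← Finite.one_lt_card_iff_nontrivial, hZ]; norm_num
    obtain ⟨⟨w, hw⟩, hw1⟩ := exists_ne (1 : Subgroup.center G)
    rcases hcenter w hw with h1 | h1
    · exfalso; apply hw1; exact Subtype.ext h1
    · rw [← h1]; exact hw
  have hz1 : x ^ (2 ^ (n - 2)) ≠ 1 := by
    intro h1
    have h2 := orderOf_dvd_of_pow_eq_one h1
    rw [hord] at h2
    have h3 := (Nat.pow_dvd_pow_iff_le_right (by norm_num : 1 < 2)).mp h2
    omega
  -- an element of H outside C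
  have hHC : ¬ H ≤ Subgroup.zpowers x := by
    intro hle
    exact hH (Subgroup.isCyclic_of_le hle)
  obtain ⟨h, hhH, hhC⟩ := SetLike.not_le_iff_exists.mp hHC
  -- z ∈ H
  have hzH : x ^ (2 ^ (n - 2)) ∈ H := by
    by_contra hzH
    apply hH
    -- H ⊓ C = ⊥
    have hbot : ∀ y ∈ H, y ∈ Subgroup.zpowers x → y = 1 := by
      intro y hyH hyC
      by_contra hy1
      have hdvd : orderOf y ∣ 2 ^ n := by rw [← hG]; exact orderOf_dvd_natCard y
      obtain ⟨k, -, hk⟩ := (Nat.dvd_prime_pow Nat.prime_two).mp hdvd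
      have hk1 : k ≠ 0 := by
        rintro rfl
        rw [pow_zero, orderOf_eq_one_iff] at hk
        exact hy1 hk
      have hw2 : (y ^ (2 ^ (k - 1))) ^ 2 = 1 := by
        rw [← pow_mul, ← pow_succ]
        have : k - 1 + 1 = k := by omega
        rw [this, ← hk]; exact pow_orderOf_eq_one y
      have hw1 : y ^ (2 ^ (k - 1)) ≠ 1 := by
        intro h1
        have h2 := orderOf_dvd_of_pow_eq_one h1
        rw [hk] at h2
        have h3 := (Nat.pow_dvd_pow_iff_le_right (by norm_num : 1 < 2)).mp h2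
        omega
      rcases hinvol _ (Subgroup.pow_mem _ hyC _) hw2 with h1 | h1
      · exact hw1 h1
      · apply hzH; rw [← h1]; exact Subgroup.pow_mem _ hyH _
    rw [isCyclic_iff_exists_zpowers_eq_top]
    refine ⟨⟨h, hhH⟩, ?_⟩
    rw [eq_top_iff]
    rintro ⟨y, hyH⟩ -
    by_cases hyC : y ∈ Subgroup.zpowers x
    · have := hbot y hyH hyC
      subst this
      exact one_mem _
    · have h1 : h⁻¹ * y ∈ Subgroup.zpowers x := by
        rw [Subgroup.mul_mem_iff_of_index_two hCi]
        constructor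
        · intro h'; exact absurd (by simpa using Subgroup.inv_mem _ h') hhC
        · intro h'; exact absurd h' hyC
      have h2 := hbot _ (H.mul_mem (H.inv_mem hhH) hyH) h1
      have h3 : y = h := by
        have := congrArg (fun t => h * t) h2
        simpa using this
      subst h3
      exact Subgroup.mem_zpowers _
  -- main argument
  intro c hc
  have hch : Commute c h := (Subgroup.mem_centralizer_iff.mp hc h hhH).symm
  have hCh : ∀ y ∈ Subgroup.zpowers x, Commute y h → y = 1 ∨ y = x ^ (2 ^ (n - 2)) := by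
    intro y hy hyh
    apply hcenter
    apply Cfsg.Agent.Lib.Helper1.inf_centralizer_le_center_of_index_two (Subgroup.zpowers x)
      inferInstance hCi h hhC
    exact ⟨hy, (Ctx.mem_centralizer_singleton_iff h y).mpr hyh⟩
  by_cases hcC : c ∈ Subgroup.zpowers x
  · rcases hCh c hcC hch with h1 | h1
    · rw [h1]; exact one_mem _
    · rw [h1]; exact hzH
  · have h1 : h⁻¹ * c ∈ Subgroup.zpowers x := by
      rw [Subgroup.mul_mem_iff_of_index_two hCi]
      constructor
      · intro h'; exact absurd (by simpa using Subgroup.inv_mem _ h') hhC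
      · intro h'; exact absurd h' hcC
    have h2 : Commute (h⁻¹ * c) h := (Commute.refl h).inv_left.mul_left hch
    have h3 : c = h * (h⁻¹ * c) := by group
    rw [h3]
    rcases hCh _ h1 h2 with h4 | h4
    · rw [h4, mul_one]; exact hhH
    · rw [h4]; exact H.mul_mem hhH hzH


/-- The unique involution of a cyclic `2`-group. -/
theorem eq_one_or_eq_pow_of_sq_eq_one {G : Type*} [Group G] {g y : G} {k : ℕ}
    (hord : orderOf g = 2 ^ k) (hk : 1 ≤ k) (hy : y ∈ Subgroup.zpowers g) (hy2 : y ^ 2 = 1) :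
    y = 1 ∨ y = g ^ (2 ^ (k - 1)) := by
  have h1 := mem_zpowers_pow_of_pow_eq_one (p := 2) (n := k) (j := 1) two_ne_zero hord
    hk hy (by rwa [pow_one])
  obtain ⟨i, rfl⟩ := Subgroup.mem_zpowers_iff.mp h1
  have hz2 : (g ^ (2 ^ (k - 1))) ^ (2 : ℤ) = 1 := by
    rw [zpow_ofNat, ← pow_mul, ← pow_succ]
    have : k - 1 + 1 = k := by omega
    rw [this, ← hord]; exact pow_orderOf_eq_one g
  rcases Int.even_or_odd' i with ⟨r, rfl | rfl⟩
  · left; rw [zpow_mul, hz2, one_zpow]
  · right; rw [zpow_add, zpow_mul, hz2, one_zpow, one_mul, zpow_one]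

/-- The context of `CyclicSelfCent` from a cyclic self-centralizing normal subgroup of a nonabelian
`p`-group. -/
theorem ctx_of_selfCent {G : Type*} [Group G] [Finite G] {p : ℕ} [Fact p.Prime]
    (hG : IsPGroup p G) (hna : ¬ IsMulCommutative G) (x : G) [hUn' : (Subgroup.zpowers x).Normal]
    (n : ℕ) (hUn : Nat.card (Subgroup.zpowers x) = p ^ n)
    (hC : Subgroup.centralizer (Subgroup.zpowers x : Set G) = Subgroup.zpowers x) :
    Ctx G p x n ∧ ∃ g, g ∉ Subgroup.zpowers x := by
  have hord : orderOf x = p ^ n := by rw [← Nat.card_zpowers]; exact hUn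
  have hcent : ∀ g : G, Commute g x → g ∈ Subgroup.zpowers x := by
    intro g hg
    rw [← hC, Subgroup.mem_centralizer_iff]
    intro u hu
    obtain ⟨i, rfl⟩ := Subgroup.mem_zpowers_iff.mp (SetLike.mem_coe.mp hu)
    exact (hg.zpow_right i).eq.symm
  have hnetop : Subgroup.zpowers x ≠ ⊤ := by
    intro htop
    apply hna
    refine ⟨⟨fun a b => ?_⟩⟩
    have ha : a ∈ Subgroup.zpowers x := by rw [htop]; trivial
    have hb : b ∈ Subgroup.zpowers x := by rw [htop]; trivial
    obtain ⟨i, rfl⟩ := Subgroup.mem_zpowers_iff.mp ha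
    obtain ⟨j, rfl⟩ := Subgroup.mem_zpowers_iff.mp hb
    exact ((Commute.refl x).zpow_zpow i j).eq
  have hn2 : 2 ≤ n := by
    by_contra hlt
    apply hnetop
    have hle : Subgroup.zpowers x ≤ Subgroup.center G := by
      have hn01 : n = 0 ∨ n = 1 := by omega
      rcases hn01 with rfl | rfl
      · rw [pow_zero] at hUn
        rw [Subgroup.card_eq_one.mp hUn]; exact bot_le
      · rw [pow_one] at hUn
        exact Cfsg.Agent.Lib.Helper20.le_center_of_normal_of_card_eq_prime hG _ hUn
    rw [← hC]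
    exact Subgroup.centralizer_eq_top_iff_subset.mpr hle
  refine ⟨⟨hG, hord, hUn', hcent, hn2⟩, ?_⟩
  by_contra hall
  apply hnetop
  rw [eq_top_iff]; intro g _
  by_contra hg; exact hall ⟨g, hg⟩

open scoped IsMulCommutative in
/-- If all noncyclic subgroups of the `2`-group `G` contain their centralizers and `G` has a
noncyclic normal abelian subgroup, then `|G| ≤ 8`. -/
theorem card_le_eight_of_normal_noncyclic {G : Type*} [Group G] [Finite G] (hP : IsPGroup 2 G)
    (hS : ∀ H : Subgroup G, ¬ IsCyclic ↥H → Subgroup.centralizer (H : Set G) ≤ H)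
    (U : Subgroup G) [U.Normal] (hUab : IsMulCommutative U) (hUnc : ¬ IsCyclic U) :
    Nat.card G ≤ 8 := by
  classical
  have hUne : U ≠ ⊥ := by
    rintro rfl
    exact hUnc isCyclic_of_subsingleton
  obtain ⟨z', hz'U, hz'1, hz'Z⟩ :=
    Cfsg.Agent.Lib.Helper12.exists_ne_one_mem_center_of_normal hP U hUne
  obtain ⟨k, hk⟩ := IsPGroup.iff_orderOf.mp hP z'
  have hk1 : 1 ≤ k := by
    rcases Nat.eq_zero_or_pos k with rfl | h
    · rw [pow_zero, orderOf_eq_one_iff] at hk; exact absurd hk hz'1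
    · exact h
  set z := z' ^ (2 ^ (k - 1)) with hzdef
  have hz2 : z ^ 2 = 1 := by
    rw [hzdef, ← pow_mul, ← pow_succ]
    have : k - 1 + 1 = k := by omega
    rw [this, ← hk]; exact pow_orderOf_eq_one z'
  have hz1 : z ≠ 1 := by
    intro h1
    have h2 := orderOf_dvd_of_pow_eq_one h1
    rw [hk] at h2
    have h3 := (Nat.pow_dvd_pow_iff_le_right (by norm_num : 1 < 2)).mp h2
    omega
  have hzU : z ∈ U := U.pow_mem hz'U _
  have hzZ : z ∈ Subgroup.center G := (Subgroup.center G).pow_mem hz'Z _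
  have hzc : ∀ g : G, Commute g z := fun g => Subgroup.mem_center_iff.mp hzZ g
  -- a second involution
  obtain ⟨a, haU, ha2, ha1, haz⟩ : ∃ a ∈ U, a ^ 2 = 1 ∧ a ≠ 1 ∧ a ≠ z := by
    obtain ⟨q, hq, a', b', ha', hb', hb'1, hab'⟩ := Cfsg.Agent.Lib.Helper1.exists_noncyclic_pair hUnc
    have hq2 : q = 2 := by
      haveI : Fact q.Prime := ⟨hq⟩
      have h1 : orderOf b' = q := orderOf_eq_prime hb' hb'1
      obtain ⟨j, hj⟩ := IsPGroup.iff_orderOf.mp (hP.to_subgroup U) b'
      rw [h1] at hj
      have h2 : q ∣ 2 ^ j := by rw [← hj]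
      exact (Nat.prime_dvd_prime_iff_eq hq Nat.prime_two).mp (hq.dvd_of_dvd_pow h2)
    subst hq2
    have ha'1 : a' ≠ 1 := by
      have := hab' 0
      rwa [pow_zero, mul_one] at this
    have hab : a' ≠ b' := by
      intro h
      have := hab' 1
      rw [pow_one, ← h, ← pow_two] at this
      exact this ha'
    by_cases h : (a' : G) = z
    · refine ⟨b', b'.2, ?_, ?_, ?_⟩
      · have := congrArg Subtype.val hb'; simpa using this
      · intro h1; exact hb'1 (Subtype.ext h1)
      · intro h1; exact hab (Subtype.ext (h.trans h1.symm))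
    · refine ⟨a', a'.2, ?_, ?_, h⟩
      · have := congrArg Subtype.val ha'; simpa using this
      · intro h1; exact ha'1 (Subtype.ext h1)
  have hcomm : ∀ u ∈ U, ∀ w ∈ U, u * w = w * u := fun u hu w hw =>
    congrArg Subtype.val (mul_comm (⟨u, hu⟩ : U) ⟨w, hw⟩)
  haveI hZn : (Subgroup.zpowers z).Normal := by
    constructor
    intro y hy g
    obtain ⟨i, rfl⟩ := Subgroup.mem_zpowers_iff.mp hy
    rw [((hzc g).zpow_right i).eq, mul_inv_cancel_right]
    exact Subgroup.zpow_mem_zpowers _ _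
  have hzpow : ∀ i : ℤ, z ^ i = 1 ∨ z ^ i = z := by
    intro i
    have hz2' : z ^ (2 : ℤ) = 1 := by rw [zpow_ofNat]; exact hz2
    rcases Int.even_or_odd' i with ⟨r, rfl | rfl⟩
    · left; rw [zpow_mul, hz2', one_zpow]
    · right; rw [zpow_add, zpow_mul, hz2', one_zpow, one_mul, zpow_one]
  have hapow : ∀ i : ℤ, a ^ i = 1 ∨ a ^ i = a := by
    intro i
    have ha2' : a ^ (2 : ℤ) = 1 := by rw [zpow_ofNat]; exact ha2
    rcases Int.even_or_odd' i with ⟨r, rfl | rfl⟩
    · left; rw [zpow_mul, ha2', one_zpow]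
    · right; rw [zpow_add, zpow_mul, ha2', one_zpow, one_mul, zpow_one]
  have hBmem : ∀ y ∈ Subgroup.zpowers z ⊔ Subgroup.zpowers a,
      y = 1 ∨ y = z ∨ y = a ∨ y = z * a := by
    intro y hy
    have hy' : y ∈ ((Subgroup.zpowers z ⊔ Subgroup.zpowers a : Subgroup G) : Set G) := hy
    rw [Subgroup.normal_mul] at hy'
    obtain ⟨u, hu, w, hw, rfl⟩ := Set.mem_mul.mp hy'
    obtain ⟨i, rfl⟩ := Subgroup.mem_zpowers_iff.mp hu
    obtain ⟨j, rfl⟩ := Subgroup.mem_zpowers_iff.mp hw
    rcases hzpow i with h1 | h1 <;> rcases hapow j with h2 | h2 <;> rw [h1, h2] <;> simp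
  have hBU : Subgroup.zpowers z ⊔ Subgroup.zpowers a ≤ U :=
    sup_le (Subgroup.zpowers_le.mpr hzU) (Subgroup.zpowers_le.mpr haU)
  have hBnc : ¬ IsCyclic ↥(Subgroup.zpowers z ⊔ Subgroup.zpowers a) := by
    intro hcyc
    obtain ⟨g, hg⟩ := exists_generator_of_isCyclic _ hcyc
    obtain ⟨k', hk'⟩ := IsPGroup.iff_orderOf.mp hP g
    have haB : a ∈ Subgroup.zpowers g := by
      rw [← hg]; exact Subgroup.mem_sup_right (Subgroup.mem_zpowers a)
    have hzB : z ∈ Subgroup.zpowers g := by
      rw [← hg]; exact Subgroup.mem_sup_left (Subgroup.mem_zpowers z)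
    have hk'1 : 1 ≤ k' := by
      rcases Nat.eq_zero_or_pos k' with rfl | h
      · rw [pow_zero, orderOf_eq_one_iff] at hk'
        subst hk'
        rw [Subgroup.zpowers_one_eq_bot, Subgroup.mem_bot] at haB
        exact absurd haB ha1
      · exact h
    rcases eq_one_or_eq_pow_of_sq_eq_one hk' hk'1 haB ha2 with h1 | h1
    · exact ha1 h1
    · rcases eq_one_or_eq_pow_of_sq_eq_one hk' hk'1 hzB hz2 with h2 | h2
      · exact hz1 h2
      · exact haz (h1.trans h2.symm)
  have hCB := hS _ hBnc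
  have hUB : U ≤ Subgroup.zpowers z ⊔ Subgroup.zpowers a := by
    intro u hu
    apply hCB
    rw [Subgroup.mem_centralizer_iff]
    intro y hy
    exact hcomm y (hBU hy) u hu
  have hCa : Subgroup.centralizer ({a} : Set G) ≤ Subgroup.zpowers z ⊔ Subgroup.zpowers a := by
    intro g hg
    rw [Ctx.mem_centralizer_singleton_iff] at hg
    apply hCB
    rw [Subgroup.mem_centralizer_iff]
    intro y hy
    rcases hBmem y hy with rfl | rfl | rfl | rfl
    · simp
    · exact (hzc g).eq.symm
    · exact hg.eq.symm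
    · exact ((hzc g).mul_right hg).eq.symm
  have hBcard : Nat.card ↥(Subgroup.zpowers z ⊔ Subgroup.zpowers a) ≤ 4 := by
    have h3 := Subgroup.relIndex_mul_relIndex (H := ⊥) (K := Subgroup.zpowers z)
      (L := Subgroup.zpowers z ⊔ Subgroup.zpowers a) bot_le le_sup_left
    rw [Subgroup.relIndex_bot_left, Subgroup.relIndex_bot_left, Subgroup.relIndex_sup_left] at h3
    have h4 : Nat.card (Subgroup.zpowers z) = 2 := by
      rw [Nat.card_zpowers]; exact orderOf_eq_prime hz2 hz1
    have h5 : (Subgroup.zpowers z).relIndex (Subgroup.zpowers a) ≤ 2 := by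
      apply Nat.le_of_dvd (by norm_num)
      have h6 : Nat.card (Subgroup.zpowers a) = 2 := by
        rw [Nat.card_zpowers]; exact orderOf_eq_prime ha2 ha1
      rw [← h6]; exact Subgroup.relIndex_dvd_card _ _
    rw [← h3, h4]; omega
  have hconj : ∀ g : G, g * a * g⁻¹ = a ∨ g * a * g⁻¹ = z * a := by
    intro g
    have h1 : g * a * g⁻¹ ∈ U := ‹U.Normal›.conj_mem a haU g
    rcases hBmem _ (hUB h1) with h2 | h2 | h2 | h2
    · exfalso; apply ha1
      have : a = g⁻¹ * (g * a * g⁻¹) * g := by group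
      rw [this, h2]; group
    · exfalso; apply haz
      have : a = g⁻¹ * (g * a * g⁻¹) * g := by group
      rw [this, h2, mul_assoc, ← (hzc g).eq, inv_mul_cancel_left]
    · exact Or.inl h2
    · exact Or.inr h2
  have hidx : (Subgroup.centralizer ({a} : Set G)).index ≤ 2 := by
    by_cases htop : Subgroup.centralizer ({a} : Set G) = ⊤
    · rw [htop, Subgroup.index_top]; norm_num
    · obtain ⟨g₀, hg₀⟩ : ∃ g₀, g₀ ∉ Subgroup.centralizer ({a} : Set G) := by
        by_contra hall
        apply htop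
        rw [eq_top_iff]; intro g _
        by_contra hg; exact hall ⟨g, hg⟩
      have hmem : ∀ g : G, g ∈ Subgroup.centralizer ({a} : Set G) ↔ g * a * g⁻¹ = a := by
        intro g
        rw [Ctx.mem_centralizer_singleton_iff]
        exact ⟨fun h => mul_inv_eq_iff_eq_mul.mpr h.eq, fun h => mul_inv_eq_iff_eq_mul.mp h⟩
      have hg₀' : g₀ * a * g₀⁻¹ = z * a := by
        rcases hconj g₀ with h | h
        · exact absurd ((hmem g₀).mpr h) hg₀
        · exact h
      apply le_of_eq
      rw [Subgroup.index_eq_two_iff]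
      refine ⟨g₀, fun b => ?_⟩
      by_cases hb : b ∈ Subgroup.centralizer ({a} : Set G)
      · refine Or.inr ⟨hb, fun hba => hg₀ ?_⟩
        have := Subgroup.mul_mem _ (Subgroup.inv_mem _ hb) hba
        rwa [inv_mul_cancel_left] at this
      · refine Or.inl ⟨?_, hb⟩
        have hb' : b * a * b⁻¹ = z * a := by
          rcases hconj b with h | h
          · exact absurd ((hmem b).mpr h) hb
          · exact h
        rw [hmem]
        have hzz : z * z = 1 := by rw [← pow_two]; exact hz2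
        calc b * g₀ * a * (b * g₀)⁻¹ = b * (g₀ * a * g₀⁻¹) * b⁻¹ := by group
          _ = b * (z * a) * b⁻¹ := by rw [hg₀']
          _ = (b * z * b⁻¹) * (b * a * b⁻¹) := by group
          _ = z * (z * a) := by rw [hb', (hzc b).eq, mul_inv_cancel_right]
          _ = a := by rw [← mul_assoc, hzz, one_mul]
  have h1 := Subgroup.card_mul_index (Subgroup.centralizer ({a} : Set G))
  have h2 := (Subgroup.card_le_of_le hCa).trans hBcard
  rw [← h1]
  calc Nat.card ↥(Subgroup.centralizer ({a} : Set G)) * (Subgroup.centralizer ({a} : Set G)).index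
      ≤ 4 * 2 := Nat.mul_le_mul h2 hidx
    _ = 8 := by norm_num


open scoped commutatorElement in
/-- A nonabelian `2`-group of order `2 ^ n` in which every noncyclic subgroup contains its
centralizer has nilpotency class at least `n - 1`. -/
theorem lcs_ne_bot_of_selfCent {G : Type*} [Group G] [Finite G] (hna : ¬ IsMulCommutative G)
    (n : ℕ) (hG : Nat.card G = 2 ^ n)
    (hS : ∀ H : Subgroup G, ¬ IsCyclic ↥H → Subgroup.centralizer (H : Set G) ≤ H) :
    (⊤ : Subgroup G).lowerCentralSeries (n - 2) ≠ ⊥ := by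
  classical
  have hP : IsPGroup 2 G := IsPGroup.of_card hG
  have hcomm : (⊤ : Subgroup G).lowerCentralSeries 1 ≠ ⊥ := by
    intro h
    apply hna
    rw [Subgroup.lowerCentralSeries_succ, Subgroup.lowerCentralSeries_zero,
      Subgroup.commutator_eq_bot_iff_le_centralizer] at h
    refine ⟨⟨fun a b => ?_⟩⟩
    have := h (Subgroup.mem_top a)
    rw [Subgroup.mem_centralizer_iff] at this
    exact (this b (Subgroup.mem_top b)).symm
  obtain ⟨U, hUmax⟩ := (Set.toFinite {B : Subgroup G | B.Normal ∧ IsMulCommutative B}).exists_maximal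
    ⟨⊥, inferInstance, inferInstance⟩
  haveI hUn : U.Normal := hUmax.prop.1
  have hUab : IsMulCommutative U := hUmax.prop.2
  have hCU : Subgroup.centralizer (U : Set G) = U :=
    Cfsg.Agent.Lib.Helper1.centralizer_eq_of_max_normal_abelian hP U hUab
      (fun B hBn hBc hle => le_antisymm (hUmax.le_of_ge ⟨hBn, hBc⟩ hle) hle)
  by_cases hUcyc : IsCyclic U
  · obtain ⟨x, rfl⟩ := exists_generator_of_isCyclic U hUcyc
    obtain ⟨m, hm⟩ := IsPGroup.iff_card.mp (hP.to_subgroup (Subgroup.zpowers x))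
    obtain ⟨hctx, hne⟩ := ctx_of_selfCent hP hna x m hm hCU
    have hm2 := hctx.two_le
    have hH : m = 2 ∨ ∀ g, Commute g (x ^ 2) → g ∈ Subgroup.zpowers x := by
      by_contra hcon
      rw [not_or] at hcon
      obtain ⟨hmne, hM⟩ := hcon
      rw [not_forall] at hM
      obtain ⟨a, ha⟩ := hM
      rw [Classical.not_imp] at ha
      obtain ⟨haM, haU⟩ := ha
      have hm3 : 3 ≤ m := by omega
      obtain ⟨-, ⟨-, hEexp⟩, hEcard, -⟩ := hctx.caseB (Or.inr hm3) a haM haU
      have hEnc : ¬ IsCyclic ↥(Cfsg.omegaOne 2 (Subgroup.centralizer {x ^ 2})) := by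
        intro hcyc
        obtain ⟨g, hg⟩ := exists_generator_of_isCyclic _ hcyc
        have h1 : Nat.card ↥(Cfsg.omegaOne 2 (Subgroup.centralizer {x ^ 2})) = orderOf g := by
          rw [hg, Nat.card_zpowers]
        have hgE : g ∈ Cfsg.omegaOne 2 (Subgroup.centralizer {x ^ 2}) := by
          rw [hg]; exact Subgroup.mem_zpowers g
        have h2 := orderOf_le_of_pow_eq_one (by norm_num) (hEexp g hgE)
        rw [hEcard] at h1; omega
      have hEM : Cfsg.omegaOne 2 (Subgroup.centralizer {x ^ 2}) ≤ Subgroup.centralizer {x ^ 2} := by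
        unfold Cfsg.omegaOne
        rw [Subgroup.closure_le]
        intro s hs; exact hs.1
      have hx2E : x ^ 2 ∈ Cfsg.omegaOne 2 (Subgroup.centralizer {x ^ 2}) := by
        apply hS _ hEnc
        rw [Subgroup.mem_centralizer_iff]
        intro e he
        have := hEM he
        rw [Ctx.mem_centralizer_singleton_iff] at this
        exact this.eq
      have h4 := hEexp _ hx2E
      rw [← pow_mul] at h4
      have h5 := orderOf_dvd_of_pow_eq_one h4
      rw [hctx.ord] at h5
      have h6 : 2 ^ m ≤ 2 * 2 := Nat.le_of_dvd (by norm_num) h5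
      have h7 : 2 ^ 3 ≤ 2 ^ m := Nat.pow_le_pow_right (by norm_num) hm3
      omega
    have hidx := hctx.caseA_index hne hH
    have hcard : Nat.card G = 2 ^ (m + 1) := by
      rw [← Subgroup.card_mul_index (Subgroup.zpowers x), hidx, Nat.card_zpowers, hctx.ord, pow_succ]
    have hnm : n = m + 1 := Nat.pow_right_injective (le_refl 2) (hG.symm.trans hcard)
    obtain ⟨g, hgU⟩ := hne
    obtain ⟨w, hw1, hwc, hw2, hwpow⟩ : ∃ w : G, g * x * g⁻¹ = x⁻¹ * w ∧ (∀ y : G, Commute w y) ∧
        w * w = 1 ∧ w ^ (2 ^ (m - 2)) = 1 := by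
      rcases hctx.caseA_step2 hH g hgU with h1 | ⟨hm3, h1⟩
      · exact ⟨1, by rw [mul_one]; exact h1, fun y => Commute.one_left y, one_mul 1, one_pow _⟩
      · refine ⟨x ^ (2 ^ (m - 1)), h1, fun y => (hctx.z_central y).symm, ?_, ?_⟩
        · rw [← pow_two]; exact hctx.z_pow
        · have : 2 ^ (m - 2) = 2 * 2 ^ (m - 3) := by
            rw [← pow_succ']; congr 1; omega
          rw [this, pow_mul, hctx.z_pow, one_pow]
    have hwinv : w⁻¹ = w := inv_eq_of_mul_eq_one_right hw2
    have hv : ⁅x, g⁆ = x * x * w := by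
      rw [commutatorElement_def]
      have h1 : g * x⁻¹ * g⁻¹ = (g * x * g⁻¹)⁻¹ := by group
      calc x * g * x⁻¹ * g⁻¹ = x * (g * x⁻¹ * g⁻¹) := by group
        _ = x * (x⁻¹ * w)⁻¹ := by rw [h1, hw1]
        _ = x * (w * x) := by rw [mul_inv_rev, inv_inv, hwinv]
        _ = x * x * w := by rw [(hwc x).eq, mul_assoc]
    have hgv : g * (x * x * w) * g⁻¹ = (x * x * w)⁻¹ := by
      have hgw : g * w * g⁻¹ = w := by rw [← (hwc g).eq, mul_inv_cancel_right]
      calc g * (x * x * w) * g⁻¹ = (g * x * g⁻¹) * (g * x * g⁻¹) * (g * w * g⁻¹) := by group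
        _ = (x⁻¹ * w) * (x⁻¹ * w) * w := by rw [hw1, hgw]
        _ = x⁻¹ * (w * x⁻¹) * (w * w) := by group
        _ = x⁻¹ * (x⁻¹ * w) * 1 := by rw [(hwc x⁻¹).eq, hw2]
        _ = (x * x * w)⁻¹ := by
          rw [mul_one, mul_inv_rev, mul_inv_rev, hwinv, (hwc (x⁻¹ * x⁻¹)).eq, mul_assoc]
    have hclaim : ∀ j : ℕ, (x * x * w) ^ (2 ^ j) ∈ (⊤ : Subgroup G).lowerCentralSeries (j + 1) := by
      intro j
      induction j with
      | zero =>
        rw [pow_zero, pow_one, ← hv, Subgroup.lowerCentralSeries_succ,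
          Subgroup.lowerCentralSeries_zero]
        exact Subgroup.commutator_mem_commutator (Subgroup.mem_top x) (Subgroup.mem_top g)
      | succ j ih =>
        rw [Subgroup.lowerCentralSeries_succ]
        have h1 := Subgroup.commutator_mem_commutator ih (Subgroup.mem_top g)
        have h2 : ⁅(x * x * w) ^ (2 ^ j), g⁆ = (x * x * w) ^ (2 ^ (j + 1)) := by
          rw [commutatorElement_def]
          have h3a : g * (x * x * w)⁻¹ * g⁻¹ = x * x * w := by
            have : g * (x * x * w)⁻¹ * g⁻¹ = (g * (x * x * w) * g⁻¹)⁻¹ := by group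
            rw [this, hgv, inv_inv]
          have h3 : g * ((x * x * w) ^ (2 ^ j))⁻¹ * g⁻¹ = (x * x * w) ^ (2 ^ j) := by
            rw [← inv_pow, ← conj_pow, h3a]
          calc (x * x * w) ^ (2 ^ j) * g * ((x * x * w) ^ (2 ^ j))⁻¹ * g⁻¹
              = (x * x * w) ^ (2 ^ j) * (g * ((x * x * w) ^ (2 ^ j))⁻¹ * g⁻¹) := by group
            _ = (x * x * w) ^ (2 ^ j) * (x * x * w) ^ (2 ^ j) := by rw [h3]
            _ = (x * x * w) ^ (2 ^ (j + 1)) := by rw [← pow_add, ← two_mul, ← pow_succ']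
        rw [← h2]; exact h1
    have hfinal : (x * x * w) ^ (2 ^ (m - 2)) = x ^ (2 ^ (m - 1)) := by
      rw [((hwc (x * x)).symm).mul_pow, hwpow, mul_one, ← pow_two, ← pow_mul, ← pow_succ']
      congr 2; omega
    intro hbot
    have h1 := hclaim (m - 2)
    have h2 : m - 2 + 1 = n - 2 := by omega
    rw [h2, hbot, Subgroup.mem_bot, hfinal] at h1
    exact hctx.z_ne_one h1
  · have h8 := card_le_eight_of_normal_noncyclic hP hS U hUab hUcyc
    rw [hG] at h8
    have hn3 : n ≤ 3 := by
      by_contra hlt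
      have : 2 ^ 4 ≤ 2 ^ n := Nat.pow_le_pow_right (by norm_num) (by omega)
      omega
    intro hbot
    apply hcomm
    rw [eq_bot_iff, ← hbot]
    exact Subgroup.lowerCentralSeries_antitone _ (by omega)

end Cfsg.Agent.Lib.Helper20.MCS
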