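/-
helper20: leaves of S2140 (helper27), common part: diagonal elements of `SL ι F`,
their action on vectors / functionals, and fixed points of elements of prime power order.
-/
import Cfsg.Agent.Lib.Helper27.MinDegB

set_option autoImplicit false

namespace Cfsg.Agent.Lib.Helper20.MinDegLeaf

open Matrix Cfsg.Agent.Lib.Helper27.MinDeg

variable {ι : Type*} [Fintype ι] [DecidableEq ι] {F : Type*} [Field F]

/-- a diagonal matrix of determinant one as an element of `SL`. -/
def diagSL (d : ι → F) (hd : ∏ i, d i = 1) : Matrix.SpecialLinearGroup ι F :=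
  ⟨Matrix.diagonal d, by rw [Matrix.det_diagonal, hd]⟩

theorem diagSL_coe (d : ι → F) (hd : ∏ i, d i = 1) :
    ((diagSL d hd : Matrix.SpecialLinearGroup ι F) : Matrix ι ι F) = Matrix.diagonal d := rfl

theorem diagSL_mulVec (d : ι → F) (hd : ∏ i, d i = 1) (v : ι → F) :
    ((diagSL d hd : Matrix.SpecialLinearGroup ι F) : Matrix ι ι F) *ᵥ v = fun i => d i * v i := by
  funext i
  rw [diagSL_coe, Matrix.mulVec_diagonal]

theorem single_vecMul_diagSL (d : ι → F) (hd : ∏ i, d i = 1) (i : ι) :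
    (Pi.single i (1 : F) : ι → F) ᵥ* ((diagSL d hd : Matrix.SpecialLinearGroup ι F) : Matrix ι ι F) =
      d i • (Pi.single i (1 : F) : ι → F) := by
  funext j
  rw [diagSL_coe, Matrix.vecMul_diagonal, Pi.smul_apply, smul_eq_mul]
  by_cases h : j = i
  · subst h
    rw [Pi.single_eq_same, one_mul, mul_one]
  · rw [Pi.single_eq_of_ne h, zero_mul, mul_zero]

theorem diagSL_pow (d : ι → F) (hd : ∏ i, d i = 1) (k : ℕ) (hk : ∀ i, d i ^ k = 1) :
    (diagSL d hd) ^ k = 1 := by
  apply sl_ext
  rw [Matrix.SpecialLinearGroup.coe_pow, diagSL_coe, Matrix.diagonal_pow,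
    Matrix.SpecialLinearGroup.coe_one]
  have : (d ^ k : ι → F) = fun _ => 1 := by
    funext i
    rw [Pi.pow_apply, hk i]
  rw [this]
  exact Matrix.diagonal_one

theorem single_dot (i : ι) (v : ι → F) : (Pi.single i (1 : F) : ι → F) ⬝ᵥ v = v i := by
  rw [single_dotProduct, one_mul]

theorem single_ne_zero (i : ι) : (Pi.single i (1 : F) : ι → F) ≠ 0 := by
  intro h
  have := congrFun h i
  rw [Pi.single_eq_same, Pi.zero_apply] at this
  exact one_ne_zero this

/-- an element of prime power order `r^k` has a fixed point on a finite set of size prime to `r`. -/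
theorem exists_fixed_of_pow {G : Type*} [Group G] {Ω : Type*} [MulAction G Ω] [Finite Ω]
    (g : G) (r k : ℕ) [hr : Fact r.Prime] (hg : g ^ (r ^ k) = 1) (hΩ : ¬ r ∣ Nat.card Ω) :
    ∃ ω : Ω, g • ω = ω := by
  have hP : IsPGroup r (Subgroup.zpowers g) := by
    rintro ⟨x, hx⟩
    obtain ⟨z, rfl⟩ := Subgroup.mem_zpowers_iff.1 hx
    refine ⟨k, ?_⟩
    apply Subtype.ext
    rw [Subgroup.coe_pow, Subgroup.coe_one]
    show (g ^ z) ^ (r ^ k) = 1
    rw [← zpow_natCast, ← _root_.zpow_mul, mul_comm, _root_.zpow_mul, zpow_natCast, hg, _root_.one_zpow]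
  have h := hP.card_modEq_card_fixedPoints Ω
  have hne : Nat.card (MulAction.fixedPoints (Subgroup.zpowers g) Ω) ≠ 0 := by
    intro h0
    rw [h0] at h
    exact hΩ ((Nat.modEq_zero_iff_dvd).1 h)
  have : Nonempty (MulAction.fixedPoints (Subgroup.zpowers g) Ω) := by
    by_contra hemp
    rw [not_nonempty_iff] at hemp
    exact hne (Nat.card_of_isEmpty)
  obtain ⟨⟨ω, hω⟩⟩ := this
  refine ⟨ω, ?_⟩
  have := hω ⟨g, Subgroup.mem_zpowers g⟩
  exact this

end Cfsg.Agent.Lib.Helper20.MinDegLeaf
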