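/-
helper20: leaf `R3odd` of S2140 (helper27): no `RHyp` action for `SL₃(q)`, `q` odd.
The diagonal involution `diag(-1,-1,1)` has a fixed point (odd degree) but its two
eigen-functionals have strictly nested eigen-sets.
-/
import Cfsg.Agent.Lib.Helper20.MinDegDiag

set_option autoImplicit false

namespace Cfsg.Agent.Lib.Helper20.MinDegLeaf

open Matrix Cfsg.Agent.Lib.Helper27.MinDeg

variable {ι : Type*} [Fintype ι] [DecidableEq ι] {F : Type*} [Field F] [Finite F]
  {Ω : Type*} [MulAction (Matrix.SpecialLinearGroup ι F) Ω] [Finite Ω]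

omit [Fintype ι] [DecidableEq ι] in
/-- if `2 ≠ 0` in a finite field then its cardinality is odd. -/
theorem not_two_dvd_card_of_two_ne_zero (h2 : (2 : F) ≠ 0) : ¬ 2 ∣ Nat.card F := by
  intro hdvd
  obtain ⟨p, hp⟩ := CharP.exists F
  haveI := hp
  haveI : Fintype F := Fintype.ofFinite F
  obtain ⟨n, hpr, hc⟩ := FiniteField.card F p
  rw [Nat.card_eq_fintype_card, hc] at hdvd
  have h2p : 2 ∣ p := Nat.prime_two.dvd_of_dvd_pow hdvd
  have : p = 2 := ((Nat.prime_dvd_prime_iff_eq Nat.prime_two hpr).1 h2p).symm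
  subst this
  apply h2
  have := CharP.cast_eq_zero F 2
  exact_mod_cast this

theorem R3odd (h : RHyp ι F Ω) (hn : Fintype.card ι = 3) (h2 : (2 : F) ≠ 0) : False := by
  obtain ⟨i0, i1, i2, h01, h02, h12⟩ :=
    Fintype.two_lt_card_iff.1 (by omega : 2 < Fintype.card ι)
  have hneg : (-1 : F) ≠ 1 := by
    intro e
    apply h2
    have : (2 : F) = 1 + 1 := by norm_num
    rw [this]
    nth_rewrite 1 [← e]
    exact neg_add_cancel 1
  -- the diagonal element
  set d : ι → F := fun i => if i = i2 then (1 : F) else -1 with hd_def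
  have hd2 : d i2 = 1 := if_pos rfl
  have hdne : ∀ i, i ≠ i2 → d i = -1 := fun i hi => if_neg hi
  have hd : ∏ i, d i = 1 := by
    rw [← Finset.mul_prod_erase Finset.univ d (Finset.mem_univ i2), hd2, one_mul]
    rw [Finset.prod_congr rfl (fun i hi => hdne i (Finset.ne_of_mem_erase hi)),
      Finset.prod_const, Finset.card_erase_of_mem (Finset.mem_univ i2), Finset.card_univ, hn]
    norm_num
  set g : Matrix.SpecialLinearGroup ι F := diagSL d hd with hg_def
  have hg : g ^ (2 ^ 1) = 1 := by
    apply diagSL_pow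
    intro i
    by_cases hi : i = i2
    · rw [hi, hd2, one_pow]
    · rw [hdne i hi]; norm_num
  -- a fixed point, since the degree is odd
  have hΩ : ¬ 2 ∣ Nat.card Ω := by
    rw [h.card]
    intro hdvd
    exact not_two_dvd_card_of_two_ne_zero h2 (Nat.prime_two.dvd_of_dvd_pow hdvd)
  obtain ⟨ω, hω⟩ := exists_fixed_of_pow g 2 1 hg hΩ
  -- the eigen-functionals
  have h₁ : (Pi.single i2 (1 : F) : ι → F) ᵥ* (g : Matrix ι ι F) =
      (1 : F) • (Pi.single i2 (1 : F) : ι → F) := by
    rw [hg_def, single_vecMul_diagSL, hd2]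
  have h₂ : (Pi.single i0 (1 : F) : ι → F) ᵥ* (g : Matrix ι ι F) =
      (-1 : F) • (Pi.single i0 (1 : F) : ι → F) := by
    rw [hg_def, single_vecMul_diagSL, hdne i0 h02]
  refine h.no_fixed (single_ne_zero i2) (single_ne_zero i0) h₁ h₂ ?_
    (Pi.single i1 (1 : F)) ?_ ?_ ?_ ω hω
  · intro v hv1 hv2
    have hv0 : v = 0 := by
      funext i
      rw [Pi.zero_apply]
      by_cases hi : i = i2
      · rw [hi, ← single_dot i2 v, hv1]
      · have e := congrFun hv2 i
        rw [hg_def, diagSL_mulVec] at e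
        beta_reduce at e
        rw [hdne i hi, Pi.smul_apply, smul_eq_mul, one_mul, neg_one_mul] at e
        -- e : -v i = v i
        have e2 : (2 : F) * v i = 0 := by
          have : (2 : F) * v i = v i - (- v i) := by ring
          rw [this, e, sub_self]
        exact (mul_eq_zero.1 e2).resolve_left h2
    subst hv0
    exact ⟨dotProduct_zero _, by rw [mulVec_zero, smul_zero]⟩
  · rw [single_dot, Pi.single_eq_of_ne h01]
  · rw [hg_def, diagSL_mulVec]
    funext i
    by_cases hi : i = i1
    · rw [hi, hdne i1 h12, Pi.smul_apply, smul_eq_mul]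
    · rw [Pi.single_eq_of_ne hi, mul_zero, Pi.smul_apply, Pi.single_eq_of_ne hi, smul_zero]
  · rintro ⟨-, e⟩
    have e1 := congrFun e i1
    rw [hg_def, diagSL_mulVec] at e1
    beta_reduce at e1
    rw [hdne i1 h12, Pi.smul_apply, Pi.single_eq_same, smul_eq_mul, mul_one, mul_one] at e1
    exact hneg e1

end Cfsg.Agent.Lib.Helper20.MinDegLeaf
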