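/-
helper20: leaf `R4` of S2140 (helper27): no `RHyp` action for `SLₙ(q)`, `n ≥ 4`, `q ≥ 4`.
A diagonal element `diag(a, a⁻¹, 1, 1, …)` of prime power order `r^k` with `r ∣ q - 1`
(and `a ≠ 1`, `a² ≠ 1`) has a fixed point but two eigen-functionals with strictly nested
eigen-sets.
-/
import Cfsg.Agent.Lib.Helper20.MinDegDiag

set_option autoImplicit false

namespace Cfsg.Agent.Lib.Helper20.MinDegLeaf

open Matrix Cfsg.Agent.Lib.Helper27.MinDeg

variable {ι : Type*} [Fintype ι] [DecidableEq ι] {F : Type*} [Field F] [Finite F]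
  {Ω : Type*} [MulAction (Matrix.SpecialLinearGroup ι F) Ω] [Finite Ω]

omit [Fintype ι] [DecidableEq ι] in
/-- a nonzero scalar of prime power order `r^k`, `r ∣ q - 1`, which is neither `1` nor an
involution; exists as soon as `q ≥ 4`. -/
theorem exists_good_unit (hq : 4 ≤ Nat.card F) :
    ∃ (r k : ℕ) (a : F), r.Prime ∧ r ∣ Nat.card F - 1 ∧ a ≠ 0 ∧ a ^ (r ^ k) = 1 ∧ a ≠ 1 ∧
      a * a ≠ 1 := by
  have hcard : Nat.card Fˣ = Nat.card F - 1 := Nat.card_units F
  rcases Nat.eq_two_pow_or_exists_odd_prime_and_dvd (Nat.card F - 1) with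
    ⟨j, hj⟩ | ⟨r, hr, hdvd, hodd⟩
  · -- `q - 1 = 2 ^ j`, `j ≥ 2`
    have hj2 : 4 ≤ 2 ^ j := by
      rcases j with _ | _ | j
      · rw [pow_zero] at hj; omega
      · rw [pow_one] at hj; omega
      · rw [pow_succ, pow_succ]
        have : 1 ≤ 2 ^ j := Nat.one_le_two_pow
        omega
    obtain ⟨u, hu⟩ := IsCyclic.exists_generator (α := Fˣ)
    have ho : orderOf u = 2 ^ j := by
      rw [orderOf_eq_card_of_forall_mem_zpowers hu, hcard, hj]
    refine ⟨2, j, (u : F), Nat.prime_two, ?_, u.ne_zero, ?_, ?_, ?_⟩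
    · rw [hj]
      exact dvd_pow_self 2 (by rintro rfl; rw [pow_zero] at hj2; omega)
    · rw [← Units.val_pow_eq_pow_val, ← ho, pow_orderOf_eq_one, Units.val_one]
    · intro e
      have : u = 1 := Units.ext e
      rw [this, orderOf_one] at ho
      omega
    · intro e
      have : u ^ 2 = 1 := by
        apply Units.ext
        rw [Units.val_pow_eq_pow_val, Units.val_one, pow_two, e]
      have hdvd2 : orderOf u ∣ 2 := orderOf_dvd_of_pow_eq_one this
      rw [ho] at hdvd2
      have := Nat.le_of_dvd (by norm_num) hdvd2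
      omega
  · haveI : Fact r.Prime := ⟨hr⟩
    obtain ⟨u, hu⟩ := exists_prime_orderOf_dvd_card' (G := Fˣ) r (by rw [hcard]; exact hdvd)
    refine ⟨r, 1, (u : F), hr, hdvd, u.ne_zero, ?_, ?_, ?_⟩
    · rw [pow_one, ← Units.val_pow_eq_pow_val, ← hu, pow_orderOf_eq_one, Units.val_one]
    · intro e
      have : u = 1 := Units.ext e
      rw [this, orderOf_one] at hu
      exact hr.one_lt.ne hu
    · intro e
      have : u ^ 2 = 1 := by
        apply Units.ext
        rw [Units.val_pow_eq_pow_val, Units.val_one, pow_two, e]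
      have hdvd2 : orderOf u ∣ 2 := orderOf_dvd_of_pow_eq_one this
      rw [hu] at hdvd2
      have hr2 : r = 2 := (Nat.prime_dvd_prime_iff_eq hr Nat.prime_two).1 hdvd2
      rw [hr2] at hodd
      exact (by decide : ¬ Odd 2) hodd

theorem R4 (h : RHyp ι F Ω) (hn : 4 ≤ Fintype.card ι) (hq : 4 ≤ Nat.card F) : False := by
  obtain ⟨e⟩ := Function.Embedding.nonempty_of_card_le (α := Fin 4) (β := ι)
    (by rw [Fintype.card_fin]; exact hn)
  have hne : ∀ x y : Fin 4, x ≠ y → e x ≠ e y := fun x y hxy hh => hxy (e.injective hh)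
  have h01 : e 0 ≠ e 1 := hne 0 1 (by decide)
  have h20 : e 2 ≠ e 0 := hne 2 0 (by decide)
  have h21 : e 2 ≠ e 1 := hne 2 1 (by decide)
  have h30 : e 3 ≠ e 0 := hne 3 0 (by decide)
  have h31 : e 3 ≠ e 1 := hne 3 1 (by decide)
  have h23 : e 2 ≠ e 3 := hne 2 3 (by decide)
  obtain ⟨r, k, a, hr, hrq, ha0, hak, ha1, haa⟩ := exists_good_unit (F := F) hq
  -- the diagonal element
  set d : ι → F := fun i => if i = e 0 then a else if i = e 1 then a⁻¹ else 1 with hd_def
  have hd0 : d (e 0) = a := if_pos rfl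
  have hd1 : d (e 1) = a⁻¹ := by
    rw [hd_def]
    beta_reduce
    rw [if_neg h01.symm, if_pos rfl]
  have hdne : ∀ i, i ≠ e 0 → i ≠ e 1 → d i = 1 := by
    intro i hi0 hi1
    rw [hd_def]
    beta_reduce
    rw [if_neg hi0, if_neg hi1]
  have hd : ∏ i, d i = 1 := by
    rw [Finset.prod_eq_mul (e 0) (e 1) h01 (fun c _ hc => hdne c hc.1 hc.2)
      (fun hh => absurd (Finset.mem_univ _) hh) (fun hh => absurd (Finset.mem_univ _) hh),
      hd0, hd1, mul_inv_cancel₀ ha0]
  set g : Matrix.SpecialLinearGroup ι F := diagSL d hd with hg_def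
  have hg : g ^ (r ^ k) = 1 := by
    apply diagSL_pow
    intro i
    by_cases hi0 : i = e 0
    · rw [hi0, hd0, hak]
    · by_cases hi1 : i = e 1
      · rw [hi1, hd1, inv_pow, hak, inv_one]
      · rw [hdne i hi0 hi1, one_pow]
  -- a fixed point, since `r ∤ q ^ (n - 1)`
  have hΩ : ¬ r ∣ Nat.card Ω := by
    rw [h.card]
    intro hdvd
    have h1 : r ∣ Nat.card F := hr.dvd_of_dvd_pow hdvd
    have h2 : r ∣ Nat.card F - (Nat.card F - 1) := Nat.dvd_sub h1 hrq
    have h3 : Nat.card F - (Nat.card F - 1) = 1 := by omega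
    rw [h3] at h2
    exact hr.one_lt.ne' (Nat.dvd_one.1 h2)
  haveI : Fact r.Prime := ⟨hr⟩
  obtain ⟨ω, hω⟩ := exists_fixed_of_pow g r k hg hΩ
  -- the eigen-functionals
  have h₁ : (Pi.single (e 0) (1 : F) : ι → F) ᵥ* (g : Matrix ι ι F) =
      a • (Pi.single (e 0) (1 : F) : ι → F) := by
    rw [hg_def, single_vecMul_diagSL, hd0]
  have h₂ : (Pi.single (e 2) (1 : F) : ι → F) ᵥ* (g : Matrix ι ι F) =
      (1 : F) • (Pi.single (e 2) (1 : F) : ι → F) := by
    rw [hg_def, single_vecMul_diagSL, hdne (e 2) h20 h21]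
  refine h.no_fixed (single_ne_zero (e 0)) (single_ne_zero (e 2)) h₁ h₂ ?_
    (Pi.single (e 3) (1 : F)) ?_ ?_ ?_ ω hω
  · intro v hv1 hv2
    have hv0 : v = 0 := by
      funext i
      rw [Pi.zero_apply]
      have ei := congrFun hv2 i
      rw [hg_def, diagSL_mulVec] at ei
      beta_reduce at ei
      rw [Pi.smul_apply, smul_eq_mul] at ei
      by_cases hi0 : i = e 0
      · rw [hi0, ← single_dot (e 0) v, hv1]
      · by_cases hi1 : i = e 1
        · rw [hi1] at ei ⊢
          rw [hd1] at ei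
          -- ei : a⁻¹ * v (e 1) = a * v (e 1)
          have e2 : (a * a - 1) * v (e 1) = 0 := by
            have : (a * a - 1) * v (e 1) = a * (a * v (e 1)) - v (e 1) := by ring
            rw [this, ← ei, ← mul_assoc, mul_inv_cancel₀ ha0, one_mul, sub_self]
          exact (mul_eq_zero.1 e2).resolve_left (sub_ne_zero.2 haa)
        · rw [hdne i hi0 hi1, one_mul] at ei
          have e2 : (a - 1) * v i = 0 := by
            have : (a - 1) * v i = a * v i - v i := by ring
            rw [this, ← ei, sub_self]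
          exact (mul_eq_zero.1 e2).resolve_left (sub_ne_zero.2 ha1)
    subst hv0
    exact ⟨dotProduct_zero _, by rw [mulVec_zero, smul_zero]⟩
  · rw [single_dot, Pi.single_eq_of_ne h23]
  · rw [hg_def, diagSL_mulVec]
    funext i
    by_cases hi : i = e 3
    · rw [hi, hdne (e 3) h30 h31, Pi.smul_apply, smul_eq_mul]
    · rw [Pi.single_eq_of_ne hi, mul_zero, Pi.smul_apply, Pi.single_eq_of_ne hi, smul_zero]
  · rintro ⟨-, ee⟩
    have e1 := congrFun ee (e 3)
    rw [hg_def, diagSL_mulVec] at e1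
    beta_reduce at e1
    rw [hdne (e 3) h30 h31, Pi.smul_apply, Pi.single_eq_same, smul_eq_mul, mul_one,
      mul_one] at e1
    exact ha1 e1.symm

end Cfsg.Agent.Lib.Helper20.MinDegLeaf
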