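/-
helper20: leaf `exists_fixed_orbit` of S2140 (helper27): a `p`-group `R` normalizing `Qs` fixes a
`Qs`-orbit when the number of `Qs`-orbits is prime to `p`.
-/
import Mathlib

set_option autoImplicit false

namespace Cfsg.Agent.Lib.Helper20.MinDegLeaf

section

variable {G Ω : Type*} [Group G] [MulAction G Ω]

/-- the action of a subgroup `R` normalizing `Qs` on the space of `Qs`-orbits. -/
@[reducible] def orbitSpaceAction (Qs R : Subgroup G)
    (hn : ∀ r ∈ R, ∀ q ∈ Qs, r * q * r⁻¹ ∈ Qs) :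
    MulAction R (MulAction.orbitRel.Quotient Qs Ω) where
  smul r := Quotient.map' (fun ω => (r : G) • ω) (by
    intro a b hab
    rw [MulAction.orbitRel_apply] at hab ⊢
    obtain ⟨⟨q, hq⟩, rfl⟩ := hab
    refine ⟨⟨(r : G) * q * (r : G)⁻¹, hn r r.2 q hq⟩, ?_⟩
    show ((r : G) * q * (r : G)⁻¹) • ((r : G) • b) = (r : G) • (q • b)
    rw [← mul_smul, inv_mul_cancel_right, mul_smul])
  one_smul := by
    intro y
    induction y using Quotient.inductionOn' with
    | h ω =>
      show Quotient.mk'' (((1 : R) : G) • ω) = Quotient.mk'' ω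
      rw [Subgroup.coe_one, one_smul]
  mul_smul := by
    intro r s y
    induction y using Quotient.inductionOn' with
    | h ω =>
      show Quotient.mk'' (((r * s : R) : G) • ω) = Quotient.mk'' ((r : G) • ((s : G) • ω))
      rw [Subgroup.coe_mul, mul_smul]

end

theorem exists_fixed_orbit {G Ω : Type*} [Group G] [MulAction G Ω] [Finite Ω] (p : ℕ)
    [Fact p.Prime] (Qs R : Subgroup G)
    (hn : ∀ r ∈ R, ∀ q ∈ Qs, r * q * r⁻¹ ∈ Qs) (hR : IsPGroup p R)
    (hc : ¬ p ∣ Nat.card (MulAction.orbitRel.Quotient Qs Ω)) :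
    ∃ ω : Ω, ∀ r ∈ R, ∃ q ∈ Qs, r • ω = q • ω := by
  letI inst : MulAction R (MulAction.orbitRel.Quotient Qs Ω) := orbitSpaceAction Qs R hn
  have hsm : ∀ (r : R) (ω : Ω),
      r • (Quotient.mk'' ω : MulAction.orbitRel.Quotient Qs Ω) = Quotient.mk'' ((r : G) • ω) :=
    fun _ _ => rfl
  have h := hR.card_modEq_card_fixedPoints (MulAction.orbitRel.Quotient Qs Ω)
  have hne : Nat.card (MulAction.fixedPoints R (MulAction.orbitRel.Quotient Qs Ω)) ≠ 0 := by
    intro h0
    rw [h0] at h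
    exact hc ((Nat.modEq_zero_iff_dvd).1 h)
  have hnonempty : Nonempty (MulAction.fixedPoints R (MulAction.orbitRel.Quotient Qs Ω)) := by
    by_contra hemp
    rw [not_nonempty_iff] at hemp
    exact hne Nat.card_of_isEmpty
  obtain ⟨⟨y, hy⟩⟩ := hnonempty
  induction y using Quotient.inductionOn' with
  | h ω =>
    refine ⟨ω, fun r hr => ?_⟩
    have e := hy ⟨r, hr⟩
    rw [hsm] at e
    have e2 : MulAction.orbitRel Qs Ω (r • ω) ω := Quotient.exact' e
    rw [MulAction.orbitRel_apply] at e2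
    obtain ⟨⟨q, hq⟩, hq2⟩ := e2
    exact ⟨q, hq, hq2.symm⟩

end Cfsg.Agent.Lib.Helper20.MinDegLeaf
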