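/-
helper20: leaf `final_of_action` of S2140 (helper27): from a lower bound for the degree of any
non-trivial transitive action of `SLₙ(F)` to the statement on subgroups of `PSLₙ(F)`.
-/
import Mathlib

set_option autoImplicit false

namespace Cfsg.Agent.Lib.Helper20.MinDegLeaf

open scoped LinearAlgebra.Projectivization

universe u

theorem card_proj_fin {F : Type u} [Field F] [Fintype F] {q : ℕ} (hF : Fintype.card F = q)
    (n : ℕ) : Nat.card (ℙ F (Fin n → F)) = (q ^ n - 1) / (q - 1) := by
  rw [Projectivization.card'', Nat.card_fun, Nat.card_eq_fintype_card (α := F), hF,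
    Nat.card_eq_fintype_card (α := Fin n), Fintype.card_fin]

theorem final_of_action {F : Type u} [Field F] [Fintype F] {q : ℕ} (hF : Fintype.card F = q)
    (n : ℕ) (hn : 3 ≤ n)
    (hmain : ∀ (Ω : Type u) [MulAction (Matrix.SpecialLinearGroup (Fin n) F) Ω]
      [MulAction.IsPretransitive (Matrix.SpecialLinearGroup (Fin n) F) Ω] [Finite Ω],
      1 < Nat.card Ω → Nat.card (ℙ F (Fin n → F)) ≤ Nat.card Ω) :
    (∀ H : Subgroup (Matrix.ProjectiveSpecialLinearGroup (Fin n) F), H ≠ ⊤ →
      (q ^ n - 1) / (q - 1) ≤ H.index) ∧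
    (∃ H : Subgroup (Matrix.ProjectiveSpecialLinearGroup (Fin n) F),
      H.index = (q ^ n - 1) / (q - 1)) := by
  have hcardP := card_proj_fin hF n
  refine ⟨?_, ?_⟩
  · intro H hH
    rw [← hcardP]
    letI inst1 : MulAction (Matrix.SpecialLinearGroup (Fin n) F)
        (Matrix.ProjectiveSpecialLinearGroup (Fin n) F ⧸ H) :=
      MulAction.compHom _
        (QuotientGroup.mk' (Subgroup.center (Matrix.SpecialLinearGroup (Fin n) F)))
    haveI inst2 : MulAction.IsPretransitive (Matrix.SpecialLinearGroup (Fin n) F)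
        (Matrix.ProjectiveSpecialLinearGroup (Fin n) F ⧸ H) :=
      MulAction.isPretransitive_compHom
        (f := QuotientGroup.mk' (Subgroup.center (Matrix.SpecialLinearGroup (Fin n) F)))
        (QuotientGroup.mk'_surjective _)
    have h1 : 1 < Nat.card (Matrix.ProjectiveSpecialLinearGroup (Fin n) F ⧸ H) := by
      have h0 : H.index ≠ 0 := Subgroup.index_ne_zero_of_finite
      have h1 : H.index ≠ 1 := fun e => hH (Subgroup.index_eq_one.1 e)
      show 1 < H.index
      omega
    exact hmain (Matrix.ProjectiveSpecialLinearGroup (Fin n) F ⧸ H) h1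
  · have hv : (Pi.single (⟨0, by omega⟩ : Fin n) (1 : F) : Fin n → F) ≠ 0 := by
      intro e
      have := congrFun e ⟨0, by omega⟩
      rw [Pi.single_eq_same, Pi.zero_apply] at this
      exact one_ne_zero this
    refine ⟨MulAction.stabilizer (Matrix.ProjectiveSpecialLinearGroup (Fin n) F)
      (Projectivization.mk F _ hv), ?_⟩
    rw [MulAction.index_stabilizer, MulAction.orbit_eq_univ, Set.ncard_univ, hcardP]

end Cfsg.Agent.Lib.Helper20.MinDegLeaf
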