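import Mathlib
import Cfsg.Prelude.Def_Transfer
import Cfsg.Agent.Lib.Helper20.MaxClassSelfCent
import Cfsg.Agent.Lib.Helper29.MinNonPNilpotent
import Cfsg.Agent.Lib.Helper29.Wielandt
import Cfsg.Agent.Lib.Helper18.FrobComp

/-!
Helper lemmas (helper20): finite groups whose Sylow `2`-subgroup is the modular group
`M_{2^(n+1)} = ⟨a, b | a^(2^n) = b^2 = 1, b a b⁻¹ = a^(1 + 2^(n-1))⟩`, `n ≥ 3`, have a normal
`2`-complement (statement S3178), via Frobenius' criterion (`Helper29.frobCond_of_sylow`).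
-/

set_option autoImplicit false

namespace Cfsg.Agent.Lib.Helper20.ModS

open Cfsg.Agent.Lib.Helper20.CSC Cfsg.Agent.Lib.Helper20.MCS

/-- The modular `2`-group context inside an ambient group `G`. -/
structure ModCtx {G : Type*} [Group G] (S : Subgroup G) (a b : G) (n : ℕ) : Prop where
  three_le : 3 ≤ n
  card : Nat.card S = 2 ^ (n + 1)
  ha : a ∈ S
  hb : b ∈ S
  orda : orderOf a = 2 ^ n
  ordb : orderOf b = 2
  rel : b * a * b⁻¹ = a ^ (2 ^ (n - 1) + 1)

namespace ModCtx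

variable {G : Type*} [Group G] {S : Subgroup G} {a b : G} {n : ℕ}

theorem z_pow_two (h : ModCtx S a b n) : (a ^ (2 ^ (n - 1))) ^ 2 = 1 := by
  rw [← pow_mul, ← pow_succ]
  have : n - 1 + 1 = n := by have := h.three_le; omega
  rw [this, ← h.orda]; exact pow_orderOf_eq_one a

theorem z_mul_self (h : ModCtx S a b n) : a ^ (2 ^ (n - 1)) * a ^ (2 ^ (n - 1)) = 1 := by
  rw [← pow_two]; exact h.z_pow_two

theorem z_ne_one (h : ModCtx S a b n) : a ^ (2 ^ (n - 1)) ≠ 1 := by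
  intro h1
  have h2 := orderOf_dvd_of_pow_eq_one h1
  rw [h.orda] at h2
  have h3 := (Nat.pow_dvd_pow_iff_le_right (by norm_num : 1 < 2)).mp h2
  have := h.three_le; omega

theorem z_eq (h : ModCtx S a b n) : a ^ (2 ^ (n - 1)) = (a ^ 2) ^ (2 ^ (n - 2)) := by
  rw [← pow_mul, ← pow_succ']; congr 2; have := h.three_le; omega

theorem z_mem_sq (h : ModCtx S a b n) : a ^ (2 ^ (n - 1)) ∈ Subgroup.zpowers (a ^ 2) := by
  rw [h.z_eq]; exact Subgroup.pow_mem _ (Subgroup.mem_zpowers _) _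

theorem z_zpow (h : ModCtx S a b n) (i : ℤ) :
    (a ^ (2 ^ (n - 1))) ^ i = 1 ∨ (a ^ (2 ^ (n - 1))) ^ i = a ^ (2 ^ (n - 1)) := by
  have hz2 : (a ^ (2 ^ (n - 1))) ^ (2 : ℤ) = 1 := by rw [zpow_ofNat]; exact h.z_pow_two
  rcases Int.even_or_odd' i with ⟨r, rfl | rfl⟩
  · left; rw [zpow_mul, hz2, one_zpow]
  · right; rw [zpow_add, zpow_mul, hz2, one_zpow, one_mul, zpow_one]

theorem rel' (h : ModCtx S a b n) : b * a * b⁻¹ = a * a ^ (2 ^ (n - 1)) := by
  rw [h.rel, pow_succ']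

theorem b_mul_self (h : ModCtx S a b n) : b * b = 1 := by
  rw [← pow_two, ← h.ordb]; exact pow_orderOf_eq_one b

theorem b_inv (h : ModCtx S a b n) : b⁻¹ = b := inv_eq_of_mul_eq_one_right h.b_mul_self

theorem b_ne_one (h : ModCtx S a b n) : b ≠ 1 := by
  intro h1
  have := h.ordb
  rw [h1, orderOf_one] at this
  omega

theorem comm_az (_h : ModCtx S a b n) : Commute a (a ^ (2 ^ (n - 1))) :=
  (Commute.refl a).pow_right _

/-- `b` acts on `⟨a⟩`. -/
theorem conj_b (h : ModCtx S a b n) (i : ℤ) :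
    b * a ^ i * b⁻¹ = a ^ i * (a ^ (2 ^ (n - 1))) ^ i := by
  rw [← conj_zpow, h.rel', h.comm_az.mul_zpow]

theorem b_comm_z (h : ModCtx S a b n) : Commute b (a ^ (2 ^ (n - 1))) := by
  have h1 := h.conj_b ((2 ^ (n - 1) : ℕ) : ℤ)
  rw [zpow_natCast, zpow_natCast] at h1
  have h2 : (a ^ (2 ^ (n - 1))) ^ (2 ^ (n - 1)) = 1 := by
    have : 2 ^ (n - 1) = 2 * 2 ^ (n - 2) := by
      rw [← pow_succ']; congr 1; have := h.three_le; omega
    nth_rewrite 2 [this]
    rw [pow_mul, h.z_pow_two, one_pow]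
  rw [h2, mul_one] at h1
  exact mul_inv_eq_iff_eq_mul.mp h1

theorem b_comm_sq (h : ModCtx S a b n) : Commute b (a ^ 2) := by
  have h1 := h.conj_b 2
  have hz2 : (a ^ (2 ^ (n - 1))) ^ (2 : ℤ) = 1 := by rw [zpow_ofNat]; exact h.z_pow_two
  rw [hz2, mul_one, zpow_ofNat] at h1
  exact mul_inv_eq_iff_eq_mul.mp h1

theorem b_not_mem (h : ModCtx S a b n) : b ∉ Subgroup.zpowers a := by
  intro hmem
  obtain ⟨i, hi⟩ := Subgroup.mem_zpowers_iff.mp hmem
  have hc : Commute b a := by rw [← hi]; exact (Commute.refl a).zpow_left i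
  have h1 := h.rel'
  rw [hc.eq, mul_inv_cancel_right] at h1
  exact h.z_ne_one (mul_eq_left.mp h1.symm)

theorem card_A (h : ModCtx S a b n) : Nat.card (Subgroup.zpowers a) = 2 ^ n := by
  rw [Nat.card_zpowers, h.orda]

theorem A_le (h : ModCtx S a b n) : Subgroup.zpowers a ≤ S := Subgroup.zpowers_le.mpr h.ha

/-- `⟨a⟩` has index two in `S`. -/
theorem index_A [Finite G] (h : ModCtx S a b n) : ((Subgroup.zpowers a).subgroupOf S).index = 2 := by
  have h1 := Subgroup.relIndex_mul_relIndex (H := ⊥) (K := Subgroup.zpowers a) (L := S) bot_le h.A_le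
  rw [Subgroup.relIndex_bot_left, Subgroup.relIndex_bot_left, h.card_A, h.card, pow_succ] at h1
  exact Nat.eq_of_mul_eq_mul_left (by positivity) h1

/-- Every element of `S` is `a ^ i` or `b * a ^ i`. -/
theorem cover [Finite G] (h : ModCtx S a b n) {s : G} (hs : s ∈ S) :
    s ∈ Subgroup.zpowers a ∨ ∃ u ∈ Subgroup.zpowers a, s = b * u := by
  by_cases hsA : s ∈ Subgroup.zpowers a
  · exact Or.inl hsA
  · right
    refine ⟨b⁻¹ * s, ?_, by group⟩
    have h1 := Subgroup.mul_mem_iff_of_index_two h.index_A (a := (⟨b⁻¹, S.inv_mem h.hb⟩ : S))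
      (b := ⟨s, hs⟩)
    simp only [Subgroup.mem_subgroupOf, Subgroup.coe_mul] at h1
    rw [h1]
    constructor
    · intro h'; exact absurd (by simpa using Subgroup.inv_mem _ h') h.b_not_mem
    · intro h'; exact absurd h' hsA

/-- `a ^ 2` is central in `S`. -/
theorem sq_central [Finite G] (h : ModCtx S a b n) {s : G} (hs : s ∈ S) : Commute s (a ^ 2) := by
  rcases h.cover hs with hA | ⟨u, hu, rfl⟩
  · obtain ⟨i, rfl⟩ := Subgroup.mem_zpowers_iff.mp hA
    exact ((Commute.refl a).pow_right 2).zpow_left i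
  · obtain ⟨i, rfl⟩ := Subgroup.mem_zpowers_iff.mp hu
    exact h.b_comm_sq.mul_left (((Commute.refl a).pow_right 2).zpow_left i)

theorem z_central [Finite G] (h : ModCtx S a b n) {s : G} (hs : s ∈ S) :
    Commute s (a ^ (2 ^ (n - 1))) := by
  rw [h.z_eq]; exact (h.sq_central hs).pow_right _

/-- `(b * a ^ i) ^ 2 = a ^ (2 i) z ^ i`. -/
theorem sq_b_mul (h : ModCtx S a b n) (i : ℤ) :
    (b * a ^ i) * (b * a ^ i) = a ^ i * a ^ i * (a ^ (2 ^ (n - 1))) ^ i := by
  have h1 : (b * a ^ i) * (b * a ^ i) = (b * a ^ i * b⁻¹) * (b * b) * a ^ i := by group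
  rw [h1, h.conj_b, h.b_mul_self, mul_one]
  have hc : Commute ((a ^ (2 ^ (n - 1))) ^ i) (a ^ i) :=
    (((Commute.refl a).pow_left _).zpow_left i).zpow_right i
  rw [mul_assoc, hc.eq, ← mul_assoc]

/-- All squares of elements of `S` lie in `⟨a ^ 2⟩`. -/
theorem sq_mem [Finite G] (h : ModCtx S a b n) {s : G} (hs : s ∈ S) :
    s * s ∈ Subgroup.zpowers (a ^ 2) := by
  rcases h.cover hs with hA | ⟨u, hu, rfl⟩
  · obtain ⟨i, rfl⟩ := Subgroup.mem_zpowers_iff.mp hA
    rw [← zpow_add, ← two_mul, zpow_mul, zpow_ofNat]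
    exact Subgroup.zpow_mem_zpowers _ _
  · obtain ⟨i, rfl⟩ := Subgroup.mem_zpowers_iff.mp hu
    rw [h.sq_b_mul]
    apply Subgroup.mul_mem
    · rw [← zpow_add, ← two_mul, zpow_mul, zpow_ofNat]
      exact Subgroup.zpow_mem_zpowers _ _
    · exact Subgroup.zpow_mem _ h.z_mem_sq _

/-- The involution of `⟨a ^ 2⟩`. -/
theorem eq_z_of_mem_sq (h : ModCtx S a b n) {w : G} (hw : w ∈ Subgroup.zpowers (a ^ 2))
    (hw2 : w ^ 2 = 1) : w = 1 ∨ w = a ^ (2 ^ (n - 1)) := by
  have hwA : w ∈ Subgroup.zpowers a :=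
    (Subgroup.zpowers_le.mpr (Subgroup.pow_mem _ (Subgroup.mem_zpowers a) 2)) hw
  exact eq_one_or_eq_pow_of_sq_eq_one h.orda (by have := h.three_le; omega) hwA hw2


/-- `a ^ i` with `i` even lies in `⟨a ^ 2⟩`. -/
theorem zpow_even_mem (_h : ModCtx S a b n) (r : ℤ) : a ^ (2 * r) ∈ Subgroup.zpowers (a ^ 2) := by
  rw [zpow_mul, zpow_ofNat]; exact Subgroup.zpow_mem_zpowers _ _

/-- Elements of `⟨a ^ 2⟩` commute with all of `S`. -/
theorem commute_of_mem_sq [Finite G] (h : ModCtx S a b n) {s u : G} (hs : s ∈ S)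
    (hu : u ∈ Subgroup.zpowers (a ^ 2)) : Commute s u := by
  obtain ⟨i, rfl⟩ := Subgroup.mem_zpowers_iff.mp hu
  exact (h.sq_central hs).zpow_right i

/-- `a ^ i` with `i` odd generates `⟨a⟩`. -/
theorem zpowers_zpow_odd [Finite G] (h : ModCtx S a b n) (r : ℤ) :
    Subgroup.zpowers (a ^ (2 * r + 1)) = Subgroup.zpowers a := by
  have hn := h.three_le
  apply Subgroup.eq_of_le_of_card_ge (Subgroup.zpowers_le.mpr (Subgroup.zpow_mem_zpowers a _))
  rw [Nat.card_zpowers, Nat.card_zpowers, h.orda]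
  have h1 : (a ^ (2 * r + 1)) ^ (2 ^ n) = 1 := by
    rw [← zpow_natCast, ← zpow_mul, mul_comm, zpow_mul, zpow_natCast, ← h.orda, pow_orderOf_eq_one,
      one_zpow]
  obtain ⟨k, hk, hk'⟩ := (Nat.dvd_prime_pow Nat.prime_two).mp (orderOf_dvd_of_pow_eq_one h1)
  rw [hk']
  by_contra hlt
  have hkn : k ≤ n - 1 := by
    have : ¬ n ≤ k := fun hle => hlt (Nat.pow_le_pow_right (by norm_num) hle)
    omega
  have h2 : (a ^ (2 * r + 1)) ^ (2 ^ (n - 1)) = 1 := by
    apply orderOf_dvd_iff_pow_eq_one.mp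
    rw [hk']; exact pow_dvd_pow 2 hkn
  rw [← zpow_natCast, ← zpow_mul] at h2
  have h3 := orderOf_dvd_iff_zpow_eq_one.mpr h2
  rw [h.orda] at h3
  have h4 : ((2 ^ n : ℕ) : ℤ) = 2 * ((2 ^ (n - 1) : ℕ) : ℤ) := by
    push_cast; rw [← pow_succ']; congr 1; omega
  rw [h4] at h3
  have h5 : (2 : ℤ) ∣ 2 * r + 1 :=
    (mul_dvd_mul_iff_right (by positivity : ((2 ^ (n - 1) : ℕ) : ℤ) ≠ 0)).mp h3
  omega

/-- The involutions of `S` are `z`, `b`, `b z`. -/
theorem involutions [Finite G] (h : ModCtx S a b n) {s : G} (hs : s ∈ S) (hs2 : s * s = 1) :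
    s = 1 ∨ s = a ^ (2 ^ (n - 1)) ∨ s = b ∨ s = b * a ^ (2 ^ (n - 1)) := by
  have hn := h.three_le
  rcases h.cover hs with hA | ⟨u, hu, rfl⟩
  · rcases eq_one_or_eq_pow_of_sq_eq_one h.orda (by omega) hA (by rw [pow_two]; exact hs2) with h1 | h1
    · exact Or.inl h1
    · exact Or.inr (Or.inl h1)
  · obtain ⟨i, rfl⟩ := Subgroup.mem_zpowers_iff.mp hu
    rw [h.sq_b_mul] at hs2
    rcases h.z_zpow i with h1 | h1
    · rw [h1, mul_one] at hs2
      rcases eq_one_or_eq_pow_of_sq_eq_one h.orda (by omega) (Subgroup.zpow_mem_zpowers a i)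
        (by rw [pow_two]; exact hs2) with h2 | h2
      · right; right; left; rw [h2, mul_one]
      · right; right; right; rw [h2]
    · exfalso
      rw [h1] at hs2
      have h2 : a ^ i * a ^ i = a ^ (2 ^ (n - 1)) := by
        have := eq_inv_of_mul_eq_one_left hs2
        rw [this]; exact inv_eq_of_mul_eq_one_right h.z_mul_self
      have h4 : (a ^ i) ^ (2 ^ 2) = 1 := by
        rw [pow_two 2, pow_mul, pow_two (a ^ i), h2]; exact h.z_pow_two
      have hmem := mem_zpowers_pow_of_pow_eq_one (p := 2) (j := 2) two_ne_zero h.orda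
        (by omega) (Subgroup.zpow_mem_zpowers a i) h4
      have hsq : a ^ (2 ^ (n - 2)) = (a ^ 2) ^ (2 ^ (n - 3)) := by
        rw [← pow_mul, ← pow_succ']; congr 2; omega
      have hmem2 : a ^ i ∈ Subgroup.zpowers (a ^ 2) := by
        refine (Subgroup.zpowers_le.mpr ?_) hmem
        rw [hsq]; exact Subgroup.pow_mem _ (Subgroup.mem_zpowers _) _
      have hc := h.commute_of_mem_sq h.hb hmem2
      have h5 := h.conj_b i
      rw [h1, hc.eq, mul_inv_cancel_right] at h5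
      exact h.z_ne_one (mul_eq_left.mp h5.symm)

theorem bz_mul_self [Finite G] (h : ModCtx S a b n) :
    (b * a ^ (2 ^ (n - 1))) * (b * a ^ (2 ^ (n - 1))) = 1 := by
  rw [mul_assoc, ← mul_assoc (a ^ (2 ^ (n - 1))), ← h.b_comm_z.eq, mul_assoc b, h.z_mul_self, mul_one,
    h.b_mul_self]

/-- Two noncommuting elements of a subgroup `Q ≤ S` force `a, b ∈ Q`. -/
theorem mem_of_not_commute [Finite G] (h : ModCtx S a b n) (Q : Subgroup G) (hQ : Q ≤ S) {x y : G}
    (hx : x ∈ Q) (hy : y ∈ Q) (hxy : ¬ Commute x y) : a ∈ Q ∧ b ∈ Q := by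
  have key : ∀ (r : ℤ), a ^ (2 * r + 1) ∈ Q → a ∈ Q := by
    intro r hr
    have := Subgroup.zpowers_le.mpr hr
    rw [h.zpowers_zpow_odd r] at this
    exact this (Subgroup.mem_zpowers a)
  rcases h.cover (hQ hx) with hxA | ⟨u, hu, rfl⟩ <;> rcases h.cover (hQ hy) with hyA | ⟨v, hv, rfl⟩
  · exfalso
    obtain ⟨i, rfl⟩ := Subgroup.mem_zpowers_iff.mp hxA
    obtain ⟨j, rfl⟩ := Subgroup.mem_zpowers_iff.mp hyA
    exact hxy ((Commute.refl a).zpow_zpow i j)
  · obtain ⟨i, rfl⟩ := Subgroup.mem_zpowers_iff.mp hxA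
    obtain ⟨j, rfl⟩ := Subgroup.mem_zpowers_iff.mp hv
    rcases Int.even_or_odd' i with ⟨r, rfl | rfl⟩
    · exfalso
      exact hxy (h.commute_of_mem_sq (hQ hy) (h.zpow_even_mem r)).symm
    · have haQ := key r hx
      refine ⟨haQ, ?_⟩
      have := Q.mul_mem hy (Q.inv_mem (Q.zpow_mem haQ j))
      rwa [mul_inv_cancel_right] at this
  · obtain ⟨i, rfl⟩ := Subgroup.mem_zpowers_iff.mp hu
    obtain ⟨j, rfl⟩ := Subgroup.mem_zpowers_iff.mp hyA
    rcases Int.even_or_odd' j with ⟨r, rfl | rfl⟩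
    · exfalso
      exact hxy (h.commute_of_mem_sq (hQ hx) (h.zpow_even_mem r))
    · have haQ := key r hy
      refine ⟨haQ, ?_⟩
      have := Q.mul_mem hx (Q.inv_mem (Q.zpow_mem haQ i))
      rwa [mul_inv_cancel_right] at this
  · obtain ⟨i, rfl⟩ := Subgroup.mem_zpowers_iff.mp hu
    obtain ⟨j, rfl⟩ := Subgroup.mem_zpowers_iff.mp hv
    have hd : a ^ (j - i) ∈ Q := by
      have := Q.mul_mem (Q.inv_mem hx) hy
      have e : (b * a ^ i)⁻¹ * (b * a ^ j) = a ^ (j - i) := by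
        rw [zpow_sub]; group
      rwa [e] at this
    rcases Int.even_or_odd' (j - i) with ⟨r, hr | hr⟩
    · exfalso
      apply hxy
      have e : b * a ^ j = (b * a ^ i) * a ^ (2 * r) := by
        rw [← hr, mul_assoc, ← zpow_add]; congr 2; ring
      rw [e]
      exact (Commute.refl _).mul_right (h.commute_of_mem_sq (hQ hx) (h.zpow_even_mem r))
    · rw [hr] at hd
      have haQ := key r hd
      refine ⟨haQ, ?_⟩
      have := Q.mul_mem hx (Q.inv_mem (Q.zpow_mem haQ i))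
      rwa [mul_inv_cancel_right] at this

theorem not_commute_ab (h : ModCtx S a b n) : ¬ Commute b a := by
  intro hc
  have h1 := h.rel'
  rw [hc.eq, mul_inv_cancel_right] at h1
  exact h.z_ne_one (mul_eq_left.mp h1.symm)


end ModCtx

/-- For `g` of odd order, if `g ^ 2` commutes with `x` then so does `g`. -/
theorem commute_of_sq_commute {G : Type*} [Group G] {g x : G} (hodd : Odd (orderOf g))
    (h : Commute (g ^ 2) x) : Commute g x := by
  obtain ⟨k, hk⟩ := hodd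
  have h1 : (g ^ 2) ^ (k + 1) = g := by
    rw [← pow_mul]
    have : 2 * (k + 1) = orderOf g + 1 := by omega
    rw [this, pow_succ, pow_orderOf_eq_one, one_mul]
  rw [← h1]; exact h.pow_left _

namespace ModCtx

variable {G : Type*} [Group G] {S : Subgroup G} {a b : G} {n : ℕ}

theorem eq_one_of_pow_odd [Finite G] (h : ModCtx S a b n) {u : G} (hu : u ∈ S) {m : ℕ}
    (hm : Odd m) (hum : u ^ m = 1) : u = 1 := by
  have h1 : orderOf u ∣ m := orderOf_dvd_of_pow_eq_one hum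
  have h2 : orderOf u ∣ 2 ^ (n + 1) := by
    rw [← h.card]
    have := orderOf_dvd_natCard (⟨u, hu⟩ : S)
    rwa [Subgroup.orderOf_mk] at this
  have h3 : Nat.Coprime m (2 ^ (n + 1)) := Nat.Coprime.pow_right _ (Nat.coprime_two_right.mpr hm)
  exact orderOf_eq_one_iff.mp (Nat.eq_one_of_dvd_coprimes h3 h1 h2)

theorem card_zpowers_sq (h : ModCtx S a b n) : Nat.card (Subgroup.zpowers (a ^ 2)) = 2 ^ (n - 1) := by
  have hn := h.three_le
  rw [Nat.card_zpowers, orderOf_pow' a (by norm_num), h.orda]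
  have h1 : Nat.gcd (2 ^ n) 2 = 2 := by
    apply Nat.gcd_eq_right
    exact dvd_pow_self 2 (by omega)
  rw [h1]
  have h2 : 2 ^ n = 2 ^ (n - 1) * 2 := by rw [← pow_succ]; congr 1; omega
  rw [h2, Nat.mul_div_cancel _ (by norm_num)]

/-- The fusion argument: `z` is not conjugate in `G` to an involution of `S` outside `⟨a⟩`. -/
theorem fusion [Finite G] (P : Sylow 2 G) (h : ModCtx (P : Subgroup G) a b n) (g b' : G)
    (hb'P : b' ∈ (P : Subgroup G)) (hb'A : b' ∉ Subgroup.zpowers a)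
    (hgz : g * a ^ (2 ^ (n - 1)) * g⁻¹ = b') : False := by
  classical
  have hn := h.three_le
  haveI : Fact (Nat.Prime 2) := ⟨Nat.prime_two⟩
  -- T = g • P ≤ N = C(b')
  have hT : ((g • P : Sylow 2 G) : Subgroup G) ≤ Subgroup.centralizer ({b'} : Set G) := by
    intro x hx
    have hx' : g⁻¹ * x * g ∈ P := (Cfsg.Agent.Lib.Helper29.mem_smul_sylow_iff g x P).mp hx
    have hc := h.z_central hx'
    rw [Ctx.mem_centralizer_singleton_iff, ← hgz]
    have e : x = g * (g⁻¹ * x * g) * g⁻¹ := by group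
    rw [e]
    show g * (g⁻¹ * x * g) * g⁻¹ * (g * a ^ (2 ^ (n - 1)) * g⁻¹)
      = g * a ^ (2 ^ (n - 1)) * g⁻¹ * (g * (g⁻¹ * x * g) * g⁻¹)
    calc g * (g⁻¹ * x * g) * g⁻¹ * (g * a ^ (2 ^ (n - 1)) * g⁻¹)
        = g * ((g⁻¹ * x * g) * a ^ (2 ^ (n - 1))) * g⁻¹ := by group
      _ = g * (a ^ (2 ^ (n - 1)) * (g⁻¹ * x * g)) * g⁻¹ := by rw [hc.eq]
      _ = g * a ^ (2 ^ (n - 1)) * g⁻¹ * (g * (g⁻¹ * x * g) * g⁻¹) := by group
  have hB'p : IsPGroup 2 ↥((P : Subgroup G) ⊓ Subgroup.centralizer ({b'} : Set G)) :=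
    P.isPGroup'.to_le inf_le_left
  obtain ⟨c, hcN, hc⟩ := Cfsg.Agent.Lib.Helper29.exists_conj_mem_sylow_of_le
    (Subgroup.centralizer ({b'} : Set G)) (g • P) hT _ hB'p inf_le_right
  rw [Ctx.mem_centralizer_singleton_iff] at hcN
  -- k = g⁻¹ c⁻¹
  have hk : ∀ u ∈ (P : Subgroup G) ⊓ Subgroup.centralizer ({b'} : Set G),
      (g⁻¹ * c⁻¹) * u * (g⁻¹ * c⁻¹)⁻¹ ∈ (P : Subgroup G) := by
    intro u hu
    have := (Cfsg.Agent.Lib.Helper29.mem_smul_sylow_iff g _ P).mp (hc u hu)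
    have e : (g⁻¹ * c⁻¹) * u * (g⁻¹ * c⁻¹)⁻¹ = g⁻¹ * (c⁻¹ * u * c) * g := by group
    rw [e]; exact this
  have hkb : (g⁻¹ * c⁻¹) * b' * (g⁻¹ * c⁻¹)⁻¹ = a ^ (2 ^ (n - 1)) := by
    have e : (g⁻¹ * c⁻¹) * b' * (g⁻¹ * c⁻¹)⁻¹ = g⁻¹ * (c⁻¹ * b' * c) * g := by group
    have e2 : c⁻¹ * b' * c = b' := by
      rw [mul_assoc, ← hcN.eq, inv_mul_cancel_left]
    rw [e, e2, ← hgz]; group
  -- |B'| ≥ 2 ^ n
  have hDle : Subgroup.zpowers (a ^ 2) ⊔ Subgroup.zpowers b' ≤
      (P : Subgroup G) ⊓ Subgroup.centralizer ({b'} : Set G) := by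
    apply sup_le
    · rw [Subgroup.zpowers_le]
      exact ⟨P.pow_mem h.ha 2,
        (Ctx.mem_centralizer_singleton_iff _ _).mpr (h.sq_central hb'P).symm⟩
    · rw [Subgroup.zpowers_le]
      exact ⟨hb'P, (Ctx.mem_centralizer_singleton_iff _ _).mpr (Commute.refl b')⟩
  have hDcard : 2 ^ n ≤ Nat.card ↥(Subgroup.zpowers (a ^ 2) ⊔ Subgroup.zpowers b') := by
    have h1 : Nat.card (Subgroup.zpowers (a ^ 2)) ∣
        Nat.card ↥(Subgroup.zpowers (a ^ 2) ⊔ Subgroup.zpowers b') :=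
      Subgroup.card_dvd_of_le le_sup_left
    have h2 : Nat.card ↥(Subgroup.zpowers (a ^ 2) ⊔ Subgroup.zpowers b') ∣ 2 ^ (n + 1) := by
      rw [← h.card]; exact Subgroup.card_dvd_of_le (hDle.trans inf_le_left)
    obtain ⟨j, hj, hj'⟩ := (Nat.dvd_prime_pow Nat.prime_two).mp h2
    rw [h.card_zpowers_sq, hj'] at h1
    have h3 := (Nat.pow_dvd_pow_iff_le_right (by norm_num : 1 < 2)).mp h1
    have h4 : j ≠ n - 1 := by
      intro hjeq
      apply hb'A
      have heq : Subgroup.zpowers (a ^ 2) = Subgroup.zpowers (a ^ 2) ⊔ Subgroup.zpowers b' :=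
        Subgroup.eq_of_le_of_card_ge le_sup_left (by rw [hj', hjeq, h.card_zpowers_sq])
      have h5 : b' ∈ Subgroup.zpowers (a ^ 2) := by
        rw [heq]; exact Subgroup.mem_sup_right (Subgroup.mem_zpowers b')
      exact (Subgroup.zpowers_le.mpr (Subgroup.pow_mem _ (Subgroup.mem_zpowers a) 2)) h5
    rw [hj']
    exact Nat.pow_le_pow_right (by norm_num) (by omega)
  have hB'card : 2 ^ n ≤ Nat.card ↥((P : Subgroup G) ⊓ Subgroup.centralizer ({b'} : Set G)) :=
    hDcard.trans (Subgroup.card_le_of_le hDle)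
  -- H = k B' k⁻¹ ≤ P
  set H := ((P : Subgroup G) ⊓ Subgroup.centralizer ({b'} : Set G)).map
    (MulAut.conj (g⁻¹ * c⁻¹)).toMonoidHom with hHdef
  have hHP : H ≤ (P : Subgroup G) := by
    rintro _ ⟨u, hu, rfl⟩
    exact hk u hu
  have hHcard : Nat.card H = Nat.card ↥((P : Subgroup G) ⊓ Subgroup.centralizer ({b'} : Set G)) := by
    rw [hHdef]
    exact Subgroup.card_map_of_injective (MulAut.conj (g⁻¹ * c⁻¹)).injective
  -- v' = a ^ (2 ^ (n - 2)) ∈ H
  have hv'H : a ^ (2 ^ (n - 2)) ∈ H := by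
    have hidx := Subgroup.card_mul_index (H.subgroupOf (P : Subgroup G))
    rw [Cfsg.Agent.Lib.Helper1.card_subgroupOf_of_le hHP, hHcard, h.card] at hidx
    have hidx2 : (H.subgroupOf (P : Subgroup G)).index ≤ 2 := by
      by_contra hlt
      have h3 : 3 ≤ (H.subgroupOf (P : Subgroup G)).index := by omega
      have h4 : 2 ^ n * 3 ≤ 2 ^ (n + 1) := by
        rw [← hidx]; exact Nat.mul_le_mul hB'card h3
      rw [pow_succ] at h4
      have : 0 < 2 ^ n := by positivity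
      omega
    have hidx0 : (H.subgroupOf (P : Subgroup G)).index ≠ 0 := Subgroup.index_ne_zero_of_finite
    have hq : a ^ (2 ^ (n - 3)) ∈ (P : Subgroup G) := P.pow_mem h.ha _
    have hsq : a ^ (2 ^ (n - 2)) = (a ^ (2 ^ (n - 3))) ^ 2 := by
      rw [← pow_mul, ← pow_succ]; congr 2; omega
    have hcases : (H.subgroupOf (P : Subgroup G)).index = 1 ∨
        (H.subgroupOf (P : Subgroup G)).index = 2 := by omega
    rcases hcases with h1 | h2
    · rw [Subgroup.index_eq_one, Subgroup.subgroupOf_eq_top] at h1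
      exact h1 (P.pow_mem h.ha _)
    · have := Subgroup.sq_mem_of_index_two h2 (⟨a ^ (2 ^ (n - 3)), hq⟩ : (P : Subgroup G))
      rw [Subgroup.mem_subgroupOf] at this
      rw [hsq]; exact this
  obtain ⟨u₀, hu₀, hu₀'⟩ := hv'H
  -- u₀ * u₀ = b'
  have hu₀sq : u₀ * u₀ = b' := by
    have hv2 : a ^ (2 ^ (n - 2)) * a ^ (2 ^ (n - 2)) = a ^ (2 ^ (n - 1)) := by
      rw [← pow_add, ← two_mul, ← pow_succ']; congr 2; omega
    have e1 : (g⁻¹ * c⁻¹) * (u₀ * u₀) * (g⁻¹ * c⁻¹)⁻¹ = (g⁻¹ * c⁻¹) * b' * (g⁻¹ * c⁻¹)⁻¹ := by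
      have e2 : (g⁻¹ * c⁻¹) * (u₀ * u₀) * (g⁻¹ * c⁻¹)⁻¹ =
          ((g⁻¹ * c⁻¹) * u₀ * (g⁻¹ * c⁻¹)⁻¹) * ((g⁻¹ * c⁻¹) * u₀ * (g⁻¹ * c⁻¹)⁻¹) := by group
      have hu₀'' : (g⁻¹ * c⁻¹) * u₀ * (g⁻¹ * c⁻¹)⁻¹ = a ^ (2 ^ (n - 2)) := hu₀'
      rw [e2, hu₀'', hv2, hkb]
    have := mul_left_cancel (mul_right_cancel e1)
    exact this
  apply hb'A
  rw [← hu₀sq]
  exact (Subgroup.zpowers_le.mpr (Subgroup.pow_mem _ (Subgroup.mem_zpowers a) 2))
    (h.sq_mem hu₀.1)


/-- The Frobenius condition for a group with modular Sylow `2`-subgroup. -/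
theorem frobCond [Finite G] (P : Sylow 2 G) (h : ModCtx (P : Subgroup G) a b n) :
    Cfsg.Agent.Lib.Helper29.FrobCond 2 G := by
  classical
  have hn := h.three_le
  haveI : Fact (Nat.Prime 2) := ⟨Nat.prime_two⟩
  apply Cfsg.Agent.Lib.Helper29.frobCond_of_sylow P
  intro Q hQ g hg hcop
  have hodd : Odd (orderOf g) := Nat.coprime_two_right.mp hcop
  have conjQ : ∀ q ∈ Q, g * q * g⁻¹ ∈ Q := fun q hq => (Subgroup.mem_normalizer_iff.mp hg q).mp hq
  have hzA : a ^ (2 ^ (n - 1)) ∈ Subgroup.zpowers a := Subgroup.pow_mem _ (Subgroup.mem_zpowers a) _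
  have hbzA : b * a ^ (2 ^ (n - 1)) ∉ Subgroup.zpowers a := by
    intro hmem
    apply h.b_not_mem
    have := Subgroup.mul_mem _ hmem (Subgroup.inv_mem _ hzA)
    rwa [mul_inv_cancel_right] at this
  -- conjugates of involutions
  have hinvol : ∀ s ∈ Q, s * s = 1 → s ≠ 1 →
      (g * s * g⁻¹ = a ^ (2 ^ (n - 1)) ∨ g * s * g⁻¹ = b ∨ g * s * g⁻¹ = b * a ^ (2 ^ (n - 1))) := by
    intro s hs hs2 hs1
    have h1 : (g * s * g⁻¹) * (g * s * g⁻¹) = 1 := by
      have : (g * s * g⁻¹) * (g * s * g⁻¹) = g * (s * s) * g⁻¹ := by group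
      rw [this, hs2]; group
    rcases h.involutions (hQ (conjQ s hs)) h1 with h2 | h2
    · exfalso; apply hs1
      have : s = g⁻¹ * (g * s * g⁻¹) * g := by group
      rw [this, h2]; group
    · exact h2
  suffices hsuff : ∀ q ∈ Q, g * q * g⁻¹ = q by
    rw [Subgroup.mem_centralizer_iff]
    intro q hq
    have := hsuff q hq
    exact (mul_inv_eq_iff_eq_mul.mp this).symm
  by_cases hE : a ^ (2 ^ (n - 1)) ∈ Q ∧ b ∈ Q
  · obtain ⟨hzQ, hbQ⟩ := hE
    -- Step A: g fixes z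
    have hgz : g * a ^ (2 ^ (n - 1)) * g⁻¹ = a ^ (2 ^ (n - 1)) := by
      by_cases hex : ∃ y ∈ Q, y * y ≠ 1
      · obtain ⟨y, hyQ, hy2⟩ := hex
        -- z is a square in Q
        obtain ⟨v, hvQ, hv⟩ : ∃ v ∈ Q, v * v = a ^ (2 ^ (n - 1)) := by
          have hwS := h.sq_mem (hQ hyQ)
          obtain ⟨k, hk⟩ := IsPGroup.iff_orderOf.mp P.isPGroup' (⟨y * y, P.mul_mem (hQ hyQ) (hQ hyQ)⟩ :
            (P : Subgroup G))
          rw [Subgroup.orderOf_mk] at hk
          have hk1 : k ≠ 0 := by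
            rintro rfl
            rw [pow_zero, orderOf_eq_one_iff] at hk
            exact hy2 hk
          have hz' : (y * y) ^ (2 ^ (k - 1)) = a ^ (2 ^ (n - 1)) := by
            have h1 : ((y * y) ^ (2 ^ (k - 1))) ^ 2 = 1 := by
              rw [← pow_mul, ← pow_succ]
              have : k - 1 + 1 = k := by omega
              rw [this, ← hk]; exact pow_orderOf_eq_one _
            rcases h.eq_z_of_mem_sq (Subgroup.pow_mem _ hwS _) h1 with h2 | h2
            · exfalso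
              have h3 := orderOf_dvd_of_pow_eq_one h2
              rw [hk] at h3
              have h4 := (Nat.pow_dvd_pow_iff_le_right (by norm_num : 1 < 2)).mp h3
              omega
            · exact h2
          rcases Nat.lt_or_ge k 2 with hk2 | hk2
          · have hk1' : k = 1 := by omega
            subst hk1'
            refine ⟨y, hyQ, ?_⟩
            rw [← hz']; simp
          · refine ⟨(y * y) ^ (2 ^ (k - 2)), Q.pow_mem (Q.mul_mem hyQ hyQ) _, ?_⟩
            rw [← hz', ← pow_add, ← two_mul, ← pow_succ']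
            congr 2; omega
        have h1 : g * a ^ (2 ^ (n - 1)) * g⁻¹ = (g * v * g⁻¹) * (g * v * g⁻¹) := by
          rw [← hv]; group
        have h2 : g * a ^ (2 ^ (n - 1)) * g⁻¹ ∈ Subgroup.zpowers (a ^ 2) := by
          rw [h1]; exact h.sq_mem (hQ (conjQ v hvQ))
        rcases hinvol _ hzQ h.z_mul_self h.z_ne_one with h3 | h3 | h3
        · exact h3
        · exfalso
          rw [h3] at h2
          exact h.b_not_mem ((Subgroup.zpowers_le.mpr
            (Subgroup.pow_mem _ (Subgroup.mem_zpowers a) 2)) h2)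
        · exfalso
          rw [h3] at h2
          exact hbzA ((Subgroup.zpowers_le.mpr
            (Subgroup.pow_mem _ (Subgroup.mem_zpowers a) 2)) h2)
      · rcases hinvol _ hzQ h.z_mul_self h.z_ne_one with h3 | h3 | h3
        · exact h3
        · exact (h.fusion P g b h.hb h.b_not_mem h3).elim
        · exact (h.fusion P g _ (P.mul_mem h.hb (hQ hzQ)) hbzA h3).elim
    -- g fixes b
    have hgb : g * b * g⁻¹ = b := by
      rcases hinvol b hbQ h.b_mul_self h.b_ne_one with h3 | h3 | h3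
      · exfalso
        rw [← hgz] at h3
        have h4 : b = a ^ (2 ^ (n - 1)) := by
          have := mul_left_cancel (mul_right_cancel h3)
          exact this
        exact h.b_not_mem (h4 ▸ hzA)
      · exact h3
      · -- swap is impossible
        have h4 : g * (b * a ^ (2 ^ (n - 1))) * g⁻¹ = b := by
          have : g * (b * a ^ (2 ^ (n - 1))) * g⁻¹ = (g * b * g⁻¹) * (g * a ^ (2 ^ (n - 1)) * g⁻¹) := by
            group
          rw [this, h3, hgz, mul_assoc, h.z_mul_self, mul_one]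
        have h5 : Commute (g ^ 2) b := by
          have : g ^ 2 * b * (g ^ 2)⁻¹ = g * (g * b * g⁻¹) * g⁻¹ := by rw [pow_two]; group
          have h6 : g ^ 2 * b * (g ^ 2)⁻¹ = b := by rw [this, h3, h4]
          exact mul_inv_eq_iff_eq_mul.mp h6
        have := commute_of_sq_commute hodd h5
        exact mul_inv_eq_iff_eq_mul.mpr this.eq
    -- Step B: g centralizes C_Q(b)
    have hB : ∀ x ∈ Q ⊓ Subgroup.centralizer ({b} : Set G), g * x * g⁻¹ = x := by
      have hBS : Q ⊓ Subgroup.centralizer ({b} : Set G) ≤ (P : Subgroup G) := inf_le_left.trans hQ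
      apply Cfsg.Agent.Lib.Helper18.conj_eq_of_fixes_prime_order _ _ g _ (orderOf g)
        (pow_orderOf_eq_one g)
      · -- coprime
        obtain ⟨j, hj⟩ := IsPGroup.iff_card.mp (P.isPGroup'.to_le hBS)
        rw [hj]
        exact Nat.Coprime.pow_right _ hcop
      · -- prime order elements are fixed
        intro x hx hxp
        obtain ⟨j, hj⟩ := IsPGroup.iff_orderOf.mp P.isPGroup' (⟨x, hBS hx⟩ : (P : Subgroup G))
        rw [Subgroup.orderOf_mk] at hj
        have hx2 : orderOf x = 2 := by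
          rw [hj] at hxp
          rw [hj, Nat.Prime.eq_one_of_pow hxp, pow_one]
        have hxx : x * x = 1 := by rw [← pow_two, ← hx2]; exact pow_orderOf_eq_one x
        have hx1 : x ≠ 1 := by
          intro h1; rw [h1, orderOf_one] at hx2; omega
        have hgbz : g * (b * a ^ (2 ^ (n - 1))) * g⁻¹ = b * a ^ (2 ^ (n - 1)) := by
          have : g * (b * a ^ (2 ^ (n - 1))) * g⁻¹ = (g * b * g⁻¹) * (g * a ^ (2 ^ (n - 1)) * g⁻¹) := by
            group
          rw [this, hgb, hgz]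
        rcases h.involutions (hBS hx) hxx with h1 | h1 | h1 | h1
        · exact absurd h1 hx1
        · rw [h1]; exact hgz
        · rw [h1]; exact hgb
        · rw [h1]; exact hgbz
      · -- commutative
        intro x hx y hy
        by_contra hne
        have := h.mem_of_not_commute _ hBS hx hy hne
        have ha' : a ∈ Subgroup.centralizer ({b} : Set G) := (Subgroup.mem_inf.mp this.1).2
        rw [Ctx.mem_centralizer_singleton_iff] at ha'
        exact h.not_commute_ab ha'.symm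
      · -- normalized
        intro x hx
        have hxb : x ∈ Subgroup.centralizer ({b} : Set G) := (Subgroup.mem_inf.mp hx).2
        refine Subgroup.mem_inf.mpr ⟨conjQ x hx.1, ?_⟩
        rw [Ctx.mem_centralizer_singleton_iff] at hxb ⊢
        have : Commute (g * x * g⁻¹) (g * b * g⁻¹) := by
          show g * x * g⁻¹ * (g * b * g⁻¹) = g * b * g⁻¹ * (g * x * g⁻¹)
          calc g * x * g⁻¹ * (g * b * g⁻¹) = g * (x * b) * g⁻¹ := by group
            _ = g * (b * x) * g⁻¹ := by rw [hxb.eq]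
            _ = g * b * g⁻¹ * (g * x * g⁻¹) := by group
        rwa [hgb] at this
    -- g fixes all involutions of P
    have hfixinv : ∀ x ∈ (P : Subgroup G), x * x = 1 → g * x * g⁻¹ = x := by
      intro x hx hxx
      have hgbz : g * (b * a ^ (2 ^ (n - 1))) * g⁻¹ = b * a ^ (2 ^ (n - 1)) := by
        have : g * (b * a ^ (2 ^ (n - 1))) * g⁻¹ = (g * b * g⁻¹) * (g * a ^ (2 ^ (n - 1)) * g⁻¹) := by
          group
        rw [this, hgb, hgz]
      rcases h.involutions hx hxx with h1 | h1 | h1 | h1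
      · rw [h1]; group
      · rw [h1]; exact hgz
      · rw [h1]; exact hgb
      · rw [h1]; exact hgbz
    -- Step C
    intro q hq
    have hginvb : g⁻¹ * b * g = b := by
      have : g⁻¹ * b * g = g⁻¹ * (g * b * g⁻¹) * g := by rw [hgb]
      rw [this]; group
    have hqb2 : (q * b * q⁻¹) * (q * b * q⁻¹) = 1 := by
      have : (q * b * q⁻¹) * (q * b * q⁻¹) = q * (b * b) * q⁻¹ := by group
      rw [this, h.b_mul_self]; group
    have hqbP : q * b * q⁻¹ ∈ (P : Subgroup G) :=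
      P.mul_mem (P.mul_mem (hQ hq) h.hb) (P.inv_mem (hQ hq))
    have hX : (g * q * g⁻¹) * b * (g * q * g⁻¹)⁻¹ = q * b * q⁻¹ := by
      have : (g * q * g⁻¹) * b * (g * q * g⁻¹)⁻¹ = g * (q * (g⁻¹ * b * g) * q⁻¹) * g⁻¹ := by group
      rw [this, hginvb]
      exact hfixinv _ hqbP hqb2
    have hu'Q : q⁻¹ * (g * q * g⁻¹) ∈ Q := Q.mul_mem (Q.inv_mem hq) (conjQ q hq)
    have hu'b : Commute (q⁻¹ * (g * q * g⁻¹)) b := by
      have : (q⁻¹ * (g * q * g⁻¹)) * b * (q⁻¹ * (g * q * g⁻¹))⁻¹ = b := by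
        have e : (q⁻¹ * (g * q * g⁻¹)) * b * (q⁻¹ * (g * q * g⁻¹))⁻¹ =
            q⁻¹ * ((g * q * g⁻¹) * b * (g * q * g⁻¹)⁻¹) * q := by group
        rw [e, hX]; group
      exact mul_inv_eq_iff_eq_mul.mp this
    have hu'fix : g * (q⁻¹ * (g * q * g⁻¹)) * g⁻¹ = q⁻¹ * (g * q * g⁻¹) :=
      hB _ (Subgroup.mem_inf.mpr ⟨hu'Q, (Ctx.mem_centralizer_singleton_iff _ _).mpr hu'b⟩)
    have hiter : ∀ k : ℕ, g ^ k * q * (g ^ k)⁻¹ = q * (q⁻¹ * (g * q * g⁻¹)) ^ k := by
      intro k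
      induction k with
      | zero => simp
      | succ k ih =>
        have e1 : g ^ (k + 1) * q * (g ^ (k + 1))⁻¹ = g * (g ^ k * q * (g ^ k)⁻¹) * g⁻¹ := by
          rw [pow_succ']; group
        have e2 : g * (q * (q⁻¹ * (g * q * g⁻¹)) ^ k) * g⁻¹ =
            (g * q * g⁻¹) * (g * (q⁻¹ * (g * q * g⁻¹)) * g⁻¹) ^ k := by
          rw [conj_pow]; group
        have e3 : q * (q⁻¹ * (g * q * g⁻¹)) = g * q * g⁻¹ := mul_inv_cancel_left q _
        rw [e1, ih, e2, hu'fix, pow_succ', ← mul_assoc q, e3]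
    have hm := hiter (orderOf g)
    rw [pow_orderOf_eq_one, one_mul, inv_one, mul_one] at hm
    have hu1 : (q⁻¹ * (g * q * g⁻¹)) ^ orderOf g = 1 := by
      have := mul_left_cancel (a := q) (b := 1) (c := (q⁻¹ * (g * q * g⁻¹)) ^ orderOf g)
        (by rw [mul_one]; exact hm)
      exact this.symm
    have hu := h.eq_one_of_pow_odd (hQ hu'Q) hodd hu1
    have : g * q * g⁻¹ = q * (q⁻¹ * (g * q * g⁻¹)) := by group
    rw [this, hu, mul_one]
  · -- E ⊄ Q: Q is abelian with at most one involution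
    have hQab : ∀ x ∈ Q, ∀ y ∈ Q, x * y = y * x := by
      intro x hx y hy
      by_contra hne
      obtain ⟨haQ, hbQ⟩ := h.mem_of_not_commute Q hQ hx hy hne
      exact hE ⟨Q.pow_mem haQ _, hbQ⟩
    have huniq : ∀ s ∈ Q, ∀ t ∈ Q, s * s = 1 → s ≠ 1 → t * t = 1 → t ≠ 1 → s = t := by
      intro s hs t ht hs2 hs1 ht2 ht1
      by_contra hst
      apply hE
      have hbzz : b * a ^ (2 ^ (n - 1)) * a ^ (2 ^ (n - 1)) = b := by
        rw [mul_assoc, h.z_mul_self, mul_one]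
      have hbbz : b * (b * a ^ (2 ^ (n - 1))) = a ^ (2 ^ (n - 1)) := by
        rw [← mul_assoc, h.b_mul_self, one_mul]
      rcases h.involutions (hQ hs) hs2 with h1 | h1 | h1 | h1 <;>
        rcases h.involutions (hQ ht) ht2 with h2 | h2 | h2 | h2
      all_goals first
        | exact absurd h1 hs1
        | exact absurd h2 ht1
        | exact absurd (h1.trans h2.symm) hst
        | skip
      · exact ⟨h1 ▸ hs, h2 ▸ ht⟩
      · refine ⟨h1 ▸ hs, ?_⟩
        rw [← hbzz]; exact Q.mul_mem (h2 ▸ ht) (h1 ▸ hs)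
      · exact ⟨h2 ▸ ht, h1 ▸ hs⟩
      · refine ⟨?_, h1 ▸ hs⟩
        rw [← hbbz]; exact Q.mul_mem (h1 ▸ hs) (h2 ▸ ht)
      · refine ⟨h2 ▸ ht, ?_⟩
        rw [← hbzz]; exact Q.mul_mem (h1 ▸ hs) (h2 ▸ ht)
      · refine ⟨?_, h2 ▸ ht⟩
        rw [← hbbz]; exact Q.mul_mem (h2 ▸ ht) (h1 ▸ hs)
    apply Cfsg.Agent.Lib.Helper18.conj_eq_of_fixes_prime_order Q hQab g conjQ (orderOf g)
      (pow_orderOf_eq_one g)
    · obtain ⟨j, hj⟩ := IsPGroup.iff_card.mp (P.isPGroup'.to_le hQ)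
      rw [hj]
      exact Nat.Coprime.pow_right _ hcop
    · intro x hx hxp
      obtain ⟨j, hj⟩ := IsPGroup.iff_orderOf.mp P.isPGroup' (⟨x, hQ hx⟩ : (P : Subgroup G))
      rw [Subgroup.orderOf_mk] at hj
      have hx2 : orderOf x = 2 := by
        rw [hj] at hxp
        rw [hj, Nat.Prime.eq_one_of_pow hxp, pow_one]
      have hxx : x * x = 1 := by rw [← pow_two, ← hx2]; exact pow_orderOf_eq_one x
      have hx1 : x ≠ 1 := by
        intro h1; rw [h1, orderOf_one] at hx2; omega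
      have h1 : (g * x * g⁻¹) * (g * x * g⁻¹) = 1 := by
        have : (g * x * g⁻¹) * (g * x * g⁻¹) = g * (x * x) * g⁻¹ := by group
        rw [this, hxx]; group
      have h2 : g * x * g⁻¹ ≠ 1 := by
        intro h3
        apply hx1
        have : x = g⁻¹ * (g * x * g⁻¹) * g := by group
        rw [this, h3]; group
      exact huniq _ (conjQ x hx) _ hx h1 h2 hxx hx1

end ModCtx

end Cfsg.Agent.Lib.Helper20.ModS
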