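import Mathlib
import Cfsg.Agent.Lib.Helper20.NR4A

/-!
# Normal elementary abelian subgroups of order `p ^ 4` (helper20), part B: Alperin's lemma

For odd `p`, if `A` is a maximal normal elementary abelian subgroup of the finite `p`-group `G`, then
every element of order dividing `p` in `C_G(A)` lies in `A` (`alperin`).
-/

set_option autoImplicit false

namespace Cfsg.Agent.Lib.Helper20.NR4

variable {G : Type*} [Group G]

/-- The elements commuting with `x` modulo the normal subgroup `A`. -/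
def commStab (A : Subgroup G) [hA : A.Normal] (x : G) : Subgroup G where
  carrier := {g | g * x * g⁻¹ * x⁻¹ ∈ A}
  one_mem' := by simp
  mul_mem' := by
    intro g h hg hh
    simp only [Set.mem_setOf_eq] at *
    have e : g * h * x * (g * h)⁻¹ * x⁻¹ =
        (g * (h * x * h⁻¹ * x⁻¹) * g⁻¹) * (g * x * g⁻¹ * x⁻¹) := by group
    rw [e]; exact A.mul_mem (hA.conj_mem _ hh g) hg
  inv_mem' := by
    intro g hg
    simp only [Set.mem_setOf_eq] at *
    have e : g⁻¹ * x * g⁻¹⁻¹ * x⁻¹ = g⁻¹ * (g * x * g⁻¹ * x⁻¹)⁻¹ * g⁻¹⁻¹ := by group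
    rw [e]; exact hA.conj_mem _ (A.inv_mem hg) g⁻¹

theorem mem_commStab (A : Subgroup G) [A.Normal] (x g : G) :
    g ∈ commStab A x ↔ g * x * g⁻¹ * x⁻¹ ∈ A := Iff.rfl

/-- Elements `f ∈ N ∩ C(A)` with `f ^ p = 1` and `[N, f] ⊆ A` form a subgroup (odd `p`). -/
def omegaStab {p : ℕ} (hp : p.Prime) (hp2 : p ≠ 2) (A N : Subgroup G) [hA : A.Normal]
    (hAp : ∀ a ∈ A, a ^ p = 1) : Subgroup G where
  carrier := {f | f ∈ N ∧ f ∈ Subgroup.centralizer (A : Set G) ∧ f ^ p = 1 ∧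
    ∀ n ∈ N, n * f * n⁻¹ * f⁻¹ ∈ A}
  one_mem' := ⟨N.one_mem, Subgroup.one_mem _, one_pow p, fun n _ => by simp⟩
  mul_mem' := by
    rintro f f' ⟨hfN, hfC, hfp, hf⟩ ⟨hfN', hfC', hfp', hf'⟩
    refine ⟨N.mul_mem hfN hfN', Subgroup.mul_mem _ hfC hfC', ?_, ?_⟩
    · have hz : (f * f')⁻¹ * (f' * f) ∈ A := by
        have e : (f * f')⁻¹ * (f' * f) =
            (f * f')⁻¹ * (f' * f * f'⁻¹ * f⁻¹) * (f * f')⁻¹⁻¹ := by group
        rw [e]; exact hA.conj_mem _ (hf f' hfN') _
      have hcomm : ∀ a ∈ A, ∀ g ∈ Subgroup.centralizer (A : Set G), Commute a g :=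
        fun a ha g hg => (Subgroup.mem_centralizer_iff.mp hg a ha)
      exact mul_pow_prime_eq_one hp hp2 hfp hfp' (hcomm _ hz f hfC) (hcomm _ hz f' hfC')
        (hAp _ hz)
    · intro n hn
      have e : n * (f * f') * n⁻¹ * (f * f')⁻¹ =
          (n * f * n⁻¹ * f⁻¹) * (f * (n * f' * n⁻¹ * f'⁻¹) * f⁻¹) := by group
      rw [e]; exact A.mul_mem (hf n hn) (hA.conj_mem _ (hf' n hn) f)
  inv_mem' := by
    rintro f ⟨hfN, hfC, hfp, hf⟩
    refine ⟨N.inv_mem hfN, Subgroup.inv_mem _ hfC, by rw [inv_pow, hfp, inv_one], ?_⟩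
    intro n hn
    have e : n * f⁻¹ * n⁻¹ * f⁻¹⁻¹ = f⁻¹ * (n * f * n⁻¹ * f⁻¹)⁻¹ * f⁻¹⁻¹ := by group
    rw [e]; exact hA.conj_mem _ (A.inv_mem (hf n hn)) f⁻¹

theorem mem_omegaStab {p : ℕ} (hp : p.Prime) (hp2 : p ≠ 2) (A N : Subgroup G) [A.Normal]
    (hAp : ∀ a ∈ A, a ^ p = 1) (f : G) :
    f ∈ omegaStab hp hp2 A N hAp ↔ f ∈ N ∧ f ∈ Subgroup.centralizer (A : Set G) ∧ f ^ p = 1 ∧
      ∀ n ∈ N, n * f * n⁻¹ * f⁻¹ ∈ A := Iff.rfl

/-- In a finite `p`-group, if `A`, `F` are normal and `F ≰ A`, some `f ∈ F \ A` is central modulo `A`. -/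
theorem exists_central_mod [Finite G] {p : ℕ} [Fact p.Prime] (hG : IsPGroup p G)
    (A F : Subgroup G) [A.Normal] [F.Normal] (hAF : ¬ F ≤ A) :
    ∃ f ∈ F, f ∉ A ∧ ∀ g : G, g * f * g⁻¹ * f⁻¹ ∈ A := by
  haveI : (F.map (QuotientGroup.mk' A)).Normal :=
    Subgroup.Normal.map inferInstance _ (QuotientGroup.mk'_surjective _)
  have hne : F.map (QuotientGroup.mk' A) ≠ ⊥ := by
    intro h
    rw [Subgroup.map_eq_bot_iff, QuotientGroup.ker_mk'] at h
    exact hAF h
  obtain ⟨ybar, hyF, hy1, hyc⟩ :=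
    Cfsg.Agent.Lib.Helper12.exists_ne_one_mem_center_of_normal (hG.to_quotient A) _ hne
  obtain ⟨f, hfF, rfl⟩ := Subgroup.mem_map.mp hyF
  refine ⟨f, hfF, ?_, ?_⟩
  · intro hfA
    exact hy1 ((QuotientGroup.eq_one_iff f).mpr hfA)
  · intro g
    have h6 := Subgroup.mem_center_iff.mp hyc (QuotientGroup.mk' A g)
    rw [← QuotientGroup.eq_one_iff, ← QuotientGroup.mk'_apply, map_mul, map_mul, map_mul, map_inv,
      map_inv, h6, mul_inv_cancel_right, mul_inv_cancel]

/-- Relative version of `exists_central_mod` inside a subgroup `H` normalizing `A` and `F`. -/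
theorem exists_central_mod' [Finite G] {p : ℕ} [Fact p.Prime] (hG : IsPGroup p G)
    (H A F : Subgroup G) (hFH : F ≤ H)
    (hHA : H ≤ Subgroup.normalizer (A : Set G)) (hHF : H ≤ Subgroup.normalizer (F : Set G))
    (hAF : ¬ F ≤ A) :
    ∃ f ∈ F, f ∉ A ∧ ∀ g ∈ H, g * f * g⁻¹ * f⁻¹ ∈ A := by
  haveI : (A.subgroupOf H).Normal := Subgroup.normal_subgroupOf_of_le_normalizer hHA
  haveI : (F.subgroupOf H).Normal := Subgroup.normal_subgroupOf_of_le_normalizer hHF
  have h : ¬ F.subgroupOf H ≤ A.subgroupOf H := by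
    intro h
    apply hAF
    intro f hf
    have h1 : (⟨f, hFH hf⟩ : H) ∈ F.subgroupOf H := Subgroup.mem_subgroupOf.mpr hf
    exact Subgroup.mem_subgroupOf.mp (h h1)
  obtain ⟨f, hfF, hfA, hf⟩ :=
    exists_central_mod (hG.to_subgroup H) (A.subgroupOf H) (F.subgroupOf H) h
  refine ⟨f, Subgroup.mem_subgroupOf.mp hfF, fun h => hfA (Subgroup.mem_subgroupOf.mpr h), ?_⟩
  intro g hg
  have h1 := hf ⟨g, hg⟩
  exact Subgroup.mem_subgroupOf.mp h1

/-- **Alperin's lemma.** For odd `p`, if `A` is a maximal normal elementary abelian subgroup of the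
finite `p`-group `G`, then every `x ∈ C_G(A)` with `x ^ p = 1` lies in `A`. -/
theorem alperin [Finite G] {p : ℕ} [Fact p.Prime] (hp2 : p ≠ 2) (hG : IsPGroup p G)
    (A : Subgroup G) [hAn : A.Normal] (hAc : IsMulCommutative A) (hAp : ∀ a ∈ A, a ^ p = 1)
    (hmax : ∀ B : Subgroup G, B.Normal → IsMulCommutative B → (∀ b ∈ B, b ^ p = 1) → A ≤ B →
      B = A)
    (x : G) (hxC : x ∈ Subgroup.centralizer (A : Set G)) (hxp : x ^ p = 1) : x ∈ A := by
  have hp : p.Prime := Fact.out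
  by_contra hxA
  let S : Set G := {x | x ∈ Subgroup.centralizer (A : Set G) ∧ x ^ p = 1 ∧ x ∉ A}
  have hSne : S.Nonempty := ⟨x, hxC, hxp, hxA⟩
  obtain ⟨x0, hx0S, hx0max⟩ :=
    Set.exists_max_image S (fun x => Nat.card (commStab A x)) (Set.toFinite S) hSne
  obtain ⟨hx0C, hx0p, hx0A⟩ := hx0S
  have hAcomm : ∀ a ∈ A, ∀ b ∈ A, a * b = b * a := by
    intro a ha b hb
    have := hAc.is_comm.comm (⟨a, ha⟩ : A) ⟨b, hb⟩
    exact congrArg Subtype.val this
  have hAC : A ≤ Subgroup.centralizer (A : Set G) := by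
    intro a ha
    rw [Subgroup.mem_centralizer_iff]
    intro b hb
    exact hAcomm b hb a ha
  by_cases htop : commStab A x0 = ⊤
  · -- `A ⊔ ⟨x0⟩` is a normal elementary abelian subgroup
    have hall : ∀ g : G, g * x0 * g⁻¹ * x0⁻¹ ∈ A := by
      intro g
      rw [← mem_commStab, htop]; exact Subgroup.mem_top g
    have hZC : Subgroup.zpowers x0 ≤ Subgroup.centralizer (A : Set G) :=
      Subgroup.zpowers_le.mpr hx0C
    have hB1 : A ⊔ Subgroup.zpowers x0 ≤ Subgroup.centralizer (A : Set G) := sup_le hAC hZC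
    have hZZ : Subgroup.zpowers x0 ≤ Subgroup.centralizer (Subgroup.zpowers x0 : Set G) := by
      intro a ha
      rw [Subgroup.mem_centralizer_iff]
      intro b hb
      obtain ⟨i, rfl⟩ := Subgroup.mem_zpowers_iff.mp ha
      obtain ⟨j, rfl⟩ := Subgroup.mem_zpowers_iff.mp hb
      rw [← zpow_add, ← zpow_add, add_comm]
    have hB2 : A ⊔ Subgroup.zpowers x0 ≤ Subgroup.centralizer (Subgroup.zpowers x0 : Set G) :=
      sup_le (Subgroup.le_centralizer_iff.mp hZC) hZZ
    have hBB : A ⊔ Subgroup.zpowers x0 ≤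
        Subgroup.centralizer ((A ⊔ Subgroup.zpowers x0 : Subgroup G) : Set G) := by
      rw [Subgroup.le_centralizer_iff]
      exact sup_le (Subgroup.le_centralizer_iff.mp hB1) (Subgroup.le_centralizer_iff.mp hB2)
    have hBc : IsMulCommutative (A ⊔ Subgroup.zpowers x0 : Subgroup G) := by
      refine ⟨⟨fun a b => ?_⟩⟩
      apply Subtype.ext
      exact (Subgroup.mem_centralizer_iff.mp (hBB b.2) a a.2)
    have hBp : ∀ b ∈ A ⊔ Subgroup.zpowers x0, b ^ p = 1 := by
      intro b hb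
      have h1 : b ∈ ((A ⊔ Subgroup.zpowers x0 : Subgroup G) : Set G) := hb
      rw [Subgroup.normal_mul] at h1
      obtain ⟨a, ha, z, hz, rfl⟩ := Set.mem_mul.mp h1
      have hcomm : Commute a z := (Subgroup.mem_centralizer_iff.mp (hZC hz) a ha)
      rw [hcomm.mul_pow, hAp a ha]
      obtain ⟨i, rfl⟩ := Subgroup.mem_zpowers_iff.mp hz
      rw [← zpow_natCast, ← zpow_mul, mul_comm, zpow_mul, zpow_natCast, hx0p, one_zpow, one_mul]
    have hBn : (A ⊔ Subgroup.zpowers x0 : Subgroup G).Normal := by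
      constructor
      intro b hb g
      have h1 : A ⊔ Subgroup.zpowers x0 ≤
          (A ⊔ Subgroup.zpowers x0 : Subgroup G).comap (MulAut.conj g).toMonoidHom := by
        apply sup_le
        · intro a ha
          rw [Subgroup.mem_comap]
          exact (le_sup_left : A ≤ A ⊔ Subgroup.zpowers x0) (hAn.conj_mem a ha g)
        · rw [Subgroup.zpowers_le, Subgroup.mem_comap]
          have e : (MulAut.conj g).toMonoidHom x0 = (g * x0 * g⁻¹ * x0⁻¹) * x0 := by
            simp [MulAut.conj_apply]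
          rw [e]
          exact Subgroup.mul_mem _ ((le_sup_left : A ≤ A ⊔ Subgroup.zpowers x0) (hall g))
            ((le_sup_right : Subgroup.zpowers x0 ≤ A ⊔ Subgroup.zpowers x0)
              (Subgroup.mem_zpowers x0))
      have h2 := h1 hb
      rw [Subgroup.mem_comap] at h2
      simpa [MulAut.conj_apply] using h2
    have hBA := hmax _ hBn hBc hBp le_sup_left
    apply hx0A
    rw [← hBA]
    exact (le_sup_right : Subgroup.zpowers x0 ≤ A ⊔ Subgroup.zpowers x0) (Subgroup.mem_zpowers x0)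
  · haveI : Group.IsNilpotent G := hG.isNilpotent
    have hlt := Group.normalizerCondition_of_isNilpotent (commStab A x0) (lt_top_iff_ne_top.mpr htop)
    set N := commStab A x0 with hN
    set N2 := Subgroup.normalizer (N : Set G) with hN2
    set F := omegaStab hp hp2 A N hAp with hF
    have hx0F : x0 ∈ F := by
      rw [hF, mem_omegaStab]
      refine ⟨?_, hx0C, hx0p, ?_⟩
      · rw [hN, mem_commStab]; simp
      · intro n hn
        exact (mem_commStab A x0 n).mp hn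
    have hFN : F ≤ N := fun f hf => ((mem_omegaStab hp hp2 A N hAp f).mp hf).1
    have hFA : ¬ F ≤ A := fun h => hx0A (h hx0F)
    have hN2F : N2 ≤ Subgroup.normalizer (F : Set G) := by
      intro g hg
      -- conjugation by g and g⁻¹ preserve F
      have key : ∀ g ∈ N2, ∀ f ∈ F, g * f * g⁻¹ ∈ F := by
        intro g hg f hf
        obtain ⟨hfN, hfC, hfp, hf'⟩ := (mem_omegaStab hp hp2 A N hAp f).mp hf
        rw [hF, mem_omegaStab]
        refine ⟨(Subgroup.mem_normalizer_iff.mp hg f).mp hfN, ?_, ?_, ?_⟩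
        · rw [Subgroup.mem_centralizer_iff]
          intro a ha
          have h1 := Subgroup.mem_centralizer_iff.mp hfC (g⁻¹ * a * g⁻¹⁻¹) (hAn.conj_mem a ha g⁻¹)
          calc a * (g * f * g⁻¹) = g * ((g⁻¹ * a * g⁻¹⁻¹) * f) * g⁻¹ := by group
            _ = g * (f * (g⁻¹ * a * g⁻¹⁻¹)) * g⁻¹ := by rw [h1]
            _ = g * f * g⁻¹ * a := by group
        · rw [conj_pow, hfp, mul_one, mul_inv_cancel]
        · intro n hn
          have hn' : g⁻¹ * n * g⁻¹⁻¹ ∈ N :=
            (Subgroup.mem_normalizer_iff.mp (Subgroup.inv_mem _ hg) n).mp hn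
          have e : n * (g * f * g⁻¹) * n⁻¹ * (g * f * g⁻¹)⁻¹ =
              g * ((g⁻¹ * n * g⁻¹⁻¹) * f * (g⁻¹ * n * g⁻¹⁻¹)⁻¹ * f⁻¹) * g⁻¹ := by group
          rw [e]
          exact hAn.conj_mem _ (hf' _ hn') g
      rw [Subgroup.mem_normalizer_iff]
      intro f
      constructor
      · exact key g hg f
      · intro h
        have h1 := key g⁻¹ (Subgroup.inv_mem _ hg) _ h
        have e : g⁻¹ * (g * f * g⁻¹) * g⁻¹⁻¹ = f := by group
        rwa [e] at h1
    have hN2A : N2 ≤ Subgroup.normalizer (A : Set G) := by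
      rw [Subgroup.normalizer_eq_top]; exact le_top
    obtain ⟨f, hfF, hfA, hf⟩ :=
      exists_central_mod' hG N2 A F (le_trans hFN hlt.le) hN2A hN2F hFA
    obtain ⟨hfN, hfC, hfp, -⟩ := (mem_omegaStab hp hp2 A N hAp f).mp hfF
    have hfS : f ∈ S := ⟨hfC, hfp, hfA⟩
    have h1 : N2 ≤ commStab A f := fun g hg => (mem_commStab A f g).mpr (hf g hg)
    have h2 := hx0max f hfS
    have h3 : Nat.card N < Nat.card N2 := by
      refine lt_of_le_of_ne (Subgroup.card_le_of_le hlt.le) ?_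
      intro h
      exact hlt.ne (Subgroup.eq_of_le_of_card_ge hlt.le h.ge)
    have h4 := Subgroup.card_le_of_le h1
    have h5 : Nat.card (commStab A f) ≤ Nat.card N := h2
    omega

end Cfsg.Agent.Lib.Helper20.NR4
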