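import Mathlib
import Cfsg.Agent.Lib.Helper20.NR4B
import Cfsg.Agent.Lib.Helper8.SupNormalizer
import Cfsg.Agent.Lib.Helper8.Conj
import Cfsg.Agent.Lib.Helper4.Basic

/-!
# Normal elementary abelian subgroups of order `p ^ 4` (helper20), part C

For odd `p`, a finite `p`-group with an elementary abelian subgroup of order `p ^ 4` has a normal one
(`exists_normal_elemAb_card_four`).
-/

set_option autoImplicit false

namespace Cfsg.Agent.Lib.Helper20.NR4

open Cfsg.Agent.Lib.Helper8 Cfsg.Agent.Lib.Helper4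

variable {G : Type*} [Group G]

theorem comm_of_isMulCommutative (E : Subgroup G) (h : IsMulCommutative E) :
    ∀ a ∈ E, ∀ b ∈ E, a * b = b * a := by
  intro a ha b hb
  have := h.is_comm.comm (⟨a, ha⟩ : E) ⟨b, hb⟩
  exact congrArg Subtype.val this

theorem isMulCommutative_of_comm (E : Subgroup G) (h : ∀ a ∈ E, ∀ b ∈ E, a * b = b * a) :
    IsMulCommutative E :=
  ⟨⟨fun a b => Subtype.ext (h a a.2 b b.2)⟩⟩

/-- The join of two elementwise commuting elementary abelian subgroups is elementary abelian. -/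
theorem elemAb_sup {p : ℕ} (A B : Subgroup G) (hAc : ∀ a ∈ A, ∀ b ∈ A, a * b = b * a)
    (hAp : ∀ a ∈ A, a ^ p = 1) (hBc : ∀ a ∈ B, ∀ b ∈ B, a * b = b * a) (hBp : ∀ a ∈ B, a ^ p = 1)
    (hAB : ∀ a ∈ A, ∀ b ∈ B, a * b = b * a) :
    (∀ x ∈ A ⊔ B, ∀ y ∈ A ⊔ B, x * y = y * x) ∧ ∀ x ∈ A ⊔ B, x ^ p = 1 := by
  have h1 : A ≤ Subgroup.centralizer (A : Set G) := fun a ha =>
    Subgroup.mem_centralizer_iff.mpr fun b hb => hAc b hb a ha
  have h2 : B ≤ Subgroup.centralizer (B : Set G) := fun a ha =>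
    Subgroup.mem_centralizer_iff.mpr fun b hb => hBc b hb a ha
  have h3 : B ≤ Subgroup.centralizer (A : Set G) := fun b hb =>
    Subgroup.mem_centralizer_iff.mpr fun a ha => hAB a ha b hb
  have h4 : A ≤ Subgroup.centralizer (B : Set G) := Subgroup.le_centralizer_iff.mp h3
  have h5 : A ⊔ B ≤ Subgroup.centralizer ((A ⊔ B : Subgroup G) : Set G) := by
    rw [Subgroup.le_centralizer_iff]
    exact sup_le (Subgroup.le_centralizer_iff.mp (sup_le h1 h3))
      (Subgroup.le_centralizer_iff.mp (sup_le h4 h2))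
  refine ⟨fun x hx y hy => (Subgroup.mem_centralizer_iff.mp (h5 hy) x hx), ?_⟩
  intro x hx
  have hn : B ≤ Subgroup.normalizer (A : Set G) :=
    le_trans h3 (Subgroup.centralizer_le_normalizer _)
  obtain ⟨a, ha, b, hb, rfl⟩ := mem_sup_of_le_normalizer hn hx
  have hc : Commute a b := hAB a ha b hb
  rw [hc.mul_pow, hAp a ha, hBp b hb, one_mul]

/-- Key step: if `V` is a maximal normal elementary abelian subgroup, of order `p ^ 3`, `D ≤ V` is
normal of order `p ^ 2`, and `E ≥ D` is elementary abelian of order `p ^ 4`, then `E` is normal. -/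
theorem normal_of_maximal_rank_three [Finite G] {p : ℕ} [Fact p.Prime] (hp2 : p ≠ 2)
    (hG : IsPGroup p G) (V D E : Subgroup G) [hVn : V.Normal] [hDn : D.Normal]
    (hVc : IsMulCommutative V) (hVp : ∀ a ∈ V, a ^ p = 1) (hVcard : Nat.card V = p ^ 3)
    (hVmax : ∀ B : Subgroup G, B.Normal → IsMulCommutative B → (∀ b ∈ B, b ^ p = 1) → V ≤ B →
      B = V)
    (hDV : D ≤ V) (hDcard : Nat.card D = p ^ 2)
    (hEc : IsMulCommutative E) (hEp : ∀ a ∈ E, a ^ p = 1) (hEcard : Nat.card E = p ^ 4)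
    (hDE : D ≤ E) : E.Normal := by
  have hp : p.Prime := Fact.out
  have hA : ∀ x ∈ Subgroup.centralizer (V : Set G), x ^ p = 1 → x ∈ V :=
    alperin hp2 hG V hVc hVp hVmax
  have hEcomm := comm_of_isMulCommutative E hEc
  have hVcomm := comm_of_isMulCommutative V hVc
  have hcardVD : Nat.card V = p * Nat.card D := by rw [hVcard, hDcard]; ring
  have hED : E ≤ Subgroup.centralizer (D : Set G) := fun e he =>
    Subgroup.mem_centralizer_iff.mpr fun d hd => hEcomm d (hDE hd) e he
  obtain ⟨v, hvV, hvD⟩ : ∃ v ∈ V, v ∉ D := by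
    by_contra hcon
    push Not at hcon
    have h1 : V ≤ D := hcon
    have h2 := Subgroup.card_le_of_le h1
    rw [hVcard, hDcard] at h2
    exact absurd h2 (not_le.mpr (Nat.pow_lt_pow_right hp.one_lt (by norm_num)))
  have hcentV : ∀ w ∈ V, w ∉ D → ∀ g ∈ Subgroup.centralizer (D : Set G), g * w = w * g →
      g ∈ Subgroup.centralizer (V : Set G) := by
    intro w hw hwD g hg hgw
    rw [eq_sup_zpowers V D hDV hcardVD w hw hwD]
    exact mem_centralizer_sup_zpowers D w g hg hgw
  have hbound : ∀ X : Subgroup G, (∀ x ∈ X, x ^ p = 1) → X ≤ Subgroup.centralizer (D : Set G) →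
      Nat.card X ≤ p ^ 2 * Nat.card (X ⊓ V : Subgroup G) := by
    intro X hXp hXD
    have h1 := relIndex_centralizer_dvd_card' D X v
      (fun g hg z hz => (Subgroup.mem_centralizer_iff.mp (hXD hg) z hz).symm)
      (fun g _ => by
        have h := comm_mem_of_card_eq_mul hG V D hDV hcardVD v hvV g
        have e : v * g * v⁻¹ * g⁻¹ = (g * v * g⁻¹ * v⁻¹)⁻¹ := by group
        rw [e]; exact D.inv_mem h)
    rw [hDcard] at h1
    have h2 : (Subgroup.centralizer ({v} : Set G)).relIndex X ≤ p ^ 2 :=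
      Nat.le_of_dvd (pow_pos hp.pos 2) h1
    have h3 := Cfsg.Agent.Lib.Helper19.relIndex_mul_card_inf (Subgroup.centralizer ({v} : Set G)) X
    have h4 : (Subgroup.centralizer ({v} : Set G) ⊓ X : Subgroup G) ≤ X ⊓ V := by
      intro g hg
      refine ⟨hg.2, hA g (hcentV v hvV hvD g (hXD hg.2) ?_) (hXp g hg.2)⟩
      exact (Subgroup.mem_centralizer_iff.mp hg.1 v (Set.mem_singleton v)).symm
    calc Nat.card X = (Subgroup.centralizer ({v} : Set G)).relIndex X *
          Nat.card (Subgroup.centralizer ({v} : Set G) ⊓ X : Subgroup G) := h3.symm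
      _ ≤ p ^ 2 * Nat.card (X ⊓ V : Subgroup G) := Nat.mul_le_mul h2 (Subgroup.card_le_of_le h4)
  have hEV : E ⊓ V = D := by
    have h1 : D ≤ E ⊓ V := le_inf hDE hDV
    have hne : E ⊓ V ≠ V := by
      intro h
      have hVE : V ≤ E := h ▸ inf_le_left
      have hEV' : E ≤ V := fun e he =>
        hA e (Subgroup.mem_centralizer_iff.mpr fun a ha => hEcomm a (hVE ha) e he) (hEp e he)
      have h2 := Subgroup.card_le_of_le hEV'
      rw [hEcard, hVcard] at h2
      exact absurd h2 (not_le.mpr (Nat.pow_lt_pow_right hp.one_lt (by norm_num)))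
    obtain ⟨m, hm⟩ := Subgroup.card_dvd_of_le h1
    have h2 := Subgroup.card_dvd_of_le (inf_le_right : E ⊓ V ≤ V)
    rw [hm, hcardVD, mul_comm p] at h2
    have h3 : m ∣ p := (Nat.mul_dvd_mul_iff_left Nat.card_pos).mp h2
    rcases (Nat.dvd_prime hp).mp h3 with h4 | h4
    · rw [h4, mul_one] at hm
      exact (Subgroup.eq_of_le_of_card_ge h1 hm.le).symm
    · exfalso
      apply hne
      rw [h4] at hm
      exact Subgroup.eq_of_le_of_card_ge inf_le_right (by rw [hm, hcardVD, mul_comm])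
  have key : ∀ y ∈ Subgroup.normalizer ((Subgroup.normalizer (E : Set G) : Subgroup G) : Set G),
      y ∈ Subgroup.normalizer (E : Set G) := by
    intro y hy
    set N := Subgroup.normalizer (E : Set G) with hN
    set E2 : Subgroup G := E.map (MulAut.conj y).toMonoidHom with hE2
    have hEN : E ≤ N := Subgroup.le_normalizer
    have hE2N : E2 ≤ N := by
      intro g hg
      rw [mem_map_conj] at hg
      have h1 : y⁻¹ * g * y ∈ N := hEN hg
      have h2 := (Subgroup.mem_normalizer_iff.mp hy _).mp h1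
      have e : y * (y⁻¹ * g * y) * y⁻¹ = g := by group
      rwa [e] at h2
    have hNnE2 : N ≤ Subgroup.normalizer (E2 : Set G) := by
      intro n hn
      rw [mem_normalizer_iff_map_conj, hE2, map_conj_map_conj]
      have h1 : y⁻¹ * n * y ∈ N := by
        have := (Subgroup.mem_normalizer_iff.mp (Subgroup.inv_mem _ hy) n).mp hn
        simpa using this
      have h2 : E.map (MulAut.conj (y⁻¹ * n * y)).toMonoidHom = E :=
        mem_normalizer_iff_map_conj.mp h1
      have e : n * y = y * (y⁻¹ * n * y) := by group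
      rw [e, ← map_conj_map_conj, h2]
    have hEnE2 : E ≤ Subgroup.normalizer (E2 : Set G) := le_trans hEN hNnE2
    have hE2comm : ∀ a ∈ E2, ∀ b ∈ E2, a * b = b * a := by
      intro a ha b hb
      rw [mem_map_conj] at ha hb
      have h := hEcomm _ ha _ hb
      have e1 : a * b = y * ((y⁻¹ * a * y) * (y⁻¹ * b * y)) * y⁻¹ := by group
      have e2 : b * a = y * ((y⁻¹ * b * y) * (y⁻¹ * a * y)) * y⁻¹ := by group
      rw [e1, e2, h]
    have hE2p : ∀ a ∈ E2, a ^ p = 1 := by
      intro a ha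
      rw [mem_map_conj] at ha
      have h := hEp _ ha
      have e : a = y * (y⁻¹ * a * y) * y⁻¹ := by group
      rw [e, conj_pow, h, mul_one, mul_inv_cancel]
    have hDE2 : D ≤ E2 := by
      intro d hd
      rw [mem_map_conj]
      apply hDE
      have := hDn.conj_mem d hd y⁻¹
      simpa using this
    set X := E ⊔ E2 with hX
    have hXp : ∀ x ∈ X, x ^ p = 1 := by
      intro x hx
      obtain ⟨a, ha, b, hb, rfl⟩ := mem_sup_of_le_normalizer hE2N hx
      have hz1 : (a * b)⁻¹ * (b * a) ∈ E := by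
        have e : (a * b)⁻¹ * (b * a) = (b⁻¹ * a⁻¹ * b⁻¹⁻¹) * a := by group
        rw [e]
        exact E.mul_mem
          ((Subgroup.mem_normalizer_iff.mp (hE2N (E2.inv_mem hb)) a⁻¹).mp (E.inv_mem ha)) ha
      have hz2 : (a * b)⁻¹ * (b * a) ∈ E2 := by
        have e : (a * b)⁻¹ * (b * a) = b⁻¹ * (a⁻¹ * b * a⁻¹⁻¹) := by group
        rw [e]
        exact E2.mul_mem (E2.inv_mem hb)
          ((Subgroup.mem_normalizer_iff.mp (hEnE2 (E.inv_mem ha)) b).mp hb)
      exact mul_pow_prime_eq_one hp hp2 (hEp a ha) (hE2p b hb) (hEcomm _ hz1 a ha)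
        (hE2comm _ hz2 b hb) (hEp _ hz1)
    have hE2D : E2 ≤ Subgroup.centralizer (D : Set G) := fun e he =>
      Subgroup.mem_centralizer_iff.mpr fun d hd => hE2comm d (hDE2 hd) e he
    have hXD : X ≤ Subgroup.centralizer (D : Set G) := sup_le hED hE2D
    have hXcard := hbound X hXp hXD
    by_contra hyN
    have hE2ne : E2 ≠ E := fun h => hyN (mem_normalizer_iff_map_conj.mpr h)
    have hEX : E ≤ X := le_sup_left
    have hE2X : E2 ≤ X := le_sup_right
    have hXne : E ≠ X := by
      intro h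
      apply hE2ne
      have h1 : E2 ≤ E := h ▸ hE2X
      exact Subgroup.eq_of_le_of_card_ge h1 (by rw [hE2, card_map_conj])
    obtain ⟨k, hk⟩ := (hG.to_subgroup X).exists_card_eq
    have hk5 : 5 ≤ k := by
      by_contra hcon
      push Not at hcon
      have h1 : Nat.card X ≤ p ^ 4 := by
        rw [hk]; exact Nat.pow_le_pow_right hp.pos (by omega)
      exact hXne (Subgroup.eq_of_le_of_card_ge hEX (by rw [hEcard]; exact h1))
    have hXV : Nat.card (X ⊓ V : Subgroup G) ≤ p ^ 3 :=
      hVcard ▸ Subgroup.card_le_of_le inf_le_right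
    have h5 : p ^ 5 ≤ Nat.card X := by rw [hk]; exact Nat.pow_le_pow_right hp.pos hk5
    have hXVeq : Nat.card (X ⊓ V : Subgroup G) = p ^ 3 := by
      have h1 : p ^ 2 * p ^ 3 ≤ p ^ 2 * Nat.card (X ⊓ V : Subgroup G) := by
        rw [← pow_add]; exact le_trans h5 hXcard
      have h2 := Nat.le_of_mul_le_mul_left h1 (pow_pos hp.pos 2)
      omega
    have hVX : V ≤ X := by
      have h1 : X ⊓ V = V := Subgroup.eq_of_le_of_card_ge inf_le_right (by rw [hXVeq, hVcard])
      rw [← h1]; exact inf_le_left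
    have hXcard5 : Nat.card X ≤ p ^ 5 := by
      rw [hXVeq, ← pow_add] at hXcard; exact hXcard
    have hEVsup : E ⊔ V = X := by
      apply Subgroup.eq_of_le_of_card_ge (sup_le hEX hVX)
      have h1 := card_sup_mul_card_inf E V (Subgroup.normalizer_eq_top (H := V) ▸ le_top)
      rw [hEV, hDcard, hEcard, hVcard] at h1
      have h7 : Nat.card (E ⊔ V : Subgroup G) = p ^ 5 := by
        have h2 : Nat.card (E ⊔ V : Subgroup G) * p ^ 2 = p ^ 5 * p ^ 2 := by rw [h1]; ring
        exact Nat.eq_of_mul_eq_mul_right (pow_pos hp.pos 2) h2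
      rw [h7]; exact hXcard5
    obtain ⟨b, hbE2, hbE⟩ : ∃ b ∈ E2, b ∉ E := by
      by_contra hcon
      push Not at hcon
      have h1 : E2 ≤ E := hcon
      exact hE2ne (Subgroup.eq_of_le_of_card_ge h1 (by rw [hE2, card_map_conj]))
    have hbX : b ∈ ((E ⊔ V : Subgroup G) : Set G) := by
      rw [hEVsup]; exact hE2X hbE2
    rw [Subgroup.mul_normal] at hbX
    obtain ⟨e, he, w, hw, rfl⟩ := Set.mem_mul.mp hbX
    have hwD : w ∉ D := fun h => hbE (E.mul_mem he (hDE h))
    have hinter : E2 ⊓ E ≤ D := by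
      rintro g ⟨hg2, hgE⟩
      have h1 : g * (e * w) = (e * w) * g := hE2comm g hg2 _ hbE2
      have h2 : g * e = e * g := hEcomm g hgE e he
      have h3 : g * w = w * g := by
        have h : e * (g * w) = e * (w * g) := by
          rw [← mul_assoc, ← h2, mul_assoc, h1, mul_assoc]
        exact mul_left_cancel h
      have h4 : g ∈ Subgroup.centralizer (V : Set G) := hcentV w hw hwD g (hED hgE) h3
      have h5 : g ∈ V := hA g h4 (hEp g hgE)
      rw [← hEV]; exact ⟨hgE, h5⟩
    have h8 := card_sup_mul_card_inf E2 E hE2N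
    have h9 : Nat.card (E2 ⊓ E : Subgroup G) ≤ p ^ 2 := hDcard ▸ Subgroup.card_le_of_le hinter
    have h10 : Nat.card (E2 ⊔ E : Subgroup G) ≤ p ^ 5 := by rw [sup_comm]; exact hXcard5
    rw [hE2, card_map_conj, hEcard] at h8
    have h11 : p ^ 4 * p ^ 4 ≤ p ^ 5 * p ^ 2 := h8 ▸ Nat.mul_le_mul h10 h9
    rw [← pow_add, ← pow_add] at h11
    exact absurd h11 (not_le.mpr (Nat.pow_lt_pow_right hp.one_lt (by norm_num)))
  haveI : Group.IsNilpotent G := hG.isNilpotent
  have hNtop : Subgroup.normalizer (E : Set G) = ⊤ := by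
    by_contra hne
    have hlt := Group.normalizerCondition_of_isNilpotent (Subgroup.normalizer (E : Set G))
      (lt_top_iff_ne_top.mpr hne)
    exact (not_le_of_gt hlt) key
  exact Subgroup.normalizer_eq_top_iff.mp hNtop

end Cfsg.Agent.Lib.Helper20.NR4
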