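import Mathlib
import Cfsg.Agent.Lib.Helper20.NR4C

/-!
# Normal elementary abelian subgroups of order `p ^ 4` (helper20), part D: the theorem
-/

set_option autoImplicit false

namespace Cfsg.Agent.Lib.Helper20.NR4

open Cfsg.Agent.Lib.Helper8 Cfsg.Agent.Lib.Helper4

variable {G : Type*} [Group G]

/-- For odd `p`, a finite `p`-group containing an elementary abelian subgroup of order `p ^ 4` has a
normal elementary abelian subgroup of order `p ^ 4`. -/
theorem exists_normal_elemAb_card_four [Finite G] {p : ℕ} [Fact p.Prime] (hp2 : p ≠ 2)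
    (hG : IsPGroup p G) (E : Subgroup G) (hEc : IsMulCommutative E) (hEp : ∀ a ∈ E, a ^ p = 1)
    (hEcard : Nat.card E = p ^ 4) :
    ∃ A : Subgroup G, A.Normal ∧ IsMulCommutative A ∧ (∀ a ∈ A, a ^ p = 1) ∧
      Nat.card A = p ^ 4 := by
  have hp : p.Prime := Fact.out
  let S : Set (Subgroup G) := {V | V.Normal ∧ IsMulCommutative V ∧ ∀ a ∈ V, a ^ p = 1}
  have hSne : S.Nonempty :=
    ⟨⊥, inferInstance, isMulCommutative_of_comm ⊥ (by
      intro a ha b hb
      rw [Subgroup.mem_bot] at ha hb
      rw [ha, hb]), by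
      intro a ha
      rw [Subgroup.mem_bot] at ha
      rw [ha, one_pow]⟩
  obtain ⟨V, hVS, hVmax'⟩ :=
    Set.exists_max_image S (fun V => Nat.card V) (Set.toFinite S) hSne
  obtain ⟨hVn, hVc, hVp⟩ := hVS
  haveI := hVn
  have hVmax : ∀ B : Subgroup G, B.Normal → IsMulCommutative B → (∀ b ∈ B, b ^ p = 1) → V ≤ B →
      B = V := by
    intro B hBn hBc hBp hVB
    exact (Subgroup.eq_of_le_of_card_ge hVB (hVmax' B ⟨hBn, hBc, hBp⟩)).symm
  have hVcomm := comm_of_isMulCommutative V hVc
  have hEcomm := comm_of_isMulCommutative E hEc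
  by_cases h4 : p ^ 4 ≤ Nat.card V
  · obtain ⟨A, hAV, hAn, hAcard⟩ := exists_normal_le_card hG V hVp 4 h4
    exact ⟨A, hAn, isMulCommutative_of_comm A fun a ha b hb => hVcomm a (hAV ha) b (hAV hb),
      fun a ha => hVp a (hAV ha), hAcard⟩
  · push Not at h4
    have hA : ∀ x ∈ Subgroup.centralizer (V : Set G), x ^ p = 1 → x ∈ V :=
      alperin hp2 hG V hVc hVp hVmax
    have hECV : (E ⊓ Subgroup.centralizer (V : Set G) : Subgroup G) ≤ V := fun x hx =>
      hA x hx.2 (hEp x hx.1)
    obtain ⟨r, hr⟩ := (hG.to_subgroup V).exists_card_eq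
    have hr4 : r < 4 := by
      by_contra hcon
      push Not at hcon
      have : p ^ 4 ≤ p ^ r := Nat.pow_le_pow_right hp.pos hcon
      omega
    by_cases hr3 : r = 3
    · subst hr3
      obtain ⟨D, hDV, hDn, hDcard⟩ := exists_normal_le_card hG V hVp 2 (by
        rw [hr]; exact Nat.pow_le_pow_right hp.pos (by norm_num))
      haveI := hDn
      have hDp : ∀ a ∈ D, a ^ p = 1 := fun a ha => hVp a (hDV ha)
      have hDcomm : ∀ a ∈ D, ∀ b ∈ D, a * b = b * a := fun a ha b hb =>
        hVcomm a (hDV ha) b (hDV hb)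
      by_cases hDE : D ≤ E
      · exact ⟨E, normal_of_maximal_rank_three hp2 hG V D E hVc hVp hr hVmax hDV hDcard hEc hEp
          hEcard hDE, hEc, hEp, hEcard⟩
      · -- replace `E` by a subgroup of `C_E(D) D` containing `D`
        set E1 : Subgroup G := E ⊓ Subgroup.centralizer (D : Set G) with hE1
        have h1 := card_le_mul_card_inf_centralizer hG D hDp hDcard.le E
        rw [hEcard] at h1
        have hE1card : p ^ 3 ≤ Nat.card E1 := by
          have h2 : p * p ^ 3 ≤ p * Nat.card E1 := by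
            rw [← pow_succ']; exact h1
          exact Nat.le_of_mul_le_mul_left h2 hp.pos
        have hE1comm : ∀ a ∈ E1, ∀ b ∈ E1, a * b = b * a := fun a ha b hb =>
          hEcomm a ha.1 b hb.1
        have hE1p : ∀ a ∈ E1, a ^ p = 1 := fun a ha => hEp a ha.1
        have hE1D : ∀ a ∈ E1, ∀ b ∈ D, a * b = b * a := fun a ha b hb =>
          (Subgroup.mem_centralizer_iff.mp ha.2 b hb).symm
        obtain ⟨hTcomm, hTp⟩ := elemAb_sup (p := p) E1 D hE1comm hE1p hDcomm hDp hE1D
        have h3 := card_sup_mul_card_inf E1 D (Subgroup.normalizer_eq_top (H := D) ▸ le_top)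
        rw [hDcard] at h3
        have hinter : Nat.card (E1 ⊓ D : Subgroup G) ≤ p := by
          have h4 : (E1 ⊓ D : Subgroup G) ≤ D := inf_le_right
          have h5 : (E1 ⊓ D : Subgroup G) ≠ D := by
            intro h
            apply hDE
            intro d hd
            have h6 : d ∈ (E1 ⊓ D : Subgroup G) := by rw [h]; exact hd
            exact h6.1.1
          obtain ⟨j, hj⟩ := (hG.to_subgroup (E1 ⊓ D : Subgroup G)).exists_card_eq
          have hj2 : j < 2 := by
            by_contra hcon
            push Not at hcon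
            have h6 : p ^ 2 ≤ p ^ j := Nat.pow_le_pow_right hp.pos hcon
            exact h5 (Subgroup.eq_of_le_of_card_ge h4 (by rw [hDcard, hj]; exact h6))
          rw [hj]
          calc p ^ j ≤ p ^ 1 := Nat.pow_le_pow_right hp.pos (by omega)
            _ = p := pow_one p
        obtain ⟨t, ht⟩ := (hG.to_subgroup (E1 ⊔ D : Subgroup G)).exists_card_eq
        have ht4 : 4 ≤ t := by
          by_contra hcon
          push Not at hcon
          have h6 : Nat.card (E1 ⊔ D : Subgroup G) ≤ p ^ 3 := by
            rw [ht]; exact Nat.pow_le_pow_right hp.pos (by omega)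
          have h7 : p ^ 3 * p ^ 2 ≤ p ^ 3 * p := by
            calc p ^ 3 * p ^ 2 ≤ Nat.card E1 * p ^ 2 := Nat.mul_le_mul_right _ hE1card
              _ = Nat.card (E1 ⊔ D : Subgroup G) * Nat.card (E1 ⊓ D : Subgroup G) := h3.symm
              _ ≤ p ^ 3 * p := Nat.mul_le_mul h6 hinter
          have h8 := Nat.le_of_mul_le_mul_left h7 (pow_pos hp.pos 3)
          have h9 : p ^ 1 < p ^ 2 := Nat.pow_lt_pow_right hp.one_lt (by norm_num)
          rw [pow_one] at h9
          omega
        obtain ⟨E', hDE', hE'T, hE'card⟩ :=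
          Cfsg.Agent.Lib.Helper11.exists_between_pgroup (p := p) (L := D) (K := E1 ⊔ D) hDcard ht
            le_sup_right (by norm_num : 2 ≤ 4) ht4
        have hE'c : IsMulCommutative E' :=
          isMulCommutative_of_comm E' fun a ha b hb => hTcomm a (hE'T ha) b (hE'T hb)
        have hE'p : ∀ a ∈ E', a ^ p = 1 := fun a ha => hTp a (hE'T ha)
        exact ⟨E', normal_of_maximal_rank_three hp2 hG V D E' hVc hVp hr hVmax hDV hDcard hE'c hE'p
          hE'card hDE', hE'c, hE'p, hE'card⟩
    · exfalso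
      have hr2 : r ≤ 2 := by omega
      have hVcard2 : Nat.card V ≤ p ^ 2 := by
        rw [hr]; exact Nat.pow_le_pow_right hp.pos hr2
      have h1 := card_le_mul_card_inf_centralizer hG V hVp hVcard2 E
      have h2 := Subgroup.card_le_of_le hECV
      have h3 : Nat.card E ≤ p * p ^ 2 :=
        le_trans h1 (Nat.mul_le_mul_left _ (le_trans h2 hVcard2))
      rw [hEcard, ← pow_succ'] at h3
      exact absurd h3 (not_le.mpr (Nat.pow_lt_pow_right hp.one_lt (by norm_num)))

end Cfsg.Agent.Lib.Helper20.NR4
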