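import Mathlib

/-!
# Fixed points of an automorphism of order 3 of an elementary abelian 3-group (helper20)

If `β` is an endomorphism of a finite abelian group `M` of exponent `3` with `β ^ 3 = id`, then
`|M| ≤ |C_M(β)| ^ 3` (because `(β - 1) ^ 3 = 0`).
-/

set_option autoImplicit false

namespace Cfsg.Agent.Lib.Helper20.NR4

theorem aux_add {A : Type*} [AddCommGroup A] (x y z : A) (hy : 3 • y = 0) (hz : 3 • z = 0) :
    ((x - z) - (z - y)) - ((z - y) - (y - x)) = 0 := by
  have h : ((x - z) - (z - y)) - ((z - y) - (y - x)) = 3 • y - 3 • z := by abel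
  rw [h, hy, hz, sub_zero]

theorem aux_mul {W : Type*} [CommGroup W] (x y z : W) (hy : y ^ 3 = 1) (hz : z ^ 3 = 1) :
    ((x / z) / (z / y)) / ((z / y) / (y / x)) = 1 :=
  aux_add (A := Additive W) (Additive.ofMul x) (Additive.ofMul y) (Additive.ofMul z) hy hz

theorem aux_mul' {M : Type*} [Group M] (hc : ∀ a b : M, a * b = b * a) (x y z : M)
    (hy : y ^ 3 = 1) (hz : z ^ 3 = 1) :
    ((x / z) / (z / y)) / ((z / y) / (y / x)) = 1 := by
  letI : CommGroup M := { (inferInstance : Group M) with mul_comm := hc }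
  exact aux_mul x y z hy hz

/-- `|S| ≤ |ker f| |f(S)|`. -/
theorem card_le_card_ker_mul_card_map {M N : Type*} [Group M] [Group N] [Finite M] (f : M →* N)
    (S : Subgroup M) : Nat.card S ≤ Nat.card f.ker * Nat.card (S.map f) := by
  let g : S →* N := f.comp S.subtype
  have h1 : Nat.card S = Nat.card g.ker * Nat.card g.range := by
    rw [← Subgroup.index_ker g, Subgroup.card_mul_index]
  have h2 : g.range = S.map f := by
    rw [MonoidHom.range_comp, Subgroup.range_subtype]
  have h3 : Nat.card g.ker ≤ Nat.card f.ker := by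
    apply Nat.card_le_card_of_injective
      (fun x : g.ker => (⟨((x : S) : M), MonoidHom.mem_ker.mpr (MonoidHom.mem_ker.mp x.2)⟩ : f.ker))
    intro x y hxy
    have h4 := congrArg (fun z : f.ker => (z : M)) hxy
    exact Subtype.ext (Subtype.ext h4)
  rw [h1, h2]
  exact Nat.mul_le_mul_right _ h3

/-- If `f ∘ f ∘ f` is trivial then `|M| ≤ |ker f| ^ 3`. -/
theorem card_le_card_ker_pow_three {M : Type*} [Group M] [Finite M] (f : M →* M)
    (hf : ∀ a, f (f (f a)) = 1) : Nat.card M ≤ Nat.card f.ker ^ 3 := by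
  have h1 := card_le_card_ker_mul_card_map f ⊤
  have h2 := card_le_card_ker_mul_card_map f ((⊤ : Subgroup M).map f)
  have h3 : ((⊤ : Subgroup M).map f).map f ≤ f.ker := by
    rintro _ ⟨_, ⟨a, _, rfl⟩, rfl⟩
    exact MonoidHom.mem_ker.mpr (hf a)
  have h4 := Subgroup.card_le_of_le h3
  rw [Subgroup.card_top] at h1
  calc Nat.card M ≤ Nat.card f.ker * Nat.card ((⊤ : Subgroup M).map f) := h1
    _ ≤ Nat.card f.ker * (Nat.card f.ker * Nat.card (((⊤ : Subgroup M).map f).map f)) :=
        Nat.mul_le_mul_left _ h2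
    _ ≤ Nat.card f.ker * (Nat.card f.ker * Nat.card f.ker) :=
        Nat.mul_le_mul_left _ (Nat.mul_le_mul_left _ h4)
    _ = Nat.card f.ker ^ 3 := by ring

/-- An endomorphism `β` with `β ^ 3 = id` of a finite abelian group of exponent `3` has at least
`|M| ^ (1/3)` fixed points. -/
theorem card_le_card_fixed_pow_three {M : Type*} [Group M] [Finite M]
    (hc : ∀ a b : M, a * b = b * a) (hexp : ∀ a : M, a ^ 3 = 1) (β : M →* M)
    (hβ : ∀ a, β (β (β a)) = a) (C : Subgroup M) (hC : ∀ a, β a = a → a ∈ C) :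
    Nat.card M ≤ Nat.card C ^ 3 := by
  let τ : M →* M :=
    { toFun := fun a => β a / a
      map_one' := by simp
      map_mul' := by
        intro a b
        rw [map_mul, div_eq_mul_inv, div_eq_mul_inv, div_eq_mul_inv, mul_inv_rev]
        calc β a * β b * (b⁻¹ * a⁻¹) = β a * (β b * b⁻¹) * a⁻¹ := by group
          _ = β a * (a⁻¹ * (β b * b⁻¹)) := by rw [mul_assoc, hc (β b * b⁻¹) a⁻¹]
          _ = β a * a⁻¹ * (β b * b⁻¹) := by group }
  have hτ : ∀ a, τ a = β a / a := fun a => rfl
  have h3 : ∀ a, τ (τ (τ a)) = 1 := by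
    intro a
    simp only [hτ, map_div, hβ]
    exact aux_mul' hc a (β a) (β (β a)) (hexp _) (hexp _)
  have h1 := card_le_card_ker_pow_three τ h3
  have h2 : τ.ker ≤ C := by
    intro a ha
    apply hC
    rw [MonoidHom.mem_ker, hτ, div_eq_one] at ha
    exact ha
  exact le_trans h1 (Nat.pow_le_pow_left (Subgroup.card_le_of_le h2) 3)

/-- An element `b` with `b ^ 3 = 1` of a finite group centralizes at least `|W| ^ (1/3)` elements of a
normal elementary abelian 3-subgroup `W`. -/
theorem card_le_card_centralizer_pow_three {P : Type*} [Group P] [Finite P] (W : Subgroup P)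
    [hWn : W.Normal] (hWc : ∀ a ∈ W, ∀ c ∈ W, a * c = c * a) (hWp : ∀ a ∈ W, a ^ 3 = 1)
    (b : P) (hb : b ^ 3 = 1) :
    Nat.card W ≤ Nat.card (W ⊓ Subgroup.centralizer ({b} : Set P) : Subgroup P) ^ 3 := by
  have h1 := card_le_card_fixed_pow_three (M := W)
    (fun a c => Subtype.ext (hWc a a.2 c c.2))
    (fun a => Subtype.ext (by rw [Subgroup.coe_pow, hWp a a.2, Subgroup.coe_one]))
    (MulAut.conjNormal b : MulAut W).toMonoidHom
    (fun a => by
      have h : (MulAut.conjNormal b : MulAut W) ^ 3 = 1 := by rw [← map_pow, hb, map_one]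
      have h' := congrArg (fun e : MulAut W => e a) h
      simpa [pow_succ, MulAut.mul_apply] using h')
    ((W ⊓ Subgroup.centralizer ({b} : Set P) : Subgroup P).subgroupOf W)
    (fun a ha => by
      rw [Subgroup.mem_subgroupOf]
      refine Subgroup.mem_inf.mpr ⟨a.2, ?_⟩
      rw [Subgroup.mem_centralizer_iff]
      intro x hx
      rw [Set.mem_singleton_iff] at hx
      subst hx
      have h2 : x * (a : P) * x⁻¹ = a := by
        have := congrArg Subtype.val ha
        simpa [MulAut.conjNormal_apply] using this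
      calc x * (a : P) = (x * a * x⁻¹) * x := by group
        _ = a * x := by rw [h2])
  have h2 : Nat.card ((W ⊓ Subgroup.centralizer ({b} : Set P) : Subgroup P).subgroupOf W) =
      Nat.card (W ⊓ Subgroup.centralizer ({b} : Set P) : Subgroup P) :=
    Nat.card_congr (Subgroup.subgroupOfEquivOfLe inf_le_left).toEquiv
  rw [h2] at h1
  exact h1

end Cfsg.Agent.Lib.Helper20.NR4
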