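/-
helper20: leaf (N) of S3894 (planner helper18).  A nilpotent subgroup of `GL_n(F)` that contains the regular
unipotent element `u = 1 + Σ e_{i,i+1}` consists of upper triangular matrices.  Pure entry computations: induction
on the upper central series; for `z` in the next term, `z u = t z` with `t = [z,u] u` upper triangular, `t - 1`
conjugate to the nilpotent `u - 1`, hence strictly upper triangular; a column-downward induction finishes.
-/
import Mathlib

set_option autoImplicit false

namespace Cfsg.Agent.Lib.Helper20.NilCovN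

open Matrix
open scoped commutatorElement

variable {F : Type*} [Field F] {n : ℕ}

/-- diagonal entries of a power of an upper triangular matrix -/
theorem diag_pow_of_upper (T : Matrix (Fin n) (Fin n) F) (hT : T.BlockTriangular id) (m : ℕ) (i : Fin n) :
    (T ^ m) i i = (T i i) ^ m := by
  induction m with
  | zero => simp
  | succ m ih =>
    rw [pow_succ, Matrix.mul_apply, pow_succ, ← ih]
    have hpow : (T ^ m).BlockTriangular id := hT.pow m
    apply Finset.sum_eq_single i
    · intro k _ hk
      rcases lt_or_gt_of_ne hk with h | h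
      · rw [hpow (show id k < id i from h), zero_mul]
      · rw [hT (show id i < id k from h), mul_zero]
    · intro h; exact absurd (Finset.mem_univ i) h

/-- a nilpotent upper triangular matrix has zero diagonal -/
theorem diag_eq_zero_of_upper_of_pow (T : Matrix (Fin n) (Fin n) F) (hT : T.BlockTriangular id) (m : ℕ)
    (hm : T ^ m = 0) (i : Fin n) : T i i = 0 := by
  have h := diag_pow_of_upper T hT m i
  rw [hm] at h
  have hm0 : m ≠ 0 := by
    rintro rfl
    simp at h
  exact (pow_eq_zero_iff hm0).mp h.symm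

/-- a strictly upper triangular matrix is nilpotent -/
theorem pow_eq_zero_of_strictUpper (S : Matrix (Fin n) (Fin n) F) (hS : ∀ i j : Fin n, j ≤ i → S i j = 0) :
    S ^ n = 0 := by
  have key : ∀ m : ℕ, ∀ i j : Fin n, (j : ℕ) < (i : ℕ) + m → (S ^ m) i j = 0 := by
    intro m
    induction m with
    | zero =>
      intro i j hij
      rw [pow_zero, Matrix.one_apply_ne]
      intro h; rw [h] at hij; omega
    | succ m ih =>
      intro i j hij
      rw [pow_succ, Matrix.mul_apply]
      apply Finset.sum_eq_zero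
      intro k _
      by_cases hk : (k : ℕ) < (i : ℕ) + m
      · rw [ih i k hk, zero_mul]
      · rw [hS k j (by rw [Fin.le_def]; omega), mul_zero]
  ext i j
  rw [Matrix.zero_apply]
  exact key n i j (by have := j.2; omega)

/-- column-downward induction: `Z N = T Z` with `N` the shift and `T` strictly upper triangular forces `Z` to be
upper triangular -/
theorem upper_of_intertwine (Z N T : Matrix (Fin n) (Fin n) F)
    (hN : ∀ i j : Fin n, N i j = if (i : ℕ) + 1 = (j : ℕ) then 1 else 0)
    (hT : ∀ i j : Fin n, j ≤ i → T i j = 0) (h : Z * N = T * Z) :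
    ∀ i j : Fin n, j < i → Z i j = 0 := by
  have key : ∀ m : ℕ, ∀ i j : Fin n, n ≤ (j : ℕ) + m + 1 → j < i → Z i j = 0 := by
    intro m
    induction m with
    | zero =>
      intro i j hj hji
      exfalso
      have := i.2
      rw [Fin.lt_def] at hji
      omega
    | succ m ih =>
      intro i j hj hji
      have hji' : (j : ℕ) < (i : ℕ) := hji
      have hj1 : (j : ℕ) + 1 < n := by have := i.2; omega
      have e1 : (Z * N) i ⟨(j : ℕ) + 1, hj1⟩ = Z i j := by
        rw [Matrix.mul_apply]
        rw [Finset.sum_eq_single j]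
        · rw [hN]; simp
        · intro k _ hk
          rw [hN, if_neg, mul_zero]
          intro hk'
          apply hk
          apply Fin.ext
          simp only at hk'
          omega
        · intro h; exact absurd (Finset.mem_univ j) h
      have e2 : (T * Z) i ⟨(j : ℕ) + 1, hj1⟩ = 0 := by
        rw [Matrix.mul_apply]
        apply Finset.sum_eq_zero
        intro k _
        by_cases hk : k ≤ i
        · rw [hT i k hk, zero_mul]
        · have hk' : (i : ℕ) < (k : ℕ) := by
            rw [Fin.le_def] at hk; omega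
          rw [ih k ⟨(j : ℕ) + 1, hj1⟩ (by simp only; omega) (by rw [Fin.lt_def]; simp only; omega), mul_zero]
      rw [← e1, h, e2]
  intro i j hji
  exact key n i j (by omega) hji

/-- **Lemma (N).**  A nilpotent subgroup of `GL_n(F)` containing the regular unipotent element (given by its
entries) consists of upper triangular matrices. -/
theorem upper_of_nilpotent (A : Subgroup (GL (Fin n) F)) (hA : Group.IsNilpotent ↥A) (u : GL (Fin n) F)
    (hu : ∀ i j : Fin n, (u : Matrix (Fin n) (Fin n) F) i j = if i = j ∨ (i : ℕ) + 1 = (j : ℕ) then 1 else 0)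
    (huA : u ∈ A) : ∀ g ∈ A, ∀ i j : Fin n, j < i → (g : Matrix (Fin n) (Fin n) F) i j = 0 := by
  obtain ⟨c, hc⟩ := hA.nilpotent'
  -- the shift matrix
  obtain ⟨N, hNdef⟩ : ∃ N : Matrix (Fin n) (Fin n) F, N = (u : Matrix (Fin n) (Fin n) F) - 1 := ⟨_, rfl⟩
  have hN : ∀ i j : Fin n, N i j = if (i : ℕ) + 1 = (j : ℕ) then 1 else 0 := by
    intro i j
    rw [hNdef, Matrix.sub_apply, hu]
    by_cases hij : i = j
    · subst hij
      simp
    · rw [Matrix.one_apply_ne hij, sub_zero]
      by_cases h1 : (i : ℕ) + 1 = (j : ℕ)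
      · simp [h1]
      · simp [h1, hij]
  have hNstrict : ∀ i j : Fin n, j ≤ i → N i j = 0 := by
    intro i j hji
    rw [hN, if_neg]
    rw [Fin.le_def] at hji
    omega
  have hNpow : N ^ n = 0 := pow_eq_zero_of_strictUpper N hNstrict
  have hUupper : (u : Matrix (Fin n) (Fin n) F).BlockTriangular id := by
    intro i j hji
    have hji' : (j : ℕ) < (i : ℕ) := hji
    rw [hu, if_neg]
    rintro (h | h)
    · rw [h] at hji'; omega
    · omega
  -- induction on the upper central series
  have main : ∀ k : ℕ, ∀ z : ↥A, z ∈ Subgroup.upperCentralSeries ↥A k →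
      ((z : GL (Fin n) F) : Matrix (Fin n) (Fin n) F).BlockTriangular id := by
    intro k
    induction k with
    | zero =>
      intro z hz
      rw [Subgroup.upperCentralSeries_zero, Subgroup.mem_bot] at hz
      rw [hz]
      exact Matrix.blockTriangular_one
    | succ k ih =>
      intro z hz
      rw [Subgroup.mem_upperCentralSeries_succ_iff] at hz
      have hc1 := ih _ (hz ⟨u, huA⟩)
      -- t = [z,u] u = z u z⁻¹
      obtain ⟨Z, hZ⟩ : ∃ Z : Matrix (Fin n) (Fin n) F, Z = ((z : GL (Fin n) F) : Matrix (Fin n) (Fin n) F) :=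
        ⟨_, rfl⟩
      obtain ⟨Z', hZ'⟩ : ∃ Z' : Matrix (Fin n) (Fin n) F,
          Z' = (((z : GL (Fin n) F)⁻¹ : GL (Fin n) F) : Matrix (Fin n) (Fin n) F) := ⟨_, rfl⟩
      have hZZ' : Z * Z' = 1 := by
        rw [hZ, hZ', ← Units.val_mul, mul_inv_cancel, Units.val_one]
      have hZ'Z : Z' * Z = 1 := by
        rw [hZ, hZ', ← Units.val_mul, inv_mul_cancel, Units.val_one]
      obtain ⟨t, ht⟩ : ∃ t : Matrix (Fin n) (Fin n) F, t = Z * (u : Matrix (Fin n) (Fin n) F) * Z' := ⟨_, rfl⟩
      have htupper : t.BlockTriangular id := by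
        have h1 : ((⁅z, (⟨u, huA⟩ : ↥A)⁆ : ↥A) : GL (Fin n) F) * u = (z : GL (Fin n) F) * u * (z : GL (Fin n) F)⁻¹ := by
          rw [commutatorElement_def]
          simp only [Subgroup.coe_mul, Subgroup.coe_inv]
          group
        have h2 : t = (((⁅z, (⟨u, huA⟩ : ↥A)⁆ : ↥A) : GL (Fin n) F) : Matrix (Fin n) (Fin n) F) *
            (u : Matrix (Fin n) (Fin n) F) := by
          rw [ht, hZ, hZ', ← Units.val_mul, ← Units.val_mul, ← Units.val_mul, h1]
        rw [h2]
        exact hc1.mul hUupper
      -- T = t - 1 = Z N Z'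
      obtain ⟨T, hTdef⟩ : ∃ T : Matrix (Fin n) (Fin n) F, T = t - 1 := ⟨_, rfl⟩
      have hTconj : T = Z * N * Z' := by
        rw [hTdef, ht, hNdef, Matrix.mul_sub, Matrix.sub_mul, Matrix.mul_one, hZZ']
      have hTupper : T.BlockTriangular id := by
        rw [hTdef]; exact htupper.sub Matrix.blockTriangular_one
      have hTpow : T ^ n = 0 := by
        have hconj : ∀ m : ℕ, T ^ m = Z * N ^ m * Z' := by
          intro m
          induction m with
          | zero => rw [pow_zero, pow_zero, Matrix.mul_one, hZZ']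
          | succ m ihm =>
            rw [pow_succ, ihm, pow_succ, hTconj]
            calc Z * N ^ m * Z' * (Z * N * Z') = Z * N ^ m * (Z' * Z) * N * Z' := by
                  simp only [Matrix.mul_assoc]
              _ = Z * (N ^ m * N) * Z' := by rw [hZ'Z, Matrix.mul_one, Matrix.mul_assoc Z]
        rw [hconj n, hNpow, Matrix.mul_zero, Matrix.zero_mul]
      have hTstrict : ∀ i j : Fin n, j ≤ i → T i j = 0 := by
        intro i j hji
        rcases lt_or_eq_of_le hji with h | h
        · exact hTupper (show id j < id i from h)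
        · rw [h]; exact diag_eq_zero_of_upper_of_pow T hTupper n hTpow i
      have hint : Z * N = T * Z := by
        rw [hTconj, Matrix.mul_assoc, Matrix.mul_assoc, hZ'Z, Matrix.mul_one]
      have hfin := upper_of_intertwine Z N T hN hTstrict hint
      rw [← hZ]
      intro i j hji
      exact hfin i j hji
  intro g hg i j hji
  have hmem : (⟨g, hg⟩ : ↥A) ∈ Subgroup.upperCentralSeries ↥A c := by rw [hc]; exact Subgroup.mem_top _
  exact main c ⟨g, hg⟩ hmem (show id j < id i from hji)

/-- `BlockTriangular` form of Lemma (N). -/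
theorem blockTriangular_of_nilpotent (A : Subgroup (GL (Fin n) F)) (hA : Group.IsNilpotent ↥A) (u : GL (Fin n) F)
    (hu : ∀ i j : Fin n, (u : Matrix (Fin n) (Fin n) F) i j = if i = j ∨ (i : ℕ) + 1 = (j : ℕ) then 1 else 0)
    (huA : u ∈ A) (g : GL (Fin n) F) (hg : g ∈ A) : (g : Matrix (Fin n) (Fin n) F).BlockTriangular id :=
  fun i j hji => upper_of_nilpotent A hA u hu huA g hg i j hji

/-- first column: all entries below the top one vanish -/
theorem first_col_of_nilpotent (A : Subgroup (GL (Fin n) F)) (hA : Group.IsNilpotent ↥A) (u : GL (Fin n) F)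
    (hu : ∀ i j : Fin n, (u : Matrix (Fin n) (Fin n) F) i j = if i = j ∨ (i : ℕ) + 1 = (j : ℕ) then 1 else 0)
    (huA : u ∈ A) (h0 : 0 < n) (g : GL (Fin n) F) (hg : g ∈ A) (i : Fin n) (hi : i ≠ ⟨0, h0⟩) :
    (g : Matrix (Fin n) (Fin n) F) i ⟨0, h0⟩ = 0 := by
  apply upper_of_nilpotent A hA u hu huA g hg i ⟨0, h0⟩
  rw [Fin.lt_def]
  have : (i : ℕ) ≠ 0 := fun h => hi (Fin.ext h)
  simp only
  omega

/-- every element of the group fixes the line spanned by the first basis vector -/
theorem mulVec_single_zero_of_nilpotent (A : Subgroup (GL (Fin n) F)) (hA : Group.IsNilpotent ↥A)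
    (u : GL (Fin n) F)
    (hu : ∀ i j : Fin n, (u : Matrix (Fin n) (Fin n) F) i j = if i = j ∨ (i : ℕ) + 1 = (j : ℕ) then 1 else 0)
    (huA : u ∈ A) (h0 : 0 < n) (g : GL (Fin n) F) (hg : g ∈ A) :
    (g : Matrix (Fin n) (Fin n) F).mulVec (Pi.single (⟨0, h0⟩ : Fin n) (1 : F)) =
      ((g : Matrix (Fin n) (Fin n) F) ⟨0, h0⟩ ⟨0, h0⟩) • (Pi.single (⟨0, h0⟩ : Fin n) (1 : F)) := by
  ext i
  rw [Matrix.mulVec_single_one, Matrix.col_apply, Pi.smul_apply, smul_eq_mul]
  by_cases hi : i = ⟨0, h0⟩
  · rw [hi, Pi.single_eq_same, mul_one]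
  · rw [Pi.single_eq_of_ne hi, mul_zero]
    exact first_col_of_nilpotent A hA u hu huA h0 g hg i hi

end Cfsg.Agent.Lib.Helper20.NilCovN
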