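import Mathlib
import Cfsg.Agent.Lib.Helper20.NilSymJ

/-!
Extremal nilpotent subgroups of `A_n`, `n ≡ 3 (mod 4)`, contain a 3-cycle (helper20).
-/

set_option autoImplicit false

namespace Cfsg.Agent.Lib.Helper20.NilSym

open Subgroup MulAction Equiv Equiv.Perm

open Cfsg.Agent.Lib.Helper20.SymGen

theorem E_lt_two_B (n : ℕ) (h0 : n ≠ 0) (h1 : n ≠ 1) (h3 : n ≠ 3) : E n < 2 * B n := by
  rcases E_cases n with rfl | rfl | rfl | rfl | rfl | rfl | h
  · exact absurd rfl h0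
  · exact absurd rfl h1
  · exact absurd rfl h3
  · rw [B_5, E_5]; norm_num
  · rw [B_6, E_6]; norm_num
  · rw [B_9, E_9]; norm_num
  · rw [h]
    have := B_pos n
    omega

theorem E_lt_succ_of_mod_two (b : ℕ) (hb : b % 4 = 2) : E b < E (b + 1) := by
  obtain ⟨y, rfl⟩ : ∃ y, b = 4 * y + 2 := ⟨b / 4, by omega⟩
  rcases Nat.lt_or_ge y 2 with hy | hy
  · interval_cases y
    · rw [show 4 * 0 + 2 = 2 from rfl, E_2, E_3]; norm_num
    · rw [show 4 * 1 + 2 = 6 from rfl, E_6, E_7]; norm_num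
  · rw [E_of_ne (by omega) (by omega) (by omega) (by omega) (by omega) (by omega),
      E_of_ne (by omega) (by omega) (by omega) (by omega) (by omega) (by omega), B_two,
      show 4 * y + 2 + 1 = 4 * y + 3 from rfl, B_three]
    have : 3 * y + 1 + v2f y = (3 * y + v2f y) + 1 := by ring
    rw [this, pow_succ]
    have : 0 < 4 ^ (3 * y + v2f y) := by positivity
    omega

theorem E_mul_eq_cases {a b : ℕ} (ha : 0 < a) (hb : 0 < b) (hab : (a + b) % 4 = 3)
    (h : E a * E b = 4 * E (a + b)) : (a = 3 ∧ b % 4 = 0) ∨ (b = 3 ∧ a % 4 = 0) := by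
  by_cases ha3 : a = 3
  · left; exact ⟨ha3, by omega⟩
  by_cases hb3 : b = 3
  · right; exact ⟨hb3, by omega⟩
  exfalso
  by_cases ha1 : a = 1
  · subst ha1
    rw [E_1, add_comm] at h
    have := E_lt_succ_of_mod_two b (by omega)
    omega
  by_cases hb1 : b = 1
  · subst hb1
    rw [E_1] at h
    have := E_lt_succ_of_mod_two a (by omega)
    omega
  have h1 := E_lt_two_B a (by omega) ha1 ha3
  have h2 := E_lt_two_B b (by omega) hb1 hb3
  have h3 : E a * E b < (2 * B a) * (2 * B b) := by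
    calc E a * E b ≤ E a * (2 * B b) := Nat.mul_le_mul_left _ h2.le
      _ < (2 * B a) * (2 * B b) := Nat.mul_lt_mul_of_pos_right h1 (by have := B_pos b; omega)
  have h4 : (2 * B a) * (2 * B b) = 4 * (B a * B b) := by ring
  have h5 := B_mul_le a b
  have h6 := B_le_E (a + b)
  omega

/-- extraction of equalities, both restrictions even -/
theorem eq_of_chain_E {k k1 k2 a b n : ℕ} (hle : k ≤ k1 * k2) (h1 : 4 * k1 ^ 2 ≤ E a)
    (h2 : 4 * k2 ^ 2 ≤ E b) (hab : a + b = n) (hk : 4 * k ^ 2 = E n) :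
    4 * k1 ^ 2 = E a ∧ 4 * k2 ^ 2 = E b ∧ E a * E b = 4 * E (a + b) := by
  have h3 : k ^ 2 ≤ (k1 * k2) ^ 2 := Nat.pow_le_pow_left hle 2
  have h4 : (k1 * k2) ^ 2 = k1 ^ 2 * k2 ^ 2 := mul_pow _ _ _
  have h5 : (4 * k1 ^ 2) * (4 * k2 ^ 2) ≤ E a * E b := Nat.mul_le_mul h1 h2
  have h6 := E_mul_le a b
  rw [hab] at h6 ⊢
  have h7 : (4 * k1 ^ 2) * (4 * k2 ^ 2) = 16 * (k1 ^ 2 * k2 ^ 2) := by ring
  have e2 : (4 * k1 ^ 2) * (4 * k2 ^ 2) = E a * E b := by omega
  have e3 : E a * E b = 4 * E n := by omega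
  have hEa : 0 < E a := lt_of_lt_of_le (B_pos a) (B_le_E a)
  have hEb : 0 < E b := lt_of_lt_of_le (B_pos b) (B_le_E b)
  refine ⟨?_, ?_, e3⟩
  · by_contra hne
    have hlt : 4 * k1 ^ 2 < E a := lt_of_le_of_ne h1 hne
    have : (4 * k1 ^ 2) * (4 * k2 ^ 2) < E a * E b := by
      calc (4 * k1 ^ 2) * (4 * k2 ^ 2) ≤ (4 * k1 ^ 2) * E b := Nat.mul_le_mul_left _ h2
        _ < E a * E b := Nat.mul_lt_mul_of_pos_right hlt hEb
    omega
  · by_contra hne
    have hlt : 4 * k2 ^ 2 < E b := lt_of_le_of_ne h2 hne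
    have : (4 * k1 ^ 2) * (4 * k2 ^ 2) < E a * E b := by
      calc (4 * k1 ^ 2) * (4 * k2 ^ 2) ≤ E a * (4 * k2 ^ 2) := Nat.mul_le_mul_right _ h1
        _ < E a * E b := Nat.mul_lt_mul_of_pos_left hlt hEa
    omega

theorem isThreeCycle_pow_two_pow {α : Type} [Fintype α] [DecidableEq α] {u : Perm α}
    (h : u.IsThreeCycle) (t : ℕ) : (u ^ 2 ^ t).IsThreeCycle := by
  induction t with
  | zero => simpa using h
  | succ t ih =>
    have : u ^ 2 ^ (t + 1) = u ^ 2 ^ t * u ^ 2 ^ t := by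
      rw [pow_succ, pow_mul, pow_two]
    rw [this]
    exact ih.isThreeCycle_sq

/-- lifting a 3-cycle of one restriction when the other restriction is a 2-group -/
theorem threeCycle_of_parts {α : Type} [Fintype α] [DecidableEq α] (N : Subgroup (Perm α))
    (g u v : Perm α) (hg : g ∈ N) (hguv : g = u * v) (huv : Commute u v) (t : ℕ)
    (h : (u.IsThreeCycle ∧ v ^ 2 ^ t = 1) ∨ (v.IsThreeCycle ∧ u ^ 2 ^ t = 1)) :
    ∃ c ∈ N, c.IsThreeCycle := by
  refine ⟨g ^ 2 ^ t, N.pow_mem hg _, ?_⟩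
  rw [hguv, huv.mul_pow]
  rcases h with ⟨h3, h1⟩ | ⟨h3, h1⟩
  · rw [h1, mul_one]; exact isThreeCycle_pow_two_pow h3 t
  · rw [h1, one_mul]; exact isThreeCycle_pow_two_pow h3 t

end Cfsg.Agent.Lib.Helper20.NilSym
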