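import Mathlib
import Cfsg.Agent.Lib.Helper20.NilSymK

/-!
Extremal nilpotent subgroups of `A_n`, `n ≡ 3 (mod 4)`, contain a 3-cycle (helper20), part 2.
-/

set_option autoImplicit false

namespace Cfsg.Agent.Lib.Helper20.NilSym

open Subgroup MulAction Equiv Equiv.Perm

open Cfsg.Agent.Lib.Helper20.SymGen

theorem pow_card_range_eq_one {G H : Type*} [Group G] [Group H] (f : G →* H) [Finite f.range]
    (g : G) (t : ℕ) (ht : Nat.card f.range = t) : (f g) ^ t = 1 := by
  have := pow_card_eq_one' (G := f.range) (x := ⟨f g, ⟨g, rfl⟩⟩)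
  rw [ht] at this
  exact congrArg Subtype.val this

theorem lift_left {α : Type} [Fintype α] [DecidableEq α] (N : Subgroup (Perm α))
    (q : α → Prop) [DecidablePred q]
    (hq : ∀ g ∈ N, ∀ x, q (g x) ↔ q x) (hq' : ∀ g ∈ N, ∀ x, ¬ q (g x) ↔ ¬ q x)
    (c : Perm (Subtype q)) (hc : c ∈ (resHom N q hq).range) (hc3 : c.IsThreeCycle) (t : ℕ)
    (ht : Nat.card (resHom N (fun x => ¬ q x) hq').range = 2 ^ t) : ∃ c ∈ N, c.IsThreeCycle := by
  obtain ⟨g, rfl⟩ := hc
  apply threeCycle_of_parts N (g : Perm α) _ _ g.2 (eq_mul_of_res N q hq hq' g)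
    (commute_ofSubtype_compl _ _) t
  left
  constructor
  · rw [IsThreeCycle, cycleType_ofSubtype]; exact hc3
  · rw [← map_pow, pow_card_range_eq_one _ g _ ht, map_one]

theorem lift_right {α : Type} [Fintype α] [DecidableEq α] (N : Subgroup (Perm α))
    (q : α → Prop) [DecidablePred q]
    (hq : ∀ g ∈ N, ∀ x, q (g x) ↔ q x) (hq' : ∀ g ∈ N, ∀ x, ¬ q (g x) ↔ ¬ q x)
    (c : Perm {x // ¬ q x}) (hc : c ∈ (resHom N (fun x => ¬ q x) hq').range)
    (hc3 : c.IsThreeCycle) (t : ℕ)
    (ht : Nat.card (resHom N q hq).range = 2 ^ t) : ∃ c ∈ N, c.IsThreeCycle := by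
  obtain ⟨g, rfl⟩ := hc
  apply threeCycle_of_parts N (g : Perm α) _ _ g.2 (eq_mul_of_res N q hq hq' g)
    (commute_ofSubtype_compl _ _) t
  right
  constructor
  · rw [IsThreeCycle, cycleType_ofSubtype]; exact hc3
  · rw [← map_pow, pow_card_range_eq_one _ g _ ht, map_one]

/-- a subgroup of order 3 of the symmetric group on three letters contains a 3-cycle -/
theorem exists_threeCycle_of_card_three {β : Type} [Fintype β] [DecidableEq β]
    (hβ : Nat.card β = 3) (M : Subgroup (Perm β)) (hM : Nat.card M = 3) :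
    ∃ c ∈ M, c.IsThreeCycle := by
  haveI : Fact (Nat.Prime 3) := ⟨Nat.prime_three⟩
  have hβ' : Fintype.card β = 3 := by rw [← Nat.card_eq_fintype_card, hβ]
  obtain ⟨g, hg⟩ := exists_prime_orderOf_dvd_card' (G := M) 3 (by rw [hM])
  refine ⟨(g : Perm β), g.2, isThreeCycle_of_card_three hβ' _ ?_⟩
  rw [Subgroup.orderOf_coe]; exact hg

theorem card_eq_two_pow_of_sq {k e : ℕ} (h : k ^ 2 = 4 ^ e) : k = 2 ^ e := by
  have : k ^ 2 = (2 ^ e) ^ 2 := by
    rw [h, ← pow_mul, mul_comm, pow_mul]; norm_num
  exact Nat.pow_left_injective (by norm_num : 2 ≠ 0) this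

theorem exists_threeCycle_of_eq_alt {α : Type} [Fintype α] [DecidableEq α] (x : ℕ)
    (hcard : Nat.card α = 4 * x + 3) (N : Subgroup (Perm α)) (hN : Group.IsNilpotent N)
    (hev : ∀ g ∈ N, sign g = 1) (hk : 4 * (Nat.card N) ^ 2 = E (4 * x + 3)) :
    ∃ c ∈ N, c.IsThreeCycle := by
  classical
  haveI hne : Nonempty α := by
    rw [← Finite.card_pos_iff (α := α), hcard]; omega
  by_cases htr : IsPretransitive N α
  · have hH := H_of_transitive (G := N) (X := α) hN
    rw [hcard] at hH
    have h2 := hH 2 Nat.prime_two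
    have hf0 : (4 * x + 3).factorization 2 = 0 :=
      Nat.factorization_eq_zero_of_not_dvd (by omega)
    rw [hf0, pow_zero, Nat.factorial_one, Nat.dvd_one] at h2
    have hodd : ¬ 2 ∣ Nat.card N := by
      intro hdvd
      have hpos : 0 < (Nat.card N).factorization 2 :=
        Nat.prime_two.factorization_pos_of_dvd Nat.card_pos.ne' hdvd
      have : 1 < 2 ^ (Nat.card N).factorization 2 := Nat.one_lt_pow hpos.ne' (by norm_num)
      omega
    rcases Nat.eq_zero_or_pos x with rfl | hx
    · have hE3 : E (4 * 0 + 3) = 36 := E_3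
      rw [hE3] at hk
      have hk3 : Nat.card N = 3 := by
        have : (Nat.card N) ^ 2 = 3 ^ 2 := by omega
        exact Nat.pow_left_injective (by norm_num : 2 ≠ 0) this
      exact exists_threeCycle_of_card_three (by rw [hcard]) N hk3
    · exfalso
      rw [E_of_ne (by omega) (by omega) (by omega) (by omega) (by omega) (by omega), B_three] at hk
      obtain ⟨s, hs⟩ : ∃ s, 3 * x + v2f x = s + 2 := ⟨3 * x + v2f x - 2, by omega⟩
      rw [hs, pow_add] at hk
      apply hodd
      have h4 : (Nat.card N) ^ 2 = 2 * (2 * 9 * 4 ^ s) := by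
        have : (4 : ℕ) ^ 2 = 16 := by norm_num
        rw [this] at hk
        omega
      exact Nat.prime_two.dvd_of_dvd_pow (Dvd.intro _ h4.symm)
  · obtain ⟨x1, y1, hxy⟩ : ∃ x1 y1 : α, y1 ∉ orbit N x1 := by
      by_contra hcon
      push Not at hcon
      apply htr
      refine ⟨fun a b => ?_⟩
      exact hcon a b
    let q : α → Prop := fun z => z ∈ orbit N x1
    have hq : ∀ g ∈ N, ∀ z, q (g z) ↔ q z := by
      intro g hg z
      change (g z) ∈ orbit N x1 ↔ z ∈ orbit N x1
      have e : g z = (⟨g, hg⟩ : N) • z := rfl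
      rw [e, ← MulAction.orbit_eq_iff, ← MulAction.orbit_eq_iff, MulAction.orbit_smul]
    have hq' : ∀ g ∈ N, ∀ z, ¬ q (g z) ↔ ¬ q z := fun g hg z => not_congr (hq g hg z)
    have hle := card_le_mul_of_invariant N q hq hq'
    have ha : 0 < Nat.card (Subtype q) := by
      haveI : Nonempty (Subtype q) := ⟨⟨x1, mem_orbit_self x1⟩⟩
      exact Nat.card_pos
    have hb : 0 < Nat.card {z // ¬ q z} := by
      haveI : Nonempty {z // ¬ q z} := ⟨⟨y1, hxy⟩⟩
      exact Nat.card_pos
    have hab : Nat.card (Subtype q) + Nat.card {z // ¬ q z} = 4 * x + 3 := by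
      rw [← hcard, ← Nat.card_sum]
      exact Nat.card_congr (Equiv.sumCompl q)
    have hN1 : Group.IsNilpotent (resHom N q hq).range :=
      Group.nilpotent_of_surjective (resHom N q hq).rangeRestrict
        (resHom N q hq).rangeRestrict_surjective
    have hN2 : Group.IsNilpotent (resHom N (fun z => ¬ q z) hq').range :=
      Group.nilpotent_of_surjective (resHom N (fun z => ¬ q z) hq').rangeRestrict
        (resHom N (fun z => ¬ q z) hq').rangeRestrict_surjective
    by_cases heven : (∀ r ∈ (resHom N q hq).range, sign r = 1) ∧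
        (∀ r ∈ (resHom N (fun z => ¬ q z) hq').range, sign r = 1)
    · have h1 := four_sq_card_le_E (Nat.card (Subtype q)) (Subtype q) rfl _ hN1 heven.1
      have h2 := four_sq_card_le_E (Nat.card {z // ¬ q z}) {z // ¬ q z} rfl _ hN2 heven.2
      obtain ⟨e1, e2, e3⟩ := eq_of_chain_E hle h1 h2 hab hk
      rcases E_mul_eq_cases ha hb (by rw [hab]; omega) e3 with ⟨ha3, hb0⟩ | ⟨hb3, ha0⟩
      · rw [ha3, E_3] at e1
        have hk3 : Nat.card (resHom N q hq).range = 3 := by
          have : (Nat.card (resHom N q hq).range) ^ 2 = 3 ^ 2 := by omega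
          exact Nat.pow_left_injective (by norm_num : 2 ≠ 0) this
        obtain ⟨c, hc, hc3⟩ := exists_threeCycle_of_card_three ha3 _ hk3
        obtain ⟨y, hy⟩ : ∃ y, Nat.card {z // ¬ q z} = 4 * y :=
          ⟨Nat.card {z // ¬ q z} / 4, by omega⟩
        rw [hy, E_of_ne (by omega) (by omega) (by omega) (by omega) (by omega) (by omega),
          B_zero] at e2
        obtain ⟨s, hs⟩ : ∃ s, 3 * y + v2f y = s + 1 := ⟨3 * y + v2f y - 1, by omega⟩
        rw [hs, pow_succ 4 s] at e2
        have e2' : (Nat.card (resHom N (fun z => ¬ q z) hq').range) ^ 2 = 4 ^ s := by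
          omega
        exact lift_left N q hq hq' c hc hc3 s (card_eq_two_pow_of_sq e2')
      · rw [hb3, E_3] at e2
        have hk3 : Nat.card (resHom N (fun z => ¬ q z) hq').range = 3 := by
          have : (Nat.card (resHom N (fun z => ¬ q z) hq').range) ^ 2 = 3 ^ 2 := by omega
          exact Nat.pow_left_injective (by norm_num : 2 ≠ 0) this
        obtain ⟨c, hc, hc3⟩ := exists_threeCycle_of_card_three hb3 _ hk3
        obtain ⟨y, hy⟩ : ∃ y, Nat.card (Subtype q) = 4 * y :=
          ⟨Nat.card (Subtype q) / 4, by omega⟩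
        rw [hy, E_of_ne (by omega) (by omega) (by omega) (by omega) (by omega) (by omega),
          B_zero] at e1
        obtain ⟨s, hs⟩ : ∃ s, 3 * y + v2f y = s + 1 := ⟨3 * y + v2f y - 1, by omega⟩
        rw [hs, pow_succ 4 s] at e1
        have e1' : (Nat.card (resHom N q hq).range) ^ 2 = 4 ^ s := by omega
        exact lift_right N q hq hq' c hc hc3 s (card_eq_two_pow_of_sq e1')
    · have hodd : ∃ g : N, sign (resHom N q hq g) = -1 := by
        by_contra hcon
        push Not at hcon
        apply heven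
        have hall : ∀ g : N, sign (resHom N q hq g) = 1 := by
          intro g
          rcases Int.units_eq_one_or (sign (resHom N q hq g)) with h | h
          · exact h
          · exact absurd h (hcon g)
        constructor
        · rintro r ⟨g, rfl⟩
          exact hall g
        · rintro r ⟨g, rfl⟩
          have := sign_eq_mul_res N q hq hq' g
          rw [hev g g.2, hall g, one_mul] at this
          exact this.symm
      obtain ⟨g₀, hg₀⟩ := hodd
      have h1 := two_mul_card_le N hev q hq hq' g₀ hg₀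
      have h3 := sq_card_le_B (Nat.card (Subtype q)) (Subtype q) rfl _ hN1
      have h4 := sq_card_le_B (Nat.card {z // ¬ q z}) {z // ¬ q z} rfl _ hN2
      have hx : x ≠ 0 := by
        rintro rfl
        have hE3 : E (4 * 0 + 3) = 36 := E_3
        rw [hE3] at hk
        have h5 := B_mul_le (Nat.card (Subtype q)) (Nat.card {z // ¬ q z})
        rw [hab] at h5
        have hB3 : B (4 * 0 + 3) = 9 := B_3
        rw [hB3] at h5
        have h7 : (2 * Nat.card N) ^ 2 ≤ (Nat.card (resHom N q hq).range) ^ 2 *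
            (Nat.card (resHom N (fun x => ¬ q x) hq').range) ^ 2 := by
          rw [← mul_pow]; exact Nat.pow_le_pow_left h1 2
        have h8 := Nat.mul_le_mul h3 h4
        have h9 : (2 * Nat.card N) ^ 2 = 4 * (Nat.card N) ^ 2 := by ring
        omega
      rw [E_of_ne (by omega) (by omega) (by omega) (by omega) (by omega) (by omega)] at hk
      have hk' : (2 * Nat.card N) ^ 2 = B (4 * x + 3) := by
        rw [← hk]; ring
      obtain ⟨-, e2, e3, e4⟩ := eq_of_chain h1 h3 h4 hab hk'
      rcases mod_of_B_mul_eq (by rw [hab]; omega) e4 with ⟨hma, hmb⟩ | ⟨hma, hmb⟩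
      · obtain ⟨c, hc, hc3⟩ :=
          exists_threeCycle_of_eq (Nat.card (Subtype q)) (Subtype q) rfl hma _ hN1 e2
        rw [B_of_ne (by omega)] at e3
        exact lift_left N q hq hq' c hc hc3 _ (card_eq_two_pow_of_sq e3)
      · obtain ⟨c, hc, hc3⟩ :=
          exists_threeCycle_of_eq (Nat.card {z // ¬ q z}) {z // ¬ q z} rfl hmb _ hN2 e3
        rw [B_of_ne (by omega)] at e2
        exact lift_right N q hq hq' c hc hc3 _ (card_eq_two_pow_of_sq e2)

end Cfsg.Agent.Lib.Helper20.NilSym
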