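import Mathlib
import Cfsg.Agent.Lib.Helper20.NilSymL

/-!
Conjugacy (by even permutations) of the extremal nilpotent subgroups of `A_n`, `n ≡ 3 (mod 4)`
(helper20).
-/

set_option autoImplicit false

namespace Cfsg.Agent.Lib.Helper20.NilSym

open Subgroup Equiv Equiv.Perm

open scoped Pointwise

theorem two_mul_card_inf_alternating {α : Type} [Fintype α] [DecidableEq α]
    (H : Subgroup (Perm α)) (t : Perm α) (ht : t ∈ H) (hodd : sign t = -1) :
    2 * Nat.card (H ⊓ alternatingGroup α : Subgroup (Perm α)) = Nat.card H := by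
  let φ : H →* ℤˣ := sign.comp H.subtype
  have hker : φ.ker.map H.subtype = H ⊓ alternatingGroup α := by
    ext g
    constructor
    · rintro ⟨h, hh, rfl⟩
      exact ⟨h.2, mem_alternatingGroup.mpr (MonoidHom.mem_ker.mp hh)⟩
    · rintro ⟨h1, h2⟩
      exact ⟨⟨g, h1⟩, MonoidHom.mem_ker.mpr (mem_alternatingGroup.mp h2), rfl⟩
  have hcard : Nat.card (H ⊓ alternatingGroup α : Subgroup (Perm α)) = Nat.card φ.ker := by
    rw [← hker, card_map_of_injective (subtype_injective H)]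
  have hrange : φ.range = ⊤ := by
    rw [eq_top_iff]
    intro u _
    rcases Int.units_eq_one_or u with rfl | rfl
    · exact φ.range.one_mem
    · exact ⟨⟨t, ht⟩, hodd⟩
  have hidx : φ.ker.index = 2 := by
    rw [Subgroup.index_ker, hrange, Subgroup.card_top, Nat.card_eq_fintype_card,
      Fintype.card_units_int]
  have := Subgroup.card_mul_index φ.ker
  rw [hidx] at this
  rw [hcard]
  omega

theorem exists_odd_mem_centralizer {α : Type} [Fintype α] [DecidableEq α] (c : Perm α)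
    (hc : c.IsThreeCycle) (hα : 5 ≤ Fintype.card α) :
    ∃ t ∈ centralizer {c}, sign t = -1 := by
  have h1 : 1 < (c.supportᶜ).card := by
    rw [Finset.card_compl, hc.card_support]; omega
  obtain ⟨a, ha, b, hb, hab⟩ := Finset.one_lt_card.mp h1
  rw [Finset.mem_compl, Perm.mem_support, not_not] at ha hb
  refine ⟨swap a b, ?_, sign_swap hab⟩
  rw [mem_centralizer_singleton_iff]
  have := Equiv.swap_apply_apply c a b
  rw [ha, hb] at this
  calc swap a b * c = c * swap a b * c⁻¹ * c := by rw [← this]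
    _ = c * swap a b := by group

theorem conj_of_extremal_alt {α : Type} [Fintype α] [DecidableEq α] (x : ℕ) (hx : 1 ≤ x)
    (hcard : Nat.card α = 4 * x + 3) (N₁ N₂ : Subgroup (Perm α))
    (h1 : Group.IsNilpotent N₁) (h2 : Group.IsNilpotent N₂)
    (hev1 : ∀ g ∈ N₁, sign g = 1) (hev2 : ∀ g ∈ N₂, sign g = 1)
    (hk1 : Nat.card N₁ = 3 * 2 ^ (v2f (4 * x) - 1))
    (hk2 : Nat.card N₂ = 3 * 2 ^ (v2f (4 * x) - 1)) :
    ∃ g : Perm α, sign g = 1 ∧ N₂ = N₁.map (MulAut.conj g).toMonoidHom := by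
  haveI : Fact (Nat.Prime 2) := ⟨Nat.prime_two⟩
  have hv : 1 ≤ v2f (4 * x) := by rw [v2f_four_mul]; omega
  have hsq : 4 * (3 * 2 ^ (v2f (4 * x) - 1)) ^ 2 = E (4 * x + 3) := by
    rw [E_of_ne (by omega) (by omega) (by omega) (by omega) (by omega) (by omega),
      ← sq_eq_B_three]
    obtain ⟨s, hs⟩ : ∃ s, v2f (4 * x) = s + 1 := ⟨v2f (4 * x) - 1, by omega⟩
    rw [hs, Nat.add_sub_cancel, pow_succ]
    ring
  obtain ⟨c₁, hc₁, h31⟩ := exists_threeCycle_of_eq_alt x hcard N₁ h1 hev1 (by rw [hk1, hsq])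
  obtain ⟨c₂, hc₂, h32⟩ := exists_threeCycle_of_eq_alt x hcard N₂ h2 hev2 (by rw [hk2, hsq])
  obtain ⟨Q₁, hQ₁c, hQ₁z, hN₁⟩ := structure_of_extremal N₁ h1 _ hk1 c₁ hc₁ h31
  obtain ⟨Q₂, hQ₂c, hQ₂z, hN₂⟩ := structure_of_extremal N₂ h2 _ hk2 c₂ hc₂ h32
  have hα : Fintype.card α = 4 * x + 3 := by rw [← Nat.card_eq_fintype_card, hcard]
  have hQ₁N : Q₁ ≤ N₁ := by rw [hN₁]; exact le_sup_right
  have hQ₂N : Q₂ ≤ N₂ := by rw [hN₂]; exact le_sup_right
  -- an even conjugating element for the 3-cycles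
  obtain ⟨g₀, hg₀s, hg₀⟩ : ∃ g₀ : Perm α, sign g₀ = 1 ∧ g₀ * c₁ * g₀⁻¹ = c₂ := by
    have : IsConj c₁ c₂ := isConj_iff_cycleType_eq.mpr (by rw [h31.cycleType, h32.cycleType])
    obtain ⟨g, hg⟩ := isConj_iff.mp this
    rcases Int.units_eq_one_or (sign g) with hs | hs
    · exact ⟨g, hs, hg⟩
    · obtain ⟨t, ht, hts⟩ := exists_odd_mem_centralizer c₁ h31 (by omega)
      rw [mem_centralizer_singleton_iff] at ht
      refine ⟨g * t, by rw [Perm.sign_mul, hs, hts]; rfl, ?_⟩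
      rw [← hg]
      calc g * t * c₁ * (g * t)⁻¹ = g * (t * c₁) * t⁻¹ * g⁻¹ := by group
        _ = g * (c₁ * t) * t⁻¹ * g⁻¹ := by rw [ht]
        _ = g * c₁ * g⁻¹ := by group
  have hC : Nat.card (centralizer {c₂}) = (4 * x).factorial * 3 := by
    rw [nat_card_centralizer, h32.cycleType, hα]
    simp
  obtain ⟨t₂, ht₂, ht₂s⟩ := exists_odd_mem_centralizer c₂ h32 (by omega)
  have hCp := two_mul_card_inf_alternating (centralizer {c₂}) t₂ ht₂ ht₂s
  have hCp0 : Nat.card (centralizer {c₂} ⊓ alternatingGroup α : Subgroup (Perm α)) ≠ 0 :=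
    Nat.card_pos.ne'
  have hfac : (Nat.card (centralizer {c₂} ⊓ alternatingGroup α : Subgroup (Perm α))).factorization 2
      = v2f (4 * x) - 1 := by
    have h3 : (Nat.card (centralizer {c₂})).factorization 2 = v2f (4 * x) := by
      rw [hC, Nat.factorization_mul (Nat.factorial_ne_zero _) (by norm_num)]
      simp [v2f, Nat.factorization_eq_zero_of_not_dvd (by norm_num : ¬ 2 ∣ 3)]
    rw [← hCp, Nat.factorization_mul two_ne_zero hCp0] at h3
    simp only [Finsupp.coe_add, Pi.add_apply, Nat.Prime.factorization_self Nat.prime_two] at h3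
    omega
  have hQ₁'z : Q₁.map (MulAut.conj g₀).toMonoidHom ≤
      centralizer {c₂} ⊓ alternatingGroup α := by
    rintro u ⟨v, hv, rfl⟩
    refine Subgroup.mem_inf.mpr ⟨?_, ?_⟩
    · rw [mem_centralizer_singleton_iff]
      have hvc := hQ₁z hv
      rw [mem_centralizer_singleton_iff] at hvc
      simp only [MulEquiv.coe_toMonoidHom, MulAut.conj_apply]
      rw [← hg₀]
      calc g₀ * v * g₀⁻¹ * (g₀ * c₁ * g₀⁻¹) = g₀ * (v * c₁) * g₀⁻¹ := by group
        _ = g₀ * (c₁ * v) * g₀⁻¹ := by rw [hvc]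
        _ = g₀ * c₁ * g₀⁻¹ * (g₀ * v * g₀⁻¹) := by group
    · rw [mem_alternatingGroup]
      simp only [MulEquiv.coe_toMonoidHom, MulAut.conj_apply, Perm.sign_mul, sign_inv]
      rw [hev1 v (hQ₁N hv), mul_one, hg₀s, one_mul]
  have hQ₂z' : Q₂ ≤ centralizer {c₂} ⊓ alternatingGroup α := by
    intro u hu
    exact Subgroup.mem_inf.mpr ⟨hQ₂z hu, mem_alternatingGroup.mpr (hev2 u (hQ₂N hu))⟩
  have hQ₁'c : Nat.card (Q₁.map (MulAut.conj g₀).toMonoidHom) = 2 ^ (v2f (4 * x) - 1) := by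
    rw [card_map_of_injective (MulAut.conj g₀).injective, hQ₁c]
  obtain ⟨h, hhC, hQ₂eq⟩ := conj_of_card_eq_in_subgroup 2
    (centralizer {c₂} ⊓ alternatingGroup α)
    (Q₁.map (MulAut.conj g₀).toMonoidHom) Q₂ hQ₁'z hQ₂z' (by rw [hQ₁'c, hfac])
    (by rw [hQ₂c, hfac])
  have hhz : h * c₂ = c₂ * h := mem_centralizer_singleton_iff.mp (Subgroup.mem_inf.mp hhC).1
  have hhs : sign h = 1 := mem_alternatingGroup.mp (Subgroup.mem_inf.mp hhC).2
  refine ⟨h * g₀, by rw [Perm.sign_mul, hhs, hg₀s, one_mul], ?_⟩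
  rw [hN₁, hN₂, Subgroup.map_sup, MonoidHom.map_zpowers]
  congr 1
  · congr 1
    simp only [MulEquiv.coe_toMonoidHom, MulAut.conj_apply]
    calc c₂ = c₂ * h * h⁻¹ := by group
      _ = h * c₂ * h⁻¹ := by rw [hhz]
      _ = h * g₀ * c₁ * (h * g₀)⁻¹ := by rw [← hg₀]; group
  · rw [hQ₂eq, Subgroup.map_map]
    congr 1

end Cfsg.Agent.Lib.Helper20.NilSym
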