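import Mathlib
import Cfsg.Agent.Lib.Helper20.CyclicSelfCent
import Cfsg.Agent.Lib.Helper20.NormalRankTwo
import Cfsg.Agent.Lib.Helper1.MaxNormalAbelian
import Cfsg.Agent.Lib.Helper1.Noncyclic

set_option autoImplicit false

/-!
# A `p`-group that is not cyclic, dihedral, quaternion or quasidihedral has a normal `E_{p²}`
-/

namespace Cfsg.Agent.Lib.Helper20.NormalElemSq

open Subgroup

/-- The elements of order dividing `p` of a commutative subgroup `A`. -/
def omegaSub {G : Type*} [Group G] (p : ℕ) (A : Subgroup G) (hA : IsMulCommutative A) :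
    Subgroup G where
  carrier := {x | x ∈ A ∧ x ^ p = 1}
  mul_mem' := by
    rintro a b ⟨ha, hap⟩ ⟨hb, hbp⟩
    refine ⟨A.mul_mem ha hb, ?_⟩
    have hc : Commute a b := congrArg Subtype.val (mul_comm' (⟨a, ha⟩ : A) ⟨b, hb⟩)
    rw [hc.mul_pow, hap, hbp, one_mul]
  one_mem' := ⟨A.one_mem, one_pow _⟩
  inv_mem' := by
    rintro a ⟨ha, hap⟩
    exact ⟨A.inv_mem ha, by rw [inv_pow, hap, inv_one]⟩

theorem exists_normal_elemAb_sq {G : Type*} [Group G] [Finite G] (p : ℕ) [hp : Fact p.Prime]
    (hG : IsPGroup p G) (hnc : ¬ IsCyclic G)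
    (hnq : ∀ n : ℕ, ¬ Nonempty (G ≃* QuaternionGroup n))
    (hnd : ∀ n : ℕ, ¬ Nonempty (G ≃* DihedralGroup n)) (hnsd : ¬ Cfsg.IsQuasiDihedral G) :
    ∃ N : Subgroup G, N.Normal ∧ IsMulCommutative N ∧ (∀ x ∈ N, x ^ p = 1) ∧
      Nat.card N = p ^ 2 := by
  classical
  have hfin : {A : Subgroup G | A.Normal ∧ IsMulCommutative A}.Finite := Set.toFinite _
  have hne : {A : Subgroup G | A.Normal ∧ IsMulCommutative A}.Nonempty := by
    refine ⟨⊥, inferInstance, ?_⟩
    exact ⟨⟨fun a b => by
      have ha : a = 1 := Subsingleton.elim _ _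
      have hb : b = 1 := Subsingleton.elim _ _
      rw [ha, hb]⟩⟩
  obtain ⟨A, ⟨hAn, hAc⟩, hAmax⟩ := hfin.exists_maximal hne
  haveI := hAn
  have hmax : ∀ B : Subgroup G, B.Normal → IsMulCommutative B → A ≤ B → B = A :=
    fun B hBn hBc hAB => le_antisymm (hAmax ⟨hBn, hBc⟩ hAB) hAB
  have hC := Cfsg.Agent.Lib.Helper1.centralizer_eq_of_max_normal_abelian hG A hAc hmax
  by_cases hcyc : IsCyclic A
  · -- cyclic case
    have hna : ¬ IsMulCommutative G := by
      intro hcomm
      have hT : IsMulCommutative (⊤ : Subgroup G) :=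
        ⟨⟨fun a b => Subtype.ext (mul_comm' (a : G) (b : G))⟩⟩
      have hA' := hmax ⊤ inferInstance hT le_top
      apply hnc
      rw [← hA'] at hcyc
      exact (Subgroup.topEquiv (G := G)).isCyclic.mp hcyc
    obtain ⟨n, hn⟩ := (hG.to_subgroup A).exists_card_eq
    rcases Cfsg.Agent.Lib.Helper20.CSC.main hG hna A hcyc n hn hC with h | h
    · obtain ⟨-, -, hD | hQ | hS⟩ := h
      · obtain ⟨m, hm⟩ := hD
        exact absurd hm (hnd m)
      · obtain ⟨m, hm⟩ := hQ
        exact absurd hm (hnq m)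
      · exact absurd hS hnsd
    · obtain ⟨-, hE, hcard, hchar⟩ := h
      haveI := hchar
      exact ⟨_, inferInstance, hE.1, hE.2, hcard⟩
  · -- noncyclic case
    letI : CommGroup A := { (inferInstance : Group A) with mul_comm := fun a b => mul_comm' a b }
    obtain ⟨q, hq, a, b, haq, hbq, hb1, hab⟩ :=
      Cfsg.Agent.Lib.Helper1.exists_noncyclic_pair (α := A) hcyc
    -- `q = p`
    haveI : Fact q.Prime := ⟨hq⟩
    have hqp : q = p := by
      have h1 : orderOf b = q := orderOf_eq_prime hbq hb1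
      obtain ⟨k, hk⟩ := (IsPGroup.iff_orderOf.mp (hG.to_subgroup A)) b
      rw [h1] at hk
      have : q ∣ p ^ k := by rw [← hk]
      exact (Nat.prime_dvd_prime_iff_eq hq hp.out).mp (hq.dvd_of_dvd_pow this)
    subst hqp
    set N0 := omegaSub q A hAc with hN0
    haveI hN0n : N0.Normal := by
      refine ⟨fun x hx g => ?_⟩
      refine ⟨hAn.conj_mem x hx.1 g, ?_⟩
      rw [conj_pow, hx.2, mul_one, mul_inv_cancel]
    have hexp : ∀ x ∈ N0, x ^ q = 1 := fun x hx => hx.2
    have haN : (a : G) ∈ N0 := ⟨a.2, by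
      have := congrArg Subtype.val haq
      simpa using this⟩
    have hbN : (b : G) ∈ N0 := ⟨b.2, by
      have := congrArg Subtype.val hbq
      simpa using this⟩
    -- `N0` has order at least `q ^ 2`
    have hcard : q ^ 2 ≤ Nat.card N0 := by
      obtain ⟨k, hk⟩ := (hG.to_subgroup N0).exists_card_eq
      have hbz : Subgroup.zpowers (b : G) ≤ N0 := Subgroup.zpowers_le.mpr hbN
      have hbo : Nat.card (Subgroup.zpowers (b : G)) = q := by
        rw [Nat.card_zpowers]
        apply orderOf_eq_prime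
        · exact hbN.2
        · intro h
          exact hb1 (Subtype.ext h)
      have hlt : Subgroup.zpowers (b : G) < N0 := by
        refine lt_of_le_of_ne hbz ?_
        intro heq
        have : (a : G) ∈ Subgroup.zpowers (b : G) := heq ▸ haN
        obtain ⟨j, hj⟩ := Subgroup.mem_zpowers_iff.mp this
        -- a = b ^ j, so a * b ^ (-j mod q) = 1
        have hbq' : (b : G) ^ q = 1 := hbN.2
        have hmod : (b : G) ^ j = (b : G) ^ (j % (q : ℤ)) := by
          rw [← orderOf_eq_prime hbq' (fun h => hb1 (Subtype.ext h))]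
          exact (zpow_mod_orderOf _ _).symm
        obtain ⟨r, hr⟩ : ∃ r : ℕ, (r : ℤ) = j % (q : ℤ) :=
          ⟨(j % (q : ℤ)).toNat, Int.toNat_of_nonneg (Int.emod_nonneg _ (by exact_mod_cast hq.ne_zero))⟩
        have hrq : r < q := by
          have := Int.emod_lt_of_pos j (show (0 : ℤ) < q by exact_mod_cast hq.pos)
          omega
        have h1 : (a : G) * (b : G) ^ (q - r) = 1 := by
          rw [← hj, hmod, ← hr, zpow_natCast, ← pow_add, show r + (q - r) = q by omega, hbq']
        apply hab (q - r)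
        apply Subtype.ext
        simpa using h1
      have hcl : Nat.card (Subgroup.zpowers (b : G)) < Nat.card N0 :=
        lt_of_le_of_ne (Subgroup.card_le_of_le hlt.le)
          (fun h => hlt.ne (Subgroup.eq_of_le_of_card_ge hlt.le h.ge))
      rw [hbo, hk] at hcl
      rw [hk]
      have hk2 : 2 ≤ k := by
        by_contra hlt2
        have : k ≤ 1 := by omega
        have := Nat.pow_le_pow_right hq.pos this
        rw [pow_one] at this
        omega
      exact Nat.pow_le_pow_right hq.pos hk2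
    obtain ⟨M, -, hMn, hMc, hMe, hMcard⟩ :=
      Cfsg.Agent.Lib.Helper20.exists_normal_elemAb_card_sq hG N0 hexp hcard
    exact ⟨M, hMn, hMc, hMe, hMcard⟩

end Cfsg.Agent.Lib.Helper20.NormalElemSq
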