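import Cfsg.Agent.Lib.Helper17.OC2Defs
import Cfsg.Agent.Lib.Helper17.OC2Tool
import Cfsg.Agent.Lib.Helper20.OC2A1
import Cfsg.Agent.Lib.Helper23.OC2L12

/-!
helper20: S5677 leaf A1 (`perm_of_noMixed`), exact signature, on helper23's L2 (`no_split`).
-/

set_option autoImplicit false
set_option linter.unusedSectionVars false
set_option linter.unusedVariables false

namespace Cfsg.Agent.Lib.Helper20.OC2Leaf

open Module QuadraticMap Matrix Cfsg.Agent.Lib.Helper25.CD Cfsg.Agent.Lib.Helper25.Spin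
  Cfsg.Agent.Lib.Helper15 Cfsg.Agent.Lib.Helper5.NSMax Cfsg.Agent.Lib.Helper5.PairMax
  Cfsg.Agent.Lib.Helper17.OC2

variable {ι : Type} [Fintype ι] [DecidableEq ι] {F : Type*} [Field F] [Fintype F]
  {Q : QuadraticForm F (ι → F)} {t : ℕ} {D : Fin t → Submodule F (ι → F)} {k : ℕ}
  {M : Subgroup ↥(Cfsg.isometryGroup F ⇑Q)}

/-- A1 -/
theorem perm_of_noMixed (hS : MS Q M D k) (hno : ∀ a, InS Q M a → ∃ i, a ∈ D i)
    {g : ↥(Cfsg.isometryGroup F ⇑Q)} (hg : g ∈ M) : IsPerm Q D g :=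
  perm_of_noMixed_of
    (fun h2 _ hU h3 hex _ hτ _ hR h =>
      Cfsg.Agent.Lib.Helper23.OC2Leaf.no_split h2 hU h3 hex hτ hR h) hS hno hg

end Cfsg.Agent.Lib.Helper20.OC2Leaf
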