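import Mathlib
import Cfsg.Agent.Lib.Lead.OEDefs
import Cfsg.Agent.Lib.Helper20.FCMain
import Cfsg.Agent.Lib.Helper18.C2Defs
import Cfsg.Agent.Lib.Helper17.SpAschQ0
import Cfsg.Agent.Lib.Helper17.SpAschZ

/-!
OMEGA-EVEN, block [E-CLF] `egeo_of_not_homog` (helper20): adapter on `fc_orthogonal_main`.
`OutB` (pair of complementary subspaces totally singular for the polar form): `q` odd `2 Q v = f(v,v) = 0`; `q` even:
`φ v := ∑ i, Q (pr i v)` is additive, `λ²`-homogeneous and `H`-invariant, hence `0` (helper17's `additive_invariant_zero`).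
-/

set_option autoImplicit false
set_option linter.unusedSectionVars false
set_option linter.unusedVariables false

namespace Cfsg.Agent.Lib.Helper20.OELeaf
open Matrix Cfsg Cfsg.Geo Cfsg.Agent.Lib.Helper20.Asch Cfsg.Agent.Lib.Lead.OE
open scoped Kronecker

variable {F : Type*} [Field F] [Fintype F] {n : ℕ} {Q : (Fin n → F) → F}
  {H N : Subgroup (GL (Fin n) F)}

open Cfsg.Agent.Lib.Helper18.C2 in
/-- projections onto the blocks of a decomposition are permuted by an element permuting the blocks -/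
theorem pr_map_of_perm {t m : ℕ} {D : Fin t → Submodule F (Fin n → F)} (hD : IsMDecomposition m D)
    (g : Matrix (Fin n) (Fin n) F) (σ : Equiv.Perm (Fin t))
    (hσ : ∀ i, (D i).map (Matrix.toLin' g) = D (σ i)) (i : Fin t) (v : Fin n → F) :
    pr hD (σ i) (g *ᵥ v) = g *ᵥ (pr hD i v) := by
  have hmem : ∀ j, g *ᵥ (pr hD j v) ∈ D (σ j) := by
    intro j
    rw [← hσ j]
    exact ⟨pr hD j v, pr_mem hD j v, by rw [Matrix.toLin'_apply]⟩
  conv_lhs => rw [← sum_pr hD v, Matrix.mulVec_sum, map_sum]
  rw [Finset.sum_eq_single i]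
  · exact pr_same hD (hmem i)
  · intro j _ hji
    exact pr_ne hD (fun h => hji (σ.injective h)) (hmem j)
  · intro h; exact absurd (Finset.mem_univ i) h

open Cfsg.Agent.Lib.Helper18.C2 in
/-- subspaces totally singular for the polar form, permuted by an irreducible group of isometries, are totally singular -/
theorem ts_quad_of_ts_polar (h : ECtx Q H) (hn : 2 ≤ n) (hirr : Irr H) {t m : ℕ}
    {D : Fin t → Submodule F (Fin n → F)} (hD : IsMDecomposition m D)
    (hts : ∀ i, IsTotallySingularFor (QuadraticMap.polar Q) (D i))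
    (hH : H ≤ decompositionStabilizer D) (i : Fin t) : IsTotallySingularQuad Q (D i) := by
  have hQ0 : Q 0 = 0 := by
    have := h.nd.smul 0 0
    simpa using this
  by_cases hodd : Odd (Fintype.card F)
  · have h2 := Cfsg.Agent.Lib.Helper17.SpAschLeaf.two_ne_zero_of_odd hodd
    intro v hv
    have h1 : QuadraticMap.polar Q v v = 0 := hts i v hv v hv
    unfold QuadraticMap.polar at h1
    have h3 : Q (v + v) = 2 ^ 2 * Q v := by
      rw [← two_smul F v]
      exact h.nd.smul 2 v
    rw [h3] at h1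
    have h4 : (2 : F) * Q v = 0 := by linear_combination h1
    exact (mul_eq_zero.mp h4).resolve_left h2
  · have h2 := Cfsg.Agent.Lib.Helper17.SpAschLeaf.two_eq_zero_of_not_odd (F := F) hodd
    let φ : (Fin n → F) → F := fun v => ∑ j, Q (pr hD j v)
    have hadd : ∀ u v, φ (u + v) = φ u + φ v := by
      intro u v
      show ∑ j, Q (pr hD j (u + v)) = ∑ j, Q (pr hD j u) + ∑ j, Q (pr hD j v)
      rw [← Finset.sum_add_distrib]
      refine Finset.sum_congr rfl fun j _ => ?_
      rw [map_add]
      have h1 : QuadraticMap.polar Q (pr hD j u) (pr hD j v) = 0 :=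
        hts j _ (pr_mem hD j u) _ (pr_mem hD j v)
      unfold QuadraticMap.polar at h1
      linear_combination h1
    have hsm : ∀ (a : F) (v : Fin n → F), φ (a • v) = a ^ 2 * φ v := by
      intro a v
      show ∑ j, Q (pr hD j (a • v)) = a ^ 2 * ∑ j, Q (pr hD j v)
      rw [Finset.mul_sum]
      refine Finset.sum_congr rfl fun j _ => ?_
      rw [map_smul]
      exact h.nd.smul a _
    have hinv : ∀ x ∈ H, ∀ v, φ ((x : Matrix (Fin n) (Fin n) F) *ᵥ v) = φ v := by
      intro x hx v
      obtain ⟨σ, hσ⟩ := hH hx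
      show ∑ j, Q (pr hD j ((x : Matrix (Fin n) (Fin n) F) *ᵥ v)) = ∑ j, Q (pr hD j v)
      rw [← Equiv.sum_comp σ (fun j => Q (pr hD j ((x : Matrix (Fin n) (Fin n) F) *ᵥ v)))]
      refine Finset.sum_congr rfl fun j _ => ?_
      rw [pr_map_of_perm hD _ σ hσ]
      exact (h.le hx) (pr hD j v) (pr hD j v)
    have hzero := Cfsg.Agent.Lib.Helper17.SpAschLeaf.additive_invariant_zero hn h2 hirr φ hadd hsm hinv
    intro v hv
    have h1 := hzero v
    show Q v = 0
    have h3 : φ v = Q v := by
      show ∑ j, Q (pr hD j v) = Q v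
      rw [Finset.sum_eq_single i]
      · rw [pr_same hD hv]
      · intro j _ hji
        rw [pr_ne hD (Ne.symm hji) hv, hQ0]
      · intro h; exact absurd (Finset.mem_univ i) h
    rw [← h3]
    exact h1

/-- [E-CLF] FORM-CLIFFORD for the isometry group of a quadratic form (all characteristics) -/
theorem egeo_of_not_homog (h : ECtx Q H) (hn : 3 ≤ n) (hirr : Irr H) (hN : N ≤ H) (hnorm : NormBy H N)
    (hnh : ¬ Homog N) : EGeo Q H := by
  have hY : FixesQuadForm (matrixSet H) Q := by
    rintro s ⟨x, hx, rfl⟩ v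
    exact (h.le hx) v v
  rcases Cfsg.Agent.Lib.Helper20.FCLeaf.fc_orthogonal_main h.nd (by omega) hirr hN hnorm hY with
    hh | ⟨t, k, D, hD, hst⟩ | ⟨k, D, hk, hD, hts, hst⟩
  · exact absurd hh hnh
  · exact .dec k D hD hst
  · exact .pair k D hD (fun i => ts_quad_of_ts_polar h (by omega) hirr hD hts hst i) hst

end Cfsg.Agent.Lib.Helper20.OELeaf
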