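import Mathlib
import Cfsg.Prelude.Def_GeometricClasses
import Cfsg.Agent.Lib.Helper25.OEFsaOdd

/-!
OMEGA-EVEN, PART 4 (planner lead), leaf **R11 `odd_of_fsa_two`** (helper20): a SELF-ADJOINT field subalgebra of degree 2 of the matrix
algebra of a non-degenerate quadratic space of dimension `2 m`, `m` odd, forces `q` odd.  One line on helper25's
`OEFsa.two_ne_zero_of_fsa_odd` (the `E`-valued transferred form is alternating non-degenerate in characteristic 2).
-/

set_option autoImplicit false
set_option linter.unusedSectionVars false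
set_option linter.unusedVariables false

namespace Cfsg.Agent.Lib.Helper20.OELeaf

open Cfsg Cfsg.Geo Matrix Module QuadraticMap

/-- a finite field in which `2 ≠ 0` has odd order -/
theorem r11_odd_card_of_two_ne_zero {F : Type*} [Field F] [Fintype F] (h2 : (2 : F) ≠ 0) :
    Odd (Fintype.card F) := by
  rw [Nat.odd_iff]
  apply FiniteField.odd_card_of_char_ne_two
  intro hc
  apply h2
  have h := ringChar.Nat.cast_ringChar (R := F)
  rw [hc] at h
  exact_mod_cast h

section generic
variable {ι : Type} [Fintype ι] [DecidableEq ι] {F : Type*} [Field F] [Fintype F]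
  (Q : QuadraticForm F (ι → F))

/-- **R11** -/
theorem odd_of_fsa_two (hQ : (polarBilin Q).Nondegenerate) {m : ℕ} (hcard : Fintype.card ι = 2 * m)
    (hm : Odd m) {K : Subalgebra F (Matrix ι ι F)} (hK : IsFieldSubalgebra 2 K)
    (hsa : IsSelfAdjointFor (polar ⇑Q) K) : Odd (Fintype.card F) :=
  r11_odd_card_of_two_ne_zero
    (Cfsg.Agent.Lib.Helper25.OEFsa.two_ne_zero_of_fsa_odd Q hQ (r := 2) (m := m) (by norm_num) hm
      (by rw [hcard, mul_comm]) hK hsa)

end generic

end Cfsg.Agent.Lib.Helper20.OELeaf
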