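import Mathlib

/-!
S5662 block [TNS] (tensor with form), sub-planner helper20: the pure tensor vector `kvec x y` in the coordinates `Fin s × Fin k`.
Plan and leaves: `notes/S5662_TNS_leaves.lean`.
-/

set_option autoImplicit false

namespace Cfsg.Agent.Lib.Helper20.SpTns
open Matrix
variable {F : Type*} [Field F]

/-- the pure tensor `x ⊗ y` in the coordinates `Fin s × Fin k` -/
def kvec {s k : ℕ} (x : Fin s → F) (y : Fin k → F) : Fin s × Fin k → F := fun p => x p.1 * y p.2

end Cfsg.Agent.Lib.Helper20.SpTns
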