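import Mathlib
import Cfsg.Agent.Lib.Helper29.SpPrfDefs
import Cfsg.Agent.Lib.Helper29.AschKF2
import Cfsg.Agent.Lib.Helper26.AschNL
import Cfsg.Agent.Lib.Helper9.TensSwap
import Cfsg.Agent.Lib.Helper17.SpAschQ0
import Cfsg.Agent.Lib.Helper17.SpAschZ
import Cfsg.Agent.Lib.Helper20.SpTnsDefs

set_option autoImplicit false
set_option linter.unusedSectionVars false
set_option linter.unusedVariables false

namespace Cfsg.Agent.Lib.Helper20.SpTnsLeaf
open Matrix Cfsg Cfsg.Geo Cfsg.Agent.Lib.Helper20.Asch Cfsg.Agent.Lib.Helper29.SpAsch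
  Cfsg.Agent.Lib.Helper20.SpTns
open scoped Kronecker

variable {F : Type*} [Field F] [Fintype F] {n m : ℕ} {J : Matrix (Fin n) (Fin n) F}
  {H N : Subgroup (GL (Fin n) F)}

section transport
variable {κ : Type} [Fintype κ] [DecidableEq κ]

/-- the form of a reindexed Gram matrix -/
theorem bfm_reindex_comp (e : Fin n ≃ κ) (M : Matrix (Fin n) (Fin n) F) (x y : κ → F) :
    bfm (Matrix.reindex e e M) x y = bfm M (x ∘ e) (y ∘ e) := by
  unfold bfm
  simp only [dotProduct, Matrix.mulVec, Matrix.reindex_apply, Matrix.submatrix_apply, Function.comp]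
  rw [← e.sum_comp]
  refine Finset.sum_congr rfl fun i _ => ?_
  congr 1
  rw [← e.sum_comp]
  simp

theorem bfm_gramT (e : Fin n ≃ κ) (P : GL (Fin n) F) (x y : κ → F) :
    bfm J (tvec e P x) (tvec e P y) = bfm (gramT e P J) x y := by
  unfold gramT
  rw [bfm_reindex_comp]
  unfold tvec bfm
  rw [Matrix.mulVec_mulVec, Matrix.dotProduct_mulVec, Matrix.vecMul_mulVec, ← Matrix.dotProduct_mulVec,
    Matrix.mul_assoc]

theorem exists_tvec (e : Fin n ≃ κ) (P : GL (Fin n) F) (u : Fin n → F) :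
    ∃ x : κ → F, u = tvec e P x := by
  refine ⟨fun a => (((P⁻¹ : GL (Fin n) F) : Matrix (Fin n) (Fin n) F) *ᵥ u) (e.symm a), ?_⟩
  unfold tvec
  have : ((fun a => (((P⁻¹ : GL (Fin n) F) : Matrix (Fin n) (Fin n) F) *ᵥ u) (e.symm a)) ∘ e) =
      ((P⁻¹ : GL (Fin n) F) : Matrix (Fin n) (Fin n) F) *ᵥ u := by
    funext i
    simp
  rw [this, Matrix.mulVec_mulVec, ← Units.val_mul, mul_inv_cancel, Units.val_one, Matrix.one_mulVec]

theorem conjR_mulVec_tvec (e : Fin n ≃ κ) (P : GL (Fin n) F) (M : Matrix κ κ F) (x : κ → F) :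
    conjR e P M *ᵥ tvec e P x = tvec e P (M *ᵥ x) := by
  unfold conjR tvec
  rw [Matrix.mulVec_mulVec, Matrix.mul_assoc, Matrix.mul_assoc, ← Units.val_mul, inv_mul_cancel,
    Units.val_one, Matrix.mul_one, ← Matrix.mulVec_mulVec]
  congr 1
  funext i
  simp only [Matrix.mulVec, dotProduct, Matrix.reindex_apply, Matrix.submatrix_apply, Function.comp,
    Equiv.symm_symm]
  rw [← e.sum_comp]

theorem isAltGram_gramT (hJ : IsAltGram J) (e : Fin n ≃ κ) (P : GL (Fin n) F) :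
    IsAltGram (gramT e P J) := by
  refine ⟨?_, ?_, ?_⟩
  · unfold gramT
    ext a b
    simp only [Matrix.reindex_apply, Matrix.transpose_apply, Matrix.submatrix_apply, Matrix.neg_apply]
    have h1 : ((P : Matrix (Fin n) (Fin n) F)ᵀ * J * (P : Matrix (Fin n) (Fin n) F))ᵀ =
        -((P : Matrix (Fin n) (Fin n) F)ᵀ * J * (P : Matrix (Fin n) (Fin n) F)) := by
      rw [Matrix.transpose_mul, Matrix.transpose_mul, Matrix.transpose_transpose, hJ.skew]
      simp [Matrix.mul_assoc]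
    have h2 := congrFun (congrFun h1 (e.symm a)) (e.symm b)
    simpa using h2
  · intro a
    have h1 := bfm_gramT (J := J) e P (Pi.single a 1) (Pi.single a 1)
    rw [bfm_entry] at h1
    rw [← h1]
    exact bfm_self hJ _
  · unfold gramT
    rw [Matrix.reindex_apply, Matrix.det_submatrix_equiv_self, Matrix.det_mul, Matrix.det_mul,
      Matrix.det_transpose]
    have hP : (P : Matrix (Fin n) (Fin n) F).det ≠ 0 := by
      have := (Matrix.isUnits_det_units P).ne_zero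
      exact this
    exact mul_ne_zero (mul_ne_zero hP hJ.det) hP

end transport

theorem kron_mulVec_kvec {s k : ℕ} (a : Matrix (Fin s) (Fin s) F) (b : Matrix (Fin k) (Fin k) F)
    (x : Fin s → F) (y : Fin k → F) : (a ⊗ₖ b) *ᵥ kvec x y = kvec (a *ᵥ x) (b *ᵥ y) := by
  funext p
  obtain ⟨i, j⟩ := p
  simp only [Matrix.mulVec, dotProduct, kvec, Matrix.kroneckerMap_apply]
  rw [Fintype.sum_prod_type, Finset.sum_mul_sum]
  refine Finset.sum_congr rfl fun i' _ => Finset.sum_congr rfl fun j' _ => ?_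
  ring

theorem bfm_kron_kvec {s k : ℕ} (G₁ : Matrix (Fin s) (Fin s) F) (G₂ : Matrix (Fin k) (Fin k) F)
    (x x' : Fin s → F) (y y' : Fin k → F) :
    bfm (G₁ ⊗ₖ G₂) (kvec x y) (kvec x' y') = bfm G₁ x x' * bfm G₂ y y' := by
  unfold bfm
  rw [kron_mulVec_kvec]
  simp only [dotProduct, kvec]
  rw [Fintype.sum_prod_type, Finset.sum_mul_sum]
  refine Finset.sum_congr rfl fun i' _ => Finset.sum_congr rfl fun j' _ => ?_
  ring

theorem span_tvec_kvec {s k : ℕ} (e : Fin n ≃ Fin s × Fin k) (P : GL (Fin n) F) :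
    Submodule.span F {u : Fin n → F | ∃ (x : Fin s → F) (y : Fin k → F), u = tvec e P (kvec x y)} = ⊤ := by
  rw [eq_top_iff]
  intro u _
  obtain ⟨z, rfl⟩ := exists_tvec e P u
  have hz : z = ∑ p : Fin s × Fin k, z p • kvec (Pi.single p.1 (1 : F)) (Pi.single p.2 (1 : F)) := by
    funext q
    rw [Finset.sum_apply]
    simp only [Pi.smul_apply, kvec, smul_eq_mul]
    rw [Finset.sum_eq_single q]
    · simp
    · intro p _ hp
      have : ¬ (p.1 = q.1 ∧ p.2 = q.2) := fun h => hp (Prod.ext h.1 h.2)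
      by_cases h1 : p.1 = q.1
      · have h2 : p.2 ≠ q.2 := fun h => this ⟨h1, h⟩
        simp [Pi.single_apply, Ne.symm h2]
      · simp [Pi.single_apply, Ne.symm h1]
    · intro h; exact absurd (Finset.mem_univ q) h
  have hlin : ∀ (w : Fin s × Fin k → F), tvec e P w = (Matrix.toLin' (P : Matrix (Fin n) (Fin n) F))
      (LinearMap.funLeft F F e w) := by
    intro w; rfl
  rw [hz, hlin, map_sum, map_sum]
  refine Submodule.sum_mem _ fun p _ => ?_
  rw [map_smul, map_smul]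
  refine Submodule.smul_mem _ _ (Submodule.subset_span ?_)
  exact ⟨Pi.single p.1 1, Pi.single p.2 1, rfl⟩

theorem gramT_swap {s k : ℕ} (e : Fin n ≃ Fin s × Fin k) (P : GL (Fin n) F)
    (G₁ : Matrix (Fin s) (Fin s) F) (G₂ : Matrix (Fin k) (Fin k) F) (hgram : gramT e P J = G₁ ⊗ₖ G₂) :
    gramT (e.trans (Equiv.prodComm (Fin s) (Fin k))) P J = G₂ ⊗ₖ G₁ := by
  rw [← Cfsg.Agent.Lib.Helper9.TensSwap.reindex_kron_swap, ← hgram]
  unfold gramT
  ext a b
  simp [Matrix.reindex_apply, Matrix.submatrix_apply]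

/-- the Gram matrix of `bfm G` is `G` -/
theorem gramMatrix_bfm' {κ : Type} [Fintype κ] [DecidableEq κ] (G : Matrix κ κ F) :
    gramMatrix (bfm G) = G := by
  ext a b
  unfold gramMatrix
  exact bfm_entry a b

/-- `formOfGram id` is `bfm` -/
theorem formOfGram_id {κ : Type} [Fintype κ] [DecidableEq κ] (G : Matrix κ κ F) (x y : κ → F) :
    formOfGram id G x y = bfm G x y := by
  unfold formOfGram bfm
  simp only [dotProduct, Matrix.mulVec, id, Finset.mul_sum]
  refine Finset.sum_congr rfl fun a _ => Finset.sum_congr rfl fun b _ => ?_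
  ring

theorem exit_c4 (h : SpCtx J m H) (hodd : Odd (Fintype.card F)) {s k : ℕ} (hk : 3 ≤ k)
    (e : Fin n ≃ Fin s × Fin k) (P : GL (Fin n) F) (G₁ : Matrix (Fin s) (Fin s) F)
    (G₂ : Matrix (Fin k) (Fin k) F) (hG₁ : IsAltGram G₁) (hG₂s : G₂ᵀ = G₂) (hG₂d : G₂.det ≠ 0)
    (hgram : gramT e P J = G₁ ⊗ₖ G₂) (hH : H ≤ tensorProductSubgroup s k e P) : SGeo J m H := by
  refine SGeo.of_C4 h.le s k e P (bfm G₁) (bfm G₂) hodd hk (isSymplectic_bfm hG₁)
    ⟨bfm_bilinear G₂, Cfsg.Agent.Lib.Helper27.AschO4.bf_symm G₂ hG₂s,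
      Cfsg.Agent.Lib.Helper27.AschO4.bf_nondeg G₂ hG₂d⟩ ?_ hH
  refine ⟨1, one_ne_zero, fun x y => ?_⟩
  rw [one_mul, gramMatrix_bfm', gramMatrix_bfm', formOfGram_id, ← hgram]
  exact bfm_gramT e P x y

end Cfsg.Agent.Lib.Helper20.SpTnsLeaf
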