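import Mathlib
import Cfsg.Agent.Lib.Helper29.SpPrfDefs
import Cfsg.Agent.Lib.Helper20.SpTnsDefs
import Cfsg.Agent.Lib.Helper20.SpTnsBasic

set_option autoImplicit false
set_option linter.unusedSectionVars false
set_option linter.unusedVariables false

namespace Cfsg.Agent.Lib.Helper20.SpTnsLeaf
open Matrix Cfsg Cfsg.Geo Cfsg.Agent.Lib.Helper20.Asch Cfsg.Agent.Lib.Helper29.SpAsch
  Cfsg.Agent.Lib.Helper20.SpTns
open scoped Kronecker

variable {F : Type*} [Field F] [Fintype F] {n m : ℕ} {J : Matrix (Fin n) (Fin n) F}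
  {H N : Subgroup (GL (Fin n) F)}

/-- two equal Kronecker products with non-zero factors have proportional factors -/
theorem kron_eq_kron' {ι κ : Type} (A C : Matrix ι ι F) (B D : Matrix κ κ F) (hC : C ≠ 0) (hD : D ≠ 0)
    (h : A ⊗ₖ B = C ⊗ₖ D) : ∃ c : F, c ≠ 0 ∧ A = c • C ∧ B = c⁻¹ • D := by
  have hstar : ∀ a b c d, A a b * B c d = C a b * D c d := by
    intro a b c d
    have := congrFun (congrFun h (a, c)) (b, d)
    simpa [Matrix.kroneckerMap_apply] using this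
  obtain ⟨a₀, b₀, hp⟩ : ∃ a b, C a b ≠ 0 := by
    by_contra hcon
    push Not at hcon
    exact hC (by ext a b; exact hcon a b)
  obtain ⟨c₀, d₀, hr⟩ : ∃ c d, D c d ≠ 0 := by
    by_contra hcon
    push Not at hcon
    exact hD (by ext a b; exact hcon a b)
  have h0 := hstar a₀ b₀ c₀ d₀
  have hA : A a₀ b₀ ≠ 0 := by
    intro hz
    rw [hz, zero_mul] at h0
    exact mul_ne_zero hp hr h0.symm
  have hB : B c₀ d₀ ≠ 0 := by
    intro hz
    rw [hz, mul_zero] at h0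
    exact mul_ne_zero hp hr h0.symm
  refine ⟨A a₀ b₀ / C a₀ b₀, div_ne_zero hA hp, ?_, ?_⟩
  · ext a b
    rw [Matrix.smul_apply, smul_eq_mul]
    have e := hstar a b c₀ d₀
    field_simp
    have : B c₀ d₀ * (A a b * C a₀ b₀ - A a₀ b₀ * C a b) = 0 := by
      linear_combination (C a₀ b₀) * e - (C a b) * h0
    have := (mul_eq_zero.mp this).resolve_left hB
    linear_combination this
  · ext c d
    rw [Matrix.smul_apply, smul_eq_mul, inv_div]
    have e := hstar a₀ b₀ c d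
    field_simp
    linear_combination e

theorem tensor_similitudes {s k : ℕ} (e : Fin n ≃ Fin s × Fin k) (P : GL (Fin n) F)
    (G₁ : Matrix (Fin s) (Fin s) F) (G₂ : Matrix (Fin k) (Fin k) F) (hG₁ : G₁ ≠ 0) (hG₂ : G₂ ≠ 0)
    (hgram : gramT e P J = G₁ ⊗ₖ G₂) (g : GL (Fin n) F) (hgJ : g ∈ isoG J)
    (hg : g ∈ tensorProductSubgroup s k e P) :
    ∃ (a : GL (Fin s) F) (b : GL (Fin k) F) (c : F), c ≠ 0 ∧
      (g : Matrix (Fin n) (Fin n) F) =
        conjR e P ((a : Matrix (Fin s) (Fin s) F) ⊗ₖ (b : Matrix (Fin k) (Fin k) F)) ∧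
      (a : Matrix (Fin s) (Fin s) F)ᵀ * G₁ * (a : Matrix (Fin s) (Fin s) F) = c • G₁ ∧
      (b : Matrix (Fin k) (Fin k) F)ᵀ * G₂ * (b : Matrix (Fin k) (Fin k) F) = c⁻¹ • G₂ := by
  obtain ⟨a, b, hab⟩ := (mem_tensorProductSubgroup_iff e P g).mp hg
  set M : Matrix (Fin s × Fin k) (Fin s × Fin k) F :=
    (a : Matrix (Fin s) (Fin s) F) ⊗ₖ (b : Matrix (Fin k) (Fin k) F) with hM
  have hiso : Mᵀ * (G₁ ⊗ₖ G₂) * M = G₁ ⊗ₖ G₂ := by
    apply bfm_injective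
    intro x y
    rw [← bfm_mulVec, ← hgram, ← bfm_gramT, ← bfm_gramT, ← conjR_mulVec_tvec, ← conjR_mulVec_tvec, ← hab]
    exact hgJ _ _
  have hkr : ((a : Matrix (Fin s) (Fin s) F)ᵀ * G₁ * (a : Matrix (Fin s) (Fin s) F)) ⊗ₖ
      ((b : Matrix (Fin k) (Fin k) F)ᵀ * G₂ * (b : Matrix (Fin k) (Fin k) F)) = G₁ ⊗ₖ G₂ := by
    rw [Matrix.mul_kronecker_mul, Matrix.mul_kronecker_mul]
    have ht : ((a : Matrix (Fin s) (Fin s) F)ᵀ ⊗ₖ (b : Matrix (Fin k) (Fin k) F)ᵀ) = Mᵀ := by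
      rw [hM]
      ext p q
      simp [Matrix.kroneckerMap_apply]
    rw [ht]
    exact hiso
  obtain ⟨c, hc, h1, h2⟩ := kron_eq_kron' _ _ _ _ hG₁ hG₂ hkr
  exact ⟨a, b, c, hc, hab, h1, h2⟩

end Cfsg.Agent.Lib.Helper20.SpTnsLeaf
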