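import Mathlib
import Cfsg.Prelude.Def_GeometricClasses
import Cfsg.Agent.Lib.Lead.OEQF
import Cfsg.Agent.Lib.Helper24.OAschB33
import Cfsg.Agent.Lib.Helper12.OAschWC
import Cfsg.Agent.Lib.Helper9.TensSwap
import Cfsg.Agent.Lib.Helper20.SpTnsBasic
import Cfsg.Agent.Lib.Helper20.SpTnsK3

/-!
OMEGA-EVEN, OE-ROWS2 leaf **OE-R14** `dec_of_tsym_three` (helper20): `|F| = 3`, `O_3 ⊗ O_4 ≤ O_4 wr S_3`.
-/

set_option autoImplicit false
set_option linter.unusedSectionVars false
set_option linter.unusedVariables false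

namespace Cfsg.Agent.Lib.Helper20.OELeaf

open Cfsg Cfsg.Geo Matrix Module QuadraticMap Cfsg.Agent.Lib.Lead.OE
open Cfsg.Agent.Lib.Helper29.SpAsch Cfsg.Agent.Lib.Helper20.SpTns
open scoped Kronecker

section generic
variable {ι : Type} [Fintype ι] [DecidableEq ι] {F : Type*} [Field F] [Fintype F]

/-- coordinates `x ↦ P *ᵥ (x ∘ e)` as a linear map -/
def phiL {κ : Type} [Fintype κ] [DecidableEq κ] (e : ι ≃ κ) (P : GL ι F) : (κ → F) →ₗ[F] (ι → F) :=
  (Matrix.toLin' (P : Matrix ι ι F)) ∘ₗ (LinearMap.funLeft F F e)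

lemma phiL_apply {κ : Type} [Fintype κ] [DecidableEq κ] (e : ι ≃ κ) (P : GL ι F) (x : κ → F) :
    phiL e P x = (P : Matrix ι ι F) *ᵥ (x ∘ e) := rfl

lemma phiL_injective {κ : Type} [Fintype κ] [DecidableEq κ] (e : ι ≃ κ) (P : GL ι F) :
    Function.Injective (phiL (F := F) e P) := by
  intro x y h
  rw [phiL_apply, phiL_apply] at h
  have h1 := congrArg (fun w => ((P⁻¹ : GL ι F) : Matrix ι ι F) *ᵥ w) h
  simp only [Matrix.mulVec_mulVec, ← Units.val_mul, inv_mul_cancel, Units.val_one, Matrix.one_mulVec] at h1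
  funext a
  have := congrFun h1 (e.symm a)
  simpa using this

lemma phiL_surjective {κ : Type} [Fintype κ] [DecidableEq κ] (e : ι ≃ κ) (P : GL ι F) :
    Function.Surjective (phiL (F := F) e P) := by
  intro u
  refine ⟨fun a => (((P⁻¹ : GL ι F) : Matrix ι ι F) *ᵥ u) (e.symm a), ?_⟩
  rw [phiL_apply]
  have : ((fun a => (((P⁻¹ : GL ι F) : Matrix ι ι F) *ᵥ u) (e.symm a)) ∘ e) =
      ((P⁻¹ : GL ι F) : Matrix ι ι F) *ᵥ u := by
    funext i
    simp
  rw [this, Matrix.mulVec_mulVec, ← Units.val_mul, mul_inv_cancel, Units.val_one, Matrix.one_mulVec]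

/-- the pure tensor with fixed first factor, as a linear map of the second factor -/
def kvecL {s k : ℕ} (x : Fin s → F) : (Fin k → F) →ₗ[F] (Fin s × Fin k → F) where
  toFun y := kvec x y
  map_add' y y' := by funext p; simp [kvec, mul_add]
  map_smul' a y := by funext p; simp [kvec, mul_left_comm]

lemma kvecL_apply {s k : ℕ} (x : Fin s → F) (y : Fin k → F) : kvecL x y = kvec x y := rfl

lemma kvec_smul_left {s k : ℕ} (a : F) (x : Fin s → F) (y : Fin k → F) :
    kvec (a • x) y = kvec x (a • y) := by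
  funext p; simp [kvec, mul_assoc, mul_left_comm]

/-- the action of an element of the tensor product subgroup in coordinates -/
lemma tensor_coords {n₁ n₂ : ℕ} (e : ι ≃ Fin n₁ × Fin n₂) (P g : GL ι F)
    (hg : g ∈ tensorProductSubgroup n₁ n₂ e P) :
    ∃ (a : GL (Fin n₁) F) (b : GL (Fin n₂) F), ∀ x : Fin n₁ × Fin n₂ → F,
      (g : Matrix ι ι F) *ᵥ phiL e P x =
        phiL e P (((a : Matrix (Fin n₁) (Fin n₁) F) ⊗ₖ (b : Matrix (Fin n₂) (Fin n₂) F)) *ᵥ x) := by
  obtain ⟨a, b, hab⟩ := (Cfsg.Agent.Lib.Helper9.TensSwap.mem_tensorProductSubgroup_iff e P g).mp hg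
  refine ⟨a, b, fun x => ?_⟩
  have hg' : (g : Matrix ι ι F) * (P : Matrix ι ι F) = (P : Matrix ι ι F) *
      Matrix.reindex e.symm e.symm
        ((a : Matrix (Fin n₁) (Fin n₁) F) ⊗ₖ (b : Matrix (Fin n₂) (Fin n₂) F)) := by
    rw [← hab, ← Units.val_mul, ← Units.val_mul]
    congr 1
    group
  rw [phiL_apply, phiL_apply, Matrix.mulVec_mulVec, hg', ← Matrix.mulVec_mulVec]
  congr 1
  funext i
  simp only [Matrix.mulVec, dotProduct, Matrix.reindex_apply, Matrix.submatrix_apply, Function.comp,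
    Equiv.symm_symm]
  rw [← e.sum_comp]

/-- a monomial matrix maps basis vectors to multiples of basis vectors -/
lemma monomial_mulVec_single {k : ℕ} (σ : Equiv.Perm (Fin k)) (ε : Fin k → F) (j : Fin k) :
    (Matrix.of fun i j' => if i = σ j' then ε j' else 0 : Matrix (Fin k) (Fin k) F) *ᵥ Pi.single j 1 =
      ε j • Pi.single (σ j) 1 := by
  funext i
  simp only [Matrix.mulVec, dotProduct, Matrix.of_apply, Pi.smul_apply, smul_eq_mul]
  rw [Finset.sum_eq_single j]
  · by_cases h : i = σ j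
    · simp [h]
    · simp [h]
  · intro j' _ hj'
    simp [hj']
  · intro h; exact absurd (Finset.mem_univ j) h

variable (Q : QuadraticForm F (ι → F))

theorem dec_of_tsym_three (hQ : (polarBilin Q).Nondegenerate) (hq : Fintype.card F = 3)
    (e : ι ≃ Fin 3 × Fin 4) (P : GL ι F) (f₁ : (Fin 3 → F) → (Fin 3 → F) → F)
    (f₂ : (Fin 4 → F) → (Fin 4 → F) → F) (hf₁ : IsSymmetricForm f₁) (hf₂ : IsSymmetricForm f₂)
    (hT : IsTensorFormStructure id (polar ⇑Q) f₁ f₂ e P) :
    ∃ D : Fin 3 → Submodule F (ι → F), IsOrthogonalMDecomposition ⇑Q 4 D ∧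
      tensorProductSubgroup 3 4 e P ⊓ isometryGroup F ⇑Q ≤ decompositionStabilizer D := by
  classical
  obtain ⟨c, hc, hten⟩ := hT
  have h2 : (2 : F) ≠ 0 := Cfsg.Agent.Lib.Helper24.OAschLeaf.f3_two_ne_zero hq
  set G₁ := gramMatrix f₁ with hG₁
  set G₂ := gramMatrix f₂ with hG₂
  have hs₁ : G₁ᵀ = G₁ := (Cfsg.Agent.Lib.Helper12.OAschLeaf.gram_of_symmetricForm f₁ hf₁).1
  have hd₁ : G₁.det ≠ 0 := (Cfsg.Agent.Lib.Helper12.OAschLeaf.gram_of_symmetricForm f₁ hf₁).2
  have hs₂ : G₂ᵀ = G₂ := (Cfsg.Agent.Lib.Helper12.OAschLeaf.gram_of_symmetricForm f₂ hf₂).1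
  have hd₂ : G₂.det ≠ 0 := (Cfsg.Agent.Lib.Helper12.OAschLeaf.gram_of_symmetricForm f₂ hf₂).2
  -- the polar form in coordinates
  have hform : ∀ x y : Fin 3 × Fin 4 → F,
      polar (⇑Q) (phiL e P x) (phiL e P y) = c * bfm (G₁ ⊗ₖ G₂) x y := by
    intro x y
    rw [phiL_apply, phiL_apply, hten, Cfsg.Agent.Lib.Helper20.SpTnsLeaf.formOfGram_id]
  -- `Q` from the polar form
  have hQhalf : ∀ w : ι → F, Q w = 2⁻¹ * polar (⇑Q) w w := by
    intro w
    have : polar (⇑Q) w w = 2 * Q w := by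
      rw [QuadraticMap.polar_self]
      simp
    rw [this, ← mul_assoc, inv_mul_cancel₀ h2, one_mul]
  -- the orthogonal basis of the first factor
  obtain ⟨b, c₁, hc₁, hb⟩ := Cfsg.Agent.Lib.Helper24.OAschLeaf.b33_basis hq G₁ hs₁ hd₁
  set v : Fin 3 → (Fin 3 → F) := fun i => (b : Matrix (Fin 3) (Fin 3) F) *ᵥ Pi.single i 1 with hv
  have hvv : ∀ i j, bfm G₁ (v i) (v j) = if i = j then c₁ else 0 := by
    intro i j
    simp only [hv]
    rw [bfm_mulVec, bfm_entry, hb, Matrix.smul_apply, Matrix.one_apply, smul_eq_mul, mul_ite, mul_one,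
      mul_zero]
  have hv0 : ∀ i, v i ≠ 0 := by
    intro i h0
    have := hvv i i
    rw [h0, if_pos rfl, bfm_zero_left] at this
    exact hc₁ this.symm
  -- the blocks
  set L : Fin 3 → ((Fin 4 → F) →ₗ[F] (ι → F)) := fun i => (phiL e P) ∘ₗ (kvecL (v i)) with hL
  have hLapp : ∀ i y, L i y = phiL e P (kvec (v i) y) := fun i y => rfl
  have hpol : ∀ i j y y', polar (⇑Q) (L i y) (L j y') =
      if i = j then c * c₁ * bfm G₂ y y' else 0 := by
    intro i j y y'
    rw [hLapp, hLapp, hform, Cfsg.Agent.Lib.Helper20.SpTnsLeaf.bfm_kron_kvec, hvv]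
    split_ifs <;> ring
  have hLinj : ∀ i, Function.Injective (L i) := by
    intro i y y' h
    have h1 : kvec (v i) y = kvec (v i) y' := phiL_injective e P h
    obtain ⟨a, ha⟩ : ∃ a, v i a ≠ 0 := by
      by_contra hcon
      push Not at hcon
      exact hv0 i (funext hcon)
    funext k
    have := congrFun h1 (a, k)
    simp only [kvec] at this
    exact mul_left_cancel₀ ha this
  set D : Fin 3 → Submodule F (ι → F) := fun i => LinearMap.range (L i) with hD
  have hcc : c * c₁ ≠ 0 := mul_ne_zero hc hc₁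
  have hnd₂ := Cfsg.Agent.Lib.Helper27.AschO4.bf_nondeg G₂ hd₂
  have hsym₂ : ∀ y y', bfm G₂ y y' = bfm G₂ y' y := Cfsg.Agent.Lib.Helper27.AschO4.bf_symm G₂ hs₂
  have hmemD : ∀ i (w : ι → F), w ∈ D i ↔ ∃ y, L i y = w := fun i w => LinearMap.mem_range
  have hnondeg : ∀ i, IsNondegenerateOn (polar ⇑Q) (D i) := by
    intro i w hw hw0
    obtain ⟨y, rfl⟩ := (hmemD i w).mp hw
    have hy0 : y ≠ 0 := by
      rintro rfl
      exact hw0 (map_zero _)
    obtain ⟨⟨x, hx⟩, ⟨x', hx'⟩⟩ := hnd₂ y hy0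
    refine ⟨⟨L i x, ⟨x, rfl⟩, ?_⟩, ⟨L i x', ⟨x', rfl⟩, ?_⟩⟩
    · rw [hpol, if_pos rfl]
      exact mul_ne_zero hcc hx
    · rw [hpol, if_pos rfl]
      exact mul_ne_zero hcc hx'
  have horth : ∀ i j, i ≠ j → AreOrthogonalFor (polar ⇑Q) (D i) (D j) := by
    intro i j hij u hu w hw
    obtain ⟨y, rfl⟩ := (hmemD i u).mp hu
    obtain ⟨y', rfl⟩ := (hmemD j w).mp hw
    rw [hpol, if_neg hij]
  refine ⟨D, ⟨⟨?_, hnondeg, horth⟩, ?_⟩, ?_⟩
  · -- IsMDecomposition
    refine ⟨by norm_num, by norm_num, ?_, ?_, ?_⟩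
    · intro i
      show finrank F (LinearMap.range (L i)) = 4
      rw [LinearMap.finrank_range_of_inj (hLinj i)]
      simp
    · rw [iSupIndep_def]
      intro i
      rw [Submodule.disjoint_def]
      intro w hwi hwsup
      by_contra hw0
      obtain ⟨⟨x, hx, hxw⟩, -⟩ := hnondeg i w hwi hw0
      apply hxw
      refine Submodule.iSup_induction (fun j => ⨆ (_ : j ≠ i), D j)
        (motive := fun w => polar (⇑Q) x w = 0) hwsup ?_ ?_ ?_
      · intro j u hu
        by_cases hji : j = i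
        · subst hji
          simp at hu
          rw [hu]
          exact QuadraticMap.polar_zero_right _ _
        · rw [iSup_pos hji] at hu
          exact horth i j (Ne.symm hji) x hx u hu
      · exact QuadraticMap.polar_zero_right _ _
      · intro u u' hu hu'
        rw [QuadraticMap.polar_add_right, hu, hu', add_zero]
    · rw [eq_top_iff]
      intro u _
      obtain ⟨x, rfl⟩ := phiL_surjective e P u
      set bi : Matrix (Fin 3) (Fin 3) F := ((b⁻¹ : GL (Fin 3) F) : Matrix (Fin 3) (Fin 3) F) with hbi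
      have hbb : (b : Matrix (Fin 3) (Fin 3) F) * bi = 1 := by
        rw [hbi, ← Units.val_mul, mul_inv_cancel, Units.val_one]
      have hx : x = ∑ i, kvec (v i) (fun k => ∑ a, bi i a * x (a, k)) := by
        funext p
        obtain ⟨a', k⟩ := p
        rw [Finset.sum_apply]
        simp only [kvec, hv, Matrix.mulVec_single_one, Matrix.col_apply]
        have h1 := congrFun (congrFun hbb a')
        simp only [Matrix.mul_apply, Matrix.one_apply] at h1
        calc x (a', k) = ∑ a, (if a' = a then 1 else 0) * x (a, k) := by simp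
          _ = ∑ a, (∑ i, (b : Matrix (Fin 3) (Fin 3) F) a' i * bi i a) * x (a, k) := by
              refine Finset.sum_congr rfl fun a _ => ?_
              rw [h1 a]
          _ = ∑ i, (b : Matrix (Fin 3) (Fin 3) F) a' i * ∑ a, bi i a * x (a, k) := by
              simp only [Finset.sum_mul, Finset.mul_sum]
              rw [Finset.sum_comm]
              refine Finset.sum_congr rfl fun i _ => Finset.sum_congr rfl fun a _ => ?_
              ring
      rw [hx, map_sum]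
      refine Submodule.sum_mem _ fun i _ => ?_
      exact Submodule.mem_iSup_of_mem i ⟨(fun k => ∑ a, bi i a * x (a, k)), rfl⟩
  · -- isometric
    intro i j
    refine ⟨(LinearEquiv.ofInjective (L i) (hLinj i)).symm.trans
      (LinearEquiv.ofInjective (L j) (hLinj j)), ?_⟩
    intro w
    set y := (LinearEquiv.ofInjective (L i) (hLinj i)).symm w with hy
    have hw : (w : ι → F) = L i y := by
      have := (LinearEquiv.ofInjective (L i) (hLinj i)).apply_symm_apply w
      rw [← hy] at this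
      rw [← this]
      rfl
    have hew : ((((LinearEquiv.ofInjective (L i) (hLinj i)).symm.trans
        (LinearEquiv.ofInjective (L j) (hLinj j))) w : D j) : ι → F) = L j y := by
      rw [LinearEquiv.trans_apply, ← hy]
      rfl
    rw [hew, hw, hQhalf, hQhalf, hpol, hpol, if_pos rfl, if_pos rfl]
  · -- stabiliser
    intro g hg
    obtain ⟨hgT, hgQ⟩ := Subgroup.mem_inf.mp hg
    obtain ⟨a, b', hact⟩ := tensor_coords e P g hgT
    set M : Matrix (Fin 3 × Fin 4) (Fin 3 × Fin 4) F :=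
      (a : Matrix (Fin 3) (Fin 3) F) ⊗ₖ (b' : Matrix (Fin 4) (Fin 4) F) with hM
    have hgQ' : ∀ u : ι → F, Q ((g : Matrix ι ι F) *ᵥ u) = Q u := fun u => hgQ u u
    have hgpol : ∀ u w : ι → F, polar (⇑Q) ((g : Matrix ι ι F) *ᵥ u) ((g : Matrix ι ι F) *ᵥ w) =
        polar (⇑Q) u w := by
      intro u w
      unfold QuadraticMap.polar
      rw [← Matrix.mulVec_add, hgQ', hgQ', hgQ']
    have hiso : Mᵀ * (G₁ ⊗ₖ G₂) * M = G₁ ⊗ₖ G₂ := by
      apply bfm_injective
      intro x y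
      rw [← bfm_mulVec]
      have h1 := hform (M *ᵥ x) (M *ᵥ y)
      rw [← hact, ← hact, hgpol, hform] at h1
      exact (mul_left_cancel₀ hc h1).symm
    have hkr : ((a : Matrix (Fin 3) (Fin 3) F)ᵀ * G₁ * (a : Matrix (Fin 3) (Fin 3) F)) ⊗ₖ
        ((b' : Matrix (Fin 4) (Fin 4) F)ᵀ * G₂ * (b' : Matrix (Fin 4) (Fin 4) F)) = G₁ ⊗ₖ G₂ := by
      rw [Matrix.mul_kronecker_mul, Matrix.mul_kronecker_mul]
      have ht : ((a : Matrix (Fin 3) (Fin 3) F)ᵀ ⊗ₖ (b' : Matrix (Fin 4) (Fin 4) F)ᵀ) = Mᵀ := by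
        rw [hM]
        ext p q
        simp [Matrix.kroneckerMap_apply]
      rw [ht]
      exact hiso
    have hG₁ne : G₁ ≠ 0 := by
      intro h0
      rw [h0] at hd₁
      exact hd₁ Matrix.det_zero
    have hG₂ne : G₂ ≠ 0 := by
      intro h0
      rw [h0] at hd₂
      exact hd₂ Matrix.det_zero
    obtain ⟨lam, hlam, ha1, -⟩ :=
      Cfsg.Agent.Lib.Helper20.SpTnsLeaf.kron_eq_kron' _ _ _ _ hG₁ne hG₂ne hkr
    -- the conjugate of `a` by `b` is monomial
    set bi : Matrix (Fin 3) (Fin 3) F := ((b⁻¹ : GL (Fin 3) F) : Matrix (Fin 3) (Fin 3) F) with hbi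
    have hbb : (b : Matrix (Fin 3) (Fin 3) F) * bi = 1 := by
      rw [hbi, ← Units.val_mul, mul_inv_cancel, Units.val_one]
    set a' : Matrix (Fin 3) (Fin 3) F := bi * (a : Matrix (Fin 3) (Fin 3) F) *
      (b : Matrix (Fin 3) (Fin 3) F) with ha'
    have hba' : (b : Matrix (Fin 3) (Fin 3) F) * a' =
        (a : Matrix (Fin 3) (Fin 3) F) * (b : Matrix (Fin 3) (Fin 3) F) := by
      rw [ha', ← Matrix.mul_assoc, ← Matrix.mul_assoc, hbb, Matrix.one_mul]
    clear_value a'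
    have ha'a' : a'ᵀ * a' = lam • (1 : Matrix (Fin 3) (Fin 3) F) := by
      have h1 : c₁ • (a'ᵀ * a') = c₁ • (lam • (1 : Matrix (Fin 3) (Fin 3) F)) := by
        calc c₁ • (a'ᵀ * a') = a'ᵀ * (c₁ • (1 : Matrix (Fin 3) (Fin 3) F)) * a' := by
              rw [Matrix.mul_smul, Matrix.mul_one, Matrix.smul_mul]
          _ = ((b : Matrix (Fin 3) (Fin 3) F) * a')ᵀ * G₁ * ((b : Matrix (Fin 3) (Fin 3) F) * a') := by
              rw [← hb, Matrix.transpose_mul]
              simp only [Matrix.mul_assoc]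
          _ = (b : Matrix (Fin 3) (Fin 3) F)ᵀ * ((a : Matrix (Fin 3) (Fin 3) F)ᵀ * G₁ *
                (a : Matrix (Fin 3) (Fin 3) F)) * (b : Matrix (Fin 3) (Fin 3) F) := by
              rw [hba', Matrix.transpose_mul]
              simp only [Matrix.mul_assoc]
          _ = c₁ • (lam • (1 : Matrix (Fin 3) (Fin 3) F)) := by
              rw [ha1, Matrix.mul_smul, Matrix.smul_mul, hb, smul_comm]
      have h3 : c₁⁻¹ • (c₁ • (a'ᵀ * a')) = c₁⁻¹ • (c₁ • (lam • (1 : Matrix (Fin 3) (Fin 3) F))) := by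
        rw [h1]
      rwa [smul_smul, smul_smul, inv_mul_cancel₀ hc₁, one_smul, one_smul] at h3
    obtain ⟨σ, ε, hε, hmon⟩ := Cfsg.Agent.Lib.Helper24.OAschLeaf.b33_monomial hq a' lam hlam ha'a'
    have hav : ∀ j, (a : Matrix (Fin 3) (Fin 3) F) *ᵥ v j = ε j • v (σ j) := by
      intro j
      simp only [hv]
      rw [Matrix.mulVec_mulVec, ← hba', ← Matrix.mulVec_mulVec, hmon, monomial_mulVec_single,
        Matrix.mulVec_smul]
    have hgL : ∀ j y, (g : Matrix ι ι F) *ᵥ L j y =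
        L (σ j) (ε j • ((b' : Matrix (Fin 4) (Fin 4) F) *ᵥ y)) := by
      intro j y
      rw [hLapp, hact, hM, Cfsg.Agent.Lib.Helper20.SpTnsLeaf.kron_mulVec_kvec, hav, kvec_smul_left, hLapp]
    refine ⟨σ, fun i => ?_⟩
    apply le_antisymm
    · rintro w ⟨u, hu, rfl⟩
      obtain ⟨y, rfl⟩ := (hmemD i u).mp hu
      rw [Matrix.toLin'_apply, hgL]
      exact ⟨_, rfl⟩
    · intro w hw
      obtain ⟨y', rfl⟩ := (hmemD (σ i) w).mp hw
      refine ⟨L i ((ε i)⁻¹ • (((b'⁻¹ : GL (Fin 4) F) : Matrix (Fin 4) (Fin 4) F) *ᵥ y')), ⟨_, rfl⟩, ?_⟩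
      rw [Matrix.toLin'_apply, hgL, Matrix.mulVec_smul, Matrix.mulVec_mulVec, ← Units.val_mul,
        mul_inv_cancel, Units.val_one, Matrix.one_mulVec, smul_smul, mul_inv_cancel₀ (hε i), one_smul]

end generic

end Cfsg.Agent.Lib.Helper20.OELeaf
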