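import Mathlib
import Cfsg.Prelude.Def_GeometricClasses
import Cfsg.Agent.Lib.Helper9.TensSwap

/-!
OMEGA-EVEN, OE-ROWS3 leaf R16 (planner lead, `notes/OmEven_rows3_leaves.lean`): `field_of_talt_two`
(`|F| = 2`: the tensor product subgroup `GL_2(2) ⊗ GL_{n₂}(2)` normalises the field `F_4 = F_2[ω] ⊗ 1`).
-/

set_option autoImplicit false
set_option linter.unusedSectionVars false
set_option linter.unusedVariables false

namespace Cfsg.Agent.Lib.Helper20.OELeaf

open Cfsg Cfsg.Geo Matrix Module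
open scoped Kronecker

section R16
variable {ι : Type} [Fintype ι] [DecidableEq ι] {F : Type*} [Field F] [Fintype F]

/-- the matrix `P * (M reindexed along e) * P⁻¹` (`ι`-generic) -/
def r16cR {κ : Type} [Fintype κ] [DecidableEq κ] (e : ι ≃ κ) (P : GL ι F)
    (M : Matrix κ κ F) : Matrix ι ι F :=
  (P : Matrix ι ι F) * Matrix.reindex e.symm e.symm M * ((P⁻¹ : GL ι F) : Matrix ι ι F)

section cR
variable {κ : Type} [Fintype κ] [DecidableEq κ] (e : ι ≃ κ) (P : GL ι F)

lemma r16cR_one : r16cR e P (1 : Matrix κ κ F) = 1 := by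
  unfold r16cR
  rw [Matrix.reindex_apply, Matrix.submatrix_one_equiv, mul_one, ← Units.val_mul, mul_inv_cancel,
    Units.val_one]

lemma r16cR_mul (M M' : Matrix κ κ F) : r16cR e P (M * M') = r16cR e P M * r16cR e P M' := by
  unfold r16cR
  have h : Matrix.reindex e.symm e.symm (M * M') =
      Matrix.reindex e.symm e.symm M * Matrix.reindex e.symm e.symm M' := by
    simp only [Matrix.reindex_apply]
    rw [Matrix.submatrix_mul_equiv]
  rw [h]
  have h2 : ((P⁻¹ : GL ι F) : Matrix ι ι F) * (P : Matrix ι ι F) = 1 := by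
    rw [← Units.val_mul, inv_mul_cancel, Units.val_one]
  calc (P : Matrix ι ι F) * (Matrix.reindex e.symm e.symm M *
        Matrix.reindex e.symm e.symm M') * ((P⁻¹ : GL ι F) : Matrix ι ι F)
      = (P : Matrix ι ι F) * Matrix.reindex e.symm e.symm M *
          (((P⁻¹ : GL ι F) : Matrix ι ι F) * (P : Matrix ι ι F)) *
          Matrix.reindex e.symm e.symm M' * ((P⁻¹ : GL ι F) : Matrix ι ι F) := by
        rw [h2, mul_one]; simp only [mul_assoc]
    _ = _ := by simp only [mul_assoc]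

lemma r16cR_add (M M' : Matrix κ κ F) : r16cR e P (M + M') = r16cR e P M + r16cR e P M' := by
  unfold r16cR
  have h : Matrix.reindex e.symm e.symm (M + M') =
      Matrix.reindex e.symm e.symm M + Matrix.reindex e.symm e.symm M' := by
    simp only [Matrix.reindex_apply]
    rfl
  rw [h, mul_add, add_mul]

lemma r16cR_injective : Function.Injective (r16cR (F := F) e P) := by
  intro M M' h
  unfold r16cR at h
  have h2 : ((P⁻¹ : GL ι F) : Matrix ι ι F) * (P : Matrix ι ι F) = 1 := by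
    rw [← Units.val_mul, inv_mul_cancel, Units.val_one]
  have h3 := congrArg (fun T => ((P⁻¹ : GL ι F) : Matrix ι ι F) * T *
    (P : Matrix ι ι F)) h
  simp only [mul_assoc, h2, mul_one] at h3
  simp only [← mul_assoc, h2, one_mul] at h3
  exact (Matrix.reindex e.symm e.symm).injective h3

end cR

/-- the generator `ω` of `F_4` inside `M_2(F_2)` -/
def r16om : Matrix (Fin 2) (Fin 2) F := !![0, 1; 1, 1]

lemma r16_zero_or_one (hq : Fintype.card F = 2) (x : F) : x = 0 ∨ x = 1 := by
  classical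
  have h : ({0, 1} : Finset F) = Finset.univ :=
    Finset.eq_univ_of_card _ (by rw [Finset.card_pair zero_ne_one, hq])
  have hx : x ∈ ({0, 1} : Finset F) := by rw [h]; exact Finset.mem_univ x
  simpa using hx

lemma r16_two (hq : Fintype.card F = 2) : (1 : F) + 1 = 0 := by
  rcases r16_zero_or_one hq ((1 : F) + 1) with h | h
  · exact h
  · exfalso
    have : (1 : F) = 0 := by linear_combination h
    exact one_ne_zero this

lemma r16om_sq (hq : Fintype.card F = 2) : (r16om : Matrix (Fin 2) (Fin 2) F) * r16om = r16om + 1 := by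
  have h2 := r16_two (F := F) hq
  unfold r16om
  ext i j
  fin_cases i <;> fin_cases j <;> simp [Matrix.mul_apply, Fin.sum_univ_two, h2]

/-- every conjugate of `ω` in `GL_2(2)` is `ω` or `ω + 1` -/
lemma r16_conj_om (hq : Fintype.card F = 2) (a : GL (Fin 2) F) :
    (a : Matrix (Fin 2) (Fin 2) F) * r16om * ((a⁻¹ : GL (Fin 2) F) : Matrix (Fin 2) (Fin 2) F) = r16om ∨
    (a : Matrix (Fin 2) (Fin 2) F) * r16om * ((a⁻¹ : GL (Fin 2) F) : Matrix (Fin 2) (Fin 2) F) = r16om + 1 := by
  have h2 := r16_two (F := F) hq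
  set B : Matrix (Fin 2) (Fin 2) F :=
    (a : Matrix (Fin 2) (Fin 2) F) * r16om * ((a⁻¹ : GL (Fin 2) F) : Matrix (Fin 2) (Fin 2) F) with hB
  have htr : Matrix.trace B = 1 := by
    rw [hB, Matrix.trace_units_conj]
    simp [r16om, Matrix.trace_fin_two]
  have hdet : Matrix.det B = 1 := by
    rw [hB, Matrix.det_units_conj]
    simp only [r16om, Matrix.det_fin_two_of]
    linear_combination -h2
  rw [Matrix.trace_fin_two] at htr
  rw [Matrix.det_fin_two] at hdet
  have hη : B = !![B 0 0, B 0 1; B 1 0, B 1 1] := Matrix.eta_fin_two B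
  have hone : (r16om : Matrix (Fin 2) (Fin 2) F) + 1 = !![1, 1; 1, 0] := by
    unfold r16om
    ext i j
    fin_cases i <;> fin_cases j <;> simp [h2]
  rw [hone, hη]
  unfold r16om
  rcases r16_zero_or_one hq (B 0 0) with h00 | h00 <;>
  rcases r16_zero_or_one hq (B 0 1) with h01 | h01 <;>
  rcases r16_zero_or_one hq (B 1 0) with h10 | h10 <;>
  rcases r16_zero_or_one hq (B 1 1) with h11 | h11 <;>
  first
  | (left; rw [h00, h01, h10, h11]; done)
  | (right; rw [h00, h01, h10, h11]; done)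
  | (exfalso; rw [h00, h11] at htr; simp [h2] at htr; done)
  | (exfalso; rw [h00, h01, h10, h11] at hdet; simp at hdet)

/-- `A ↦ P (A ⊗ 1) P⁻¹` -/
def r16psi {n₂ : ℕ} (e : ι ≃ Fin 2 × Fin n₂) (P : GL ι F) (A : Matrix (Fin 2) (Fin 2) F) :
    Matrix ι ι F :=
  r16cR e P (A ⊗ₖ (1 : Matrix (Fin n₂) (Fin n₂) F))

section psi
variable {n₂ : ℕ} (e : ι ≃ Fin 2 × Fin n₂) (P : GL ι F)

lemma r16psi_one : r16psi e P (1 : Matrix (Fin 2) (Fin 2) F) = 1 := by
  unfold r16psi
  rw [Matrix.one_kronecker_one, r16cR_one]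

lemma r16psi_mul (A B : Matrix (Fin 2) (Fin 2) F) :
    r16psi e P (A * B) = r16psi e P A * r16psi e P B := by
  unfold r16psi
  rw [← r16cR_mul, ← Matrix.mul_kronecker_mul, mul_one]

lemma r16psi_add (A B : Matrix (Fin 2) (Fin 2) F) :
    r16psi e P (A + B) = r16psi e P A + r16psi e P B := by
  unfold r16psi
  rw [Matrix.add_kronecker, r16cR_add]

lemma r16_conj (g : GL ι F) (a : GL (Fin 2) F) (b : GL (Fin n₂) F)
    (hg : ((P⁻¹ * g * P : GL ι F) : Matrix ι ι F) = Matrix.reindex e.symm e.symm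
        ((a : Matrix (Fin 2) (Fin 2) F) ⊗ₖ (b : Matrix (Fin n₂) (Fin n₂) F)))
    (A : Matrix (Fin 2) (Fin 2) F) :
    (g : Matrix ι ι F) * r16psi e P A * ((g⁻¹ : GL ι F) : Matrix ι ι F) =
      r16psi e P ((a : Matrix (Fin 2) (Fin 2) F) * A *
        ((a⁻¹ : GL (Fin 2) F) : Matrix (Fin 2) (Fin 2) F)) := by
  have hgv : (g : Matrix ι ι F) =
      r16cR e P ((a : Matrix (Fin 2) (Fin 2) F) ⊗ₖ (b : Matrix (Fin n₂) (Fin n₂) F)) := by
    unfold r16cR
    rw [← hg, ← Units.val_mul, ← Units.val_mul]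
    congr 1
    group
  have hgi : ((g⁻¹ : GL ι F) : Matrix ι ι F) =
      r16cR e P (((a⁻¹ : GL (Fin 2) F) : Matrix (Fin 2) (Fin 2) F) ⊗ₖ
        ((b⁻¹ : GL (Fin n₂) F) : Matrix (Fin n₂) (Fin n₂) F)) := by
    apply Units.inv_eq_of_mul_eq_one_right
    rw [hgv, ← r16cR_mul, ← Matrix.mul_kronecker_mul, ← Units.val_mul, ← Units.val_mul,
      mul_inv_cancel, mul_inv_cancel, Units.val_one, Units.val_one, Matrix.one_kronecker_one,
      r16cR_one]
  rw [hgv, hgi]
  unfold r16psi
  rw [← r16cR_mul, ← r16cR_mul, ← Matrix.mul_kronecker_mul, ← Matrix.mul_kronecker_mul, mul_one,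
    ← Units.val_mul, mul_inv_cancel, Units.val_one]

end psi

/-- the subalgebra `F + F W` for `W * W = W + 1` -/
def r16Alg (W : Matrix ι ι F) (hW2 : W * W = W + 1) : Subalgebra F (Matrix ι ι F) where
  carrier := {x | ∃ s t : F, x = s • (1 : Matrix ι ι F) + t • W}
  mul_mem' := by
    rintro _ _ ⟨s, t, rfl⟩ ⟨s', t', rfl⟩
    refine ⟨s * s' + t * t', s * t' + t * s' + t * t', ?_⟩
    simp only [add_mul, mul_add, Matrix.smul_mul, Matrix.mul_smul, one_mul, mul_one, hW2, smul_smul,
      smul_add]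
    module
  add_mem' := by
    rintro _ _ ⟨s, t, rfl⟩ ⟨s', t', rfl⟩
    refine ⟨s + s', t + t', ?_⟩
    rw [add_smul, add_smul]
    abel
  algebraMap_mem' := by
    intro r
    refine ⟨r, 0, ?_⟩
    rw [zero_smul, add_zero, Algebra.algebraMap_eq_smul_one]

/-- R16.  `|F| = 2`: `GL_2(2) ≅ S_3` normalises `K₀ := F[ω] = {0, 1, ω, ω + 1} ⊆ M_2(F)`, a field with 4
elements; `K := P (K₀ ⊗ 1) P⁻¹` is a field subalgebra of degree 2 normalised by the tensor product subgroup. -/
theorem field_of_talt_two (hq : Fintype.card F = 2) {n₂ : ℕ} (hn₂ : 0 < n₂) (e : ι ≃ Fin 2 × Fin n₂)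
    (P : GL ι F) :
    ∃ K : Subalgebra F (Matrix ι ι F), IsFieldSubalgebra 2 K ∧
      tensorProductSubgroup 2 n₂ e P ≤ subalgebraNormalizer K := by
  have h2 := r16_two (F := F) hq
  set W : Matrix ι ι F := r16psi e P r16om with hW
  have hW2 : W * W = W + 1 := by
    rw [hW, ← r16psi_mul, r16om_sq hq, r16psi_add, r16psi_one]
  have hW1 : r16psi e P (r16om + 1) = W + 1 := by rw [r16psi_add, r16psi_one]
  -- `W` is not a scalar
  let j0 : Fin n₂ := ⟨0, hn₂⟩
  have hsc : ∀ s : F, s • (1 : Matrix ι ι F) = 0 → s = 0 := by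
    intro s hs
    have := congrFun (congrFun hs (e.symm (0, j0))) (e.symm (0, j0))
    simpa using this
  have hWns : ∀ c : F, W ≠ c • (1 : Matrix ι ι F) := by
    intro c hc
    have h1 : r16cR e P (c • (1 : Matrix (Fin 2 × Fin n₂) (Fin 2 × Fin n₂) F)) =
        c • (1 : Matrix ι ι F) := by
      unfold r16cR
      have : Matrix.reindex e.symm e.symm (c • (1 : Matrix (Fin 2 × Fin n₂) (Fin 2 × Fin n₂) F)) =
          c • (1 : Matrix ι ι F) := by
        ext i j
        simp [Matrix.one_apply]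
      rw [this, Matrix.mul_smul, Matrix.smul_mul, mul_one, ← Units.val_mul, mul_inv_cancel,
        Units.val_one]
    have h3 : (r16om : Matrix (Fin 2) (Fin 2) F) ⊗ₖ (1 : Matrix (Fin n₂) (Fin n₂) F) =
        c • (1 : Matrix (Fin 2 × Fin n₂) (Fin 2 × Fin n₂) F) := by
      apply r16cR_injective e P
      rw [h1, ← hc]
      rfl
    have h4 := congrFun (congrFun h3 (0, j0)) (1, j0)
    simp [r16om, Matrix.kroneckerMap_apply] at h4
  set K := r16Alg W hW2 with hK
  have hli : LinearIndependent F ![(1 : Matrix ι ι F), W] := by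
    rw [LinearIndependent.pair_iff]
    intro s t hst
    by_cases ht : t = 0
    · subst ht
      rw [zero_smul, add_zero] at hst
      exact ⟨hsc s hst, rfl⟩
    · exfalso
      apply hWns (-(s / t))
      have : t • W = -(s • (1 : Matrix ι ι F)) := by
        rw [eq_neg_iff_add_eq_zero, add_comm]; exact hst
      have e' := congrArg (fun M => t⁻¹ • M) this
      simp only [smul_smul, inv_mul_cancel₀ ht, one_smul, smul_neg] at e'
      rw [e', neg_smul, div_eq_inv_mul]
  have hfr : Module.finrank F K = 2 := by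
    have hspan : Subalgebra.toSubmodule K =
        Submodule.span F (Set.range ![(1 : Matrix ι ι F), W]) := by
      have hr : Set.range ![(1 : Matrix ι ι F), W] = {1, W} := by
        simp [Matrix.range_cons, Set.pair_comm]
      ext x
      rw [Subalgebra.mem_toSubmodule, hr, Submodule.mem_span_pair]
      constructor
      · rintro ⟨a, b, rfl⟩
        exact ⟨a, b, rfl⟩
      · rintro ⟨a, b, hx⟩
        exact ⟨a, b, hx.symm⟩
    have h3 := finrank_span_eq_card hli
    rw [← hspan, Fintype.card_fin] at h3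
    exact h3
  have hWK : W ∈ K := ⟨0, 1, by rw [zero_smul, zero_add, one_smul]⟩
  have hW1K : W + 1 ∈ K := ⟨1, 1, by rw [one_smul, one_smul, add_comm]⟩
  have hWW : W + W = 0 := by
    have : W + W = ((1 : F) + 1) • W := by rw [add_smul, one_smul]
    rw [this, h2, zero_smul]
  have hfield : IsFieldSubalgebra 2 K := by
    refine ⟨?_, ?_, hfr⟩
    · rintro _ ⟨a, b, rfl⟩ _ ⟨c, d, rfl⟩
      have hT : Commute W (c • (1 : Matrix ι ι F) + d • W) :=
        ((Commute.one_right W).smul_right c).add_right ((Commute.refl W).smul_right d)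
      have h1 : Commute (1 : Matrix ι ι F) (c • (1 : Matrix ι ι F) + d • W) :=
        Commute.one_left _
      exact ((h1.smul_left a).add_left (hT.smul_left b)).eq
    · rintro _ ⟨a, b, rfl⟩ hx
      rcases r16_zero_or_one hq a with ha | ha <;> rcases r16_zero_or_one hq b with hb | hb
      · exfalso
        apply hx
        rw [ha, hb, zero_smul, zero_smul, add_zero]
      · refine ⟨W + 1, hW1K, ?_⟩
        rw [ha, hb, zero_smul, zero_add, one_smul, mul_add, mul_one, hW2, add_comm W 1, add_assoc, hWW,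
          add_zero]
      · refine ⟨1, K.one_mem, ?_⟩
        rw [ha, hb, zero_smul, add_zero, one_smul, mul_one]
      · refine ⟨W, hWK, ?_⟩
        rw [ha, hb, one_smul, one_smul, add_mul, one_mul, hW2, ← add_assoc, hWW, zero_add]
  -- the normaliser
  have hconj : ∀ g ∈ tensorProductSubgroup 2 n₂ e P, ∀ k ∈ K,
      (g : Matrix ι ι F) * k * ((g⁻¹ : GL ι F) : Matrix ι ι F) ∈ K := by
    rintro g hg _ ⟨s, t, rfl⟩
    obtain ⟨a, b, hab⟩ := (Cfsg.Agent.Lib.Helper9.TensSwap.mem_tensorProductSubgroup_iff e P g).1 hg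
    have hc := r16_conj e P g a b hab r16om
    have h1 : (g : Matrix ι ι F) * ((g⁻¹ : GL ι F) : Matrix ι ι F) = 1 := by
      rw [← Units.val_mul, mul_inv_cancel, Units.val_one]
    have hgW : (g : Matrix ι ι F) * W * ((g⁻¹ : GL ι F) : Matrix ι ι F) ∈ K := by
      rcases r16_conj_om hq a with h | h
      · rw [hW, hc, h]; exact hWK
      · rw [hW, hc, h, hW1]; exact hW1K
    have : (g : Matrix ι ι F) * (s • (1 : Matrix ι ι F) + t • W) * ((g⁻¹ : GL ι F) : Matrix ι ι F) =
        s • (1 : Matrix ι ι F) + t • ((g : Matrix ι ι F) * W * ((g⁻¹ : GL ι F) : Matrix ι ι F)) := by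
      rw [mul_add, add_mul, Matrix.mul_smul, Matrix.smul_mul, mul_one, h1, Matrix.mul_smul,
        Matrix.smul_mul]
    rw [this]
    exact K.add_mem (K.smul_mem K.one_mem s) (K.smul_mem hgW t)
  refine ⟨K, hfield, ?_⟩
  intro g hg k
  constructor
  · exact hconj g hg k
  · intro hk
    have := hconj g⁻¹ ((tensorProductSubgroup 2 n₂ e P).inv_mem hg) _ hk
    have h1 : ((g⁻¹ : GL ι F) : Matrix ι ι F) * (g : Matrix ι ι F) = 1 := by
      rw [← Units.val_mul, inv_mul_cancel, Units.val_one]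
    rw [inv_inv] at this
    have e' : ((g⁻¹ : GL ι F) : Matrix ι ι F) *
        ((g : Matrix ι ι F) * k * ((g⁻¹ : GL ι F) : Matrix ι ι F)) * (g : Matrix ι ι F) = k := by
      calc ((g⁻¹ : GL ι F) : Matrix ι ι F) *
          ((g : Matrix ι ι F) * k * ((g⁻¹ : GL ι F) : Matrix ι ι F)) * (g : Matrix ι ι F)
          = (((g⁻¹ : GL ι F) : Matrix ι ι F) * (g : Matrix ι ι F)) * k *
            (((g⁻¹ : GL ι F) : Matrix ι ι F) * (g : Matrix ι ι F)) := by simp only [mul_assoc]
        _ = k := by rw [h1, one_mul, mul_one]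
    rw [e'] at this
    exact this

end R16

end Cfsg.Agent.Lib.Helper20.OELeaf
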