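import Mathlib
import Cfsg.Prelude.Def_GeometricClasses
import Cfsg.Agent.Lib.Lead.OEQF
import Cfsg.Agent.Lib.Helper9.TensSwap

/-!
OMEGA-EVEN, OE-ROWS3 leaf R22 (planner lead, `notes/OmEven_rows3_leaves.lean`): `talt_swap`
(swap of the two factors of a tensor form structure, keeping the pure tensor clause).
-/

set_option autoImplicit false
set_option linter.unusedSectionVars false
set_option linter.unusedVariables false

namespace Cfsg.Agent.Lib.Helper20.OELeaf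

open Cfsg Cfsg.Geo Matrix Module QuadraticMap Cfsg.Agent.Lib.Lead.OE
open scoped Kronecker

section generic
variable {ι : Type} [Fintype ι] [DecidableEq ι] {F : Type*} [Field F] [Fintype F]
  (Q : QuadraticForm F (ι → F))

/-- R22 (swap for the symplectic tensor product, with the pure tensor clause). -/
theorem talt_swap {n₁ n₂ : ℕ} (e : ι ≃ Fin n₁ × Fin n₂) (P : GL ι F)
    (f₁ : (Fin n₁ → F) → (Fin n₁ → F) → F) (f₂ : (Fin n₂ → F) → (Fin n₂ → F) → F)
    (hT : IsTensorFormStructure id (polar ⇑Q) f₁ f₂ e P)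
    (hpure : ∀ (x₁ : Fin n₁ → F) (x₂ : Fin n₂ → F),
      Q ((P : Matrix ι ι F) *ᵥ ((fun a : Fin n₁ × Fin n₂ => x₁ a.1 * x₂ a.2) ∘ e)) = 0) :
    ∃ (e' : ι ≃ Fin n₂ × Fin n₁) (P' : GL ι F), IsTensorFormStructure id (polar ⇑Q) f₂ f₁ e' P' ∧
      (∀ (x₁ : Fin n₂ → F) (x₂ : Fin n₁ → F),
        Q ((P' : Matrix ι ι F) *ᵥ ((fun a : Fin n₂ × Fin n₁ => x₁ a.1 * x₂ a.2) ∘ e')) = 0) ∧
      tensorProductSubgroup n₂ n₁ e' P' = tensorProductSubgroup n₁ n₂ e P := by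
  refine ⟨e.trans (Equiv.prodComm (Fin n₁) (Fin n₂)), P,
    Cfsg.Agent.Lib.Helper9.TensSwap.isTensorFormStructure_swap hT, ?_,
    (Cfsg.Agent.Lib.Helper9.TensSwap.tensorProductSubgroup_swap e P).symm⟩
  intro x₁ x₂
  have h := hpure x₂ x₁
  have heq : ((fun a : Fin n₂ × Fin n₁ => x₁ a.1 * x₂ a.2) ∘
      (e.trans (Equiv.prodComm (Fin n₁) (Fin n₂)))) =
      ((fun a : Fin n₁ × Fin n₂ => x₂ a.1 * x₁ a.2) ∘ e) := by
    funext i
    simp [mul_comm]
  rw [heq]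
  exact h

end generic

end Cfsg.Agent.Lib.Helper20.OELeaf
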