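import Mathlib
import Cfsg.Prelude.Def_GeometricClasses
import Cfsg.Agent.Lib.Lead.OEQF
import Cfsg.Agent.Lib.Helper2.OER18
import Cfsg.Agent.Lib.Helper28.OmME3

/-!
OE-ROWS4 leaf R23 `halves_of_nd` (planner lead, `notes/OmEven_rows4_leaves.lean`): a non-degenerate subspace `W` of half dimension
gives the non-degenerate decomposition `![W, W^⊥]` (isometric as soon as the two halves are), stabilised by the isometries
stabilising `W`.  Variant of R18 without types, on helper2's `OER18` by-products.
-/

set_option autoImplicit false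
set_option linter.unusedSectionVars false
set_option linter.unusedVariables false

namespace Cfsg.Agent.Lib.Helper20.OELeaf

open Cfsg Cfsg.Geo Matrix Module QuadraticMap Cfsg.Agent.Lib.Lead.OE
open scoped Kronecker

section generic
variable {ι : Type} [Fintype ι] [DecidableEq ι] {F : Type*} [Field F] [Fintype F]
  (Q : QuadraticForm F (ι → F))

/-- R23 (exact signature of `notes/OmEven_rows4_leaves.lean`). -/
theorem halves_of_nd (hQ : (polarBilin Q).Nondegenerate) {W : Submodule F (ι → F)}
    (hW : IsNondegenerateOn (polar ⇑Q) W) {k : ℕ} (hdim : finrank F W = k)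
    (hcard : Fintype.card ι = 2 * k) (hk0 : 0 < k) :
    ∃ D : Fin 2 → Submodule F (ι → F), IsNondegenerateMDecomposition (polar ⇑Q) k D ∧
      (AreIsometricFor ⇑Q (D 0) (D 1) → IsOrthogonalMDecomposition ⇑Q k D) ∧
      subspaceStabilizer W ⊓ isometryGroup F ⇑Q ≤ decompositionStabilizer D := by
  classical
  set U : Submodule F (ι → F) := Cfsg.Agent.Lib.Helper28.OmMLeaf.perp28 Q W with hU
  obtain ⟨hcompl, hndU⟩ := Cfsg.Agent.Lib.Helper28.OmMLeaf.orth_props28 Q hQ hW
  have hstabU : subspaceStabilizer W ⊓ isometryGroup F ⇑Q ≤ subspaceStabilizer U :=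
    Cfsg.Agent.Lib.Helper28.OmMLeaf.stab_orth28 Q
  have hdimU : finrank F U = k := by
    have := Submodule.finrank_add_eq_of_isCompl hcompl
    rw [Module.finrank_fintype_fun_eq_card] at this
    show finrank F (Cfsg.Agent.Lib.Helper28.OmMLeaf.perp28 Q W) = k
    omega
  -- orthogonality
  have hWU : AreOrthogonalFor (polar ⇑Q) W U := by
    intro w hw u hu
    exact (Cfsg.Agent.Lib.Helper28.OmMLeaf.mem_orth28 Q W u).1 hu w hw
  have hUW : AreOrthogonalFor (polar ⇑Q) U W := by
    intro u hu w hw
    rw [polar_comm]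
    exact hWU w hw u hu
  have hrefl : ∀ A : Submodule F (ι → F), AreIsometricFor ⇑Q A A := fun A =>
    ⟨LinearEquiv.refl F A, fun _ => rfl⟩
  have hnd : IsNondegenerateMDecomposition (polar ⇑Q) k (![W, U] : Fin 2 → Submodule F (ι → F)) := by
    refine ⟨⟨le_refl 2, hk0, ?_, ?_, ?_⟩, ?_, ?_⟩
    · intro i
      fin_cases i
      · exact hdim
      · exact hdimU
    · -- independence
      rw [iSupIndep_def]
      intro i
      fin_cases i
      · show Disjoint W (⨆ j, ⨆ (_ : j ≠ (0 : Fin 2)), (![W, U] : Fin 2 → Submodule F (ι → F)) j)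
        have : (⨆ j, ⨆ (_ : j ≠ (0 : Fin 2)), (![W, U] : Fin 2 → Submodule F (ι → F)) j) ≤ U := by
          refine iSup_le fun j => iSup_le fun hj => ?_
          fin_cases j
          · exact absurd rfl hj
          · exact le_refl _
        exact hcompl.disjoint.mono_right this
      · show Disjoint U (⨆ j, ⨆ (_ : j ≠ (1 : Fin 2)), (![W, U] : Fin 2 → Submodule F (ι → F)) j)
        have : (⨆ j, ⨆ (_ : j ≠ (1 : Fin 2)), (![W, U] : Fin 2 → Submodule F (ι → F)) j) ≤ W := by
          refine iSup_le fun j => iSup_le fun hj => ?_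
          fin_cases j
          · exact le_refl _
          · exact absurd rfl hj
        exact hcompl.disjoint.symm.mono_right this
    · -- span
      rw [eq_top_iff, ← hcompl.sup_eq_top]
      exact sup_le (le_iSup (![W, U] : Fin 2 → Submodule F (ι → F)) 0)
        (le_iSup (![W, U] : Fin 2 → Submodule F (ι → F)) 1)
    · intro i
      fin_cases i
      · exact hW
      · exact hndU
    · intro i j hij
      fin_cases i <;> fin_cases j
      · exact absurd rfl hij
      · exact hWU
      · exact hUW
      · exact absurd rfl hij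
  refine ⟨![W, U], hnd, ?_, ?_⟩
  · intro hiso
    have hisoWU : AreIsometricFor ⇑Q W U := hiso
    have hisoUW : AreIsometricFor ⇑Q U W := by
      obtain ⟨e, he⟩ := hisoWU
      refine ⟨e.symm, fun u => ?_⟩
      have := he (e.symm u)
      rw [LinearEquiv.apply_symm_apply] at this
      exact this.symm
    refine ⟨hnd, ?_⟩
    intro i j
    fin_cases i <;> fin_cases j
    · exact hrefl W
    · exact hisoWU
    · exact hisoUW
    · exact hrefl U
  · intro g hg
    have hgW : g ∈ subspaceStabilizer W := (Subgroup.mem_inf.1 hg).1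
    have hgU : g ∈ subspaceStabilizer U := hstabU hg
    refine ⟨1, fun i => ?_⟩
    fin_cases i
    · exact Cfsg.Agent.Lib.Helper2.OELeaf.r18_map_eq hgW
    · exact Cfsg.Agent.Lib.Helper2.OELeaf.r18_map_eq hgU

end generic

end Cfsg.Agent.Lib.Helper20.OELeaf
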