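import Cfsg.Agent.Lib.Helper26.OOMinDefs
import Cfsg.Agent.Lib.Helper26.OPMinCon1Rel

/-!
# S2344 leaf CONB1, matrix part (helper20, twin split with helper23): the relations between the
matrices `shoMat`, `nsMat`, `radMatO`, `leviMatO`, `wMatO` on `IO n = Unit ⊕ (Fin n ⊕ Fin n)` and
the invariance of `quadFormOdd`.
-/

set_option autoImplicit false

namespace Cfsg.Agent.Lib.Helper20.OOMin

open Matrix Cfsg.Agent.Lib.Helper27.OPMin Cfsg.Agent.Lib.Helper26.OOMin
  Cfsg.Agent.Lib.Helper26.OPMin

variable {F : Type*} [Field F] {n : ℕ}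

/-! ### `embO` -/

theorem embO_mul (A B : Matrix (Fin n ⊕ Fin n) (Fin n ⊕ Fin n) F) :
    embO (A * B) = embO A * embO B := by
  unfold embO
  rw [fromBlocks_multiply]
  simp

theorem embO_one : embO (1 : Matrix (Fin n ⊕ Fin n) (Fin n ⊕ Fin n) F) = 1 := by
  unfold embO
  exact fromBlocks_one

/-! ### relations of `shoMat` -/

/-- the Heisenberg relation -/
theorem shoMat_mul (c c' : Fin n → F) :
    shoMat c * shoMat c' = shoMat (c + c') * radMatO (vecMulVec c' c) := by
  ext (⟨⟩ | i | i) (⟨⟩ | j | j) <;>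
  simp [shoMat, radMatO, embO, radMat, Matrix.mul_apply, Fintype.sum_sum_type, vecMulVec_apply,
    Matrix.one_apply, Finset.sum_ite_eq, Finset.sum_ite_eq']
  ring

theorem shoMat_zero : shoMat (0 : Fin n → F) = 1 := by
  ext (⟨⟩ | i | i) (⟨⟩ | j | j) <;>
  simp [shoMat, Matrix.one_apply, vecMulVec_apply]

/-- the centre of the radical commutes with the short root part -/
theorem radMatO_mul_shoMat (R : Matrix (Fin n) (Fin n) F) (c : Fin n → F) :
    radMatO R * shoMat c = shoMat c * radMatO R := by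
  ext (⟨⟩ | i | i) (⟨⟩ | j | j) <;>
  simp [shoMat, radMatO, embO, radMat, Matrix.mul_apply, Fintype.sum_sum_type, vecMulVec_apply,
    Matrix.one_apply, Finset.sum_ite_eq, Finset.sum_ite_eq']
  ring

theorem shoMat_mul_neg (c : Fin n → F) : shoMat c * shoMat (-c) = 1 := by
  ext (⟨⟩ | i | i) (⟨⟩ | j | j) <;>
  simp [shoMat, Matrix.mul_apply, Fintype.sum_sum_type, vecMulVec_apply,
    Matrix.one_apply, Finset.sum_ite_eq, Finset.sum_ite_eq']
  ring

theorem shoMat_neg_mul (c : Fin n → F) : shoMat (-c) * shoMat c = 1 := by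
  have h := shoMat_mul_neg (-c)
  rwa [neg_neg] at h

/-- a single swap `e_a ↔ f_a` commutes with `shoMat c` when `c a = 0` -/
theorem embO_swapMat_mul_shoMat (a : Fin n) (c : Fin n → F) (ha : c a = 0) :
    embO (swapMat a) * shoMat c = shoMat c * embO (swapMat a) := by
  rw [swapMat_eq_diag]
  ext (⟨⟩ | i | i) (⟨⟩ | j | j) <;>
  simp [shoMat, embO, Matrix.mul_apply, Fintype.sum_sum_type, vecMulVec_apply,
    Matrix.one_apply, Matrix.diagonal_apply, Finset.sum_ite_eq, Finset.sum_ite_eq', ite_mul, mul_ite]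
  all_goals (try split_ifs) <;> simp_all

/-- the double swap commutes with `shoMat c` when `c a = c b = 0` -/
theorem wMatO_mul_shoMat (a b : Fin n) (c : Fin n → F) (ha : c a = 0) (hb : c b = 0) :
    wMatO a b * shoMat c = shoMat c * wMatO a b := by
  unfold wMatO
  rw [embO_mul, Matrix.mul_assoc, embO_swapMat_mul_shoMat b c hb, ← Matrix.mul_assoc,
    embO_swapMat_mul_shoMat a c ha, Matrix.mul_assoc]

/-! ### relations of `nsMat` -/

theorem single_self_eq_diagonal (a : Fin n) :
    (single a a (1 : F) : Matrix (Fin n) (Fin n) F) = diagonal fun i => if i = a then 1 else 0 := by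
  rw [← diagonal_single]
  congr 1
  funext i
  rw [Pi.single_apply]

theorem one_sub_single_self_eq_diagonal (a : Fin n) :
    (1 - single a a (1 : F) : Matrix (Fin n) (Fin n) F) =
      diagonal fun i => if i = a then 0 else 1 := by
  rw [single_self_eq_diagonal]
  ext i j
  rw [Matrix.sub_apply, Matrix.one_apply, diagonal_apply, diagonal_apply]
  by_cases hij : i = j
  · subst hij
    by_cases h : i = a <;> simp [h]
  · simp [hij]

theorem nsMat_eq_diag (a : Fin n) :
    (nsMat a : Matrix (IO n) (IO n) F) =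
      fromBlocks (-1) 0 0
        (fromBlocks (diagonal fun i => if i = a then 0 else 1)
          (-(diagonal fun i => if i = a then 1 else 0))
          (-(diagonal fun i => if i = a then 1 else 0))
          (diagonal fun i => if i = a then 0 else 1)) := by
  unfold nsMat
  rw [one_sub_single_self_eq_diagonal, single_self_eq_diagonal]

theorem nsMat_mul_self (a : Fin n) : (nsMat a : Matrix (IO n) (IO n) F) * nsMat a = 1 := by
  rw [nsMat_eq_diag]
  ext (⟨⟩ | i | i) (⟨⟩ | j | j) <;>
  simp [Matrix.mul_apply, Fintype.sum_sum_type,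
    Matrix.one_apply, Matrix.diagonal_apply, Finset.sum_ite_eq, Finset.sum_ite_eq', ite_mul, mul_ite]
  all_goals (try split_ifs) <;> simp_all

/-- `nsMat a` commutes with `radMatO R` when `R` avoids the row and the column `a` -/
theorem nsMat_mul_radMatO_comm (a : Fin n) (R : Matrix (Fin n) (Fin n) F)
    (hR : ∀ i j, R i j ≠ 0 → i ≠ a ∧ j ≠ a) :
    nsMat a * radMatO R = radMatO R * nsMat a := by
  have hRa : ∀ j, R a j = 0 := by
    intro j
    by_contra h
    exact (hR a j h).1 rfl
  have hRa' : ∀ i, R i a = 0 := by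
    intro i
    by_contra h
    exact (hR i a h).2 rfl
  rw [nsMat_eq_diag]
  ext (⟨⟩ | i | i) (⟨⟩ | j | j) <;>
  simp [radMatO, embO, radMat, Matrix.mul_apply, Fintype.sum_sum_type,
    Matrix.one_apply, Matrix.diagonal_apply, Finset.sum_ite_eq, Finset.sum_ite_eq', ite_mul, mul_ite]
  all_goals (try split_ifs) <;> simp_all

/-- `nsMat a` on `shoMat c`, `c a = 0` -/
theorem nsMat_mul_shoMat (a : Fin n) (c : Fin n → F) (ha : c a = 0) :
    nsMat a * shoMat c = shoMat (-c) * nsMat a := by
  rw [nsMat_eq_diag]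
  ext (⟨⟩ | i | i) (⟨⟩ | j | j) <;>
  simp [shoMat, Matrix.mul_apply, Fintype.sum_sum_type, vecMulVec_apply,
    Matrix.one_apply, Matrix.diagonal_apply, Finset.sum_ite_eq, Finset.sum_ite_eq', ite_mul, mul_ite]
  all_goals (try split_ifs) <;> simp_all

theorem leviMat_transvection {i a : Fin n} (hia : i ≠ a) (t : F) :
    leviMat (Matrix.transvection i a t) =
      fromBlocks (1 + single i a t) 0 0 (1 - single a i t) := by
  unfold leviMat Matrix.transvection
  rw [inv_one_add_single hia, transpose_sub, transpose_one, transpose_single]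

/-- `nsMat a` turns the long root element `rad (t E_ia)` into a Levi transvection -/
theorem nsMat_mul_radMatO_single {a i : Fin n} (hia : i ≠ a) (t : F) :
    nsMat a * radMatO (single i a t) = leviMatO (Matrix.transvection i a (-t)) * nsMat a := by
  unfold leviMatO
  rw [nsMat_eq_diag, leviMat_transvection hia]
  ext (⟨⟩ | k | k) (⟨⟩ | j | j) <;>
  simp [radMatO, embO, radMat, Matrix.mul_apply, Fintype.sum_sum_type,
    Matrix.one_apply, Matrix.diagonal_apply, Matrix.single_apply, ite_and, Finset.sum_ite_eq,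
    Finset.sum_ite_eq', ite_mul, mul_ite, add_mul, mul_add, sub_mul, mul_sub,
    Finset.sum_add_distrib, Finset.sum_sub_distrib]
  all_goals
    by_cases h1 : k = a <;> by_cases h2 : j = a <;> by_cases h3 : k = i <;> by_cases h4 : j = i <;>
    by_cases h5 : k = j <;> simp_all [eq_comm]

/-- `nsMat a` turns a Levi transvection into the long root element -/
theorem nsMat_mul_leviMatO_transvection {a i : Fin n} (hia : i ≠ a) (t : F) :
    nsMat a * leviMatO (Matrix.transvection i a t) = radMatO (single i a (-t)) * nsMat a := by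
  have h := nsMat_mul_radMatO_single hia (-t)
  rw [neg_neg] at h
  calc nsMat a * leviMatO (Matrix.transvection i a t)
      = nsMat a * (leviMatO (Matrix.transvection i a t) * nsMat a) * nsMat a := by
        rw [Matrix.mul_assoc, Matrix.mul_assoc, nsMat_mul_self, Matrix.mul_one]
    _ = nsMat a * (nsMat a * radMatO (single i a (-t))) * nsMat a := by rw [h]
    _ = radMatO (single i a (-t)) * nsMat a := by
        rw [← Matrix.mul_assoc, nsMat_mul_self, Matrix.one_mul]

/-- the Levi factor acts on the short root part through the natural module -/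
theorem leviMatO_mul_shoMat {g : Matrix (Fin n) (Fin n) F} (hg : IsUnit g.det) (c : Fin n → F) :
    leviMatO g * shoMat c = shoMat (g *ᵥ c) * leviMatO g := by
  have hinv : g⁻¹ * g = 1 := Matrix.nonsing_inv_mul _ hg
  have hc : (g *ᵥ c) ᵥ* g⁻¹ᵀ = c := by
    rw [Matrix.vecMul_transpose, Matrix.mulVec_mulVec, hinv, Matrix.one_mulVec]
  have hc' : ∀ j, ∑ k, (g *ᵥ c) k * g⁻¹ j k = c j := by
    intro j
    have h1 := congrFun hc j
    rw [← h1]
    rfl
  unfold leviMatO embO shoMat
  rw [fromBlocks_multiply, fromBlocks_multiply]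
  congr 1
  · simp
  · ext ⟨⟩ (j | j)
    · simp [leviMat, Matrix.mul_apply, Fintype.sum_sum_type]
    · simp [leviMat, Matrix.mul_apply, Fintype.sum_sum_type, hc']
  · ext (i | i) ⟨⟩
    · simp [leviMat, Matrix.mul_apply, Fintype.sum_sum_type, Matrix.mulVec, dotProduct,
        Finset.mul_sum]
      apply Finset.sum_congr rfl
      intro k _
      ring
    · simp [leviMat, Matrix.mul_apply, Fintype.sum_sum_type]
  · simp only [Matrix.zero_mul, Matrix.mul_zero, zero_add, add_zero]
    unfold leviMat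
    rw [fromBlocks_multiply, fromBlocks_multiply]
    simp only [Matrix.zero_mul, Matrix.mul_zero, zero_add, add_zero, Matrix.mul_one, Matrix.one_mul,
      Matrix.mul_neg, Matrix.neg_mul, Matrix.mul_vecMulVec, Matrix.vecMulVec_mul, hc]
    congr 1
    ext i j
    simp [vecMulVec_apply]

/-! ### invariance of the quadratic form -/

theorem quadFormOdd_eq (v : IO n → F) :
    Cfsg.quadFormOdd n F v =
      v (Sum.inl ()) ^ 2 + Cfsg.quadFormPlus n F (v ∘ Sum.inr) := rfl

theorem quadFormOdd_embO (A : Matrix (Fin n ⊕ Fin n) (Fin n ⊕ Fin n) F)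
    (hA : ∀ w, Cfsg.quadFormPlus n F (A *ᵥ w) = Cfsg.quadFormPlus n F w) (v : IO n → F) :
    Cfsg.quadFormOdd n F (embO A *ᵥ v) = Cfsg.quadFormOdd n F v := by
  rw [quadFormOdd_eq, quadFormOdd_eq]
  unfold embO
  rw [fromBlocks_mulVec]
  simp only [Matrix.zero_mulVec, Matrix.one_mulVec, zero_add, add_zero, Sum.elim_comp_inr,
    Sum.elim_inl, hA]
  rfl

theorem quadFormOdd_shoMat (c : Fin n → F) (v : IO n → F) :
    Cfsg.quadFormOdd n F (shoMat c *ᵥ v) = Cfsg.quadFormOdd n F v := by
  have h0 : (shoMat c *ᵥ v) (Sum.inl ()) =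
      v (Sum.inl ()) - ∑ j, c j * v (Sum.inr (Sum.inr j)) := by
    simp [shoMat, Matrix.mulVec, dotProduct, Fintype.sum_sum_type, sub_eq_add_neg,
      Finset.sum_neg_distrib]
  have h1 : ∀ i, (shoMat c *ᵥ v) (Sum.inr (Sum.inl i)) =
      2 * c i * v (Sum.inl ()) + v (Sum.inr (Sum.inl i)) -
        c i * ∑ j, c j * v (Sum.inr (Sum.inr j)) := by
    intro i
    simp [shoMat, Matrix.mulVec, dotProduct, Fintype.sum_sum_type, sub_eq_add_neg,
      Finset.sum_neg_distrib, Matrix.one_apply, vecMulVec_apply, Finset.mul_sum, mul_assoc]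
    ring
  have h2 : ∀ i, (shoMat c *ᵥ v) (Sum.inr (Sum.inr i)) = v (Sum.inr (Sum.inr i)) := by
    intro i
    simp [shoMat, Matrix.mulVec, dotProduct, Fintype.sum_sum_type, Matrix.one_apply]
  unfold Cfsg.quadFormOdd
  rw [h0]
  simp only [h1, h2]
  have e : ∀ i, (2 * c i * v (Sum.inl ()) + v (Sum.inr (Sum.inl i)) -
      c i * ∑ j, c j * v (Sum.inr (Sum.inr j))) * v (Sum.inr (Sum.inr i)) =
      2 * v (Sum.inl ()) * (c i * v (Sum.inr (Sum.inr i))) +
        v (Sum.inr (Sum.inl i)) * v (Sum.inr (Sum.inr i)) -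
        (∑ j, c j * v (Sum.inr (Sum.inr j))) * (c i * v (Sum.inr (Sum.inr i))) := by
    intro i
    ring
  simp only [e, Finset.sum_add_distrib, Finset.sum_sub_distrib, ← Finset.mul_sum]
  ring

theorem quadFormOdd_nsMat (a : Fin n) (v : IO n → F) :
    Cfsg.quadFormOdd n F (nsMat a *ᵥ v) = Cfsg.quadFormOdd n F v := by
  have h0 : (nsMat a *ᵥ v) (Sum.inl ()) = - v (Sum.inl ()) := by
    rw [nsMat_eq_diag]
    simp [Matrix.mulVec, dotProduct, Fintype.sum_sum_type]
  have h1 : ∀ i, (nsMat a *ᵥ v) (Sum.inr (Sum.inl i)) =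
      if i = a then - v (Sum.inr (Sum.inr i)) else v (Sum.inr (Sum.inl i)) := by
    intro i
    rw [nsMat_eq_diag]
    by_cases h : i = a <;>
    simp [Matrix.mulVec, dotProduct, Fintype.sum_sum_type, Matrix.diagonal_apply, h]
  have h2 : ∀ i, (nsMat a *ᵥ v) (Sum.inr (Sum.inr i)) =
      if i = a then - v (Sum.inr (Sum.inl i)) else v (Sum.inr (Sum.inr i)) := by
    intro i
    rw [nsMat_eq_diag]
    by_cases h : i = a <;>
    simp [Matrix.mulVec, dotProduct, Fintype.sum_sum_type, Matrix.diagonal_apply, h]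
  unfold Cfsg.quadFormOdd
  rw [h0]
  simp only [h1, h2]
  congr 1
  · ring
  · apply Finset.sum_congr rfl
    intro i _
    by_cases h : i = a
    · rw [if_pos h, if_pos h]
      ring
    · rw [if_neg h, if_neg h]

end Cfsg.Agent.Lib.Helper20.OOMin
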