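import Mathlib
import Cfsg.Agent.Lib.Helper17.OSubDefs
import Cfsg.Agent.Lib.Helper15.QuadClass

/-!
S5659 leaves C3 (`sset_line`) and C4 (`sset_all`): closure of the set of centres of unitary
transvection groups of `M` under hyperbolic lines, and: if all rational isotropic vectors are
centres then all isotropic vectors are.  `sset_all_of` is C4 with leaf B5 (`exists_sing_sep`) as an
explicit hypothesis.
-/

set_option autoImplicit false
set_option linter.unusedSectionVars false
set_option linter.unusedVariables false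

namespace Cfsg.Agent.Lib.Helper20.OSubLeaf
open Cfsg Matrix Cfsg.Agent.Lib.Helper5.SpMax
  Cfsg.Agent.Lib.Helper5.UForm Cfsg.Agent.Lib.Helper5.HermBridge
  Cfsg.Agent.Lib.Helper5.SUGen Cfsg.Agent.Lib.Helper5.SUMax Cfsg.Agent.Lib.Helper5.USub
  Cfsg.Agent.Lib.Helper17.OSub

variable {F : Type*} [Field F] [Fintype F] {q n : ℕ}

/-- the zero vector is a centre (its transvections are trivial) -/
lemma zero_mem_Sset (hF : Fintype.card F = q ^ 2) (M : Subgroup (GL (Fin n) F)) :
    (0 : Fin n → F) ∈ Sset hF M := by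
  intro c hc g hg
  have : g = 1 := by
    apply Units.ext
    apply mat_eq_of_mulVec
    intro x
    rw [hg x, smul_zero, add_zero, Units.val_one, Matrix.one_mulVec]
  rw [this]
  exact M.one_mem

section Rat
variable {hF : Fintype.card F = q ^ 2} {F₀ : Subfield F} {P : GL (Fin n) F}
  (S : Setup hF F₀ P)
include S

variable {M : Subgroup (GL (Fin n) F)}

/-- LEAF C3: isotropic vectors on the hyperbolic line through two centres are centres. -/
theorem sset_line {z₁ z₂ x : Fin n → F} {α₁ α₂ : F} (h₁ : z₁ ∈ Sset hF M) (h₂ : z₂ ∈ Sset hF M)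
    (h₁₁ : Cfsg.hermForm n F q z₁ z₁ = 0) (h₂₂ : Cfsg.hermForm n F q z₂ z₂ = 0)
    (h₁₂ : Cfsg.hermForm n F q z₁ z₂ ≠ 0) (hx : x = α₁ • z₁ + α₂ • z₂)
    (hxx : Cfsg.hermForm n F q x x = 0) : x ∈ Sset hF M := by
  have hf := herm_unitary (n := n) hF
  by_cases hα : α₁ = 0
  · rw [hx, hα, zero_smul, zero_add]
    exact Sset_smul hF h₂ α₂
  · set c' : F := α₂ / α₁ with hc'
    have hxy : x = α₁ • (z₁ + c' • z₂) := by
      rw [hx, smul_add, smul_smul, hc', mul_div_cancel₀ _ hα]
    have hσα : frobQ hF α₁ ≠ 0 := by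
      intro h
      exact hα ((map_eq_zero (frobQ hF)).mp h)
    have hyy : Cfsg.hermForm n F q (z₁ + c' • z₂) (z₁ + c' • z₂) = 0 := by
      have h := hxx
      rw [hxy, hf.smul_left, u_smul_right hf] at h
      rcases mul_eq_zero.mp h with h | h
      · exact absurd h hα
      · rcases mul_eq_zero.mp h with h | h
        · exact absurd h hσα
        · exact h
    have hrel : frobQ hF c' * Cfsg.hermForm n F q z₁ z₂ +
        c' * frobQ hF (Cfsg.hermForm n F q z₁ z₂) = 0 := by
      have h := hyy
      rw [u_expand hf, h₁₁, h₂₂, mul_zero, add_zero, zero_add, hf.herm z₂ z₁] at h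
      exact h
    have hσ12 : frobQ hF (Cfsg.hermForm n F q z₁ z₂) ≠ 0 := by
      intro h
      exact h₁₂ ((map_eq_zero (frobQ hF)).mp h)
    set c : F := c' / Cfsg.hermForm n F q z₁ z₂ with hc
    have hcs : frobQ hF c = -c := by
      rw [hc, map_div₀, div_eq_iff hσ12, neg_mul, div_mul_eq_mul_div, eq_neg_iff_add_eq_zero,
        ← eq_neg_iff_add_eq_zero, eq_neg_iff_add_eq_zero]
      field_simp
      linear_combination hrel
    have hmem := Sset_tv hF h₁ h₂ h₂₂ hcs
    rw [hc, div_mul_cancel₀ _ h₁₂] at hmem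
    rw [hxy]
    exact Sset_smul hF hmem α₁


/-- the form on rational vectors is fixed by the Frobenius -/
lemma form_fix {u v : Fin n → F} (hu : IsRat F₀ P u) (hv : IsRat F₀ P v) :
    frobQ hF (Cfsg.hermForm n F q u v) = Cfsg.hermForm n F q u v :=
  (S.fix_iff _).mp (S.form u v hu hv)

/-- `a + ζ b` isotropic with `a`, `b` rational: `h a a = ζ² h b b` -/
lemma iso_decomp {ζ : F} (hζ : frobQ hF ζ = -ζ) {a b : Fin n → F} (ha : IsRat F₀ P a)
    (hb : IsRat F₀ P b) :
    Cfsg.hermForm n F q (a + ζ • b) (a + ζ • b) =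
      Cfsg.hermForm n F q a a - ζ ^ 2 * Cfsg.hermForm n F q b b := by
  have hf := herm_unitary (n := n) hF
  rw [u_expand hf, hζ, S.sym ha hb]
  ring

/-- LEAF C4 with B5 as a hypothesis. -/
theorem sset_all_of (hn : 13 ≤ n)
    (hB5 : ∀ {a b : Fin n → F}, IsRat F₀ P a → IsRat F₀ P b → Ind F₀ a b →
      ∃ z, RS q F₀ P z ∧ Cfsg.hermForm n F q b z = 0 ∧ Cfsg.hermForm n F q a z = 1)
    (hR : ∀ z, RS q F₀ P z → z ∈ Sset hF M)
    (x : Fin n → F) (hx : Cfsg.hermForm n F q x x = 0) : x ∈ Sset hF M := by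
  have hf := herm_unitary (n := n) hF
  obtain ⟨ζ, hζ0, hζ⟩ := S.exists_zeta
  have hω := S.zeta_moved hζ0 hζ
  have h2 := S.two_ne_zero
  obtain ⟨a, b, ha, hb, rfl⟩ := S.decomp_vec hω x
  by_cases hind : Ind F₀ a b
  swap
  · -- dependent case
    obtain ⟨κ, r, hr, hκ⟩ := mult_of_not_ind ζ ha hb hind
    rw [hκ]
    by_cases hrr : Cfsg.hermForm n F q r r = 0
    · by_cases hr0 : r = 0
      · rw [hr0, smul_zero]
        exact zero_mem_Sset hF M
      · exact Sset_smul hF (hR r ⟨hr, hr0, hrr⟩) κ
    · have hκ0 : κ = 0 := by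
        have h := hx
        rw [hκ, hf.smul_left, u_smul_right hf] at h
        rcases mul_eq_zero.mp h with h | h
        · exact h
        · rcases mul_eq_zero.mp h with h | h
          · exact (map_eq_zero (frobQ hF)).mp h
          · exact absurd h hrr
      rw [hκ0, zero_smul]
      exact zero_mem_Sset hF M
  · -- independent case
    obtain ⟨z, hz, hbz, haz⟩ := hB5 ha hb hind
    obtain ⟨hzr, hz0, hzz⟩ := hz
    have hzS : z ∈ Sset hF M := hR z ⟨hzr, hz0, hzz⟩
    have hzb : Cfsg.hermForm n F q z b = 0 := by rw [S.sym hb hzr]; exact hbz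
    have hza : Cfsg.hermForm n F q z a = 1 := by rw [S.sym ha hzr]; exact haz
    set β : F := Cfsg.hermForm n F q b b with hβ
    set γ : F := Cfsg.hermForm n F q a b with hγ
    have hβ₀ : β ∈ F₀ := S.form b b hb hb
    have hγ₀ : γ ∈ F₀ := S.form a b ha hb
    have hd₀ : ζ ^ 2 ∈ F₀ := by
      rw [S.fix_iff, map_pow, hζ]; ring
    have haa : Cfsg.hermForm n F q a a = ζ ^ 2 * β := by
      have h := hx
      rw [iso_decomp S hζ ha hb] at h
      rw [hβ]
      linear_combination h
    -- the shifted vectors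
    have key : ∀ s : F, s ∈ F₀ →
        (a + ζ • (b + s • z)) ∈ Sset hF M → (a + ζ • b) ∈ Sset hF M := by
      intro s hs hmem
      have hσs : frobQ hF s = s := (S.fix_iff s).mp hs
      have hc : frobQ hF (-(s * ζ)) = -(-(s * ζ)) := by
        rw [map_neg, map_mul, hσs, hζ]; ring
      have hval : Cfsg.hermForm n F q (a + ζ • (b + s • z)) z = 1 := by
        rw [hf.add_left, hf.smul_left, hf.add_left, hf.smul_left, haz, hbz, hzz]
        ring
      have := Sset_tv hF hmem hzS hzz hc
      rw [hval, mul_one] at this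
      have e : a + ζ • (b + s • z) + (-(s * ζ)) • z = a + ζ • b := by
        rw [smul_add, smul_smul, neg_smul, mul_comm s ζ]
        abel
      rwa [e] at this
    have bs_rat : ∀ s : F, s ∈ F₀ → IsRat F₀ P (b + s • z) :=
      fun s hs => isRat_add hb (isRat_smul hs hzr)
    have bs_bs : ∀ s : F, s ∈ F₀ →
        Cfsg.hermForm n F q (b + s • z) (b + s • z) = β := by
      intro s hs
      have hσs : frobQ hF s = s := (S.fix_iff s).mp hs
      rw [u_expand hf, hbz, hzb, hzz, hβ]
      ring
    have a_bs : ∀ s : F, s ∈ F₀ → Cfsg.hermForm n F q a (b + s • z) = γ + s := by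
      intro s hs
      have hσs : frobQ hF s = s := (S.fix_iff s).mp hs
      rw [u_add_right hf, u_smul_right hf, haz, hσs, mul_one]
    have xs_iso : ∀ s : F, s ∈ F₀ →
        Cfsg.hermForm n F q (a + ζ • (b + s • z)) (a + ζ • (b + s • z)) = 0 := by
      intro s hs
      rw [iso_decomp S hζ ha (bs_rat s hs), bs_bs s hs, haa]
      ring
    by_cases hβ0 : β = 0
    · -- β = 0
      have hs : (1 - γ) ∈ F₀ := F₀.sub_mem F₀.one_mem hγ₀
      apply key (1 - γ) hs
      have hab1 : Cfsg.hermForm n F q a (b + (1 - γ) • z) = 1 := by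
        rw [a_bs _ hs]; ring
      have haa0 : Cfsg.hermForm n F q a a = 0 := by rw [haa, hβ0, mul_zero]
      have hbb0 : Cfsg.hermForm n F q (b + (1 - γ) • z) (b + (1 - γ) • z) = 0 := by
        rw [bs_bs _ hs, hβ0]
      have hb0 : b + (1 - γ) • z ≠ 0 := by
        intro h0
        rw [h0, u_zero_right hf] at hab1
        exact zero_ne_one hab1
      have haS : a ∈ Sset hF M := hR a ⟨ha, ind_ne_zero hind, haa0⟩
      have hbS : b + (1 - γ) • z ∈ Sset hF M := hR _ ⟨bs_rat _ hs, hb0, hbb0⟩
      exact sset_line S haS hbS haa0 hbb0 (by rw [hab1]; exact one_ne_zero)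
        (by rw [one_smul]) (xs_iso _ hs)
    · -- β ≠ 0
      set d : F := ζ ^ 2 with hd
      set g : F := (1 + d * β ^ 2) / 2 with hg
      set e : F := (1 - d * β ^ 2) / 2 with he
      have hg₀ : g ∈ F₀ := by
        rw [hg]
        exact F₀.div_mem (F₀.add_mem F₀.one_mem (F₀.mul_mem hd₀ (F₀.pow_mem hβ₀ 2)))
          (F₀.add_mem F₀.one_mem F₀.one_mem |> fun h => by
            have : (2 : F) = 1 + 1 := by norm_num
            rw [this]; exact h)
      have he₀ : e ∈ F₀ := by
        rw [he]
        exact F₀.div_mem (F₀.sub_mem F₀.one_mem (F₀.mul_mem hd₀ (F₀.pow_mem hβ₀ 2)))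
          (F₀.add_mem F₀.one_mem F₀.one_mem |> fun h => by
            have : (2 : F) = 1 + 1 := by norm_num
            rw [this]; exact h)
      have he0 : e ≠ 0 := by
        intro h0
        have h1 : d * β ^ 2 = 1 := by
          have : (1 - d * β ^ 2) / 2 = 0 := by rw [← he]; exact h0
          rcases div_eq_zero_iff.mp this with h | h
          · linear_combination -h
          · exact absurd h h2
        -- then ζ = ± 1/β is rational
        have h3 : (ζ * β - 1) * (ζ * β + 1) = 0 := by
          rw [hd] at h1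
          linear_combination h1
        have hζ₀ : ζ ∈ F₀ := by
          rcases mul_eq_zero.mp h3 with h | h
          · have : ζ = 1 / β := by
              rw [eq_div_iff hβ0]; linear_combination h
            rw [this]
            exact F₀.div_mem F₀.one_mem hβ₀
          · have : ζ = -1 / β := by
              rw [eq_div_iff hβ0]; linear_combination h
            rw [this]
            exact F₀.div_mem (F₀.neg_mem F₀.one_mem) hβ₀
        exact hω ((S.fix_iff ζ).mp hζ₀)
      have hge : g + e = 1 := by rw [hg, he]; field_simp; ring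
      have hge' : g - e = d * β ^ 2 := by rw [hg, he]; field_simp; ring
      have hs : (g - γ) ∈ F₀ := F₀.sub_mem hg₀ hγ₀
      apply key (g - γ) hs
      set bs : Fin n → F := b + (g - γ) • z with hbs
      have hbsr : IsRat F₀ P bs := bs_rat _ hs
      have hbb : Cfsg.hermForm n F q bs bs = β := bs_bs _ hs
      have hab : Cfsg.hermForm n F q a bs = g := by rw [hbs, a_bs _ hs]; ring
      have hba : Cfsg.hermForm n F q bs a = g := by rw [S.sym ha hbsr]; exact hab
      have hσβ : frobQ hF β = β := (S.fix_iff β).mp hβ₀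
      have hσg : frobQ hF g = g := (S.fix_iff g).mp hg₀
      have hσe : frobQ hF e = e := (S.fix_iff e).mp he₀
      set z₁ : Fin n → F := β • a + (e - g) • bs with hz₁
      set z₂ : Fin n → F := β • a - (e + g) • bs with hz₂
      have hz₁r : IsRat F₀ P z₁ :=
        isRat_add (isRat_smul hβ₀ ha) (isRat_smul (F₀.sub_mem he₀ hg₀) hbsr)
      have hz₂r : IsRat F₀ P z₂ :=
        isRat_sub (isRat_smul hβ₀ ha) (isRat_smul (F₀.add_mem he₀ hg₀) hbsr)
      have gen : ∀ s₁ t₁ s₂ t₂ : F, Cfsg.hermForm n F q (s₁ • a + t₁ • bs) (s₂ • a + t₂ • bs) =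
          s₁ * frobQ hF s₂ * (d * β) + s₁ * frobQ hF t₂ * g + t₁ * frobQ hF s₂ * g +
            t₁ * frobQ hF t₂ * β := by
        intro s₁ t₁ s₂ t₂
        rw [hf.add_left, hf.smul_left, hf.smul_left, u_add_right hf, u_add_right hf,
          u_smul_right hf, u_smul_right hf, u_smul_right hf, u_smul_right hf, haa, hab, hba, hbb]
        ring
      have hz₂' : z₂ = β • a + (-(e + g)) • bs := by rw [hz₂, neg_smul, sub_eq_add_neg]
      have h11 : Cfsg.hermForm n F q z₁ z₁ = 0 := by
        rw [hz₁, gen, hσβ, map_sub, hσe, hσg]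
        linear_combination (-β) * hge' + (β * (e - g)) * hge
      have h22 : Cfsg.hermForm n F q z₂ z₂ = 0 := by
        rw [hz₂', gen, hσβ, map_neg, map_add, hσe, hσg]
        linear_combination (-β) * hge' + (-β * (g - e)) * hge
      have h12 : Cfsg.hermForm n F q z₁ z₂ = -2 * β * e ^ 2 := by
        rw [hz₁, hz₂', gen, hσβ, map_neg, map_add, hσe, hσg]
        linear_combination (-β) * hge' + (-β * (g - e)) * hge
      have h12ne : Cfsg.hermForm n F q z₁ z₂ ≠ 0 := by
        rw [h12]
        exact mul_ne_zero (mul_ne_zero (neg_ne_zero.mpr h2) hβ0) (pow_ne_zero 2 he0)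
      have hz₁0 : z₁ ≠ 0 := by
        intro h0
        rw [h0, u_zero_left hf] at h12ne
        exact h12ne rfl
      have hz₂0 : z₂ ≠ 0 := by
        intro h0
        rw [h0, u_zero_right hf] at h12ne
        exact h12ne rfl
      have hz₁S : z₁ ∈ Sset hF M := hR z₁ ⟨hz₁r, hz₁0, h11⟩
      have hz₂S : z₂ ∈ Sset hF M := hR z₂ ⟨hz₂r, hz₂0, h22⟩
      have hcomb : a + ζ • bs =
          (1 / (2 * β) + g / (2 * β * e) + ζ / (2 * e)) • z₁ +
            (1 / (2 * β) - g / (2 * β * e) - ζ / (2 * e)) • z₂ := by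
        have e1 : (1 / (2 * β) + g / (2 * β * e) + ζ / (2 * e)) • z₁ +
            (1 / (2 * β) - g / (2 * β * e) - ζ / (2 * e)) • z₂ =
            (((1 / (2 * β) + g / (2 * β * e) + ζ / (2 * e)) +
              (1 / (2 * β) - g / (2 * β * e) - ζ / (2 * e))) * β) • a +
            ((1 / (2 * β) + g / (2 * β * e) + ζ / (2 * e)) * (e - g) -
              (1 / (2 * β) - g / (2 * β * e) - ζ / (2 * e)) * (e + g)) • bs := by
          rw [hz₁, hz₂]
          module
        have c1 : ((1 / (2 * β) + g / (2 * β * e) + ζ / (2 * e)) +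
              (1 / (2 * β) - g / (2 * β * e) - ζ / (2 * e))) * β = 1 := by
          field_simp
          ring
        have c2 : (1 / (2 * β) + g / (2 * β * e) + ζ / (2 * e)) * (e - g) -
              (1 / (2 * β) - g / (2 * β * e) - ζ / (2 * e)) * (e + g) = ζ := by
          field_simp
          ring
        rw [e1, c1, c2, one_smul]
      exact sset_line S hz₁S hz₂S h11 h22 h12ne hcomb (xs_iso _ hs)

end Rat

end Cfsg.Agent.Lib.Helper20.OSubLeaf
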