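import Mathlib
import Cfsg.Prelude.Def_ClassicalGeometry
import Cfsg.Prelude.Def_GeometricClasses
import Cfsg.Agent.Lib.Helper5.TSMax
import Cfsg.Agent.Lib.Helper19.OSubDefs
import Cfsg.Agent.Lib.Helper19.OSubBasic
import Cfsg.Agent.Lib.Helper19.OSubDescent
import Cfsg.Agent.Lib.Helper15.QuadClass
import Cfsg.Agent.Lib.Helper18.OSubGF

/-!
S5683 / S5702 (helper19 market), leaves G1, G2, G3 in core form: the eigenvector data of G0
(`W`, nondegenerate over `F₀`, consisting of `ε`-eigenvectors) is an explicit hypothesis.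
-/

set_option autoImplicit false
set_option linter.unusedSectionVars false
set_option linter.unusedVariables false

namespace Cfsg.Agent.Lib.Helper20.OSubLeaf
open Cfsg Matrix QuadraticMap Module Cfsg.Agent.Lib.Helper25.Siegel Cfsg.Agent.Lib.Helper19.OSub
open scoped commutatorElement

variable {ι : Type} [Fintype ι] [DecidableEq ι] {F : Type*} [Field F] [Fintype F]
  {F₀ : Subfield F} {Q : QuadraticForm F (ι → F)} {M : Subgroup (GL ι F)}

/-- G1 core -/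
theorem exists_sing_eig_core (h : QCtx F₀ Q) {z : GL ι F} {ε : F}
    (W : Submodule F₀ (ι → F₀)) (hW : Cfsg.Agent.Lib.Helper15.NdOn (Q0 h) W)
    (hWz : ∀ u ∈ W, mv z (up F₀ u) = ε • up F₀ u) (h3 : 3 ≤ finrank F₀ W) :
    ∃ a, RatV F₀ a ∧ a ≠ 0 ∧ Q a = 0 ∧ mv z a = ε • a := by
  obtain ⟨e, f, heW, hfW, he, hf, hee, hff, hef⟩ :=
    Cfsg.Agent.Lib.Helper18.OSubLeaf.exists_frame_in (Q0 h) 1 W hW (by omega)
  refine ⟨up F₀ (e 0), ratV_up _, ?_, (Q0_eq_zero h _).mp (he 0), hWz _ (heW 0)⟩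
  intro h0
  have h1 : polar Q (up F₀ (e 0)) (up F₀ (f 0)) = 1 :=
    (polar_Q0_eq_one h _ _).mp (by rw [hef 0 0, if_pos rfl])
  rw [h0, polar_zero_left] at h1
  exact zero_ne_one h1

/-- G2 core -/
theorem exists_pairs_eig_core (h : QCtx F₀ Q) {z : GL ι F} {ε : F}
    (W : Submodule F₀ (ι → F₀)) (hW : Cfsg.Agent.Lib.Helper15.NdOn (Q0 h) W)
    (hWz : ∀ u ∈ W, mv z (up F₀ u) = ε • up F₀ u) (h5 : 5 ≤ finrank F₀ W) :
    ∃ d₁ d₁' d₂ d₂' : ι → F, HypPair F₀ Q d₁ d₁' ∧ HypPair F₀ Q d₂ d₂' ∧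
      polar Q d₁ d₂ = 0 ∧ polar Q d₁ d₂' = 0 ∧ polar Q d₁' d₂ = 0 ∧ polar Q d₁' d₂' = 0 ∧
      mv z d₁ = ε • d₁ ∧ mv z d₁' = ε • d₁' ∧ mv z d₂ = ε • d₂ ∧ mv z d₂' = ε • d₂' := by
  obtain ⟨e, f, heW, hfW, he, hf, hee, hff, hef⟩ :=
    Cfsg.Agent.Lib.Helper18.OSubLeaf.exists_frame_in (Q0 h) 2 W hW (by omega)
  refine ⟨up F₀ (e 0), up F₀ (f 0), up F₀ (e 1), up F₀ (f 1),
    ⟨ratV_up _, ratV_up _, (Q0_eq_zero h _).mp (he 0), (Q0_eq_zero h _).mp (hf 0),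
      (polar_Q0_eq_one h _ _).mp (by rw [hef 0 0, if_pos rfl])⟩,
    ⟨ratV_up _, ratV_up _, (Q0_eq_zero h _).mp (he 1), (Q0_eq_zero h _).mp (hf 1),
      (polar_Q0_eq_one h _ _).mp (by rw [hef 1 1, if_pos rfl])⟩,
    (polar_Q0_eq_zero h _ _).mp (hee 0 1),
    (polar_Q0_eq_zero h _ _).mp (by rw [hef 0 1, if_neg (by decide)]),
    (polar_Q0_eq_zero h _ _).mp (by rw [polar_comm, hef 1 0, if_neg (by decide)]),
    (polar_Q0_eq_zero h _ _).mp (hff 0 1),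
    hWz _ (heW 0), hWz _ (hfW 0), hWz _ (heW 1), hWz _ (hfW 1)⟩

/-- G3 core -/
theorem exists_frame_eig_core (h : QCtx F₀ Q) {y : GL ι F}
    (W : Submodule F₀ (ι → F₀)) (hW : Cfsg.Agent.Lib.Helper15.NdOn (Q0 h) W)
    (hWz : ∀ u ∈ W, mv y (up F₀ u) = (1 : F) • up F₀ u) (h9 : 9 ≤ finrank F₀ W) :
    ∃ fr : Frame F₀ Q 4, ∀ i, mv y (fr.e i) = fr.e i ∧ mv y (fr.f i) = fr.f i := by
  obtain ⟨e, f, heW, hfW, he, hf, hee, hff, hef⟩ :=
    Cfsg.Agent.Lib.Helper18.OSubLeaf.exists_frame_in (Q0 h) 4 W hW (by omega)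
  refine ⟨{ e := fun i => up F₀ (e i), f := fun i => up F₀ (f i),
            rat_e := fun i => ratV_up _, rat_f := fun i => ratV_up _,
            Qe := fun i => (Q0_eq_zero h _).mp (he i),
            Qf := fun i => (Q0_eq_zero h _).mp (hf i),
            ee := fun i j => (polar_Q0_eq_zero h _ _).mp (hee i j),
            ff := fun i j => (polar_Q0_eq_zero h _ _).mp (hff i j),
            ef := fun i j => ?_ }, fun i => ⟨?_, ?_⟩⟩
  · have := hef i j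
    by_cases hij : i = j
    · rw [if_pos hij] at this ⊢
      exact (polar_Q0_eq_one h _ _).mp this
    · rw [if_neg hij] at this ⊢
      exact (polar_Q0_eq_zero h _ _).mp this
  · have := hWz _ (heW i)
    rwa [one_smul] at this
  · have := hWz _ (hfW i)
    rwa [one_smul] at this

end Cfsg.Agent.Lib.Helper20.OSubLeaf
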