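import Mathlib
import Cfsg.Prelude.Def_GeometricClasses
import Cfsg.Agent.Lib.Helper20.OmMDefs
import Cfsg.Agent.Lib.Helper9.PlusPlane
import Cfsg.Agent.Lib.Helper9.FrameF3
import Cfsg.Agent.Lib.Helper25.SpinForms
import Cfsg.Agent.Lib.Helper14.OrthOdd
import Cfsg.Agent.Lib.Helper1.OmMT1
import Cfsg.Agent.Lib.Helper1.OmMP1
import Cfsg.Agent.Lib.Helper1.OmMP5
import Cfsg.Agent.Lib.Helper1.OmMN13
import Cfsg.Agent.Lib.Helper22.OmMP2
import Cfsg.Agent.Lib.Helper22.OmMP3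
import Cfsg.Agent.Lib.Helper28.OmMP7
import Cfsg.Agent.Lib.Helper28.OmME3

/-!
# OmOddMax (S5814 S5835 S5859): the assembly (helper20) on top of the landed leaves
(helper1: T1 P1 P5 N1 N3; helper22: P2 P3; helper28: P7 E3).  Plan: notes/OmOddMax_plan.md, leaves: notes/OmOddMax_leaves.lean.
-/

set_option autoImplicit false
set_option linter.unusedSectionVars false
set_option linter.unusedVariables false

namespace Cfsg.Agent.Lib.Helper20.OmMGlue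

open Cfsg Cfsg.Geo Matrix Module QuadraticMap Cfsg.Agent.Lib.Helper20.OmM
open Cfsg.Agent.Lib.Helper1.OmMLeaf Cfsg.Agent.Lib.Helper22.OmMLeaf Cfsg.Agent.Lib.Helper28.OmMLeaf

section assembly
variable {m : ℕ} {F : Type*} [Field F] [Fintype F]

/-- the standard odd form as a `QuadraticForm` -/
noncomputable abbrev qO (m : ℕ) (F : Type*) [Field F] (h2 : (2 : F) ≠ 0) :
    QuadraticForm F (Unit ⊕ (Fin m ⊕ Fin m) → F) :=
  Cfsg.Agent.Lib.Helper25.Spin.qfOf (Cfsg.Agent.Lib.Helper14.isQF_odd (m := m) h2)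

lemma qO_nondeg (h2 : (2 : F) ≠ 0) : (polarBilin (qO m F h2)).Nondegenerate :=
  Cfsg.Agent.Lib.Helper25.Spin.qfOf_nondeg _

lemma card_idx (m : ℕ) : Fintype.card (Unit ⊕ (Fin m ⊕ Fin m)) = 2 * m + 1 := by
  simp only [Fintype.card_sum, Fintype.card_fin, Fintype.card_unit]
  omega

lemma odd_idx (m : ℕ) : Odd (Fintype.card (Unit ⊕ (Fin m ⊕ Fin m))) := by
  rw [card_idx]
  exact ⟨m, rfl⟩

/-- G1 -/
theorem hproper_of_maximal (hodd : Odd (Fintype.card F)) {H : Subgroup (GL (Unit ⊕ (Fin m ⊕ Fin m)) F)}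
    (hH : IsMaximalIn (omegaGL (quadFormOdd m F)) H) :
    H ⊔ (scalars (Unit ⊕ (Fin m ⊕ Fin m)) F ⊓ omegaGL (quadFormOdd m F)) ≠ omegaGL (quadFormOdd m F) := by
  have h2 : (2 : F) ≠ 0 := Cfsg.Agent.Lib.Helper25.Spin.two_ne_zero_of_odd_card hodd
  have h := omega_inf_scalars (qO m F h2) (qO_nondeg h2) (odd_idx m)
  change scalars _ F ⊓ omegaGL (quadFormOdd m F) = ⊥ at h
  rw [h, sup_bot_eq]
  exact hH.1.ne

/-- G2 -/
theorem eq_inf_of_maximal {G : Type*} [Group G] {Ω H X : Subgroup G} (hH : IsMaximalIn Ω H) (hle : H ≤ X)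
    (hX : ¬ Ω ≤ X) : H = X ⊓ Ω := by
  rcases hH.2 (X ⊓ Ω) (le_inf hle hH.1.le) inf_le_right with h | h
  · exact h.symm
  · exact absurd (h ▸ inf_le_left) hX

lemma false_of_between {G : Type*} [Group G] {Ω H A K : Subgroup G} (hH : IsMaximalIn Ω H) (hHA : H ≤ A)
    (hAK : A < K) (hK : K < Ω) : False := by
  rcases hH.2 K (hHA.trans hAK.le) hK.le with h | h
  · exact absurd (h ▸ hAK) (not_lt_of_ge hHA)
  · exact hK.ne h

/-- G3: a class member containing the maximal `H` can be replaced by a refined one -/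
theorem refine_member (hodd : Odd (Fintype.card F)) (hm : 3 ≤ m)
    {H M : Subgroup (GL (Unit ⊕ (Fin m ⊕ Fin m)) F)}
    (hH : IsMaximalIn (omegaGL (quadFormOdd m F)) H) (hM : InOrthogonalOddClass m F M) (hHM : H ≤ M) :
    ∃ X, GoodO m F X ∧ H ≤ X := by
  have h2 : (2 : F) ≠ 0 := Cfsg.Agent.Lib.Helper25.Spin.two_ne_zero_of_odd_card hodd
  have hQ := qO_nondeg (m := m) h2
  have hcard := card_idx m
  have hHΩ : H ≤ omegaGL (quadFormOdd m F) := hH.1.le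
  have hq3 : 3 ≤ Fintype.card F := by
    have h1 : 1 < Fintype.card F := Fintype.one_lt_card
    obtain ⟨j, hj⟩ := hodd
    omega
  rcases hM with ⟨W, h0, hts, rfl⟩ | ⟨W, h0, h1, hnd, rfl⟩ | ⟨t, k, D, hk, hD, rfl⟩ | ⟨t, D, hp, hD, rfl⟩ |
    ⟨r, K, hr, hne, hK, hsa, rfl⟩ | ⟨n₁, n₂, e, P, f₁, f₂, h1, h2', hf₁, hf₂, hT, rfl⟩ |
    ⟨F₀, r, P, hr, hc, hrat, rfl⟩ | ⟨k, t, e, P, f₁, hk, ht, hex, hf₁, hT, rfl⟩
  · exact ⟨_, Or.inl ⟨W, h0, hts, rfl⟩, hHM.trans inf_le_left⟩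
  · obtain ⟨U, hU0, hUe, hUnd, hle⟩ := nd_even (qO m F h2) hQ (odd_idx m) h0 h1 hnd
    have hHU : H ≤ subspaceStabilizer U := hHM.trans hle
    by_cases hbad : Fintype.card F = 3 ∧ Module.finrank F U = 2 ∧ IsPlusTypeOn (quadFormOdd m F) U
    · exfalso
      obtain ⟨K, hK1, hK2⟩ := Cfsg.Agent.Lib.Helper9.PlusPlane.main (qO m F h2) hQ (by omega)
        (by rw [hcard]; omega) U hbad.2.1 hUnd hbad.2.2
      exact false_of_between hH (le_inf hHU hHΩ) hK1 hK2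
    · exact ⟨_, Or.inr (Or.inl ⟨U, hU0, hUe, hUnd, hbad, rfl⟩), hHU⟩
  · have hHD : H ≤ decompositionStabilizer D := hHM.trans inf_le_left
    by_cases hbad : k = 3 ∧ ¬ 5 ≤ Fintype.card F
    · exfalso
      have hq : Fintype.card F = 3 := by
        obtain ⟨j, hj⟩ := hodd
        omega
      obtain ⟨K, hK1, hK2⟩ := Cfsg.Agent.Lib.Helper9.FrameF3.main_of_decomp (qO m F h2) hQ hq
        (by rw [hcard]; omega) D k (Or.inr hbad.1) hD (by intro h; omega)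
      exact false_of_between hH (le_inf hHD hHΩ) hK1 hK2
    · refine ⟨_, Or.inr (Or.inr (Or.inl ⟨t, k, D, hk, hD, ?_, rfl⟩)), hHD⟩
      intro hk3
      by_contra h5
      exact hbad ⟨hk3, h5⟩
  · exact ⟨_, Or.inr (Or.inr (Or.inr (Or.inl ⟨t, D, hp, hD, rfl⟩))), hHM.trans inf_le_left⟩
  · exact ⟨_, Or.inr (Or.inr (Or.inr (Or.inr (Or.inl ⟨r, K, hr, hne, hK, hsa, rfl⟩)))), hHM.trans inf_le_left⟩
  · exact ⟨_, Or.inr (Or.inr (Or.inr (Or.inr (Or.inr (Or.inl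
      ⟨n₁, n₂, e, P, f₁, f₂, h1, h2', hf₁, hf₂, hT, rfl⟩))))), hHM.trans inf_le_left⟩
  · exact ⟨_, Or.inr (Or.inr (Or.inr (Or.inr (Or.inr (Or.inr (Or.inl ⟨F₀, r, P, hr, hc, hrat, rfl⟩)))))),
      hHM.trans inf_le_left⟩
  · exact ⟨_, Or.inr (Or.inr (Or.inr (Or.inr (Or.inr (Or.inr (Or.inr
      ⟨k, t, e, P, f₁, hk, ht, hex, hf₁, hT, rfl⟩)))))), hHM.trans inf_le_left⟩

/-- G4 -/
theorem concl_of_asch (hodd : Odd (Fintype.card F)) (hm : 3 ≤ m)
    {H : Subgroup (GL (Unit ⊕ (Fin m ⊕ Fin m)) F)}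
    (hH : IsMaximalIn (omegaGL (quadFormOdd m F)) H) (hA : AschO m F H)
    (hprop : ∀ X, GoodO m F X → ¬ omegaGL (quadFormOdd m F) ≤ X) : ConclO m F H := by
  rcases hA with ⟨M, hM, hHM⟩ | hres
  · obtain ⟨X, hX, hHX⟩ := refine_member hodd hm hH hM hHM
    exact Or.inl ⟨X, hX, eq_inf_of_maximal hH hHX (hprop X hX)⟩
  · exact Or.inr hres

theorem concl_of_maximal (hodd : Odd (Fintype.card F)) (hm : 3 ≤ m) (hS : AschOStmt m F)
    {H : Subgroup (GL (Unit ⊕ (Fin m ⊕ Fin m)) F)}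
    (hH : IsMaximalIn (omegaGL (quadFormOdd m F)) H)
    (hprop : ∀ X, GoodO m F X → ¬ omegaGL (quadFormOdd m F) ≤ X) : ConclO m F H :=
  concl_of_asch hodd hm hH (hS H hH.1.le (hproper_of_maximal hodd hH)) hprop

/-! ### properness of the refined members, numerics -/

lemma ts_ne_top (h2 : (2 : F) ≠ 0) {W : Submodule F (Unit ⊕ (Fin m ⊕ Fin m) → F)}
    (hts : IsTotallySingularQuad (quadFormOdd m F) W) : W ≠ ⊤ := by
  rintro rfl
  have h := hts (Pi.single (Sum.inl ()) 1) Submodule.mem_top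
  unfold quadFormOdd at h
  simp at h

lemma card_tensor {ι : Type} [Fintype ι] {n₁ n₂ : ℕ} (e : ι ≃ Fin n₁ × Fin n₂) :
    Fintype.card ι = n₁ * n₂ := by
  rw [Fintype.card_congr e]
  simp

lemma card_wreath {ι : Type} [Fintype ι] {k t : ℕ} (e : ι ≃ (Fin t → Fin k)) :
    Fintype.card ι = k ^ t := by
  rw [Fintype.card_congr e]
  simp

/-- the clauses of `GoodO` that survive the numerics, and their properness -/
theorem good_proper (hodd : Odd (Fintype.card F)) (hm : 3 ≤ m)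
    (hnoT : ∀ n₁ n₂ : ℕ, 3 ≤ n₁ → n₁ < n₂ → n₁ * n₂ ≠ 2 * m + 1)
    (hW : ∀ k t : ℕ, 3 ≤ k → 2 ≤ t → k ^ t = 2 * m + 1 → t = 2)
    (X : Subgroup (GL (Unit ⊕ (Fin m ⊕ Fin m)) F)) (hX : GoodO m F X) :
    ¬ omegaGL (quadFormOdd m F) ≤ X := by
  have h2 : (2 : F) ≠ 0 := Cfsg.Agent.Lib.Helper25.Spin.two_ne_zero_of_odd_card hodd
  have hQ := qO_nondeg (m := m) h2
  have hcard := card_idx m
  rcases hX with ⟨W, h0, hts, rfl⟩ | ⟨W, h0, hev, hnd, -, rfl⟩ | ⟨t, k, D, hk, hD, -, rfl⟩ | ⟨t, D, hp, hD, rfl⟩ |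
    ⟨r, K, hr, hne, hK, hsa, rfl⟩ | ⟨n₁, n₂, e, P, f₁, f₂, h1, h2', hf₁, hf₂, hT, rfl⟩ |
    ⟨F₀, r, P, hr, hc, hrat, rfl⟩ | ⟨k, t, e, P, f₁, hk, ht, hex, hf₁, hT, rfl⟩
  · exact not_omega_le_subspace (qO m F h2) hQ h2 (by rw [hcard]; omega) h0 (ts_ne_top h2 hts)
  · refine not_omega_le_subspace (qO m F h2) hQ h2 (by rw [hcard]; omega) h0 ?_
    rintro rfl
    rw [finrank_top, Module.finrank_fintype_fun_eq_card, hcard] at hev
    exact (Nat.not_even_iff_odd.mpr ⟨m, rfl⟩) hev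
  · exact not_omega_le_dec (qO m F h2) hQ h2 (odd_idx m) (by rw [hcard]; omega) hD.decomp
  · exact not_omega_le_dec (qO m F h2) hQ h2 (odd_idx m) (by rw [hcard]; omega) hD.decomp
  · exact not_omega_le_field (qO m F h2) hQ h2 (by rw [hcard]; omega) hr.two_le hK
  · exact absurd ((card_tensor e).symm.trans hcard) (hnoT n₁ n₂ h1 h2')
  · exact not_omega_le_subfield (qO m F h2) hQ h2 (by rw [hcard]; omega) F₀ hr hc P hrat
  · have ht2 : t = 2 := hW k t hk ht ((card_wreath e).symm.trans hcard)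
    subst ht2
    exact not_omega_le_tensorSquare (qO m F h2) hQ h2 (by rw [hcard]; omega) hk e P f₁ hf₁ hT

end assembly

end Cfsg.Agent.Lib.Helper20.OmMGlue
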