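import Mathlib
import Cfsg.Prelude.Def_GeometricClasses
import Cfsg.Agent.Lib.Helper20.OmMDefs
import Cfsg.Agent.Lib.Helper1.OmMN13

/-!
# OmOddMax (S5814 S5835 S5859): the three rows from `ConclO m F H` (helper20); numerics via helper1's N1/N3.
-/
set_option autoImplicit false
set_option linter.unusedSectionVars false
set_option linter.unusedVariables false

namespace Cfsg.Agent.Lib.Helper20.OmMRows
open Cfsg Cfsg.Geo Matrix Module QuadraticMap Cfsg.Agent.Lib.Helper20.OmM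
open Cfsg.Agent.Lib.Helper1.OmMLeaf

lemma card_idx (m : ℕ) : Fintype.card (Unit ⊕ (Fin m ⊕ Fin m)) = 2 * m + 1 := by
  simp only [Fintype.card_sum, Fintype.card_fin, Fintype.card_unit]
  omega

lemma card_tensor {ι : Type} [Fintype ι] {n₁ n₂ : ℕ} (e : ι ≃ Fin n₁ × Fin n₂) :
    Fintype.card ι = n₁ * n₂ := by
  rw [Fintype.card_congr e]
  simp

lemma card_wreath {ι : Type} [Fintype ι] {k t : ℕ} (e : ι ≃ (Fin t → Fin k)) :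
    Fintype.card ι = k ^ t := by
  rw [Fintype.card_congr e]
  simp

lemma nine_le_pow {k t : ℕ} (hk : 3 ≤ k) (ht : 2 ≤ t) : 9 ≤ k ^ t :=
  calc 9 = 3 ^ 2 := by norm_num
    _ ≤ k ^ 2 := Nat.pow_le_pow_left hk 2
    _ ≤ k ^ t := Nat.pow_le_pow_right (by omega) ht

lemma twentyseven_le_pow {k t : ℕ} (hk : 3 ≤ k) (ht : 3 ≤ t) : 27 ≤ k ^ t :=
  calc 27 = 3 ^ 3 := by norm_num
    _ ≤ k ^ 3 := Nat.pow_le_pow_left hk 3
    _ ≤ k ^ t := Nat.pow_le_pow_right (by omega) ht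

lemma twelve_le_mul {n₁ n₂ : ℕ} (h1 : 3 ≤ n₁) (h2 : n₁ < n₂) : 12 ≤ n₁ * n₂ := by nlinarith

/-- the row for `Ω_7` -/
theorem row7 {F : Type*} [Field F] [Fintype F] (hodd : Odd (Fintype.card F))
    {H : Subgroup (Matrix.GeneralLinearGroup (Unit ⊕ (Fin 3 ⊕ Fin 3)) F)} (hC : ConclO 3 F H) :
    (∃ W : Submodule F (Unit ⊕ (Fin 3 ⊕ Fin 3) → F), W ≠ ⊥ ∧ Cfsg.Geo.IsTotallySingularQuad (Cfsg.quadFormOdd 3 F) W ∧ H = Cfsg.Geo.subspaceStabilizer W ⊓ Cfsg.Geo.omegaGL (Cfsg.quadFormOdd 3 F)) ∨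
    (∃ W : Submodule F (Unit ⊕ (Fin 3 ⊕ Fin 3) → F), W ≠ ⊥ ∧ Even (Module.finrank F W) ∧ Cfsg.Geo.IsNondegenerateOn (QuadraticMap.polar (Cfsg.quadFormOdd 3 F)) W ∧ ¬ (Fintype.card F = 3 ∧ Module.finrank F W = 2 ∧ Cfsg.Geo.IsPlusTypeOn (Cfsg.quadFormOdd 3 F) W) ∧ H = Cfsg.Geo.subspaceStabilizer W ⊓ Cfsg.Geo.omegaGL (Cfsg.quadFormOdd 3 F)) ∨
    ((Fintype.card F).Prime ∧ ∃ D : Fin 7 → Submodule F (Unit ⊕ (Fin 3 ⊕ Fin 3) → F), Cfsg.Geo.IsOrthogonalMDecomposition (Cfsg.quadFormOdd 3 F) 1 D ∧ H = Cfsg.Geo.decompositionStabilizer D ⊓ Cfsg.Geo.omegaGL (Cfsg.quadFormOdd 3 F)) ∨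
    (∃ (F₀ : Subfield F) (r : ℕ) (P : Matrix.GeneralLinearGroup (Unit ⊕ (Fin 3 ⊕ Fin 3)) F), r.Prime ∧ Fintype.card F = Nat.card F₀ ^ r ∧ Cfsg.Geo.IsQuadFormRationalStructure (Cfsg.quadFormOdd 3 F) F₀ P ∧ H = Cfsg.Geo.subfieldSubgroup F₀ P ⊓ Cfsg.Geo.omegaGL (Cfsg.quadFormOdd 3 F)) ∨
    Cfsg.Geo.InOrthogonalResidualClass H := by
  rcases hC with ⟨X, hX, rfl⟩ | hres
  swap
  · exact Or.inr (Or.inr (Or.inr (Or.inr hres)))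
  rcases hX with ⟨W, h0, hts, rfl⟩ | ⟨W, h0, hev, hnd, hnp, rfl⟩ | ⟨t, k, D, hk, hD, h35, rfl⟩ | ⟨t, D, hp, hD, rfl⟩ |
    ⟨r, K, hr, hne, hK, hsa, rfl⟩ | ⟨n₁, n₂, e, P, f₁, f₂, h1, h2', hf₁, hf₂, hT, rfl⟩ |
    ⟨F₀, r, P, hr, hc, hrat, rfl⟩ | ⟨k, t, e, P, f₁, hk, ht, hex, hf₁, hT, rfl⟩
  · exact Or.inl ⟨W, h0, hts, rfl⟩
  · exact Or.inr (Or.inl ⟨W, h0, hev, hnd, hnp, rfl⟩)
  · exfalso
    have h1 := mdec_card_gen hD.decomp.decomp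
    rw [card_idx] at h1
    have ht := hD.decomp.decomp.two_le
    have ht' : t ≤ 7 := by nlinarith
    interval_cases t <;> omega
  · have h1 := mdec_card_gen hD.decomp.decomp
    rw [card_idx, mul_one] at h1
    have ht : t = 7 := by omega
    subst ht
    exact Or.inr (Or.inr (Or.inl ⟨hp, D, hD, rfl⟩))
  · exfalso
    have h1 := field_dvd_gen (F := F) (by rw [card_idx]; omega) hK
    rw [card_idx] at h1
    have h7 : r = 7 := (Nat.prime_dvd_prime_iff_eq hr (by norm_num)).mp h1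
    omega
  · exfalso
    have h := card_tensor e
    rw [card_idx] at h
    have := twelve_le_mul h1 h2'
    omega
  · exact Or.inr (Or.inr (Or.inr (Or.inl ⟨F₀, r, P, hr, hc, hrat, rfl⟩)))
  · exfalso
    have h := card_wreath e
    rw [card_idx] at h
    have := nine_le_pow hk ht
    omega

/-- the row for `Ω_9` -/
theorem row9 {F : Type*} [Field F] [Fintype F] (hodd : Odd (Fintype.card F))
    {H : Subgroup (Matrix.GeneralLinearGroup (Unit ⊕ (Fin 4 ⊕ Fin 4)) F)} (hC : ConclO 4 F H) :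
    (∃ W : Submodule F (Unit ⊕ (Fin 4 ⊕ Fin 4) → F), W ≠ ⊥ ∧ Cfsg.Geo.IsTotallySingularQuad (Cfsg.quadFormOdd 4 F) W ∧ H = Cfsg.Geo.subspaceStabilizer W ⊓ Cfsg.Geo.omegaGL (Cfsg.quadFormOdd 4 F)) ∨
    (∃ W : Submodule F (Unit ⊕ (Fin 4 ⊕ Fin 4) → F), W ≠ ⊥ ∧ Even (Module.finrank F W) ∧ Cfsg.Geo.IsNondegenerateOn (QuadraticMap.polar (Cfsg.quadFormOdd 4 F)) W ∧ ¬ (Fintype.card F = 3 ∧ Module.finrank F W = 2 ∧ Cfsg.Geo.IsPlusTypeOn (Cfsg.quadFormOdd 4 F) W) ∧ H = Cfsg.Geo.subspaceStabilizer W ⊓ Cfsg.Geo.omegaGL (Cfsg.quadFormOdd 4 F)) ∨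
    ((Fintype.card F).Prime ∧ ∃ D : Fin 9 → Submodule F (Unit ⊕ (Fin 4 ⊕ Fin 4) → F), Cfsg.Geo.IsOrthogonalMDecomposition (Cfsg.quadFormOdd 4 F) 1 D ∧ H = Cfsg.Geo.decompositionStabilizer D ⊓ Cfsg.Geo.omegaGL (Cfsg.quadFormOdd 4 F)) ∨
    (5 ≤ Fintype.card F ∧ ∃ D : Fin 3 → Submodule F (Unit ⊕ (Fin 4 ⊕ Fin 4) → F), Cfsg.Geo.IsOrthogonalMDecomposition (Cfsg.quadFormOdd 4 F) 3 D ∧ H = Cfsg.Geo.decompositionStabilizer D ⊓ Cfsg.Geo.omegaGL (Cfsg.quadFormOdd 4 F)) ∨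
    (∃ K : Subalgebra F (Matrix (Unit ⊕ (Fin 4 ⊕ Fin 4)) (Unit ⊕ (Fin 4 ⊕ Fin 4)) F), Cfsg.Geo.IsFieldSubalgebra 3 K ∧ Cfsg.Geo.IsSelfAdjointFor (QuadraticMap.polar (Cfsg.quadFormOdd 4 F)) K ∧ H = Cfsg.Geo.subalgebraNormalizer K ⊓ Cfsg.Geo.omegaGL (Cfsg.quadFormOdd 4 F)) ∨
    (∃ (F₀ : Subfield F) (r : ℕ) (P : Matrix.GeneralLinearGroup (Unit ⊕ (Fin 4 ⊕ Fin 4)) F), r.Prime ∧ Fintype.card F = Nat.card F₀ ^ r ∧ Cfsg.Geo.IsQuadFormRationalStructure (Cfsg.quadFormOdd 4 F) F₀ P ∧ H = Cfsg.Geo.subfieldSubgroup F₀ P ⊓ Cfsg.Geo.omegaGL (Cfsg.quadFormOdd 4 F)) ∨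
    (5 ≤ Fintype.card F ∧ ∃ (e : (Unit ⊕ (Fin 4 ⊕ Fin 4)) ≃ (Fin 2 → Fin 3)) (P : Matrix.GeneralLinearGroup (Unit ⊕ (Fin 4 ⊕ Fin 4)) F) (f₁ : (Fin 3 → F) → (Fin 3 → F) → F), Cfsg.Geo.IsSymmetricForm f₁ ∧ Cfsg.Geo.IsTensorPowerFormStructure id (QuadraticMap.polar (Cfsg.quadFormOdd 4 F)) f₁ e P ∧ H = Cfsg.Geo.tensorWreathSubgroup 3 2 e P ⊓ Cfsg.Geo.omegaGL (Cfsg.quadFormOdd 4 F)) ∨
    Cfsg.Geo.InOrthogonalResidualClass H := by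
  have hq3 : 3 ≤ Fintype.card F := by
    have h1 : 1 < Fintype.card F := Fintype.one_lt_card
    obtain ⟨j, hj⟩ := hodd
    omega
  rcases hC with ⟨X, hX, rfl⟩ | hres
  swap
  · exact Or.inr (Or.inr (Or.inr (Or.inr (Or.inr (Or.inr (Or.inr hres))))))
  rcases hX with ⟨W, h0, hts, rfl⟩ | ⟨W, h0, hev, hnd, hnp, rfl⟩ | ⟨t, k, D, hk, hD, h35, rfl⟩ | ⟨t, D, hp, hD, rfl⟩ |
    ⟨r, K, hr, hne, hK, hsa, rfl⟩ | ⟨n₁, n₂, e, P, f₁, f₂, h1, h2', hf₁, hf₂, hT, rfl⟩ |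
    ⟨F₀, r, P, hr, hc, hrat, rfl⟩ | ⟨k, t, e, P, f₁, hk, ht, hex, hf₁, hT, rfl⟩
  · exact Or.inl ⟨W, h0, hts, rfl⟩
  · exact Or.inr (Or.inl ⟨W, h0, hev, hnd, hnp, rfl⟩)
  · have h1 := mdec_card_gen hD.decomp.decomp
    rw [card_idx] at h1
    have ht := hD.decomp.decomp.two_le
    have ht' : t ≤ 9 := by nlinarith
    have h33 : t = 3 ∧ k = 3 := by
      interval_cases t <;> omega
    obtain ⟨rfl, rfl⟩ := h33
    exact Or.inr (Or.inr (Or.inr (Or.inl ⟨h35 rfl, D, hD, rfl⟩)))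
  · have h1 := mdec_card_gen hD.decomp.decomp
    rw [card_idx, mul_one] at h1
    have ht : t = 9 := by omega
    subst ht
    exact Or.inr (Or.inr (Or.inl ⟨hp, D, hD, rfl⟩))
  · have h1 := field_dvd_gen (F := F) (by rw [card_idx]; omega) hK
    rw [card_idx] at h1
    have h9 : r ∣ 3 ^ 2 := by norm_num at h1 ⊢; exact h1
    have h3 : r = 3 := (Nat.prime_dvd_prime_iff_eq hr (by norm_num)).mp (hr.dvd_of_dvd_pow h9)
    subst h3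
    exact Or.inr (Or.inr (Or.inr (Or.inr (Or.inl ⟨K, hK, hsa, rfl⟩))))
  · exfalso
    have h := card_tensor e
    rw [card_idx] at h
    have := twelve_le_mul h1 h2'
    omega
  · exact Or.inr (Or.inr (Or.inr (Or.inr (Or.inr (Or.inl ⟨F₀, r, P, hr, hc, hrat, rfl⟩)))))
  · have h := card_wreath e
    rw [card_idx] at h
    rcases Nat.lt_or_ge t 3 with ht3 | ht3
    · have ht2 : t = 2 := by omega
      subst ht2
      have hk4 : k ≤ 3 := by nlinarith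
      have hk3 : k = 3 := by omega
      subst hk3
      have h5 : 5 ≤ Fintype.card F := by
        by_contra hlt
        apply hex
        refine ⟨?_, rfl⟩
        obtain ⟨j, hj⟩ := hodd
        omega
      exact Or.inr (Or.inr (Or.inr (Or.inr (Or.inr (Or.inr (Or.inl ⟨h5, e, P, f₁, hf₁, hT, rfl⟩))))))
    · exfalso
      have := twentyseven_le_pow hk ht3
      omega

/-- the row for `Ω_11` -/
theorem row11 {F : Type*} [Field F] [Fintype F] (hodd : Odd (Fintype.card F))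
    {H : Subgroup (Matrix.GeneralLinearGroup (Unit ⊕ (Fin 5 ⊕ Fin 5)) F)} (hC : ConclO 5 F H) :
    (∃ W : Submodule F (Unit ⊕ (Fin 5 ⊕ Fin 5) → F), W ≠ ⊥ ∧ Cfsg.Geo.IsTotallySingularQuad (Cfsg.quadFormOdd 5 F) W ∧ H = Cfsg.Geo.subspaceStabilizer W ⊓ Cfsg.Geo.omegaGL (Cfsg.quadFormOdd 5 F)) ∨
    (∃ W : Submodule F (Unit ⊕ (Fin 5 ⊕ Fin 5) → F), W ≠ ⊥ ∧ Even (Module.finrank F W) ∧ Cfsg.Geo.IsNondegenerateOn (QuadraticMap.polar (Cfsg.quadFormOdd 5 F)) W ∧ ¬ (Fintype.card F = 3 ∧ Module.finrank F W = 2 ∧ Cfsg.Geo.IsPlusTypeOn (Cfsg.quadFormOdd 5 F) W) ∧ H = Cfsg.Geo.subspaceStabilizer W ⊓ Cfsg.Geo.omegaGL (Cfsg.quadFormOdd 5 F)) ∨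
    ((Fintype.card F).Prime ∧ ∃ D : Fin 11 → Submodule F (Unit ⊕ (Fin 5 ⊕ Fin 5) → F), Cfsg.Geo.IsOrthogonalMDecomposition (Cfsg.quadFormOdd 5 F) 1 D ∧ H = Cfsg.Geo.decompositionStabilizer D ⊓ Cfsg.Geo.omegaGL (Cfsg.quadFormOdd 5 F)) ∨
    (∃ (F₀ : Subfield F) (r : ℕ) (P : Matrix.GeneralLinearGroup (Unit ⊕ (Fin 5 ⊕ Fin 5)) F), r.Prime ∧ Fintype.card F = Nat.card F₀ ^ r ∧ Cfsg.Geo.IsQuadFormRationalStructure (Cfsg.quadFormOdd 5 F) F₀ P ∧ H = Cfsg.Geo.subfieldSubgroup F₀ P ⊓ Cfsg.Geo.omegaGL (Cfsg.quadFormOdd 5 F)) ∨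
    Cfsg.Geo.InOrthogonalResidualClass H := by
  rcases hC with ⟨X, hX, rfl⟩ | hres
  swap
  · exact Or.inr (Or.inr (Or.inr (Or.inr hres)))
  rcases hX with ⟨W, h0, hts, rfl⟩ | ⟨W, h0, hev, hnd, hnp, rfl⟩ | ⟨t, k, D, hk, hD, h35, rfl⟩ | ⟨t, D, hp, hD, rfl⟩ |
    ⟨r, K, hr, hne, hK, hsa, rfl⟩ | ⟨n₁, n₂, e, P, f₁, f₂, h1, h2', hf₁, hf₂, hT, rfl⟩ |
    ⟨F₀, r, P, hr, hc, hrat, rfl⟩ | ⟨k, t, e, P, f₁, hk, ht, hex, hf₁, hT, rfl⟩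
  · exact Or.inl ⟨W, h0, hts, rfl⟩
  · exact Or.inr (Or.inl ⟨W, h0, hev, hnd, hnp, rfl⟩)
  · exfalso
    have h1 := mdec_card_gen hD.decomp.decomp
    rw [card_idx] at h1
    have ht := hD.decomp.decomp.two_le
    have ht' : t ≤ 11 := by nlinarith
    interval_cases t <;> omega
  · have h1 := mdec_card_gen hD.decomp.decomp
    rw [card_idx, mul_one] at h1
    have ht : t = 11 := by omega
    subst ht
    exact Or.inr (Or.inr (Or.inl ⟨hp, D, hD, rfl⟩))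
  · exfalso
    have h1 := field_dvd_gen (F := F) (by rw [card_idx]; omega) hK
    rw [card_idx] at h1
    have h7 : r = 11 := (Nat.prime_dvd_prime_iff_eq hr (by norm_num)).mp h1
    omega
  · exfalso
    have h := card_tensor e
    rw [card_idx] at h
    have := twelve_le_mul h1 h2'
    omega
  · exact Or.inr (Or.inr (Or.inr (Or.inl ⟨F₀, r, P, hr, hc, hrat, rfl⟩)))
  · exfalso
    have h := card_wreath e
    rw [card_idx] at h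
    rcases Nat.lt_or_ge t 3 with ht3 | ht3
    · have ht2 : t = 2 := by omega
      subst ht2
      have hk4 : k ≤ 3 := by nlinarith
      have hk3 : k = 3 := by omega
      subst hk3
      omega
    · have := twentyseven_le_pow hk ht3
      omega
    

end Cfsg.Agent.Lib.Helper20.OmMRows
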