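import Mathlib
import Cfsg.Prelude.Def_GeometricClasses
import Cfsg.Agent.Lib.Helper25.SingPts

/-!
OmOddMax (S5814 S5835 S5859), shared tool T2: `Ω` (inside `GL`) is transitive on the singular points, in matrix terms.
-/

set_option autoImplicit false
set_option linter.unusedSectionVars false
set_option linter.unusedVariables false

namespace Cfsg.Agent.Lib.Helper20.OmMLeaf
open Cfsg Cfsg.Geo Matrix Module QuadraticMap Cfsg.Agent.Lib.Helper25.PS Cfsg.Agent.Lib.Helper25.CD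

variable {ι : Type} [Fintype ι] [DecidableEq ι] {F : Type*} [Field F] [Fintype F]
  (Q : QuadraticForm F (ι → F))

/-- T2.  `Ω ≤ GL` maps any non-zero singular vector to a non-zero multiple of any other one. -/
theorem exists_omega_map_singular (hQ : (polarBilin Q).Nondegenerate) (hn : 5 ≤ Fintype.card ι)
    {u w : ι → F} (hu0 : u ≠ 0) (hu : Q u = 0) (hw0 : w ≠ 0) (hw : Q w = 0) :
    ∃ g : GL ι F, g ∈ omegaGL ⇑Q ∧ ∃ c : F, c ≠ 0 ∧ (g : Matrix ι ι F) *ᵥ u = c • w := by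
  have := omega_pretransitive Q hQ hn
  obtain ⟨g, hg⟩ := MulAction.exists_smul_eq ↥(Cfsg.Omega F ⇑Q) (mk' Q u hu0 hu) (mk' Q w hw0 hw)
  have hg' : (g : ↥(Cfsg.isometryGroup F ⇑Q)) • mk' Q u hu0 hu = mk' Q w hw0 hw := hg
  rw [smul_mk'] at hg'
  obtain ⟨t, ht⟩ := exists_smul_of_mk'_eq Q hw0 hw _ _ hg'
  refine ⟨((g : ↥(Cfsg.isometryGroup F ⇑Q)) : GL ι F), ⟨(g : ↥(Cfsg.isometryGroup F ⇑Q)), g.2, rfl⟩, t, ?_, ?_⟩
  · rintro rfl
    rw [zero_smul] at ht
    exact hu0 ((toOG Q (g : ↥(Cfsg.isometryGroup F ⇑Q))).injective (by rw [ht, map_zero]))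
  · rw [← ht]
    rfl

/-- an element of `Ω ≤ GL` preserves `Q` -/
theorem q_omega {g : GL ι F} (hg : g ∈ omegaGL ⇑Q) (v : ι → F) : Q ((g : Matrix ι ι F) *ᵥ v) = Q v := by
  obtain ⟨g', -, rfl⟩ := hg
  exact g'.2 v v

/-- an element of `Ω ≤ GL` preserves the polar form -/
theorem polar_omega {g : GL ι F} (hg : g ∈ omegaGL ⇑Q) (u v : ι → F) :
    polar Q ((g : Matrix ι ι F) *ᵥ u) ((g : Matrix ι ι F) *ᵥ v) = polar Q u v := by
  unfold polar
  rw [← Matrix.mulVec_add, q_omega Q hg, q_omega Q hg, q_omega Q hg]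

end Cfsg.Agent.Lib.Helper20.OmMLeaf
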