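import Mathlib
import Cfsg.Prelude.Def_Transfer
import Cfsg.Agent.Lib.Helper20.OmegaBound
import Cfsg.Agent.Lib.Helper1.PGroup
import Cfsg.Agent.Lib.Helper16.Frattini

/-!
Helper lemmas (helper20): `|G| ≤ |Ω₁(G)|³` for a 2-group of class two and exponent four whose involutions
form a subgroup, with equality only for special groups (= S3773).
-/

set_option autoImplicit false
open scoped commutatorElement

namespace Cfsg.Agent.Lib.Helper20.OmegaBound

open Cfsg.Agent.Lib.Helper20.QuadCW

theorem omega_bound {G : Type*} [Group G] [Finite G] (hG : IsPGroup 2 G)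
    (hcl : (⊤ : Subgroup G).lowerCentralSeries 2 = ⊥) (hexp : ∀ x : G, x ^ 4 = 1)
    (hN : ∀ x y : G, x ^ 2 = 1 → y ^ 2 = 1 → (x * y) ^ 2 = 1) :
    Nat.card G ≤ Nat.card {x : G // x ^ 2 = 1} ^ 3 ∧
      (¬ Cfsg.IsSpecial 2 G → Nat.card G < Nat.card {x : G // x ^ 2 = 1} ^ 3) := by
  classical
  haveI : Fact (Nat.Prime 2) := ⟨Nat.prime_two⟩
  have h1 : ∀ x y : G, ⁅x, y⁆ ∈ Subgroup.center G := by
    intro x y
    rw [Subgroup.mem_center_iff]
    intro g
    have hmem : ⁅⁅x, y⁆, g⁆ ∈ (⊤ : Subgroup G).lowerCentralSeries 2 := by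
      show ⁅⁅x, y⁆, g⁆ ∈ ⁅⁅(⊤ : Subgroup G), ⊤⁆, ⊤⁆
      exact Subgroup.commutator_mem_commutator
        (Subgroup.commutator_mem_commutator (Subgroup.mem_top x) (Subgroup.mem_top y))
        (Subgroup.mem_top g)
    rw [hcl, Subgroup.mem_bot] at hmem
    exact (commutatorElement_eq_one_iff_mul_comm.mp hmem).symm
  have h2 : ∀ x : G, (x * x) * (x * x) = 1 := by
    intro x
    have h4 : x ^ 4 = (x * x) * (x * x) := by
      rw [show (4 : ℕ) = 2 + 2 from rfl, pow_add, pow_two]
    rw [← h4]; exact hexp x
  have h3 : ∀ x y : G, x * x = 1 → y * y = 1 → (x * y) * (x * y) = 1 := by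
    intro x y hx hy
    have := hN x y (by rw [pow_two]; exact hx) (by rw [pow_two]; exact hy)
    rwa [pow_two] at this
  let N : Subgroup G :=
    { carrier := {x | x * x = 1}
      mul_mem' := fun hx hy => h3 _ _ hx hy
      one_mem' := mul_one 1
      inv_mem' := by
        intro x hx
        show x⁻¹ * x⁻¹ = 1
        rw [← mul_inv_rev, hx, inv_one] }
  have hNmem : ∀ x, x ∈ N ↔ x * x = 1 := fun x => Iff.rfl
  have hcardN : Nat.card {x : G // x ^ 2 = 1} = Nat.card N :=
    Nat.card_congr (Equiv.subtypeEquivRight (fun x => by rw [pow_two]; exact Iff.rfl))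
  have hcardN' : Nat.card {x : G // x * x = 1} = Nat.card N := rfl
  rw [hcardN]
  set M := N ⊓ Subgroup.center G with hM
  have hsqN : ∀ x : G, x * x ∈ N := h2
  have hcN : ∀ x y : G, ⁅x, y⁆ ∈ N := by
    intro x y
    rw [comm_eq_sq_prod]
    exact N.mul_mem (N.mul_mem (hsqN _) (hsqN _)) (hsqN _)
  have hsqc : ∀ x : G, x * x ∈ Subgroup.center G := by
    intro x
    rw [Subgroup.mem_center_iff]
    intro g
    have : ⁅x * x, g⁆ = 1 := by rw [comm_mul_left h1]; exact hcN x g
    exact (commutatorElement_eq_one_iff_mul_comm.mp this).symm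
  have hMc : M ≤ Subgroup.center G := inf_le_right
  have hM2 : ∀ k ∈ M, k * k = 1 := fun k hk => hk.1
  have hMsq : ∀ x : G, x * x ∈ M := fun x => ⟨hsqN x, hsqc x⟩
  obtain ⟨hI1, hI2⟩ := core h1 M hMc hM2 hMsq h3
  rw [hcardN'] at hI1 hI2
  set D := commutator G with hD
  have hDM : D ≤ M := by
    rw [hD, commutator_def, Subgroup.commutator_le]
    intro x _ y _
    exact ⟨hcN x y, h1 x y⟩
  have hDmem : ∀ x y : G, ⁅x, y⁆ ∈ D := by
    intro x y
    rw [hD, commutator_def]
    exact Subgroup.commutator_mem_commutator (Subgroup.mem_top x) (Subgroup.mem_top y)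
  have hb := hI1 D hDM hDmem
  have hMN : M ≤ N := inf_le_left
  have hcM : Nat.card M ≤ Nat.card N := Subgroup.card_le_of_le hMN
  have hcD : Nat.card D ≤ Nat.card M := Subgroup.card_le_of_le hDM
  have hNpos : 0 < Nat.card N := Nat.card_pos
  have hGpos : 0 < Nat.card G := Nat.card_pos
  constructor
  · calc Nat.card G ≤ Nat.card N * Nat.card D * Nat.card M := hb
      _ ≤ Nat.card N * Nat.card N * Nat.card N :=
          Nat.mul_le_mul (Nat.mul_le_mul_left _ (hcD.trans hcM)) hcM
      _ = Nat.card N ^ 3 := by ring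
  · intro hns
    by_cases hMeq : M = N
    · by_cases hDeq : D = N
      · have hNn : N.Normal := by
          constructor
          intro x hx g
          show (g * x * g⁻¹) * (g * x * g⁻¹) = 1
          have h4 : (g * x * g⁻¹) * (g * x * g⁻¹) = g * (x * x) * g⁻¹ := by group
          rw [h4, (hNmem x).mp hx]; group
        have hcen : Subgroup.center G ≠ N := by
          intro hc
          apply hns
          refine ⟨hG, ?_, ?_⟩
          · rw [hc]
            apply le_antisymm
            · have hE : ∀ e : G ⧸ N, e * e = 1 := by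
                intro e
                induction e using QuotientGroup.induction_on with
                | H x =>
                  rw [← QuotientGroup.mk_mul]
                  exact (QuotientGroup.eq_one_iff _).mpr (hsqN x)
              have h5 := Cfsg.Agent.Lib.Helper16.frattini_le_ker' (p := 2) (comm_of_sq hE)
                (fun e => by rw [pow_two]; exact hE e) (QuotientGroup.mk' N)
              rwa [QuotientGroup.ker_mk'] at h5
            · rw [← hDeq]
              exact Cfsg.Agent.Lib.Helper1.IsPGroup.commutator_le_frattini hG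
          · rw [hc]; exact hDeq
        have hNc : N ≤ Subgroup.center G := by rw [← hMeq]; exact inf_le_right
        obtain ⟨z, hz, hzN⟩ : ∃ z ∈ Subgroup.center G, z ∉ N := by
          by_contra hcon
          push Not at hcon
          exact hcen (le_antisymm hcon hNc)
        have h6 := hI2 z hz hzN
        rw [hMeq] at h6
        have h7 : Nat.card N * Nat.card N ^ 2 = Nat.card N ^ 3 := by ring
        rw [h7] at h6
        omega
      · have hlt : Nat.card D < Nat.card N :=
          lt_of_le_of_ne (hcD.trans hcM) (fun h =>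
            hDeq (Subgroup.eq_of_le_of_card_ge (hDM.trans hMN) (le_of_eq h.symm)))
        calc Nat.card G ≤ Nat.card N * Nat.card D * Nat.card M := hb
          _ ≤ Nat.card N * Nat.card D * Nat.card N := Nat.mul_le_mul_left _ hcM
          _ < Nat.card N * Nat.card N * Nat.card N := by
              apply Nat.mul_lt_mul_of_pos_right _ hNpos
              exact Nat.mul_lt_mul_of_pos_left hlt hNpos
          _ = Nat.card N ^ 3 := by ring
    · have hlt : Nat.card M < Nat.card N :=
        lt_of_le_of_ne hcM (fun h => hMeq (Subgroup.eq_of_le_of_card_ge hMN (le_of_eq h.symm)))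
      calc Nat.card G ≤ Nat.card N * Nat.card D * Nat.card M := hb
        _ ≤ Nat.card N * Nat.card N * Nat.card M :=
            Nat.mul_le_mul_right _ (Nat.mul_le_mul_left _ (hcD.trans hcM))
        _ < Nat.card N * Nat.card N * Nat.card N :=
            Nat.mul_lt_mul_of_pos_left hlt (Nat.mul_pos hNpos hNpos)
        _ = Nat.card N ^ 3 := by ring

end Cfsg.Agent.Lib.Helper20.OmegaBound
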