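import Mathlib
import Cfsg.Agent.S0016
import Cfsg.Agent.S0519

/-!
# S4125 orbit lemma, leaf OrbB2 (step 4)

A finite `p`-group all of whose normal abelian subgroups are cyclic is cyclic, or `p = 2` and it has
a cyclic subgroup `⟨a⟩` of index two containing an element `a'` of order four that is inverted by
some `b ∉ ⟨a⟩` (generalized quaternion, dihedral of order `≥ 16`, quasi-dihedral).
-/

set_option autoImplicit false

namespace Cfsg.Agent.Lib.Helper20.OrbLeaf

/-- the data asked for in `cyclic_or_index_two` -/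
def IndexTwoData (P : Type*) [Group P] : Prop :=
  ∃ a a' b : P, (Subgroup.zpowers a).index = 2 ∧ a' ∈ Subgroup.zpowers a ∧ orderOf a' = 4 ∧
    b ∉ Subgroup.zpowers a ∧ b * a' * b⁻¹ = a'⁻¹

/-- a convenient criterion -/
theorem indexTwoData_of {P : Type*} [Group P] [Finite P] (a a' b : P)
    (hcard : Nat.card P = 2 * orderOf a) (hmem : a' ∈ Subgroup.zpowers a) (ho : orderOf a' = 4)
    (hrel : a' * (b * a') = b) : IndexTwoData P := by
  have hinv : b * a' * b⁻¹ = a'⁻¹ := by
    have h1 : b * a' = a'⁻¹ * b := by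
      have := congrArg (fun t => a'⁻¹ * t) hrel
      simpa [mul_assoc] using this
    rw [h1, mul_assoc, mul_inv_cancel, mul_one]
  refine ⟨a, a', b, ?_, hmem, ho, ?_, hinv⟩
  · have h := Subgroup.card_mul_index (Subgroup.zpowers a)
    rw [Nat.card_zpowers, hcard, mul_comm 2] at h
    have hpos : 0 < orderOf a := by
      rcases Nat.eq_zero_or_pos (orderOf a) with h0 | h0
      · rw [h0, mul_zero] at hcard
        exact absurd hcard Nat.card_pos.ne'
      · exact h0
    exact Nat.eq_of_mul_eq_mul_left hpos h
  · intro hb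
    -- then `b` commutes with `a'`
    have hcomm : b * a' = a' * b := by
      have := (Subgroup.zpowers_isMulCommutative a).is_comm.comm ⟨b, hb⟩ ⟨a', hmem⟩
      exact congrArg Subtype.val this
    rw [hcomm, mul_assoc, mul_inv_cancel, mul_one] at hinv
    have h2 : a' ^ 2 = 1 := by
      rw [pow_two]
      nth_rewrite 1 [hinv]
      exact inv_mul_cancel a'
    have := orderOf_dvd_of_pow_eq_one h2
    rw [ho] at this
    omega

/-- transport along an isomorphism -/
theorem indexTwoData_of_equiv {P X : Type*} [Group P] [Finite P] [Group X] (e : P ≃* X)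
    (a a' b : X) (hcard : Nat.card X = 2 * orderOf a) (hmem : a' ∈ Subgroup.zpowers a)
    (ho : orderOf a' = 4) (hrel : a' * (b * a') = b) : IndexTwoData P := by
  apply indexTwoData_of (e.symm a) (e.symm a') (e.symm b)
  · rw [MulEquiv.orderOf_eq, ← hcard]
    exact Nat.card_congr e.toEquiv
  · obtain ⟨k, hk⟩ := Subgroup.mem_zpowers_iff.mp hmem
    rw [← hk, map_zpow]
    exact Subgroup.zpow_mem_zpowers _ k
  · rw [MulEquiv.orderOf_eq, ho]
  · rw [← map_mul, ← map_mul, hrel]

/-- generalized quaternion groups `Q_{8m}` -/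
theorem quaternion_data (m : ℕ) (hm : 1 ≤ m) {P : Type*} [Group P] [Finite P]
    (e : P ≃* QuaternionGroup (2 * m)) : IndexTwoData P := by
  haveI : NeZero (2 * m) := ⟨by omega⟩
  haveI : NeZero (2 * (2 * m)) := ⟨by omega⟩
  have hm2 : ((2 * m : ℕ) : ZMod (2 * (2 * m))) ≠ 0 := by
    intro h
    rw [ZMod.natCast_eq_zero_iff] at h
    have := Nat.le_of_dvd (by omega) h
    omega
  apply indexTwoData_of_equiv e (QuaternionGroup.a 1) (QuaternionGroup.a (m : ZMod (2 * (2 * m))))
    (QuaternionGroup.xa 0)
  · rw [QuaternionGroup.orderOf_a_one, Nat.card_eq_fintype_card, QuaternionGroup.card]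
    ring
  · rw [← QuaternionGroup.a_one_pow]
    exact Subgroup.npow_mem_zpowers _ m
  · have h2 : ¬ (QuaternionGroup.a (m : ZMod (2 * (2 * m))) : QuaternionGroup (2 * m)) ^ 2 ^ 1 = 1 := by
      rw [pow_one, pow_two, QuaternionGroup.a_mul_a, QuaternionGroup.one_def]
      intro h
      have h' := QuaternionGroup.a.inj h
      apply hm2
      have e2 : ((2 * m : ℕ) : ZMod (2 * (2 * m))) = (m : ZMod (2 * (2 * m))) + m := by
        push_cast; ring
      rw [e2]; exact h'
    have h4 : (QuaternionGroup.a (m : ZMod (2 * (2 * m))) : QuaternionGroup (2 * m)) ^ 2 ^ (1 + 1) = 1 := by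
      rw [← QuaternionGroup.a_one_pow, ← pow_mul]
      have : m * 2 ^ (1 + 1) = 2 * (2 * m) := by ring
      rw [this]
      exact QuaternionGroup.a_one_pow_n
    have := orderOf_eq_prime_pow (p := 2) h2 h4
    simpa using this
  · rw [QuaternionGroup.xa_mul_a, QuaternionGroup.a_mul_xa]
    congr 1
    ring

/-- dihedral groups `D_{8m}` -/
theorem dihedral_data (m : ℕ) (hm : 1 ≤ m) {P : Type*} [Group P] [Finite P]
    (e : P ≃* DihedralGroup (4 * m)) : IndexTwoData P := by
  haveI : NeZero (4 * m) := ⟨by omega⟩
  have hm2 : ((2 * m : ℕ) : ZMod (4 * m)) ≠ 0 := by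
    intro h
    rw [ZMod.natCast_eq_zero_iff] at h
    have := Nat.le_of_dvd (by omega) h
    omega
  apply indexTwoData_of_equiv e (DihedralGroup.r 1) (DihedralGroup.r (m : ZMod (4 * m)))
    (DihedralGroup.sr 0)
  · rw [DihedralGroup.orderOf_r_one, DihedralGroup.nat_card]
  · rw [← DihedralGroup.r_one_pow]
    exact Subgroup.npow_mem_zpowers _ m
  · have h2 : ¬ (DihedralGroup.r (m : ZMod (4 * m)) : DihedralGroup (4 * m)) ^ 2 ^ 1 = 1 := by
      rw [pow_one, pow_two, DihedralGroup.r_mul_r, DihedralGroup.one_def]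
      intro h
      have h' := DihedralGroup.r.inj h
      apply hm2
      have e2 : ((2 * m : ℕ) : ZMod (4 * m)) = (m : ZMod (4 * m)) + m := by
        push_cast; ring
      rw [e2]; exact h'
    have h4 : (DihedralGroup.r (m : ZMod (4 * m)) : DihedralGroup (4 * m)) ^ 2 ^ (1 + 1) = 1 := by
      rw [← DihedralGroup.r_one_pow, ← pow_mul]
      have : m * 2 ^ (1 + 1) = 4 * m := by ring
      rw [this]
      exact DihedralGroup.r_one_pow_n
    have := orderOf_eq_prime_pow (p := 2) h2 h4
    simpa using this
  · rw [DihedralGroup.sr_mul_r, DihedralGroup.r_mul_sr]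
    congr 1
    ring

/-- quasi-dihedral groups -/
theorem quasidihedral_data {P : Type*} [Group P] [Finite P] (h : Cfsg.IsQuasiDihedral P) :
    IndexTwoData P := by
  obtain ⟨n, hn, hcard, x, y, hx, -, hrel⟩ := h
  have hxpow : x ^ (2 ^ n) = 1 := by rw [← hx]; exact pow_orderOf_eq_one x
  apply indexTwoData_of x (x ^ (2 ^ (n - 2))) y
  · rw [hcard, hx, pow_succ, mul_comm]
  · exact Subgroup.npow_mem_zpowers _ _
  · rw [orderOf_pow_of_dvd (by positivity) (hx ▸ pow_dvd_pow 2 (by omega)), hx,
      Nat.pow_div (by omega) (by norm_num)]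
    have : n - (n - 2) = 2 := by omega
    rw [this]
  · set k := 2 ^ (n - 2) with hk
    have h1 : y * x ^ k * y⁻¹ = x ^ ((2 ^ (n - 1) - 1) * k) := by
      rw [← conj_pow, hrel, ← pow_mul]
    have h2 : y * x ^ k = x ^ ((2 ^ (n - 1) - 1) * k) * y := by
      rw [← h1]; group
    rw [h2, ← mul_assoc, ← pow_add]
    have h3 : k + (2 ^ (n - 1) - 1) * k = 2 ^ n * 2 ^ (n - 3) := by
      have hpos : 1 ≤ 2 ^ (n - 1) := Nat.one_le_two_pow
      have e1 : k + (2 ^ (n - 1) - 1) * k = 2 ^ (n - 1) * k := by
        have : 2 ^ (n - 1) = (2 ^ (n - 1) - 1) + 1 := by omega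
        conv_rhs => rw [this, add_mul, one_mul]
        ring
      rw [e1, hk, ← pow_add, ← pow_add]
      congr 1; omega
    rw [h3, pow_mul, hxpow, one_pow, one_mul]

/-- if all abelian subgroups of a `p`-group are cyclic, there is at most one subgroup of order `p` -/
theorem unique_of_abelian_cyclic {P : Type*} [Group P] [Finite P] (p : ℕ) [hp : Fact p.Prime]
    (hP : IsPGroup p P) (hab : ∀ B : Subgroup P, IsMulCommutative B → IsCyclic B) :
    ∀ X K : Subgroup P, Nat.card X = p → Nat.card K = p → X = K := by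
  intro X K hX hK
  have hp2 : 2 ≤ p := hp.out.two_le
  have hnt : Nontrivial P := by
    by_contra h
    rw [not_nontrivial_iff_subsingleton] at h
    have : Nat.card X ≤ 1 := Finite.card_le_one_iff_subsingleton.mpr inferInstance
    omega
  have hcn : Nontrivial (Subgroup.center P) := hP.center_nontrivial
  have hdvd : p ∣ Nat.card (Subgroup.center P) := by
    obtain ⟨k, hk⟩ := IsPGroup.iff_card.mp (hP.to_subgroup (Subgroup.center P))
    rcases Nat.eq_zero_or_pos k with rfl | hkpos
    · rw [pow_zero] at hk
      have := (Nat.card_eq_one_iff_unique.mp hk).1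
      exact absurd hcn (not_nontrivial _)
    · rw [hk]; exact dvd_pow_self p hkpos.ne'
  obtain ⟨z, hz⟩ := exists_prime_orderOf_dvd_card' p hdvd
  have hzP : orderOf (z : P) = p := by rw [Subgroup.orderOf_coe, hz]
  have hzc : ∀ g : P, g * (z : P) = (z : P) * g := fun g =>
    (Subgroup.mem_center_iff.mp z.2 g)
  have key : ∀ Y : Subgroup P, Nat.card Y = p → Y = Subgroup.zpowers (z : P) := by
    intro Y hY
    -- a generator of `Y`
    have hYnt : Nontrivial Y := by
      rw [← Finite.one_lt_card_iff_nontrivial]; omega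
    obtain ⟨y, hy1⟩ := exists_ne (1 : Y)
    have hyo : orderOf (y : P) = p := by
      have h1 : orderOf y ∣ p := hY ▸ orderOf_dvd_natCard y
      rcases (Nat.dvd_prime hp.out).mp h1 with h | h
      · exact absurd (orderOf_eq_one_iff.mp h) hy1
      · rw [Subgroup.orderOf_coe, h]
    have hYy : Subgroup.zpowers (y : P) = Y := by
      apply Subgroup.eq_of_le_of_card_ge
      · rw [Subgroup.zpowers_le]; exact y.2
      · rw [Nat.card_zpowers, hyo, hY]
    -- `z ∈ ⟨y⟩`
    have hzy : (z : P) ∈ Subgroup.zpowers (y : P) := by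
      by_contra hzy
      set B : Subgroup P := Subgroup.closure {(y : P), (z : P)} with hB
      have hyB : (y : P) ∈ B := Subgroup.subset_closure (by simp)
      have hzB : (z : P) ∈ B := Subgroup.subset_closure (by simp)
      have hgen : ∀ a ∈ ({(y : P), (z : P)} : Set P), ∀ b ∈ ({(y : P), (z : P)} : Set P),
          a * b = b * a := by
        intro a ha b hb
        rcases ha with rfl | ha
        · rcases hb with rfl | hb
          · rfl
          · rw [Set.mem_singleton_iff] at hb; subst hb; exact hzc _
        · rw [Set.mem_singleton_iff] at ha; subst ha; exact (hzc b).symm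
      have h1 : B ≤ Subgroup.centralizer ({(y : P), (z : P)} : Set P) := by
        rw [hB, Subgroup.closure_le]
        intro a ha
        rw [SetLike.mem_coe, Subgroup.mem_centralizer_iff]
        intro b hb
        exact hgen b hb a ha
      have hBcomm : ∀ a ∈ B, ∀ b ∈ B, a * b = b * a := by
        intro a ha b hb
        have h2 : B ≤ Subgroup.centralizer ({a} : Set P) := by
          rw [hB, Subgroup.closure_le]
          intro s hs
          rw [SetLike.mem_coe, Subgroup.mem_centralizer_iff]
          intro c hc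
          rw [Set.mem_singleton_iff] at hc; subst hc
          exact (Subgroup.mem_centralizer_iff.mp (h1 ha) s hs).symm
        exact ((Subgroup.mem_centralizer_iff.mp (h2 hb)) a rfl)
      have hBc : IsMulCommutative B :=
        ⟨⟨fun a b => Subtype.ext (hBcomm a a.2 b b.2)⟩⟩
      have hBp : ∀ b ∈ B, b ^ p = 1 := by
        intro b hb
        induction hb using Subgroup.closure_induction with
        | mem a ha =>
          rcases ha with rfl | ha
          · rw [← hyo]; exact pow_orderOf_eq_one _
          · rw [Set.mem_singleton_iff] at ha; subst ha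
            rw [← hzP]; exact pow_orderOf_eq_one _
        | one => exact one_pow p
        | mul a b ha hb iha ihb =>
          have hc : Commute a b := hBcomm a ha b hb
          rw [hc.mul_pow, iha, ihb, one_mul]
        | inv a _ iha => rw [inv_pow, iha, inv_one]
      have hcyc := hab B hBc
      obtain ⟨g, hg⟩ := hcyc.exists_generator
      have hcardB : Nat.card B = orderOf g := by
        rw [← Nat.card_zpowers, (Subgroup.eq_top_iff' _).mpr hg, Subgroup.card_top]
      have hgp : orderOf g ∣ p := by
        apply orderOf_dvd_of_pow_eq_one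
        apply Subtype.ext
        rw [Subgroup.coe_pow]; exact hBp g g.2
      have hle : Nat.card B ≤ p := hcardB ▸ Nat.le_of_dvd hp.out.pos hgp
      have heq : Subgroup.zpowers (y : P) = B := by
        apply Subgroup.eq_of_le_of_card_ge
        · rw [Subgroup.zpowers_le]; exact hyB
        · rw [Nat.card_zpowers, hyo]; exact hle
      exact hzy (heq ▸ hzB)
    rw [← hYy]
    symm
    apply Subgroup.eq_of_le_of_card_ge
    · rw [Subgroup.zpowers_le]; exact hzy
    · rw [Nat.card_zpowers, Nat.card_zpowers, hyo, hzP]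
  rw [key X hX, key K hK]

/-- **Leaf OrbB2** of the S4125 orbit lemma. -/
theorem cyclic_or_index_two {p : ℕ} [hp : Fact p.Prime] {P : Type*} [Group P] [Finite P]
    (hP : IsPGroup p P)
    (hn : ∀ A : Subgroup P, A.Normal → IsMulCommutative A → IsCyclic A) :
    IsCyclic P ∨ (p = 2 ∧ ∃ a a' b : P, (Subgroup.zpowers a).index = 2 ∧
      a' ∈ Subgroup.zpowers a ∧ orderOf a' = 4 ∧ b ∉ Subgroup.zpowers a ∧ b * a' * b⁻¹ = a'⁻¹) := by
  classical
  by_cases hm : ∃ B : Subgroup P, IsMulCommutative B ∧ ¬ IsCyclic B
  · obtain ⟨hp2, h⟩ := Cfsg.Agent.S0519.result p hP hn hm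
    subst hp2
    obtain ⟨j, hj⟩ := IsPGroup.iff_card.mp hP
    rcases h with ⟨n, ⟨e⟩⟩ | ⟨n, hn8, ⟨e⟩⟩ | hqd
    · -- quaternion
      have hn0 : n ≠ 0 := by
        rintro rfl
        have : Finite (DihedralGroup 0) :=
          Finite.of_equiv P (e.trans QuaternionGroup.quaternionGroupZeroEquivDihedralGroupZero).toEquiv
        exact not_finite (DihedralGroup 0)
      haveI : NeZero n := ⟨hn0⟩
      have hcard : Nat.card P = 4 * n := by
        rw [Nat.card_congr e.toEquiv, Nat.card_eq_fintype_card, QuaternionGroup.card]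
      have hdvd : n ∣ 2 ^ j := ⟨4, by rw [← hj, hcard]; ring⟩
      obtain ⟨i, -, hi⟩ := (Nat.dvd_prime_pow Nat.prime_two).mp hdvd
      rcases Nat.eq_zero_or_pos i with rfl | hipos
      · left
        rw [pow_zero] at hi
        subst hi
        haveI := QuaternionGroup.quaternionGroup_one_isCyclic
        exact isCyclic_of_surjective e.symm e.symm.surjective
      · right
        refine ⟨rfl, ?_⟩
        have hn' : n = 2 * 2 ^ (i - 1) := by
          rw [hi, ← pow_succ']; congr 1; omega
        subst hn'
        exact quaternion_data (2 ^ (i - 1)) Nat.one_le_two_pow e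
    · -- dihedral
      right
      refine ⟨rfl, ?_⟩
      have hcard : Nat.card P = 2 * n := by
        rw [Nat.card_congr e.toEquiv, DihedralGroup.nat_card]
      have hdvd : n ∣ 2 ^ j := ⟨2, by rw [← hj, hcard]; ring⟩
      obtain ⟨i, -, hi⟩ := (Nat.dvd_prime_pow Nat.prime_two).mp hdvd
      have hi3 : 3 ≤ i := by
        by_contra hlt
        push Not at hlt
        have : 2 ^ i ≤ 2 ^ 2 := Nat.pow_le_pow_right (by norm_num) (by omega)
        omega
      have hn' : n = 4 * 2 ^ (i - 2) := by
        rw [hi]
        have : i = (i - 2) + 2 := by omega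
        conv_lhs => rw [this, pow_add]
        ring
      subst hn'
      exact dihedral_data (2 ^ (i - 2)) Nat.one_le_two_pow e
    · right
      exact ⟨rfl, quasidihedral_data hqd⟩
  · push Not at hm
    have huniq := unique_of_abelian_cyclic p hP hm
    rcases Cfsg.Agent.S0016.result p hP huniq with h | ⟨hp2, n, ⟨e⟩⟩
    · exact Or.inl h
    · rcases Nat.eq_zero_or_pos n with rfl | hnpos
      · left
        rw [pow_zero] at e
        haveI := QuaternionGroup.quaternionGroup_one_isCyclic
        exact isCyclic_of_surjective e.symm e.symm.surjective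
      · right
        refine ⟨hp2, ?_⟩
        have hn' : 2 ^ n = 2 * 2 ^ (n - 1) := by
          rw [← pow_succ']; congr 1; omega
        rw [hn'] at e
        exact quaternion_data (2 ^ (n - 1)) Nat.one_le_two_pow e

end Cfsg.Agent.Lib.Helper20.OrbLeaf
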