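import Cfsg.Agent.Lib.Helper6.Orb.Basic
import Cfsg.Agent.Lib.Lead.Kazarin2

/-!
# S4125 orbit lemma, leaf OrbD2 (step 6iii): `|V| ≤ q²` forces `H` solvable

For `v ≠ 0` the stabiliser `C_v` is abelian (it acts faithfully on the cyclic group `V/⟨v⟩`), so every
`x ∈ C_v` has a conjugacy class of `p`-power size; Kazarin's theorem makes the normal closures solvable
and `H = C_v P`.
-/

set_option autoImplicit false

namespace Cfsg.Agent.Lib.Helper20.OrbLeaf

open Cfsg.Agent.Lib.Helper6.Orb

universe u v

variable {p q : ℕ} [hp : Fact p.Prime] [hq : Fact q.Prime]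
  {H : Type u} {V : Type v} [Group H] [Finite H] [AddCommGroup V] [Finite V] [DistribMulAction H V]
  [FaithfulSMul H V]

omit hp hq [Finite H] [Finite V] [FaithfulSMul H V] in
/-- an element normalising `L` with `V/L` cyclic acts on `V/L` as multiplication by an integer -/
theorem exists_int_smul_sub_mem (L : AddSubgroup V) [IsAddCyclic (V ⧸ L)] (x : H)
    (hx : ∀ l ∈ L, x • l ∈ L) : ∃ m : ℤ, ∀ w : V, x • w - m • w ∈ L := by
  let σ : V ⧸ L →+ V ⧸ L :=
    QuotientAddGroup.map L L (DistribSMul.toAddMonoidHom V x) (fun l hl => hx l hl)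
  obtain ⟨m, hm⟩ := σ.map_addCyclic
  refine ⟨m, fun w => ?_⟩
  have h1 : σ (w : V ⧸ L) = ((x • w : V) : V ⧸ L) := rfl
  have h2 : ((x • w : V) : V ⧸ L) = ((m • w : V) : V ⧸ L) := by
    rw [← h1, hm]; rfl
  have h3 := QuotientAddGroup.eq.mp h2.symm
  have : x • w - m • w = -(m • w) + x • w := by abel
  rw [this]; exact h3

omit hp [Finite V] in
/-- an element fixing `L` pointwise and acting trivially on `V/L` is trivial (`q V = 0`, `q ∤ |H|`) -/
theorem eq_one_of_unipotent (hqV : ∀ w : V, q • w = 0) (hcop : (Nat.card H).Coprime q)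
    (L : AddSubgroup V) (g : H) (hgL : ∀ l ∈ L, g • l = l) (hg : ∀ w : V, g • w - w ∈ L) :
    g = 1 := by
  have hpow : ∀ (n : ℕ) (w : V), g ^ n • w = w + n • (g • w - w) := by
    intro n
    induction n with
    | zero => intro w; simp
    | succ n ih =>
      intro w
      rw [pow_succ', mul_smul, ih w, smul_add, smul_comm g n, hgL _ (hg w), succ_nsmul]
      abel
  have hq1 : g ^ q = 1 := by
    apply eq_of_smul_eq_smul (α := V)
    intro w
    rw [hpow q w, hqV, add_zero, one_smul]
  have hH1 : g ^ Nat.card H = 1 := pow_card_eq_one'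
  have h1 : orderOf g ∣ Nat.gcd (Nat.card H) q :=
    Nat.dvd_gcd (orderOf_dvd_of_pow_eq_one hH1) (orderOf_dvd_of_pow_eq_one hq1)
  rw [Nat.Coprime.gcd_eq_one hcop, Nat.dvd_one] at h1
  exact orderOf_eq_one_iff.mp h1

/-- **Leaf OrbD2** of the S4125 orbit lemma. -/
theorem solvable_of_card_le_sq (S : Setup p q H V) (hpq : p ≠ q) (hcard : Nat.card V ≤ q ^ 2) :
    Group.IsSolvable H := by
  classical
  by_cases hV : ∀ v : V, v = 0
  · -- trivial module: `H` is trivial
    have : ∀ x : H, x = 1 := by
      intro x
      apply eq_of_smul_eq_smul (α := V)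
      intro w
      rw [hV w, smul_zero, smul_zero]
    have hsub : Subsingleton H := ⟨fun a b => by rw [this a, this b]⟩
    exact Group.isSolvable_of_comm (fun a b => Subsingleton.elim _ _)
  push Not at hV
  obtain ⟨v, hv⟩ := hV
  have hqV : ∀ w : V, q • w = 0 := S.nsmul_eq_zero
  set L : AddSubgroup V := AddSubgroup.zmultiples v with hL
  have hLcard : Nat.card L = q := by
    rw [hL, Nat.card_zmultiples]
    exact addOrderOf_eq_prime (hqV v) hv
  -- `V/L` is cyclic
  have hcyc : IsAddCyclic (V ⧸ L) := by
    obtain ⟨k, hk⟩ := S.cardV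
    have hmul := AddSubgroup.card_eq_card_quotient_mul_card_addSubgroup L
    rw [hLcard, hk] at hmul
    have hk1 : 1 ≤ k := by
      rcases Nat.eq_zero_or_pos k with rfl | h
      · exfalso
        rw [pow_zero] at hmul
        have : q ∣ 1 := ⟨_, by rw [mul_comm]; exact hmul⟩
        exact hq.out.one_lt.ne' (Nat.dvd_one.mp this)
      · exact h
    have hk2 : k ≤ 2 := by
      rw [hk] at hcard
      exact (Nat.pow_le_pow_iff_right hq.out.one_lt).mp hcard
    have hquot : Nat.card (V ⧸ L) = q ^ (k - 1) := by
      have : q ^ k = q ^ (k - 1) * q := by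
        rw [← pow_succ]; congr 1; omega
      rw [this] at hmul
      exact (Nat.eq_of_mul_eq_mul_right hq.out.pos hmul).symm
    have hk' : k = 1 ∨ k = 2 := by omega
    rcases hk' with rfl | rfl
    · rw [Nat.sub_self, pow_zero] at hquot
      have : Subsingleton (V ⧸ L) := (Nat.card_eq_one_iff_unique.mp hquot).1
      exact isAddCyclic_of_subsingleton
    · have : Nat.card (V ⧸ L) = q := by rw [hquot]; norm_num
      exact isAddCyclic_of_prime_card this
  set C : Subgroup H := MulAction.stabilizer H v with hC
  have hCfix : ∀ x ∈ C, ∀ l ∈ L, x • l = l := by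
    intro x hx l hl
    obtain ⟨n, rfl⟩ := AddSubgroup.mem_zmultiples_iff.mp hl
    have hxv : x • v = v := MulAction.mem_stabilizer_iff.mp hx
    rw [smul_comm, hxv]
  -- `C` is commutative
  have hCcomm : ∀ x ∈ C, ∀ y ∈ C, x * y = y * x := by
    intro x hx y hy
    obtain ⟨mx, hmx⟩ := exists_int_smul_sub_mem L x (fun l hl => by rw [hCfix x hx l hl]; exact hl)
    obtain ⟨my, hmy⟩ := exists_int_smul_sub_mem L y (fun l hl => by rw [hCfix y hy l hl]; exact hl)
    -- (x*y) w - (y*x) w ∈ L
    have hdiff : ∀ w : V, (x * y) • w - (y * x) • w ∈ L := by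
      intro w
      have e1 : (x * y) • w - (mx * my) • w ∈ L := by
        have a1 : x • (y • w - my • w) = y • w - my • w := hCfix x hx _ (hmy w)
        have a2 : (x * y) • w - (mx * my) • w
            = (y • w - my • w) + my • (x • w - mx • w) := by
          have hxy : x • y • w = (y • w - my • w) + my • x • w := by
            have h := a1
            rw [smul_sub, smul_comm x my w] at h
            rw [← h]; abel
          rw [mul_smul, hxy, mul_comm mx my, mul_smul, smul_sub]; abel
        rw [a2]
        exact L.add_mem (hmy w) (L.zsmul_mem (hmx w) my)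
      have e2 : (y * x) • w - (mx * my) • w ∈ L := by
        have a1 : y • (x • w - mx • w) = x • w - mx • w := hCfix y hy _ (hmx w)
        have a2 : (y * x) • w - (mx * my) • w
            = (x • w - mx • w) + mx • (y • w - my • w) := by
          have hyx : y • x • w = (x • w - mx • w) + mx • y • w := by
            have h := a1
            rw [smul_sub, smul_comm y mx w] at h
            rw [← h]; abel
          rw [mul_smul, hyx, mul_smul, smul_sub]; abel
        rw [a2]
        exact L.add_mem (hmx w) (L.zsmul_mem (hmy w) mx)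
      have : (x * y) • w - (y * x) • w
          = ((x * y) • w - (mx * my) • w) - ((y * x) • w - (mx * my) • w) := by abel
      rw [this]
      exact L.sub_mem e1 e2
    -- g = (y*x)⁻¹ * (x*y) is unipotent
    have hyxC : (y * x)⁻¹ ∈ C := C.inv_mem (C.mul_mem hy hx)
    have hg1 : (y * x)⁻¹ * (x * y) = 1 := by
      apply eq_one_of_unipotent hqV S.coprime L
      · intro l hl
        rw [mul_smul, mul_smul, hCfix y hy l hl, hCfix x hx l hl, hCfix _ hyxC l hl]
      · intro w
        have h1 := hdiff w
        have h2 : (y * x)⁻¹ • ((x * y) • w - (y * x) • w) = (x * y) • w - (y * x) • w :=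
          hCfix _ hyxC _ h1
        have h3 : ((y * x)⁻¹ * (x * y)) • w - w = (x * y) • w - (y * x) • w := by
          rw [← h2, smul_sub, ← mul_smul, ← mul_smul, inv_mul_cancel, one_smul]
        rw [h3]; exact h1
    have := congrArg (fun t => (y * x) * t) hg1
    simpa [mul_assoc] using this
  -- index of `C`
  obtain ⟨a, ha⟩ := S.pp v
  rw [card_orbit_eq_index] at ha
  -- Kazarin for every element of `C`
  have hkaz : ∀ x : C, Group.IsSolvable (Subgroup.normalClosure ({(x : H)} : Set H)) := by
    intro x
    have hle : C ≤ Subgroup.centralizer ({(x : H)} : Set H) := by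
      intro y hy
      rw [Subgroup.mem_centralizer_iff]
      intro z hz
      rw [Set.mem_singleton_iff] at hz
      subst hz
      exact hCcomm _ x.2 _ hy
    have hdvd : (Subgroup.centralizer ({(x : H)} : Set H)).index ∣ p ^ a :=
      ha ▸ Subgroup.index_dvd_of_le hle
    obtain ⟨b, -, hb⟩ := (Nat.dvd_prime_pow hp.out).mp hdvd
    exact Cfsg.Agent.CharLib.kazarin (x : H) p b hp.out hb
  haveI : Fintype C := Fintype.ofFinite C
  obtain ⟨T, hTn, hTs, hT⟩ := Cfsg.Agent.CharLib.exists_normal_solvable_of_forall
    (Finset.univ : Finset C) (fun x : C => Subgroup.normalClosure ({(x : H)} : Set H))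
    (fun _ => Subgroup.normalClosure_normal) hkaz
  have hCT : C ≤ T := by
    intro x hx
    exact hT ⟨x, hx⟩ (Finset.mem_univ _) (Subgroup.subset_normalClosure (Set.mem_singleton x))
  haveI := hTn
  -- `H/T` is a `p`-group
  have hidx : T.index ∣ p ^ a := ha ▸ Subgroup.index_dvd_of_le hCT
  obtain ⟨b, -, hb⟩ := (Nat.dvd_prime_pow hp.out).mp hidx
  have hquotp : IsPGroup p (H ⧸ T) := by
    apply IsPGroup.of_card (n := b)
    rw [← Subgroup.index_eq_card, hb]
  haveI : Group.IsSolvable (H ⧸ T) := by
    haveI := hquotp.isNilpotent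
    infer_instance
  haveI := hTs
  exact Group.isSolvable_of_ker_le_range T.subtype (QuotientGroup.mk' T)
    (by rw [QuotientGroup.ker_mk', Subgroup.range_subtype])

end Cfsg.Agent.Lib.Helper20.OrbLeaf
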