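import Mathlib
import Cfsg.Agent.Lib.Helper8.SmallSimple2
import Cfsg.Agent.Lib.Helper8.OrdSieveB
import Cfsg.Agent.Lib.Helper19.Ord4032A

/-!
# No simple group of order 1080 (helper20)

`1080 = 2^3 * 3^3 * 5`.
* The number of Sylow `5`-subgroups is `6`, `36` or `216`; `6` is impossible (`1080 ∤ 6!`), `216`
  gives `N(P) = C(P)` (Burnside), so it is `36`, `|N(P)| = 30` and `|C(P)| = 15`: there is an element
  `y` of order `3` centralizing a Sylow `5`-subgroup `P`.
* The number of Sylow `3`-subgroups is `10` or `40`; since `40 ≢ 1 mod 9`, in both cases there is a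
  subgroup `H` of index `10` (`|H| = 108`).
* On the `10` cosets of `H` the group `P` has no fixed point (`5 ∤ 108`), so the number of fixed
  points of `y` is divisible by `5`; it is also `≡ 10 ≡ 1 mod 3`, hence equal to `10`, and `y` acts
  trivially: a contradiction.
-/

set_option autoImplicit false
set_option linter.unusedSectionVars false
set_option linter.style.haveILetI false

namespace Cfsg.Agent.Lib.Helper20.Ord1080

open MulAction Cfsg.Agent.Lib.Helper8.SmallSimple Cfsg.Agent.Lib.Helper8.SmallSimple2
  Cfsg.Agent.Lib.Helper7 Cfsg.Agent.Lib.Helper19.Ord4032 Cfsg.Agent.Lib.Helper8.OrdSieve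

/-- a subgroup of index `10` -/
theorem exists_index_ten {G : Type*} [Group G] [Finite G] [IsSimpleGroup G]
    (hG : Nat.card G = 1080) : ∃ H : Subgroup G, H.index = 10 := by
  have hnc : ¬ IsMulCommutative G := by
    apply not_comm_of_card_not_prime
    rw [hG]; norm_num
  have hp3 : Nat.Prime 3 := by norm_num
  haveI : Fact (Nat.Prime 3) := ⟨hp3⟩
  have hn : Nat.card G = 3 ^ 3 * 40 := by rw [hG]; norm_num
  obtain ⟨hdvd, hmod, hne1⟩ := sylow_count_facts (G := G) hp3 (a := 3) (m := 40) (by norm_num)
    (by norm_num) hn (by norm_num)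
  obtain ⟨P⟩ : Nonempty (Sylow 3 G) := inferInstance
  have hidx := index_normalizer_sylow (G := G) hp3 P
  have hfacts : ∀ H : Subgroup G, H ≠ ⊤ → 9 ≤ H.index := by
    intro H hH
    have h1 := card_dvd_factorial_index H hH
    rw [hG] at h1
    by_contra hlt
    have h8 : H.index.factorial ∣ Nat.factorial 8 := Nat.factorial_dvd_factorial (by omega)
    have := h1.trans h8
    revert this
    decide
  have hle : Nat.card (Sylow 3 G) ≤ 40 := Nat.le_of_dvd (by norm_num) hdvd
  have hNtop : Subgroup.normalizer ((P : Subgroup G) : Set G) ≠ ⊤ := by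
    intro h
    rw [h, Subgroup.index_top] at hidx
    exact hne1 hidx.symm
  have h9 := hfacts _ hNtop
  rw [hidx] at h9
  have hcases : Nat.card (Sylow 3 G) = 10 ∨ Nat.card (Sylow 3 G) = 40 := by
    generalize Nat.card (Sylow 3 G) = n at *
    interval_cases n <;> omega
  rcases hcases with h10 | h40
  · exact ⟨_, by rw [hidx, h10]⟩
  · obtain ⟨H, hHtop, hHm, e, he, hep, he1⟩ := exists_big_normalizer (G := G) hp3 (a := 3) (m := 40)
      (by norm_num) (by norm_num) hn (by norm_num) (by rw [h40]; norm_num)
    have h9' := hfacts H hHtop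
    have hle' : H.index ≤ 40 := Nat.le_of_dvd (by norm_num) hHm
    refine ⟨H, ?_⟩
    generalize H.index = j at *
    interval_cases j
    all_goals first
      | rfl
      | (exfalso; revert hHm; decide)
      | (exfalso
         have hle2 := Nat.le_of_dvd (by norm_num) he
         interval_cases e <;> omega)

/-- **No simple group has order `1080 = 2^3 * 3^3 * 5`.** -/
theorem no_simple_1080 {G : Type*} [Group G] [Finite G] [IsSimpleGroup G] : Nat.card G ≠ 1080 := by
  intro hG
  have hnc : ¬ IsMulCommutative G := by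
    apply not_comm_of_card_not_prime
    rw [hG]; norm_num
  haveI : Fact (Nat.Prime 5) := ⟨by norm_num⟩
  haveI : Fact (Nat.Prime 3) := ⟨by norm_num⟩
  obtain ⟨P⟩ : Nonempty (Sylow 5 G) := inferInstance
  obtain ⟨hP, n, k, c, r, hn, hNc, hCc, hr, hnk, hcr, hmod, hn1, hr4, hr1, hidx, hfac⟩ :=
    sylow_prime_data hnc (p := 5) (m := 216) (by rw [hG]) (by norm_num) P
  have hkpos : 0 < k := by
    rcases Nat.eq_zero_or_pos k with h | h
    · rw [h] at hnk; omega
    · exact h
  have hnle : n ≤ 216 := by
    calc n ≤ n * k := Nat.le_mul_of_pos_right _ hkpos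
      _ = 216 := hnk
  have hndvd : n ∣ 216 := ⟨k, hnk.symm⟩
  have hn6 : n ≠ 6 := by
    intro h
    rw [h, hG] at hfac
    revert hfac
    decide
  have hn36 : n = 36 ∨ n = 216 := by
    clear hfac hidx hn
    interval_cases n <;> omega
  have hr' : r = 2 ∨ r = 4 := by
    have hle := Nat.le_of_dvd (by norm_num) hr4
    have : r ∣ 4 := hr4
    interval_cases r <;> simp_all
  have hc3 : c = 3 := by
    rcases hn36 with h | h
    · rw [h] at hnk
      have hk6 : k = 6 := by omega
      rw [hk6] at hcr
      rcases hr' with h' | h' <;> rw [h'] at hcr <;> omega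
    · rw [h] at hnk
      have hk1 : k = 1 := by omega
      rw [hk1] at hcr
      rcases hr' with h' | h' <;> rw [h'] at hcr <;> omega
  rw [hc3] at hCc
  -- an element of order `3` centralizing `P`
  obtain ⟨y, hyC, hy⟩ := exists_prime_order_mem
    (Subgroup.centralizer ((P : Subgroup G) : Set G)) 3 (by rw [hCc]; norm_num)
  obtain ⟨H, hH⟩ := exists_index_ten hG
  have hHtop : H ≠ ⊤ := by
    intro h
    rw [h, Subgroup.index_top] at hH
    omega
  have hHcard : Nat.card ↥H = 108 := by
    have := H.card_mul_index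
    rw [hH, hG] at this
    omega
  have hcardX : Nat.card (G ⧸ H) = 10 := hH
  have hyp : IsPGroup 3 (Subgroup.zpowers y) := by
    apply IsPGroup.of_card (n := 1)
    rw [Nat.card_zpowers, hy, pow_one]
  have h3 := card_modEq_card_fixedBy (X := G ⧸ H) y hyp
  rw [hcardX] at h3
  have hle : Nat.card (fixedBy (G ⧸ H) y) ≤ 10 := by
    rw [← hcardX]
    exact Nat.card_le_card_of_injective _ Subtype.val_injective
  have hne : Nat.card (fixedBy (G ⧸ H) y) ≠ 10 := by
    intro h
    have hy1 : y = 1 := by
      apply eq_one_of_smul_eq H hHtop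
      apply smul_eq_of_card_fixedBy
      rw [h, hcardX]
    rw [hy1, orderOf_one] at hy
    omega
  -- `P` acts on the fixed points of `y` without fixed points
  have hinv : ∀ z ∈ (P : Subgroup G), ∀ a ∈ fixedBy (G ⧸ H) y, z • a ∈ fixedBy (G ⧸ H) y := by
    intro z hz a ha
    rw [mem_fixedBy] at ha ⊢
    have hcomm : z * y = y * z := (Subgroup.mem_centralizer_iff.mp hyC) z hz
    rw [smul_smul, ← hcomm, ← smul_smul, ha]
  have h5 := card_invariant_modEq (X := G ⧸ H) (P : Subgroup G) P.2 (fixedBy (G ⧸ H) y) hinv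
  have hempty : Nat.card {a : G ⧸ H // a ∈ fixedBy (G ⧸ H) y ∧ ∀ z ∈ (P : Subgroup G), z • a = a}
      = 0 := by
    rw [Nat.card_eq_zero]
    left
    constructor
    rintro ⟨a, -, ha⟩
    have hPle : (P : Subgroup G) ≤ stabilizer G a := fun z hz => ha z hz
    have hdvd := Subgroup.card_dvd_of_le hPle
    rw [hP] at hdvd
    have hidx' : (stabilizer G a).index = 10 := by
      rw [index_stabilizer_of_transitive, hcardX]
    have hmul := (stabilizer G a).card_mul_index
    rw [hidx', hG] at hmul
    have h108 : Nat.card ↥(stabilizer G a) = 108 := by omega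
    rw [h108] at hdvd
    revert hdvd
    decide
  rw [hempty] at h5
  unfold Nat.ModEq at h3 h5
  omega

end Cfsg.Agent.Lib.Helper20.Ord1080
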