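import Mathlib
import Cfsg.Agent.Lib.Helper8.SmallSimple2
import Cfsg.Agent.Lib.Helper19.Ord4032A

/-!
# No simple group of order 420 (helper20)

`420 = 2^2 * 3 * 5 * 7`.  The number of Sylow `7`-subgroups is `15`, so `|N(P)| = 28`, and
`[N(P) : C(P)]` divides `gcd(4, 6) = 2`, hence (Burnside) `|C(P)| = 14`.  An involution `t` of `C(P)`
acts on the `15` cosets of `N(P)` with `≡ 1 mod 7` fixed points, not `15`, and moves a multiple of `4`
points (it is an even permutation): impossible.
-/

set_option autoImplicit false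
set_option linter.unusedSectionVars false
set_option linter.style.haveILetI false

namespace Cfsg.Agent.Lib.Helper20.Ord420

open MulAction Cfsg.Agent.Lib.Helper8.SmallSimple Cfsg.Agent.Lib.Helper8.SmallSimple2
  Cfsg.Agent.Lib.Helper7 Cfsg.Agent.Lib.Helper19.Ord4032

/-- **No simple group has order `420 = 2^2 * 3 * 5 * 7`.** -/
theorem no_simple_420 {G : Type*} [Group G] [Finite G] [IsSimpleGroup G] : Nat.card G ≠ 420 := by
  intro hG
  have hnc : ¬ IsMulCommutative G := by
    apply not_comm_of_card_not_prime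
    rw [hG]; norm_num
  have hG2 : 2 < Nat.card G := by rw [hG]; norm_num
  haveI : Fact (Nat.Prime 7) := ⟨by norm_num⟩
  haveI : Fact (Nat.Prime 2) := ⟨by norm_num⟩
  obtain ⟨P⟩ : Nonempty (Sylow 7 G) := inferInstance
  obtain ⟨hP, n, k, c, r, hn, hNc, hCc, hr, hnk, hcr, hmod, hn1, hr6, hr1, hidx, hfac⟩ :=
    sylow_prime_data hnc (p := 7) (m := 60) (by rw [hG]) (by norm_num) P
  have hkpos : 0 < k := by
    rcases Nat.eq_zero_or_pos k with h | h
    · rw [h] at hnk; omega
    · exact h
  have hnle : n ≤ 60 := by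
    calc n ≤ n * k := Nat.le_mul_of_pos_right _ hkpos
      _ = 60 := hnk
  have hndvd : n ∣ 60 := ⟨k, hnk.symm⟩
  have hn15 : n = 15 := by
    clear hfac hidx hn
    interval_cases n <;> omega
  rw [hn15] at hnk hidx
  have hk4 : k = 4 := by omega
  rw [hk4] at hcr
  have hr' : r = 2 := by
    have hle := Nat.le_of_dvd (by norm_num) hr6
    have h4 : r ∣ 4 := ⟨c, by rw [← hcr, mul_comm]⟩
    have : r ∣ 6 := hr6
    interval_cases r <;> simp_all
  rw [hr'] at hcr
  have hc2 : c = 2 := by omega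
  rw [hc2] at hCc
  have hNtop : Subgroup.normalizer ((P : Subgroup G) : Set G) ≠ ⊤ := by
    intro h
    rw [h, Subgroup.index_top] at hidx
    omega
  obtain ⟨t, htC, ht⟩ := exists_prime_order_mem
    (Subgroup.centralizer ((P : Subgroup G) : Set G)) 2 (by rw [hCc]; norm_num)
  obtain ⟨h7, ⟨s, hs4, hs⟩, hne⟩ := invol_fix_data hG2 P hP hNtop t htC ht
  rw [hidx] at hs hne
  omega

end Cfsg.Agent.Lib.Helper20.Ord420
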