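import Mathlib

/-!
# 2-Engel groups (Levi)

In a group where every element commutes with all its conjugates, triple commutators have cube one.
-/

set_option autoImplicit false

namespace Cfsg.Agent.Lib.Helper20.OrdFour

open scoped commutatorElement

variable {G : Type*} [Group G]

/-- The 2-Engel condition: every element commutes with all its conjugates. -/
def TwoEngel (G : Type*) [Group G] : Prop := ∀ x b : G, Commute x (b * x * b⁻¹)

/-- normal closure of an element -/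
abbrev nc (x : G) : Subgroup G := Subgroup.normalClosure {x}

theorem self_mem_nc (x : G) : x ∈ nc x := Subgroup.subset_normalClosure rfl

theorem conj_mem_nc {x w : G} (hw : w ∈ nc x) (g : G) : g * w * g⁻¹ ∈ nc x :=
  (Subgroup.normalClosure_normal (s := {x})).conj_mem w hw g

theorem nc_comm (hE : TwoEngel G) (x : G) : ∀ u ∈ nc x, ∀ v ∈ nc x, Commute u v := by
  have hgen : ∀ u ∈ Group.conjugatesOfSet {x}, ∀ v ∈ Group.conjugatesOfSet {x}, Commute u v := by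
    intro u hu v hv
    rw [Group.mem_conjugatesOfSet_iff] at hu hv
    obtain ⟨a, ha, hau⟩ := hu
    obtain ⟨a', ha', hav⟩ := hv
    rw [Set.mem_singleton_iff] at ha ha'
    rw [ha] at hau; rw [ha'] at hav
    obtain ⟨b, rfl⟩ := isConj_iff.mp hau
    obtain ⟨c, rfl⟩ := isConj_iff.mp hav
    have h := hE x (b⁻¹ * c)
    rw [← Commute.conj_iff b] at h
    convert h using 1
    group
  intro u hu v hv
  have h1 : ∀ u ∈ Group.conjugatesOfSet {x}, ∀ v ∈ nc x, Commute u v := by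
    intro u hu v hv
    induction hv using Subgroup.closure_induction with
    | mem v hv => exact hgen u hu v hv
    | one => exact Commute.one_right u
    | mul a b _ _ iha ihb => exact iha.mul_right ihb
    | inv a _ iha => exact iha.inv_right
  induction hu using Subgroup.closure_induction with
  | mem u hu => exact h1 u hu v hv
  | one => exact Commute.one_left v
  | mul a b _ _ iha ihb => exact iha.mul_left ihb
  | inv a _ iha => exact iha.inv_left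

theorem comm_mem_left (x y : G) : ⁅x, y⁆ ∈ nc x := by
  have h : ⁅x, y⁆ = x * (y * x⁻¹ * y⁻¹) := by rw [commutatorElement_def]; group
  rw [h]
  exact (nc x).mul_mem (self_mem_nc x) (conj_mem_nc ((nc x).inv_mem (self_mem_nc x)) y)

theorem comm_mem_right (x y : G) : ⁅x, y⁆ ∈ nc y := by
  have h : ⁅x, y⁆ = (x * y * x⁻¹) * y⁻¹ := by rw [commutatorElement_def]
  rw [h]
  exact (nc y).mul_mem (conj_mem_nc (self_mem_nc y) x) ((nc y).inv_mem (self_mem_nc y))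

theorem comm_mem_of_mem {w y : G} (hw : w ∈ nc y) (z : G) : ⁅w, z⁆ ∈ nc y := by
  have h : ⁅w, z⁆ = w * (z * w⁻¹ * z⁻¹) := by rw [commutatorElement_def]; group
  rw [h]
  exact (nc y).mul_mem hw (conj_mem_nc ((nc y).inv_mem hw) z)

theorem commute_of_mem_nc (hE : TwoEngel G) {w y : G} (hw : w ∈ nc y) : Commute w y :=
  nc_comm hE y w hw y (self_mem_nc y)

theorem conj_eq_of_mem_nc (hE : TwoEngel G) {w y : G} (hw : w ∈ nc y) : y * w * y⁻¹ = w := by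
  have h := commute_of_mem_nc hE hw
  rw [h.symm.eq, mul_inv_cancel_right]

theorem comm_eq_one_of_mem_nc (hE : TwoEngel G) {w y : G} (hw : w ∈ nc y) : ⁅w, y⁆ = 1 :=
  commutatorElement_eq_one_iff_commute.mpr (commute_of_mem_nc hE hw)

/-- On an abelian normal subgroup, `w ↦ ⁅w, z⁆` is multiplicative. -/
theorem comm_mul_hom (N : Subgroup G) [hN : N.Normal] (hc : ∀ u ∈ N, ∀ v ∈ N, Commute u v)
    {u v : G} (hu : u ∈ N) (hv : v ∈ N) (z : G) : ⁅u * v, z⁆ = ⁅u, z⁆ * ⁅v, z⁆ := by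
  have hvz : ⁅v, z⁆ ∈ N := by
    have h : ⁅v, z⁆ = v * (z * v⁻¹ * z⁻¹) := by rw [commutatorElement_def]; group
    rw [h]; exact N.mul_mem hv (hN.conj_mem _ (N.inv_mem hv) z)
  have huz : ⁅u, z⁆ ∈ N := by
    have h : ⁅u, z⁆ = u * (z * u⁻¹ * z⁻¹) := by rw [commutatorElement_def]; group
    rw [h]; exact N.mul_mem hu (hN.conj_mem _ (N.inv_mem hu) z)
  have h1 : ⁅u * v, z⁆ = (u * ⁅v, z⁆ * u⁻¹) * ⁅u, z⁆ := by
    simp only [commutatorElement_def]; group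
  have h2 : u * ⁅v, z⁆ * u⁻¹ = ⁅v, z⁆ := by
    rw [(hc u hu _ hvz).eq, mul_inv_cancel_right]
  rw [h1, h2, (hc _ hvz _ huz).eq]

theorem comm_inv_hom (N : Subgroup G) [hN : N.Normal] (hc : ∀ u ∈ N, ∀ v ∈ N, Commute u v)
    {u : G} (hu : u ∈ N) (z : G) : ⁅u⁻¹, z⁆ = ⁅u, z⁆⁻¹ := by
  have h := comm_mul_hom N hc hu (N.inv_mem hu) z
  rw [mul_inv_cancel] at h
  have h1 : ⁅(1 : G), z⁆ = 1 := by rw [commutatorElement_def]; group
  rw [h1] at h
  exact eq_inv_of_mul_eq_one_right h.symm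

theorem T_swap23 (hE : TwoEngel G) (x y z : G) : ⁅⁅x, y⁆, z⁆ * ⁅⁅x, z⁆, y⁆ = 1 := by
  have h0 : ⁅⁅x, y * z⁆, y * z⁆ = 1 := comm_eq_one_of_mem_nc hE (comm_mem_right x (y * z))
  have h1 : ⁅x, y * z⁆ = ⁅x, y⁆ * (y * ⁅x, z⁆ * y⁻¹) := by
    simp only [commutatorElement_def]; group
  have hu : ⁅x, y⁆ ∈ nc x := comm_mem_left x y
  have hv : y * ⁅x, z⁆ * y⁻¹ ∈ nc x := conj_mem_nc (comm_mem_left x z) y
  rw [h1, comm_mul_hom (nc x) (nc_comm hE x) hu hv] at h0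
  have h3 : ⁅⁅x, y⁆, y * z⁆ = ⁅⁅x, y⁆, y⁆ * (y * ⁅⁅x, y⁆, z⁆ * y⁻¹) := by
    simp only [commutatorElement_def]; group
  have h3a : ⁅⁅x, y⁆, y⁆ = 1 := comm_eq_one_of_mem_nc hE (comm_mem_right x y)
  have h3b : y * ⁅⁅x, y⁆, z⁆ * y⁻¹ = ⁅⁅x, y⁆, z⁆ :=
    conj_eq_of_mem_nc hE (comm_mem_of_mem (comm_mem_right x y) z)
  have h4 : ⁅y * ⁅x, z⁆ * y⁻¹, y * z⁆ =
      ⁅y * ⁅x, z⁆ * y⁻¹, y⁆ * (y * ⁅y * ⁅x, z⁆ * y⁻¹, z⁆ * y⁻¹) := by
    simp only [commutatorElement_def]; group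
  have h4a : ⁅y * ⁅x, z⁆ * y⁻¹, z⁆ = 1 :=
    comm_eq_one_of_mem_nc hE (conj_mem_nc (comm_mem_right x z) y)
  have h4b : ⁅y * ⁅x, z⁆ * y⁻¹, y⁆ = y * ⁅⁅x, z⁆, y⁆ * y⁻¹ := by
    simp only [commutatorElement_def]; group
  have h4c : y * ⁅⁅x, z⁆, y⁆ * y⁻¹ = ⁅⁅x, z⁆, y⁆ :=
    conj_eq_of_mem_nc hE (comm_mem_right _ y)
  rw [h3, h3a, h3b, one_mul, h4, h4a, h4b, h4c, mul_one, mul_inv_cancel, mul_one] at h0
  exact h0

theorem T_swap12 (hE : TwoEngel G) (x y z : G) : ⁅⁅x, y⁆, z⁆ = ⁅⁅y, x⁆, z⁆⁻¹ := by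
  rw [← comm_inv_hom (nc y) (nc_comm hE y) (comm_mem_left y x) z, commutatorElement_inv]

theorem T_cyc (hE : TwoEngel G) (x y z : G) : ⁅⁅x, y⁆, z⁆ = ⁅⁅y, z⁆, x⁆ := by
  rw [T_swap12 hE x y z]
  exact inv_eq_of_mul_eq_one_right (T_swap23 hE y x z)

theorem comm_inv_left (hE : TwoEngel G) (x y : G) : ⁅y⁻¹, x⁆ = ⁅x, y⁆ := by
  have h : ⁅y⁻¹, x⁆ = y⁻¹ * ⁅x, y⁆ * y := by simp only [commutatorElement_def]; group
  rw [h]
  have h2 := commute_of_mem_nc hE (comm_mem_right x y)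
  rw [mul_assoc, h2.eq, inv_mul_cancel_left]

theorem T_cube (hE : TwoEngel G) (x y z : G) : ⁅⁅x, y⁆, z⁆ ^ 3 = 1 := by
  have hw : y * ⁅⁅y⁻¹, x⁆, z⁆ * y⁻¹ * (z * ⁅⁅z⁻¹, y⁆, x⁆ * z⁻¹) * (x * ⁅⁅x⁻¹, z⁆, y⁆ * x⁻¹) = 1 := by
    simp only [commutatorElement_def]; group
  rw [comm_inv_left hE x y, comm_inv_left hE y z, comm_inv_left hE z x] at hw
  rw [conj_eq_of_mem_nc hE (comm_mem_of_mem (comm_mem_right x y) z),
    conj_eq_of_mem_nc hE (comm_mem_of_mem (comm_mem_right y z) x),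
    conj_eq_of_mem_nc hE (comm_mem_of_mem (comm_mem_right z x) y)] at hw
  rw [← T_cyc hE x y z, ← T_cyc hE y z x, ← T_cyc hE x y z] at hw
  rw [pow_succ, pow_two]; exact hw

theorem nilpotencyClass_le_two_of_triple (h : ∀ x y z : G, ⁅⁅x, y⁆, z⁆ = 1) :
    Group.nilpotencyClass G ≤ 2 := by
  have htop : Subgroup.upperCentralSeries G 2 = ⊤ := by
    rw [eq_top_iff]
    intro x _
    rw [Subgroup.mem_upperCentralSeries_succ_iff]
    intro y
    rw [Subgroup.upperCentralSeries_one, Subgroup.mem_center_iff]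
    intro z
    have := h x y z
    rw [commutatorElement_eq_one_iff_commute] at this
    exact this.symm.eq
  haveI : Group.IsNilpotent G := ⟨⟨2, htop⟩⟩
  exact Subgroup.upperCentralSeries_eq_top_iff_nilpotencyClass_le.mp htop

end Cfsg.Agent.Lib.Helper20.OrdFour
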