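import Mathlib
import Cfsg.Agent.Lib.Helper20.Fpf4Basic
import Cfsg.Agent.Lib.Helper20.OrdFourA

/-!
# Fixed-point-free automorphisms of order three

A finite group of order prime to 3 admitting a fixed-point-free automorphism of order 3 is
nilpotent of class at most two (Burnside / B. H. Neumann).
-/

set_option autoImplicit false

namespace Cfsg.Agent.Lib.Helper20.OrdFour

open scoped commutatorElement
open Cfsg.Agent.Lib.Helper20.Fpf4

variable {G : Type*} [Group G] [Finite G]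

theorem prod_three (σ : MulAut G) (hf : Fpf σ) (h3 : ∀ g, σ (σ (σ g)) = g) (g : G) :
    g * σ g * σ (σ g) = 1 := by
  obtain ⟨x, hx⟩ := hf.surjective g
  simp only at hx
  rw [← hx]
  simp only [map_mul, map_inv, h3]
  group

theorem prod_three' (σ : MulAut G) (hf : Fpf σ) (h3 : ∀ g, σ (σ (σ g)) = g) (g : G) :
    σ (σ g) * σ g * g = 1 := by
  have h := prod_three σ hf h3 g⁻¹
  simp only [map_inv] at h
  have h' := congrArg (fun t => t⁻¹) h
  simp only [mul_inv_rev, inv_inv, inv_one] at h'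
  rw [mul_assoc]; exact h'

theorem commute_sigma (σ : MulAut G) (hf : Fpf σ) (h3 : ∀ g, σ (σ (σ g)) = g) (g : G) :
    Commute g (σ g) := by
  have key : ∀ g : G, Commute (σ g) (σ (σ g)) := by
    intro g
    have h1 := prod_three σ hf h3 g
    have h2 := prod_three' σ hf h3 g
    have e1 : σ g * σ (σ g) = g⁻¹ := by
      rw [mul_assoc] at h1
      exact eq_inv_of_mul_eq_one_right h1
    have e2 : σ (σ g) * σ g = g⁻¹ := eq_inv_of_mul_eq_one_left h2
    exact e1.trans e2.symm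
  have := key (σ (σ g))
  rwa [h3] at this

theorem commute_conj_sigma (σ : MulAut G) (hf : Fpf σ) (h3 : ∀ g, σ (σ (σ g)) = g) (x a : G) :
    Commute x (a * σ x * a⁻¹) := by
  obtain ⟨g, hg⟩ := hf.surjective a
  simp only at hg
  have h := commute_sigma σ hf h3 (g * x * g⁻¹)
  rw [← Commute.conj_iff g⁻¹] at h
  rw [← hg]
  convert h using 1
  · group
  · simp only [map_mul, map_inv]; group

theorem twoEngel_of_fpf (σ : MulAut G) (hf : Fpf σ) (h3 : ∀ g, σ (σ (σ g)) = g) : TwoEngel G := by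
  intro x b
  have h1 : Commute (σ x) (b * x * b⁻¹) := by
    have h := commute_conj_sigma σ hf h3 x b⁻¹
    rw [← Commute.conj_iff b] at h
    have h' : b * (b⁻¹ * σ x * b⁻¹⁻¹) * b⁻¹ = σ x := by group
    rw [h'] at h
    exact h.symm
  have h2 : Commute (σ (σ x)) (b * x * b⁻¹) := by
    have h := commute_conj_sigma σ hf h3 (σ (σ x)) b
    rwa [h3] at h
  have h4 : x⁻¹ = σ x * σ (σ x) := by
    have h := prod_three σ hf h3 x
    rw [mul_assoc] at h
    exact (eq_inv_of_mul_eq_one_right h).symm ▸ rfl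
  have h5 : Commute x⁻¹ (b * x * b⁻¹) := by
    rw [h4]; exact h1.mul_left h2
  exact (Commute.inv_left_iff.mp h5)

theorem triple_comm_eq_one (σ : MulAut G) (hf : Fpf σ) (h3 : ∀ g, σ (σ (σ g)) = g)
    (hcop : (Nat.card G).Coprime 3) (x y z : G) : ⁅⁅x, y⁆, z⁆ = 1 := by
  have hE := twoEngel_of_fpf σ hf h3
  have h1 := T_cube hE x y z
  have h2 : orderOf ⁅⁅x, y⁆, z⁆ ∣ 3 := orderOf_dvd_of_pow_eq_one h1
  have h4 : orderOf ⁅⁅x, y⁆, z⁆ ∣ Nat.card G := orderOf_dvd_natCard _
  have h5 : orderOf ⁅⁅x, y⁆, z⁆ ∣ 1 := by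
    have := Nat.dvd_gcd h4 h2
    rwa [Nat.Coprime.gcd_eq_one hcop] at this
  exact orderOf_eq_one_iff.mp (Nat.dvd_one.mp h5)

theorem nilpotencyClass_le_two_of_fpf (σ : MulAut G) (hf : Fpf σ) (h3 : ∀ g, σ (σ (σ g)) = g)
    (hcop : (Nat.card G).Coprime 3) : Group.nilpotencyClass G ≤ 2 :=
  nilpotencyClass_le_two_of_triple (triple_comm_eq_one σ hf h3 hcop)

end Cfsg.Agent.Lib.Helper20.OrdFour
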