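import Mathlib
import Cfsg.Agent.Lib.Helper20.Fpf4Basic
import Cfsg.Agent.Lib.Helper20.OrdFourB

/-!
# A normal subgroup `P` with an element `s` of order three acting fixed-point-freely
-/

set_option autoImplicit false

namespace Cfsg.Agent.Lib.Helper20.OrdFour

open scoped commutatorElement
open Cfsg.Agent.Lib.Helper20.Fpf4

variable {G : Type*} [Group G] [Finite G]

/-- `P` normal, `s ^ 3 = 1`, `C_P(s) = 1`, `|P|` prime to 3. -/
structure Ctx (P : Subgroup G) (s : G) : Prop where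
  normal : P.Normal
  s3 : s ^ 3 = 1
  fpf : ∀ x ∈ P, s * x * s⁻¹ = x → x = 1
  cop : (Nat.card P).Coprime 3

namespace Ctx

variable {P : Subgroup G} {s : G}

theorem conj_mem (h : Ctx P s) (g : G) {x : G} (hx : x ∈ P) : g * x * g⁻¹ ∈ P :=
  h.normal.conj_mem x hx g

theorem conj_mem' (h : Ctx P s) (g : G) {x : G} (hx : x ∈ P) : g⁻¹ * x * g ∈ P := by
  have := h.normal.conj_mem x hx g⁻¹
  rwa [inv_inv] at this

theorem fpf' (h : Ctx P s) : haveI := h.normal; Fpf (MulAut.conjNormal s : MulAut P) := by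
  haveI := h.normal
  intro x hx
  have h1 : s * (x : G) * s⁻¹ = x := by
    rw [← MulAut.conjNormal_apply, hx]
  exact Subtype.ext (h.fpf x x.2 h1)

theorem h3' (h : Ctx P s) : haveI := h.normal;
    ∀ x : P, (MulAut.conjNormal s : MulAut P) ((MulAut.conjNormal s : MulAut P)
      ((MulAut.conjNormal s : MulAut P) x)) = x := by
  haveI := h.normal
  intro x
  apply Subtype.ext
  simp only [MulAut.conjNormal_apply]
  have hs : s * s * s = 1 := by
    have := h.s3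
    rwa [pow_succ, pow_two] at this
  have e : s * (s * (s * (x : G) * s⁻¹) * s⁻¹) * s⁻¹ = (s * s * s) * x * (s * s * s)⁻¹ := by group
  rw [e, hs]; group

theorem prod3 (h : Ctx P s) {x : G} (hx : x ∈ P) :
    x * (s * x * s⁻¹) * (s * (s * x * s⁻¹) * s⁻¹) = 1 := by
  haveI := h.normal
  have := prod_three (MulAut.conjNormal s : MulAut P) h.fpf' h.h3' ⟨x, hx⟩
  have h2 := congrArg Subtype.val this
  simpa only [Subgroup.coe_mul, MulAut.conjNormal_apply, Subgroup.coe_one] using h2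

theorem c2 (h : Ctx P s) {x y z : G} (hx : x ∈ P) (hy : y ∈ P) (hz : z ∈ P) :
    Commute ⁅x, y⁆ z := by
  haveI := h.normal
  have := triple_comm_eq_one (MulAut.conjNormal s : MulAut P) h.fpf' h.h3' h.cop
    ⟨x, hx⟩ ⟨y, hy⟩ ⟨z, hz⟩
  have h2 := congrArg Subtype.val this
  simp only [commutatorElement_def, Subgroup.coe_mul, Subgroup.coe_inv, Subgroup.coe_one] at h2
  rw [← commutatorElement_eq_one_iff_commute]
  simpa only [commutatorElement_def] using h2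

theorem nilp (h : Ctx P s) : Group.nilpotencyClass P ≤ 2 := by
  haveI := h.normal
  exact nilpotencyClass_le_two_of_fpf (MulAut.conjNormal s : MulAut P) h.fpf' h.h3' h.cop

theorem mem_of_comm_mem (h : Ctx P s) (N : Subgroup G) (hNP : N ≤ P)
    (hN : ∀ n ∈ N, s * n * s⁻¹ ∈ N) {x : G} (hx : x ∈ P) (hxN : x⁻¹ * (s * x * s⁻¹) ∈ N) :
    x ∈ N := by
  haveI := h.normal
  have := h.fpf'.mem_of_comm_mem (N.subgroupOf P)
    (by
      intro n hn
      rw [Subgroup.mem_subgroupOf] at hn ⊢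
      rw [MulAut.conjNormal_apply]
      exact hN _ hn)
    (x := ⟨x, hx⟩)
    (by
      rw [Subgroup.mem_subgroupOf]
      simpa only [Subgroup.coe_mul, Subgroup.coe_inv, MulAut.conjNormal_apply] using hxN)
  rwa [Subgroup.mem_subgroupOf] at this

theorem comm_mem (h : Ctx P s) {x y : G} (hx : x ∈ P) (hy : y ∈ P) : ⁅x, y⁆ ∈ P := by
  rw [commutatorElement_def]
  exact P.mul_mem (P.mul_mem (P.mul_mem hx hy) (P.inv_mem hx)) (P.inv_mem hy)

theorem c2_mul_left (h : Ctx P s) {a b c : G} (ha : a ∈ P) (hb : b ∈ P) (hc : c ∈ P) :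
    ⁅a * b, c⁆ = ⁅a, c⁆ * ⁅b, c⁆ := by
  have h1 : ⁅a * b, c⁆ = (a * ⁅b, c⁆ * a⁻¹) * ⁅a, c⁆ := by
    simp only [commutatorElement_def]; group
  have h2 : a * ⁅b, c⁆ * a⁻¹ = ⁅b, c⁆ := by
    rw [(h.c2 hb hc ha).symm.eq, mul_inv_cancel_right]
  rw [h1, h2, (h.c2 hb hc (h.comm_mem ha hc)).eq]

theorem c2_mul_right (h : Ctx P s) {a b c : G} (ha : a ∈ P) (hb : b ∈ P) (hc : c ∈ P) :
    ⁅a, b * c⁆ = ⁅a, b⁆ * ⁅a, c⁆ := by
  have h1 : ⁅a, b * c⁆ = ⁅a, b⁆ * (b * ⁅a, c⁆ * b⁻¹) := by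
    simp only [commutatorElement_def]; group
  have h2 : b * ⁅a, c⁆ * b⁻¹ = ⁅a, c⁆ := by
    rw [(h.c2 ha hc hb).symm.eq, mul_inv_cancel_right]
  rw [h1, h2]

theorem c2_one_left (c : G) : ⁅(1 : G), c⁆ = 1 := by rw [commutatorElement_def]; group

theorem c2_one_right (c : G) : ⁅c, (1 : G)⁆ = 1 := by rw [commutatorElement_def]; group

theorem c2_inv_left (h : Ctx P s) {a c : G} (ha : a ∈ P) (hc : c ∈ P) :
    ⁅a⁻¹, c⁆ = ⁅a, c⁆⁻¹ := by
  have := h.c2_mul_left ha (P.inv_mem ha) hc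
  rw [mul_inv_cancel, c2_one_left] at this
  exact eq_inv_of_mul_eq_one_right this.symm

theorem c2_inv_right (h : Ctx P s) {a c : G} (ha : a ∈ P) (hc : c ∈ P) :
    ⁅a, c⁻¹⁆ = ⁅a, c⁆⁻¹ := by
  have := h.c2_mul_right ha hc (P.inv_mem hc)
  rw [mul_inv_cancel, c2_one_right] at this
  exact eq_inv_of_mul_eq_one_right this.symm

theorem conj_comm (g a b : G) : g * ⁅a, b⁆ * g⁻¹ = ⁅g * a * g⁻¹, g * b * g⁻¹⁆ := by
  simp only [commutatorElement_def]; group

/-- Commuting elements `v, w` of `P`: `v` also commutes with `w ^ s`. -/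
theorem commute_conj (h : Ctx P s) {v w : G} (hv : v ∈ P) (hw : w ∈ P) (hvw : Commute v w) :
    Commute v (s * w * s⁻¹) := by
  set v' := s * v * s⁻¹ with hv'
  set w' := s * w * s⁻¹ with hw'
  have hv'P : v' ∈ P := h.conj_mem s hv
  have hw'P : w' ∈ P := h.conj_mem s hw
  have ev : s * v' * s⁻¹ = (v * v')⁻¹ := by
    have := h.prod3 hv
    exact eq_inv_of_mul_eq_one_right this
  have ew : s * w' * s⁻¹ = (w * w')⁻¹ := by
    have := h.prod3 hw
    exact eq_inv_of_mul_eq_one_right this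
  have e0 : ⁅v, w⁆ = 1 := commutatorElement_eq_one_iff_commute.mpr hvw
  have e1 : ⁅v', w'⁆ = 1 := by
    rw [hv', hw', ← conj_comm, e0]; group
  have e2 : ⁅s * v' * s⁻¹, s * w' * s⁻¹⁆ = 1 := by
    rw [← conj_comm, e1]; group
  have hvv : v * v' ∈ P := P.mul_mem hv hv'P
  have hww : w * w' ∈ P := P.mul_mem hw hw'P
  rw [ev, ew, h.c2_inv_left hvv (P.inv_mem hww), h.c2_inv_right hvv hww, inv_inv,
    h.c2_mul_left hv hv'P hww, h.c2_mul_right hv hw hw'P, h.c2_mul_right hv'P hw hw'P,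
    e0, e1, one_mul, mul_one] at e2
  -- e2 : ⁅v, w'⁆ * ⁅v', w⁆ = 1
  have e3 : s * ⁅v, w'⁆ * s⁻¹ = ⁅v, w'⁆ := by
    rw [conj_comm, ← hv', ew, h.c2_inv_right hv'P hww, h.c2_mul_right hv'P hw hw'P, e1, mul_one]
    exact (eq_inv_of_mul_eq_one_left e2).symm
  have e4 := h.fpf _ (h.comm_mem hv hw'P) e3
  exact commutatorElement_eq_one_iff_commute.mp e4

end Ctx

end Cfsg.Agent.Lib.Helper20.OrdFour
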