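import Mathlib
import Cfsg.Agent.Lib.Helper20.OrdFourC

/-!
# The `S₃` case: `O_2` is elementary abelian
-/

set_option autoImplicit false

namespace Cfsg.Agent.Lib.Helper20.OrdFour

open scoped commutatorElement
open Cfsg.Agent.Lib.Helper20.Fpf4

theorem l1 {Q : Type*} [Group Q] (H X : Q) (c1 : Commute (H ^ 2) X)
    (c2 : Commute (H ^ 2) (H⁻¹ * X * H)) (c3 : Commute (H⁻¹ * X * H) X) (h4 : H ^ 4 = 1)
    (hx4 : (H * X) ^ 4 = 1) : H⁻¹ * X ^ 2 * H * X ^ 2 = 1 := by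
  have e1 : (H * X) ^ 2 = H ^ 2 * (H⁻¹ * X * H) * X := by simp only [pow_two]; group
  have e2 : (H * X) ^ 4 = ((H * X) ^ 2) ^ 2 := by rw [← pow_mul]
  rw [e2, e1] at hx4
  have c4 : Commute (H ^ 2 * (H⁻¹ * X * H)) X := c1.mul_left c3
  rw [c4.mul_pow, c2.mul_pow] at hx4
  have e3 : (H ^ 2) ^ 2 = 1 := by rw [← pow_mul]; exact h4
  have e4 : (H⁻¹ * X * H) ^ 2 = H⁻¹ * X ^ 2 * H := by simp only [pow_two]; group
  rw [e3, one_mul, e4] at hx4
  exact hx4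

theorem l2 {Q : Type*} [Group Q] (a b d c : Q) (ha : a * a = 1) (hab : (a * b) * (a * b) = 1)
    (had : (a * d) * (a * d) = 1) (hadb : (a * d * (b * c)) * (a * d * (b * c)) = 1)
    (hca : Commute c a) (hcd : Commute c d) (hcb : Commute c b) (hcc : c * c = 1) :
    Commute d b := by
  have h1 : (a * d * b) * (a * d * b) = 1 := by
    have hcadb : Commute c (a * d * b) := (hca.mul_right hcd).mul_right hcb
    have e : (a * d * (b * c)) * (a * d * (b * c)) = (a * d * b) * (a * d * b) * (c * c) := by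
      have e1 : a * d * (b * c) = (a * d * b) * c := by group
      rw [e1]
      calc (a * d * b) * c * ((a * d * b) * c) = (a * d * b) * (c * (a * d * b)) * c := by group
        _ = (a * d * b) * ((a * d * b) * c) * c := by rw [hcadb.eq]
        _ = (a * d * b) * (a * d * b) * (c * c) := by group
    rw [e, hcc, mul_one] at hadb
    exact hadb
  have ainv : a⁻¹ = a := inv_eq_of_mul_eq_one_left ha
  have Ainv : (a * d)⁻¹ = a * d := inv_eq_of_mul_eq_one_left had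
  -- a b a = b⁻¹
  have e1 : a * b * a = b⁻¹ := by
    have : a * b * a * b = 1 := by rw [← hab]; group
    exact eq_inv_of_mul_eq_one_left this
  have e2 : (a * d) * b * (a * d) = b⁻¹ := by
    have : (a * d) * b * (a * d) * b = 1 := by rw [← h1]; group
    exact eq_inv_of_mul_eq_one_left this
  -- d b d⁻¹ = b
  have e3 : d = a * (a * d) := by rw [← mul_assoc, ha, one_mul]
  have e4 : d⁻¹ = (a * d) * a := by
    rw [e3, mul_inv_rev, Ainv, ainv, ← mul_assoc a a d, ha, one_mul]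
  have e5 : d * b * d⁻¹ = b := by
    calc d * b * d⁻¹ = a * ((a * d) * b * (a * d)) * a := by rw [e4]; nth_rewrite 1 [e3]; group
      _ = a * b⁻¹ * a := by rw [e2]
      _ = (a * b * a)⁻¹ := by rw [mul_inv_rev, mul_inv_rev, ainv, mul_assoc]
      _ = b := by rw [e1, inv_inv]
  have : d * b = b * d := by
    calc d * b = d * b * d⁻¹ * d := by group
      _ = b * d := by rw [e5]
  exact this

variable {G : Type*} [Group G] [Finite G]

/-- the map `x ↦ x ^ g * x` -/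
def ff (g x : G) : G := g⁻¹ * x * g * x

theorem sq_mul_eq (g x : G) : (g * x) ^ 2 = g ^ 2 * ff g x := by
  unfold ff; simp only [pow_two]; group

theorem ff_conj (t g y : G) : t * ff g y * t⁻¹ = ff (t * g * t⁻¹) (t * y * t⁻¹) := by
  unfold ff; group

/-- The `S₃`-context. -/
structure Ctx3 (P K : Subgroup G) (s : G) : Prop extends Ctx P s where
  PK : P ≤ K
  sK : s ∈ K
  h4 : ∀ g, g ∉ K → g ^ 4 = 1
  h2 : ∀ g, g ∉ K → g ^ 2 ∈ P
  ex : ∃ g, g ∉ K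

namespace Ctx3

variable {P K : Subgroup G} {s : G}

theorem not_mem_mul (_h : Ctx3 P K s) {g : G} (hg : g ∉ K) {k : G} (hk : k ∈ K) : g * k ∉ K := by
  intro h1
  apply hg
  have := K.mul_mem h1 (K.inv_mem hk)
  rwa [mul_inv_cancel_right] at this

theorem not_mem_mul' (_h : Ctx3 P K s) {g : G} (hg : g ∉ K) {k : G} (hk : k ∈ K) : k * g ∉ K := by
  intro h1
  apply hg
  have := K.mul_mem (K.inv_mem hk) h1
  rwa [inv_mul_cancel_left] at this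

theorem ff_mem (h : Ctx3 P K s) (g : G) {x : G} (hx : x ∈ P) : ff g x ∈ P := by
  unfold ff
  exact P.mul_mem (h.toCtx.conj_mem' g hx) hx

theorem sq_mem (h : Ctx3 P K s) (N : Subgroup G) [hN : N.Normal] (hNP : N ≤ P)
    (hab : ∀ x ∈ P, ∀ y ∈ P, ⁅x, y⁆ ∈ N) {x : G} (hx : x ∈ P) : x ^ 2 ∈ N := by
  have hcomm : ∀ a ∈ P, ∀ b ∈ P, Commute (QuotientGroup.mk' N a) (QuotientGroup.mk' N b) := by
    intro a ha b hb
    rw [← commutatorElement_eq_one_iff_commute, ← map_commutatorElement]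
    exact (QuotientGroup.eq_one_iff _).mpr (hab a ha b hb)
  have key : ∀ g, g ∉ K → g⁻¹ * x ^ 2 * g * x ^ 2 ∈ N := by
    intro g hg
    have h1 := l1 (QuotientGroup.mk' N g) (QuotientGroup.mk' N x)
      (by rw [← map_pow]; exact hcomm _ (h.h2 g hg) _ hx)
      (by
        rw [← map_pow, ← map_inv, ← map_mul, ← map_mul]
        exact hcomm _ (h.h2 g hg) _ (h.toCtx.conj_mem' g hx))
      (by
        rw [← map_inv, ← map_mul, ← map_mul]
        exact hcomm _ (h.toCtx.conj_mem' g hx) _ hx)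
      (by rw [← map_pow, h.h4 g hg, map_one])
      (by rw [← map_mul, ← map_pow, h.h4 _ (h.not_mem_mul hg (h.PK hx)), map_one])
    rw [← map_inv, ← map_pow, ← map_mul, ← map_mul, ← map_mul] at h1
    exact (QuotientGroup.eq_one_iff _).mp h1
  obtain ⟨g, hg⟩ := h.ex
  have hA := key g hg
  have hB := key (g * s) (h.not_mem_mul hg h.sK)
  have hA' : s⁻¹ * (g⁻¹ * x ^ 2 * g * x ^ 2) * s ∈ N := by
    have := hN.conj_mem _ hA s⁻¹
    rwa [inv_inv] at this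
  have hC : (x ^ 2)⁻¹ * (s⁻¹ * x ^ 2 * s) ∈ N := by
    have := N.mul_mem (N.inv_mem hB) hA'
    have e : ((g * s)⁻¹ * x ^ 2 * (g * s) * x ^ 2)⁻¹ * (s⁻¹ * (g⁻¹ * x ^ 2 * g * x ^ 2) * s) =
        (x ^ 2)⁻¹ * (s⁻¹ * x ^ 2 * s) := by group
    rwa [e] at this
  have hD : (x ^ 2)⁻¹ * (s * x ^ 2 * s⁻¹) ∈ N := by
    have := N.inv_mem (hN.conj_mem _ hC s)
    have e : (s * ((x ^ 2)⁻¹ * (s⁻¹ * x ^ 2 * s)) * s⁻¹)⁻¹ = (x ^ 2)⁻¹ * (s * x ^ 2 * s⁻¹) := by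
      group
    rwa [e] at this
  exact h.toCtx.mem_of_comm_mem N hNP (fun n hn => hN.conj_mem n hn s) (P.pow_mem hx 2) hD

theorem sq_central (h : Ctx3 P K s) {x y : G} (hx : x ∈ P) (hy : y ∈ P) : Commute (x ^ 2) y := by
  haveI := h.normal
  have := h.sq_mem (P ⊓ Subgroup.centralizer (P : Set G)) inf_le_left
    (by
      intro a ha b hb
      refine Subgroup.mem_inf.mpr ⟨h.toCtx.comm_mem ha hb, ?_⟩
      rw [Subgroup.mem_centralizer_iff]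
      intro z hz
      exact (h.toCtx.c2 ha hb hz).symm.eq) hx
  exact ((Subgroup.mem_centralizer_iff.mp (Subgroup.mem_inf.mp this).2) y hy).symm

theorem comm_sq (h : Ctx3 P K s) {a b : G} (ha : a ∈ P) (hb : b ∈ P) : ⁅a, b⁆ * ⁅a, b⁆ = 1 := by
  rw [← h.toCtx.c2_mul_left ha ha hb, ← pow_two]
  exact commutatorElement_eq_one_iff_commute.mpr (h.sq_central ha hb)

theorem ff_mul (h : Ctx3 P K s) (g : G) {p y : G} (hp : p ∈ P) (hy : y ∈ P) :
    ff (g * p) y = ff g y * ⁅(g⁻¹ * y * g)⁻¹, p⁻¹⁆ := by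
  have hy' : (g⁻¹ * y * g)⁻¹ ∈ P := P.inv_mem (h.toCtx.conj_mem' g hy)
  have hc := h.toCtx.c2 hy' (P.inv_mem hp) hy
  have e : ff (g * p) y = (g⁻¹ * y * g) * ⁅(g⁻¹ * y * g)⁻¹, p⁻¹⁆ * y := by
    unfold ff; rw [commutatorElement_def]; group
  rw [e, mul_assoc, hc.eq, ← mul_assoc]
  rfl

theorem comm_ff (h : Ctx3 P K s) {g : G} (hg : g ∉ K) {x y : G} (hx : x ∈ P) (hy : y ∈ P) :
    Commute (ff g x) (ff g y) := by
  have hsq : ∀ g', g' ∉ K → (g' ^ 2) * (g' ^ 2) = 1 := by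
    intro g' hg'
    rw [← pow_add]; exact h.h4 g' hg'
  have hsq2 : ∀ g', g' ∉ K → ∀ z ∈ P, (g' ^ 2 * ff g' z) * (g' ^ 2 * ff g' z) = 1 := by
    intro g' hg' z hz
    rw [← sq_mul_eq, ← pow_add]
    exact h.h4 _ (h.not_mem_mul hg' (h.PK hz))
  have hgx : g * x ∉ K := h.not_mem_mul hg (h.PK hx)
  have hy' : (g⁻¹ * y * g)⁻¹ ∈ P := P.inv_mem (h.toCtx.conj_mem' g hy)
  have hcP : ⁅(g⁻¹ * y * g)⁻¹, x⁻¹⁆ ∈ P := h.toCtx.comm_mem hy' (P.inv_mem hx)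
  have h3 := hsq2 (g * x) hgx y hy
  rw [sq_mul_eq, h.ff_mul g hx hy] at h3
  have h4 := hsq (g * x) hgx
  rw [sq_mul_eq] at h4
  exact l2 (g ^ 2) (ff g y) (ff g x) ⁅(g⁻¹ * y * g)⁻¹, x⁻¹⁆ (hsq g hg) (hsq2 g hg y hy) h4 h3
    (h.toCtx.c2 hy' (P.inv_mem hx) (h.h2 g hg))
    (h.toCtx.c2 hy' (P.inv_mem hx) (h.ff_mem g hx))
    (h.toCtx.c2 hy' (P.inv_mem hx) (h.ff_mem g hy))
    (h.comm_sq hy' (P.inv_mem hx))

theorem sg_rel (h : Ctx3 P K s) {g : G} (hg : g ∉ K) :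
    ∃ p ∈ P, s * g = (s * (s * g * s⁻¹) * s⁻¹) * p := by
  have hs : s * s * s = 1 := by
    have := h.s3
    rwa [pow_succ, pow_two] at this
  have hq : g⁻¹ * s⁻¹ * g * s⁻¹ ∈ P := by
    have h1 : (s * g) ^ 2 ∈ P := h.h2 _ (h.not_mem_mul' hg h.sK)
    have h2 : s * (g ^ 2)⁻¹ * s⁻¹ ∈ P := h.toCtx.conj_mem s (P.inv_mem (h.h2 g hg))
    have h3 := P.inv_mem (P.mul_mem h2 h1)
    have e : (s * (g ^ 2)⁻¹ * s⁻¹ * (s * g) ^ 2)⁻¹ = g⁻¹ * s⁻¹ * g * s⁻¹ := by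
      simp only [pow_two]; group
    rwa [e] at h3
  refine ⟨s * (s * (g⁻¹ * s⁻¹ * g * s⁻¹) * s⁻¹) * s⁻¹,
    h.toCtx.conj_mem s (h.toCtx.conj_mem s hq), ?_⟩
  have e : (s * (s * g * s⁻¹) * s⁻¹) * (s * (s * (g⁻¹ * s⁻¹ * g * s⁻¹) * s⁻¹) * s⁻¹) =
      s * g * (s * s * s)⁻¹ := by group
  rw [e, hs, inv_one, mul_one]

/-- Elements of `P` in the "span" of the `ff g y` and their `s²`-conjugates. -/
theorem decomp (h : Ctx3 P K s) {g : G} (hg : g ∉ K) {x : G} (hx : x ∈ P) :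
    ∃ y₁ ∈ P, ∃ y₂ ∈ P, ∃ c ∈ P, (∀ z ∈ P, Commute c z) ∧
      x = (ff g y₁)⁻¹ * ((s * (s * ff g y₂ * s⁻¹) * s⁻¹) * c) := by
  haveI := h.normal
  obtain ⟨a, ha⟩ := h.toCtx.fpf'.surjective ⟨x, hx⟩
  have ha' : (a : G)⁻¹ * (s * a * s⁻¹) = x := by
    have := congrArg Subtype.val ha
    simpa only [Subgroup.coe_mul, Subgroup.coe_inv, MulAut.conjNormal_apply] using this
  obtain ⟨p, hp, hpe⟩ := h.sg_rel hg
  have e1 : x = (ff g a)⁻¹ * ff (s * g) (s * a * s⁻¹) := by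
    rw [← ha']; unfold ff; group
  have hsa : s * (a : G) * s⁻¹ ∈ P := h.toCtx.conj_mem s a.2
  have e2 := h.ff_mul (s * (s * g * s⁻¹) * s⁻¹) hp hsa
  rw [← hpe] at e2
  have hs : s * s * s = 1 := by
    have := h.s3
    rwa [pow_succ, pow_two] at this
  -- y₂ = s⁻¹ a s  (so that s (s y₂ s⁻¹) s⁻¹ = s a s⁻¹)
  have hy2 : s⁻¹ * (a : G) * s ∈ P := h.toCtx.conj_mem' s a.2
  have e3 : ff (s * (s * g * s⁻¹) * s⁻¹) (s * a * s⁻¹) =
      s * (s * ff g (s⁻¹ * a * s) * s⁻¹) * s⁻¹ := by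
    rw [ff_conj, ff_conj]
    congr 1
    group
  set y' := ((s * (s * g * s⁻¹) * s⁻¹)⁻¹ * (s * (a : G) * s⁻¹) * (s * (s * g * s⁻¹) * s⁻¹))⁻¹
    with hy'def
  have hy'P : y' ∈ P := P.inv_mem (h.toCtx.conj_mem' _ hsa)
  refine ⟨a, a.2, s⁻¹ * a * s, hy2, ⁅y', p⁻¹⁆, h.toCtx.comm_mem hy'P (P.inv_mem hp), ?_, ?_⟩
  · intro z hz
    exact h.toCtx.c2 hy'P (P.inv_mem hp) hz
  · rw [e1, e2, e3]

theorem abelian (h : Ctx3 P K s) {x x' : G} (hx : x ∈ P) (hx' : x' ∈ P) : Commute x x' := by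
  obtain ⟨g, hg⟩ := h.ex
  obtain ⟨y₁, hy₁, y₂, hy₂, c, hc, hcz, rfl⟩ := h.decomp hg hx
  obtain ⟨z₁, hz₁, z₂, hz₂, d, hd, hdz, rfl⟩ := h.decomp hg hx'
  have hf : ∀ {y : G}, y ∈ P → ff g y ∈ P := fun hy => h.ff_mem g hy
  have hcj : ∀ {y : G}, y ∈ P → s * (s * ff g y * s⁻¹) * s⁻¹ ∈ P :=
    fun hy => h.toCtx.conj_mem s (h.toCtx.conj_mem s (hf hy))
  have k1 : ∀ {y z : G}, y ∈ P → z ∈ P → Commute (ff g y) (s * (s * ff g z * s⁻¹) * s⁻¹) := by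
    intro y z hy hz
    have := h.toCtx.commute_conj (hf hy) (hf hz) (h.comm_ff hg hy hz)
    exact h.toCtx.commute_conj (hf hy) (h.toCtx.conj_mem s (hf hz)) this
  have k2 : ∀ {y z : G}, y ∈ P → z ∈ P →
      Commute (s * (s * ff g y * s⁻¹) * s⁻¹) (s * (s * ff g z * s⁻¹) * s⁻¹) := by
    intro y z hy hz
    exact ((h.comm_ff hg hy hz).conj s).conj s
  have m1 : Commute (ff g y₁)⁻¹ ((ff g z₁)⁻¹ * ((s * (s * ff g z₂ * s⁻¹) * s⁻¹) * d)) := by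
    apply Commute.inv_left
    apply Commute.mul_right
    · exact (h.comm_ff hg hy₁ hz₁).inv_right
    · apply Commute.mul_right
      · exact k1 hy₁ hz₂
      · exact (hdz _ (hf hy₁)).symm
  have m2 : Commute ((s * (s * ff g y₂ * s⁻¹) * s⁻¹) * c)
      ((ff g z₁)⁻¹ * ((s * (s * ff g z₂ * s⁻¹) * s⁻¹) * d)) := by
    apply Commute.mul_left
    · apply Commute.mul_right
      · exact (k1 hz₁ hy₂).symm.inv_right
      · apply Commute.mul_right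
        · exact k2 hy₂ hz₂
        · exact (hdz _ (hcj hy₂)).symm
    · exact hcz _ (P.mul_mem (P.inv_mem (hf hz₁)) (P.mul_mem (hcj hz₂) hd))
  exact m1.mul_left m2

theorem sq_eq_one (h : Ctx3 P K s) {x : G} (hx : x ∈ P) : x ^ 2 = 1 := by
  have := h.sq_mem ⊥ bot_le
    (by
      intro a ha b hb
      rw [Subgroup.mem_bot]
      exact commutatorElement_eq_one_iff_commute.mpr (h.abelian ha hb)) hx
  exact Subgroup.mem_bot.mp this

end Ctx3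

end Cfsg.Agent.Lib.Helper20.OrdFour
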