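import Mathlib
import Cfsg.Prelude.Def_Transfer
import Cfsg.Agent.S0068
import Cfsg.Agent.Lib.Helper18.UniqueInvolution

/-!
# Groups with element orders at most four: the case `O_2(G) = 1`
-/

set_option autoImplicit false

namespace Cfsg.Agent.Lib.Helper20.OrdFour

variable {G : Type*} [Group G]

/-- all element orders lie in `{1, 2, 3, 4}` -/
def Ord4 (G : Type*) [Group G] : Prop := ∀ g : G, 1 ≤ orderOf g ∧ orderOf g ≤ 4

theorem Ord4.cases (h : Ord4 G) (g : G) :
    orderOf g = 1 ∨ orderOf g = 2 ∨ orderOf g = 3 ∨ orderOf g = 4 := by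
  have := h g
  omega

theorem Ord4.pow_twelve (h : Ord4 G) (g : G) : g ^ 12 = 1 := by
  apply orderOf_dvd_iff_pow_eq_one.mp
  rcases h.cases g with h1 | h1 | h1 | h1 <;> rw [h1] <;> norm_num

theorem Ord4.quotient (h : Ord4 G) (N : Subgroup G) [N.Normal] : Ord4 (G ⧸ N) := by
  intro x
  obtain ⟨g, rfl⟩ := QuotientGroup.mk_surjective x
  have h1 : orderOf (QuotientGroup.mk' N g) ∣ orderOf g := orderOf_map_dvd _ g
  have h2 := h g
  have h3 : 0 < orderOf g := by omega
  have h4 := Nat.le_of_dvd h3 h1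
  have h5 : 0 < orderOf (QuotientGroup.mk' N g) := Nat.pos_of_dvd_of_pos h1 h3
  constructor
  · exact h5
  · exact le_trans h4 h2.2

/-- no element of order 3 commutes with a nontrivial 2-element -/
theorem Ord4.no_comm (h : Ord4 G) {a b : G} (ha : orderOf a = 3) (hb4 : b ^ 4 = 1) (hb1 : b ≠ 1)
    (hab : Commute a b) : False := by
  have h1 : orderOf b ∣ 4 := orderOf_dvd_of_pow_eq_one hb4
  have h2 : orderOf b ≠ 1 := fun h => hb1 (orderOf_eq_one_iff.mp h)
  have h3 : orderOf b = 2 ∨ orderOf b = 4 := by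
    have : orderOf b ∈ Nat.divisors 4 := Nat.mem_divisors.mpr ⟨h1, by norm_num⟩
    have h4 : Nat.divisors 4 = {1, 2, 4} := by decide
    rw [h4] at this
    simp only [Finset.mem_insert, Finset.mem_singleton] at this
    rcases this with h | h | h
    · exact absurd h h2
    · exact Or.inl h
    · exact Or.inr h
  have hcop : (orderOf a).Coprime (orderOf b) := by
    rw [ha]
    rcases h3 with h | h <;> rw [h] <;> decide
  have h5 := hab.orderOf_mul_eq_mul_orderOf_of_coprime hcop
  have h6 := (h (a * b)).2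
  rw [h5, ha] at h6
  rcases h3 with h | h <;> rw [h] at h6 <;> omega

theorem Ord4.pow_four_of_ne_three (h : Ord4 G) {g : G} (hg : orderOf g ≠ 3) : g ^ 4 = 1 := by
  apply orderOf_dvd_iff_pow_eq_one.mp
  rcases h.cases g with h1 | h1 | h1 | h1
  · rw [h1]; norm_num
  · rw [h1]; norm_num
  · exact absurd h1 hg
  · rw [h1]

theorem orderOf_eq_three_of {g : G} (h3 : g ^ 3 = 1) (h1 : g ≠ 1) : orderOf g = 3 := by
  haveI : Fact (Nat.Prime 3) := ⟨Nat.prime_three⟩
  exact orderOf_eq_prime h3 h1

section caseThree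

variable [Finite G]

theorem case_three (hord : Ord4 G) (N : Subgroup G) [hNn : N.Normal] (hN3 : ∀ n ∈ N, n ^ 3 = 1)
    (hC : Subgroup.centralizer (N : Set G) ≤ N) (g4 : G) (hg4 : orderOf g4 = 4) :
    Cfsg.IsElementaryAbelian 3 N ∧
      ((IsCyclic (G ⧸ N) ∧ N.index = 4) ∨ Nonempty (G ⧸ N ≃* QuaternionGroup 2)) := by
  -- fixed-point-freeness of 2-elements
  have hfpf2 : ∀ u : G, u ^ 4 = 1 → u ≠ 1 → N ⊓ Subgroup.centralizer {u} = ⊥ := by
    intro u hu4 hu1
    rw [eq_bot_iff]
    intro n hn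
    rw [Subgroup.mem_bot]
    by_contra hn1
    have hnN := hn.1
    have hnc : n ∈ Subgroup.centralizer {u} := hn.2
    have h3 := orderOf_eq_three_of (hN3 n hnN) hn1
    have hc : Commute n u := by
      rw [Subgroup.mem_centralizer_iff] at hnc
      exact (hnc u rfl).symm
    exact hord.no_comm h3 hu4 hu1 hc
  have hinv : ∀ u : G, orderOf u = 2 → ∀ n ∈ N, u * n * u⁻¹ = n⁻¹ := by
    intro u hu2
    apply Cfsg.Agent.S0068.inverts N (Subgroup.zpowers u) ?_ u (Subgroup.mem_zpowers u) hu2
    intro h hh hh1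
    apply hfpf2 h ?_ hh1
    obtain ⟨k, rfl⟩ := Subgroup.mem_zpowers_iff.mp hh
    have hu : u ^ 2 = 1 := by rw [← hu2]; exact pow_orderOf_eq_one u
    rw [← zpow_natCast, ← zpow_mul, mul_comm, zpow_mul, zpow_natCast]
    have : u ^ 4 = 1 := by
      rw [show 4 = 2 * 2 from rfl, pow_mul, hu, one_pow]
    rw [this, one_zpow]
  -- the involution t
  set t := g4 ^ 2 with ht
  have ht2 : orderOf t = 2 := by
    rw [ht, orderOf_pow, hg4]; rfl
  have htt : t * t = 1 := by
    rw [← pow_two, ← ht2]; exact pow_orderOf_eq_one t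
  have ht1 : t ≠ 1 := by
    intro h; rw [h, orderOf_one] at ht2; omega
  have htN : t ∉ N := by
    intro h
    have h3 := hN3 t h
    rw [pow_succ, pow_two, htt, one_mul] at h3
    exact ht1 h3
  have hcomm : ∀ n ∈ N, ∀ m ∈ N, n * m = m * n := by
    intro n hn m hm
    have h1 := hinv t ht2 (n * m) (N.mul_mem hn hm)
    have h2 : t * (n * m) * t⁻¹ = (t * n * t⁻¹) * (t * m * t⁻¹) := by group
    rw [h2, hinv t ht2 n hn, hinv t ht2 m hm, mul_inv_rev] at h1
    have h3 := congrArg (fun x => x⁻¹) h1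
    simp only [mul_inv_rev, inv_inv] at h3
    exact h3.symm
  have hEA : Cfsg.IsElementaryAbelian 3 N := by
    refine ⟨⟨⟨fun a b => Subtype.ext (hcomm a a.2 b b.2)⟩⟩, hN3⟩
  refine ⟨hEA, ?_⟩
  have hordQ : Ord4 (G ⧸ N) := hord.quotient N
  have hmk : ∀ g : G, (QuotientGroup.mk' N g = 1) ↔ g ∈ N := fun g => QuotientGroup.eq_one_iff g
  -- products of two involutions lie in N
  have hprod : ∀ u v : G, orderOf u = 2 → orderOf v = 2 → u * v ∈ N := by
    intro u v hu hv
    apply hC
    rw [Subgroup.mem_centralizer_iff]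
    intro n hn
    have h1 := hinv v hv n hn
    have h2 := hinv u hu n⁻¹ (N.inv_mem hn)
    rw [inv_inv] at h2
    have h3 : (u * v) * n * (u * v)⁻¹ = n := by
      have : (u * v) * n * (u * v)⁻¹ = u * (v * n * v⁻¹) * u⁻¹ := by group
      rw [this, h1, h2]
    calc n * (u * v) = ((u * v) * n * (u * v)⁻¹) * (u * v) := by rw [h3]
      _ = u * v * n := by group
  have ht_bar : QuotientGroup.mk' N t ≠ 1 := fun h => htN ((hmk t).mp h)
  have ht_bar2 : QuotientGroup.mk' N t * QuotientGroup.mk' N t = 1 := by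
    rw [← map_mul, htt, map_one]
  -- G/N is a 2-group
  have hfour : ∀ x : G ⧸ N, x ^ 4 = 1 := by
    intro x
    apply hordQ.pow_four_of_ne_three
    intro hx3
    obtain ⟨g, rfl⟩ := QuotientGroup.mk_surjective x
    have hgt : orderOf (g * t * g⁻¹) = 2 := by
      rw [← ht2]
      exact (MulAut.conj g).orderOf_eq t
    have h1 := hprod t (g * t * g⁻¹) ht2 hgt
    have h2 := (hmk _).mpr h1
    simp only [map_mul, map_inv] at h2
    have hc : Commute (QuotientGroup.mk' N g) (QuotientGroup.mk' N t) := by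
      have tinv : (QuotientGroup.mk' N t)⁻¹ = QuotientGroup.mk' N t :=
        inv_eq_of_mul_eq_one_left ht_bar2
      have h3 : QuotientGroup.mk' N g * QuotientGroup.mk' N t * (QuotientGroup.mk' N g)⁻¹ =
          (QuotientGroup.mk' N t)⁻¹ := by
        apply eq_inv_of_mul_eq_one_right
        exact h2
      rw [tinv] at h3
      have : QuotientGroup.mk' N g * QuotientGroup.mk' N t =
          QuotientGroup.mk' N t * QuotientGroup.mk' N g := by
        calc QuotientGroup.mk' N g * QuotientGroup.mk' N t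
            = (QuotientGroup.mk' N g * QuotientGroup.mk' N t * (QuotientGroup.mk' N g)⁻¹) *
              QuotientGroup.mk' N g := by group
          _ = QuotientGroup.mk' N t * QuotientGroup.mk' N g := by rw [h3]
      exact this
    refine hordQ.no_comm (a := QuotientGroup.mk' N g) (b := QuotientGroup.mk' N t) hx3 ?_ ht_bar hc
    have hsq : (QuotientGroup.mk' N t) ^ 2 = 1 := by rw [pow_two]; exact ht_bar2
    rw [show 4 = 2 * 2 from rfl, pow_mul, hsq, one_pow]
  have hP : IsPGroup 2 (G ⧸ N) := by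
    intro x
    exact ⟨2, by rw [show 2 ^ 2 = 4 from rfl]; exact hfour x⟩
  -- unique involution
  have huniq1 : ∀ x : G ⧸ N, orderOf x = 2 → x = QuotientGroup.mk' N t := by
    intro x hx2
    obtain ⟨u, rfl⟩ := QuotientGroup.mk_surjective x
    have hd : orderOf (QuotientGroup.mk' N u) ∣ orderOf u := orderOf_map_dvd _ u
    have hx2' : orderOf (QuotientGroup.mk' N u) = 2 := hx2
    rw [hx2'] at hd
    have hu2 : orderOf u = 2 := by
      rcases hord.cases u with h | h | h | h
      · rw [h] at hd; omega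
      · exact h
      · rw [h] at hd; omega
      · exfalso
        have h1 : (QuotientGroup.mk' N u) ^ 2 = 1 := by
          rw [← hx2']; exact pow_orderOf_eq_one _
        rw [← map_pow, hmk] at h1
        have h2 := hN3 _ h1
        rw [← pow_mul] at h2
        have h3 := orderOf_dvd_of_pow_eq_one h2
        rw [h] at h3
        omega
    have h1 := hprod u t hu2 ht2
    have h2 := (hmk _).mpr h1
    rw [map_mul] at h2
    have tinv : (QuotientGroup.mk' N t)⁻¹ = QuotientGroup.mk' N t :=
      inv_eq_of_mul_eq_one_left ht_bar2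
    rw [← tinv]
    exact eq_inv_of_mul_eq_one_left h2
  have huniq : ∀ a b : G ⧸ N, orderOf a = 2 → orderOf b = 2 → a = b := by
    intro a b ha hb
    rw [huniq1 a ha, huniq1 b hb]
  -- image of g4 has order 4
  have hg4bar : orderOf (QuotientGroup.mk' N g4) = 4 := by
    have h1 : orderOf (QuotientGroup.mk' N g4) ∣ 4 := orderOf_dvd_of_pow_eq_one (hfour _)
    have h2 : ¬ orderOf (QuotientGroup.mk' N g4) ∣ 2 := by
      intro h
      have := orderOf_dvd_iff_pow_eq_one.mp h
      rw [← map_pow, hmk] at this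
      exact htN this
    have : orderOf (QuotientGroup.mk' N g4) ∈ Nat.divisors 4 :=
      Nat.mem_divisors.mpr ⟨h1, by norm_num⟩
    have h4 : Nat.divisors 4 = {1, 2, 4} := by decide
    rw [h4] at this
    simp only [Finset.mem_insert, Finset.mem_singleton] at this
    rcases this with h | h | h
    · rw [h] at h2; exact absurd (one_dvd 2) h2
    · rw [h] at h2; exact absurd (dvd_refl 2) h2
    · exact h
  rcases Cfsg.Agent.Lib.Helper18.isCyclic_or_quaternion_of_unique_involution hP huniq with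
    hcyc | ⟨n, hn1, ⟨e⟩⟩
  · left
    refine ⟨hcyc, ?_⟩
    obtain ⟨x, hx⟩ := hcyc.exists_generator
    have h1 : orderOf x = Nat.card (G ⧸ N) := orderOf_eq_card_of_forall_mem_zpowers hx
    have h2 := (hordQ x).2
    have h3 : orderOf (QuotientGroup.mk' N g4) ∣ Nat.card (G ⧸ N) := orderOf_dvd_natCard _
    rw [hg4bar] at h3
    rw [h1] at h2
    have h4 : 0 < Nat.card (G ⧸ N) := Nat.card_pos
    have h5 := Nat.le_of_dvd h4 h3
    rw [Subgroup.index_eq_card]
    omega
  · right
    have h1 : orderOf (e.symm (QuaternionGroup.a 1)) = 2 * 2 ^ n := by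
      rw [MulEquiv.orderOf_eq, QuaternionGroup.orderOf_a_one]
    have h2 := (hordQ (e.symm (QuaternionGroup.a 1))).2
    rw [h1] at h2
    have hn : n = 1 := by
      by_contra hne
      have : 2 ≤ n := by omega
      have : 2 ^ 2 ≤ 2 ^ n := Nat.pow_le_pow_right (by norm_num) this
      omega
    subst hn
    exact ⟨e⟩

end caseThree

end Cfsg.Agent.Lib.Helper20.OrdFour
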