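import Mathlib
import Cfsg.Prelude.Def_Transfer
import Cfsg.Prelude.Def_Solvable
import Cfsg.Agent.S4062
import Cfsg.Agent.Lib.Helper1.Fitting
import Cfsg.Agent.Lib.Helper12.Cores
import Cfsg.Agent.Lib.Helper9.PLengthOne
import Cfsg.Agent.Lib.Helper18.FrobComp
import Cfsg.Agent.Lib.Helper20.OrdFourD
import Cfsg.Agent.Lib.Helper20.OrdFourE

/-!
# Groups with element orders at most four: the case `O_3(G) = 1`
-/

set_option autoImplicit false

universe u

namespace Cfsg.Agent.Lib.Helper20.OrdFour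

variable {G : Type u} [Group G]

theorem Ord4.pow_four_of_mem (hord : Ord4 G) {P : Subgroup G} (hP2 : IsPGroup 2 P) {x : G}
    (hx : x ∈ P) : x ^ 4 = 1 := by
  apply hord.pow_four_of_ne_three
  intro h3
  obtain ⟨k, hk⟩ := hP2 ⟨x, hx⟩
  have h1 : x ^ 2 ^ k = 1 := by
    have := congrArg Subtype.val hk
    simpa using this
  have h2 := orderOf_dvd_of_pow_eq_one h1
  rw [h3] at h2
  have h4 := Nat.Prime.dvd_of_dvd_pow Nat.prime_three h2
  omega

theorem Ord4.pow_three_of_mem (hord : Ord4 G) {P : Subgroup G} (hP3 : IsPGroup 3 P) {x : G}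
    (hx : x ∈ P) : x ^ 3 = 1 := by
  obtain ⟨k, hk⟩ := hP3 ⟨x, hx⟩
  have h1 : x ^ 3 ^ k = 1 := by
    have := congrArg Subtype.val hk
    simpa using this
  have h2 := orderOf_dvd_of_pow_eq_one h1
  apply orderOf_dvd_iff_pow_eq_one.mp
  rcases hord.cases x with h | h | h | h
  · rw [h]; exact one_dvd 3
  · rw [h] at h2
    have h4 := Nat.Prime.dvd_of_dvd_pow Nat.prime_two h2
    omega
  · rw [h]
  · rw [h] at h2
    have h4 : 2 ∣ 3 ^ k := dvd_trans (by norm_num) h2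
    have h5 := Nat.Prime.dvd_of_dvd_pow Nat.prime_two h4
    omega

variable [Finite G]

theorem ctx_of (hord : Ord4 G) (P : Subgroup G) [hPn : P.Normal] (hP2 : IsPGroup 2 P) (g3 : G)
    (hg3 : orderOf g3 = 3) : Ctx P g3 := by
  refine ⟨hPn, ?_, ?_, ?_⟩
  · rw [← hg3]; exact pow_orderOf_eq_one g3
  · intro x hx hc
    by_contra hx1
    have hcomm : Commute g3 x := by
      have : g3 * x = x * g3 := by
        calc g3 * x = (g3 * x * g3⁻¹) * g3 := by group
          _ = x * g3 := by rw [hc]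
      exact this
    exact hord.no_comm hg3 (hord.pow_four_of_mem hP2 hx) hx1 hcomm
  · obtain ⟨n, hn⟩ := hP2.exists_card_eq
    rw [hn]
    exact Nat.Coprime.pow_left n (by decide)

theorem sylow_three_card (hord : Ord4 G) (P : Subgroup G) [hPn : P.Normal] (hP2 : IsPGroup 2 P)
    (hPne : P ≠ ⊥) (g3 : G) (hg3 : orderOf g3 = 3) (T : Sylow 3 G) : Nat.card T = 3 := by
  haveI : Fact (Nat.Prime 3) := ⟨Nat.prime_three⟩
  have hfpf : ∀ h ∈ (T : Subgroup G), h ≠ 1 → P ⊓ Subgroup.centralizer {h} = ⊥ := by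
    intro h hh hh1
    have h3 : orderOf h = 3 := orderOf_eq_three_of (hord.pow_three_of_mem T.isPGroup' hh) hh1
    rw [eq_bot_iff]
    intro x hx
    rw [Subgroup.mem_bot]
    by_contra hx1
    have hxc : x ∈ Subgroup.centralizer {h} := hx.2
    rw [Subgroup.mem_centralizer_iff] at hxc
    exact hord.no_comm h3 (hord.pow_four_of_mem hP2 hx.1) hx1 (hxc h rfl)
  obtain ⟨Q⟩ : Nonempty (Sylow 3 ↥(T : Subgroup G)) := inferInstance
  have hcyc := Cfsg.Agent.Lib.Helper18.isCyclic_sylow_of_fpf P (T : Subgroup G) hPne hfpf 3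
    (by norm_num) Q
  have hQtop : (Q : Subgroup ↥(T : Subgroup G)) = ⊤ :=
    (Q.is_maximal' (T.isPGroup'.to_subgroup ⊤) le_top).symm
  rw [hQtop] at hcyc
  obtain ⟨x, hx⟩ := hcyc.exists_generator
  have h1 : orderOf x = Nat.card (⊤ : Subgroup ↥(T : Subgroup G)) :=
    orderOf_eq_card_of_forall_mem_zpowers hx
  rw [Subgroup.card_top] at h1
  have h2 : orderOf (x : ↥(T : Subgroup G)) = orderOf x := Subgroup.orderOf_coe x
  have h3 : orderOf ((x : ↥(T : Subgroup G)) : G) = orderOf (x : ↥(T : Subgroup G)) :=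
    Subgroup.orderOf_coe _
  have h4 := (hord ((x : ↥(T : Subgroup G)) : G)).2
  rw [h3, h2, h1] at h4
  obtain ⟨k, hk⟩ := T.isPGroup'.exists_card_eq
  have h5 : 3 ∣ Nat.card G := by
    rw [← hg3]; exact orderOf_dvd_natCard g3
  have h6 : 3 ∣ Nat.card T := T.dvd_card_of_dvd_card h5
  rw [hk] at h4 h6 ⊢
  have hk1 : k ≠ 0 := by
    intro h0; rw [h0] at h6; norm_num at h6
  have hk2 : k < 2 := by
    by_contra hge
    have : 3 ^ 2 ≤ 3 ^ k := Nat.pow_le_pow_right (by norm_num) (by omega)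
    omega
  have : k = 1 := by omega
  rw [this]; rfl

theorem pPrimeCore_quot_eq_bot (hord : Ord4 G) (P : Subgroup G) [hPn : P.Normal]
    (hP2 : IsPGroup 2 P) (hmax : ∀ Q : Subgroup G, Q.Normal → IsPGroup 2 Q → Q ≤ P) :
    Cfsg.pPrimeCore 3 (G ⧸ P) = ⊥ := by
  haveI hQn : (Cfsg.pPrimeCore 3 (G ⧸ P)).Normal := Cfsg.Agent.Lib.Helper1.pPrimeCore_normal 3 _
  have hcop := Cfsg.Agent.Lib.Helper12.pPrimeCore_coprime (X := G ⧸ P) 3
  set Qb := Cfsg.pPrimeCore 3 (G ⧸ P) with hQb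
  have hQ2 : IsPGroup 2 (Qb.comap (QuotientGroup.mk' P)) := by
    rintro ⟨q, hq⟩
    refine ⟨2, Subtype.ext ?_⟩
    rw [Subgroup.coe_pow, Subgroup.coe_one]
    change q ^ 4 = 1
    apply hord.pow_four_of_ne_three
    intro h3
    rw [Subgroup.mem_comap] at hq
    have h1 : (QuotientGroup.mk' P q) ^ 3 = 1 := by
      rw [← map_pow, ← h3, pow_orderOf_eq_one, map_one]
    have h2 : orderOf (⟨QuotientGroup.mk' P q, hq⟩ : Qb) ∣ 3 := by
      apply orderOf_dvd_of_pow_eq_one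
      exact Subtype.ext (by rw [Subgroup.coe_pow, Subgroup.coe_one]; exact h1)
    have h4 : orderOf (⟨QuotientGroup.mk' P q, hq⟩ : Qb) ∣ Nat.card Qb := orderOf_dvd_natCard _
    have h5 := Nat.dvd_gcd h4 h2
    rw [Nat.Coprime.gcd_eq_one hcop, Nat.dvd_one, orderOf_eq_one_iff] at h5
    have h6 : QuotientGroup.mk' P q = 1 := congrArg Subtype.val h5
    have h7 : q ∈ P := (QuotientGroup.eq_one_iff q).mp h6
    have h8 := hord.pow_four_of_mem hP2 h7
    have h9 := orderOf_dvd_of_pow_eq_one h8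
    rw [h3] at h9
    omega
  have hle := hmax _ (hQn.comap _) hQ2
  rw [eq_bot_iff]
  intro x hx
  obtain ⟨g, rfl⟩ := QuotientGroup.mk_surjective x
  rw [Subgroup.mem_bot]
  exact (QuotientGroup.eq_one_iff g).mpr (hle (Subgroup.mem_comap.mpr hx))

end Cfsg.Agent.Lib.Helper20.OrdFour
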