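import Mathlib
import Cfsg.Agent.Lib.Helper20.OrdFourF

/-!
# Groups with element orders at most four: the case `O_3(G) = 1`, structure of `G / O_2(G)`
-/

set_option autoImplicit false

universe u

namespace Cfsg.Agent.Lib.Helper20.OrdFour

variable {G : Type u} [Group G] [Finite G]

theorem quot_structure [Group.IsSolvable G] (hord : Ord4 G) (P : Subgroup G) [hPn : P.Normal]
    (hP2 : IsPGroup 2 P) (hmax : ∀ Q : Subgroup G, Q.Normal → IsPGroup 2 Q → Q ≤ P)
    (hPne : P ≠ ⊥) (g3 : G) (hg3 : orderOf g3 = 3) :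
    ∃ M : Subgroup (G ⧸ P), M.Normal ∧ Nat.card M = 3 ∧
      Subgroup.centralizer (M : Set (G ⧸ P)) ≤ M ∧
      (Nat.card (G ⧸ P) = 3 ∨ Nat.card (G ⧸ P) = 6) := by
  haveI : Fact (Nat.Prime 3) := ⟨Nat.prime_three⟩
  have hO := pPrimeCore_quot_eq_bot hord P hP2 hmax
  haveI hMn : (Cfsg.pCore 3 (G ⧸ P)).Normal := Cfsg.Agent.Lib.Helper1.pCore_normal 3 _
  have hM3 : IsPGroup 3 (Cfsg.pCore 3 (G ⧸ P)) := Cfsg.Agent.Lib.Helper12.pCore_isPGroup' 3
  have hCM := Cfsg.Agent.Lib.Helper9.centralizer_pCore_le_of_isSolvable (X := G ⧸ P) 3 hO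
  set M := Cfsg.pCore 3 (G ⧸ P) with hM
  obtain ⟨T⟩ : Nonempty (Sylow 3 G) := inferInstance
  have hT := sylow_three_card hord P hP2 hPne g3 hg3 T
  have hcardG : Nat.card G = 3 * (T : Subgroup G).index := by
    have := (T : Subgroup G).card_mul_index
    rw [hT] at this
    exact this.symm
  have hcop : Nat.Coprime 3 (T : Subgroup G).index := by
    have := T.card_coprime_index
    rwa [hT] at this
  have hXdvd : Nat.card (G ⧸ P) ∣ Nat.card G := by
    rw [← Subgroup.index_eq_card]; exact P.index_dvd_card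
  have hMdvd : Nat.card M ∣ Nat.card (G ⧸ P) := Subgroup.card_subgroup_dvd_card M
  -- M ≠ ⊥
  have hMne : M ≠ ⊥ := by
    intro h
    rw [h] at hCM
    have h1 : QuotientGroup.mk' P g3 ∈ (⊥ : Subgroup (G ⧸ P)) := by
      apply hCM
      rw [Subgroup.mem_centralizer_iff]
      intro m hm
      have : m = 1 := Subgroup.mem_bot.mp hm
      rw [this, one_mul, mul_one]
    rw [Subgroup.mem_bot] at h1
    have h1' : g3 ∈ P := (QuotientGroup.eq_one_iff g3).mp h1
    have h2 := hord.pow_four_of_mem hP2 h1'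
    have h3 := orderOf_dvd_of_pow_eq_one h2
    rw [hg3] at h3
    omega
  obtain ⟨j, hj⟩ := hM3.exists_card_eq
  have hj1 : j ≠ 0 := by
    intro h0
    rw [h0, pow_zero] at hj
    exact hMne ((Subgroup.card_eq_one).mp hj)
  have hj2 : j < 2 := by
    by_contra hge
    have h1 : 3 ^ 2 ∣ 3 ^ j := pow_dvd_pow 3 (by omega)
    have h2 : 3 ^ 2 ∣ 3 * (T : Subgroup G).index := by
      rw [← hcardG]; rw [← hj] at h1
      exact dvd_trans h1 (dvd_trans hMdvd hXdvd)
    have h3 : 3 ∣ (T : Subgroup G).index := by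
      rw [pow_two] at h2
      exact Nat.dvd_of_mul_dvd_mul_left (by norm_num) h2
    have h4 := Nat.Coprime.eq_one_of_dvd hcop h3
    omega
  have hMcard : Nat.card M = 3 := by
    have : j = 1 := by omega
    rw [hj, this]; rfl
  -- the action on M
  let φ : (G ⧸ P) →* MulAut M := MulAut.conjNormal
  have hker : φ.ker ≤ M := by
    intro x hx
    apply hCM
    rw [Subgroup.mem_centralizer_iff]
    intro m hm
    rw [MonoidHom.mem_ker] at hx
    have h1 : (φ x) ⟨m, hm⟩ = ⟨m, hm⟩ := by rw [hx]; rfl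
    have h2 : x * m * x⁻¹ = m := by
      have := congrArg Subtype.val h1
      rwa [MulAut.conjNormal_apply] at this
    calc m * x = (x * m * x⁻¹) * x := by rw [h2]
      _ = x * m := by group
  have hcyc : IsCyclic M := isCyclic_of_prime_card hMcard
  have haut : Nat.card (MulAut M) = 2 := by
    rw [IsCyclic.card_mulAut, hMcard]
    exact Nat.totient_prime Nat.prime_three
  have h1 : Nat.card φ.ker * Nat.card φ.range = Nat.card (G ⧸ P) := by
    rw [← Subgroup.index_ker]; exact Subgroup.card_mul_index _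
  have h2 : Nat.card φ.ker ∣ 3 := by
    rw [← hMcard]; exact Subgroup.card_dvd_of_le hker
  have h3 : Nat.card φ.range ∣ 2 := by
    rw [← haut]; exact Subgroup.card_subgroup_dvd_card _
  have h4 : 3 ∣ Nat.card (G ⧸ P) := by rw [← hMcard]; exact hMdvd
  refine ⟨M, hMn, hMcard, hCM, ?_⟩
  rcases (Nat.dvd_prime Nat.prime_three).mp h2 with ha | ha <;>
  rcases (Nat.dvd_prime Nat.prime_two).mp h3 with hb | hb <;>
  rw [ha, hb] at h1 <;> omega

end Cfsg.Agent.Lib.Helper20.OrdFour
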