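import Mathlib
import Cfsg.Agent.Lib.Helper20.OrdFourG

/-!
# Groups with element orders at most four: the case `O_3(G) = 1`, conclusion
-/

set_option autoImplicit false

universe u

namespace Cfsg.Agent.Lib.Helper20.OrdFour

variable {G : Type u} [Group G] [Finite G]

theorem case_two [Group.IsSolvable G] (hord : Ord4 G) (P : Subgroup G) [hPn : P.Normal]
    (hP2 : IsPGroup 2 P) (hmax : ∀ Q : Subgroup G, Q.Normal → IsPGroup 2 Q → Q ≤ P)
    (hC : Subgroup.centralizer (P : Set G) ≤ P)
    (g3 g4 : G) (hg3 : orderOf g3 = 3) (hg4 : orderOf g4 = 4) :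
    (IsPGroup 2 P ∧ Monoid.exponent P = 4 ∧ Group.nilpotencyClass P ≤ 2 ∧ P.index = 3) ∨
    (Cfsg.IsElementaryAbelian 2 P ∧ Nonempty (G ⧸ P ≃* Equiv.Perm (Fin 3))) := by
  have hg3P : g3 ∉ P := by
    intro h
    have h2 := hord.pow_four_of_mem hP2 h
    have h3 := orderOf_dvd_of_pow_eq_one h2
    rw [hg3] at h3
    omega
  have hPne : P ≠ ⊥ := by
    intro h
    apply hg3P
    apply hC
    rw [Subgroup.mem_centralizer_iff]
    intro m hm
    rw [h] at hm
    have : m = 1 := Subgroup.mem_bot.mp hm
    rw [this, one_mul, mul_one]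
  have hctx := ctx_of hord P hP2 g3 hg3
  obtain ⟨M, hMn, hMcard, hCM, hX⟩ := quot_structure hord P hP2 hmax hPne g3 hg3
  have hmk : ∀ g : G, (QuotientGroup.mk' P g = 1) ↔ g ∈ P := fun g => QuotientGroup.eq_one_iff g
  rcases hX with hX | hX
  · left
    refine ⟨hP2, ?_, hctx.nilp, ?_⟩
    · have hg4P : g4 ∈ P := by
        rw [← hmk]
        have h1 : orderOf (QuotientGroup.mk' P g4) ∣ 4 := by
          rw [← hg4]; exact orderOf_map_dvd _ g4
        have h2 : orderOf (QuotientGroup.mk' P g4) ∣ 3 := by
          rw [← hX]; exact orderOf_dvd_natCard _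
        have h3 := Nat.dvd_gcd h1 h2
        have h4 : Nat.gcd 4 3 = 1 := by decide
        rw [h4, Nat.dvd_one, orderOf_eq_one_iff] at h3
        exact h3
      apply Nat.dvd_antisymm
      · apply Monoid.exponent_dvd_of_forall_pow_eq_one
        intro x
        apply Subtype.ext
        rw [Subgroup.coe_pow, Subgroup.coe_one]
        exact hord.pow_four_of_mem hP2 x.2
      · have := Monoid.order_dvd_exponent (⟨g4, hg4P⟩ : P)
        rwa [Subgroup.orderOf_mk, hg4] at this
    · rw [Subgroup.index_eq_card]; exact hX
  · right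
    have hidx : M.index = 2 := by
      have := M.card_mul_index
      rw [hMcard, hX] at this
      omega
    have hmemM : ∀ x : G ⧸ P, x ^ 3 = 1 → x ∈ M := by
      intro x hx
      have h1 : x ^ 2 ∈ M := by
        have := Subgroup.pow_index_mem M x
        rwa [hidx] at this
      have h2 : x = (x ^ 2)⁻¹ := by
        apply eq_inv_of_mul_eq_one_right
        rw [← pow_succ]; exact hx
      rw [h2]; exact M.inv_mem h1
    have hmemK : ∀ g : G, g ^ 3 = 1 → QuotientGroup.mk' P g ∈ M := by
      intro g hg
      apply hmemM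
      rw [← map_pow, hg, map_one]
    have hctx3 : Ctx3 P (M.comap (QuotientGroup.mk' P)) g3 := by
      refine { toCtx := hctx, PK := ?_, sK := ?_, h4 := ?_, h2 := ?_, ex := ?_ }
      · intro x hx
        rw [Subgroup.mem_comap, (hmk x).mpr hx]
        exact M.one_mem
      · rw [Subgroup.mem_comap]
        exact hmemK g3 hctx.s3
      · intro g hg
        apply hord.pow_four_of_ne_three
        intro h3
        apply hg
        rw [Subgroup.mem_comap]
        apply hmemK
        rw [← h3]; exact pow_orderOf_eq_one g
      · intro g hg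
        rw [← hmk, map_pow]
        have h4 : (QuotientGroup.mk' P g) ^ 4 = 1 := by
          apply (hord.quotient P).pow_four_of_ne_three
          intro h3
          apply hg
          rw [Subgroup.mem_comap]
          apply hmemM
          rw [← h3]; exact pow_orderOf_eq_one _
        have h6 : (QuotientGroup.mk' P g) ^ 6 = 1 := by
          rw [← hX]; exact pow_card_eq_one'
        have h1 := orderOf_dvd_of_pow_eq_one h4
        have h2 := orderOf_dvd_of_pow_eq_one h6
        have h3 := Nat.dvd_gcd h1 h2
        have h5 : Nat.gcd 4 6 = 2 := by decide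
        rw [h5] at h3
        exact orderOf_dvd_iff_pow_eq_one.mp h3
      · by_contra hall
        push_neg at hall
        have : M = ⊤ := by
          rw [eq_top_iff]
          intro x _
          obtain ⟨g, rfl⟩ := QuotientGroup.mk_surjective x
          exact Subgroup.mem_comap.mp (hall g)
        rw [this, Subgroup.index_top] at hidx
        omega
    refine ⟨⟨⟨⟨fun a b => Subtype.ext (hctx3.abelian a.2 b.2).eq⟩⟩, fun x hx => hctx3.sq_eq_one hx⟩, ?_⟩
    have hnc : ∃ a b : G ⧸ P, a * b ≠ b * a := by
      by_contra hall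
      push_neg at hall
      have : M = ⊤ := by
        rw [eq_top_iff]
        intro x _
        apply hCM
        rw [Subgroup.mem_centralizer_iff]
        intro m _
        exact hall m x
      rw [this, Subgroup.index_top] at hidx
      omega
    obtain ⟨a, b, hab⟩ := hnc
    exact Cfsg.Agent.S4062.equiv_perm_three hX a b hab

theorem card_two_three (hord : Ord4 G) : ∃ a b : ℕ, Nat.card G = 2 ^ a * 3 ^ b := by
  have hn : Nat.card G ≠ 0 := Nat.card_pos.ne'
  have hp : ∀ p : ℕ, p.Prime → p ∣ Nat.card G → p = 2 ∨ p = 3 := by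
    intro p hp hd
    haveI := Fact.mk hp
    obtain ⟨x, hx⟩ := exists_prime_orderOf_dvd_card' p hd
    have := (hord x).2
    rw [hx] at this
    have h2 := hp.two_le
    interval_cases p
    · left; rfl
    · right; rfl
    · exact absurd hp (by decide)
  refine ⟨(Nat.card G).factorization 2, (Nat.card G).factorization 3, ?_⟩
  have h1 := Nat.factorization_prod_pow_eq_self hn
  rw [Finsupp.prod, Nat.support_factorization] at h1
  have h2 : (Nat.card G).primeFactors ⊆ {2, 3} := by
    intro p hp'
    rw [Nat.mem_primeFactors] at hp'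
    rcases hp p hp'.1 hp'.2.1 with h | h <;> simp [h]
  rw [Finset.prod_subset h2 ?_] at h1
  · rw [Finset.prod_pair (by decide)] at h1; exact h1.symm
  · intro p _ hp'
    have : (Nat.card G).factorization p = 0 := by
      rw [← Nat.support_factorization] at hp'
      exact Finsupp.notMem_support_iff.mp hp'
    rw [this, pow_zero]

end Cfsg.Agent.Lib.Helper20.OrdFour
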