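/-
helper20: S4640 (planner helper24) leaf NE `linear_eq_one_of_mul_eq` in `_of` form over (NV): a linear character
of `G/N` (`G/N` a `p`-group, `G = N P`) fixing a character `χ` which does not vanish on the `p`-sections of the
elements of `P` is trivial.
-/
import Mathlib
import Cfsg.Agent.Lib.Helper6.Fong
import Cfsg.Agent.Lib.Helper6.FongGen
import Cfsg.Agent.Lib.Helper6.SubsectionCount
import Cfsg.Agent.Lib.Helper6.LinChar

set_option autoImplicit false
set_option linter.unusedSectionVars false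

namespace Cfsg.Agent.Lib.Helper20.PINE

open Cfsg

universe u

variable {G : Type u} [Group G] [Fintype G] {p : ℕ} [hpp : Fact p.Prime] {M : Ideal AlgInt}
  (N : Subgroup G) [hN : N.Normal] [Fintype N]

/-- (NE) in `_of` form: `hNV` is the statement of (NV) for `χ`. -/
theorem linear_eq_one_of_mul_eq_of (hNi : ∃ k : ℕ, N.index = p ^ k) (P : Subgroup G)
    (hPab : ∀ x ∈ P, ∀ y ∈ P, x * y = y * x) (hsup : N ⊔ P = ⊤)
    (lam : G → ℂ) (hlam : IsCharacter G lam) (h1 : lam 1 = 1) (hlamN : ∀ n : N, lam n = 1)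
    (χ : IrrCharacter G) (heq : lam * (χ : G → ℂ) = (χ : G → ℂ))
    (hNV : ∀ u ∈ P, (∀ x ∈ P, x * u = u * x) →
      ∃ s : G, s * u = u * s ∧ ¬ p ∣ orderOf s ∧ (χ : G → ℂ) (u * s) ≠ 0) :
    ∀ g : G, lam g = 1 := by
  have hp : p.Prime := hpp.out
  set φ : G →* ℂˣ := Cfsg.Agent.Lib.Helper6.linCharUnitsHom hlam h1 with hφdef
  have hφ : ∀ g : G, ((φ g : ℂˣ) : ℂ) = lam g :=
    fun g => Cfsg.Agent.Lib.Helper6.linCharUnitsHom_apply hlam h1 g
  obtain ⟨k, hk⟩ := hNi
  -- `φ` is trivial on `N`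
  have hNker : N ≤ φ.ker := by
    intro n hn
    rw [MonoidHom.mem_ker]
    apply Units.ext
    rw [hφ, Units.val_one]
    exact hlamN ⟨n, hn⟩
  -- `φ` is trivial on `p`-regular elements
  have hreg : ∀ s : G, ¬ p ∣ orderOf s → φ s = 1 := by
    intro s hs
    have h2 : φ s ^ (p ^ k) = 1 := by
      rw [← map_pow, ← hk]
      exact hNker (Subgroup.pow_index_mem N s)
    have h3 : φ s ^ orderOf s = 1 := by rw [← map_pow, pow_orderOf_eq_one, map_one]
    have d2 : orderOf (φ s) ∣ p ^ k := orderOf_dvd_of_pow_eq_one h2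
    have d3 : orderOf (φ s) ∣ orderOf s := orderOf_dvd_of_pow_eq_one h3
    have hcop : Nat.Coprime (p ^ k) (orderOf s) :=
      Nat.Coprime.pow_left k ((Nat.Prime.coprime_iff_not_dvd hp).mpr hs)
    have : orderOf (φ s) = 1 := by
      have := Nat.dvd_gcd d2 d3
      rw [hcop.gcd_eq_one] at this
      exact Nat.dvd_one.mp this
    exact orderOf_eq_one_iff.mp this
  -- `φ` is trivial on `P`
  have hPker : P ≤ φ.ker := by
    intro u hu
    rw [MonoidHom.mem_ker]
    obtain ⟨s, -, hs, hne⟩ := hNV u hu (fun x hx => hPab x hx u hu)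
    have h2 := congrFun heq (u * s)
    rw [Pi.mul_apply] at h2
    have h3 : lam (u * s) = 1 := by
      have : lam (u * s) * (χ : G → ℂ) (u * s) = 1 * (χ : G → ℂ) (u * s) := by rw [h2, one_mul]
      exact mul_right_cancel₀ hne this
    have h4 : φ (u * s) = 1 := by
      apply Units.ext
      rw [hφ, Units.val_one]
      exact h3
    rw [map_mul, hreg s hs, mul_one] at h4
    exact h4
  intro g
  have hg : g ∈ φ.ker := by
    have : g ∈ N ⊔ P := by rw [hsup]; exact Subgroup.mem_top g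
    exact (sup_le hNker hPker) this
  rw [MonoidHom.mem_ker] at hg
  rw [← hφ g, hg, Units.val_one]

end Cfsg.Agent.Lib.Helper20.PINE
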