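/-
helper20: S4640 (planner helper24) leaf NE `linear_eq_one_of_mul_eq`, exact statement: `PINE.linear_eq_one_of_mul_eq_of`
over helper16's (NV) `Cfsg.Agent.Lib.Helper16.PINV.exists_regular_apply_ne_zero`.
-/
import Mathlib
import Cfsg.Agent.Lib.Helper6.Fong
import Cfsg.Agent.Lib.Helper6.FongGen
import Cfsg.Agent.Lib.Helper6.SubsectionCount
import Cfsg.Agent.Lib.Helper16.PINV
import Cfsg.Agent.Lib.Helper20.PINE

set_option autoImplicit false
set_option linter.unusedSectionVars false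

namespace Cfsg.Agent.Lib.Helper20.PINEW

open Cfsg

universe u

variable {G : Type u} [Group G] [Fintype G] {p : ℕ} [hpp : Fact p.Prime] {M : Ideal AlgInt}
  (N : Subgroup G) [hN : N.Normal] [Fintype N]

/-- (NE) a linear character of `G/N` fixing a member of `B` is trivial. -/
theorem linear_eq_one_of_mul_eq (hM : IsPModular p M) (hNi : ∃ k : ℕ, N.index = p ^ k)
    (B : Set (IrrCharacter G)) (hB : IsPBlock M B) (P : Subgroup G)
    (hPD : IsDefectGroup p M B P) (hPab : ∀ x ∈ P, ∀ y ∈ P, x * y = y * x) (hsup : N ⊔ P = ⊤)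
    (lam : G → ℂ) (hlam : IsCharacter G lam) (h1 : lam 1 = 1) (hlamN : ∀ n : N, lam n = 1)
    (χ : IrrCharacter G) (hχ : χ ∈ B) (heq : lam * (χ : G → ℂ) = (χ : G → ℂ)) :
    ∀ g : G, lam g = 1 :=
  Cfsg.Agent.Lib.Helper20.PINE.linear_eq_one_of_mul_eq_of N hNi P hPab hsup lam hlam h1 hlamN χ heq
    (fun u hu huc =>
      Cfsg.Agent.Lib.Helper16.PINV.exists_regular_apply_ne_zero hM B hB P hPD u hu huc χ hχ)

end Cfsg.Agent.Lib.Helper20.PINEW
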