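import Mathlib

set_option autoImplicit false

/-!
# Fixed spaces and trace maps of subgroups acting linearly; the case of a normal `E_{p²}`
-/

namespace Cfsg.Agent.Lib.Helper20.PImprim

open Classical

variable {q : ℕ} [Fact q.Prime] {V : Type*} [AddCommGroup V] [Module (ZMod q) V]
  {G : Type*} [Group G] [Fintype G] (ρ : G →* (V ≃ₗ[ZMod q] V))

/-- The fixed space of a subgroup. -/
def fixSub (M : Subgroup G) : Submodule (ZMod q) V where
  carrier := {v | ∀ m ∈ M, ρ m v = v}
  add_mem' := by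
    intro a b ha hb m hm
    rw [map_add, ha m hm, hb m hm]
  zero_mem' := by
    intro m _
    exact map_zero _
  smul_mem' := by
    intro c v hv m hm
    rw [map_smul, hv m hm]

theorem mem_fixSub (M : Subgroup G) (v : V) : v ∈ fixSub ρ M ↔ ∀ m ∈ M, ρ m v = v := Iff.rfl

/-- The trace map of a subgroup. -/
noncomputable def tr (M : Subgroup G) : V →ₗ[ZMod q] V :=
  ∑ g ∈ Finset.univ.filter (· ∈ M), ((ρ g : V ≃ₗ[ZMod q] V) : V →ₗ[ZMod q] V)

theorem tr_apply (M : Subgroup G) (v : V) :
    tr ρ M v = ∑ g ∈ Finset.univ.filter (· ∈ M), ρ g v := by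
  simp [tr, LinearMap.sum_apply]

theorem card_filter_mem (M : Subgroup G) :
    (Finset.univ.filter (· ∈ M)).card = Nat.card M := by
  rw [eq_comm]
  exact Nat.subtype_card _ (fun x => by simp)

theorem smul_tr (M : Subgroup G) {m0 : G} (hm0 : m0 ∈ M) (v : V) :
    ρ m0 (tr ρ M v) = tr ρ M v := by
  rw [tr_apply, map_sum]
  refine Finset.sum_equiv (Equiv.mulLeft m0) ?_ ?_
  · intro g
    simp [Subgroup.mul_mem_cancel_left M hm0]
  · intro g _
    simp [map_mul]

theorem tr_mem_fixSub (M : Subgroup G) (v : V) : tr ρ M v ∈ fixSub ρ M :=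
  fun _ hm => smul_tr ρ M hm v

theorem tr_of_mem_fixSub (M : Subgroup G) {v : V} (hv : v ∈ fixSub ρ M) :
    tr ρ M v = (Nat.card M) • v := by
  rw [tr_apply, ← card_filter_mem, ← Finset.sum_const]
  exact Finset.sum_congr rfl (fun g hg => hv g (Finset.mem_filter.mp hg).2)

/-- `tr M ∘ tr M' = tr N` when `N = M × M'`. -/
theorem tr_comp_tr (M M' N : Subgroup G) (hM : M ≤ N) (hM' : M' ≤ N)
    (hdisj : ∀ x ∈ M, x ∈ M' → x = 1) (hcard : Nat.card M * Nat.card M' = Nat.card N) (v : V) :
    tr ρ M (tr ρ M' v) = tr ρ N v := by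
  rw [tr_apply ρ M, tr_apply ρ N]
  have h1 : ∀ m : G, ρ m (tr ρ M' v) = ∑ m' ∈ Finset.univ.filter (· ∈ M'), ρ (m * m') v := by
    intro m
    rw [tr_apply, map_sum]
    exact Finset.sum_congr rfl (fun m' _ => by simp [map_mul])
  simp_rw [h1]
  rw [← Finset.sum_product' (Finset.univ.filter (· ∈ M)) (Finset.univ.filter (· ∈ M'))
    (fun m m' => ρ (m * m') v)]
  have hinj : Set.InjOn (fun x : G × G => x.1 * x.2)
      ((Finset.univ.filter (· ∈ M)) ×ˢ (Finset.univ.filter (· ∈ M')) : Finset (G × G)) := by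
    rintro ⟨a, b⟩ hab ⟨c, d⟩ hcd heq
    simp only [Finset.coe_product, Finset.coe_filter, Finset.mem_univ, true_and, Set.mem_prod,
      Set.mem_setOf_eq] at hab hcd
    have heq' : a * b = c * d := heq
    have h2 : c⁻¹ * a = d * b⁻¹ := by
      have : c⁻¹ * (a * b) * b⁻¹ = c⁻¹ * (c * d) * b⁻¹ := by rw [heq']
      calc c⁻¹ * a = c⁻¹ * (a * b) * b⁻¹ := by group
        _ = c⁻¹ * (c * d) * b⁻¹ := this
        _ = d * b⁻¹ := by group
    have h3 : c⁻¹ * a = 1 :=
      hdisj _ (M.mul_mem (M.inv_mem hcd.1) hab.1) (h2 ▸ M'.mul_mem hcd.2 (M'.inv_mem hab.2))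
    have hac : a = c := by
      have := inv_mul_eq_one.mp h3
      exact this.symm
    have hbd : b = d := by
      rw [hac] at heq'
      exact mul_left_cancel heq'
    rw [hac, hbd]
  have himg : Finset.image (fun x : G × G => x.1 * x.2)
      ((Finset.univ.filter (· ∈ M)) ×ˢ (Finset.univ.filter (· ∈ M'))) =
      Finset.univ.filter (· ∈ N) := by
    apply Finset.eq_of_subset_of_card_le
    · intro n hn
      obtain ⟨⟨a, b⟩, hab, rfl⟩ := Finset.mem_image.mp hn
      simp only [Finset.mem_product, Finset.mem_filter, Finset.mem_univ, true_and] at hab ⊢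
      exact N.mul_mem (hM hab.1) (hM' hab.2)
    · rw [Finset.card_image_of_injOn hinj, Finset.card_product, card_filter_mem, card_filter_mem,
        card_filter_mem, hcard]
  rw [← himg, Finset.sum_image hinj]

section elem

variable (p : ℕ) [hp : Fact p.Prime] (N : Subgroup G)

/-- The subgroups of order `p` of `N`. -/
noncomputable def lines : Finset (Subgroup G) :=
  Finset.univ.filter (fun M : Subgroup G => M ≤ N ∧ Nat.card M = p)

theorem mem_lines (M : Subgroup G) : M ∈ lines p N ↔ M ≤ N ∧ Nat.card M = p := by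
  simp [lines]

variable {p N}

theorem zpowers_mem_lines (hexp : ∀ x ∈ N, x ^ p = 1) {g : G} (hg : g ∈ N) (hg1 : g ≠ 1) :
    Subgroup.zpowers g ∈ lines p N := by
  rw [mem_lines]
  refine ⟨Subgroup.zpowers_le.mpr hg, ?_⟩
  rw [Nat.card_zpowers]
  exact orderOf_eq_prime (hexp g hg) hg1

theorem eq_zpowers_of_mem_lines {M : Subgroup G} (hM : M ∈ lines p N) {g : G} (hg : g ∈ M)
    (hg1 : g ≠ 1) : M = Subgroup.zpowers g := by
  rw [mem_lines] at hM
  have hle : Subgroup.zpowers g ≤ M := Subgroup.zpowers_le.mpr hg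
  have hgp : g ^ p = 1 := by
    have := pow_card_eq_one' (G := M) (x := ⟨g, hg⟩)
    rw [hM.2] at this
    have h2 := congrArg Subtype.val this
    simpa using h2
  have hc : Nat.card (Subgroup.zpowers g) = p := by
    rw [Nat.card_zpowers]
    exact orderOf_eq_prime hgp hg1
  haveI : Finite M := Nat.finite_of_card_ne_zero (by rw [hM.2]; exact hp.out.ne_zero)
  exact (Subgroup.eq_of_le_of_card_ge hle (by rw [hM.2, hc])).symm

theorem inter_lines {M M' : Subgroup G} (hM : M ∈ lines p N) (hM' : M' ∈ lines p N)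
    (hne : M ≠ M') : ∀ x ∈ M, x ∈ M' → x = 1 := by
  intro x hx hx'
  by_contra hx1
  exact hne ((eq_zpowers_of_mem_lines hM hx hx1).trans (eq_zpowers_of_mem_lines hM' hx' hx1).symm)

/-- The number of lines through `g`. -/
theorem card_lines_through (hexp : ∀ x ∈ N, x ^ p = 1) {g : G} (hg : g ∈ N) (hg1 : g ≠ 1) :
    ((lines p N).filter (fun M => g ∈ M)).card = 1 := by
  rw [Finset.card_eq_one]
  refine ⟨Subgroup.zpowers g, ?_⟩
  ext M
  simp only [Finset.mem_filter, Finset.mem_singleton]
  constructor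
  · rintro ⟨hM, hgM⟩
    exact eq_zpowers_of_mem_lines hM hgM hg1
  · rintro rfl
    exact ⟨zpowers_mem_lines hexp hg hg1, Subgroup.mem_zpowers g⟩

theorem card_lines_through_not_mem {g : G} (hg : g ∉ N) :
    ((lines p N).filter (fun M => g ∈ M)).card = 0 := by
  rw [Finset.card_eq_zero, Finset.filter_eq_empty_iff]
  intro M hM hgM
  exact hg (((mem_lines p N M).mp hM).1 hgM)

/-- There are `p + 1` lines in `N ≅ E_{p²}`. -/
theorem card_lines (hexp : ∀ x ∈ N, x ^ p = 1) (hcard : Nat.card N = p ^ 2) :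
    (lines p N).card = p + 1 := by
  have hdc := Finset.sum_card_bipartiteAbove_eq_sum_card_bipartiteBelow
    (fun (M : Subgroup G) (g : G) => g ∈ M) (s := lines p N)
    (t := Finset.univ.filter (fun g : G => g ∈ N ∧ g ≠ 1))
  have hL : ∀ M ∈ lines p N, (Finset.bipartiteAbove (fun (M : Subgroup G) (g : G) => g ∈ M)
      (Finset.univ.filter (fun g : G => g ∈ N ∧ g ≠ 1)) M).card = p - 1 := by
    intro M hM
    have hM' := (mem_lines p N M).mp hM
    have h1 : Finset.bipartiteAbove (fun (M : Subgroup G) (g : G) => g ∈ M)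
        (Finset.univ.filter (fun g : G => g ∈ N ∧ g ≠ 1)) M
        = (Finset.univ.filter (· ∈ M)).erase 1 := by
      ext g
      simp only [Finset.bipartiteAbove, Finset.mem_filter, Finset.mem_univ, true_and,
        Finset.mem_erase]
      constructor
      · rintro ⟨⟨_, h1⟩, hgM⟩
        exact ⟨h1, hgM⟩
      · rintro ⟨h1, hgM⟩
        exact ⟨⟨hM'.1 hgM, h1⟩, hgM⟩
    rw [h1, Finset.card_erase_of_mem (by simp [M.one_mem]), card_filter_mem, hM'.2]
  have hR : ∀ g ∈ Finset.univ.filter (fun g : G => g ∈ N ∧ g ≠ 1),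
      (Finset.bipartiteBelow (fun (M : Subgroup G) (g : G) => g ∈ M) (lines p N) g).card = 1 := by
    intro g hg
    simp only [Finset.mem_filter, Finset.mem_univ, true_and] at hg
    exact card_lines_through hexp hg.1 hg.2
  rw [Finset.sum_congr rfl hL, Finset.sum_congr rfl hR, Finset.sum_const, Finset.sum_const,
    smul_eq_mul, smul_eq_mul, mul_one] at hdc
  have ht : (Finset.univ.filter (fun g : G => g ∈ N ∧ g ≠ 1)).card = p ^ 2 - 1 := by
    have h1 : Finset.univ.filter (fun g : G => g ∈ N ∧ g ≠ 1)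
        = (Finset.univ.filter (· ∈ N)).erase 1 := by
      ext g
      simp only [Finset.mem_filter, Finset.mem_univ, true_and, Finset.mem_erase]
      tauto
    rw [h1, Finset.card_erase_of_mem (by simp [N.one_mem]), card_filter_mem, hcard]
  rw [ht] at hdc
  have hp1 : 1 ≤ p := hp.out.one_le
  have h2 : p ^ 2 - 1 = (p + 1) * (p - 1) := by
    obtain ⟨k, rfl⟩ : ∃ k, p = k + 1 := ⟨p - 1, by omega⟩
    simp only [Nat.add_sub_cancel]
    have : (k + 1) ^ 2 = (k + 1 + 1) * k + 1 := by ring
    omega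
  rw [h2] at hdc
  have hpos : 0 < p - 1 := by
    have := hp.out.two_le
    omega
  exact Nat.eq_of_mul_eq_mul_right hpos hdc

/-- The trace identity `Σ_M tr M = p + tr N`. -/
theorem sum_tr_lines (hexp : ∀ x ∈ N, x ^ p = 1) (hcard : Nat.card N = p ^ 2) (v : V) :
    ∑ M ∈ lines p N, tr ρ M v = p • v + tr ρ N v := by
  have h1 : ∀ M : Subgroup G, tr ρ M v = ∑ g : G, if g ∈ M then ρ g v else 0 := by
    intro M
    rw [tr_apply, Finset.sum_filter]
  simp_rw [h1]
  rw [Finset.sum_comm]
  have h2 : ∀ g : G, (∑ M ∈ lines p N, if g ∈ M then ρ g v else 0)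
      = (if g = 1 then p • v else 0) + (if g ∈ N then ρ g v else 0) := by
    intro g
    rw [← Finset.sum_filter, Finset.sum_const]
    by_cases hg1 : g = 1
    · subst hg1
      have : (lines p N).filter (fun M => (1 : G) ∈ M) = lines p N := by
        apply Finset.filter_true_of_mem
        intro M _
        exact M.one_mem
      rw [this, card_lines hexp hcard]
      simp [N.one_mem, add_smul]
    · by_cases hgN : g ∈ N
      · rw [card_lines_through hexp hgN hg1]
        simp [hg1, hgN]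
      · rw [card_lines_through_not_mem hgN]
        simp [hg1, hgN]
  simp_rw [h2]
  rw [Finset.sum_add_distrib, Finset.sum_ite_eq' Finset.univ (1 : G) (fun _ => p • v)]
  simp

end elem

end Cfsg.Agent.Lib.Helper20.PImprim
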