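import Mathlib
import Cfsg.Agent.Lib.Helper20.PImprim1

set_option autoImplicit false

/-!
# Conjugation action on subgroups and fixed spaces
-/

namespace Cfsg.Agent.Lib.Helper20.PImprim

open Classical

variable {q : ℕ} [Fact q.Prime] {V : Type*} [AddCommGroup V] [Module (ZMod q) V]
  {G : Type*} [Group G] (ρ : G →* (V ≃ₗ[ZMod q] V))

/-- Conjugate of a subgroup. -/
def cj (g : G) (M : Subgroup G) : Subgroup G := M.map (MulAut.conj g).toMonoidHom

theorem mem_cj (g : G) (M : Subgroup G) (x : G) : x ∈ cj g M ↔ g⁻¹ * x * g ∈ M := by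
  unfold cj
  constructor
  · rintro ⟨m, hm, rfl⟩
    have : g⁻¹ * ((MulAut.conj g).toMonoidHom m) * g = m := by
      simp [MulAut.conj_apply, mul_assoc]
    rw [this]
    exact hm
  · intro h
    refine ⟨g⁻¹ * x * g, h, ?_⟩
    simp [MulAut.conj_apply, mul_assoc]

theorem cj_one (M : Subgroup G) : cj 1 M = M := by
  ext x
  rw [mem_cj]
  simp

theorem cj_mul (g h : G) (M : Subgroup G) : cj (g * h) M = cj g (cj h M) := by
  ext x
  rw [mem_cj, mem_cj, mem_cj]
  have : (g * h)⁻¹ * x * (g * h) = h⁻¹ * (g⁻¹ * x * g) * h := by group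
  rw [this]

theorem card_cj (g : G) (M : Subgroup G) : Nat.card (cj g M) = Nat.card M := by
  unfold cj
  exact (Nat.card_congr (M.equivMapOfInjective _ (MulAut.conj g).injective).toEquiv).symm

theorem cj_le_normal (g : G) {M N : Subgroup G} [hN : N.Normal] (h : M ≤ N) : cj g M ≤ N := by
  intro x hx
  rw [mem_cj] at hx
  have h1 := hN.conj_mem _ (h hx) g
  have h2 : g * (g⁻¹ * x * g) * g⁻¹ = x := by group
  rwa [h2] at h1

/-- The conjugation action on subgroups. -/
def cjAction : MulAction G (Subgroup G) where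
  smul := cj
  one_smul := cj_one
  mul_smul := cj_mul

theorem fixSub_cj [Fintype G] (g : G) (M : Subgroup G) :
    fixSub ρ (cj g M) = (fixSub ρ M).map ((ρ g : V ≃ₗ[ZMod q] V) : V →ₗ[ZMod q] V) := by
  ext v
  rw [Submodule.mem_map]
  constructor
  · intro hv
    refine ⟨ρ g⁻¹ v, ?_, ?_⟩
    · intro m hm
      have hmem : g * m * g⁻¹ ∈ cj g M := by
        rw [mem_cj]
        have : g⁻¹ * (g * m * g⁻¹) * g = m := by group
        rw [this]
        exact hm
      have h1 := hv _ hmem
      have h2 : ρ m (ρ g⁻¹ v) = ρ g⁻¹ (ρ (g * m * g⁻¹) v) := by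
        rw [← LinearEquiv.mul_apply, ← LinearEquiv.mul_apply, ← map_mul, ← map_mul]
        congr 2
        group
      rw [h2, h1]
    · change ρ g (ρ g⁻¹ v) = v
      rw [← LinearEquiv.mul_apply, ← map_mul, mul_inv_cancel, map_one]
      rfl
  · rintro ⟨w, hw, rfl⟩
    intro x hx
    rw [mem_cj] at hx
    have h1 := hw _ hx
    change ρ x (ρ g w) = ρ g w
    have h2 : ρ x (ρ g w) = ρ g (ρ (g⁻¹ * x * g) w) := by
      rw [← LinearEquiv.mul_apply, ← LinearEquiv.mul_apply, ← map_mul, ← map_mul]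
      congr 2
      group
    rw [h2, h1]

end Cfsg.Agent.Lib.Helper20.PImprim
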