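import Mathlib
import Cfsg.Agent.Lib.Helper20.PImprim2
import Cfsg.Agent.Lib.Helper14.PGroupFixed

set_option autoImplicit false

/-!
# A faithful irreducible `p`-group with a normal `E_{p²}` is imprimitive
-/

namespace Cfsg.Agent.Lib.Helper20.PImprim

open Classical

theorem cj_normal {G : Type*} [Group G] (g : G) (N : Subgroup G) [hN : N.Normal] : cj g N = N := by
  ext x
  rw [mem_cj]
  constructor
  · intro h
    have h1 := hN.conj_mem _ h g
    have h2 : g * (g⁻¹ * x * g) * g⁻¹ = x := by group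
    rwa [h2] at h1
  · intro h
    have h1 := hN.conj_mem _ h g⁻¹
    rwa [inv_inv] at h1

theorem imprimitive
    (q : ℕ) [hq : Fact q.Prime] {V : Type*} [AddCommGroup V] [Module (ZMod q) V] [Finite V]
    [Nontrivial V] {G : Type*} [Group G] [Finite G] (p : ℕ) [hp : Fact p.Prime]
    (hG : IsPGroup p G) (ρ : G →* (V ≃ₗ[ZMod q] V)) (hρ : Function.Injective ρ)
    (hirr : ∀ W : Submodule (ZMod q) V, (∀ g : G, ∀ w ∈ W, ρ g w ∈ W) → W = ⊥ ∨ W = ⊤)
    (N : Subgroup G) (hNn : N.Normal) (hNc : ∀ a ∈ N, ∀ b ∈ N, a * b = b * a)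
    (hexp : ∀ x ∈ N, x ^ p = 1) (hcard : Nat.card N = p ^ 2) :
    ∃ (H : Subgroup G) (W : Fin p → Submodule (ZMod q) V), H.index = p ∧
      iSup W = ⊤ ∧ iSupIndep W ∧
      (∀ h ∈ H, ∀ i, ∀ w ∈ W i, ρ h w ∈ W i) ∧
      (∀ i, ∃ h ∈ H, h ≠ 1 ∧ ∀ w ∈ W i, ρ h w = w) ∧
      ∀ g : G, g ∉ H → ∃ σ : Equiv.Perm (Fin p), orderOf σ = p ∧
        ∀ i, (W i).map (ρ g : V →ₗ[ZMod q] V) = W (σ i) := by
  haveI := Fintype.ofFinite G
  haveI := hNn
  have hp2 : 2 ≤ p := hp.out.two_le
  have hNne : ∃ n ∈ N, n ≠ 1 := by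
    by_contra hcon
    push Not at hcon
    have : N = ⊥ := (Subgroup.eq_bot_iff_forall _).mpr hcon
    rw [this, Subgroup.card_bot] at hcard
    have : 1 < p ^ 2 := Nat.one_lt_pow (by norm_num) hp.out.one_lt
    omega
  -- a subgroup acting trivially is trivial
  have htriv : ∀ M : Subgroup G, fixSub ρ M = ⊤ → ∀ m ∈ M, m = 1 := by
    intro M h m hm
    apply hρ
    rw [map_one]
    ext w
    have hw : w ∈ fixSub ρ M := h ▸ Submodule.mem_top
    exact hw m hm
  -- `p ≠ q`
  have hpq : p ≠ q := by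
    intro h
    haveI : CharP (ZMod q) p := h ▸ ZMod.charP q
    let ρ' : Representation (ZMod q) G V :=
      (LinearEquiv.automorphismGroup.toLinearMapMonoidHom).comp ρ
    obtain ⟨v, hv0, hv⟩ := Cfsg.Agent.Lib.Helper14.exists_ne_zero_fixed_of_isPGroup p hG ρ'
    have hinv : ∀ g : G, ∀ w ∈ fixSub ρ (⊤ : Subgroup G), ρ g w ∈ fixSub ρ (⊤ : Subgroup G) := by
      intro g w hw
      rw [hw g trivial]
      exact hw
    have hvmem : v ∈ fixSub ρ (⊤ : Subgroup G) := fun g _ => hv g
    rcases hirr _ hinv with h' | h'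
    · rw [h'] at hvmem
      exact hv0 ((Submodule.mem_bot _).mp hvmem)
    · obtain ⟨n, hn, hn1⟩ := hNne
      exact hn1 (htriv ⊤ h' n trivial)
  have hpinv : ∀ v : V, p • v = 0 → v = 0 := by
    intro v hv
    rw [← Nat.cast_smul_eq_nsmul (ZMod q)] at hv
    rcases smul_eq_zero.mp hv with h | h
    · exfalso
      rw [ZMod.natCast_eq_zero_iff] at h
      exact hpq ((Nat.prime_dvd_prime_iff_eq hq.out hp.out).mp h).symm
    · exact h
  -- `C_V(N) = 0`
  have hfixN : fixSub ρ N = ⊥ := by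
    have hinv : ∀ g : G, ∀ w ∈ fixSub ρ N, ρ g w ∈ fixSub ρ N := by
      intro g w hw
      have h1 : fixSub ρ (cj g N) = fixSub ρ N := by rw [cj_normal]
      rw [← h1, fixSub_cj]
      exact Submodule.mem_map_of_mem hw
    rcases hirr _ hinv with h | h
    · exact h
    · exfalso
      obtain ⟨n, hn, hn1⟩ := hNne
      exact hn1 (htriv N h n hn)
  have htrN : ∀ v, tr ρ N v = 0 := fun v => by
    have := tr_mem_fixSub ρ N v
    rw [hfixN] at this
    exact (Submodule.mem_bot _).mp this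
  -- a line with a nonzero fixed vector
  obtain ⟨M₀, hM₀, hM₀ne⟩ : ∃ M₀ ∈ lines p N, fixSub ρ M₀ ≠ ⊥ := by
    by_contra hcon
    push Not at hcon
    obtain ⟨v, hv⟩ := exists_ne (0 : V)
    have h1 := sum_tr_lines ρ hexp hcard v
    rw [htrN, add_zero] at h1
    have h2 : ∑ M ∈ lines p N, tr ρ M v = 0 := Finset.sum_eq_zero (fun M hM => by
      have := tr_mem_fixSub ρ M v
      rw [hcon M hM] at this
      exact (Submodule.mem_bot _).mp this)
    rw [h2] at h1
    exact hv (hpinv v h1.symm)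
  -- orthogonality of distinct lines
  have horth : ∀ M ∈ lines p N, ∀ M' ∈ lines p N, M ≠ M' → ∀ w ∈ fixSub ρ M', tr ρ M w = 0 := by
    intro M hM M' hM' hne w hw
    have hMl := (mem_lines p N M).mp hM
    have hMl' := (mem_lines p N M').mp hM'
    have h1 := tr_comp_tr ρ M M' N hMl.1 hMl'.1 (inter_lines hM hM' hne)
      (by rw [hMl.2, hMl'.2, hcard, pow_two]) w
    rw [tr_of_mem_fixSub ρ M' hw, hMl'.2, map_nsmul, htrN] at h1
    exact hpinv _ h1
  -- the conjugation action
  letI := cjAction (G := G)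
  have hsmul : ∀ (g : G) (M : Subgroup G), g • M = cj g M := fun _ _ => rfl
  have hOmem : ∀ M ∈ MulAction.orbit G M₀, ∀ g : G, cj g M ∈ MulAction.orbit G M₀ := by
    rintro M ⟨h, rfl⟩ g
    refine ⟨g * h, ?_⟩
    change (g * h) • M₀ = cj g (h • M₀)
    rw [hsmul, hsmul, cj_mul]
  have hM₀O : M₀ ∈ MulAction.orbit G M₀ := MulAction.mem_orbit_self M₀
  have hO_lines : ∀ M ∈ MulAction.orbit G M₀, M ∈ lines p N := by
    rintro M ⟨g, rfl⟩
    change g • M₀ ∈ lines p N
    rw [hsmul, mem_lines]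
    rw [mem_lines] at hM₀
    exact ⟨cj_le_normal g hM₀.1, by rw [card_cj]; exact hM₀.2⟩
  -- spanning
  have hS : (⨆ M : MulAction.orbit G M₀, fixSub ρ M.1) = ⊤ := by
    have hinv : ∀ g : G, ∀ w ∈ (⨆ M : MulAction.orbit G M₀, fixSub ρ M.1),
        ρ g w ∈ (⨆ M : MulAction.orbit G M₀, fixSub ρ M.1) := by
      intro g w hw
      have hle : (⨆ M : MulAction.orbit G M₀, fixSub ρ M.1) ≤
          (⨆ M : MulAction.orbit G M₀, fixSub ρ M.1).comap
            ((ρ g : V ≃ₗ[ZMod q] V) : V →ₗ[ZMod q] V) := by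
        apply iSup_le
        intro M w' hw'
        rw [Submodule.mem_comap]
        have h1 : ρ g w' ∈ fixSub ρ (cj g M.1) := by
          rw [fixSub_cj]
          exact Submodule.mem_map_of_mem hw'
        exact Submodule.mem_iSup_of_mem (⟨cj g M.1, hOmem M.1 M.2 g⟩ : MulAction.orbit G M₀) h1
      exact hle hw
    rcases hirr _ hinv with h | h
    · exfalso
      apply hM₀ne
      rw [eq_bot_iff, ← h]
      exact le_iSup (fun M : MulAction.orbit G M₀ => fixSub ρ M.1) ⟨M₀, hM₀O⟩
    · exact h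
  -- the size of the orbit
  have hidx := MulAction.index_stabilizer G M₀
  obtain ⟨k, hk⟩ := hG.index (MulAction.stabilizer G M₀)
  have hOle : (MulAction.orbit G M₀).ncard ≤ p + 1 := by
    rw [← card_lines hexp hcard, ← Set.ncard_coe_finset]
    exact Set.ncard_le_ncard (fun M hM => hO_lines M hM) (Finset.finite_toSet _)
  have hOne : (MulAction.orbit G M₀).ncard ≠ 1 := by
    intro h1
    obtain ⟨M1, hM1⟩ := Set.ncard_eq_one.mp h1
    have hall : ∀ M : MulAction.orbit G M₀, M.1 = M₀ := by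
      intro M
      have h2 : M.1 ∈ ({M1} : Set (Subgroup G)) := hM1 ▸ M.2
      have h3 : M₀ ∈ ({M1} : Set (Subgroup G)) := hM1 ▸ hM₀O
      rw [Set.mem_singleton_iff] at h2 h3
      rw [h2, h3]
    have htop : fixSub ρ M₀ = ⊤ := by
      rw [eq_top_iff, ← hS]
      apply iSup_le
      intro M
      rw [hall M]
    have hM₀l := (mem_lines p N M₀).mp hM₀
    have hbot : M₀ = ⊥ := (Subgroup.eq_bot_iff_forall _).mpr (htriv M₀ htop)
    rw [hbot, Subgroup.card_bot] at hM₀l
    omega
  have hk1 : k = 1 := by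
    rw [hidx] at hk
    rw [hk] at hOle hOne
    have hk0 : k ≠ 0 := by
      intro h0
      rw [h0, pow_zero] at hOne
      exact hOne rfl
    by_contra hne
    have hk2 : 2 ≤ k := by omega
    have h1 : p ^ 2 ≤ p ^ k := Nat.pow_le_pow_right hp.out.pos hk2
    nlinarith
  rw [hk1, pow_one] at hk
  have hOcard : (MulAction.orbit G M₀).ncard = p := by rw [← hidx, hk]
  -- the stabilizer
  have hHn : (MulAction.stabilizer G M₀).Normal := by
    apply Subgroup.normal_of_index_eq_minFac_card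
    rw [hk]
    obtain ⟨n, hn⟩ := hG.exists_card_eq
    have hn0 : n ≠ 0 := by
      intro h0
      have h1 := Subgroup.index_dvd_card (MulAction.stabilizer G M₀)
      rw [hk, hn, h0, pow_zero] at h1
      have := Nat.le_of_dvd one_pos h1
      omega
    rw [hn, hp.out.pow_minFac hn0]
  have hHfix : ∀ h ∈ MulAction.stabilizer G M₀, ∀ M ∈ MulAction.orbit G M₀, cj h M = M := by
    rintro h hh M ⟨g, rfl⟩
    change cj h (g • M₀) = g • M₀
    rw [hsmul, ← cj_mul]
    have h1 : h * g = g * (g⁻¹ * h * g) := by group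
    rw [h1, cj_mul]
    congr 1
    have h2 := hHn.conj_mem h hh g⁻¹
    rw [inv_inv] at h2
    exact MulAction.mem_stabilizer_iff.mp h2
  have hNH : N ≤ MulAction.stabilizer G M₀ := by
    intro n hn
    rw [MulAction.mem_stabilizer_iff, hsmul]
    have hM₀l := (mem_lines p N M₀).mp hM₀
    ext x
    rw [mem_cj]
    constructor
    · intro hx
      have hxN : x ∈ N := by
        have h1 := hNn.conj_mem _ (hM₀l.1 hx) n
        have h2 : n * (n⁻¹ * x * n) * n⁻¹ = x := by group
        rwa [h2] at h1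
      have h3 : n⁻¹ * x * n = x := by
        rw [mul_assoc, hNc x hxN n hn, ← mul_assoc, inv_mul_cancel, one_mul]
      rwa [h3] at hx
    · intro hx
      have hxN : x ∈ N := hM₀l.1 hx
      have h3 : n⁻¹ * x * n = x := by
        rw [mul_assoc, hNc x hxN n hn, ← mul_assoc, inv_mul_cancel, one_mul]
      rwa [h3]
  -- indexing by `Fin p`
  haveI : Fintype (MulAction.orbit G M₀) := Fintype.ofFinite _
  have hcardO : Fintype.card (MulAction.orbit G M₀) = p := by
    rw [← Nat.card_eq_fintype_card, Nat.card_coe_set_eq, hOcard]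
  let e : MulAction.orbit G M₀ ≃ Fin p := Fintype.equivFinOfCardEq hcardO
  refine ⟨MulAction.stabilizer G M₀, fun i => fixSub ρ (e.symm i).1, hk, ?_, ?_, ?_, ?_, ?_⟩
  · rw [← hS]
    exact e.symm.surjective.iSup_comp (fun M : MulAction.orbit G M₀ => fixSub ρ M.1)
  · rw [iSupIndep_def]
    intro i
    rw [Submodule.disjoint_def]
    intro x hx hx'
    have hMi := hO_lines _ (e.symm i).2
    have hle : (⨆ j, ⨆ (_ : j ≠ i), fixSub ρ (e.symm j).1) ≤
        LinearMap.ker (tr ρ (e.symm i).1) := by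
      apply iSup₂_le
      intro j hj w hw
      rw [LinearMap.mem_ker]
      have hMj := hO_lines _ (e.symm j).2
      have hne : (e.symm i).1 ≠ (e.symm j).1 := by
        intro h
        exact hj (e.symm.injective (Subtype.ext h)).symm
      exact horth _ hMi _ hMj hne w hw
    have h1 := LinearMap.mem_ker.mp (hle hx')
    rw [tr_of_mem_fixSub ρ _ hx, ((mem_lines p N _).mp hMi).2] at h1
    exact hpinv x h1
  · intro h hh i w hw
    have h1 : ρ h w ∈ fixSub ρ (cj h (e.symm i).1) := by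
      rw [fixSub_cj]
      exact Submodule.mem_map_of_mem hw
    rwa [hHfix h hh _ (e.symm i).2] at h1
  · intro i
    have hMi := (mem_lines p N _).mp (hO_lines _ (e.symm i).2)
    have hne : (e.symm i).1 ≠ ⊥ := by
      intro h
      rw [h, Subgroup.card_bot] at hMi
      omega
    obtain ⟨m, hm1⟩ := (Subgroup.ne_bot_iff_exists_ne_one.mp hne)
    exact ⟨m.1, hNH (hMi.1 m.2), fun h => hm1 (Subtype.ext h), fun w hw => hw m.1 m.2⟩
  · intro g hg
    let τ : Equiv.Perm (MulAction.orbit G M₀) :=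
      { toFun := fun M => ⟨cj g M.1, hOmem M.1 M.2 g⟩
        invFun := fun M => ⟨cj g⁻¹ M.1, hOmem M.1 M.2 g⁻¹⟩
        left_inv := by
          intro M
          apply Subtype.ext
          change cj g⁻¹ (cj g M.1) = M.1
          rw [← cj_mul, inv_mul_cancel, cj_one]
        right_inv := by
          intro M
          apply Subtype.ext
          change cj g (cj g⁻¹ M.1) = M.1
          rw [← cj_mul, mul_inv_cancel, cj_one] }
    have hτpow : ∀ (n : ℕ) (M : MulAction.orbit G M₀), ((τ ^ n) M).1 = cj (g ^ n) M.1 := by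
      intro n
      induction n with
      | zero => intro M; simp [cj_one]
      | succ n ih =>
        intro M
        rw [pow_succ', Equiv.Perm.mul_apply, pow_succ', cj_mul, ← ih M]
        rfl
    have hτp : τ ^ p = 1 := by
      ext M
      rw [Equiv.Perm.one_apply]
      have h1 : g ^ p ∈ MulAction.stabilizer G M₀ := by
        have := (MulAction.stabilizer G M₀).pow_index_mem g
        rwa [hk] at this
      rw [hτpow p M, hHfix _ h1 _ M.2]
    have hτ1 : τ ≠ 1 := by
      intro h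
      apply hg
      rw [MulAction.mem_stabilizer_iff, hsmul]
      have h2 := congrArg (fun f : Equiv.Perm (MulAction.orbit G M₀) => (f ⟨M₀, hM₀O⟩).1) h
      exact h2
    have hord : orderOf τ = p := orderOf_eq_prime hτp hτ1
    refine ⟨e.permCongrHom τ, ?_, ?_⟩
    · rw [MulEquiv.orderOf_eq, hord]
    · intro i
      rw [← fixSub_cj]
      have h1 : e.symm ((e.permCongrHom τ) i) = τ (e.symm i) := by
        simp [Equiv.permCongrHom]
      change fixSub ρ (cj g (e.symm i).1) = fixSub ρ (e.symm ((e.permCongrHom τ) i)).1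
      rw [h1]
      rfl

end Cfsg.Agent.Lib.Helper20.PImprim
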