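import Mathlib
import Cfsg.Agent.Lib.Helper1.Coprime
import Cfsg.Agent.Lib.Helper1.NormalPComplement
import Cfsg.Agent.Lib.Helper12.PComplement

set_option autoImplicit false
open Pointwise

namespace Cfsg.Agent.Lib.Helper20

open Cfsg.Agent.Lib.Helper1

/-- A conjugate of a complement of a normal subgroup `Q` inside a normal subgroup `L`. -/
theorem isComplIn_conj_smul {X : Type*} [Group X] {Q K L : Subgroup X} [hQn : Q.Normal]
    [hLn : L.Normal] (hK : Helper1.IsComplIn Q K L) (h : X) :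
    Helper1.IsComplIn Q (MulAut.conj h • K) L := by
  obtain ⟨hQL, hKL, hdisj, hprod⟩ := hK
  refine ⟨hQL, ?_, ?_, ?_⟩
  · intro x hx
    rw [mem_conj_smul_iff] at hx
    have := hLn.conj_mem _ (hKL hx) h
    simpa [mul_assoc] using this
  · rw [Subgroup.disjoint_def]
    intro x hxQ hxK
    rw [mem_conj_smul_iff] at hxK
    have h1 : h⁻¹ * x * h ∈ Q := by
      have := hQn.conj_mem x hxQ h⁻¹
      simpa using this
    have h2 := Subgroup.disjoint_def.mp hdisj h1 hxK
    calc x = h * (h⁻¹ * x * h) * h⁻¹ := by group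
      _ = 1 := by rw [h2]; group
  · intro γ hγ
    have h1 : h⁻¹ * γ * h ∈ L := by
      have := hLn.conj_mem γ hγ h⁻¹
      simpa using this
    obtain ⟨q, hq, k, hk, hqk⟩ := hprod _ h1
    refine ⟨h * q * h⁻¹, hQn.conj_mem q hq h, h * k * h⁻¹, ?_, ?_⟩
    · rw [mem_conj_smul_iff]
      have : h⁻¹ * (h * k * h⁻¹) * h = k := by group
      rw [this]; exact hk
    · calc h * q * h⁻¹ * (h * k * h⁻¹) = h * (q * k) * h⁻¹ := by group
        _ = γ := by rw [hqk]; group

/-- Lifting a normal `p`-complement through a normal subgroup `Q` of `X` contained in the Frattini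
subgroup of a Sylow `p`-subgroup `P` (given in non-generator form), when `N_X(P)` centralizes
`P/Q`. -/
theorem hasNormalPComplement_of_frattini_quotient {X : Type*} [Group X] [Finite X] {p : ℕ}
    [Fact p.Prime] (P : Sylow p X) (Q : Subgroup X) [hQn : Q.Normal]
    (hQP : Q ≤ (P : Subgroup X))
    (hfr : ∀ T : Subgroup X, T ≤ (P : Subgroup X) →
      (∀ x ∈ (P : Subgroup X), ∃ q ∈ Q, ∃ t ∈ T, x = q * t) → (P : Subgroup X) ≤ T)
    (hNP : ∀ n ∈ Subgroup.normalizer ((P : Subgroup X) : Set X), ∀ y ∈ (P : Subgroup X),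
      n * y * n⁻¹ * y⁻¹ ∈ Q) :
    Cfsg.HasNormalPComplement p X := by
  classical
  have hp : p.Prime := Fact.out
  set π := QuotientGroup.mk' Q with hπ
  have hsurj : Function.Surjective π := QuotientGroup.mk'_surjective Q
  have hker : π.ker = Q := QuotientGroup.ker_mk' Q
  -- (1) Burnside in the quotient
  set Pbar : Sylow p (X ⧸ Q) := P.mapSurjective hsurj with hPbar
  have hPbar_coe : (Pbar : Subgroup (X ⧸ Q)) = (P : Subgroup X).map π := rfl
  have hNC : Subgroup.normalizer ((Pbar : Subgroup (X ⧸ Q)) : Set (X ⧸ Q)) ≤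
      Subgroup.centralizer ((Pbar : Subgroup (X ⧸ Q)) : Set (X ⧸ Q)) := by
    intro nbar hnbar
    obtain ⟨n, rfl⟩ := hsurj nbar
    have hnP : n ∈ Subgroup.normalizer ((P : Subgroup X) : Set X) := by
      apply mem_normalizer_of_forall_conj_mem
      intro y hy
      have h1 : π (n * y * n⁻¹) ∈ (Pbar : Subgroup (X ⧸ Q)) := by
        rw [map_mul, map_mul, map_inv]
        exact (Subgroup.mem_normalizer_iff.mp hnbar (π y)).mp
          (by rw [hPbar_coe]; exact Subgroup.mem_map_of_mem π hy)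
      have h2 : n * y * n⁻¹ ∈ ((P : Subgroup X).map π).comap π := h1
      rw [Subgroup.comap_map_eq, hker, sup_of_le_left hQP] at h2
      exact h2
    rw [Subgroup.mem_centralizer_iff]
    intro ybar hybar
    rw [SetLike.mem_coe, hPbar_coe] at hybar
    obtain ⟨y, hy, rfl⟩ := Subgroup.mem_map.mp hybar
    have h3 := hNP n hnP y hy
    have h4 : π (n * y * n⁻¹ * y⁻¹) = 1 := by
      rw [← MonoidHom.mem_ker, hker]; exact h3
    rw [map_mul, map_mul, map_mul, map_inv, map_inv] at h4
    calc π y * π n = (π n * π y * (π n)⁻¹ * (π y)⁻¹)⁻¹ * (π n * π y) := by group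
      _ = π n * π y := by rw [h4]; simp
  obtain ⟨P', Lbar, hLn, hLc⟩ := hasNormalPComplement_of_normalizer_le_centralizer Pbar hNC
  -- (2) the preimage
  set L : Subgroup X := Lbar.comap π with hL
  haveI hLnorm : L.Normal := hLn.comap π
  have hQL : Q ≤ L := by
    rw [← hker]; exact MonoidHom.ker_le_comap π Lbar
  have hLmap : L.map π = Lbar := Subgroup.map_comap_eq_self_of_surjective hsurj Lbar
  have hrel : Q.relIndex L = Nat.card Lbar := by
    have h1 : (⊥ : Subgroup (X ⧸ Q)).comap π = Q := by rw [MonoidHom.comap_bot, hker]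
    calc Q.relIndex L = ((⊥ : Subgroup (X ⧸ Q)).comap π).relIndex L := by rw [h1]
      _ = Nat.card Lbar := by
        rw [Subgroup.relIndex_comap, hLmap, Subgroup.relIndex_bot_left]
  have hLbarcop : (Nat.card Lbar).Coprime p := by
    rw [← hLc.index_eq_card]
    exact ((Nat.Prime.coprime_iff_not_dvd hp).mpr P'.not_dvd_index).symm
  have hQp : IsPGroup p Q := P.2.to_le hQP
  obtain ⟨c, hc⟩ := IsPGroup.iff_card.mp hQp
  have hcop : Nat.Coprime (Nat.card Q) (Q.relIndex L) := by
    rw [hc, hrel]; exact (Nat.Coprime.pow_right c hLbarcop).symm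
  have hLQnorm : L ≤ Subgroup.normalizer (Q : Set X) := by
    rw [Subgroup.normalizer_eq_top_iff.mpr hQn]; exact le_top
  -- (3) Schur–Zassenhaus
  obtain ⟨K, hK⟩ := internal_sz_exists hQL hLQnorm hcop
  have hKcard : Nat.card K = Nat.card Lbar := by
    have h1 := hK.card_mul_card
    have h2 : Nat.card Q * Q.relIndex L = Nat.card L := by
      have := Subgroup.relIndex_mul_relIndex ⊥ Q L bot_le hQL
      rw [Subgroup.relIndex_bot_left, Subgroup.relIndex_bot_left] at this
      exact this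
    rw [← h2, hrel] at h1
    exact Nat.eq_of_mul_eq_mul_left Nat.card_pos h1
  have hcopK : Nat.Coprime (Nat.card Q) (Nat.card K) := by
    rw [hKcard, hc]; exact (Nat.Coprime.pow_right c hLbarcop).symm
  have hQsolv : Group.IsSolvable Q := by
    haveI := hQp.isNilpotent
    infer_instance
  -- (4) Frattini argument
  have hfrat : ∀ h : X, ∃ q ∈ Q, q * h ∈ Subgroup.normalizer (K : Set X) := by
    intro h
    obtain ⟨q, hq, hqK⟩ := internal_sz_conj hLQnorm hK (isComplIn_conj_smul hK h) hcopK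
      (Or.inl hQsolv)
    refine ⟨q, hq, ?_⟩
    rw [Subgroup.mem_normalizer_iff_map_conj_eq]
    have : K.map (MulAut.conj (q * h)).toMonoidHom = MulAut.conj (q * h) • K := rfl
    rw [show (K.map (MulAut.conj (q * h) : X →* X)) = MulAut.conj (q * h) • K from rfl,
      map_mul, mul_smul]
    exact hqK
  -- (5) P normalizes K
  have hPK : (P : Subgroup X) ≤ Subgroup.normalizer (K : Set X) := by
    have h1 := hfr ((P : Subgroup X) ⊓ Subgroup.normalizer (K : Set X)) inf_le_left ?_
    · exact h1.trans inf_le_right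
    · intro x hx
      obtain ⟨q, hq, hqx⟩ := hfrat x
      refine ⟨q⁻¹, Q.inv_mem hq, q * x, ?_, by group⟩
      exact Subgroup.mem_inf.mpr ⟨Subgroup.mul_mem _ (hQP hq) hx, hqx⟩
  -- (6) Q centralizes K
  have hQK : ∀ q ∈ Q, ∀ k ∈ K, q * k = k * q := by
    intro q hq k hk
    have h1 : q * k * q⁻¹ * k⁻¹ ∈ K :=
      K.mul_mem ((Subgroup.mem_normalizer_iff.mp (hPK (hQP hq)) k).mp hk) (K.inv_mem hk)
    have h2 : q * k * q⁻¹ * k⁻¹ ∈ Q := by
      have : q * (k * q⁻¹ * k⁻¹) ∈ Q := Q.mul_mem hq (hQn.conj_mem _ (Q.inv_mem hq) k)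
      simpa [mul_assoc] using this
    have h3 : q * k * q⁻¹ * k⁻¹ = 1 := Subgroup.disjoint_def.mp hK.2.2.1 h2 h1
    calc q * k = (q * k * q⁻¹ * k⁻¹) * (k * q) := by group
      _ = k * q := by rw [h3, one_mul]
  -- (7) K is normal
  have hKn : K.Normal := by
    rw [← Subgroup.normalizer_eq_top_iff, eq_top_iff]
    intro h _
    obtain ⟨q, hq, hqh⟩ := hfrat h
    have hqN : q ∈ Subgroup.normalizer (K : Set X) := hPK (hQP hq)
    have : h = q⁻¹ * (q * h) := by group
    rw [this]
    exact Subgroup.mul_mem _ (Subgroup.inv_mem _ hqN) hqh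
  -- (8) index
  obtain ⟨b, hb⟩ := IsPGroup.iff_card.mp P'.2
  have hidx : K.index = p ^ (b + c) := by
    have h1 : Nat.card K * K.index = Nat.card X := K.card_mul_index
    have h2 : Nat.card X = Nat.card (X ⧸ Q) * Nat.card Q :=
      Subgroup.card_eq_card_quotient_mul_card_subgroup Q
    have h3 : Nat.card (X ⧸ Q) = Nat.card Lbar * Nat.card P' := hLc.card_mul_card.symm
    rw [h2, h3, hb, hc, hKcard, mul_assoc, ← pow_add] at h1
    exact Nat.eq_of_mul_eq_mul_left Nat.card_pos h1
  exact Cfsg.Agent.Lib.Helper12.hasNormalPComplement_of_normal K hKn (by rw [hKcard]; exact hLbarcop)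
    (b + c) hidx

end Cfsg.Agent.Lib.Helper20
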