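import Mathlib

/-!
Helper lemmas (helper20): counting subgroups of order `p` in a group of order `p ^ 2` and exponent `p`.
-/

set_option autoImplicit false

namespace Cfsg.Agent.Lib.Helper20

/-- In a finite group in which every nonidentity element has order `p` (prime),
`|G| - 1 = (number of subgroups of order p) * (p - 1)`. -/
theorem card_sub_one_eq_card_prime_subgroups_mul {G : Type*} [Group G] [Finite G] {p : ℕ}
    (hp : p.Prime) (hexp : ∀ g : G, g ^ p = 1) :
    Nat.card G - 1 = Nat.card {K : Subgroup G // Nat.card K = p} * (p - 1) := by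
  classical
  haveI : Fact p.Prime := ⟨hp⟩
  haveI : Fintype {K : Subgroup G // Nat.card K = p} := Fintype.ofFinite _
  have horder : ∀ g : G, g ≠ 1 → orderOf g = p := fun g hg => orderOf_eq_prime (hexp g) hg
  let f : {g : G // g ≠ 1} → {K : Subgroup G // Nat.card K = p} :=
    fun g => ⟨Subgroup.zpowers g.1, by rw [Nat.card_zpowers, horder g.1 g.2]⟩
  have e := Equiv.sigmaFiberEquiv f
  have hα : Nat.card {g : G // g ≠ 1} = Nat.card G - 1 := by
    have h1 : Nat.card {g : G // g ≠ 1} = (({1} : Set G)ᶜ).ncard := by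
      rw [← Nat.card_coe_set_eq]
      rfl
    rw [h1, Set.ncard_compl, Set.ncard_singleton]
  have hfib : ∀ y : {K : Subgroup G // Nat.card K = p},
      Nat.card {x : {g : G // g ≠ 1} // f x = y} = p - 1 := by
    intro y
    have h1 : Nat.card {x : {g : G // g ≠ 1} // f x = y} = ((y.1 : Set G) \ {1}).ncard := by
      rw [← Nat.card_coe_set_eq]
      apply Nat.card_congr
      refine
        { toFun := fun x => ⟨x.1.1, ?_, x.1.2⟩
          invFun := fun g => ⟨⟨g.1, g.2.2⟩, ?_⟩
          left_inv := fun x => rfl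
          right_inv := fun g => rfl }
      · have hx : Subgroup.zpowers x.1.1 = y.1 := congrArg Subtype.val x.2
        have : x.1.1 ∈ Subgroup.zpowers x.1.1 := Subgroup.mem_zpowers _
        rw [hx] at this
        exact this
      · apply Subtype.ext
        have hg1 : g.1 ≠ 1 := g.2.2
        have hle : Subgroup.zpowers g.1 ≤ y.1 := Subgroup.zpowers_le.mpr g.2.1
        exact Subgroup.eq_of_le_of_card_ge hle (by rw [Nat.card_zpowers, horder g.1 hg1, y.2])
    rw [h1, Set.ncard_sdiff_singleton_of_mem (Subgroup.one_mem y.1)]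
    have : (y.1 : Set G).ncard = p := by
      rw [← Nat.card_coe_set_eq]; exact y.2
    rw [this]
  rw [← hα, ← Nat.card_congr e, Nat.card_sigma]
  simp only [hfib, Finset.sum_const, Finset.card_univ, smul_eq_mul]
  rw [Nat.card_eq_fintype_card]

/-- A group of order `p ^ 2` and exponent `p` has exactly `p + 1` subgroups of order `p`. -/
theorem card_prime_subgroups_of_card_sq {G : Type*} [Group G] [Finite G] {p : ℕ}
    (hp : p.Prime) (hcard : Nat.card G = p ^ 2) (hexp : ∀ g : G, g ^ p = 1) :
    Nat.card {K : Subgroup G // Nat.card K = p} = p + 1 := by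
  have h := card_sub_one_eq_card_prime_subgroups_mul hp hexp
  rw [hcard] at h
  have hp1 : 0 < p - 1 := Nat.sub_pos_of_lt hp.one_lt
  have h2 : p ^ 2 - 1 = (p + 1) * (p - 1) := by
    obtain ⟨q, rfl⟩ : ∃ q, p = q + 1 := ⟨p - 1, by have := hp.pos; omega⟩
    have : (q + 1) ^ 2 = (q + 1 + 1) * q + 1 := by ring
    rw [this]; simp
  rw [h2] at h
  exact (Nat.eq_of_mul_eq_mul_right hp1 h).symm

end Cfsg.Agent.Lib.Helper20
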