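import Mathlib
import Cfsg.Agent.Lib.Helper20.QuatEight

/-!
Helper lemmas (helper20): `Aut(Q₈) ≅ S₄`, through the action of `Aut(Q₈)` on the four
antipodal classes of transversals of `{±i}, {±j}, {±k}`.
-/

set_option autoImplicit false

namespace Cfsg.Agent.Lib.Helper20.Q8

open QuaternionGroup

/-- the four transversals of `{±i}, {±j}, {±k}` containing `i = a 1` -/
def diag : Fin 4 → List Q8c
  | 0 => [a 1, xa 0, xa 3]
  | 1 => [a 1, xa 0, xa 1]
  | 2 => [a 1, xa 2, xa 3]
  | 3 => [a 1, xa 2, xa 1]

/-- replace a transversal by its antipode if it does not contain `a 1` -/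
def normalize (S : List Q8c) : List Q8c :=
  if a 1 ∈ S then S else S.map (fun q => a 2 * q)

/-- the index of a normalized transversal -/
def idx (S : List Q8c) : Fin 4 :=
  if xa 0 ∈ S then (if xa 3 ∈ S then 0 else 1) else (if xa 3 ∈ S then 2 else 3)

/-- the action of the automorphism attached to `(i, j)` on the four diagonals -/
def permFun (i j : Q8c) (k : Fin 4) : Fin 4 :=
  idx (normalize ((diag k).map (stdMap i j)))

set_option maxRecDepth 100000 in
theorem permFun_one : ∀ k : Fin 4, permFun (a 1) (xa 0) k = k := by decide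

set_option maxRecDepth 100000 in
theorem permFun_mul : ∀ i j : Q8c, IsStd i j → ∀ i' j' : Q8c, IsStd i' j' → ∀ k : Fin 4,
    permFun (stdMap i j i') (stdMap i j j') k = permFun i j (permFun i' j' k) := by decide

set_option maxRecDepth 100000 in
theorem permFun_faithful : ∀ i j : Q8c, IsStd i j → (∀ k : Fin 4, permFun i j k = k) →
    i = a 1 ∧ j = xa 0 := by decide

set_option maxRecDepth 100000 in
theorem card_isStd : Fintype.card {p : Q8c × Q8c // IsStd p.1 p.2} = 24 := by decide

theorem isStd_base : IsStd (a 1 : Q8c) (xa 0) := by decide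

theorem isStd_aut (β : MulAut Q8c) : IsStd (β (a 1)) (β (xa 0)) := by
  obtain ⟨h1, h2, h3, h4⟩ := isStd_base
  refine ⟨?_, ?_, ?_, ?_⟩
  · rw [← map_pow, h1, map_one]
  · rw [← map_pow]
    intro h
    exact h2 (β.injective (h.trans (map_one β).symm))
  · rw [← map_pow, ← map_pow, h3]
  · rw [← map_inv, ← map_inv, ← map_mul, ← map_mul, h4]

theorem aut_eq_stdAut (β : MulAut Q8c) : β = stdAut (β (a 1)) (β (xa 0)) (isStd_aut β) :=
  aut_ext (by rw [stdAut_a_one]) (by rw [stdAut_xa_zero])

theorem aut_apply_eq (β : MulAut Q8c) (q : Q8c) : β q = stdMap (β (a 1)) (β (xa 0)) q := by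
  conv_lhs => rw [aut_eq_stdAut β]
  rfl

/-- the action of `Aut(Q₈)` on the four diagonals -/
@[reducible] noncomputable def autAction : MulAction (MulAut Q8c) (Fin 4) where
  smul β k := permFun (β (a 1)) (β (xa 0)) k
  one_smul k := permFun_one k
  mul_smul β β' k := by
    show permFun ((β * β') (a 1)) ((β * β') (xa 0)) k =
      permFun (β (a 1)) (β (xa 0)) (permFun (β' (a 1)) (β' (xa 0)) k)
    rw [MulAut.mul_apply, MulAut.mul_apply, aut_apply_eq β (β' (a 1)),
      aut_apply_eq β (β' (xa 0))]
    exact permFun_mul _ _ (isStd_aut β) _ _ (isStd_aut β') k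

/-- the homomorphism `Aut(Q₈) → S₄` -/
noncomputable def autHom : MulAut Q8c →* Equiv.Perm (Fin 4) :=
  @MulAction.toPermHom (MulAut Q8c) (Fin 4) _ autAction

theorem autHom_apply (β : MulAut Q8c) (k : Fin 4) :
    autHom β k = permFun (β (a 1)) (β (xa 0)) k := rfl

theorem autHom_injective : Function.Injective autHom := by
  rw [injective_iff_map_eq_one]
  intro β hβ
  have h : ∀ k : Fin 4, permFun (β (a 1)) (β (xa 0)) k = k := by
    intro k
    rw [← autHom_apply, hβ]
    rfl
  obtain ⟨h1, h2⟩ := permFun_faithful _ _ (isStd_aut β) h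
  exact aut_ext (by rw [h1]; rfl) (by rw [h2]; rfl)

theorem card_aut_ge : 24 ≤ Nat.card (MulAut Q8c) := by
  have hinj : Function.Injective
      (fun p : {p : Q8c × Q8c // IsStd p.1 p.2} => stdAut p.1.1 p.1.2 p.2) := by
    intro p p' h
    have h1 : p.1.1 = p'.1.1 := by
      have := congrArg (fun β : MulAut Q8c => β (a 1)) h
      simpa [stdAut_a_one] using this
    have h2 : p.1.2 = p'.1.2 := by
      have := congrArg (fun β : MulAut Q8c => β (xa 0)) h
      simpa [stdAut_xa_zero] using this
    exact Subtype.ext (Prod.ext h1 h2)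
  have := Nat.card_le_card_of_injective _ hinj
  rwa [Nat.card_eq_fintype_card, card_isStd] at this

theorem autHom_bijective : Function.Bijective autHom := by
  apply autHom_injective.bijective_of_nat_card_le
  rw [Nat.card_eq_fintype_card, Fintype.card_perm, Fintype.card_fin]
  exact card_aut_ge

/-- `Aut(Q₈) ≅ S₄` -/
noncomputable def autEquivPerm : MulAut Q8c ≃* Equiv.Perm (Fin 4) :=
  MulEquiv.ofBijective autHom autHom_bijective

end Cfsg.Agent.Lib.Helper20.Q8
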