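import Mathlib
import Cfsg.Prelude.Def_Blocks
import Cfsg.Agent.Lib.Helper6.Clifford
import Cfsg.Agent.Lib.Helper6.LinChar
import Cfsg.Agent.Lib.Helper5.RODefs
import Cfsg.Agent.Lib.Lead.CharMore
import Cfsg.Agent.Lib.Helper24.CentralElt
import Cfsg.Agent.Lib.Helper24.Deflation
import Cfsg.Agent.Lib.Helper16.ROKQ1
import Cfsg.Agent.Lib.Helper4.ROKQ2

/-!
# S4581 leaf (REL): `rel_count`  (helper20; planner helper5)

Relative count from the absolute one: for an `H`-invariant linear character `lam` of an elementary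
abelian normal 2-subgroup `W`, the number of real odd-degree characters of `H` over `lam` is
`rcountKer H (ker lam) - rcountKer H W` (a character with `ker lam` in its kernel lies over `1_W` or
over `lam`: Schur).  `rel_count_of` takes the leaves (KQ1), (KQ2) as hypotheses.
-/

set_option autoImplicit false

namespace Cfsg.Agent.Lib.Helper20.RO

open Cfsg Cfsg.Agent.CharLib Cfsg.Agent.Lib.Helper6 Cfsg.Agent.Lib.Helper5.RO

universe u

theorem inv_eq_self_of_sq {W : Type u} [Group W] (hW2 : ∀ w : W, w ^ 2 = 1) (w : W) : w⁻¹ = w := by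
  have h := hW2 w
  rw [pow_two] at h
  exact inv_eq_of_mul_eq_one_left h

/-- Basic facts on an irreducible character of an elementary abelian 2-group. -/
theorem lam_facts {W : Type u} [Group W] [Finite W] (hW2 : ∀ w : W, w ^ 2 = 1) (lam : W → ℂ)
    (hlam : IsIrrCharacter W lam) :
    lam 1 = 1 ∧ (∀ a b, lam (a * b) = lam a * lam b) ∧ ∀ w, lam w = 1 ∨ lam w = -1 := by
  have hcomm : ∀ a b : W, a * b = b * a := by
    intro a b
    calc a * b = (a * b)⁻¹ := (inv_eq_self_of_sq hW2 _).symm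
      _ = b⁻¹ * a⁻¹ := mul_inv_rev a b
      _ = b * a := by rw [inv_eq_self_of_sq hW2 a, inv_eq_self_of_sq hW2 b]
  have h1 : lam 1 = 1 := (comm_iff_forall_irr_apply_one.mp hcomm) ⟨lam, hlam⟩
  have hmul : ∀ a b, lam (a * b) = lam a * lam b := by
    intro a b
    rw [← linCharUnitsHom_apply (IsIrrCharacter.isCharacter hlam) h1,
      ← linCharUnitsHom_apply (IsIrrCharacter.isCharacter hlam) h1 a,
      ← linCharUnitsHom_apply (IsIrrCharacter.isCharacter hlam) h1 b, map_mul, Units.val_mul]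
  refine ⟨h1, hmul, fun w => ?_⟩
  have h2 : lam w * lam w = 1 := by
    rw [← hmul, ← pow_two, hW2, h1]
  exact mul_self_eq_one_iff.mp h2

/-- Schur: an irreducible character with `ker lam` in its kernel lies over `1_W` or over `lam`. -/
theorem over_one_or_lam {X : Type u} [Group X] [Finite X] {W : Type u} [Group W] [Finite W]
    (j : W →* X) (hn : j.range.Normal) (hW2 : ∀ w : W, w ^ 2 = 1)
    (lam : W → ℂ) (hlam : IsIrrCharacter W lam)
    (hinv : ∀ (h : X) (w w' : W), j w' = h * j w * h⁻¹ → lam w' = lam w)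
    (ψ : IrrCharacter X)
    (hK : ∀ w : W, lam w = 1 → (ψ : X → ℂ) (j w) = (ψ : X → ℂ) 1) :
    (∀ w : W, (ψ : X → ℂ) (j w) = (ψ : X → ℂ) 1) ∨
      (∀ w : W, (ψ : X → ℂ) (j w) = (ψ : X → ℂ) 1 * lam w) := by
  classical
  obtain ⟨h1, hmul, hpm⟩ := lam_facts hW2 lam hlam
  obtain ⟨n, ρ, hirr, hρ⟩ := ψ.2
  have := hirr
  have hdeg : (ψ : X → ℂ) 1 = (Module.finrank ℂ (Fin n → ℂ) : ℂ) := by
    rw [← hρ, Representation.char_one]
  by_cases hall : ∀ w, lam w = 1
  · left; intro w; exact hK w (hall w)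
  push Not at hall
  obtain ⟨w₀, hw₀⟩ := hall
  have hw₀' : lam w₀ = -1 := (hpm w₀).resolve_left hw₀
  have hker : ∀ k : W, lam k = 1 → ρ (j k) = 1 := by
    intro k hk
    apply Cfsg.Agent.Lib.Helper24.rep_eq_one_of_char_eq_finrank
    rw [hρ, hK k hk, hdeg]
  have hT' : ∀ w : W, lam w = -1 → ρ (j w) = ρ (j w₀) := by
    intro w hw
    have hk : lam (w * w₀⁻¹) = 1 := by
      rw [hmul, inv_eq_self_of_sq hW2 w₀, hw, hw₀']; norm_num
    have h2 : w = (w * w₀⁻¹) * w₀ := by group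
    conv_lhs => rw [h2, map_mul, map_mul, hker _ hk, one_mul]
  have hcommT : ∀ h : X, ρ (j w₀) ∘ₗ ρ h = ρ h ∘ₗ ρ (j w₀) := by
    intro h
    obtain ⟨w', hw'⟩ : ∃ w', j w' = h * j w₀ * h⁻¹ := hn.conj_mem (j w₀) ⟨w₀, rfl⟩ h
    have hl : lam w' = -1 := by rw [hinv h w₀ w' hw', hw₀']
    have h2 : ρ (j w') = ρ (j w₀) := hT' w' hl
    rw [← Module.End.mul_eq_comp, ← Module.End.mul_eq_comp]
    conv_lhs => rw [← h2, ← map_mul, hw']
    rw [← map_mul]
    congr 1; group
  obtain ⟨c, hc⟩ := Cfsg.Agent.Lib.Helper24.exists_eq_smul_one_of_comm ρ (ρ (j w₀)) hcommT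
  have hTT : ρ (j w₀) * ρ (j w₀) = 1 := by
    rw [← map_mul, ← map_mul, ← pow_two, hW2, map_one, map_one]
  have hc2 : c * c = 1 := by
    have hnt : Nontrivial (Fin n → ℂ) := Cfsg.Agent.Lib.Helper24.nontrivial_of_isIrreducible ρ
    obtain ⟨v, hv⟩ := exists_ne (0 : Fin n → ℂ)
    have h3 : (ρ (j w₀) * ρ (j w₀)) v = v := by rw [hTT]; rfl
    rw [hc] at h3
    have h4 : (c * c) • v = v := by
      simpa [Module.End.mul_apply, smul_smul] using h3
    have h5 : (c * c - 1) • v = 0 := by rw [sub_smul, h4, one_smul, sub_self]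
    rcases smul_eq_zero.mp h5 with h6 | h6
    · exact sub_eq_zero.mp h6
    · exact absurd h6 hv
  have hval : ∀ w : W, lam w = -1 → (ψ : X → ℂ) (j w) = c * (ψ : X → ℂ) 1 := by
    intro w hw
    rw [hdeg, ← hρ]
    exact Cfsg.Agent.Lib.Helper24.char_scalar ρ (j w) c (by rw [hT' w hw, hc])
  rcases mul_self_eq_one_iff.mp hc2 with hc1 | hc1
  · left
    intro w
    rcases hpm w with h | h
    · exact hK w h
    · rw [hval w h, hc1, one_mul]
  · right
    intro w
    rcases hpm w with h | h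
    · rw [h, mul_one]; exact hK w h
    · rw [hval w h, hc1, h]; ring


/-- For the trivial character, "over `lam`" is "range in the kernel". -/
theorem cntOver_eq_rcountKer_of_trivial {X : Type u} [Group X] {W : Type u} [Group W]
    (j : W →* X) (lam : W → ℂ) (h1 : ∀ w, lam w = 1) :
    cntOver X j lam = rcountKer X (Set.range j) := by
  unfold cntOver rcountKer
  refine Nat.card_congr (Equiv.subtypeEquivRight fun ψ => and_congr Iff.rfl ⟨?_, ?_⟩)
  · rintro h s ⟨w, rfl⟩
    rw [h w, h1 w, mul_one]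
  · intro h w
    rw [h (j w) ⟨w, rfl⟩, h1 w, mul_one]

/-- The characters with `ker lam` in the kernel are those over `1_W` plus those over `lam`. -/
theorem rcountKer_ker_eq_add {X : Type u} [Group X] [Finite X] {W : Type u} [Group W] [Finite W]
    (j : W →* X) (hn : j.range.Normal) (hW2 : ∀ w : W, w ^ 2 = 1)
    (lam : W → ℂ) (hlam : IsIrrCharacter W lam)
    (hinv : ∀ (h : X) (w w' : W), j w' = h * j w * h⁻¹ → lam w' = lam w)
    (w₀ : W) (hw₀ : lam w₀ ≠ 1) :
    rcountKer X (j '' {w | lam w = 1}) = rcountKer X (Set.range j) + cntOver X j lam := by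
  classical
  obtain ⟨h1, hmul, hpm⟩ := lam_facts hW2 lam hlam
  unfold cntOver rcountKer
  set R : IrrCharacter X → Prop := fun χ =>
    (∀ g : X, ((χ : X → ℂ) g).im = 0) ∧ Odd (charDegree (χ : X → ℂ)) with hR
  set p : IrrCharacter X → Prop := fun χ =>
    R χ ∧ ∀ s ∈ Set.range j, (χ : X → ℂ) s = (χ : X → ℂ) 1 with hp
  set q : IrrCharacter X → Prop := fun ψ =>
    R ψ ∧ ∀ w : W, (ψ : X → ℂ) (j w) = (ψ : X → ℂ) 1 * lam w with hq
  have hdisj : Disjoint p q := by
    rw [Pi.disjoint_iff]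
    intro ψ
    rw [Prop.disjoint_iff]
    rintro ⟨⟨_, h2⟩, ⟨_, h3⟩⟩
    have h4 := h2 (j w₀) ⟨w₀, rfl⟩
    rw [h3 w₀] at h4
    have h5 : (ψ : X → ℂ) 1 ≠ 0 := by
      obtain ⟨n, ρ, hirr, hρ⟩ := ψ.2
      have := hirr
      have hnt : Nontrivial (Fin n → ℂ) := Cfsg.Agent.Lib.Helper24.nontrivial_of_isIrreducible ρ
      rw [← hρ, Representation.char_one]
      have : 0 < Module.finrank ℂ (Fin n → ℂ) := Module.finrank_pos
      exact_mod_cast this.ne'
    apply hw₀
    have h6 : (ψ : X → ℂ) 1 * (lam w₀ - 1) = 0 := by rw [mul_sub, h4, mul_one, sub_self]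
    rcases mul_eq_zero.mp h6 with h7 | h7
    · exact absurd h7 h5
    · exact sub_eq_zero.mp h7
  have e1 : {χ : IrrCharacter X // R χ ∧ ∀ s ∈ j '' {w | lam w = 1},
      (χ : X → ℂ) s = (χ : X → ℂ) 1} ≃ {χ : IrrCharacter X // p χ ∨ q χ} := by
    refine Equiv.subtypeEquivRight fun ψ => ⟨?_, ?_⟩
    · rintro ⟨hr, hk⟩
      have hK : ∀ w : W, lam w = 1 → (ψ : X → ℂ) (j w) = (ψ : X → ℂ) 1 :=
        fun w hw => hk (j w) ⟨w, hw, rfl⟩
      rcases over_one_or_lam j hn hW2 lam hlam hinv ψ hK with h | h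
      · left
        refine ⟨hr, ?_⟩
        rintro s ⟨w, rfl⟩
        exact h w
      · right
        exact ⟨hr, h⟩
    · rintro (⟨hr, h⟩ | ⟨hr, h⟩)
      · refine ⟨hr, ?_⟩
        rintro s ⟨w, _, rfl⟩
        exact h (j w) ⟨w, rfl⟩
      · refine ⟨hr, ?_⟩
        rintro s ⟨w, hw, rfl⟩
        have hw' : lam w = 1 := hw
        rw [h w, hw', mul_one]
  rw [Nat.card_congr e1, Nat.card_congr (subtypeOrEquiv p q hdisj), Nat.card_sum]

/-- There is a nontrivial element in the kernel of a nontrivial `lam` when `2 < |W|`. -/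
theorem exists_ne_one_lam_eq_one {W : Type u} [Group W] [Finite W] (hW2 : ∀ w : W, w ^ 2 = 1)
    (hW : 2 < Nat.card W) (lam : W → ℂ) (hlam : IsIrrCharacter W lam) :
    ∃ w : W, w ≠ 1 ∧ lam w = 1 := by
  classical
  obtain ⟨h1, hmul, hpm⟩ := lam_facts hW2 lam hlam
  by_contra hcon
  push Not at hcon
  -- every nontrivial element has `lam = -1`, so any two nontrivial elements coincide
  have heq : ∀ a b : W, a ≠ 1 → b ≠ 1 → a = b := by
    intro a b ha hb
    by_contra hab
    have h2 : a * b⁻¹ ≠ 1 := fun h => hab (mul_inv_eq_one.mp h)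
    have h3 := hcon _ h2
    apply h3
    rw [hmul, inv_eq_self_of_sq hW2 b, (hpm a).resolve_left (hcon a ha),
      (hpm b).resolve_left (hcon b hb)]
    norm_num
  have hle : Nat.card W ≤ Nat.card Bool := by
    refine Nat.card_le_card_of_injective (fun w => decide (w = 1)) ?_
    intro a b hab
    by_cases ha : a = 1
    · by_cases hb : b = 1
      · rw [ha, hb]
      · simp [ha, hb] at hab
    · by_cases hb : b = 1
      · simp [ha, hb] at hab
      · exact heq a b ha hb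
  have h2 : Nat.card Bool = 2 := by rw [Nat.card_eq_fintype_card, Fintype.card_bool]
  omega

/-- (REL) with the leaves (KQ1), (KQ2) for `H` as hypotheses. -/
theorem rel_count_of {H : Type u} [Group H] [Finite H] (P : Sylow 2 H)
    (KQ1 : ∀ (K : Subgroup H) [K.Normal], rcountKer H (K : Set H) = rcount (H ⧸ K))
    (KQ2 : ∀ (K : Subgroup H) [K.Normal],
      rcountKer ↥(Subgroup.normalizer ((P : Subgroup H) : Set H)) {n | (n : H) ∈ K} =
        rcount ↥(Subgroup.normalizer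
          (((P.mapSurjective (QuotientGroup.mk'_surjective K) : Sylow 2 (H ⧸ K)) :
            Subgroup (H ⧸ K)) : Set (H ⧸ K))))
    {W : Type u} [Group W]
    (ι : W →* H) (hι : Function.Injective ι) (hn : ι.range.Normal)
    (hW2 : ∀ w : W, w ^ 2 = 1) (hW : 2 < Nat.card W)
    (lam : W → ℂ) (hlam : IsIrrCharacter W lam)
    (hinv : ∀ (h : H) (w w' : W), ι w' = h * ι w * h⁻¹ → lam w' = lam w)
    (hq : ∀ (L : Subgroup H) [L.Normal], L ≠ ⊥ → P1 (H ⧸ L))
    (hN : ∀ w, ι w ∈ Subgroup.normalizer ((P : Subgroup H) : Set H)) :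
    cntOver H ι lam =
      cntOver ↥(Subgroup.normalizer ((P : Subgroup H) : Set H)) (ι.codRestrict _ hN) lam := by
  classical
  have hfin : Finite W := Finite.of_injective ι hι
  have hkey : ∀ (L : Subgroup H) [L.Normal], L ≠ ⊥ →
      rcountKer H (L : Set H) =
        rcountKer ↥(Subgroup.normalizer ((P : Subgroup H) : Set H)) {n | (n : H) ∈ L} := by
    intro L _ hL
    rw [KQ1 L, KQ2 L]
    exact hq L hL _
  obtain ⟨w₁, hw₁, hlw₁⟩ := exists_ne_one_lam_eq_one hW2 hW lam hlam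
  have hrange_ne : ι.range ≠ ⊥ := by
    intro h
    have h2 : ι w₁ ∈ ι.range := ⟨w₁, rfl⟩
    rw [h, Subgroup.mem_bot] at h2
    exact hw₁ (hι (h2.trans (map_one ι).symm))
  obtain ⟨ι', hι'⟩ : ∃ ι' : W →* ↥(Subgroup.normalizer ((P : Subgroup H) : Set H)),
      ι' = ι.codRestrict _ hN := ⟨_, rfl⟩
  rw [← hι']
  have hval : ∀ w, ((ι' w : ↥(Subgroup.normalizer ((P : Subgroup H) : Set H))) : H) = ι w := by
    intro w; rw [hι']; rfl
  have hrange' : Set.range ι' =
      {n : ↥(Subgroup.normalizer ((P : Subgroup H) : Set H)) | (n : H) ∈ ι.range} := by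
    ext n
    constructor
    · rintro ⟨w, rfl⟩
      exact ⟨w, (hval w).symm⟩
    · rintro ⟨w, hw⟩
      exact ⟨w, Subtype.ext ((hval w).trans hw)⟩
  by_cases hall : ∀ w, lam w = 1
  · rw [cntOver_eq_rcountKer_of_trivial ι lam hall, cntOver_eq_rcountKer_of_trivial ι' lam hall,
      hrange', ← MonoidHom.coe_range]
    exact hkey ι.range hrange_ne
  push Not at hall
  obtain ⟨w₀, hw₀⟩ := hall
  obtain ⟨h1, hmul, hpm⟩ := lam_facts hW2 lam hlam
  -- the kernel of `lam`
  let Ksub : Subgroup W :=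
    { carrier := {w | lam w = 1}
      mul_mem' := by
        intro a b ha hb
        have ha' : lam a = 1 := ha
        have hb' : lam b = 1 := hb
        show lam (a * b) = 1
        rw [hmul, ha', hb', mul_one]
      one_mem' := h1
      inv_mem' := by
        intro a ha
        show lam a⁻¹ = 1
        rw [inv_eq_self_of_sq hW2 a]
        exact ha }
  have hKmem : ∀ w, w ∈ Ksub ↔ lam w = 1 := fun w => Iff.rfl
  have hKnorm : (Ksub.map ι).Normal := by
    constructor
    rintro n ⟨k, hk, rfl⟩ g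
    obtain ⟨w', hw'⟩ : ∃ w', ι w' = g * ι k * g⁻¹ := hn.conj_mem (ι k) ⟨k, rfl⟩ g
    refine ⟨w', ?_, hw'⟩
    show lam w' = 1
    rw [hinv g k w' hw']
    exact hk
  have hKne : Ksub.map ι ≠ ⊥ := by
    intro h
    have h2 : ι w₁ ∈ Ksub.map ι := ⟨w₁, hlw₁, rfl⟩
    rw [h, Subgroup.mem_bot] at h2
    exact hw₁ (hι (h2.trans (map_one ι).symm))
  have hn' : ι'.range.Normal := by
    constructor
    rintro n ⟨w, rfl⟩ g
    obtain ⟨w', hw'⟩ : ∃ w', ι w' = (g : H) * ι w * (g : H)⁻¹ := hn.conj_mem (ι w) ⟨w, rfl⟩ g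
    refine ⟨w', Subtype.ext ?_⟩
    rw [hval, hw']
    simp [hval]
  have hinv' : ∀ (h : ↥(Subgroup.normalizer ((P : Subgroup H) : Set H))) (w w' : W),
      ι' w' = h * ι' w * h⁻¹ → lam w' = lam w := by
    intro h w w' e
    refine hinv (h : H) w w' ?_
    have h2 := congrArg Subtype.val e
    rw [hval] at h2
    rw [h2]
    simp [hval]
  have hA := rcountKer_ker_eq_add ι hn hW2 lam hlam hinv w₀ hw₀
  have hB := rcountKer_ker_eq_add ι' hn' hW2 lam hlam hinv' w₀ hw₀
  have himg : ι '' {w | lam w = 1} = ((Ksub.map ι : Subgroup H) : Set H) := by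
    rw [Subgroup.coe_map]
    rfl
  have himg' : ι' '' {w | lam w = 1} =
      {n : ↥(Subgroup.normalizer ((P : Subgroup H) : Set H)) | (n : H) ∈ Ksub.map ι} := by
    ext n
    constructor
    · rintro ⟨w, hw, rfl⟩
      exact ⟨w, hw, (hval w).symm⟩
    · rintro ⟨w, hw, hwn⟩
      exact ⟨w, hw, Subtype.ext ((hval w).trans hwn)⟩
  rw [himg, hkey (Ksub.map ι) hKne, ← MonoidHom.coe_range, hkey ι.range hrange_ne] at hA
  rw [himg', hrange'] at hB
  rw [hB] at hA
  exact (Nat.add_left_cancel hA).symm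

/-- **S4581 leaf (REL)** (frozen signature of `notes/S4581_leaves.lean`). -/
theorem rel_count {H : Type u} [Group H] [Finite H] (P : Sylow 2 H) {W : Type u} [Group W]
    (ι : W →* H) (hι : Function.Injective ι) (hn : ι.range.Normal)
    (hWP : ι.range ≤ (P : Subgroup H)) (hW2 : ∀ w : W, w ^ 2 = 1) (hW : 2 < Nat.card W)
    (lam : W → ℂ) (hlam : IsIrrCharacter W lam)
    (hinv : ∀ (h : H) (w w' : W), ι w' = h * ι w * h⁻¹ → lam w' = lam w)
    (hq : ∀ (L : Subgroup H) [L.Normal], L ≠ ⊥ → P1 (H ⧸ L))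
    (hN : ∀ w, ι w ∈ Subgroup.normalizer ((P : Subgroup H) : Set H)) :
    cntOver H ι lam =
      cntOver ↥(Subgroup.normalizer ((P : Subgroup H) : Set H)) (ι.codRestrict _ hN) lam :=
  rel_count_of P (fun K _ => Cfsg.Agent.Lib.Helper16.RO.rcountKer_quotient K)
    (fun K _ => Cfsg.Agent.Lib.Helper4.RO.rcountKer_normalizer_quotient K P)
    ι hι hn hW2 hW lam hlam hinv hq hN

end Cfsg.Agent.Lib.Helper20.RO
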