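import Mathlib
import Cfsg.Prelude.Def_Blocks
import Cfsg.Agent.Lib.Helper6.Clifford
import Cfsg.Agent.Lib.Helper6.CliffordCorr
import Cfsg.Agent.Lib.Helper5.RODefs
import Cfsg.Agent.Lib.Helper2.RealNN5
import Cfsg.Agent.Lib.Helper25.Inflate
import Cfsg.Agent.Lib.Helper24.IrrFacts
import Cfsg.Agent.Lib.Lead.BlockBasic
import Cfsg.Agent.Lib.Lead.CharBurnside
import Cfsg.Agent.Lib.Lead.CharMore

/-!
# S4581 leaf (T2A): `allOddReal_of_odd_normal`  (helper20; planner helper5)

`M ⊴ G` of odd order, `N_G(P) = P`: then `C_M(P) = 1`, so (Glauberman correspondence, helper2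
`exists_glauberman_map`) the only `P`-invariant irreducible character of `M` is `1_M`.  An
irreducible character `χ` of odd degree has an odd orbit of constituents on `M`, so a `P`-invariant
one, so `M ≤ ker χ` and `χ` is inflated from `G ⧸ M`.
-/

set_option autoImplicit false

namespace Cfsg.Agent.Lib.Helper20.RO

open Cfsg Cfsg.Agent.CharLib Cfsg.Agent.Lib.Helper6 Cfsg.Agent.Lib.Helper5.RO
open Cfsg.Agent.Lib.Helper24 Cfsg.Agent.Lib.Helper25
open Cfsg.Agent.Lib.Helper12.RealN Cfsg.Agent.Lib.Helper2.RealN Cfsg.Agent.Lib.Helper2.Glaub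

universe u

/-- A 2-subgroup fixes a point of every conjugation orbit of odd size. -/
theorem exists_invariant_of_odd_orbit {G : Type u} [Group G] [Fintype G] (M : Subgroup G)
    [hMn : M.Normal] (P : Subgroup G) (hP : IsPGroup 2 P) (θ : M → ℂ)
    (hodd : Odd (conjOrbit M θ).card) :
    ∃ ψ : M → ℂ, ψ ∈ conjOrbit M θ ∧ ∀ g ∈ P, Cfsg.Agent.Lib.Helper6.conjFun M g ψ = ψ := by
  classical
  let α := {ψ : M → ℂ // ψ ∈ conjOrbit M θ}
  let act : MulAction ↥P α :=
    { smul := fun g ψ => ⟨Cfsg.Agent.Lib.Helper6.conjFun M ((g : G)⁻¹) ψ.1, by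
        obtain ⟨x, hx⟩ := (mem_conjOrbit M).mp ψ.2
        refine (mem_conjOrbit M).mpr ⟨x * (g : G)⁻¹, ?_⟩
        rw [conjFun_mul, hx]⟩
      one_smul := by
        intro ψ
        apply Subtype.ext
        show Cfsg.Agent.Lib.Helper6.conjFun M (((1 : ↥P) : G)⁻¹) ψ.1 = ψ.1
        rw [Subgroup.coe_one, inv_one, conjFun_one]
      mul_smul := by
        intro a b ψ
        apply Subtype.ext
        show Cfsg.Agent.Lib.Helper6.conjFun M (((a * b : ↥P) : G)⁻¹) ψ.1 = Cfsg.Agent.Lib.Helper6.conjFun M ((a : G)⁻¹) (Cfsg.Agent.Lib.Helper6.conjFun M ((b : G)⁻¹) ψ.1)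
        rw [Subgroup.coe_mul, mul_inv_rev, conjFun_mul] }
  have hcard : Nat.card α = (conjOrbit M θ).card := by
    rw [Nat.card_eq_fintype_card, Fintype.card_coe]
  have hnd : ¬ 2 ∣ Nat.card α := by
    rw [hcard]
    exact fun h => (Nat.not_even_iff_odd.mpr hodd) (even_iff_two_dvd.mpr h)
  have hP' : IsPGroup 2 ↥P := hP
  obtain ⟨ψ, hψ⟩ := hP'.nonempty_fixed_point_of_prime_not_dvd_card α hnd
  refine ⟨ψ.1, ψ.2, ?_⟩
  intro g hg
  have h1 := hψ ⟨g⁻¹, P.inv_mem hg⟩
  have h2 := congrArg Subtype.val h1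
  have h3 : Cfsg.Agent.Lib.Helper6.conjFun M (((⟨g⁻¹, P.inv_mem hg⟩ : ↥P) : G)⁻¹) ψ.1 = ψ.1 := h2
  simpa using h3

/-- The only irreducible character of a trivial group is the trivial one. -/
theorem irr_eq_one_of_subsingleton {X : Type u} [Group X] [Subsingleton X] (β : IrrCharacter X) :
    (β : X → ℂ) = fun _ => 1 := by
  have hfin : Finite X := inferInstance
  have hcomm : ∀ a b : X, a * b = b * a := fun a b => Subsingleton.elim _ _
  have h1 : (β : X → ℂ) 1 = 1 := (comm_iff_forall_irr_apply_one.mp hcomm) β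
  funext x
  rw [Subsingleton.elim x 1, h1]

/-- **S4581 leaf (T2A)** (frozen signature of `notes/S4581_leaves.lean`). -/
theorem allOddReal_of_odd_normal {G : Type u} [Group G] [Finite G] (P : Sylow 2 G)
    (M : Subgroup G) [M.Normal] (hM : Odd (Nat.card M))
    (hN : Subgroup.normalizer ((P : Subgroup G) : Set G) = (P : Subgroup G))
    (ih : AllOddReal (G ⧸ M)) : AllOddReal G := by
  classical
  let _ : Fintype G := Fintype.ofFinite G
  let _ : Fintype M := Fintype.ofFinite M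
  intro χ hodd
  -- `C_M(P) = 1`
  have hCP : CP M P = ⊥ := by
    rw [eq_bot_iff]
    intro x hx
    obtain ⟨hxM, hxC⟩ := Subgroup.mem_inf.mp hx
    have hxP : x ∈ (P : Subgroup G) := by
      rw [← hN]
      exact Subgroup.centralizer_le_normalizer _ hxC
    obtain ⟨k, hk⟩ := P.2 ⟨x, hxP⟩
    have hk' : x ^ 2 ^ k = 1 := by
      have := congrArg Subtype.val hk
      simpa using this
    have h1 : orderOf x ∣ 2 ^ k := orderOf_dvd_of_pow_eq_one hk'
    have h2 : orderOf x ∣ Nat.card M := Subgroup.orderOf_dvd_natCard M hxM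
    have hcop : Nat.Coprime (2 ^ k) (Nat.card M) :=
      Nat.Coprime.pow_left k (Nat.coprime_two_left.mpr hM)
    have h3 : orderOf x ∣ 1 := by
      have := Nat.dvd_gcd h1 h2
      rwa [hcop] at this
    rw [Subgroup.mem_bot]
    exact orderOf_eq_one_iff.mp (Nat.dvd_one.mp h3)
  have hχc : IsCharacter G (χ : G → ℂ) := IsIrrCharacter.isCharacter χ.2
  have hresc : IsCharacter M (resFun M (χ : G → ℂ)) := isCharacter_resFun M hχc
  have hne : resFun M (χ : G → ℂ) ≠ 0 := by
    intro h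
    have := congrFun h 1
    rw [resFun_apply] at this
    exact irr_apply_one_ne_zero χ this
  obtain ⟨θ, hθ, hc⟩ := IsCharacter.exists_constituent hresc hne
  -- degree formula: the orbit is odd
  have hdeg := clifford_degree M χ.2 hθ hc
  obtain ⟨e, he⟩ := IsCharacter.classInner_nat hresc (IsIrrCharacter.isCharacter hθ)
  obtain ⟨d, hd⟩ := IsCharacter.apply_one (IsIrrCharacter.isCharacter hθ)
  have hdegN : charDegree (χ : G → ℂ) = e * (conjOrbit M θ).card * d := by
    apply charDegree_eq_of_apply_one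
    rw [hdeg, he, hd]
    push_cast
    ring
  have horb : Odd (conjOrbit M θ).card := by
    rw [hdegN] at hodd
    exact (Nat.odd_mul.mp (Nat.odd_mul.mp hodd).1).2
  obtain ⟨ψ, hψ, hfix⟩ := exists_invariant_of_odd_orbit M (P : Subgroup G) P.2 θ horb
  obtain ⟨g, rfl⟩ := (mem_conjOrbit M).mp hψ
  have hψirr : IsIrrCharacter M (Cfsg.Agent.Lib.Helper6.conjFun M g θ) :=
    isIrrCharacter_conjFun M hθ g
  -- Glauberman: the `P`-invariant irreducible characters of `M` are parametrised by a one-point set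
  have h2 : ¬ 2 ∣ Nat.card ↥M := fun h =>
    (Nat.not_even_iff_odd.mpr hM) (even_iff_two_dvd.mpr h)
  obtain ⟨F, -, hF2, -, -⟩ := exists_glauberman_map 2 M P h2
  have hsub : Subsingleton ↥(CP M P) := by
    rw [hCP]
    infer_instance
  have hinvψ : InvUnder M (P : Subgroup G) (Cfsg.Agent.Lib.Helper6.conjFun M g θ) := by
    intro t ht a a' ha
    have h3 := congrFun (hfix t ht) a
    rw [conjFun_apply] at h3
    rw [← h3]
    congr 1
    exact Subtype.ext ha
  have hinv1 : InvUnder M (P : Subgroup G) (fun _ : M => (1 : ℂ)) := fun _ _ _ _ _ => rfl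
  obtain ⟨β, hβ⟩ := hF2 ⟨_, hψirr⟩ hinvψ
  obtain ⟨β', hβ'⟩ := hF2 ⟨(1 : M → ℂ), isIrrCharacter_one⟩ hinv1
  have hββ' : β = β' := by
    apply Subtype.ext
    rw [irr_eq_one_of_subsingleton β, irr_eq_one_of_subsingleton β']
  have hone : Cfsg.Agent.Lib.Helper6.conjFun M g θ = fun _ => 1 := by
    have h3 : (⟨_, hψirr⟩ : IrrCharacter M) = ⟨(1 : M → ℂ), isIrrCharacter_one⟩ := by
      rw [← hβ, ← hβ', hββ']
    exact congrArg Subtype.val h3
  have hθ1 : θ = fun _ => 1 := by
    have := congrArg (Cfsg.Agent.Lib.Helper6.conjFun M g⁻¹) hone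
    rw [conjFun_inv_conjFun] at this
    rw [this]
    rfl
  have hinv : ∀ g : G, Cfsg.Agent.Lib.Helper6.conjFun M g θ = θ := by
    intro g
    rw [hθ1]
    rfl
  have hcl := clifford_of_invariant M χ.2 hθ hc hinv
  have hker : ∀ m ∈ M, (χ : G → ℂ) m = (χ : G → ℂ) 1 := by
    intro m hm
    have h1 := congrFun hcl ⟨m, hm⟩
    have h2 := congrFun hcl 1
    rw [resFun_apply, Pi.smul_apply, hθ1] at h1 h2
    change (χ : G → ℂ) m = _ at h1
    change (χ : G → ℂ) 1 = _ at h2
    rw [h1, h2]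
  -- `χ` is inflated from `G ⧸ M`
  obtain ⟨θ', hθ'⟩ := exists_inflateIrr_eq M χ hker
  have hdeg' : charDegree ((inflateIrr M θ' : IrrCharacter G) : G → ℂ) =
      charDegree (θ' : G ⧸ M → ℂ) := rfl
  have hoddθ' : Odd (charDegree (θ' : G ⧸ M → ℂ)) := by
    rw [← hdeg', hθ']
    exact hodd
  intro x
  have h3 := ih θ' hoddθ' (x : G ⧸ M)
  rw [← hθ']
  exact h3

end Cfsg.Agent.Lib.Helper20.RO
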