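import Mathlib
import Cfsg.Prelude.Def_Transfer
import Cfsg.Prelude.Def_CaseTheorems
import Cfsg.Agent.Lib.Helper11.ElemAb2
import Cfsg.Agent.Lib.Helper20.ConjPermCount

/-!
# A `3`-element acting fixed-point-freely on a `2`-group of rank at most `2`

If the `3`-element `d` normalizes the `2`-subgroup `P`, `C_P(d) = 1` and `P` has no elementary
abelian subgroup of order `8`, then `d ^ 3` centralizes `P`.
-/

set_option autoImplicit false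

open scoped commutatorElement

namespace Cfsg.Agent.Lib.Helper20.Rank2Fpf

open Cfsg.Agent.Lib.Helper20.ConjPerm

variable {X : Type*} [Group X] [Finite X]

/-- The basic situation. -/
structure Setup (d : X) (Q : Subgroup X) : Prop where
  pgrp : IsPGroup 2 Q
  norm : ∀ x ∈ Q, d * x * d⁻¹ ∈ Q
  fpf : ∀ x ∈ Q, d * x * d⁻¹ = x → x = 1
  rank : ∀ A : Subgroup X, A ≤ Q → Cfsg.IsElementaryAbelian 2 A → Nat.card A ≤ 4

section basic

variable {d : X} {H : Subgroup X}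

theorem pow_conj_mem (hH : ∀ x ∈ H, d * x * d⁻¹ ∈ H) (k : ℕ) :
    ∀ x ∈ H, d ^ k * x * (d ^ k)⁻¹ ∈ H := by
  induction k with
  | zero => intro x hx; simpa using hx
  | succ k ih =>
    intro x hx
    have := hH _ (ih x hx)
    have h2 : d ^ (k + 1) * x * (d ^ (k + 1))⁻¹ = d * (d ^ k * x * (d ^ k)⁻¹) * d⁻¹ := by
      rw [pow_succ']; group
    rw [h2]; exact this

theorem exists_preimage (hH : ∀ x ∈ H, d * x * d⁻¹ ∈ H) {x : X} (hx : x ∈ H) :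
    ∃ y ∈ H, d * y * d⁻¹ = x := by
  obtain ⟨y, hy⟩ := (conjPermOn d (H : Set X) hH).surjective ⟨x, hx⟩
  exact ⟨y, y.2, congrArg Subtype.val hy⟩

theorem inv_conj_mem (hH : ∀ x ∈ H, d * x * d⁻¹ ∈ H) {x : X} (hx : x ∈ H) :
    d⁻¹ * x * d ∈ H := by
  obtain ⟨y, hy, rfl⟩ := exists_preimage hH hx
  have : d⁻¹ * (d * y * d⁻¹) * d = y := by group
  rw [this]; exact hy

theorem card_modEq_one (hH : ∀ x ∈ H, d * x * d⁻¹ ∈ H) (n : ℕ) (hd : d ^ 3 ^ n = 1)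
    (hfpf : ∀ x ∈ H, d * x * d⁻¹ = x → x = 1) : Nat.card H ≡ 1 [MOD 3] :=
  card_modEq_one_of_unique_fixed d (H : Set X) hH n hd 1 H.one_mem (by simp) hfpf

end basic

/-- "Coprime action": if the commutator of `x` with the `3`-element `e` is fixed by `e`,
it is trivial. -/
theorem conj_eq_of_comm_fixed {Q : Subgroup X} (hQ : IsPGroup 2 Q) {e : X} (n : ℕ)
    (he : e ^ 3 ^ n = 1) {x : X} (hu : x⁻¹ * (e * x * e⁻¹) ∈ Q)
    (hfix : e * (x⁻¹ * (e * x * e⁻¹)) * e⁻¹ = x⁻¹ * (e * x * e⁻¹)) : e * x * e⁻¹ = x := by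
  set u := x⁻¹ * (e * x * e⁻¹) with hu_def
  have h1 : ∀ k : ℕ, e ^ k * x * (e ^ k)⁻¹ = x * u ^ k := by
    intro k
    induction k with
    | zero => simp
    | succ k ih =>
      have h2 : e ^ (k + 1) * x * (e ^ (k + 1))⁻¹ = e * (e ^ k * x * (e ^ k)⁻¹) * e⁻¹ := by
        rw [pow_succ']; group
      rw [h2, ih]
      have h3 : e * (x * u ^ k) * e⁻¹ = (e * x * e⁻¹) * (e * u * e⁻¹) ^ k := by
        rw [conj_pow]; group
      rw [h3, hfix, pow_succ']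
      have : e * x * e⁻¹ = x * u := by rw [hu_def]; group
      rw [this, mul_assoc]
  have h2 := h1 (3 ^ n)
  rw [he] at h2
  have h3 : u ^ 3 ^ n = 1 := by
    have : x = x * u ^ 3 ^ n := by simpa using h2
    exact (mul_eq_left.mp this.symm)
  have h4 : orderOf u ∣ 3 ^ n := orderOf_dvd_of_pow_eq_one h3
  obtain ⟨j, hj⟩ := (IsPGroup.iff_orderOf.mp hQ) ⟨u, hu⟩
  rw [Subgroup.orderOf_mk] at hj
  have h5 : orderOf u = 1 := by
    have hc : Nat.Coprime (2 ^ j) (3 ^ n) := Nat.Coprime.pow _ _ (by norm_num)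
    rw [hj] at h4
    have := Nat.Coprime.eq_one_of_dvd hc h4
    rw [hj]; exact this
  have h6 : u = 1 := orderOf_eq_one_iff.mp h5
  have : e * x * e⁻¹ = x * u := by rw [hu_def]; group
  rw [this, h6, mul_one]

/-- The minimal configuration: `d ^ 3` does not centralize `Q` but centralizes every proper
`d`-invariant subgroup of `Q`. -/
structure MinSetup (d : X) (Q : Subgroup X) : Prop extends Setup d Q where
  notcent : ∃ x ∈ Q, d ^ 3 * x * (d ^ 3)⁻¹ ≠ x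
  min : ∀ R : Subgroup X, R < Q → (∀ x ∈ R, d * x * d⁻¹ ∈ R) →
    ∀ x ∈ R, d ^ 3 * x * (d ^ 3)⁻¹ = x

section minimal

variable {d : X} {Q : Subgroup X}

theorem cube_pow (n : ℕ) (hd : d ^ 3 ^ n = 1) : (d ^ 3) ^ 3 ^ n = 1 := by
  rw [← pow_mul, mul_comm, pow_mul, hd, one_pow]

theorem conj_cube_comm (x : X) :
    d * (d ^ 3 * x * (d ^ 3)⁻¹) * d⁻¹ = d ^ 3 * (d * x * d⁻¹) * (d ^ 3)⁻¹ := by
  have : d * d ^ 3 = d ^ 3 * d := by rw [← pow_succ', ← pow_succ]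
  calc d * (d ^ 3 * x * (d ^ 3)⁻¹) * d⁻¹ = (d * d ^ 3) * x * (d * d ^ 3)⁻¹ := by group
    _ = (d ^ 3 * d) * x * (d ^ 3 * d)⁻¹ := by rw [this]
    _ = _ := by group

theorem MinSetup.econj_mem (hM : MinSetup d Q) : ∀ x ∈ Q, d ^ 3 * x * (d ^ 3)⁻¹ ∈ Q :=
  pow_conj_mem hM.norm 3

/-- The commutator `x⁻¹ x^e` lies in `Q`. -/
theorem MinSetup.u_mem (hM : MinSetup d Q) {x : X} (hx : x ∈ Q) :
    x⁻¹ * (d ^ 3 * x * (d ^ 3)⁻¹) ∈ Q :=
  Q.mul_mem (Q.inv_mem hx) (hM.econj_mem x hx)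

/-- If all the commutators `x⁻¹ x^e` are fixed by `e`, contradiction. -/
theorem MinSetup.false_of_fixed (hM : MinSetup d Q) (n : ℕ) (hd : d ^ 3 ^ n = 1)
    (h : ∀ x ∈ Q, d ^ 3 * (x⁻¹ * (d ^ 3 * x * (d ^ 3)⁻¹)) * (d ^ 3)⁻¹ =
      x⁻¹ * (d ^ 3 * x * (d ^ 3)⁻¹)) : False := by
  obtain ⟨x, hx, hne⟩ := hM.notcent
  exact hne (conj_eq_of_comm_fixed hM.pgrp n (cube_pow n hd) (hM.u_mem hx) (h x hx))

/-- The subgroup `[Q, e]`. -/
def commSub (d : X) (Q : Subgroup X) : Subgroup X :=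
  Subgroup.closure {u | ∃ x ∈ Q, u = x⁻¹ * (d ^ 3 * x * (d ^ 3)⁻¹)}

theorem MinSetup.commSub_le (hM : MinSetup d Q) : commSub d Q ≤ Q := by
  rw [commSub, Subgroup.closure_le]
  rintro _ ⟨x, hx, rfl⟩
  exact hM.u_mem hx

theorem MinSetup.commSub_inv (hM : MinSetup d Q) :
    ∀ x ∈ commSub d Q, d * x * d⁻¹ ∈ commSub d Q := by
  intro x hx
  have h1 : (MulAut.conj d).toMonoidHom x ∈ (commSub d Q).map (MulAut.conj d).toMonoidHom :=
    Subgroup.mem_map_of_mem _ hx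
  rw [commSub, MonoidHom.map_closure] at h1
  have h2 : (MulAut.conj d).toMonoidHom '' {u | ∃ x ∈ Q, u = x⁻¹ * (d ^ 3 * x * (d ^ 3)⁻¹)} ⊆
      {u | ∃ x ∈ Q, u = x⁻¹ * (d ^ 3 * x * (d ^ 3)⁻¹)} := by
    rintro _ ⟨_, ⟨x, hx, rfl⟩, rfl⟩
    refine ⟨d * x * d⁻¹, hM.norm x hx, ?_⟩
    simp only [MulEquiv.coe_toMonoidHom, MulAut.conj_apply]
    rw [← conj_cube_comm]
    group
  have h3 := Subgroup.closure_mono h2 h1
  rw [commSub]
  simpa [MulAut.conj_apply] using h3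

theorem MinSetup.commSub_eq (hM : MinSetup d Q) (n : ℕ) (hd : d ^ 3 ^ n = 1) :
    commSub d Q = Q := by
  by_contra hne
  have hlt : commSub d Q < Q := lt_of_le_of_ne hM.commSub_le hne
  have hcent := hM.min _ hlt hM.commSub_inv
  apply hM.false_of_fixed n hd
  intro x hx
  exact hcent _ (Subgroup.subset_closure ⟨x, hx, rfl⟩)

/-- A proper `d`-invariant subgroup normal in `Q` is central in `Q`. -/
theorem MinSetup.central_of_normal (hM : MinSetup d Q) (n : ℕ) (hd : d ^ 3 ^ n = 1)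
    (N : Subgroup X) (hNQ : N < Q) (hNd : ∀ x ∈ N, d * x * d⁻¹ ∈ N)
    (hNn : ∀ m ∈ N, ∀ x ∈ Q, x * m * x⁻¹ ∈ N) : ∀ m ∈ N, ∀ x ∈ Q, x * m = m * x := by
  have hcent := hM.min N hNQ hNd
  have h1 : commSub d Q ≤ Subgroup.centralizer (N : Set X) := by
    rw [commSub, Subgroup.closure_le]
    rintro _ ⟨x, hx, rfl⟩
    rw [SetLike.mem_coe, Subgroup.mem_centralizer_iff]
    intro m hm
    have h2 := hcent _ (hNn m hm x hx)
    have h3 := hcent m hm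
    -- (e x e⁻¹) m (e x e⁻¹)⁻¹ = x m x⁻¹
    have h4 : (d ^ 3 * x * (d ^ 3)⁻¹) * m * (d ^ 3 * x * (d ^ 3)⁻¹)⁻¹ = x * m * x⁻¹ := by
      rw [← h2]
      nth_rewrite 1 [← h3]
      group
    calc m * (x⁻¹ * (d ^ 3 * x * (d ^ 3)⁻¹))
        = x⁻¹ * (x * m * x⁻¹) * (d ^ 3 * x * (d ^ 3)⁻¹) := by group
      _ = x⁻¹ * ((d ^ 3 * x * (d ^ 3)⁻¹) * m * (d ^ 3 * x * (d ^ 3)⁻¹)⁻¹) *
            (d ^ 3 * x * (d ^ 3)⁻¹) := by rw [h4]
      _ = x⁻¹ * (d ^ 3 * x * (d ^ 3)⁻¹) * m := by group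
  rw [hM.commSub_eq n hd] at h1
  intro m hm x hx
  have := h1 hx
  rw [Subgroup.mem_centralizer_iff] at this
  exact (this m hm).symm

end minimal

section squares

variable {Q : Subgroup X}

/-- The subgroup generated by the squares of the elements of `Q`. -/
def sqSub (Q : Subgroup X) : Subgroup X := Subgroup.closure {s | ∃ x ∈ Q, s = x * x}

theorem sqSub_le : sqSub Q ≤ Q := by
  rw [sqSub, Subgroup.closure_le]
  rintro _ ⟨x, hx, rfl⟩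
  exact Q.mul_mem hx hx

theorem sqSub_conj (g : X) (hg : ∀ x ∈ Q, g * x * g⁻¹ ∈ Q) :
    ∀ s ∈ sqSub Q, g * s * g⁻¹ ∈ sqSub Q := by
  intro x hx
  have h1 : (MulAut.conj g).toMonoidHom x ∈ (sqSub Q).map (MulAut.conj g).toMonoidHom :=
    Subgroup.mem_map_of_mem _ hx
  rw [sqSub, MonoidHom.map_closure] at h1
  have h2 : (MulAut.conj g).toMonoidHom '' {s | ∃ x ∈ Q, s = x * x} ⊆
      {s | ∃ x ∈ Q, s = x * x} := by
    rintro _ ⟨_, ⟨x, hx, rfl⟩, rfl⟩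
    refine ⟨g * x * g⁻¹, hg x hx, ?_⟩
    simp only [MulEquiv.coe_toMonoidHom, MulAut.conj_apply]
    group
  have h3 := Subgroup.closure_mono h2 h1
  rw [sqSub]
  simpa [MulAut.conj_apply] using h3

theorem sqSub_lt (hQ : IsPGroup 2 Q) (hne : Q ≠ ⊥) : sqSub Q < Q := by
  obtain ⟨k, hk⟩ := IsPGroup.iff_card.mp hQ
  have hk0 : k ≠ 0 := by
    rintro rfl
    rw [pow_zero] at hk
    exact hne (Subgroup.card_eq_one.mp hk)
  obtain ⟨k, rfl⟩ := Nat.exists_eq_succ_of_ne_zero hk0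
  have hdvd : 2 ^ k ∣ Nat.card Q := by rw [hk]; exact pow_dvd_pow 2 (Nat.le_succ k)
  obtain ⟨K', hK'⟩ := Sylow.exists_subgroup_card_pow_prime 2 hdvd
  have hidx : K'.index = 2 := by
    have := K'.card_mul_index
    rw [hK', hk, pow_succ] at this
    exact Nat.eq_of_mul_eq_mul_left (by positivity) this
  have h1 : sqSub Q ≤ K'.map Q.subtype := by
    rw [sqSub, Subgroup.closure_le]
    rintro _ ⟨x, hx, rfl⟩
    have := Subgroup.mul_self_mem_of_index_two hidx (⟨x, hx⟩ : Q)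
    exact ⟨_, this, rfl⟩
  refine lt_of_le_of_ne sqSub_le ?_
  intro heq
  have h2 : Nat.card (K'.map Q.subtype) = 2 ^ k := by
    rw [Subgroup.card_map_of_injective Q.subtype_injective, hK']
  have h3 : Nat.card Q ≤ Nat.card (K'.map Q.subtype) := by
    apply Nat.le_of_dvd Nat.card_pos
    apply Subgroup.card_dvd_of_le
    exact heq.symm.le.trans h1
  rw [h2, hk, pow_succ] at h3
  have : 0 < 2 ^ k := by positivity
  omega

/-- The centre of `Q`, as a subgroup of the ambient group. -/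
def zSub (Q : Subgroup X) : Subgroup X := Q ⊓ Subgroup.centralizer (Q : Set X)

theorem mem_zSub {z : X} : z ∈ zSub Q ↔ z ∈ Q ∧ ∀ x ∈ Q, x * z = z * x := by
  rw [zSub, Subgroup.mem_inf, Subgroup.mem_centralizer_iff]
  rfl

theorem zSub_le : zSub Q ≤ Q := inf_le_left

theorem zSub_conj {d : X} (hd : ∀ x ∈ Q, d * x * d⁻¹ ∈ Q) :
    ∀ z ∈ zSub Q, d * z * d⁻¹ ∈ zSub Q := by
  intro z hz
  rw [mem_zSub] at hz ⊢
  refine ⟨hd z hz.1, ?_⟩
  intro x hx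
  obtain ⟨y, hy, rfl⟩ := exists_preimage hd hx
  have := hz.2 y hy
  calc d * y * d⁻¹ * (d * z * d⁻¹) = d * (y * z) * d⁻¹ := by group
    _ = d * (z * y) * d⁻¹ := by rw [this]
    _ = _ := by group

/-- The elements of order dividing `2` of the centre of `Q`. -/
def omegaZ (Q : Subgroup X) : Subgroup X where
  carrier := {z | z ∈ zSub Q ∧ z * z = 1}
  one_mem' := ⟨(zSub Q).one_mem, by simp⟩
  mul_mem' := by
    rintro a b ⟨ha, ha2⟩ ⟨hb, hb2⟩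
    refine ⟨(zSub Q).mul_mem ha hb, ?_⟩
    have hc : b * a = a * b := (mem_zSub.mp ha).2 b (zSub_le hb)
    calc a * b * (a * b) = a * (b * a) * b := by group
      _ = a * (a * b) * b := by rw [hc]
      _ = (a * a) * (b * b) := by group
      _ = 1 := by rw [ha2, hb2, one_mul]
  inv_mem' := by
    rintro a ⟨ha, ha2⟩
    refine ⟨(zSub Q).inv_mem ha, ?_⟩
    have : a⁻¹ = a := inv_eq_of_mul_eq_one_left ha2
    rw [this, ha2]

theorem mem_omegaZ {z : X} : z ∈ omegaZ Q ↔ z ∈ zSub Q ∧ z * z = 1 := Iff.rfl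

theorem omegaZ_le : omegaZ Q ≤ zSub Q := fun _ h => h.1

theorem omegaZ_conj {d : X} (hd : ∀ x ∈ Q, d * x * d⁻¹ ∈ Q) :
    ∀ z ∈ omegaZ Q, d * z * d⁻¹ ∈ omegaZ Q := by
  rintro z ⟨hz, hz2⟩
  refine ⟨zSub_conj hd z hz, ?_⟩
  calc d * z * d⁻¹ * (d * z * d⁻¹) = d * (z * z) * d⁻¹ := by group
    _ = 1 := by rw [hz2]; group

theorem omegaZ_elemAb : Cfsg.IsElementaryAbelian 2 (omegaZ Q) := by
  refine ⟨⟨⟨fun a b => Subtype.ext ?_⟩⟩, ?_⟩
  · exact ((mem_zSub.mp b.2.1).2 a (zSub_le a.2.1))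
  · intro a ha
    rw [pow_two]; exact ha.2

end squares

section classTwo

variable {Q : Subgroup X} (hc : ∀ x ∈ Q, ∀ y ∈ Q, ⁅x, y⁆ ∈ zSub Q)

include hc in
theorem comm_mul_left {x y z : X} (hx : x ∈ Q) (hy : y ∈ Q) (hz : z ∈ Q) :
    ⁅x * y, z⁆ = ⁅x, z⁆ * ⁅y, z⁆ := by
  have h1 : x * ⁅y, z⁆ = ⁅y, z⁆ * x := (mem_zSub.mp (hc y hy z hz)).2 x hx
  have h2 : ⁅x, z⁆ * ⁅y, z⁆ = ⁅y, z⁆ * ⁅x, z⁆ :=
    (mem_zSub.mp (hc y hy z hz)).2 _ (zSub_le (hc x hx z hz))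
  calc ⁅x * y, z⁆ = (x * ⁅y, z⁆) * (z * x⁻¹ * z⁻¹) := by
        simp only [commutatorElement_def]; group
    _ = ⁅y, z⁆ * x * (z * x⁻¹ * z⁻¹) := by rw [h1]
    _ = ⁅y, z⁆ * ⁅x, z⁆ := by simp only [commutatorElement_def]; group
    _ = _ := h2.symm

include hc in
theorem comm_sq_eq_one {x y : X} (hx : x ∈ Q) (hy : y ∈ Q) (hsq : x * x ∈ zSub Q) :
    ⁅x, y⁆ * ⁅x, y⁆ = 1 := by
  rw [← comm_mul_left hc hx hx hy, commutatorElement_def]
  have := (mem_zSub.mp hsq).2 y hy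
  calc x * x * y * (x * x)⁻¹ * y⁻¹ = (x * x * y) * (x * x)⁻¹ * y⁻¹ := by group
    _ = (y * (x * x)) * (x * x)⁻¹ * y⁻¹ := by rw [this]
    _ = 1 := by group

include hc in
theorem mul_sq {x u : X} (hx : x ∈ Q) (hu : u ∈ Q) :
    (x * u) * (x * u) = (x * x) * (u * u) * ⁅u, x⁆ := by
  have h1 : x * ⁅u, x⁆ = ⁅u, x⁆ * x := (mem_zSub.mp (hc u hu x hx)).2 x hx
  have h2 : (x * x * (u * u)) * ⁅u, x⁆ = ⁅u, x⁆ * (x * x * (u * u)) :=
    (mem_zSub.mp (hc u hu x hx)).2 _ (Q.mul_mem (Q.mul_mem hx hx) (Q.mul_mem hu hu))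
  rw [h2]
  calc x * u * (x * u) = x * (⁅u, x⁆ * x * u) * u := by
        simp only [commutatorElement_def]; group
    _ = (x * ⁅u, x⁆) * x * u * u := by group
    _ = ⁅u, x⁆ * x * x * u * u := by rw [h1]
    _ = _ := by group

end classTwo

section minimal2

variable {d : X} {Q : Subgroup X}

theorem MinSetup.ne_bot (hM : MinSetup d Q) : Q ≠ ⊥ := by
  rintro rfl
  obtain ⟨x, hx, hne⟩ := hM.notcent
  rw [Subgroup.mem_bot] at hx
  apply hne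
  rw [hx]; group

theorem MinSetup.sq_mem_zSub (hM : MinSetup d Q) (n : ℕ) (hd : d ^ 3 ^ n = 1) :
    ∀ x ∈ Q, x * x ∈ zSub Q := by
  intro x hx
  rw [mem_zSub]
  refine ⟨Q.mul_mem hx hx, ?_⟩
  intro y hy
  have := hM.central_of_normal n hd (sqSub Q) (sqSub_lt hM.pgrp hM.ne_bot)
    (sqSub_conj d hM.norm) ?_ (x * x) (Subgroup.subset_closure ⟨x, hx, rfl⟩) y hy
  · exact this
  · intro m hm w hw
    exact sqSub_conj w (fun v hv => Q.mul_mem (Q.mul_mem hw hv) (Q.inv_mem hw)) m hm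

theorem MinSetup.comm_mem_zSub (hM : MinSetup d Q) (n : ℕ) (hd : d ^ 3 ^ n = 1) :
    ∀ x ∈ Q, ∀ y ∈ Q, ⁅x, y⁆ ∈ zSub Q := by
  intro x hx y hy
  have h1 : ⁅x, y⁆ = ((x * y) * (x * y)) * ((y⁻¹ * x⁻¹ * y) * (y⁻¹ * x⁻¹ * y)) * (y⁻¹ * y⁻¹) := by
    rw [commutatorElement_def]; group
  rw [h1]
  have hsq := hM.sq_mem_zSub n hd
  exact (zSub Q).mul_mem ((zSub Q).mul_mem (hsq _ (Q.mul_mem hx hy))
    (hsq _ (Q.mul_mem (Q.mul_mem (Q.inv_mem hy) (Q.inv_mem hx)) hy))) (hsq _ (Q.inv_mem hy))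

theorem MinSetup.comm_mem_omegaZ (hM : MinSetup d Q) (n : ℕ) (hd : d ^ 3 ^ n = 1) :
    ∀ x ∈ Q, ∀ y ∈ Q, ⁅x, y⁆ ∈ omegaZ Q := by
  intro x hx y hy
  exact ⟨hM.comm_mem_zSub n hd x hx y hy,
    comm_sq_eq_one (hM.comm_mem_zSub n hd) hx hy (hM.sq_mem_zSub n hd x hx)⟩

theorem MinSetup.omegaZ_ne_bot (hM : MinSetup d Q) : omegaZ Q ≠ ⊥ := by
  haveI : Nontrivial Q := (Subgroup.nontrivial_iff_ne_bot Q).mpr hM.ne_bot
  haveI := hM.pgrp.center_nontrivial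
  obtain ⟨c, hc⟩ := exists_ne (1 : Subgroup.center Q)
  have hzmem : ((c : Q) : X) ∈ zSub Q := by
    rw [mem_zSub]
    refine ⟨(c : Q).2, ?_⟩
    intro x hx
    have := Subgroup.mem_center_iff.mp c.2 ⟨x, hx⟩
    exact congrArg Subtype.val this
  have hzne : zSub Q ≠ ⊥ := by
    intro h
    rw [h, Subgroup.mem_bot] at hzmem
    apply hc
    exact Subtype.ext (Subtype.ext hzmem)
  have hzp : IsPGroup 2 (zSub Q) := hM.pgrp.to_le zSub_le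
  obtain ⟨k, hk⟩ := IsPGroup.iff_card.mp hzp
  have hk0 : k ≠ 0 := by
    rintro rfl
    rw [pow_zero] at hk
    exact hzne (Subgroup.card_eq_one.mp hk)
  have hdvd : 2 ∣ Nat.card (zSub Q) := by rw [hk]; exact dvd_pow_self 2 hk0
  obtain ⟨t, ht⟩ := exists_prime_orderOf_dvd_card' 2 hdvd
  intro hbot
  have h1 : (t : X) ∈ omegaZ Q := by
    refine ⟨t.2, ?_⟩
    have := pow_orderOf_eq_one t
    rw [ht, pow_two] at this
    exact congrArg Subtype.val this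
  rw [hbot, Subgroup.mem_bot] at h1
  have : t = 1 := Subtype.ext h1
  rw [this, orderOf_one] at ht
  exact absurd ht (by norm_num)

theorem MinSetup.card_omegaZ (hM : MinSetup d Q) (n : ℕ) (hd : d ^ 3 ^ n = 1) :
    Nat.card (omegaZ Q) = 4 := by
  have hp : IsPGroup 2 (omegaZ Q) := hM.pgrp.to_le (omegaZ_le.trans zSub_le)
  obtain ⟨k, hk⟩ := IsPGroup.iff_card.mp hp
  have hle : Nat.card (omegaZ Q) ≤ 4 := hM.rank _ (omegaZ_le.trans zSub_le) omegaZ_elemAb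
  have hmod : Nat.card (omegaZ Q) ≡ 1 [MOD 3] :=
    card_modEq_one (omegaZ_conj hM.norm) n hd
      (fun x hx => hM.fpf x (zSub_le (omegaZ_le hx)))
  have hne : Nat.card (omegaZ Q) ≠ 1 := fun h => hM.omegaZ_ne_bot (Subgroup.card_eq_one.mp h)
  rw [hk] at hle hmod hne ⊢
  have hk2 : k ≤ 2 := by
    by_contra hcon
    push Not at hcon
    have : 2 ^ 3 ≤ 2 ^ k := Nat.pow_le_pow_right (by norm_num) hcon
    omega
  interval_cases k
  · exact absurd rfl hne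
  · exfalso; revert hmod; decide
  · rfl

/-- All involutions of `Q` lie in `Ω₁(Z(Q))`. -/
theorem MinSetup.invol_mem (hM : MinSetup d Q) (n : ℕ) (hd : d ^ 3 ^ n = 1) {t : X} (ht : t ∈ Q)
    (ht2 : t * t = 1) : t ∈ omegaZ Q := by
  by_contra hnot
  have ht2' : t ^ 2 = 1 := by rw [pow_two]; exact ht2
  have hcomm : ∀ z ∈ omegaZ Q, t * z = z * t := fun z hz => (mem_zSub.mp hz.1).2 t ht
  have h1 := Cfsg.Agent.Lib.Helper11.elemAb_sup_zpowers omegaZ_elemAb ht2' hcomm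
  have h2 := Cfsg.Agent.Lib.Helper11.card_sup_zpowers ht2' hnot hcomm
  have h3 : omegaZ Q ⊔ Subgroup.zpowers t ≤ Q :=
    sup_le (omegaZ_le.trans zSub_le) ((Subgroup.zpowers_le).mpr ht)
  have h4 := hM.rank _ h3 h1
  rw [h2, hM.card_omegaZ n hd] at h4
  omega

/-- `d ^ 3` centralizes `Ω₁(Z(Q))`. -/
theorem MinSetup.cube_omegaZ (hM : MinSetup d Q) (n : ℕ) (hd : d ^ 3 ^ n = 1) :
    ∀ z ∈ omegaZ Q, d ^ 3 * z * (d ^ 3)⁻¹ = z := by
  classical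
  set π := conjPermOn d (omegaZ Q : Set X) (omegaZ_conj hM.norm) with hπ
  have h1 : π ^ 3 ^ n = 1 := conjPermOn_pow_eq_one d _ _ _ hd
  have h2 : orderOf π ∣ 3 ^ n := orderOf_dvd_of_pow_eq_one h1
  have h3 : orderOf π ∣ Nat.card (Equiv.Perm (omegaZ Q : Set X)) := orderOf_dvd_natCard π
  have h4 : Nat.card (Equiv.Perm (omegaZ Q : Set X)) = 24 := by
    rw [Nat.card_perm]
    have : Nat.card (omegaZ Q : Set X) = 4 := hM.card_omegaZ n hd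
    rw [this]; rfl
  rw [h4] at h3
  obtain ⟨l, hl, hl2⟩ := (Nat.dvd_prime_pow Nat.prime_three).mp h2
  have h5 : l ≤ 1 := by
    by_contra hcon
    push Not at hcon
    have : 3 ^ 2 ∣ 3 ^ l := pow_dvd_pow 3 hcon
    rw [← hl2] at this
    have := this.trans h3
    omega
  have h6 : π ^ 3 = 1 := by
    apply orderOf_dvd_iff_pow_eq_one.mp
    rw [hl2]
    interval_cases l <;> simp
  intro z hz
  have := congrArg (fun τ : Equiv.Perm (omegaZ Q : Set X) => ((τ ⟨z, hz⟩ : (omegaZ Q : Set X)) : X)) h6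
  simp only [Equiv.Perm.coe_one, id_eq] at this
  rw [conjPermOn_pow] at this
  exact this

end minimal2

section cover

/-- `S` is covered by at most `m` left cosets of `E`. -/
def CoverBound (S : Set X) (E : Subgroup X) (m : ℕ) : Prop :=
  ∃ reps : Finset X, reps.card ≤ m ∧ ∀ w ∈ S, ∃ c ∈ reps, c⁻¹ * w ∈ E

theorem CoverBound.card_le {S : Set X} {E : Subgroup X} {m : ℕ} (h : CoverBound S E m) :
    Nat.card S ≤ m * Nat.card E := by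
  classical
  obtain ⟨reps, hm, hcov⟩ := h
  have hch : ∀ w : S, ∃ c : reps, (c : X)⁻¹ * w ∈ E := by
    intro w
    obtain ⟨c, hc, hcw⟩ := hcov w w.2
    exact ⟨⟨c, hc⟩, hcw⟩
  choose f hf using hch
  let g : S → reps × E := fun w => (f w, ⟨(f w : X)⁻¹ * w, hf w⟩)
  have hg : Function.Injective g := by
    intro w₁ w₂ h12
    have h1 : f w₁ = f w₂ := congrArg Prod.fst h12
    have h2 : (f w₁ : X)⁻¹ * w₁ = (f w₂ : X)⁻¹ * w₂ :=
      congrArg (fun p : reps × E => ((p.2 : E) : X)) h12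
    rw [h1] at h2
    exact Subtype.ext (mul_left_cancel h2)
  have h3 := Nat.card_le_card_of_injective g hg
  rw [Nat.card_prod] at h3
  have h4 : Nat.card reps = reps.card := by
    rw [Nat.card_eq_fintype_card, Fintype.card_coe]
  rw [h4] at h3
  exact h3.trans (Nat.mul_le_mul_right _ hm)

theorem CoverBound.mono {S : Set X} {E : Subgroup X} {m m' : ℕ} (h : CoverBound S E m)
    (hmm : m ≤ m') : CoverBound S E m' := by
  obtain ⟨reps, hm, hcov⟩ := h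
  exact ⟨reps, hm.trans hmm, hcov⟩

theorem CoverBound.self (E : Subgroup X) : CoverBound (E : Set X) E 1 :=
  ⟨{1}, by simp, fun w hw => ⟨1, by simp, by simpa using hw⟩⟩

theorem CoverBound.step {S T : Set X} {E : Subgroup X} {m : ℕ} (hT : CoverBound T E m) (a : X)
    (hS : ∀ w ∈ S, w ∈ T ∨ a⁻¹ * w ∈ T) : CoverBound S E (2 * m) := by
  classical
  obtain ⟨reps, hm, hcov⟩ := hT
  refine ⟨reps ∪ reps.image (fun c => a * c), ?_, ?_⟩
  · calc (reps ∪ reps.image (fun c => a * c)).card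
        ≤ reps.card + (reps.image (fun c => a * c)).card := Finset.card_union_le _ _
      _ ≤ reps.card + reps.card := Nat.add_le_add_left Finset.card_image_le _
      _ ≤ 2 * m := by omega
  · intro w hw
    rcases hS w hw with h | h
    · obtain ⟨c, hc, hcw⟩ := hcov w h
      exact ⟨c, Finset.mem_union_left _ hc, hcw⟩
    · obtain ⟨c, hc, hcw⟩ := hcov _ h
      refine ⟨a * c, Finset.mem_union_right _ (Finset.mem_image_of_mem _ hc), ?_⟩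
      have : (a * c)⁻¹ * w = c⁻¹ * (a⁻¹ * w) := by group
      rw [this]; exact hcw

/-- The "index at most two" step. -/
theorem exists_coset_rep (S : Set X) (φ : X → X) (A B : Set X)
    (h : ∀ w₁ ∈ S, ∀ w ∈ S, φ w₁ ∈ A → φ w₁ ∉ B → φ w ∈ A → φ w ∉ B →
      w₁⁻¹ * w ∈ S ∧ φ (w₁⁻¹ * w) ∈ B) :
    ∃ a : X, ∀ w ∈ {w | w ∈ S ∧ φ w ∈ A}, w ∈ {w | w ∈ S ∧ φ w ∈ B} ∨
      a⁻¹ * w ∈ {w | w ∈ S ∧ φ w ∈ B} := by
  by_cases hex : ∃ w₁ ∈ S, φ w₁ ∈ A ∧ φ w₁ ∉ B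
  · obtain ⟨w₁, hw₁, hA, hB⟩ := hex
    refine ⟨w₁, ?_⟩
    rintro w ⟨hw, hwA⟩
    by_cases hwB : φ w ∈ B
    · exact Or.inl ⟨hw, hwB⟩
    · exact Or.inr (h w₁ hw₁ w hw hA hB hwA hwB)
  · push Not at hex
    refine ⟨1, ?_⟩
    rintro w ⟨hw, hwA⟩
    exact Or.inl ⟨hw, hex w hw hwA⟩

end cover

section final

variable {d : X} {Q : Subgroup X}

/-- The abelian case is impossible. -/
theorem MinSetup.false_of_comm (hM : MinSetup d Q) (n : ℕ) (hd : d ^ 3 ^ n = 1)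
    (hab : ∀ x ∈ Q, ∀ y ∈ Q, x * y = y * x) : False := by
  apply hM.false_of_fixed n hd
  intro x hx
  apply hM.cube_omegaZ n hd
  apply hM.invol_mem n hd (hM.u_mem hx)
  have hsq : d ^ 3 * (x * x) * (d ^ 3)⁻¹ = x * x :=
    hM.min (sqSub Q) (sqSub_lt hM.pgrp hM.ne_bot) (sqSub_conj d hM.norm) _
      (Subgroup.subset_closure ⟨x, hx, rfl⟩)
  have hy : d ^ 3 * x * (d ^ 3)⁻¹ ∈ Q := hM.econj_mem x hx
  have hyy : (d ^ 3 * x * (d ^ 3)⁻¹) * (d ^ 3 * x * (d ^ 3)⁻¹) = x * x := by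
    rw [← hsq]; group
  calc x⁻¹ * (d ^ 3 * x * (d ^ 3)⁻¹) * (x⁻¹ * (d ^ 3 * x * (d ^ 3)⁻¹))
      = x⁻¹ * ((d ^ 3 * x * (d ^ 3)⁻¹) * x⁻¹) * (d ^ 3 * x * (d ^ 3)⁻¹) := by group
    _ = x⁻¹ * (x⁻¹ * (d ^ 3 * x * (d ^ 3)⁻¹)) * (d ^ 3 * x * (d ^ 3)⁻¹) := by
        rw [hab _ hy x⁻¹ (Q.inv_mem hx)]
    _ = (x * x)⁻¹ * ((d ^ 3 * x * (d ^ 3)⁻¹) * (d ^ 3 * x * (d ^ 3)⁻¹)) := by group
    _ = 1 := by rw [hyy]; group

theorem MinSetup.zSub_lt (hnab : ¬ ∀ x ∈ Q, ∀ y ∈ Q, x * y = y * x) : zSub Q < Q := by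
  refine lt_of_le_of_ne zSub_le ?_
  intro heq
  apply hnab
  intro x hx y hy
  have : y ∈ zSub Q := by rw [heq]; exact hy
  exact (mem_zSub.mp this).2 x hx

theorem MinSetup.cube_zSub (hM : MinSetup d Q)
    (hnab : ¬ ∀ x ∈ Q, ∀ y ∈ Q, x * y = y * x) :
    ∀ z ∈ zSub Q, d ^ 3 * z * (d ^ 3)⁻¹ = z :=
  hM.min _ (MinSetup.zSub_lt hnab) (zSub_conj hM.norm)

/-- The square of the commutator `u = x⁻¹ x^e` lies in `Ω₁(Z(Q))`. -/
theorem MinSetup.usq_mem (hM : MinSetup d Q) (n : ℕ) (hd : d ^ 3 ^ n = 1)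
    (hnab : ¬ ∀ x ∈ Q, ∀ y ∈ Q, x * y = y * x) {x : X} (hx : x ∈ Q) :
    (x⁻¹ * (d ^ 3 * x * (d ^ 3)⁻¹)) * (x⁻¹ * (d ^ 3 * x * (d ^ 3)⁻¹)) ∈ omegaZ Q := by
  set u := x⁻¹ * (d ^ 3 * x * (d ^ 3)⁻¹) with hu
  have huQ : u ∈ Q := hM.u_mem hx
  have hxu : x * u = d ^ 3 * x * (d ^ 3)⁻¹ := by rw [hu]; group
  have hsq : d ^ 3 * (x * x) * (d ^ 3)⁻¹ = x * x :=
    hM.cube_zSub hnab _ (hM.sq_mem_zSub n hd x hx)
  have h1 : (x * u) * (x * u) = x * x := by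
    rw [hxu, ← hsq]; group
  have h2 := mul_sq (hM.comm_mem_zSub n hd) hx huQ
  rw [h1] at h2
  have h3 : (u * u) * ⁅u, x⁆ = 1 := by
    have : x * x * 1 = x * x * (u * u * ⁅u, x⁆) := by rw [mul_one]; rw [← mul_assoc]; exact h2
    exact (mul_left_cancel this).symm
  have h4 : u * u = ⁅u, x⁆⁻¹ := eq_inv_of_mul_eq_one_left h3
  rw [h4]
  exact (omegaZ Q).inv_mem (hM.comm_mem_omegaZ n hd u huQ x hx)

/-- Case (i): every element of `Ω₁(Z(Q))` is a square in `Z(Q)`. -/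
theorem MinSetup.false_of_sqrt (hM : MinSetup d Q) (n : ℕ) (hd : d ^ 3 ^ n = 1)
    (hnab : ¬ ∀ x ∈ Q, ∀ y ∈ Q, x * y = y * x)
    (hsqrt : ∀ z ∈ omegaZ Q, ∃ w ∈ zSub Q, w * w = z) : False := by
  apply hM.false_of_fixed n hd
  intro x hx
  apply hM.cube_zSub hnab
  set u := x⁻¹ * (d ^ 3 * x * (d ^ 3)⁻¹) with hu
  have huQ : u ∈ Q := hM.u_mem hx
  obtain ⟨w, hw, hww0⟩ := hsqrt _ (hM.usq_mem n hd hnab hx)
  have hww : w * w = u * u := hww0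
  have hwc : u * w⁻¹ = w⁻¹ * u := (mem_zSub.mp ((zSub Q).inv_mem hw)).2 u huQ
  have h1 : (u * w⁻¹) * (u * w⁻¹) = 1 := by
    calc (u * w⁻¹) * (u * w⁻¹) = u * (w⁻¹ * u) * w⁻¹ := by group
      _ = u * (u * w⁻¹) * w⁻¹ := by rw [hwc]
      _ = (u * u) * (w * w)⁻¹ := by group
      _ = 1 := by rw [hww]; group
  have h2 : u * w⁻¹ ∈ omegaZ Q :=
    hM.invol_mem n hd (Q.mul_mem huQ (Q.inv_mem (zSub_le hw))) h1
  have h3 : u = (u * w⁻¹) * w := by group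
  rw [h3]
  exact (zSub Q).mul_mem (omegaZ_le h2) hw

/-- The dichotomy. -/
theorem MinSetup.sqrt_or_exp (hM : MinSetup d Q) (n : ℕ) (hd : d ^ 3 ^ n = 1) :
    (∀ z ∈ omegaZ Q, ∃ w ∈ zSub Q, w * w = z) ∨ (∀ w ∈ zSub Q, w * w = 1) := by
  have hZc : ∀ a ∈ zSub Q, ∀ b ∈ zSub Q, a * b = b * a := fun a ha b hb =>
    (mem_zSub.mp hb).2 a (zSub_le ha)
  let T : Subgroup X :=
    { carrier := {z | z ∈ omegaZ Q ∧ ∃ w ∈ zSub Q, w * w = z}
      one_mem' := ⟨(omegaZ Q).one_mem, 1, (zSub Q).one_mem, by simp⟩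
      mul_mem' := by
        rintro a b ⟨ha, w₁, hw₁, rfl⟩ ⟨hb, w₂, hw₂, rfl⟩
        refine ⟨(omegaZ Q).mul_mem ha hb, w₁ * w₂, (zSub Q).mul_mem hw₁ hw₂, ?_⟩
        calc w₁ * w₂ * (w₁ * w₂) = w₁ * (w₂ * w₁) * w₂ := by group
          _ = w₁ * (w₁ * w₂) * w₂ := by rw [hZc w₂ hw₂ w₁ hw₁]
          _ = _ := by group
      inv_mem' := by
        rintro a ⟨ha, w, hw, rfl⟩
        refine ⟨(omegaZ Q).inv_mem ha, w⁻¹, (zSub Q).inv_mem hw, ?_⟩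
        group }
  have hTle : T ≤ omegaZ Q := fun z hz => hz.1
  have hTd : ∀ z ∈ T, d * z * d⁻¹ ∈ T := by
    rintro z ⟨hz, w, hw, rfl⟩
    refine ⟨omegaZ_conj hM.norm _ hz, d * w * d⁻¹, zSub_conj hM.norm w hw, ?_⟩
    group
  have hTmod : Nat.card T ≡ 1 [MOD 3] :=
    card_modEq_one hTd n hd (fun x hx => hM.fpf x (zSub_le (omegaZ_le (hTle hx))))
  have hTdvd : Nat.card T ∣ 4 := by
    rw [← hM.card_omegaZ n hd]
    exact Subgroup.card_dvd_of_le hTle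
  have hT14 : Nat.card T = 1 ∨ Nat.card T = 4 := by
    have hle : Nat.card T ≤ 4 := Nat.le_of_dvd (by norm_num) hTdvd
    have hpos : 0 < Nat.card T := Nat.card_pos
    unfold Nat.ModEq at hTmod
    interval_cases h : Nat.card T <;> simp_all
  rcases hT14 with h1 | h4
  · right
    have hTbot : T = ⊥ := Subgroup.card_eq_one.mp h1
    have key : ∀ j : ℕ, ∀ w ∈ zSub Q, w ^ 2 ^ (j + 1) = 1 → w * w = 1 := by
      intro j
      induction j with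
      | zero => intro w _ hw1; rw [← pow_two]; simpa using hw1
      | succ j ih =>
        intro w hw hw1
        have h2 : (w * w) ^ 2 ^ (j + 1) = 1 := by
          rw [← pow_two, ← pow_mul, ← pow_succ']; exact hw1
        have h3 := ih (w * w) ((zSub Q).mul_mem hw hw) h2
        have h4 : w * w ∈ T := ⟨⟨(zSub Q).mul_mem hw hw, h3⟩, w, hw, rfl⟩
        rw [hTbot, Subgroup.mem_bot] at h4
        exact h4
    intro w hw
    obtain ⟨j, hj⟩ := (IsPGroup.iff_orderOf.mp hM.pgrp) ⟨w, zSub_le hw⟩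
    rw [Subgroup.orderOf_mk] at hj
    apply key j w hw
    have : w ^ 2 ^ j = 1 := by rw [← hj]; exact pow_orderOf_eq_one w
    rw [pow_succ, pow_mul, this, one_pow]
  · left
    have hTeq : T = omegaZ Q := by
      apply Subgroup.eq_of_le_of_card_ge hTle
      rw [h4, hM.card_omegaZ n hd]
    intro z hz
    have : z ∈ T := hTeq ▸ hz
    exact this.2

theorem comm_inv_mul {Q : Subgroup X} (hc : ∀ x ∈ Q, ∀ y ∈ Q, ⁅x, y⁆ ∈ zSub Q) {w₁ w x : X}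
    (h₁ : w₁ ∈ Q) (hw : w ∈ Q) (hx : x ∈ Q) : ⁅w₁⁻¹ * w, x⁆ = ⁅w₁, x⁆⁻¹ * ⁅w, x⁆ := by
  rw [comm_mul_left hc (Q.inv_mem h₁) hw hx]
  congr 1
  have h2 := comm_mul_left hc (Q.inv_mem h₁) h₁ hx
  rw [inv_mul_cancel, commutatorElement_one_left] at h2
  exact eq_inv_of_mul_eq_one_left h2.symm

/-- In the four-group `Ω₁(Z(Q))`, two elements outside `{1, a}` have product in `{1, a}`. -/
theorem MinSetup.four (hM : MinSetup d Q) (n : ℕ) (hd : d ^ 3 ^ n = 1) {a : X}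
    (ha : a ∈ omegaZ Q) (ha1 : a ≠ 1) {s t : X} (hs : s ∈ omegaZ Q) (ht : t ∈ omegaZ Q)
    (hs' : ¬ (s = 1 ∨ s = a)) (ht' : ¬ (t = 1 ∨ t = a)) : s * t = 1 ∨ s * t = a := by
  haveI : Fact (Nat.Prime 2) := ⟨Nat.prime_two⟩
  set a' : omegaZ Q := ⟨a, ha⟩ with ha'
  have ha2 : a' ^ 2 = 1 := by
    apply Subtype.ext
    rw [pow_two]; exact ha.2
  have ha'1 : a' ≠ 1 := fun h => ha1 (congrArg Subtype.val h)
  have hord : orderOf a' = 2 := orderOf_eq_prime ha2 ha'1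
  have hidx : (Subgroup.zpowers a').index = 2 := by
    have := (Subgroup.zpowers a').card_mul_index
    rw [Nat.card_zpowers, hord, hM.card_omegaZ n hd] at this
    omega
  have hmemB : ∀ z : omegaZ Q, z ∈ Subgroup.zpowers a' → (z : X) = 1 ∨ (z : X) = a := by
    intro z hz
    rcases Cfsg.Agent.Lib.Helper11.mem_zpowers_of_sq_eq_one ha2 hz with h | h
    · left; exact congrArg Subtype.val h
    · right; exact congrArg Subtype.val h
  have h1 : (⟨s, hs⟩ : omegaZ Q) ∉ Subgroup.zpowers a' := fun h => hs' (hmemB _ h)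
  have h2 : (⟨t, ht⟩ : omegaZ Q) ∉ Subgroup.zpowers a' := fun h => ht' (hmemB _ h)
  have h3 : (⟨s, hs⟩ : omegaZ Q) * ⟨t, ht⟩ ∈ Subgroup.zpowers a' := by
    rw [Subgroup.mul_mem_iff_of_index_two hidx]
    exact ⟨fun h => absurd h h1, fun h => absurd h h2⟩
  exact hmemB _ h3

/-- Case (ii): the centre of `Q` has exponent `2`; then `|Q| ≤ 128`. -/
theorem MinSetup.card_le_of_exp (hM : MinSetup d Q) (n : ℕ) (hd : d ^ 3 ^ n = 1)
    (hnab : ¬ ∀ x ∈ Q, ∀ y ∈ Q, x * y = y * x) (hexp : ∀ w ∈ zSub Q, w * w = 1) :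
    Nat.card Q ≤ 128 := by
  classical
  have hZO : ∀ w ∈ zSub Q, w ∈ omegaZ Q := fun w hw => ⟨hw, hexp w hw⟩
  have hcz := hM.comm_mem_zSub n hd
  have hco := hM.comm_mem_omegaZ n hd
  obtain ⟨x₀, hx₀, hx₀Z⟩ : ∃ x₀ ∈ Q, x₀ ∉ zSub Q := by
    by_contra hcon
    push Not at hcon
    exact (MinSetup.zSub_lt hnab).ne (le_antisymm zSub_le hcon)
  set a := x₀ * x₀ with ha_def
  have haO : a ∈ omegaZ Q := hZO _ (hM.sq_mem_zSub n hd x₀ hx₀)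
  have ha1 : a ≠ 1 := fun h => hx₀Z (omegaZ_le (hM.invol_mem n hd hx₀ h))
  have haa : a * a = 1 := haO.2
  have hinvO : ∀ s ∈ omegaZ Q, s⁻¹ = s := fun s hs => inv_eq_of_mul_eq_one_left hs.2
  have hbil : ∀ x ∈ Q, ∀ w₁ ∈ Q, ∀ w ∈ Q, ⁅w₁⁻¹ * w, x⁆ = ⁅w₁, x⁆ * ⁅w, x⁆ := by
    intro x hx w₁ h₁ w hw
    rw [comm_inv_mul hcz h₁ hw hx, hinvO _ (hco w₁ h₁ x hx)]
  have hfour : ∀ s ∈ omegaZ Q, ∀ t ∈ omegaZ Q, ¬ (s = 1 ∨ s = a) → ¬ (t = 1 ∨ t = a) →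
      (s * t = 1 ∨ s * t = a) := fun s hs t ht hs' ht' => hM.four n hd haO ha1 hs ht hs' ht'
  -- the centralizer of x₀ in Q
  let D : Set X := {w | w ∈ Q ∧ ⁅w, x₀⁆ ∈ ({1} : Set X)}
  let Q₁ : Set X := {w | w ∈ Q ∧ ⁅w, x₀⁆ ∈ ({1, a} : Set X)}
  have hDmem : ∀ w, w ∈ D ↔ w ∈ Q ∧ w * x₀ = x₀ * w := by
    intro w
    show w ∈ Q ∧ ⁅w, x₀⁆ ∈ ({1} : Set X) ↔ _
    rw [Set.mem_singleton_iff, commutatorElement_eq_one_iff_mul_comm]
  -- Step α : Q ⊆ Q₁ ∪ a₁ Q₁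
  obtain ⟨a₁, h₁⟩ := exists_coset_rep (Q : Set X) (fun w => ⁅w, x₀⁆) (omegaZ Q : Set X)
    ({1, a} : Set X) (by
      intro w₁ hw₁ w hw hA₁ hB₁ hA hB
      refine ⟨Q.mul_mem (Q.inv_mem hw₁) hw, ?_⟩
      show ⁅w₁⁻¹ * w, x₀⁆ ∈ ({1, a} : Set X)
      rw [hbil x₀ hx₀ w₁ hw₁ w hw]
      exact hfour _ hA₁ _ hA hB₁ hB)
  have hα : ∀ w ∈ (Q : Set X), w ∈ Q₁ ∨ a₁⁻¹ * w ∈ Q₁ :=
    fun w hw => h₁ w ⟨hw, hco w hw x₀ hx₀⟩
  -- Step β : Q₁ ⊆ D ∪ a₂ D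
  obtain ⟨a₂, h₂⟩ := exists_coset_rep (Q : Set X) (fun w => ⁅w, x₀⁆) ({1, a} : Set X)
    ({1} : Set X) (by
      intro w₁ hw₁ w hw hA₁ hB₁ hA hB
      refine ⟨Q.mul_mem (Q.inv_mem hw₁) hw, ?_⟩
      show ⁅w₁⁻¹ * w, x₀⁆ ∈ ({1} : Set X)
      rw [hbil x₀ hx₀ w₁ hw₁ w hw]
      have e1 : ⁅w₁, x₀⁆ = a := by
        rcases hA₁ with h | h
        · exact absurd h hB₁
        · exact h
      have e2 : ⁅w, x₀⁆ = a := by
        rcases hA with h | h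
        · exact absurd h hB
        · exact h
      rw [e1, e2]; exact haa)
  have hβ : ∀ w ∈ Q₁, w ∈ D ∨ a₂⁻¹ * w ∈ D := fun w hw => h₂ w hw
  -- cover of D
  let D₁ : Set X := {v | v ∈ omegaZ Q ∨ x₀⁻¹ * v ∈ omegaZ Q}
  have hD₁ : CoverBound D₁ (omegaZ Q) 2 :=
    (CoverBound.self (omegaZ Q)).step x₀ (fun v hv => hv)
  have hDmul : ∀ v ∈ D, ∀ w ∈ D, v * w ∈ D := by
    intro v hv w hw
    rw [hDmem] at hv hw ⊢
    refine ⟨Q.mul_mem hv.1 hw.1, ?_⟩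
    rw [mul_assoc, hw.2, ← mul_assoc, hv.2, mul_assoc]
  have hDinv : ∀ v ∈ D, v⁻¹ ∈ D := by
    intro v hv
    rw [hDmem] at hv ⊢
    refine ⟨Q.inv_mem hv.1, ?_⟩
    have := hv.2
    calc v⁻¹ * x₀ = v⁻¹ * (x₀ * v) * v⁻¹ := by group
      _ = v⁻¹ * (v * x₀) * v⁻¹ := by rw [this]
      _ = _ := by group
  -- squares of elements of D outside D₁
  have hsqD : ∀ v ∈ D, v ∉ D₁ → ¬ (v * v = 1 ∨ v * v = a) := by
    intro v hv hv₁ hsq
    rw [hDmem] at hv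
    rcases hsq with h | h
    · exact hv₁ (Or.inl (hM.invol_mem n hd hv.1 h))
    · apply hv₁
      right
      apply hM.invol_mem n hd (Q.mul_mem (Q.inv_mem hx₀) hv.1)
      have hc : v * x₀⁻¹ = x₀⁻¹ * v := by
        calc v * x₀⁻¹ = x₀⁻¹ * (x₀ * v) * x₀⁻¹ := by group
          _ = x₀⁻¹ * (v * x₀) * x₀⁻¹ := by rw [hv.2]
          _ = _ := by group
      calc x₀⁻¹ * v * (x₀⁻¹ * v) = x₀⁻¹ * (v * x₀⁻¹) * v := by group
        _ = x₀⁻¹ * (x₀⁻¹ * v) * v := by rw [hc]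
        _ = (x₀ * x₀)⁻¹ * (v * v) := by group
        _ = 1 := by rw [h, ha_def]; group
  have hDcov : CoverBound D (omegaZ Q) 8 := by
    by_cases hDD : ∀ w ∈ D, w ∈ D₁
    · exact (hD₁.step 1 (fun w hw => Or.inl (hDD w hw))).mono (by norm_num)
    · push Not at hDD
      obtain ⟨y, hyD, hy₁⟩ := hDD
      have hyQ : y ∈ Q := ((hDmem y).mp hyD).1
      let K : Set X := {w | w ∈ D ∧ ⁅w, y⁆ ∈ ({1, a} : Set X)}
      obtain ⟨a₃, h₃⟩ := exists_coset_rep D (fun w => ⁅w, y⁆) (omegaZ Q : Set X)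
        ({1, a} : Set X) (by
          intro w₁ hw₁ w hw hA₁ hB₁ hA hB
          refine ⟨hDmul _ (hDinv _ hw₁) _ hw, ?_⟩
          show ⁅w₁⁻¹ * w, y⁆ ∈ ({1, a} : Set X)
          rw [hbil y hyQ w₁ ((hDmem w₁).mp hw₁).1 w ((hDmem w).mp hw).1]
          exact hfour _ hA₁ _ hA hB₁ hB)
      have hγ : ∀ w ∈ D, w ∈ K ∨ a₃⁻¹ * w ∈ K :=
        fun w hw => h₃ w ⟨hw, hco w ((hDmem w).mp hw).1 y hyQ⟩
      have hδ : ∀ w ∈ K, w ∈ D₁ ∨ (y⁻¹)⁻¹ * w ∈ D₁ := by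
        rintro w ⟨hwD, hwy⟩
        rw [inv_inv]
        by_contra hcon
        push Not at hcon
        obtain ⟨hw₁, hyw₁⟩ := hcon
        have hwQ : w ∈ Q := ((hDmem w).mp hwD).1
        have h1 := hsqD y hyD hy₁
        have h2 := hsqD w hwD hw₁
        have h3 := hsqD (y * w) (hDmul y hyD w hwD) hyw₁
        apply h3
        rw [mul_sq hcz hyQ hwQ]
        have h4 := hfour _ (hZO _ (hM.sq_mem_zSub n hd y hyQ)) _
          (hZO _ (hM.sq_mem_zSub n hd w hwQ)) h1 h2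
        rcases h4 with h4 | h4 <;> rcases hwy with h5 | h5 <;> rw [h4, h5]
        · left; group
        · right; group
        · right; group
        · left; rw [haa]
      have hK : CoverBound K (omegaZ Q) 4 := hD₁.step y⁻¹ hδ
      exact hK.step a₃ hγ
  have hQ₁cov : CoverBound Q₁ (omegaZ Q) 16 := hDcov.step a₂ hβ
  have hQcov : CoverBound (Q : Set X) (omegaZ Q) 32 := hQ₁cov.step a₁ hα
  have := hQcov.card_le
  rw [hM.card_omegaZ n hd] at this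
  exact this

omit [Group X] [Finite X] in
theorem pow_two_check : ∀ i : ℕ, i ≤ 7 → ∀ j : ℕ, j ≤ i → 2 ≤ j → 2 ^ i % 3 = 1 →
    2 ^ j % 3 = 1 → 9 ∣ 2 ^ i - 2 ^ j → i = j := by
  intro i hi j hj
  interval_cases i <;> interval_cases j <;> omega

/-- Case (ii) is impossible. -/
theorem MinSetup.false_of_exp (hM : MinSetup d Q) (n : ℕ) (hd : d ^ 3 ^ n = 1)
    (hnab : ¬ ∀ x ∈ Q, ∀ y ∈ Q, x * y = y * x) (hexp : ∀ w ∈ zSub Q, w * w = 1) : False := by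
  classical
  have hcard := hM.card_le_of_exp n hd hnab hexp
  let F : Subgroup X :=
    { carrier := {x | x ∈ Q ∧ x⁻¹ * (d ^ 3 * x * (d ^ 3)⁻¹) ∈ zSub Q}
      one_mem' := ⟨Q.one_mem, by simpa using (zSub Q).one_mem⟩
      mul_mem' := by
        rintro x y ⟨hx, hux⟩ ⟨hy, huy⟩
        refine ⟨Q.mul_mem hx hy, ?_⟩
        have hc : y⁻¹ * (x⁻¹ * (d ^ 3 * x * (d ^ 3)⁻¹)) = (x⁻¹ * (d ^ 3 * x * (d ^ 3)⁻¹)) * y⁻¹ :=
          (mem_zSub.mp hux).2 y⁻¹ (Q.inv_mem hy)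
        have : (x * y)⁻¹ * (d ^ 3 * (x * y) * (d ^ 3)⁻¹) =
            (x⁻¹ * (d ^ 3 * x * (d ^ 3)⁻¹)) * (y⁻¹ * (d ^ 3 * y * (d ^ 3)⁻¹)) := by
          calc (x * y)⁻¹ * (d ^ 3 * (x * y) * (d ^ 3)⁻¹)
              = (y⁻¹ * (x⁻¹ * (d ^ 3 * x * (d ^ 3)⁻¹))) * (d ^ 3 * y * (d ^ 3)⁻¹) := by group
            _ = ((x⁻¹ * (d ^ 3 * x * (d ^ 3)⁻¹)) * y⁻¹) * (d ^ 3 * y * (d ^ 3)⁻¹) := by rw [hc]
            _ = _ := by group
        rw [this]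
        exact (zSub Q).mul_mem hux huy
      inv_mem' := by
        rintro x ⟨hx, hux⟩
        refine ⟨Q.inv_mem hx, ?_⟩
        have hc : x * (x⁻¹ * (d ^ 3 * x * (d ^ 3)⁻¹))⁻¹ = (x⁻¹ * (d ^ 3 * x * (d ^ 3)⁻¹))⁻¹ * x :=
          (mem_zSub.mp ((zSub Q).inv_mem hux)).2 x hx
        have : (x⁻¹)⁻¹ * (d ^ 3 * x⁻¹ * (d ^ 3)⁻¹) = (x⁻¹ * (d ^ 3 * x * (d ^ 3)⁻¹))⁻¹ := by
          calc (x⁻¹)⁻¹ * (d ^ 3 * x⁻¹ * (d ^ 3)⁻¹)
              = (x * (x⁻¹ * (d ^ 3 * x * (d ^ 3)⁻¹))⁻¹) * x⁻¹ := by group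
            _ = ((x⁻¹ * (d ^ 3 * x * (d ^ 3)⁻¹))⁻¹ * x) * x⁻¹ := by rw [hc]
            _ = _ := by group
        rw [this]
        exact (zSub Q).inv_mem hux }
  have hFQ : F ≤ Q := fun x hx => hx.1
  have hFmem : ∀ x, x ∈ F ↔ x ∈ Q ∧ x⁻¹ * (d ^ 3 * x * (d ^ 3)⁻¹) ∈ zSub Q := fun x => Iff.rfl
  have hFd : ∀ x ∈ F, d * x * d⁻¹ ∈ F := by
    rintro x ⟨hx, hux⟩
    refine ⟨hM.norm x hx, ?_⟩
    have : (d * x * d⁻¹)⁻¹ * (d ^ 3 * (d * x * d⁻¹) * (d ^ 3)⁻¹) =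
        d * (x⁻¹ * (d ^ 3 * x * (d ^ 3)⁻¹)) * d⁻¹ := by
      rw [← conj_cube_comm]; group
    rw [this]
    exact zSub_conj hM.norm _ hux
  have hOF : omegaZ Q ≤ F := by
    intro z hz
    refine ⟨zSub_le (omegaZ_le hz), ?_⟩
    rw [hM.cube_zSub hnab z (omegaZ_le hz), inv_mul_cancel]
    exact (zSub Q).one_mem
  -- the complement
  let S : Set X := (Q : Set X) \ (F : Set X)
  have hSd : ∀ x ∈ S, d * x * d⁻¹ ∈ S := by
    rintro x ⟨hx, hxF⟩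
    refine ⟨hM.norm x hx, ?_⟩
    intro hF
    apply hxF
    have := inv_conj_mem hFd hF
    have h2 : d⁻¹ * (d * x * d⁻¹) * d = x := by group
    rw [h2] at this
    exact this
  have hS3 : ∀ x ∈ S, d ^ 3 * x * (d ^ 3)⁻¹ ≠ x := by
    rintro x ⟨hx, hxF⟩ heq
    apply hxF
    refine ⟨hx, ?_⟩
    rw [heq, inv_mul_cancel]
    exact (zSub Q).one_mem
  have h9 : 9 ∣ Nat.card S := nine_dvd_card_of_cube_no_fixed d S hSd n hd hS3
  have hQmod : Nat.card Q ≡ 1 [MOD 3] := card_modEq_one hM.norm n hd hM.fpf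
  have hFmod : Nat.card F ≡ 1 [MOD 3] :=
    card_modEq_one hFd n hd (fun x hx => hM.fpf x (hFQ hx))
  have hsum : Nat.card S + Nat.card F = Nat.card Q := by
    have h1 : Nat.card S = S.ncard := Nat.card_coe_set_eq S
    have h2 : Nat.card F = (F : Set X).ncard := Nat.card_coe_set_eq (F : Set X)
    have h3 : Nat.card Q = (Q : Set X).ncard := Nat.card_coe_set_eq (Q : Set X)
    rw [h1, h2, h3]
    exact Set.ncard_sdiff_add_ncard_of_subset (fun x hx => hFQ hx)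
  obtain ⟨i, hi⟩ := IsPGroup.iff_card.mp hM.pgrp
  obtain ⟨j, hj⟩ := IsPGroup.iff_card.mp (hM.pgrp.to_le hFQ)
  have h4 : 4 ∣ Nat.card F := by
    rw [← hM.card_omegaZ n hd]
    exact Subgroup.card_dvd_of_le hOF
  have hji : Nat.card F ∣ Nat.card Q := Subgroup.card_dvd_of_le hFQ
  rw [hi] at hcard hQmod hsum hji
  rw [hj] at hFmod hsum h4 hji
  have hi7 : i ≤ 7 := by
    by_contra hcon
    push Not at hcon
    have : 2 ^ 8 ≤ 2 ^ i := Nat.pow_le_pow_right (by norm_num) hcon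
    omega
  have hji' : j ≤ i := (Nat.pow_dvd_pow_iff_le_right (by norm_num)).mp hji
  have hj2 : 2 ≤ j := by
    have : (2 : ℕ) ^ 2 ∣ 2 ^ j := h4
    exact (Nat.pow_dvd_pow_iff_le_right (by norm_num)).mp this
  have h9' : 9 ∣ 2 ^ i - 2 ^ j := by
    have : Nat.card S = 2 ^ i - 2 ^ j := by omega
    rw [← this]; exact h9
  have hij : i = j := pow_two_check i hi7 j hji' hj2 hQmod hFmod h9'
  have hFeq : F = Q := by
    apply Subgroup.eq_of_le_of_card_ge hFQ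
    rw [hi, hj, hij]
  apply hM.false_of_fixed n hd
  intro x hx
  have hxF : x ∈ F := by rw [hFeq]; exact hx
  exact hM.cube_zSub hnab _ hxF.2

/-- The minimal configuration does not exist. -/
theorem MinSetup.false (hM : MinSetup d Q) (n : ℕ) (hd : d ^ 3 ^ n = 1) : False := by
  by_cases hab : ∀ x ∈ Q, ∀ y ∈ Q, x * y = y * x
  · exact hM.false_of_comm n hd hab
  · rcases hM.sqrt_or_exp n hd with h | h
    · exact hM.false_of_sqrt n hd hab h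
    · exact hM.false_of_exp n hd hab h

/-- **Main theorem**: `d ^ 3` centralizes `P`. -/
theorem Setup.cube_central {P : Subgroup X} (hS : Setup d P) (n : ℕ) (hd : d ^ 3 ^ n = 1) :
    ∀ x ∈ P, d ^ 3 * x * (d ^ 3)⁻¹ = x := by
  by_contra hcon
  push Not at hcon
  let Bad : Set (Subgroup X) := {R | R ≤ P ∧ (∀ x ∈ R, d * x * d⁻¹ ∈ R) ∧
    ∃ x ∈ R, d ^ 3 * x * (d ^ 3)⁻¹ ≠ x}
  have hne : Bad.Nonempty := ⟨P, le_rfl, hS.norm, hcon⟩
  obtain ⟨Q, hQ, hmin⟩ := Set.exists_min_image Bad (fun R => Nat.card R) (Set.toFinite _) hne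
  have hM : MinSetup d Q :=
    { pgrp := hS.pgrp.to_le hQ.1
      norm := hQ.2.1
      fpf := fun x hx => hS.fpf x (hQ.1 hx)
      rank := fun A hA => hS.rank A (hA.trans hQ.1)
      notcent := hQ.2.2
      min := by
        intro R hR hRd
        by_contra hcon2
        push Not at hcon2
        have hRB : R ∈ Bad := ⟨hR.le.trans hQ.1, hRd, hcon2⟩
        have := hmin R hRB
        exact hR.ne (Subgroup.eq_of_le_of_card_ge hR.le this) }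
  exact hM.false n hd

end final

end Cfsg.Agent.Lib.Helper20.Rank2Fpf
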