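import Mathlib
import Cfsg.Prelude.Def_Transfer
import Cfsg.Agent.Lib.Helper11.ElemAb2
import Cfsg.Agent.Lib.Helper20.Rank2Fpf
import Cfsg.Agent.Lib.Helper1.TraceIdentity
import Cfsg.Agent.Lib.Helper1.Basic

/-!
# Groups of `2`-rank at most `2` with `F*(G) = O₂(G)`, an element of order `6` and a `3`-element
acting fixed-point-freely on an elementary abelian `2`-subgroup do not exist.
-/

set_option autoImplicit false

namespace Cfsg.Agent.Lib.Helper20.Rank2Six

open Cfsg.Agent.Lib.Helper20.ConjPerm Cfsg.Agent.Lib.Helper20.Rank2Fpf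

variable {G : Type*} [Group G] [Finite G]

/-- Fixed points of conjugation by a `p`-element on an invariant subgroup. -/
theorem card_fixed_modEq (p : ℕ) [Fact p.Prime] (d : G) (H : Subgroup G)
    (hH : ∀ x ∈ H, d * x * d⁻¹ ∈ H) (n : ℕ) (hd : d ^ p ^ n = 1) :
    Nat.card ↥(H ⊓ Subgroup.centralizer {d}) ≡ Nat.card H [MOD p] := by
  classical
  haveI : Fintype (H : Set G) := Fintype.ofFinite _
  set π := conjPermOn d (H : Set G) hH with hπ
  have h1 : π ^ p ^ n = 1 := conjPermOn_pow_eq_one d _ hH _ hd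
  have h2 := Equiv.Perm.card_compl_support_modEq h1
  have h3 : Nat.card ↥(H ⊓ Subgroup.centralizer {d}) = π.supportᶜ.card := by
    have hset : ((H ⊓ Subgroup.centralizer {d} : Subgroup G) : Set G) =
        Subtype.val '' ((π.supportᶜ : Finset (H : Set G)) : Set (H : Set G)) := by
      symm
      ext x
      simp only [Set.mem_image, Finset.mem_coe, Finset.mem_compl, Equiv.Perm.mem_support, not_not]
      constructor
      · rintro ⟨y, hy, rfl⟩
        have h4 := congrArg Subtype.val hy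
        rw [conjPermOn_apply] at h4
        refine Subgroup.mem_inf.mpr ⟨y.2, ?_⟩
        rw [Subgroup.mem_centralizer_iff]
        intro h hh
        rw [Set.mem_singleton_iff.mp hh]
        calc d * (y : G) = (d * (y : G) * d⁻¹) * d := by group
          _ = y * d := by rw [h4]
      · intro hx
        obtain ⟨hxH, hxC⟩ := Subgroup.mem_inf.mp hx
        refine ⟨⟨x, hxH⟩, ?_, rfl⟩
        apply Subtype.ext
        rw [conjPermOn_apply]
        rw [Subgroup.mem_centralizer_iff] at hxC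
        have := hxC d rfl
        show d * x * d⁻¹ = x
        rw [this]; group
    rw [← Set.ncard_coe_finset, ← Set.ncard_image_of_injective _ Subtype.val_injective, ← hset]
    rfl
  rw [h3]
  have h5 : Nat.card H = Fintype.card (H : Set G) := Nat.card_eq_fintype_card
  rw [h5]
  exact h2

/-- A `2`-group of order at most `4`, nontrivial, of order `≡ 1 mod 3`, has order `4`. -/
theorem card_eq_four_of {H : Subgroup G} (hH : IsPGroup 2 H) (hle : Nat.card H ≤ 4) (hne : H ≠ ⊥)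
    (hmod : Nat.card H ≡ 1 [MOD 3]) : Nat.card H = 4 := by
  obtain ⟨k, hk⟩ := IsPGroup.iff_card.mp hH
  have hne1 : Nat.card H ≠ 1 := fun h => hne (Subgroup.card_eq_one.mp h)
  rw [hk] at hle hmod hne1 ⊢
  have hk2 : k ≤ 2 := by
    by_contra hcon
    push Not at hcon
    have : 2 ^ 3 ≤ 2 ^ k := Nat.pow_le_pow_right (by norm_num) hcon
    omega
  interval_cases k
  · exact absurd rfl hne1
  · exfalso; revert hmod; decide
  · rfl

omit [Finite G] in
theorem exists_invol_pow {x : G} {m : ℕ} (hx : orderOf x = 2 ^ m) (hx1 : x ≠ 1) :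
    ∃ k : ℕ, x ^ k ≠ 1 ∧ x ^ k * x ^ k = 1 := by
  have hm : m ≠ 0 := by
    rintro rfl
    rw [pow_zero, orderOf_eq_one_iff] at hx
    exact hx1 hx
  obtain ⟨m', rfl⟩ := Nat.exists_eq_succ_of_ne_zero hm
  refine ⟨2 ^ m', ?_, ?_⟩
  · apply pow_ne_one_of_lt_orderOf (by positivity)
    rw [hx]; exact Nat.pow_lt_pow_right (by norm_num) (Nat.lt_succ_self _)
  · rw [← pow_add, ← two_mul, ← pow_succ', ← hx]; exact pow_orderOf_eq_one x

/-- general version of `omegaZ_ne_bot`. -/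
theorem omegaZ_ne_bot_of {Q : Subgroup G} (hQ : IsPGroup 2 Q) (hne : Q ≠ ⊥) : omegaZ Q ≠ ⊥ := by
  haveI : Nontrivial Q := (Subgroup.nontrivial_iff_ne_bot Q).mpr hne
  haveI := hQ.center_nontrivial
  obtain ⟨c, hc⟩ := exists_ne (1 : Subgroup.center Q)
  have hzmem : ((c : Q) : G) ∈ zSub Q := by
    rw [mem_zSub]
    refine ⟨(c : Q).2, ?_⟩
    intro x hx
    have := Subgroup.mem_center_iff.mp c.2 ⟨x, hx⟩
    exact congrArg Subtype.val this
  have hzne : zSub Q ≠ ⊥ := by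
    intro h
    rw [h, Subgroup.mem_bot] at hzmem
    apply hc
    exact Subtype.ext (Subtype.ext hzmem)
  have hzp : IsPGroup 2 (zSub Q) := hQ.to_le zSub_le
  obtain ⟨k, hk⟩ := IsPGroup.iff_card.mp hzp
  have hk0 : k ≠ 0 := by
    rintro rfl
    rw [pow_zero] at hk
    exact hzne (Subgroup.card_eq_one.mp hk)
  have hdvd : 2 ∣ Nat.card (zSub Q) := by rw [hk]; exact dvd_pow_self 2 hk0
  obtain ⟨t, ht⟩ := exists_prime_orderOf_dvd_card' 2 hdvd
  intro hbot
  have h1 : (t : G) ∈ omegaZ Q := by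
    refine ⟨t.2, ?_⟩
    have := pow_orderOf_eq_one t
    rw [ht, pow_two] at this
    exact congrArg Subtype.val this
  rw [hbot, Subgroup.mem_bot] at h1
  have : t = 1 := Subtype.ext h1
  rw [this, orderOf_one] at ht
  exact absurd ht (by norm_num)

/-- The hypotheses. -/
structure Hyp (Q W : Subgroup G) (d : G) (n : ℕ) : Prop where
  normal : Q.Normal
  pgrp : IsPGroup 2 Q
  selfc : Subgroup.centralizer (Q : Set G) ≤ Q
  rank : ∀ A : Subgroup G, Cfsg.IsElementaryAbelian 2 A → Nat.card A ≤ 4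
  hd : d ^ 3 ^ n = 1
  elem : Cfsg.IsElementaryAbelian 2 W
  ne : W ≠ ⊥
  norm : ∀ w ∈ W, d * w * d⁻¹ ∈ W
  fpf : ∀ w ∈ W, d * w * d⁻¹ = w → w = 1

section hyp

variable {Q W : Subgroup G} {d : G} {n : ℕ}

theorem Hyp.pgrpW (h : Hyp Q W d n) : IsPGroup 2 W := by
  intro w
  refine ⟨1, Subtype.ext ?_⟩
  have := h.elem.2 (w : G) w.2
  simpa using this

theorem Hyp.card_W (h : Hyp Q W d n) : Nat.card W = 4 :=
  card_eq_four_of h.pgrpW (h.rank W h.elem) h.ne (card_modEq_one h.norm n h.hd h.fpf)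

/-- Involutions centralizing `W` lie in `W`. -/
theorem Hyp.invol_mem (h : Hyp Q W d n) {s : G} (hs : s * s = 1) (hc : ∀ w ∈ W, s * w = w * s) :
    s ∈ W := by
  by_contra hnot
  have hs2 : s ^ 2 = 1 := by rw [pow_two]; exact hs
  have h1 := Cfsg.Agent.Lib.Helper11.elemAb_sup_zpowers h.elem hs2 hc
  have h2 := Cfsg.Agent.Lib.Helper11.card_sup_zpowers hs2 hnot hc
  have h4 := h.rank _ h1
  rw [h2, h.card_W] at h4
  omega

theorem Hyp.W_eq_aux (h : Hyp Q W d n) : W = omegaZ (W ⊔ Q) := by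
  haveI := h.normal
  set R := W ⊔ Q with hR
  have hR2 : IsPGroup 2 R := IsPGroup.to_sup_of_normal_right h.pgrpW h.pgrp
  have hWR : W ≤ R := le_sup_left
  have hRne : R ≠ ⊥ := fun hb => h.ne (le_bot_iff.mp (hb ▸ hWR))
  have hRd : ∀ x ∈ R, d * x * d⁻¹ ∈ R := by
    intro x hx
    obtain ⟨w, hw, q, hq, rfl⟩ := Subgroup.mem_sup_of_normal_right.mp hx
    have : d * (w * q) * d⁻¹ = (d * w * d⁻¹) * (d * q * d⁻¹) := by group
    rw [this]
    exact R.mul_mem (hWR (h.norm w hw)) (le_sup_right (a := W) (h.normal.conj_mem q hq d))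
  have hZW : omegaZ R ≤ W := by
    intro z hz
    apply h.invol_mem hz.2
    intro w hw
    exact ((mem_zSub.mp hz.1).2 w (hWR hw)).symm
  have hZne : omegaZ R ≠ ⊥ := omegaZ_ne_bot_of hR2 hRne
  have hZ4 : Nat.card (omegaZ R) = 4 :=
    card_eq_four_of (hR2.to_le (omegaZ_le.trans zSub_le)) (h.rank _ omegaZ_elemAb) hZne
      (card_modEq_one (omegaZ_conj hRd) n h.hd (fun x hx => h.fpf x (hZW hx)))
  exact (Subgroup.eq_of_le_of_card_ge hZW (by rw [hZ4, h.card_W])).symm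

theorem Hyp.W_le (h : Hyp Q W d n) : W ≤ Q := by
  intro w hw
  apply h.selfc
  rw [Subgroup.mem_centralizer_iff]
  intro q hq
  have hw' : w ∈ omegaZ (W ⊔ Q) := by rw [← h.W_eq_aux]; exact hw
  exact (mem_zSub.mp hw'.1).2 q (le_sup_right (a := W) hq)

theorem Hyp.W_eq (h : Hyp Q W d n) : W = omegaZ Q := by
  have h1 := h.W_eq_aux
  have h2 : W ⊔ Q = Q := sup_eq_right.mpr h.W_le
  rw [h2] at h1
  exact h1

theorem Hyp.W_conj (h : Hyp Q W d n) (g : G) : ∀ w ∈ W, g * w * g⁻¹ ∈ W := by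
  intro w hw
  rw [h.W_eq] at hw ⊢
  exact omegaZ_conj (fun x hx => h.normal.conj_mem x hx g) w hw

theorem Hyp.Q_comm (h : Hyp Q W d n) : ∀ x ∈ Q, ∀ w ∈ W, x * w = w * x := by
  intro x hx w hw
  rw [h.W_eq] at hw
  exact (mem_zSub.mp hw.1).2 x hx

theorem Hyp.invol_Q (h : Hyp Q W d n) {x : G} (hx : x ∈ Q) (hx2 : x * x = 1) : x ∈ W :=
  h.invol_mem hx2 (h.Q_comm x hx)

/-- An element acting fixed-point-freely on `W` acts fixed-point-freely on `Q`. -/
theorem Hyp.fpfQ (h : Hyp Q W d n) (a : G) (ha : ∀ w ∈ W, a * w * a⁻¹ = w → w = 1) :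
    ∀ x ∈ Q, a * x * a⁻¹ = x → x = 1 := by
  intro x hx hfix
  by_contra hx1
  obtain ⟨m, hm⟩ := (IsPGroup.iff_orderOf.mp h.pgrp) ⟨x, hx⟩
  rw [Subgroup.orderOf_mk] at hm
  obtain ⟨k, hk1, hk2⟩ := exists_invol_pow hm hx1
  apply hk1
  apply ha _ (h.invol_Q (Q.pow_mem hx k) hk2)
  rw [← conj_pow, hfix]

theorem Hyp.setup (h : Hyp Q W d n) : Setup d Q where
  pgrp := h.pgrp
  norm := fun x hx => h.normal.conj_mem x hx d
  fpf := h.fpfQ d h.fpf
  rank := fun A _ hA => h.rank A hA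

theorem Hyp.not_mem_of_orderOf (h : Hyp Q W d n) {c : G} {k : ℕ} (hc : c ^ 3 ^ k = 1) (hcQ : c ∈ Q) :
    c = 1 := by
  obtain ⟨m, hm⟩ := (IsPGroup.iff_orderOf.mp h.pgrp) ⟨c, hcQ⟩
  rw [Subgroup.orderOf_mk] at hm
  have h1 : orderOf c ∣ 3 ^ k := orderOf_dvd_of_pow_eq_one hc
  rw [hm] at h1
  have hcop : Nat.Coprime (2 ^ m) (3 ^ k) := Nat.Coprime.pow _ _ (by norm_num)
  have := Nat.Coprime.eq_one_of_dvd hcop h1
  rw [← hm] at this
  exact orderOf_eq_one_iff.mp this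

theorem Hyp.cube (h : Hyp Q W d n) : d ^ 3 = 1 := by
  apply h.not_mem_of_orderOf (k := n) (cube_pow n h.hd)
  apply h.selfc
  rw [Subgroup.mem_centralizer_iff]
  intro q hq
  have := h.setup.cube_central n h.hd q hq
  calc q * d ^ 3 = (d ^ 3 * q * (d ^ 3)⁻¹) * d ^ 3 := by rw [this]
    _ = d ^ 3 * q := by group

end hyp

section hyp2

variable {Q W : Subgroup G} {d : G} {n : ℕ}

/-- An element of order `3` commuting with an involution centralizes `W`. -/
theorem Hyp.cent_of_six (h : Hyp Q W d n) {x t : G} (hx : x ^ 3 = 1) (ht : t * t = 1)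
    (ht1 : t ≠ 1) (hxt : x * t = t * x) : ∀ w ∈ W, x * w * x⁻¹ = w := by
  haveI : Fact (Nat.Prime 3) := ⟨Nat.prime_three⟩
  haveI : Fact (Nat.Prime 2) := ⟨Nat.prime_two⟩
  have hx' : x ^ 3 ^ 1 = 1 := by simpa using hx
  set CX := W ⊓ Subgroup.centralizer {x} with hCX
  have h1 : Nat.card CX ≡ Nat.card W [MOD 3] := card_fixed_modEq 3 x W (h.W_conj x) 1 hx'
  rw [h.card_W] at h1
  have hCXle : CX ≤ W := inf_le_left
  have hmemCX : ∀ w ∈ W, x * w * x⁻¹ = w → w ∈ CX := by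
    intro w hw hfix
    refine Subgroup.mem_inf.mpr ⟨hw, ?_⟩
    rw [Subgroup.mem_centralizer_iff]
    intro y hy
    rw [Set.mem_singleton_iff.mp hy]
    calc x * w = (x * w * x⁻¹) * x := by group
      _ = w * x := by rw [hfix]
  by_cases hbot : CX = ⊥
  · exfalso
    have hxfpf : ∀ w ∈ W, x * w * x⁻¹ = w → w = 1 := by
      intro w hw hfix
      have := hmemCX w hw hfix
      rw [hbot, Subgroup.mem_bot] at this
      exact this
    set CT := W ⊓ Subgroup.centralizer {t} with hCT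
    have ht' : t ^ 2 ^ 1 = 1 := by rw [pow_one, pow_two]; exact ht
    have h2 : Nat.card CT ≡ Nat.card W [MOD 2] := card_fixed_modEq 2 t W (h.W_conj t) 1 ht'
    rw [h.card_W] at h2
    have hCTne : CT ≠ ⊥ := by
      intro hb
      rw [hb, Subgroup.card_bot] at h2
      revert h2; decide
    have hxt' : t * x⁻¹ = x⁻¹ * t := by
      calc t * x⁻¹ = x⁻¹ * (x * t) * x⁻¹ := by group
        _ = x⁻¹ * (t * x) * x⁻¹ := by rw [hxt]
        _ = _ := by group
    have hCTx : ∀ w ∈ CT, x * w * x⁻¹ ∈ CT := by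
      intro w hw
      obtain ⟨hwW, hwC⟩ := Subgroup.mem_inf.mp hw
      refine Subgroup.mem_inf.mpr ⟨h.W_conj x w hwW, ?_⟩
      rw [Subgroup.mem_centralizer_iff] at hwC ⊢
      intro y hy
      rw [Set.mem_singleton_iff.mp hy]
      have h3 : t * w = w * t := hwC t rfl
      calc t * (x * w * x⁻¹) = (t * x) * w * x⁻¹ := by group
        _ = (x * t) * w * x⁻¹ := by rw [hxt]
        _ = x * (t * w) * x⁻¹ := by group
        _ = x * (w * t) * x⁻¹ := by rw [h3]
        _ = x * w * (t * x⁻¹) := by group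
        _ = x * w * (x⁻¹ * t) := by rw [hxt']
        _ = x * w * x⁻¹ * t := by group
    have hCTle : Nat.card CT ≤ 4 := by
      rw [← h.card_W]; exact Subgroup.card_le_of_le inf_le_left
    have h4 : Nat.card CT = 4 :=
      card_eq_four_of (h.pgrpW.to_le inf_le_left) hCTle hCTne
        (card_modEq_one hCTx 1 hx' (fun w hw => hxfpf w (inf_le_left (a := W) hw)))
    have hCTeq : CT = W := Subgroup.eq_of_le_of_card_ge inf_le_left (by rw [h4, h.card_W])
    have htW : t ∈ W := by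
      apply h.invol_mem ht
      intro w hw
      have hw' : w ∈ CT := by rw [hCTeq]; exact hw
      exact (Subgroup.mem_centralizer_iff.mp (Subgroup.mem_inf.mp hw').2) t rfl
    apply ht1
    apply hxfpf t htW
    rw [hxt]; group
  · have hCXle4 : Nat.card CX ≤ 4 := by
      rw [← h.card_W]; exact Subgroup.card_le_of_le inf_le_left
    have h4 : Nat.card CX = 4 :=
      card_eq_four_of (h.pgrpW.to_le inf_le_left) hCXle4 hbot
        (h1.trans (by decide : 4 ≡ 1 [MOD 3]))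
    have hCXeq : CX = W := Subgroup.eq_of_le_of_card_ge inf_le_left (by rw [h4, h.card_W])
    intro w hw
    have hw' : w ∈ CX := by rw [hCXeq]; exact hw
    have := (Subgroup.mem_centralizer_iff.mp (Subgroup.mem_inf.mp hw').2) x rfl
    rw [this]; group

/-- There is an element of order `3` centralizing `W` and commuting with `d`. -/
theorem Hyp.exists_c (h : Hyp Q W d n) {x : G} (hx : orderOf x = 3)
    (hxW : ∀ w ∈ W, x * w * x⁻¹ = w) :
    ∃ c : G, orderOf c = 3 ∧ (∀ w ∈ W, c * w * c⁻¹ = w) ∧ c * d = d * c := by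
  haveI : Fact (Nat.Prime 3) := ⟨Nat.prime_three⟩
  have hdp : IsPGroup 3 (Subgroup.zpowers d) := by
    intro y
    refine ⟨n, Subtype.ext ?_⟩
    obtain ⟨k, hk⟩ := Subgroup.mem_zpowers_iff.mp y.2
    show ((y : G)) ^ 3 ^ n = 1
    rw [← hk, ← zpow_natCast, ← zpow_mul, mul_comm, zpow_mul, zpow_natCast, h.hd, one_zpow]
  have hx3 : x ^ 3 = 1 := by rw [← hx]; exact pow_orderOf_eq_one x
  have hxp : IsPGroup 3 (Subgroup.zpowers x) := by
    intro y
    refine ⟨1, Subtype.ext ?_⟩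
    obtain ⟨k, hk⟩ := Subgroup.mem_zpowers_iff.mp y.2
    show ((y : G)) ^ 3 ^ 1 = 1
    rw [pow_one, ← hk, ← zpow_natCast, ← zpow_mul, mul_comm, zpow_mul, zpow_natCast, hx3, one_zpow]
  obtain ⟨T, hT⟩ := hdp.exists_le_sylow
  obtain ⟨T', hT'⟩ := hxp.exists_le_sylow
  obtain ⟨g, hg⟩ := MulAction.exists_smul_eq G T' T
  set c₀ := g * x * g⁻¹ with hc₀
  have hgx : c₀ ∈ (T : Subgroup G) := by
    rw [← hg, Cfsg.Agent.Lib.Helper1.mem_sylow_smul_iff]
    have : g⁻¹ * c₀ * g = x := by rw [hc₀]; group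
    rw [this]
    exact hT' (Subgroup.mem_zpowers x)
  have hc₀W : ∀ w ∈ W, c₀ * w * c₀⁻¹ = w := by
    intro w hw
    have h1 : g⁻¹ * w * g ∈ W := by simpa using h.W_conj g⁻¹ w hw
    have h2 := hxW _ h1
    calc c₀ * w * c₀⁻¹ = g * (x * (g⁻¹ * w * g) * x⁻¹) * g⁻¹ := by rw [hc₀]; group
      _ = g * (g⁻¹ * w * g) * g⁻¹ := by rw [h2]
      _ = w := by group
  have hc₀1 : c₀ ≠ 1 := by
    intro h1
    have h2 : x = g⁻¹ * c₀ * g := by rw [hc₀]; group
    have h3 : x = 1 := by rw [h2, h1]; group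
    rw [h3, orderOf_one] at hx
    omega
  set T₀ : Subgroup G := (T : Subgroup G) ⊓ Subgroup.centralizer (W : Set G) with hT₀
  have hc₀T₀ : c₀ ∈ T₀ := by
    refine Subgroup.mem_inf.mpr ⟨hgx, ?_⟩
    rw [Subgroup.mem_centralizer_iff]
    intro w hw
    have := hc₀W w hw
    calc w * c₀ = (c₀ * w * c₀⁻¹) * c₀ := by rw [this]
      _ = c₀ * w := by group
  have hT₀ne : T₀ ≠ ⊥ := by
    intro hb
    rw [hb, Subgroup.mem_bot] at hc₀T₀
    exact hc₀1 hc₀T₀
  have hT₀p : IsPGroup 3 T₀ := T.isPGroup'.to_le inf_le_left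
  have hdT : d ∈ (T : Subgroup G) := hT (Subgroup.mem_zpowers d)
  have hT₀d : ∀ y ∈ T₀, d * y * d⁻¹ ∈ T₀ := by
    intro y hy
    obtain ⟨hyT, hyC⟩ := Subgroup.mem_inf.mp hy
    refine Subgroup.mem_inf.mpr ⟨(T : Subgroup G).mul_mem ((T : Subgroup G).mul_mem hdT hyT)
      ((T : Subgroup G).inv_mem hdT), ?_⟩
    rw [Subgroup.mem_centralizer_iff] at hyC ⊢
    intro w hw
    have h1 : d⁻¹ * w * d ∈ W := by simpa using h.W_conj d⁻¹ w hw
    have h2 := hyC _ h1
    calc w * (d * y * d⁻¹) = d * ((d⁻¹ * w * d) * y) * d⁻¹ := by group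
      _ = d * (y * (d⁻¹ * w * d)) * d⁻¹ := by rw [h2]
      _ = d * y * d⁻¹ * w := by group
  have h1 : Nat.card ↥(T₀ ⊓ Subgroup.centralizer {d}) ≡ Nat.card T₀ [MOD 3] :=
    card_fixed_modEq 3 d T₀ hT₀d n h.hd
  obtain ⟨k, hk⟩ := IsPGroup.iff_card.mp hT₀p
  have hk0 : k ≠ 0 := by
    rintro rfl
    rw [pow_zero] at hk
    exact hT₀ne (Subgroup.card_eq_one.mp hk)
  have h3 : 3 ∣ Nat.card ↥(T₀ ⊓ Subgroup.centralizer {d}) := by
    have : 3 ∣ Nat.card T₀ := by rw [hk]; exact dvd_pow_self 3 hk0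
    exact (Nat.modEq_zero_iff_dvd.mp (h1.trans (Nat.modEq_zero_iff_dvd.mpr this)))
  obtain ⟨c, hc⟩ := exists_prime_orderOf_dvd_card' 3 h3
  refine ⟨(c : G), ?_, ?_, ?_⟩
  · rw [Subgroup.orderOf_coe]; exact hc
  · intro w hw
    have := (Subgroup.mem_centralizer_iff.mp
      (Subgroup.mem_inf.mp (Subgroup.mem_inf.mp c.2).1).2) w hw
    rw [← this]; group
  · have := (Subgroup.mem_centralizer_iff.mp (Subgroup.mem_inf.mp c.2).2) d rfl
    exact this.symm

/-- Such an element cannot exist. -/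
theorem Hyp.false_of_c (h : Hyp Q W d n) {c : G} (hc : orderOf c = 3)
    (hcW : ∀ w ∈ W, c * w * c⁻¹ = w) (hcd : c * d = d * c) : False := by
  haveI := h.normal
  haveI : Fact (Nat.Prime 3) := ⟨Nat.prime_three⟩
  haveI : Fact (Nat.Prime 2) := ⟨Nat.prime_two⟩
  set α : MulAut Q := MulAut.conjNormal d with hα
  set β : MulAut Q := MulAut.conjNormal c with hβ
  have hαβ : α * β = β * α := by rw [hα, hβ, ← map_mul, ← map_mul, hcd]
  have hα3 : α ^ 3 = 1 := by rw [hα, ← map_pow, h.cube, map_one]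
  have hc3 : c ^ 3 = 1 := by rw [← hc]; exact pow_orderOf_eq_one c
  have hβ3 : β ^ 3 = 1 := by rw [hβ, ← map_pow, hc3, map_one]
  have htop := Cfsg.Agent.Lib.Helper1.iSup_fixSub_eq_top (K := Q) h.pgrp
    (by norm_num : (3 : ℕ) ≠ 2) α β hαβ hα3 hβ3
  have hfix : ∀ j : ℕ, Cfsg.Agent.Lib.Helper1.fixSub (α * β ^ j) = ⊥ := by
    intro j
    rw [eq_bot_iff]
    intro y hy
    rw [Cfsg.Agent.Lib.Helper1.mem_fixSub] at hy
    rw [Subgroup.mem_bot]
    have hy' : (d * c ^ j) * (y : G) * (d * c ^ j)⁻¹ = y := by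
      have h1 : α * β ^ j = MulAut.conjNormal (d * c ^ j) := by rw [hα, hβ, map_mul, map_pow]
      rw [h1] at hy
      have := congrArg Subtype.val hy
      rw [MulAut.conjNormal_apply] at this
      exact this
    apply Subtype.ext
    apply h.fpfQ (d * c ^ j) ?_ y y.2 hy'
    intro w hw hfixw
    apply h.fpf w hw
    have hcomm : Commute c w := by
      show c * w = w * c
      calc c * w = (c * w * c⁻¹) * c := by group
        _ = w * c := by rw [hcW w hw]
    have hcj : c ^ j * w = w * c ^ j := (hcomm.pow_left j).eq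
    calc d * w * d⁻¹ = d * (w * c ^ j) * (c ^ j)⁻¹ * d⁻¹ := by group
      _ = d * (c ^ j * w) * (c ^ j)⁻¹ * d⁻¹ := by rw [← hcj]
      _ = (d * c ^ j) * w * (d * c ^ j)⁻¹ := by group
      _ = w := hfixw
  have hβtop : Cfsg.Agent.Lib.Helper1.fixSub β = ⊤ := by
    have : (⨆ j : ℕ, Cfsg.Agent.Lib.Helper1.fixSub (α * β ^ j)) = ⊥ := by simp [hfix]
    rw [this, bot_sup_eq] at htop
    exact htop
  have hcQ : c ∈ Q := by
    apply h.selfc
    rw [Subgroup.mem_centralizer_iff]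
    intro q hq
    have hmem : (⟨q, hq⟩ : Q) ∈ Cfsg.Agent.Lib.Helper1.fixSub β := by rw [hβtop]; trivial
    rw [Cfsg.Agent.Lib.Helper1.mem_fixSub] at hmem
    have h2 : c * q * c⁻¹ = q := by
      have := congrArg Subtype.val hmem
      simpa [hβ, MulAut.conjNormal_apply] using this
    calc q * c = (c * q * c⁻¹) * c := by rw [h2]
      _ = c * q := by group
  have hc1 : c = 1 := h.not_mem_of_orderOf (k := 1) (by simpa using hc3) hcQ
  rw [hc1, orderOf_one] at hc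
  omega

/-- **Main theorem.** -/
theorem Hyp.false (h : Hyp Q W d n) {g : G} (hg : orderOf g = 6) : False := by
  haveI : Fact (Nat.Prime 3) := ⟨Nat.prime_three⟩
  have h6 : g ^ 6 = 1 := by rw [← hg]; exact pow_orderOf_eq_one g
  have hx3 : (g ^ 2) ^ 3 = 1 := by rw [← pow_mul]; exact h6
  have ht2 : g ^ 3 * g ^ 3 = 1 := by rw [← pow_add]; exact h6
  have ht1 : g ^ 3 ≠ 1 := pow_ne_one_of_lt_orderOf (by norm_num) (by rw [hg]; norm_num)
  have hx1 : g ^ 2 ≠ 1 := pow_ne_one_of_lt_orderOf (by norm_num) (by rw [hg]; norm_num)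
  have hxt : g ^ 2 * g ^ 3 = g ^ 3 * g ^ 2 := by rw [← pow_add, ← pow_add]
  have hxo : orderOf (g ^ 2) = 3 := orderOf_eq_prime hx3 hx1
  have hxW := h.cent_of_six hx3 ht2 ht1 hxt
  obtain ⟨c, hc, hcW, hcd⟩ := h.exists_c hxo hxW
  exact h.false_of_c hc hcW hcd

end hyp2

end Cfsg.Agent.Lib.Helper20.Rank2Six
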