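import Mathlib
import Cfsg.Prelude.Def_Blocks
import Cfsg.Agent.Lib.Helper4.RealExtDefs

/-!
# S4580 leaf (A) (planner helper4): conjugation calculus for central characters and blocks.
`ω_χ̄(g) = ω_χ(g⁻¹)`, so complex conjugation permutes the blocks relative to the SAME ideal `M`.
-/

set_option autoImplicit false

namespace Cfsg.Agent.Lib.Helper20.RealExt

open Cfsg Cfsg.Agent.CharLib Cfsg.Agent.Lib.Helper4.RealExt
open scoped ComplexConjugate

universe u
variable {G : Type u} [Group G] [Finite G]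

theorem centralizer_singleton_inv (g : G) :
    Subgroup.centralizer ({g⁻¹} : Set G) = Subgroup.centralizer ({g} : Set G) := by
  ext x
  simp only [Subgroup.mem_centralizer_iff, Set.mem_singleton_iff, forall_eq]
  constructor
  · intro h
    have : g * x = g * (x * g⁻¹) * g := by group
    rw [this, ← h]; group
  · intro h
    have : x * g⁻¹ = g⁻¹ * (g * x) * g⁻¹ := by group
    rw [this, h]; group

/-- (A1) -/
theorem centralChar_cbar (χ : IrrCharacter G) (g : G) :
    centralChar ((cbar χ : IrrCharacter G) : G → ℂ) g = centralChar (χ : G → ℂ) g⁻¹ := by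
  unfold centralChar
  rw [cbar_apply_eq_inv, cbar_apply_eq_inv, inv_one, centralizer_singleton_inv]

/-- (A2) -/
theorem sameBlock_cbar (M : Ideal AlgInt) {χ ψ : IrrCharacter G}
    (h : SameBlock M (χ : G → ℂ) (ψ : G → ℂ)) :
    SameBlock M ((cbar χ : IrrCharacter G) : G → ℂ) ((cbar ψ : IrrCharacter G) : G → ℂ) := by
  intro g
  rw [centralChar_cbar, centralChar_cbar]
  exact h g⁻¹

/-- (A2') the conjugate of a block is the block of the conjugate. -/
theorem cbar_image_blockOf (M : Ideal AlgInt) (χ : IrrCharacter G) :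
    cbar '' blockOf M (χ : G → ℂ) = blockOf M ((cbar χ : IrrCharacter G) : G → ℂ) := by
  ext ψ
  rw [mem_cbar_image]
  constructor
  · intro h
    have h' : SameBlock M (χ : G → ℂ) ((cbar ψ : IrrCharacter G) : G → ℂ) := h
    have := sameBlock_cbar M h'
    rw [cbar_cbar] at this
    exact this
  · intro h
    have h' : SameBlock M ((cbar χ : IrrCharacter G) : G → ℂ) (ψ : G → ℂ) := h
    have := sameBlock_cbar M h'
    rw [cbar_cbar] at this
    exact this

theorem isConj_inv_inv_iff {a b : G} : IsConj a⁻¹ b⁻¹ ↔ IsConj a b := by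
  rw [isConj_iff, isConj_iff]
  constructor
  · rintro ⟨c, hc⟩
    refine ⟨c, ?_⟩
    have : c * a * c⁻¹ = (c * a⁻¹ * c⁻¹)⁻¹ := by group
    rw [this, hc, inv_inv]
  · rintro ⟨c, hc⟩
    refine ⟨c, ?_⟩
    have : c * a⁻¹ * c⁻¹ = (c * a * c⁻¹)⁻¹ := by group
    rw [this, hc]

/-- (A3) -/
theorem inducedCentralChar_cbar (H : Subgroup G) (ξ : IrrCharacter H) (g : G) :
    inducedCentralChar H ((cbar ξ : IrrCharacter H) : H → ℂ) g =
      inducedCentralChar H (ξ : H → ℂ) g⁻¹ := by
  unfold inducedCentralChar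
  apply finsum_mem_eq_of_bijOn (fun h : H => h⁻¹)
  · refine ⟨?_, ?_, ?_⟩
    · intro h hh
      simp only [Set.mem_ofPred_eq] at hh ⊢
      rw [Subgroup.coe_inv]
      exact isConj_inv_inv_iff.mpr hh
    · intro a _ b _ hab
      exact inv_injective hab
    · intro h hh
      simp only [Set.mem_ofPred_eq] at hh
      refine ⟨h⁻¹, ?_, inv_inv h⟩
      simp only [Set.mem_ofPred_eq]
      have := isConj_inv_inv_iff.mpr hh
      rw [inv_inv] at this
      rw [Subgroup.coe_inv]
      exact this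
  · intro h _
    rw [cbar_apply_eq_inv, cbar_apply_eq_inv, inv_one]

/-- (A4) -/
theorem isInducedBlock_cbar (M : Ideal AlgInt) (H : Subgroup G) {b : Set (IrrCharacter H)}
    {B : Set (IrrCharacter G)} (h : IsInducedBlock M H b B) :
    IsInducedBlock M H (cbar '' b) (cbar '' B) := by
  obtain ⟨⟨ξ₀, hb⟩, ⟨χ₀, hB⟩, hind⟩ := h
  refine ⟨⟨cbar ξ₀, ?_⟩, ⟨cbar χ₀, ?_⟩, ?_⟩
  · rw [hb, cbar_image_blockOf]
  · rw [hB, cbar_image_blockOf]
  · rintro ξ ⟨ξ', hξ', rfl⟩ χ ⟨χ', hχ', rfl⟩ g
    rw [inducedCentralChar_cbar, centralChar_cbar]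
    exact hind ξ' hξ' χ' hχ' g⁻¹

end Cfsg.Agent.Lib.Helper20.RealExt
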