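import Mathlib

/-!
# S4861 leaf R1, sub-leaf (A): `exists_two_sylow_normalized`  (helper20)

A `2`-element `t` normalising a subgroup `T` of a finite group normalises some Sylow `2`-subgroup
of `T`.  Proof: inside `N := N_G(T)` choose a Sylow `2`-subgroup `P ≥ ⟨t⟩`; `P ⊓ T` has odd index in
`T` because `T ⊴ N` (`card_div_card_inf_dvd_index`).
-/

set_option autoImplicit false

namespace Cfsg.Agent.Lib.Helper20.RealP

universe u

/-- For `K ⊴ N` and any subgroup `P` of the finite group `N`, the index of `P ⊓ K` in `K` divides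
the index of `P` in `N`. -/
theorem card_div_card_inf_dvd_index {N : Type u} [Group N] [Finite N] (P K : Subgroup N)
    [K.Normal] : Nat.card ↥K / Nat.card ↥(P ⊓ K) ∣ P.index := by
  have e1 : Nat.card ↥(P ⊓ K) * P.relIndex K = Nat.card ↥K := by
    have h := Subgroup.relIndex_mul_relIndex ⊥ (P ⊓ K) K bot_le inf_le_right
    rwa [Subgroup.relIndex_bot_left, Subgroup.relIndex_bot_left, Subgroup.inf_relIndex_right] at h
  have e2 : Nat.card ↥(P ⊓ K) * K.relIndex P = Nat.card ↥P := by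
    have h := Subgroup.relIndex_mul_relIndex ⊥ (P ⊓ K) P bot_le inf_le_left
    rwa [Subgroup.relIndex_bot_left, Subgroup.relIndex_bot_left, Subgroup.inf_relIndex_left] at h
  have e3 : Nat.card ↥P * P.relIndex (P ⊔ K) = Nat.card ↥(P ⊔ K) := by
    have h := Subgroup.relIndex_mul_relIndex ⊥ P (P ⊔ K) bot_le le_sup_left
    rwa [Subgroup.relIndex_bot_left, Subgroup.relIndex_bot_left] at h
  have e4 : Nat.card ↥K * K.relIndex P = Nat.card ↥(P ⊔ K) := by
    have h := Subgroup.relIndex_mul_relIndex ⊥ K (P ⊔ K) bot_le le_sup_right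
    rwa [Subgroup.relIndex_bot_left, Subgroup.relIndex_bot_left, Subgroup.relIndex_sup_right] at h
  have hpos : 0 < Nat.card ↥(P ⊓ K) := Nat.card_pos
  have hPpos : 0 < Nat.card ↥P := Nat.card_pos
  have hrel : 0 < K.relIndex P := by
    rcases Nat.eq_zero_or_pos (K.relIndex P) with h0 | h0
    · rw [h0, Nat.mul_zero] at e2; omega
    · exact h0
  have key : P.relIndex (P ⊔ K) = P.relIndex K := by
    have h : Nat.card ↥(P ⊓ K) * K.relIndex P * P.relIndex (P ⊔ K)
        = Nat.card ↥(P ⊓ K) * K.relIndex P * P.relIndex K := by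
      calc Nat.card ↥(P ⊓ K) * K.relIndex P * P.relIndex (P ⊔ K)
          = Nat.card ↥(P ⊔ K) := by rw [e2, e3]
        _ = Nat.card ↥(P ⊓ K) * P.relIndex K * K.relIndex P := by rw [e1, e4]
        _ = Nat.card ↥(P ⊓ K) * K.relIndex P * P.relIndex K := by ring
    exact Nat.eq_of_mul_eq_mul_left (Nat.mul_pos hpos hrel) h
  have hdiv : Nat.card ↥K / Nat.card ↥(P ⊓ K) = P.relIndex K :=
    Nat.div_eq_of_eq_mul_right hpos e1.symm
  rw [hdiv, ← key]
  exact Subgroup.relIndex_dvd_index_of_le le_sup_left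

/-- **Sub-leaf (A).**  A `2`-element `t` normalising `T` normalises some Sylow `2`-subgroup of
`T`. -/
theorem exists_two_sylow_normalized {G : Type u} [Group G] [Finite G] (T : Subgroup G) (t : G)
    (htT : ∀ x ∈ T, t * x * t⁻¹ ∈ T) (ht : ∃ k : ℕ, orderOf t = 2 ^ k) :
    ∃ S₀ : Subgroup G, S₀ ≤ T ∧ IsPGroup 2 ↥S₀ ∧ (∀ s ∈ S₀, t * s * t⁻¹ ∈ S₀) ∧
      (∀ s ∈ S₀, t⁻¹ * s * t ∈ S₀) ∧ ¬ 2 ∣ Nat.card ↥T / Nat.card ↥S₀ := by
  classical
  have : Fact (Nat.Prime 2) := ⟨Nat.prime_two⟩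
  have htN : t ∈ (Subgroup.normalizer (T : Set G)) := by
    rw [Subgroup.mem_normalizer_iff]
    intro h
    refine ⟨htT h, fun hh => ?_⟩
    let f : ↥T → ↥T := fun x => ⟨t * x * t⁻¹, htT x x.2⟩
    have hf : Function.Injective f := by
      intro x y hxy
      have h1 : t * (x : G) * t⁻¹ = t * (y : G) * t⁻¹ := congrArg Subtype.val hxy
      exact Subtype.ext (mul_left_cancel (mul_right_cancel h1))
    obtain ⟨x, hx⟩ := (Finite.injective_iff_surjective.mp hf) ⟨t * h * t⁻¹, hh⟩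
    have h1 : t * (x : G) * t⁻¹ = t * h * t⁻¹ := congrArg Subtype.val hx
    have h2 : (x : G) = h := mul_left_cancel (mul_right_cancel h1)
    exact h2 ▸ x.2
  obtain ⟨k, hk⟩ := ht
  let tN : ↥(Subgroup.normalizer (T : Set G)) := ⟨t, htN⟩
  let K : Subgroup ↥(Subgroup.normalizer (T : Set G)) := T.subgroupOf (Subgroup.normalizer (T : Set G))
  have hKn : K.Normal := Subgroup.normal_in_normalizer
  have hQ : IsPGroup 2 ↥(Subgroup.zpowers tN) := by
    refine IsPGroup.of_card (n := k) ?_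
    rw [Nat.card_zpowers, ← hk]
    exact (Subgroup.orderOf_coe tN).symm
  obtain ⟨P, hQP⟩ := hQ.exists_le_sylow
  have htP : tN ∈ (P : Subgroup ↥(Subgroup.normalizer (T : Set G))) := hQP (Subgroup.mem_zpowers tN)
  refine ⟨((P : Subgroup ↥(Subgroup.normalizer (T : Set G))) ⊓ K).map (Subgroup.normalizer (T : Set G)).subtype, ?_, ?_, ?_, ?_, ?_⟩
  · rintro _ ⟨n, hn, rfl⟩
    exact Subgroup.mem_subgroupOf.mp hn.2
  · exact (P.2.to_le inf_le_left).map _
  · rintro _ ⟨n, hn, rfl⟩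
    refine ⟨tN * n * tN⁻¹, ⟨?_, ?_⟩, rfl⟩
    · exact Subgroup.mul_mem _ (Subgroup.mul_mem _ htP hn.1) (Subgroup.inv_mem _ htP)
    · exact hKn.conj_mem n hn.2 tN
  · rintro _ ⟨n, hn, rfl⟩
    refine ⟨tN⁻¹ * n * tN, ⟨?_, ?_⟩, rfl⟩
    · exact Subgroup.mul_mem _ (Subgroup.mul_mem _ (Subgroup.inv_mem _ htP) hn.1) htP
    · have h := hKn.conj_mem n hn.2 tN⁻¹
      rwa [inv_inv] at h
  · have hcK : Nat.card ↥K = Nat.card ↥T :=
      Nat.card_congr (Subgroup.subgroupOfEquivOfLe Subgroup.le_normalizer).toEquiv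
    have hcS : Nat.card ↥(((P : Subgroup ↥(Subgroup.normalizer (T : Set G))) ⊓ K).map (Subgroup.normalizer (T : Set G)).subtype)
        = Nat.card ↥((P : Subgroup ↥(Subgroup.normalizer (T : Set G))) ⊓ K) :=
      Subgroup.card_map_of_injective (Subgroup.subtype_injective _)
    rw [hcS, ← hcK]
    intro h2
    exact P.not_dvd_index (h2.trans (card_div_card_inf_dvd_index _ _))

end Cfsg.Agent.Lib.Helper20.RealP
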