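import Mathlib

/-!
Helper lemmas (helper20): a commutative group `K` acting on a finite abelian group `M` of order
`p ^ n` so that some `m0 ≠ 1` is moved to every non-identity element turns `M` into the additive
group of the field `GaloisField p n`, with `K` acting through multiplications.
-/

set_option autoImplicit false

namespace Cfsg.Agent.Lib.Helper20.RegField

/-- a finite commutative domain of order `p ^ n` is isomorphic to `GaloisField p n` -/
theorem exists_ringEquiv_galois (R : Type*) [CommRing R] [IsDomain R] [Finite R] (p n : ℕ)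
    [Fact p.Prime] (h : Nat.card R = p ^ n) : Nonempty (R ≃+* GaloisField p n) := by
  classical
  letI : Fintype R := Fintype.ofFinite R
  letI : Field R := Fintype.fieldOfDomain R
  letI : Fintype (GaloisField p n) := Fintype.ofFinite _
  have hn : n ≠ 0 := by
    rintro rfl
    rw [pow_zero] at h
    have : Subsingleton R := (Nat.card_eq_one_iff_unique.mp h).1
    exact zero_ne_one (Subsingleton.elim (0 : R) 1)
  refine ⟨FiniteField.ringEquivOfCardEq ?_⟩
  rw [← Nat.card_eq_fintype_card, ← Nat.card_eq_fintype_card, h, GaloisField.card p n hn]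

/-- additive version -/
theorem main_add {A : Type*} [AddCommGroup A] [Finite A] {K : Type*} [Group K]
    (hKc : ∀ k k' : K, k * k' = k' * k)
    (e : K → AddMonoid.End A) (he1 : e 1 = 1) (hemul : ∀ k k', e (k * k') = e k * e k')
    (a0 : A) (ha0 : a0 ≠ 0) (htr : ∀ y : A, y ≠ 0 → ∃ k, e k a0 = y) (p n : ℕ) [Fact p.Prime]
    (hcard : Nat.card A = p ^ n) :
    ∃ (ι : A → GaloisField p n) (χ : K → GaloisField p n), Function.Bijective ι ∧
      (∀ a b, ι (a + b) = ι a + ι b) ∧ (∀ k a, ι (e k a) = χ k * ι a) ∧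
      (∀ k k', χ (k * k') = χ k * χ k') ∧ (∀ f : GaloisField p n, f ≠ 0 → ∃ k, χ k = f) ∧
      ι a0 = 1 ∧ χ 1 = 1 := by
  classical
  -- the commutant
  obtain ⟨C, hCdef⟩ : ∃ C : Subring (AddMonoid.End A), C = Subring.centralizer (Set.range e) :=
    ⟨_, rfl⟩
  have hmemC : ∀ c : AddMonoid.End A, c ∈ C ↔ ∀ k, e k * c = c * e k := by
    intro c
    rw [hCdef, Subring.mem_centralizer_iff]
    constructor
    · intro h k; exact h (e k) ⟨k, rfl⟩
    · rintro h _ ⟨k, rfl⟩; exact h k
  have hcommK : ∀ k k', e k * e k' = e k' * e k := by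
    intro k k'
    rw [← hemul, ← hemul, hKc]
  have heC : ∀ k, e k ∈ C := fun k => (hmemC _).mpr (fun k' => hcommK k' k)
  have hinv : ∀ k, e k⁻¹ * e k = 1 := by
    intro k; rw [← hemul, inv_mul_cancel, he1]
  -- evaluation at a0 is injective on C
  have hev0 : ∀ c ∈ C, c a0 = 0 → c = 0 := by
    intro c hc h0
    ext y
    by_cases hy : y = 0
    · rw [hy, map_zero, map_zero]
    · obtain ⟨k, rfl⟩ := htr y hy
      have h1 : (c * e k) a0 = (e k * c) a0 := by rw [(hmemC c).mp hc k]
      have h2 : c (e k a0) = e k (c a0) := h1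
      rw [h2, h0, map_zero]
      rfl
  have hevinj : ∀ c ∈ C, ∀ c' ∈ C, c a0 = c' a0 → c = c' := by
    intro c hc c' hc' h
    have := hev0 (c - c') (C.sub_mem hc hc') (by
      show c a0 - c' a0 = 0
      rw [h, sub_self])
    exact sub_eq_zero.mp this
  -- every element of C is 0 or some e k
  have hclass : ∀ c ∈ C, c = 0 ∨ ∃ k, c = e k := by
    intro c hc
    by_cases h0 : c a0 = 0
    · left; exact hev0 c hc h0
    · right
      obtain ⟨k, hk⟩ := htr _ h0
      exact ⟨k, hevinj c hc (e k) (heC k) hk.symm⟩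
  have hmulcomm : ∀ c c' : C, c * c' = c' * c := by
    intro c c'
    apply Subtype.ext
    show (c : AddMonoid.End A) * c' = c' * c
    rcases hclass c c.2 with h | ⟨k, h⟩
    · rw [h, zero_mul, mul_zero]
    · rcases hclass c' c'.2 with h' | ⟨k', h'⟩
      · rw [h', zero_mul, mul_zero]
      · rw [h, h', hcommK]
  letI : CommRing C := { (inferInstance : Ring C) with mul_comm := hmulcomm }
  have hne : (1 : C) ≠ 0 := by
    intro h
    have h1 : ((1 : C) : AddMonoid.End A) a0 = ((0 : C) : AddMonoid.End A) a0 := by rw [h]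
    exact ha0 h1
  haveI : Nontrivial C := ⟨⟨1, 0, hne⟩⟩
  haveI : NoZeroDivisors C := by
    refine ⟨fun {c c'} h => ?_⟩
    by_cases hc : c = 0
    · left; exact hc
    · right
      have hc0 : (c : AddMonoid.End A) ≠ 0 := fun h0 => hc (Subtype.ext h0)
      rcases hclass c c.2 with h1 | ⟨k, h1⟩
      · exact absurd h1 hc0
      · have h2 : (c : AddMonoid.End A) * c' = 0 := congrArg Subtype.val h
        rw [h1] at h2
        apply Subtype.ext
        show (c' : AddMonoid.End A) = 0
        calc (c' : AddMonoid.End A) = (e k⁻¹ * e k) * c' := by rw [hinv, one_mul]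
          _ = e k⁻¹ * (e k * c') := by rw [mul_assoc]
          _ = 0 := by rw [h2, mul_zero]
  haveI : IsDomain C := NoZeroDivisors.to_isDomain C
  -- the evaluation bijection
  have hevbij : Function.Bijective (fun c : C => (c : AddMonoid.End A) a0) := by
    constructor
    · intro c c' h
      exact Subtype.ext (hevinj c c.2 c' c'.2 h)
    · intro y
      by_cases hy : y = 0
      · exact ⟨0, by rw [hy]; rfl⟩
      · obtain ⟨k, hk⟩ := htr y hy
        exact ⟨⟨e k, heC k⟩, hk⟩
  obtain ⟨ev, hev⟩ : ∃ ev : C ≃ A, ∀ c : C, ev c = (c : AddMonoid.End A) a0 :=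
    ⟨Equiv.ofBijective _ hevbij, fun c => rfl⟩
  haveI : Finite C := Finite.of_equiv A ev.symm
  have hcardC : Nat.card C = p ^ n := by rw [Nat.card_congr ev, hcard]
  obtain ⟨ρ⟩ := exists_ringEquiv_galois C p n hcardC
  have hevadd : ∀ c c' : C, ev (c + c') = ev c + ev c' := by
    intro c c'; rw [hev, hev, hev]; rfl
  have hevmul : ∀ (k : K) (c : C), ev (⟨e k, heC k⟩ * c) = e k (ev c) := by
    intro k c; rw [hev, hev]; rfl
  refine ⟨fun a => ρ (ev.symm a), fun k => ρ ⟨e k, heC k⟩, ?_, ?_, ?_, ?_, ?_, ?_, ?_⟩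
  · exact ρ.bijective.comp ev.symm.bijective
  · intro a b
    show ρ (ev.symm (a + b)) = ρ (ev.symm a) + ρ (ev.symm b)
    rw [← map_add]
    congr 1
    apply ev.injective
    rw [hevadd, Equiv.apply_symm_apply, Equiv.apply_symm_apply, Equiv.apply_symm_apply]
  · intro k a
    show ρ (ev.symm (e k a)) = ρ ⟨e k, heC k⟩ * ρ (ev.symm a)
    rw [← map_mul]
    congr 1
    apply ev.injective
    rw [hevmul, Equiv.apply_symm_apply, Equiv.apply_symm_apply]
  · intro k k'
    show ρ ⟨e (k * k'), heC _⟩ = ρ ⟨e k, heC k⟩ * ρ ⟨e k', heC k'⟩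
    rw [← map_mul]
    congr 1
    exact Subtype.ext (hemul k k')
  · intro f hf
    have h1 : ρ.symm f ≠ 0 := by
      intro h
      apply hf
      have := congrArg ρ h
      rwa [RingEquiv.apply_symm_apply, map_zero] at this
    rcases hclass (ρ.symm f) (ρ.symm f).2 with h | ⟨k, h⟩
    · exact absurd (Subtype.ext h) h1
    · refine ⟨k, ?_⟩
      show ρ ⟨e k, heC k⟩ = f
      have : (⟨e k, heC k⟩ : C) = ρ.symm f := Subtype.ext h.symm
      rw [this, RingEquiv.apply_symm_apply]
  · show ρ (ev.symm a0) = 1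
    have : ev.symm a0 = 1 := by
      apply ev.injective
      rw [Equiv.apply_symm_apply, hev]
      rfl
    rw [this, map_one]
  · show ρ ⟨e 1, heC 1⟩ = 1
    have : (⟨e 1, heC 1⟩ : C) = 1 := Subtype.ext he1
    rw [this, map_one]

/-- multiplicative version; the action is given by endomorphisms `act k` with
`act 1 = id` and `act (k * k') = act k ∘ act k'` -/
theorem main {M : Type*} [Group M] [Finite M] (hcomm : ∀ x y : M, x * y = y * x)
    {K : Type*} [Group K] (hKc : ∀ k k' : K, k * k' = k' * k)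
    (act : K → M →* M) (hact1 : ∀ m, act 1 m = m)
    (hactmul : ∀ k k' m, act (k * k') m = act k (act k' m)) (m0 : M) (hm0 : m0 ≠ 1)
    (htr : ∀ y : M, y ≠ 1 → ∃ k : K, act k m0 = y) (p n : ℕ) [Fact p.Prime]
    (hcard : Nat.card M = p ^ n) :
    ∃ (ι : M → GaloisField p n) (χ : K → GaloisField p n), Function.Bijective ι ∧
      (∀ a b, ι (a * b) = ι a + ι b) ∧ (∀ k m, ι (act k m) = χ k * ι m) ∧
      (∀ k k', χ (k * k') = χ k * χ k') ∧ (∀ f : GaloisField p n, f ≠ 0 → ∃ k, χ k = f) ∧
      ι m0 = 1 ∧ χ 1 = 1 := by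
  letI : CommGroup M := { (inferInstance : Group M) with mul_comm := hcomm }
  obtain ⟨e, he⟩ : ∃ e : K → AddMonoid.End (Additive M),
      ∀ k (a : Additive M), e k a = Additive.ofMul (act k a.toMul) := by
    refine ⟨fun k => AddMonoidHom.mk' (fun a => Additive.ofMul (act k a.toMul)) ?_, fun k a => rfl⟩
    intro a b
    show Additive.ofMul (act k (a.toMul * b.toMul)) = _
    rw [map_mul]
    rfl
  have he1 : e 1 = 1 := by
    ext a
    rw [he, hact1]
    rfl
  have hemul : ∀ k k', e (k * k') = e k * e k' := by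
    intro k k'
    ext a
    show e (k * k') a = e k (e k' a)
    rw [he, he, he, hactmul]
    rfl
  obtain ⟨ι, χ, h1, h2, h3, h4, h5, h6, h7⟩ := main_add hKc e he1 hemul (Additive.ofMul m0)
    (fun h => hm0 (Additive.ofMul.injective h))
    (fun y hy => by
      obtain ⟨k, hk⟩ := htr y.toMul (fun h => hy (Additive.toMul.injective h))
      refine ⟨k, ?_⟩
      rw [he]
      show Additive.ofMul (act k m0) = y
      rw [hk]; rfl) p n (by rw [← hcard]; exact Nat.card_congr Additive.toMul)
  refine ⟨fun m => ι (Additive.ofMul m), χ, ?_, ?_, ?_, h4, h5, h6, h7⟩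
  · exact h1.comp Additive.ofMul.bijective
  · intro a b
    exact h2 (Additive.ofMul a) (Additive.ofMul b)
  · intro k m
    have := h3 k (Additive.ofMul m)
    rw [he] at this
    exact this

end Cfsg.Agent.Lib.Helper20.RegField
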