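import Mathlib

set_option autoImplicit false

/-!
# Rudvalis-type 2-groups (S3174), part A: upper central series of a finite 2-group.
-/

namespace Cfsg.Agent.Lib.Helper20.RuSyl

variable {T : Type*} [Group T] [Finite T]

theorem card_lt_card_of_lt {H K : Subgroup T} (h : H < K) : Nat.card H < Nat.card K := by
  by_contra hge
  push Not at hge
  exact h.ne (Subgroup.eq_of_le_of_card_ge h.le hge)

/-- strictness of the upper central series of a finite `2`-group below the top. -/
theorem ucs_lt_succ (hT : IsPGroup 2 T) (n : ℕ) (h : Subgroup.upperCentralSeries T n ≠ ⊤) :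
    Subgroup.upperCentralSeries T n < Subgroup.upperCentralSeries T (n + 1) := by
  have : Fact (Nat.Prime 2) := ⟨Nat.prime_two⟩
  have : Group.IsNilpotent T := hT.isNilpotent
  refine lt_of_le_of_ne (Subgroup.upperCentralSeries_mono T (Nat.le_succ n)) ?_
  intro heq
  exact h (Subgroup.upperCentralSeries.eq_top (Nat.succ_ne_self n).symm heq)

theorem ucs_ne_top_of_le {m n : ℕ} (hmn : m ≤ n) (h : Subgroup.upperCentralSeries T n ≠ ⊤) :
    Subgroup.upperCentralSeries T m ≠ ⊤ := by
  intro hm
  apply h
  exact top_le_iff.mp (hm ▸ Subgroup.upperCentralSeries_mono T hmn)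

/-- the orders of `Z₁, Z₂, Z₃` when `|Z₄| = 16 < |T|`. -/
theorem card_ucs (hT : IsPGroup 2 T) (hb : Nat.card (Subgroup.upperCentralSeries T 4) = 16)
    (ha : 16 < Nat.card T) :
    Nat.card (Subgroup.upperCentralSeries T 1) = 2 ∧ Nat.card (Subgroup.upperCentralSeries T 2) = 4 ∧
      Nat.card (Subgroup.upperCentralSeries T 3) = 8 := by
  have h4 : Subgroup.upperCentralSeries T 4 ≠ ⊤ := by
    intro h
    rw [h, Subgroup.card_top] at hb
    omega
  have l0 := card_lt_card_of_lt (ucs_lt_succ hT 0 (ucs_ne_top_of_le (by norm_num) h4))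
  have l1 := card_lt_card_of_lt (ucs_lt_succ hT 1 (ucs_ne_top_of_le (by norm_num) h4))
  have l2 := card_lt_card_of_lt (ucs_lt_succ hT 2 (ucs_ne_top_of_le (by norm_num) h4))
  have l3 := card_lt_card_of_lt (ucs_lt_succ hT 3 (ucs_ne_top_of_le (by norm_num) h4))
  have d1 := Subgroup.card_dvd_of_le (Subgroup.upperCentralSeries_mono T (show 1 ≤ 2 by norm_num))
  have d2 := Subgroup.card_dvd_of_le (Subgroup.upperCentralSeries_mono T (show 2 ≤ 3 by norm_num))
  have d3 := Subgroup.card_dvd_of_le (Subgroup.upperCentralSeries_mono T (show 3 ≤ 4 by norm_num))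
  rw [Subgroup.upperCentralSeries_zero, Subgroup.card_bot] at l0
  simp only [Nat.reduceAdd] at l0 l1 l2 l3
  rw [hb] at l3 d3
  obtain ⟨k1, hk1⟩ := d1
  obtain ⟨k2, hk2⟩ := d2
  obtain ⟨k3, hk3⟩ := d3
  set c1 := Nat.card (Subgroup.upperCentralSeries T 1)
  set c2 := Nat.card (Subgroup.upperCentralSeries T 2)
  set c3 := Nat.card (Subgroup.upperCentralSeries T 3)
  have hk1' : 2 ≤ k1 := by
    by_contra h
    have : k1 = 0 ∨ k1 = 1 := by omega
    rcases this with rfl | rfl <;> omega
  have hk2' : 2 ≤ k2 := by
    by_contra h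
    have : k2 = 0 ∨ k2 = 1 := by omega
    rcases this with rfl | rfl <;> omega
  have hk3' : 2 ≤ k3 := by
    by_contra h
    have : k3 = 0 ∨ k3 = 1 := by omega
    rcases this with rfl | rfl <;> omega
  have e2 : 2 * c1 ≤ c2 := by rw [hk1]; nlinarith
  have e3 : 2 * c2 ≤ c3 := by rw [hk2]; nlinarith
  have e4 : 2 * c3 ≤ 16 := by rw [hk3]; nlinarith
  refine ⟨by omega, by omega, by omega⟩

/-- a normal subgroup of order at most `2^k` of a finite `2`-group lies in `Z_k`. -/
theorem normal_le_ucs (hT : IsPGroup 2 T) :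
    ∀ (k : ℕ) (N : Subgroup T), N.Normal → Nat.card N ≤ 2 ^ k → N ≤ Subgroup.upperCentralSeries T k := by
  have : Fact (Nat.Prime 2) := ⟨Nat.prime_two⟩
  have : Group.IsNilpotent T := hT.isNilpotent
  intro k
  induction k with
  | zero =>
    intro N _ hc
    have : Nat.card N = 1 := by
      have := Nat.card_pos (α := N)
      simp at hc
      omega
    rw [Subgroup.card_eq_one] at this
    rw [this]
    exact bot_le
  | succ k ih =>
    intro N hN hc
    by_cases hbot : N = ⊥
    · rw [hbot]; exact bot_le
    have := hN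
    set M : Subgroup T := ⁅N, (⊤ : Subgroup T)⁆ with hM
    have hMn : M.Normal := by rw [hM]; infer_instance
    have hMle : M ≤ N := Subgroup.commutator_le_left N ⊤
    have hMne : M ≠ N := by
      intro heq
      -- N ≤ γ_i for all i
      have hall : ∀ i, N ≤ (⊤ : Subgroup T).lowerCentralSeries i := by
        intro i
        induction i with
        | zero => simp
        | succ i ihi =>
          rw [Subgroup.lowerCentralSeries_succ]
          calc N = M := heq.symm
            _ ≤ _ := by
              rw [hM, Subgroup.commutator_def]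
              apply Subgroup.closure_mono
              rintro _ ⟨p, hp, q, hq, rfl⟩
              exact ⟨p, ihi hp, q, hq, rfl⟩
      obtain ⟨n, hn⟩ := Subgroup.nilpotent_iff_lowerCentralSeries.mp
        (inferInstance : Group.IsNilpotent T)
      apply hbot
      rw [eq_bot_iff, ← hn]
      exact hall n
    have hMlt : M < N := lt_of_le_of_ne hMle hMne
    have hMcard : Nat.card M ≤ 2 ^ k := by
      have h1 := card_lt_card_of_lt hMlt
      obtain ⟨j, hj⟩ := Subgroup.card_dvd_of_le hMle
      have hj2 : 2 ≤ j := by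
        by_contra h
        have : j = 0 ∨ j = 1 := by omega
        rcases this with rfl | rfl
        · have := Nat.card_pos (α := N); omega
        · omega
      have : 2 * Nat.card M ≤ 2 ^ (k + 1) := by
        calc 2 * Nat.card M ≤ Nat.card M * j := by nlinarith
          _ = Nat.card N := hj.symm
          _ ≤ _ := hc
      rw [pow_succ] at this
      omega
    have hMZ := ih M hMn hMcard
    intro x hx
    rw [Subgroup.mem_upperCentralSeries_succ_iff]
    intro y
    exact hMZ (Subgroup.commutator_mem_commutator hx (Subgroup.mem_top y))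

/-- a normal subgroup of order exactly `|Z_k|` equals `Z_k` (when `|Z_k| = 2^k`). -/
theorem normal_eq_ucs (hT : IsPGroup 2 T) (k : ℕ) (N : Subgroup T) (hN : N.Normal)
    (hc : Nat.card N = 2 ^ k) (hZ : Nat.card (Subgroup.upperCentralSeries T k) = 2 ^ k) :
    N = Subgroup.upperCentralSeries T k :=
  Subgroup.eq_of_le_of_card_ge (normal_le_ucs hT k N hN hc.le) (by rw [hc, hZ])

end Cfsg.Agent.Lib.Helper20.RuSyl
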