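import Mathlib

set_option autoImplicit false

/-!
# Rudvalis-type 2-groups (S3174), part B: fixed points of a 2-group on an elementary abelian
2-subgroup: `|C_V(M)| ≤ |C_V(X)| ^ |X : M|`.
-/

namespace Cfsg.Agent.Lib.Helper20.RuSyl

variable {X : Type*} [Group X]

/-- `C_V(M)`. -/
def fixIn (V M : Subgroup X) : Subgroup X := V ⊓ Subgroup.centralizer (M : Set X)

theorem mem_fixIn {V M : Subgroup X} {v : X} :
    v ∈ fixIn V M ↔ v ∈ V ∧ ∀ m ∈ M, m * v = v * m := by
  unfold fixIn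
  rw [Subgroup.mem_inf, Subgroup.mem_centralizer_iff]
  rfl

theorem fixIn_anti (V : Subgroup X) {M K : Subgroup X} (h : M ≤ K) : fixIn V K ≤ fixIn V M := by
  intro v hv
  rw [mem_fixIn] at hv ⊢
  exact ⟨hv.1, fun m hm => hv.2 m (h hm)⟩

section step

variable (V M : Subgroup X) (g : X)
  (hV2 : ∀ v ∈ V, v * v = 1)
  (hgV : ∀ v ∈ V, g * v * g⁻¹ ∈ V)
  (hgM : ∀ m ∈ M, g⁻¹ * m * g ∈ M)
  (hg2 : g * g ∈ M)

include hV2 in
theorem inv_eq_self_of_mem {v : X} (hv : v ∈ V) : v⁻¹ = v :=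
  inv_eq_of_mul_eq_one_left (hV2 v hv)

include hV2 in
theorem comm_of_mem {u v : X} (hu : u ∈ V) (hv : v ∈ V) : u * v = v * u := by
  have h1 := hV2 (u * v) (V.mul_mem hu hv)
  have hu' := hV2 u hu
  have hv' := hV2 v hv
  -- (uv)(uv) = 1 → uv = v⁻¹u⁻¹ = vu
  have : u * v = (u * v)⁻¹ := (inv_eq_of_mul_eq_one_left h1).symm
  rw [this, mul_inv_rev, inv_eq_self_of_mem V hV2 hu, inv_eq_self_of_mem V hV2 hv]

include hV2 hgV hgM in
theorem comm_mem_fixIn {v : X} (hv : v ∈ fixIn V M) : v * (g * v⁻¹ * g⁻¹) ∈ fixIn V M := by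
  rw [mem_fixIn] at hv ⊢
  obtain ⟨hvV, hvM⟩ := hv
  have hvi : v⁻¹ = v := inv_eq_self_of_mem V hV2 hvV
  refine ⟨V.mul_mem hvV (hgV _ (V.inv_mem hvV)), ?_⟩
  intro m hm
  have h1 := hvM m hm
  have h2 := hvM _ (hgM m hm)
  -- m v (g v g⁻¹) = v m g v g⁻¹ = v g (g⁻¹ m g) v g⁻¹ = v g v (g⁻¹ m g) g⁻¹ = v g v g⁻¹ m
  rw [hvi]
  calc m * (v * (g * v * g⁻¹)) = (m * v) * (g * v * g⁻¹) := by group
    _ = (v * m) * (g * v * g⁻¹) := by rw [h1]
    _ = v * g * ((g⁻¹ * m * g) * v) * g⁻¹ := by group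
    _ = v * g * (v * (g⁻¹ * m * g)) * g⁻¹ := by rw [h2]
    _ = v * (g * v * g⁻¹) * m := by group

/-- the commutator map `v ↦ [v, g]` on `C_V(M)`. -/
noncomputable def commHom : ↥(fixIn V M) →* ↥(fixIn V M) where
  toFun v := ⟨(v : X) * (g * (v : X)⁻¹ * g⁻¹), comm_mem_fixIn V M g hV2 hgV hgM v.2⟩
  map_one' := by
    apply Subtype.ext
    simp
  map_mul' u v := by
    apply Subtype.ext
    have huV : (u : X) ∈ V := (mem_fixIn.mp u.2).1
    have hvV : (v : X) ∈ V := (mem_fixIn.mp v.2).1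
    have hui : (u : X)⁻¹ = u := inv_eq_self_of_mem V hV2 huV
    have hvi : (v : X)⁻¹ = v := inv_eq_self_of_mem V hV2 hvV
    have hgu : g * (u : X) * g⁻¹ ∈ V := hgV _ huV
    have hgv : g * (v : X) * g⁻¹ ∈ V := hgV _ hvV
    show ((u : X) * v) * (g * ((u : X) * v)⁻¹ * g⁻¹) =
      ((u : X) * (g * (u : X)⁻¹ * g⁻¹)) * ((v : X) * (g * (v : X)⁻¹ * g⁻¹))
    rw [mul_inv_rev, hui, hvi]
    have c1 : (g * (v : X) * g⁻¹) * (g * (u : X) * g⁻¹) = (g * (u : X) * g⁻¹) * (g * (v : X) * g⁻¹) :=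
      comm_of_mem V hV2 hgv hgu
    have c2 : (v : X) * (g * (u : X) * g⁻¹) = (g * (u : X) * g⁻¹) * v := comm_of_mem V hV2 hvV hgu
    calc (u : X) * v * (g * ((v : X) * u) * g⁻¹)
        = u * v * ((g * (v : X) * g⁻¹) * (g * (u : X) * g⁻¹)) := by group
      _ = u * v * ((g * (u : X) * g⁻¹) * (g * (v : X) * g⁻¹)) := by rw [c1]
      _ = u * (v * (g * (u : X) * g⁻¹)) * (g * (v : X) * g⁻¹) := by group
      _ = u * ((g * (u : X) * g⁻¹) * v) * (g * (v : X) * g⁻¹) := by rw [c2]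
      _ = _ := by group

theorem commHom_apply (v : ↥(fixIn V M)) :
    ((commHom V M g hV2 hgV hgM v : ↥(fixIn V M)) : X) = (v : X) * (g * (v : X)⁻¹ * g⁻¹) := rfl

/-- `C_V(M) ∩ C(g)`. -/
def fixStep : Subgroup X := fixIn V M ⊓ Subgroup.centralizer {g}

theorem mem_fixStep {v : X} : v ∈ fixStep V M g ↔ v ∈ fixIn V M ∧ g * v = v * g := by
  unfold fixStep
  rw [Subgroup.mem_inf, Subgroup.mem_centralizer_iff]
  simp

theorem fixStep_le : fixStep V M g ≤ fixIn V M := inf_le_left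

theorem commHom_ker :
    (commHom V M g hV2 hgV hgM).ker = (fixStep V M g).subgroupOf (fixIn V M) := by
  ext v
  rw [MonoidHom.mem_ker, Subgroup.mem_subgroupOf, mem_fixStep]
  constructor
  · intro h
    have h1 : (v : X) * (g * (v : X)⁻¹ * g⁻¹) = 1 := by
      have := congrArg Subtype.val h
      simpa [commHom_apply] using this
    refine ⟨v.2, ?_⟩
    have h2 : (g * (v : X)⁻¹ * g⁻¹)⁻¹ = (v : X) := (inv_eq_of_mul_eq_one_left h1)
    have : g * (v : X) * g⁻¹ = (v : X) := by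
      calc g * (v : X) * g⁻¹ = (g * (v : X)⁻¹ * g⁻¹)⁻¹ := by group
        _ = v := h2
    calc g * (v : X) = (g * (v : X) * g⁻¹) * g := by group
      _ = v * g := by rw [this]
  · rintro ⟨_, h⟩
    apply Subtype.ext
    rw [commHom_apply]
    have : g * (v : X)⁻¹ * g⁻¹ = (v : X)⁻¹ := by
      have : g * (v : X)⁻¹ = (v : X)⁻¹ * g := by
        calc g * (v : X)⁻¹ = (v : X)⁻¹ * ((v : X) * g) * (v : X)⁻¹ := by group
          _ = (v : X)⁻¹ * (g * (v : X)) * (v : X)⁻¹ := by rw [h]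
          _ = _ := by group
      rw [this]; group
    rw [this]
    simp

include hg2 in
theorem commHom_range_le :
    (commHom V M g hV2 hgV hgM).range ≤ (fixStep V M g).subgroupOf (fixIn V M) := by
  rintro _ ⟨v, rfl⟩
  rw [Subgroup.mem_subgroupOf, mem_fixStep]
  refine ⟨(commHom V M g hV2 hgV hgM v).2, ?_⟩
  rw [commHom_apply]
  have hvV : (v : X) ∈ V := (mem_fixIn.mp v.2).1
  have hvi : (v : X)⁻¹ = v := inv_eq_self_of_mem V hV2 hvV
  have hgv : g * (v : X) * g⁻¹ ∈ V := hgV _ hvV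
  have hc : (g * g) * (v : X) = (v : X) * (g * g) := (mem_fixIn.mp v.2).2 _ hg2
  have hcomm : (g * (v : X) * g⁻¹) * v = v * (g * (v : X) * g⁻¹) := comm_of_mem V hV2 hgv hvV
  rw [hvi]
  calc g * ((v : X) * (g * (v : X) * g⁻¹)) = (g * (v : X) * g⁻¹) * ((g * g) * (v : X)) * g⁻¹ := by
        group
    _ = (g * (v : X) * g⁻¹) * ((v : X) * (g * g)) * g⁻¹ := by rw [hc]
    _ = ((g * (v : X) * g⁻¹) * v) * g := by group
    _ = (v * (g * (v : X) * g⁻¹)) * g := by rw [hcomm]

include hV2 hgV hgM hg2 in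
/-- one step: `|C_V(M)| ≤ |C_V(M) ∩ C(g)|²`. -/
theorem card_fixIn_le_sq [Finite X] :
    Nat.card (fixIn V M) ≤ Nat.card (fixStep V M g) ^ 2 := by
  set θ := commHom V M g hV2 hgV hgM with hθ
  have h1 : Nat.card θ.ker * θ.ker.index = Nat.card (fixIn V M) := Subgroup.card_mul_index θ.ker
  rw [Subgroup.index_ker] at h1
  have hk : Nat.card θ.ker = Nat.card (fixStep V M g) := by
    rw [commHom_ker]
    exact Nat.card_congr (Subgroup.subgroupOfEquivOfLe (fixStep_le V M g)).toEquiv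
  have hr : Nat.card θ.range ≤ Nat.card (fixStep V M g) := by
    have := Subgroup.card_le_of_le (commHom_range_le V M g hV2 hgV hgM hg2)
    calc Nat.card θ.range ≤ Nat.card ((fixStep V M g).subgroupOf (fixIn V M)) := this
      _ = _ := Nat.card_congr (Subgroup.subgroupOfEquivOfLe (fixStep_le V M g)).toEquiv
  rw [← h1, hk, pow_two]
  exact Nat.mul_le_mul_left _ hr

include hV2 hgV hgM hg2 in
/-- equality case: the commutator map is onto `C_V(M) ∩ C(g)`. -/
theorem exists_comm_eq_of_card_eq [Finite X]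
    (hcard : Nat.card (fixIn V M) = Nat.card (fixStep V M g) ^ 2) :
    ∀ c ∈ fixStep V M g, ∃ v ∈ fixIn V M, v * (g * v⁻¹ * g⁻¹) = c := by
  set θ := commHom V M g hV2 hgV hgM with hθ
  have h1 : Nat.card θ.ker * θ.ker.index = Nat.card (fixIn V M) := Subgroup.card_mul_index θ.ker
  rw [Subgroup.index_ker] at h1
  have hk : Nat.card θ.ker = Nat.card (fixStep V M g) := by
    rw [commHom_ker]
    exact Nat.card_congr (Subgroup.subgroupOfEquivOfLe (fixStep_le V M g)).toEquiv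
  have hpos : 0 < Nat.card (fixStep V M g) := Nat.card_pos
  have hr : Nat.card θ.range = Nat.card (fixStep V M g) := by
    rw [hk, hcard, pow_two] at h1
    exact Nat.eq_of_mul_eq_mul_left hpos h1
  have heq : θ.range = (fixStep V M g).subgroupOf (fixIn V M) := by
    apply Subgroup.eq_of_le_of_card_ge (commHom_range_le V M g hV2 hgV hgM hg2)
    rw [hr]
    exact (Nat.card_congr (Subgroup.subgroupOfEquivOfLe (fixStep_le V M g)).toEquiv).le
  intro c hc
  have hc' : (⟨c, fixStep_le V M g hc⟩ : ↥(fixIn V M)) ∈ θ.range := by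
    rw [heq, Subgroup.mem_subgroupOf]
    exact hc
  obtain ⟨v, hv⟩ := hc'
  refine ⟨v, v.2, ?_⟩
  have := congrArg Subtype.val hv
  simpa [hθ, commHom_apply] using this

end step

section chain

/-- basic facts on a subgroup `M` of index two in `K`. -/
theorem index_two_facts [Finite X] {M K : Subgroup X} (hMK : M ≤ K)
    (hc : Nat.card K = 2 * Nat.card M) :
    (∃ g ∈ K, g ∉ M) ∧ ∀ g ∈ K, g ∉ M →
      (g * g ∈ M ∧ (∀ m ∈ M, g⁻¹ * m * g ∈ M) ∧ ∀ k ∈ K, k ∈ M ∨ g⁻¹ * k ∈ M) := by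
  have hidx : (M.subgroupOf K).index = 2 := by
    have h1 := Subgroup.card_mul_index (M.subgroupOf K)
    rw [Nat.card_congr (Subgroup.subgroupOfEquivOfLe hMK).toEquiv, hc] at h1
    have hpos : 0 < Nat.card M := Nat.card_pos
    nlinarith
  have hn : (M.subgroupOf K).Normal := Subgroup.normal_of_index_eq_two hidx
  constructor
  · by_contra hcon
    push Not at hcon
    have : K ≤ M := fun g hg => hcon g hg
    have := Subgroup.card_le_of_le this
    have hpos : 0 < Nat.card M := Nat.card_pos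
    omega
  · intro g hgK hgM
    refine ⟨?_, ?_, ?_⟩
    · have := Subgroup.mul_self_mem_of_index_two hidx (⟨g, hgK⟩ : ↥K)
      rwa [Subgroup.mem_subgroupOf] at this
    · intro m hm
      have h1 : (⟨m, hMK hm⟩ : ↥K) ∈ M.subgroupOf K := by rwa [Subgroup.mem_subgroupOf]
      have := hn.conj_mem _ h1 (⟨g, hgK⟩ : ↥K)⁻¹
      rw [Subgroup.mem_subgroupOf] at this
      simpa using this
    · intro k hk
      by_cases hkM : k ∈ M
      · exact Or.inl hkM
      · right
        have := (Subgroup.mul_mem_iff_of_index_two hidx (a := (⟨g, hgK⟩ : ↥K)⁻¹)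
          (b := (⟨k, hk⟩ : ↥K)))
        rw [Subgroup.mem_subgroupOf, Subgroup.mem_subgroupOf, Subgroup.mem_subgroupOf] at this
        simp only [Subgroup.coe_mul, Subgroup.coe_inv] at this
        rw [this]
        constructor
        · intro h; exact absurd (by simpa using M.inv_mem h) hgM
        · intro h; exact absurd h hkM

theorem fixStep_eq_fixIn [Finite X] (V : Subgroup X) {M K : Subgroup X} (hMK : M ≤ K) {g : X}
    (hgK : g ∈ K) (hcov : ∀ k ∈ K, k ∈ M ∨ g⁻¹ * k ∈ M) :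
    fixStep V M g = fixIn V K := by
  ext v
  rw [mem_fixStep, mem_fixIn, mem_fixIn]
  constructor
  · rintro ⟨⟨hvV, hvM⟩, hg⟩
    refine ⟨hvV, fun k hk => ?_⟩
    rcases hcov k hk with h | h
    · exact hvM k h
    · have h1 := hvM _ h
      calc k * v = g * ((g⁻¹ * k) * v) := by group
        _ = g * (v * (g⁻¹ * k)) := by rw [h1]
        _ = (g * v) * (g⁻¹ * k) := by group
        _ = (v * g) * (g⁻¹ * k) := by rw [hg]
        _ = v * k := by group
  · rintro ⟨hvV, hvK⟩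
    exact ⟨⟨hvV, fun m hm => hvK m (hMK hm)⟩, hvK g hgK⟩

/-- `|C_V(M)| ≤ |C_V(X)| ^ |X : M|` for a finite `2`-group `X` and a normal subgroup `V` of
exponent two. -/
theorem card_fixIn_le_pow [Finite X] (hX : IsPGroup 2 X) (V : Subgroup X)
    (hV2 : ∀ v ∈ V, v * v = 1) (hVn : ∀ g : X, ∀ v ∈ V, g * v * g⁻¹ ∈ V) :
    ∀ (n : ℕ) (M : Subgroup X), M.index = n →
      Nat.card (fixIn V M) ≤ Nat.card (fixIn V ⊤) ^ n := by
  have : Fact (Nat.Prime 2) := ⟨Nat.prime_two⟩
  intro n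
  induction n using Nat.strong_induction_on with
  | _ n ih =>
    intro M hM
    by_cases htop : M = ⊤
    · subst htop
      rw [Subgroup.index_top] at hM
      subst hM
      simp
    obtain ⟨a, ha⟩ := (hX.to_subgroup M).exists_card_eq
    obtain ⟨b, hb⟩ := hX.exists_card_eq
    have hab : a < b := by
      by_contra hcon
      push Not at hcon
      apply htop
      apply Subgroup.eq_top_of_card_eq
      have h1 : Nat.card M ≤ Nat.card X := Subgroup.card_le_card_group M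
      have h2 : 2 ^ b ≤ 2 ^ a := Nat.pow_le_pow_right (by norm_num) hcon
      rw [ha, hb] at h1 ⊢
      omega
    have hdvd : 2 ^ (a + 1) ∣ Nat.card X := by
      rw [hb]; exact pow_dvd_pow 2 hab
    obtain ⟨K, hKc, hMK⟩ := Sylow.exists_subgroup_card_pow_succ hdvd ha
    have hc : Nat.card K = 2 * Nat.card M := by rw [hKc, ha, pow_succ]; ring
    obtain ⟨⟨g, hgK, hgM⟩, hfacts⟩ := index_two_facts hMK hc
    obtain ⟨hg2, hgn, hcov⟩ := hfacts g hgK hgM
    have hidx : M.index = 2 * K.index := by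
      have h1 := Subgroup.card_mul_index M
      have h2 := Subgroup.card_mul_index K
      rw [hc] at h2
      have hpos : 0 < Nat.card M := Nat.card_pos
      have : Nat.card M * M.index = Nat.card M * (2 * K.index) := by rw [h1, ← h2]; ring
      exact Nat.eq_of_mul_eq_mul_left hpos this
    have hKpos : 0 < K.index := Nat.pos_of_ne_zero Subgroup.index_ne_zero_of_finite
    have hlt : K.index < n := by omega
    have hK := ih K.index hlt K rfl
    have hstep := card_fixIn_le_sq V M g hV2 (hVn g) hgn hg2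
    rw [fixStep_eq_fixIn V hMK hgK hcov] at hstep
    calc Nat.card (fixIn V M) ≤ Nat.card (fixIn V K) ^ 2 := hstep
      _ ≤ (Nat.card (fixIn V ⊤) ^ K.index) ^ 2 := Nat.pow_le_pow_left hK 2
      _ = Nat.card (fixIn V ⊤) ^ n := by rw [← pow_mul, ← hM, hidx, mul_comm]

end chain

end Cfsg.Agent.Lib.Helper20.RuSyl
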