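import Cfsg.Agent.Lib.Helper20.RuSylB

set_option autoImplicit false

/-!
# Rudvalis-type 2-groups (S3174), part C: the fixed-point bound pulled back along `T → T/Φ`.
-/

namespace Cfsg.Agent.Lib.Helper20.RuSyl

section quot

variable {T : Type*} [Group T] (W Φ : Subgroup T) [hΦ : Φ.Normal]

/-- preimage in `T` of `C_{W/Φ}(M)`. -/
def fixMod (M : Subgroup T) : Subgroup T :=
  (fixIn (W.map (QuotientGroup.mk' Φ)) (M.map (QuotientGroup.mk' Φ))).comap (QuotientGroup.mk' Φ)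

/-- `|C_{W/Φ}(M)|`. -/
noncomputable def fixCard (M : Subgroup T) : ℕ :=
  Nat.card (fixIn (W.map (QuotientGroup.mk' Φ)) (M.map (QuotientGroup.mk' Φ)))

variable {W Φ}

theorem mk_mem_map_iff (hΦW : Φ ≤ W) {w : T} :
    (QuotientGroup.mk' Φ) w ∈ W.map (QuotientGroup.mk' Φ) ↔ w ∈ W := by
  constructor
  · rintro ⟨w', hw', h⟩
    have : w'⁻¹ * w ∈ Φ := by
      rw [← QuotientGroup.eq_one_iff, ← QuotientGroup.mk'_apply, map_mul, map_inv, h]
      simp
    have h2 : w = w' * (w'⁻¹ * w) := by group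
    rw [h2]
    exact W.mul_mem hw' (hΦW this)
  · intro hw
    exact ⟨w, hw, rfl⟩

theorem mem_fixMod (hΦW : Φ ≤ W) {M : Subgroup T} {w : T} :
    w ∈ fixMod W Φ M ↔ w ∈ W ∧ ∀ m ∈ M, m * w * m⁻¹ * w⁻¹ ∈ Φ := by
  unfold fixMod
  rw [Subgroup.mem_comap, mem_fixIn, mk_mem_map_iff hΦW]
  constructor
  · rintro ⟨hw, h⟩
    refine ⟨hw, fun m hm => ?_⟩
    have := h _ ⟨m, hm, rfl⟩
    rw [← QuotientGroup.eq_one_iff, ← QuotientGroup.mk'_apply, map_mul, map_mul, map_mul, this,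
      map_inv, map_inv]
    group
  · rintro ⟨hw, h⟩
    refine ⟨hw, ?_⟩
    rintro _ ⟨m, hm, rfl⟩
    have := h m hm
    rw [← QuotientGroup.eq_one_iff, ← QuotientGroup.mk'_apply, map_mul, map_mul, map_mul,
      map_inv, map_inv] at this
    have h2 : (QuotientGroup.mk' Φ) m * (QuotientGroup.mk' Φ) w =
        ((QuotientGroup.mk' Φ) m * (QuotientGroup.mk' Φ) w * ((QuotientGroup.mk' Φ) m)⁻¹ *
          ((QuotientGroup.mk' Φ) w)⁻¹) * ((QuotientGroup.mk' Φ) w * (QuotientGroup.mk' Φ) m) := by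
      group
    rw [h2, this, one_mul]

theorem fixMod_le (hΦW : Φ ≤ W) (M : Subgroup T) : fixMod W Φ M ≤ W :=
  fun _ hw => ((mem_fixMod hΦW).mp hw).1

theorem le_fixMod (hΦW : Φ ≤ W) (M : Subgroup T) : Φ ≤ fixMod W Φ M := by
  intro x hx
  rw [mem_fixMod hΦW]
  refine ⟨hΦW hx, fun m _ => ?_⟩
  have h1 : m * x * m⁻¹ ∈ Φ := hΦ.conj_mem x hx m
  exact Φ.mul_mem h1 (Φ.inv_mem hx)

theorem fixMod_anti (hΦW : Φ ≤ W) {M K : Subgroup T} (h : M ≤ K) :
    fixMod W Φ K ≤ fixMod W Φ M := by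
  intro w hw
  rw [mem_fixMod hΦW] at hw ⊢
  exact ⟨hw.1, fun m hm => hw.2 m (h hm)⟩

theorem card_comap_mk [Finite T] (K : Subgroup (T ⧸ Φ)) :
    Nat.card (K.comap (QuotientGroup.mk' Φ)) = Nat.card Φ * Nat.card K := by
  have h1 := Subgroup.card_mul_index (K.comap (QuotientGroup.mk' Φ))
  rw [Subgroup.index_comap_of_surjective K (QuotientGroup.mk'_surjective Φ)] at h1
  have h2 := Subgroup.card_mul_index K
  have h3 := Subgroup.card_eq_card_quotient_mul_card_subgroup Φ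
  have hpos : 0 < K.index := Nat.pos_of_ne_zero Subgroup.index_ne_zero_of_finite
  have : Nat.card (K.comap (QuotientGroup.mk' Φ)) * K.index =
      (Nat.card Φ * Nat.card K) * K.index := by
    rw [h1, h3, ← h2]; ring
  exact Nat.eq_of_mul_eq_mul_right hpos this

theorem card_fixMod [Finite T] (M : Subgroup T) :
    Nat.card (fixMod W Φ M) = Nat.card Φ * fixCard W Φ M :=
  card_comap_mk _

theorem fixCard_pos [Finite T] (M : Subgroup T) : 0 < fixCard W Φ M := Nat.card_pos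

section two

variable [Finite T] (hT : IsPGroup 2 T) (hWn : W.Normal) (hΦW : Φ ≤ W)
  (hsq : ∀ w ∈ W, w * w ∈ Φ)

include hΦW hsq in
theorem map_sq (v : T ⧸ Φ) (hv : v ∈ W.map (QuotientGroup.mk' Φ)) : v * v = 1 := by
  obtain ⟨w, hw, rfl⟩ := hv
  rw [← map_mul, QuotientGroup.mk'_apply, QuotientGroup.eq_one_iff]
  exact hsq w hw

include hWn in
theorem map_conj (g v : T ⧸ Φ) (hv : v ∈ W.map (QuotientGroup.mk' Φ)) :
    g * v * g⁻¹ ∈ W.map (QuotientGroup.mk' Φ) := by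
  obtain ⟨w, hw, rfl⟩ := hv
  obtain ⟨t, rfl⟩ := QuotientGroup.mk'_surjective Φ g
  exact ⟨t * w * t⁻¹, hWn.conj_mem w hw t, by simp⟩

include hT hWn hΦW hsq in
/-- `|C_{W/Φ}(M)| ≤ |C_{W/Φ}(T)| ^ |T : M|` for `Φ ≤ M`. -/
theorem fixCard_le_pow (M : Subgroup T) (hΦM : Φ ≤ M) :
    fixCard W Φ M ≤ fixCard W Φ ⊤ ^ M.index := by
  have hX : IsPGroup 2 (T ⧸ Φ) := hT.to_quotient Φ
  have h := card_fixIn_le_pow hX (W.map (QuotientGroup.mk' Φ)) (map_sq hΦW hsq)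
    (fun g v hv => map_conj hWn g v hv) _ (M.map (QuotientGroup.mk' Φ)) rfl
  have hidx : (M.map (QuotientGroup.mk' Φ)).index = M.index :=
    Subgroup.index_map_eq M (QuotientGroup.mk'_surjective Φ) (by rwa [QuotientGroup.ker_mk'])
  rw [hidx] at h
  have htop : (⊤ : Subgroup T).map (QuotientGroup.mk' Φ) = ⊤ :=
    Subgroup.map_top_of_surjective _ (QuotientGroup.mk'_surjective Φ)
  unfold fixCard
  rw [htop]
  exact h

include hWn hΦW hsq in
/-- one step for `M ≤ K` of index two, `g ∈ K ∖ M`. -/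
theorem fixCard_le_sq {M K : Subgroup T} (hMK : M ≤ K)
    (hc : Nat.card K = 2 * Nat.card M) :
    fixCard W Φ M ≤ fixCard W Φ K ^ 2 := by
  obtain ⟨⟨g, hgK, hgM⟩, hfacts⟩ := index_two_facts hMK hc
  obtain ⟨hg2, hgn, hcov⟩ := hfacts g hgK hgM
  set π := QuotientGroup.mk' Φ with hπ
  have hstep := card_fixIn_le_sq (W.map π) (M.map π) (π g) (map_sq hΦW hsq)
    (fun v hv => map_conj hWn (π g) v hv)
    (by
      rintro _ ⟨m, hm, rfl⟩
      exact ⟨g⁻¹ * m * g, hgn m hm, by simp⟩)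
    ⟨g * g, hg2, by simp⟩
  have heq : fixStep (W.map π) (M.map π) (π g) = fixIn (W.map π) (K.map π) := by
    apply fixStep_eq_fixIn (W.map π) (Subgroup.map_mono hMK) ⟨g, hgK, rfl⟩
    rintro _ ⟨k, hk, rfl⟩
    rcases hcov k hk with h | h
    · exact Or.inl ⟨k, h, rfl⟩
    · exact Or.inr ⟨g⁻¹ * k, h, by simp⟩
  rw [heq] at hstep
  exact hstep

include hWn hΦW hsq in
/-- equality case of the step: the commutator map with `g` is onto modulo `Φ`. -/
theorem exists_comm_of_fixCard_eq {M K : Subgroup T} (hMK : M ≤ K)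
    (hc : Nat.card K = 2 * Nat.card M) (heqc : fixCard W Φ M = fixCard W Φ K ^ 2)
    {g : T} (hgK : g ∈ K) (hgM : g ∉ M) :
    ∀ c ∈ fixMod W Φ K, ∃ v ∈ fixMod W Φ M, (v * (g * v⁻¹ * g⁻¹))⁻¹ * c ∈ Φ := by
  obtain ⟨_, hfacts⟩ := index_two_facts hMK hc
  obtain ⟨hg2, hgn, hcov⟩ := hfacts g hgK hgM
  set π := QuotientGroup.mk' Φ with hπ
  have heq : fixStep (W.map π) (M.map π) (π g) = fixIn (W.map π) (K.map π) := by
    apply fixStep_eq_fixIn (W.map π) (Subgroup.map_mono hMK) ⟨g, hgK, rfl⟩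
    rintro _ ⟨k, hk, rfl⟩
    rcases hcov k hk with h | h
    · exact Or.inl ⟨k, h, rfl⟩
    · exact Or.inr ⟨g⁻¹ * k, h, by simp⟩
  have hsur := exists_comm_eq_of_card_eq (W.map π) (M.map π) (π g) (map_sq hΦW hsq)
    (fun v hv => map_conj hWn (π g) v hv)
    (by
      rintro _ ⟨m, hm, rfl⟩
      exact ⟨g⁻¹ * m * g, hgn m hm, by simp⟩)
    ⟨g * g, hg2, by simp⟩
    (by rw [heq]; exact heqc)
  intro c hc
  have hc' : π c ∈ fixStep (W.map π) (M.map π) (π g) := by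
    rw [heq]; exact hc
  obtain ⟨vb, hvb, hvbc⟩ := hsur _ hc'
  obtain ⟨v, rfl⟩ := QuotientGroup.mk'_surjective Φ vb
  refine ⟨v, hvb, ?_⟩
  rw [← QuotientGroup.eq_one_iff, ← QuotientGroup.mk'_apply, ← hπ, map_mul, ← hvbc, map_inv,
    map_mul, map_mul, map_mul, map_inv, map_inv]
  exact inv_mul_cancel _

end two

end quot

end Cfsg.Agent.Lib.Helper20.RuSyl
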