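import Cfsg.Agent.Lib.Helper20.RuSylA
import Cfsg.Agent.Lib.Helper20.RuSylC
import Cfsg.Agent.Lib.Helper1.PGroup

set_option autoImplicit false

/-!
# Rudvalis-type 2-groups (S3174), part D: the order of `T`, `Φ(W) = Z₃(T)`.
-/

namespace Cfsg.Agent.Lib.Helper20.RuSyl

section general

variable {T : Type*} [Group T]

/-- `|K : C_K(x)| ≤ |N|` when all commutators of `K` with `x` lie in `N`. -/
theorem relIndex_centralizer_le [Finite T] (K N : Subgroup T) (x : T)
    (h : ∀ t ∈ K, t * x * t⁻¹ * x⁻¹ ∈ N) :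
    (Subgroup.centralizer {x}).relIndex K ≤ Nat.card N := by
  rw [Subgroup.relIndex, Subgroup.index_eq_card]
  let f : K ⧸ (Subgroup.centralizer {x}).subgroupOf K → N :=
    Quotient.lift (fun t : K => (⟨(t : T) * x * (t : T)⁻¹ * x⁻¹, h t t.2⟩ : N)) (by
      intro a b hab
      have hab' : a⁻¹ * b ∈ (Subgroup.centralizer {x}).subgroupOf K :=
        QuotientGroup.leftRel_apply.mp hab
      rw [Subgroup.mem_subgroupOf, Subgroup.mem_centralizer_iff] at hab'
      have hc := hab' x (Set.mem_singleton x)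
      apply Subtype.ext
      simp only [Subgroup.coe_mul, Subgroup.coe_inv] at hc ⊢
      have : (b : T) * x * (b : T)⁻¹ = (a : T) * x * (a : T)⁻¹ := by
        calc (b : T) * x * (b : T)⁻¹ = a * ((a : T)⁻¹ * b * x) * (b : T)⁻¹ := by group
          _ = a * (x * ((a : T)⁻¹ * b)) * (b : T)⁻¹ := by rw [← hc]
          _ = _ := by group
      rw [this])
  apply Nat.card_le_card_of_injective f
  intro a b
  induction a using Quotient.inductionOn with
  | _ a =>
    induction b using Quotient.inductionOn with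
    | _ b =>
      intro hab
      apply Quotient.sound
      apply QuotientGroup.leftRel_apply.mpr
      rw [Subgroup.mem_subgroupOf, Subgroup.mem_centralizer_iff]
      intro y hy
      rw [Set.mem_singleton_iff] at hy
      subst hy
      have h1 : (a : T) * y * (a : T)⁻¹ * y⁻¹ = (b : T) * y * (b : T)⁻¹ * y⁻¹ :=
        congrArg Subtype.val hab
      have h2 : (a : T) * y * (a : T)⁻¹ = (b : T) * y * (b : T)⁻¹ := mul_right_cancel h1
      simp only [Subgroup.coe_mul, Subgroup.coe_inv]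
      calc y * ((a : T)⁻¹ * b) = (a : T)⁻¹ * ((a : T) * y * (a : T)⁻¹) * b := by group
        _ = (a : T)⁻¹ * ((b : T) * y * (b : T)⁻¹) * b := by rw [h2]
        _ = _ := by group

/-- if `B` is twice as big as `A ≤ B` then any subgroup containing `A` and an element of `B ∖ A`
contains `B`. -/
theorem le_of_card_eq_two_mul [Finite T] {A B H : Subgroup T} (hAB : A ≤ B)
    (hc : Nat.card B = 2 * Nat.card A) (hAH : A ≤ H) {x : T} (hxH : x ∈ H) (hxB : x ∈ B)
    (hxA : x ∉ A) : B ≤ H := by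
  have h1 : A ≤ H ⊓ B := le_inf hAH hAB
  have h2 : H ⊓ B ≤ B := inf_le_right
  have hne : A ≠ H ⊓ B := by
    intro h
    apply hxA
    rw [h]
    exact ⟨hxH, hxB⟩
  have hlt := card_lt_card_of_lt (lt_of_le_of_ne h1 hne)
  obtain ⟨j, hj⟩ := Subgroup.card_dvd_of_le h1
  obtain ⟨i, hi⟩ := Subgroup.card_dvd_of_le h2
  have hpos : 0 < Nat.card A := Nat.card_pos
  have hj2 : 2 ≤ j := by
    by_contra hcon
    have : j = 0 ∨ j = 1 := by omega
    rcases this with rfl | rfl <;> omega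
  have hi1 : 1 ≤ i := by
    by_contra hcon
    have : i = 0 := by omega
    subst this
    omega
  have : Nat.card B ≤ Nat.card (H ⊓ B : Subgroup T) := by
    have e1 : Nat.card B = Nat.card A * j * i := by rw [hi, hj]
    have : j * i ≤ 2 := by
      have : Nat.card A * (j * i) = Nat.card A * 2 := by rw [← mul_assoc, ← e1, hc]; ring
      exact (Nat.eq_of_mul_eq_mul_left hpos this).le
    have hi' : i = 1 := by nlinarith
    rw [hi, hi', mul_one]
  have := Subgroup.eq_of_le_of_card_ge h2 this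
  intro b hb
  have : b ∈ H ⊓ B := by rw [this]; exact hb
  exact this.1

end general

/-- the hypotheses of S3174. -/
structure Ctx (T : Type*) [Group T] [Finite T] (W : Subgroup T) : Prop where
  hT : IsPGroup 2 T
  ha : 2 ^ 14 ≤ Nat.card T
  hb : Nat.card ↥(Subgroup.upperCentralSeries T 4) = 16
  hW : W = Subgroup.centralizer ((Subgroup.upperCentralSeries T 3 : Subgroup T) : Set T)
  hc : Nat.card ↥(frattini ↥W) ≤ 8
  hd : ∀ U : Subgroup ↥W, U.index ≤ 16 → frattini ↥W ≤ U

namespace Ctx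

variable {T : Type*} [Group T] [Finite T] {W : Subgroup T} (h : Ctx T W)

local notation "Z" => Subgroup.upperCentralSeries T

include h

theorem card_lt : 16 < Nat.card T := by
  have := h.ha
  norm_num at this
  omega

theorem card_Z1 : Nat.card (Z 1) = 2 := (card_ucs h.hT h.hb h.card_lt).1
theorem card_Z2 : Nat.card (Z 2) = 4 := (card_ucs h.hT h.hb h.card_lt).2.1
theorem card_Z3 : Nat.card (Z 3) = 8 := (card_ucs h.hT h.hb h.card_lt).2.2

theorem W_normal : W.Normal := by
  rw [h.hW]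
  infer_instance

/-- `Φ(W)` as a subgroup of `T`. -/
def Phi (_h : Ctx T W) : Subgroup T := (frattini ↥W).map W.subtype

theorem Phi_normal : h.Phi.Normal := by
  have := h.W_normal
  unfold Phi
  infer_instance

theorem Phi_le : h.Phi ≤ W := Subgroup.map_subtype_le _

theorem card_Phi : Nat.card h.Phi = Nat.card (frattini ↥W) := Subgroup.card_subtype _ _

theorem isPGroup_W : IsPGroup 2 ↥W := h.hT.to_subgroup W

theorem sq_mem_Phi {w : T} (hw : w ∈ W) : w * w ∈ h.Phi := by
  have : Fact (Nat.Prime 2) := ⟨Nat.prime_two⟩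
  have h1 := Cfsg.Agent.Lib.Helper1.IsPGroup.pow_mem_frattini h.isPGroup_W (⟨w, hw⟩ : ↥W)
  refine ⟨_, h1, ?_⟩
  simp [pow_two]

theorem comm_mem_Phi {u v : T} (hu : u ∈ W) (hv : v ∈ W) : u * v * u⁻¹ * v⁻¹ ∈ h.Phi := by
  have : Fact (Nat.Prime 2) := ⟨Nat.prime_two⟩
  have h1 := Cfsg.Agent.Lib.Helper1.IsPGroup.commutator_le_frattini h.isPGroup_W
  let a : ↥W := ⟨u, hu⟩
  let b : ↥W := ⟨v, hv⟩
  have h2 : a * b * a⁻¹ * b⁻¹ ∈ commutator ↥W := by
    rw [commutator_def]
    exact Subgroup.commutator_mem_commutator (Subgroup.mem_top a) (Subgroup.mem_top b)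
  refine ⟨_, h1 h2, ?_⟩
  simp [a, b]

/-- `x ∈ Z_{k+1}`, `t` arbitrary: both commutators lie in `Z_k`. -/
theorem comm_mem_Z {k : ℕ} {x : T} (hx : x ∈ Z (k + 1)) (t : T) :
    x * t * x⁻¹ * t⁻¹ ∈ Z k ∧ t * x * t⁻¹ * x⁻¹ ∈ Z k := by
  have h1 : x * t * x⁻¹ * t⁻¹ ∈ Z k := Subgroup.mem_upperCentralSeries_succ_iff.mp hx t
  refine ⟨h1, ?_⟩
  have := (Z k).inv_mem h1
  have e : (x * t * x⁻¹ * t⁻¹)⁻¹ = t * x * t⁻¹ * x⁻¹ := by group
  rwa [e] at this

theorem exists_Z3_not_Z2 : ∃ x ∈ Z 3, x ∉ Z 2 := by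
  by_contra hcon
  push Not at hcon
  have : Z 3 ≤ Z 2 := fun x hx => hcon x hx
  have := Subgroup.card_le_of_le this
  rw [h.card_Z3, h.card_Z2] at this
  omega

theorem exists_Z2_not_Z1 : ∃ x ∈ Z 2, x ∉ Z 1 := by
  by_contra hcon
  push Not at hcon
  have : Z 2 ≤ Z 1 := fun x hx => hcon x hx
  have := Subgroup.card_le_of_le this
  rw [h.card_Z2, h.card_Z1] at this
  omega

theorem Z1_le_centralizer (t : T) : Z 1 ≤ Subgroup.centralizer {t} := by
  intro z hz
  rw [Subgroup.upperCentralSeries_one, Subgroup.mem_center_iff] at hz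
  rw [Subgroup.mem_centralizer_iff]
  intro y hy
  rw [Set.mem_singleton_iff] at hy
  subst hy
  exact hz y

/-- an element centralizing `x ∈ Z₃ ∖ Z₂` and `y ∈ Z₂ ∖ Z₁` lies in `W`. -/
theorem mem_W_of_comm {x y t : T} (hx3 : x ∈ Z 3) (hx2 : x ∉ Z 2) (hy2 : y ∈ Z 2) (hy1 : y ∉ Z 1)
    (htx : t * x = x * t) (hty : t * y = y * t) : t ∈ W := by
  rw [h.hW, Subgroup.mem_centralizer_iff]
  have hx' : x ∈ Subgroup.centralizer {t} := by
    rw [Subgroup.mem_centralizer_iff]
    intro s hs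
    rw [Set.mem_singleton_iff] at hs
    subst hs
    exact htx
  have hy' : y ∈ Subgroup.centralizer {t} := by
    rw [Subgroup.mem_centralizer_iff]
    intro s hs
    rw [Set.mem_singleton_iff] at hs
    subst hs
    exact hty
  have h2 : Z 2 ≤ Subgroup.centralizer {t} :=
    le_of_card_eq_two_mul (Subgroup.upperCentralSeries_mono T (by norm_num : 1 ≤ 2))
      (by rw [h.card_Z2, h.card_Z1]) (h.Z1_le_centralizer t) hy' hy2 hy1
  have h3 : Z 3 ≤ Subgroup.centralizer {t} :=
    le_of_card_eq_two_mul (Subgroup.upperCentralSeries_mono T (by norm_num : 2 ≤ 3))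
      (by rw [h.card_Z3, h.card_Z2]) h2 hx' hx3 hx2
  intro z hz
  have := h3 hz
  rw [Subgroup.mem_centralizer_iff] at this
  exact (this t (Set.mem_singleton t)).symm

theorem index_W_le : W.index ≤ 8 := by
  obtain ⟨x, hx3, hx2⟩ := h.exists_Z3_not_Z2
  obtain ⟨y, hy2, hy1⟩ := h.exists_Z2_not_Z1
  have hle : Subgroup.centralizer {x} ⊓ Subgroup.centralizer {y} ≤ W := by
    intro t ht
    rw [Subgroup.mem_inf, Subgroup.mem_centralizer_iff, Subgroup.mem_centralizer_iff] at ht
    exact h.mem_W_of_comm hx3 hx2 hy2 hy1 (ht.1 x rfl).symm (ht.2 y rfl).symm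
  have h1 : (Subgroup.centralizer {x}).relIndex ⊤ ≤ Nat.card (Z 2) :=
    relIndex_centralizer_le ⊤ (Z 2) x (fun t _ => (h.comm_mem_Z hx3 t).2)
  have h2 : (Subgroup.centralizer {y}).relIndex ⊤ ≤ Nat.card (Z 1) :=
    relIndex_centralizer_le ⊤ (Z 1) y (fun t _ => (h.comm_mem_Z hy2 t).2)
  rw [Subgroup.relIndex_top_right] at h1 h2
  rw [h.card_Z2] at h1
  rw [h.card_Z1] at h2
  have h3 := Subgroup.index_inf_le (H := Subgroup.centralizer {x}) (K := Subgroup.centralizer {y})
  have h4 : W.index ≤ (Subgroup.centralizer {x} ⊓ Subgroup.centralizer {y}).index :=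
    Nat.le_of_dvd (Nat.pos_of_ne_zero Subgroup.index_ne_zero_of_finite)
      (Subgroup.index_dvd_of_le hle)
  nlinarith

end Ctx

end Cfsg.Agent.Lib.Helper20.RuSyl
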