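import Cfsg.Agent.Lib.Helper20.RuSylD

set_option autoImplicit false

/-!
# Rudvalis-type 2-groups (S3174), part E: counting, `|T| = 2^14`, `Φ(W) = Z₃`.
-/

namespace Cfsg.Agent.Lib.Helper20.RuSyl

open scoped commutatorElement

namespace Ctx

variable {T : Type*} [Group T] [Finite T] {W : Subgroup T}

instance instPhiNormal (h : Ctx T W) : h.Phi.Normal := h.Phi_normal

variable (h : Ctx T W)

local notation "Z" => Subgroup.upperCentralSeries T

include h

theorem card_Z4 : Nat.card (Z 4) = 16 := h.hb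

theorem exists_card_Phi : ∃ j, j ≤ 3 ∧ Nat.card h.Phi = 2 ^ j := by
  obtain ⟨j, hj⟩ := (h.hT.to_subgroup h.Phi).exists_card_eq
  refine ⟨j, ?_, hj⟩
  have h1 : Nat.card h.Phi ≤ 8 := by rw [h.card_Phi]; exact h.hc
  rw [hj] at h1
  by_contra hcon
  push Not at hcon
  have : 2 ^ 4 ≤ 2 ^ j := Nat.pow_le_pow_right (by norm_num) hcon
  omega

theorem card_Z_succ_of_le_three {j : ℕ} (hj : j ≤ 3) : Nat.card (Z (j + 1)) = 2 ^ (j + 1) := by
  interval_cases j
  · exact h.card_Z1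
  · exact h.card_Z2
  · exact h.card_Z3
  · exact h.card_Z4

theorem fixMod_top_le {j : ℕ} (hj : Nat.card h.Phi = 2 ^ j) :
    fixMod W h.Phi ⊤ ≤ Z (j + 1) := by
  have hΦZ : h.Phi ≤ Z j := normal_le_ucs h.hT j h.Phi h.Phi_normal hj.le
  intro w hw
  rw [mem_fixMod h.Phi_le] at hw
  rw [Subgroup.mem_upperCentralSeries_succ_iff]
  intro t
  have h1 := hΦZ (hw.2 t (Subgroup.mem_top t))
  have := (Z j).inv_mem h1
  have e : (t * w * t⁻¹ * w⁻¹)⁻¹ = ⁅w, t⁆ := by rw [commutatorElement_def]; group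
  rwa [e] at this

theorem fixCard_top_le : fixCard W h.Phi ⊤ ≤ 2 := by
  obtain ⟨j, hj3, hj⟩ := h.exists_card_Phi
  have h1 := Subgroup.card_le_of_le (h.fixMod_top_le hj)
  rw [card_fixMod, hj, h.card_Z_succ_of_le_three hj3, pow_succ] at h1
  have hpos : 0 < 2 ^ j := Nat.pos_of_ne_zero (by positivity)
  exact Nat.le_of_mul_le_mul_left h1 hpos

theorem fixMod_self : fixMod W h.Phi W = W := by
  apply le_antisymm (fixMod_le h.Phi_le W)
  intro w hw
  rw [mem_fixMod h.Phi_le]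
  exact ⟨hw, fun m hm => h.comm_mem_Phi hm hw⟩

theorem card_W : Nat.card W = Nat.card h.Phi * fixCard W h.Phi W := by
  rw [← card_fixMod, h.fixMod_self]

theorem fixCard_W_le : fixCard W h.Phi W ≤ fixCard W h.Phi ⊤ ^ W.index :=
  fixCard_le_pow h.hT h.W_normal h.Phi_le (fun _ hw => h.sq_mem_Phi hw) W h.Phi_le

/-- the main counting: all inequalities are equalities. -/
theorem counting :
    Nat.card T = 2 ^ 14 ∧ W.index = 8 ∧ Nat.card h.Phi = 8 ∧ fixCard W h.Phi W = 2 ^ 8 ∧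
      fixCard W h.Phi ⊤ = 2 := by
  have h1 := Subgroup.card_mul_index W
  have h2 := h.card_W
  have h3 := h.fixCard_W_le
  have h4 := h.fixCard_top_le
  have h5 := h.index_W_le
  have h6 : Nat.card h.Phi ≤ 8 := by rw [h.card_Phi]; exact h.hc
  have h7 := h.ha
  have hcpos : 0 < fixCard W h.Phi ⊤ := fixCard_pos _
  have hipos : 0 < W.index := Nat.pos_of_ne_zero Subgroup.index_ne_zero_of_finite
  set c := fixCard W h.Phi ⊤ with hc
  set n := W.index with hn
  set f := fixCard W h.Phi W with hf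
  set p := Nat.card h.Phi with hp
  -- f ≤ c^n ≤ 2^n
  have hf2 : f ≤ 2 ^ n := le_trans h3 (Nat.pow_le_pow_left h4 n)
  have hT : Nat.card T = p * f * n := by rw [← h1, h2]
  have hn8 : n = 8 := by
    by_contra hne
    have hn7 : n ≤ 7 := by omega
    have : f ≤ 2 ^ 7 := le_trans hf2 (Nat.pow_le_pow_right (by norm_num) hn7)
    have : p * f * n ≤ 8 * 2 ^ 7 * 7 := Nat.mul_le_mul (Nat.mul_le_mul h6 this) hn7
    rw [hT] at h7
    norm_num at h7 this
    omega
  rw [hn8] at hf2 h3 hT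
  have hf8 : f ≤ 256 := by norm_num at hf2; exact hf2
  have hpf : 2 ^ 11 ≤ p * f := by
    rw [hT] at h7
    norm_num at h7 ⊢
    omega
  have hp8 : p = 8 := by
    by_contra hne
    have : p ≤ 7 := by omega
    have : p * f ≤ 7 * 256 := Nat.mul_le_mul this hf8
    norm_num at hpf
    omega
  have hf256 : f = 256 := by
    rw [hp8] at hpf
    norm_num at hpf
    omega
  have hc2 : c = 2 := by
    by_contra hne
    have : c = 1 := by omega
    rw [this] at h3
    simp at h3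
    omega
  refine ⟨?_, hn8, hp8, by rw [hf256]; norm_num, hc2⟩
  rw [hT, hp8, hf256]
  norm_num

theorem card_T : Nat.card T = 2 ^ 14 := h.counting.1
theorem index_W : W.index = 8 := h.counting.2.1
theorem card_Phi_eq : Nat.card h.Phi = 8 := h.counting.2.2.1
theorem fixCard_W : fixCard W h.Phi W = 2 ^ 8 := h.counting.2.2.2.1
theorem fixCard_top : fixCard W h.Phi ⊤ = 2 := h.counting.2.2.2.2

theorem Phi_eq_Z3 : h.Phi = Z 3 :=
  normal_eq_ucs h.hT 3 h.Phi h.Phi_normal (by rw [h.card_Phi_eq]; norm_num)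
    (by rw [h.card_Z3]; norm_num)

theorem card_W_eq : Nat.card W = 2 ^ 11 := by
  rw [h.card_W, h.card_Phi_eq, h.fixCard_W]
  norm_num

theorem fixMod_top_eq : fixMod W h.Phi ⊤ = Z 4 := by
  have hj : Nat.card h.Phi = 2 ^ 3 := by rw [h.card_Phi_eq]; norm_num
  apply Subgroup.eq_of_le_of_card_ge (h.fixMod_top_le hj)
  rw [card_fixMod, h.card_Phi_eq, h.fixCard_top, h.card_Z4]

theorem Z3_le_W : Z 3 ≤ W := h.Phi_eq_Z3 ▸ h.Phi_le

theorem Z4_le_W : Z 4 ≤ W := h.fixMod_top_eq ▸ fixMod_le h.Phi_le ⊤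

end Ctx

end Cfsg.Agent.Lib.Helper20.RuSyl
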