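import Cfsg.Agent.Lib.Helper20.RuSylE

set_option autoImplicit false

/-!
# Rudvalis-type 2-groups (S3174), part F: hyperplanes avoiding an element; `W' = Φ(W)`.
-/

namespace Cfsg.Agent.Lib.Helper20.RuSyl

section hyper

variable {Y : Type*} [Group Y] [Finite Y]

/-- in a subgroup `A` of exponent two, a non-identity element `s` is avoided by a subgroup of
index two. -/
theorem exists_index_two_avoiding (A : Subgroup Y) (hA2 : ∀ a ∈ A, a * a = 1) {s : Y}
    (hsA : s ∈ A) (hs1 : s ≠ 1) :
    ∃ U : Subgroup Y, U ≤ A ∧ s ∉ U ∧ Nat.card A = 2 * Nat.card U := by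
  have hcomm : ∀ {u v : Y}, u ∈ A → v ∈ A → u * v = v * u := fun hu hv => comm_of_mem A hA2 hu hv
  have hinv : ∀ {u : Y}, u ∈ A → u⁻¹ = u := fun hu => inv_eq_self_of_mem A hA2 hu
  obtain ⟨U, ⟨hUA, hsU⟩, hmax⟩ :=
    Set.Finite.exists_maximal (s := {U : Subgroup Y | U ≤ A ∧ s ∉ U}) (Set.toFinite _)
      ⟨⊥, bot_le, by rwa [Subgroup.mem_bot]⟩
  have hcov : ∀ x ∈ A, x ∈ U ∨ x * s ∈ U := by
    intro x hxA
    by_contra hcon
    push Not at hcon
    obtain ⟨hxU, hxsU⟩ := hcon
    let U₁ : Subgroup Y :=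
      { carrier := {y | y ∈ A ∧ (y ∈ U ∨ y * x ∈ U)}
        one_mem' := ⟨A.one_mem, Or.inl U.one_mem⟩
        mul_mem' := by
          rintro a b ⟨haA, ha⟩ ⟨hbA, hb⟩
          refine ⟨A.mul_mem haA hbA, ?_⟩
          rcases ha with ha | ha <;> rcases hb with hb | hb
          · exact Or.inl (U.mul_mem ha hb)
          · right
            rw [mul_assoc]
            exact U.mul_mem ha hb
          · right
            have : a * b * x = (a * x) * b := by
              rw [mul_assoc, hcomm hbA hxA, ← mul_assoc]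
            rw [this]
            exact U.mul_mem ha hb
          · left
            have : a * b = (a * x) * (b * x) := by
              calc a * b = a * (x * x) * b := by rw [hA2 x hxA, mul_one]
                _ = (a * x) * (x * b) := by group
                _ = (a * x) * (b * x) := by rw [hcomm hxA hbA]
            rw [this]
            exact U.mul_mem ha hb
        inv_mem' := by
          rintro a ⟨haA, ha⟩
          rw [hinv haA]
          exact ⟨haA, ha⟩ }
    have hU₁ : U ≤ U₁ := fun u hu => ⟨hUA hu, Or.inl hu⟩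
    have hxU₁ : x ∈ U₁ := ⟨hxA, Or.inr (by rw [hA2 x hxA]; exact U.one_mem)⟩
    have hU₁A : U₁ ≤ A := fun y hy => hy.1
    have hsU₁ : s ∉ U₁ := by
      rintro ⟨_, h | h⟩
      · exact hsU h
      · apply hxsU
        rwa [hcomm hxA hsA]
    have := hmax ⟨hU₁A, hsU₁⟩ hU₁
    exact hxU (this hxU₁)
  refine ⟨U, hUA, hsU, ?_⟩
  have hrel : U.relIndex A = 2 := by
    rw [Subgroup.relIndex_eq_two_iff]
    refine ⟨s, hsA, fun b hb => ?_⟩
    rcases hcov b hb with h | h
    · refine Or.inr ⟨h, fun h2 => hsU ?_⟩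
      have : s = b⁻¹ * (b * s) := by group
      rw [this]
      exact U.mul_mem (U.inv_mem h) h2
    · refine Or.inl ⟨h, fun h2 => hsU ?_⟩
      have : s = b⁻¹ * (b * s) := by group
      rw [this]
      exact U.mul_mem (U.inv_mem h2) h
  have h1 := Subgroup.card_mul_index (U.subgroupOf A)
  rw [Nat.card_congr (Subgroup.subgroupOfEquivOfLe hUA).toEquiv] at h1
  rw [← h1]
  show _ = 2 * _
  have : (U.subgroupOf A).index = 2 := hrel
  rw [this, mul_comm]

end hyper

section hyperQ

variable {T : Type*} [Group T] [Finite T]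

/-- relative version: `H/N` of exponent two, `s ∈ H ∖ N`. -/
theorem exists_index_two_avoiding_mod (H N : Subgroup T) [hN : N.Normal] (hNH : N ≤ H)
    (hsq : ∀ x ∈ H, x * x ∈ N) {s : T} (hsH : s ∈ H) (hsN : s ∉ N) :
    ∃ U : Subgroup T, N ≤ U ∧ U ≤ H ∧ s ∉ U ∧ Nat.card H = 2 * Nat.card U := by
  set π := QuotientGroup.mk' N with hπ
  have hA2 : ∀ a ∈ H.map π, a * a = 1 := by
    rintro _ ⟨x, hx, rfl⟩
    rw [← map_mul, hπ, QuotientGroup.mk'_apply, QuotientGroup.eq_one_iff]
    exact hsq x hx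
  have hs1 : π s ≠ 1 := by
    rw [hπ, QuotientGroup.mk'_apply, Ne, QuotientGroup.eq_one_iff]
    exact hsN
  obtain ⟨U, hUA, hsU, hcard⟩ := exists_index_two_avoiding (H.map π) hA2 ⟨s, hsH, rfl⟩ hs1
  refine ⟨U.comap π, ?_, ?_, hsU, ?_⟩
  · intro n hn
    rw [Subgroup.mem_comap]
    have : π n = 1 := by rw [hπ, QuotientGroup.mk'_apply, QuotientGroup.eq_one_iff]; exact hn
    rw [this]
    exact U.one_mem
  · intro x hx
    have := hUA hx
    exact (mk_mem_map_iff hNH).mp this
  · have h1 : H = (H.map π).comap π := by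
      ext x
      rw [Subgroup.mem_comap]
      exact (mk_mem_map_iff hNH).symm
    rw [h1, card_comap_mk, card_comap_mk, hcard]
    ring

end hyperQ

end Cfsg.Agent.Lib.Helper20.RuSyl
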