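import Cfsg.Agent.Lib.Helper20.RuSylF

set_option autoImplicit false

/-!
# Rudvalis-type 2-groups (S3174), part G: `W' = Φ(W) = Z₃`, `Z₃` elementary abelian.
-/

namespace Cfsg.Agent.Lib.Helper20.RuSyl

theorem sq_mul_eq {T : Type*} [Group T] (u v : T) :
    (u * v) * (u * v) = (u * u) * (v * v) * (v⁻¹ * (v⁻¹ * u⁻¹ * v * u) * v) := by group

namespace Ctx

variable {T : Type*} [Group T] [Finite T] {W : Subgroup T} (h : Ctx T W)

local notation "Z" => Subgroup.upperCentralSeries T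

include h

/-- hypothesis `hd` for subgroups of `T`. -/
theorem Phi_le_of_card (U : Subgroup T) (hUW : U ≤ W) (hcard : Nat.card W ≤ 16 * Nat.card U) :
    h.Phi ≤ U := by
  have h1 : (U.subgroupOf W).index ≤ 16 := by
    have h2 := Subgroup.card_mul_index (U.subgroupOf W)
    rw [Nat.card_congr (Subgroup.subgroupOfEquivOfLe hUW).toEquiv] at h2
    have hpos : 0 < Nat.card U := Nat.card_pos
    rw [← h2, mul_comm] at hcard
    exact Nat.le_of_mul_le_mul_right hcard hpos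
  have h3 := h.hd _ h1
  rintro _ ⟨x, hx, rfl⟩
  exact h3 hx

theorem Z3_le_of_card (U : Subgroup T) (hUW : U ≤ W) (hcard : Nat.card W ≤ 16 * Nat.card U) :
    Z 3 ≤ U := h.Phi_eq_Z3 ▸ h.Phi_le_of_card U hUW hcard

theorem sq_mem_Z3 {w : T} (hw : w ∈ W) : w * w ∈ Z 3 := h.Phi_eq_Z3 ▸ h.sq_mem_Phi hw

theorem comm_mem_Z3 {u v : T} (hu : u ∈ W) (hv : v ∈ W) : u * v * u⁻¹ * v⁻¹ ∈ Z 3 :=
  h.Phi_eq_Z3 ▸ h.comm_mem_Phi hu hv

theorem Z2_le_Z3 : Z 2 ≤ Z 3 := Subgroup.upperCentralSeries_mono T (by norm_num)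

theorem card_Z3_eq_two_mul : Nat.card (Z 3) = 2 * Nat.card (Z 2) := by
  rw [h.card_Z3, h.card_Z2]

/-- the product of two elements of `Z₃ ∖ Z₂` lies in `Z₂`. -/
theorem mul_mem_Z2 {a b : T} (ha : a ∈ Z 3) (hb : b ∈ Z 3) (ha2 : a ∉ Z 2) (hb2 : b ∉ Z 2) :
    a * b ∈ Z 2 := by
  obtain ⟨_, hf⟩ := index_two_facts h.Z2_le_Z3 h.card_Z3_eq_two_mul
  obtain ⟨_, _, hcov⟩ := hf a⁻¹ ((Z 3).inv_mem ha) (fun hc => ha2 (by simpa using (Z 2).inv_mem hc))
  rcases hcov b hb with hc | hc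
  · exact absurd hc hb2
  · simpa using hc

theorem sq_mem_Z2_of_mem_Z3 {a : T} (ha : a ∈ Z 3) : a * a ∈ Z 2 := by
  by_cases ha2 : a ∈ Z 2
  · exact (Z 2).mul_mem ha2 ha2
  · exact h.mul_mem_Z2 ha ha ha2 ha2

theorem commutator_le_Z3 : ⁅W, W⁆ ≤ Z 3 := by
  rw [Subgroup.commutator_le]
  intro u hu v hv
  rw [commutatorElement_def]
  exact h.comm_mem_Z3 hu hv

/-- `W' = Z₃`. -/
theorem commutator_eq_Z3 : ⁅W, W⁆ = Z 3 := by
  by_contra hne
  have hWn := h.W_normal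
  have hDn : (⁅W, W⁆ : Subgroup T).Normal := inferInstance
  have hlt : (⁅W, W⁆ : Subgroup T) < Z 3 := lt_of_le_of_ne h.commutator_le_Z3 hne
  have hDc : Nat.card (⁅W, W⁆ : Subgroup T) ≤ 2 ^ 2 := by
    have h1 := card_lt_card_of_lt hlt
    obtain ⟨j, hj⟩ := Subgroup.card_dvd_of_le hlt.le
    rw [h.card_Z3] at h1 hj
    have hj2 : 2 ≤ j := by
      by_contra hcon
      have : j = 0 ∨ j = 1 := by omega
      rcases this with rfl | rfl <;> omega
    nlinarith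
  have hDZ2 : (⁅W, W⁆ : Subgroup T) ≤ Z 2 := normal_le_ucs h.hT 2 _ hDn hDc
  have hcomm : ∀ {u v : T}, u ∈ W → v ∈ W → v⁻¹ * u⁻¹ * v * u ∈ Z 2 := by
    intro u v hu hv
    apply hDZ2
    have := Subgroup.commutator_mem_commutator (W.inv_mem hv) (W.inv_mem hu)
    rw [commutatorElement_def] at this
    simpa using this
  have hZ2n : (Z 2).Normal := inferInstance
  -- Ω
  let Ω : Subgroup T :=
    { carrier := {w | w ∈ W ∧ w * w ∈ Z 2}
      one_mem' := ⟨W.one_mem, by simp⟩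
      mul_mem' := by
        rintro u v ⟨hu, hu2⟩ ⟨hv, hv2⟩
        refine ⟨W.mul_mem hu hv, ?_⟩
        rw [sq_mul_eq]
        refine (Z 2).mul_mem ((Z 2).mul_mem hu2 hv2) ?_
        have := hZ2n.conj_mem _ (hcomm hu hv) v⁻¹
        simpa using this
      inv_mem' := by
        rintro u ⟨hu, hu2⟩
        refine ⟨W.inv_mem hu, ?_⟩
        have := (Z 2).inv_mem hu2
        simpa using this }
  have hΩW : Ω ≤ W := fun w hw => hw.1
  have hZ3Ω : Z 3 ≤ Ω := fun z hz => ⟨h.Z3_le_W hz, h.sq_mem_Z2_of_mem_Z3 hz⟩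
  have hcardΩ : Nat.card W ≤ 2 * Nat.card Ω := by
    by_cases hall : ∀ w ∈ W, w ∈ Ω
    · have : W ≤ Ω := hall
      have := Subgroup.card_le_of_le this
      omega
    · push Not at hall
      obtain ⟨u, huW, huΩ⟩ := hall
      have hu2 : u * u ∉ Z 2 := fun hc => huΩ ⟨huW, hc⟩
      have hrel : Ω.relIndex W = 2 := by
        rw [Subgroup.relIndex_eq_two_iff]
        refine ⟨u, huW, fun b hb => ?_⟩
        by_cases hbΩ : b ∈ Ω
        · refine Or.inr ⟨hbΩ, fun hc => huΩ ?_⟩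
          have : u = b⁻¹ * (b * u) := by group
          rw [this]
          exact Ω.mul_mem (Ω.inv_mem hbΩ) hc
        · refine Or.inl ⟨?_, hbΩ⟩
          have hb2 : b * b ∉ Z 2 := fun hc => hbΩ ⟨hb, hc⟩
          refine ⟨W.mul_mem hb huW, ?_⟩
          rw [sq_mul_eq]
          refine (Z 2).mul_mem (h.mul_mem_Z2 (h.sq_mem_Z3 hb) (h.sq_mem_Z3 huW) hb2 hu2) ?_
          have := hZ2n.conj_mem _ (hcomm hb huW) u⁻¹
          simpa using this
      have h1 := Subgroup.card_mul_index (Ω.subgroupOf W)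
      rw [Nat.card_congr (Subgroup.subgroupOfEquivOfLe hΩW).toEquiv] at h1
      have : (Ω.subgroupOf W).index = 2 := hrel
      rw [this] at h1
      omega
  obtain ⟨s, hs3, hs2⟩ := h.exists_Z3_not_Z2
  obtain ⟨U, _, hUΩ, hsU, hcU⟩ :=
    exists_index_two_avoiding_mod Ω (Z 2) (fun z hz => hZ3Ω (h.Z2_le_Z3 hz))
      (fun x hx => hx.2) (hZ3Ω hs3) hs2
  have := h.Z3_le_of_card U (hUΩ.trans hΩW) (by omega)
  exact hsU (this hs3)

/-- `Z₃` is elementary abelian. -/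
theorem sq_eq_one_of_mem_Z3 : ∀ z ∈ Z 3, z * z = 1 := by
  -- Z₃ = W' is generated by commutators of order ≤ 2, and is central in W
  have hcen : ∀ z ∈ Z 3, ∀ w ∈ W, w * z = z * w := by
    intro z hz w hw
    rw [h.hW, Subgroup.mem_centralizer_iff] at hw
    exact (hw z hz).symm
  have hZ3comm : ∀ a ∈ Z 3, ∀ b ∈ Z 3, a * b = b * a :=
    fun a ha b hb => hcen b hb a (h.Z3_le_W ha)
  intro z hz
  rw [← h.commutator_eq_Z3] at hz
  rw [Subgroup.commutator_def] at hz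
  induction hz using Subgroup.closure_induction with
  | mem x hx =>
    obtain ⟨u, hu, v, hv, rfl⟩ := hx
    rw [commutatorElement_def]
    -- [u,v]^2 = [u^2, v] (class two) and u^2 is central
    have hc : u * v * u⁻¹ * v⁻¹ ∈ Z 3 := h.comm_mem_Z3 hu hv
    have hu2 : u * u ∈ Z 3 := h.sq_mem_Z3 hu
    have e1 := hcen _ hc u hu
    have e2 := hcen _ hu2 v hv
    have e3 : u * (u * v * u⁻¹ * v⁻¹) * u⁻¹ = u * v * u⁻¹ * v⁻¹ := by rw [e1]; group
    calc (u * v * u⁻¹ * v⁻¹) * (u * v * u⁻¹ * v⁻¹)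
        = (u * (u * v * u⁻¹ * v⁻¹) * u⁻¹) * (u * v * u⁻¹ * v⁻¹) := by rw [e3]
      _ = (u * u * v) * (u * u)⁻¹ * v⁻¹ := by group
      _ = (v * (u * u)) * (u * u)⁻¹ * v⁻¹ := by rw [← e2]
      _ = 1 := by group
  | one => simp
  | mul a b ha hb iha ihb =>
    have haZ : a ∈ Z 3 := by
      rw [← h.commutator_eq_Z3, Subgroup.commutator_def]; exact ha
    have hbZ : b ∈ Z 3 := by
      rw [← h.commutator_eq_Z3, Subgroup.commutator_def]; exact hb
    calc a * b * (a * b) = a * (b * a) * b := by group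
      _ = a * (a * b) * b := by rw [hZ3comm b hbZ a haZ]
      _ = (a * a) * (b * b) := by group
      _ = 1 := by rw [iha, ihb, one_mul]
  | inv a ha iha =>
    have : a⁻¹ * a⁻¹ = (a * a)⁻¹ := by group
    rw [this, iha, inv_one]

end Ctx

end Cfsg.Agent.Lib.Helper20.RuSyl
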