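import Cfsg.Agent.Lib.Helper20.RuSylG
import Cfsg.Agent.Lib.Helper14.DihedralCrit

set_option autoImplicit false

/-!
# Rudvalis-type 2-groups (S3174), part H: `T/W ≅ D₈`.
-/

namespace Cfsg.Agent.Lib.Helper20.RuSyl

section general

variable {T : Type*} [Group T] [Finite T]

/-- if `|N| ≤ |K : C_K(x)|` and all commutators of `K` with `x` lie in `N`, every element of `N`
is such a commutator. -/
theorem exists_comm_eq_of_card_le (K N : Subgroup T) (x : T)
    (h : ∀ t ∈ K, t * x * t⁻¹ * x⁻¹ ∈ N)
    (hcard : Nat.card N ≤ (Subgroup.centralizer {x}).relIndex K) :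
    ∀ n ∈ N, ∃ t ∈ K, t * x * t⁻¹ * x⁻¹ = n := by
  rw [Subgroup.relIndex, Subgroup.index_eq_card] at hcard
  let f : K ⧸ (Subgroup.centralizer {x}).subgroupOf K → N :=
    Quotient.lift (fun t : K => (⟨(t : T) * x * (t : T)⁻¹ * x⁻¹, h t t.2⟩ : N)) (by
      intro a b hab
      have hab' : a⁻¹ * b ∈ (Subgroup.centralizer {x}).subgroupOf K :=
        QuotientGroup.leftRel_apply.mp hab
      rw [Subgroup.mem_subgroupOf, Subgroup.mem_centralizer_iff] at hab'
      have hc := hab' x (Set.mem_singleton x)
      apply Subtype.ext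
      simp only [Subgroup.coe_mul, Subgroup.coe_inv] at hc ⊢
      have : (b : T) * x * (b : T)⁻¹ = (a : T) * x * (a : T)⁻¹ := by
        calc (b : T) * x * (b : T)⁻¹ = a * ((a : T)⁻¹ * b * x) * (b : T)⁻¹ := by group
          _ = a * (x * ((a : T)⁻¹ * b)) * (b : T)⁻¹ := by rw [← hc]
          _ = _ := by group
      rw [this])
  have hinj : Function.Injective f := by
    intro a b
    induction a using Quotient.inductionOn with
    | _ a =>
      induction b using Quotient.inductionOn with
      | _ b =>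
        intro hab
        apply Quotient.sound
        apply QuotientGroup.leftRel_apply.mpr
        rw [Subgroup.mem_subgroupOf, Subgroup.mem_centralizer_iff]
        intro y hy
        rw [Set.mem_singleton_iff] at hy
        subst hy
        have h1 : (a : T) * y * (a : T)⁻¹ * y⁻¹ = (b : T) * y * (b : T)⁻¹ * y⁻¹ :=
          congrArg Subtype.val hab
        have h2 : (a : T) * y * (a : T)⁻¹ = (b : T) * y * (b : T)⁻¹ := mul_right_cancel h1
        simp only [Subgroup.coe_mul, Subgroup.coe_inv]
        calc y * ((a : T)⁻¹ * b) = (a : T)⁻¹ * ((a : T) * y * (a : T)⁻¹) * b := by group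
          _ = (a : T)⁻¹ * ((b : T) * y * (b : T)⁻¹) * b := by rw [h2]
          _ = _ := by group
  have hbij := hinj.bijective_of_nat_card_le hcard
  intro n hn
  obtain ⟨q, hq⟩ := hbij.2 ⟨n, hn⟩
  induction q using Quotient.inductionOn with
  | _ t =>
    exact ⟨t, t.2, congrArg Subtype.val hq⟩

end general

namespace Ctx

variable {T : Type*} [Group T] [Finite T] {W : Subgroup T} (h : Ctx T W)

local notation "Z" => Subgroup.upperCentralSeries T

include h

theorem Z_comm_of_mem_W {z w : T} (hz : z ∈ Z 3) (hw : w ∈ W) : w * z = z * w := by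
  rw [h.hW, Subgroup.mem_centralizer_iff] at hw
  exact (hw z hz).symm

theorem Z1_central {z : T} (hz : z ∈ Z 1) (t : T) : t * z = z * t := by
  rw [Subgroup.upperCentralSeries_one, Subgroup.mem_center_iff] at hz
  exact hz t

theorem exists_Z1_ne_one : ∃ z ∈ Z 1, z ≠ 1 := by
  by_contra hcon
  push Not at hcon
  have : Z 1 ≤ ⊥ := fun z hz => by rw [Subgroup.mem_bot]; exact hcon z hz
  have := Subgroup.card_le_of_le this
  rw [h.card_Z1, Subgroup.card_bot] at this
  omega

theorem Z1_le_Z2 : Z 1 ≤ Z 2 := Subgroup.upperCentralSeries_mono T (by norm_num)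

/-- the two generators of `T` modulo `W`. -/
theorem exists_gens (x y : T) (hx3 : x ∈ Z 3) (hx2 : x ∉ Z 2) (hy2 : y ∈ Z 2) (hy1 : y ∉ Z 1) :
    ∃ z₁ ts ta : T, z₁ ∈ Z 1 ∧ z₁ ≠ 1 ∧ ts * y = y * ts ∧ ts * x * ts⁻¹ = y * x ∧
      ta * x = x * ta ∧ ta * y * ta⁻¹ = z₁ * y := by
  have hWeq : W = Subgroup.centralizer {x} ⊓ Subgroup.centralizer {y} := by
    apply le_antisymm
    · intro w hw
      rw [Subgroup.mem_inf, Subgroup.mem_centralizer_iff, Subgroup.mem_centralizer_iff]
      refine ⟨fun a ha => ?_, fun a ha => ?_⟩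
      · rw [Set.mem_singleton_iff] at ha; subst ha
        exact (h.Z_comm_of_mem_W hx3 hw).symm
      · rw [Set.mem_singleton_iff] at ha; subst ha
        exact (h.Z_comm_of_mem_W (h.Z2_le_Z3 hy2) hw).symm
    · intro t ht
      rw [Subgroup.mem_inf, Subgroup.mem_centralizer_iff, Subgroup.mem_centralizer_iff] at ht
      exact h.mem_W_of_comm hx3 hx2 hy2 hy1 (ht.1 x rfl).symm (ht.2 y rfl).symm
  have hidx := h.index_W
  have hx_idx : (Subgroup.centralizer {x}).index ≤ 4 := by
    have := relIndex_centralizer_le ⊤ (Z 2) x (fun t _ => (h.comm_mem_Z hx3 t).2)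
    rwa [Subgroup.relIndex_top_right, h.card_Z2] at this
  have hy_idx : (Subgroup.centralizer {y}).index ≤ 2 := by
    have := relIndex_centralizer_le ⊤ (Z 1) y (fun t _ => (h.comm_mem_Z hy2 t).2)
    rwa [Subgroup.relIndex_top_right, h.card_Z1] at this
  have hxy : (Subgroup.centralizer {x}).relIndex (Subgroup.centralizer {y}) ≤ 4 := by
    have := relIndex_centralizer_le (Subgroup.centralizer {y}) (Z 2) x
      (fun t _ => (h.comm_mem_Z hx3 t).2)
    rwa [h.card_Z2] at this
  have hyx : (Subgroup.centralizer {y}).relIndex (Subgroup.centralizer {x}) ≤ 2 := by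
    have := relIndex_centralizer_le (Subgroup.centralizer {x}) (Z 1) y
      (fun t _ => (h.comm_mem_Z hy2 t).2)
    rwa [h.card_Z1] at this
  have e1 : (Subgroup.centralizer {x}).relIndex (Subgroup.centralizer {y}) *
      (Subgroup.centralizer {y}).index = 8 := by
    have := Subgroup.relIndex_mul_index (H := Subgroup.centralizer {x} ⊓ Subgroup.centralizer {y})
      (K := Subgroup.centralizer {y}) inf_le_right
    rw [Subgroup.inf_relIndex_right, ← hWeq, hidx] at this
    exact this
  have e2 : (Subgroup.centralizer {y}).relIndex (Subgroup.centralizer {x}) *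
      (Subgroup.centralizer {x}).index = 8 := by
    have := Subgroup.relIndex_mul_index (H := Subgroup.centralizer {x} ⊓ Subgroup.centralizer {y})
      (K := Subgroup.centralizer {x}) inf_le_left
    rw [Subgroup.inf_relIndex_left, ← hWeq, hidx] at this
    exact this
  have hxy4 : (Subgroup.centralizer {x}).relIndex (Subgroup.centralizer {y}) = 4 := by nlinarith
  have hyx2 : (Subgroup.centralizer {y}).relIndex (Subgroup.centralizer {x}) = 2 := by nlinarith
  obtain ⟨z₁, hz₁, hz₁1⟩ := h.exists_Z1_ne_one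
  obtain ⟨ts, hts, hts'⟩ := exists_comm_eq_of_card_le (Subgroup.centralizer {y}) (Z 2) x
    (fun t _ => (h.comm_mem_Z hx3 t).2) (by rw [h.card_Z2, hxy4]) y hy2
  obtain ⟨ta, hta, hta'⟩ := exists_comm_eq_of_card_le (Subgroup.centralizer {x}) (Z 1) y
    (fun t _ => (h.comm_mem_Z hy2 t).2) (by rw [h.card_Z1, hyx2]) z₁ hz₁
  rw [Subgroup.mem_centralizer_iff] at hts hta
  refine ⟨z₁, ts, ta, hz₁, hz₁1, (hts y rfl).symm, ?_, (hta x rfl).symm, ?_⟩
  · calc ts * x * ts⁻¹ = (ts * x * ts⁻¹ * x⁻¹) * x := by group
      _ = y * x := by rw [hts']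
  · calc ta * y * ta⁻¹ = (ta * y * ta⁻¹ * y⁻¹) * y := by group
      _ = z₁ * y := by rw [hta']

theorem card_quotient : Nat.card (T ⧸ W) = 8 := by
  rw [← Subgroup.index_eq_card]; exact h.index_W

/-- `T/W ≅ D₈`. -/
theorem quotient_dihedral : ∃ (_ : W.Normal), Nonempty (T ⧸ W ≃* DihedralGroup 4) := by
  have hWn := h.W_normal
  refine ⟨hWn, ?_⟩
  obtain ⟨x, hx3, hx2⟩ := h.exists_Z3_not_Z2
  obtain ⟨y, hy2, hy1⟩ := h.exists_Z2_not_Z1
  obtain ⟨z₁, ts, ta, hz₁, hz₁1, htsy, htsx, htax, htay⟩ := h.exists_gens x y hx3 hx2 hy2 hy1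
  have hy3 : y ∈ Z 3 := h.Z2_le_Z3 hy2
  have hz₁3 : z₁ ∈ Z 3 := h.Z2_le_Z3 (h.Z1_le_Z2 hz₁)
  have hyy : y * y = 1 := h.sq_eq_one_of_mem_Z3 y hy3
  have hzz : z₁ * z₁ = 1 := h.sq_eq_one_of_mem_Z3 z₁ hz₁3
  have hy_ne : y ≠ 1 := fun hc => hy1 (hc ▸ (Z 1).one_mem)
  have hzc : ∀ t : T, t * z₁ = z₁ * t := fun t => h.Z1_central hz₁ t
  -- rewriting rules
  have r1 : ts * x = y * x * ts := by
    calc ts * x = (ts * x * ts⁻¹) * ts := by group
      _ = y * x * ts := by rw [htsx]
  have r2 : ta * y = z₁ * y * ta := by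
    calc ta * y = (ta * y * ta⁻¹) * ta := by group
      _ = z₁ * y * ta := by rw [htay]
  have f1 : ta * ta ∈ W := by
    apply h.mem_W_of_comm hx3 hx2 hy2 hy1
    · calc ta * ta * x = ta * (ta * x) := by group
        _ = ta * (x * ta) := by rw [htax]
        _ = (ta * x) * ta := by group
        _ = x * (ta * ta) := by rw [htax]; group
    · calc ta * ta * y = ta * (ta * y) := by group
        _ = ta * (z₁ * y * ta) := by rw [r2]
        _ = (ta * z₁) * y * ta := by group
        _ = z₁ * (ta * y) * ta := by rw [hzc ta]; group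
        _ = z₁ * (z₁ * y * ta) * ta := by rw [r2]
        _ = (z₁ * z₁) * y * (ta * ta) := by group
        _ = y * (ta * ta) := by rw [hzz, one_mul]
  have f2 : ts * ts ∈ W := by
    apply h.mem_W_of_comm hx3 hx2 hy2 hy1
    · calc ts * ts * x = ts * (ts * x) := by group
        _ = ts * (y * x * ts) := by rw [r1]
        _ = (ts * y) * x * ts := by group
        _ = y * (ts * x) * ts := by rw [htsy]; group
        _ = y * (y * x * ts) * ts := by rw [r1]
        _ = (y * y) * x * (ts * ts) := by group
        _ = x * (ts * ts) := by rw [hyy, one_mul]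
    · calc ts * ts * y = ts * (ts * y) := by group
        _ = ts * (y * ts) := by rw [htsy]
        _ = (ts * y) * ts := by group
        _ = y * (ts * ts) := by rw [htsy]; group
  have f4 : ta ∉ W := by
    intro hc
    have := h.Z_comm_of_mem_W hy3 hc
    rw [r2] at this
    apply hz₁1
    have e : z₁ * y * ta = 1 * y * ta := by rw [this]; group
    exact mul_right_cancel (mul_right_cancel e)
  have f5 : ts ∉ W := by
    intro hc
    have := h.Z_comm_of_mem_W hx3 hc
    rw [r1] at this
    apply hy_ne
    have e : y * x * ts = 1 * x * ts := by rw [this]; group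
    exact mul_right_cancel (mul_right_cancel e)
  have f3 : (ts * ta) * (ts * ta) ∉ W := by
    intro hc
    have hr0x : (ts * ta) * x = y * x * (ts * ta) := by
      calc (ts * ta) * x = ts * (ta * x) := by group
        _ = ts * (x * ta) := by rw [htax]
        _ = (ts * x) * ta := by group
        _ = y * x * ts * ta := by rw [r1]
        _ = _ := by group
    have hr0y : (ts * ta) * y = z₁ * y * (ts * ta) := by
      calc (ts * ta) * y = ts * (ta * y) := by group
        _ = ts * (z₁ * y * ta) := by rw [r2]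
        _ = (ts * z₁) * y * ta := by group
        _ = z₁ * (ts * y) * ta := by rw [hzc ts]; group
        _ = z₁ * (y * ts) * ta := by rw [htsy]
        _ = _ := by group
    have h2 : (ts * ta) * (ts * ta) * x = z₁ * x * ((ts * ta) * (ts * ta)) := by
      calc (ts * ta) * (ts * ta) * x = (ts * ta) * ((ts * ta) * x) := by group
        _ = (ts * ta) * (y * x * (ts * ta)) := by rw [hr0x]
        _ = ((ts * ta) * y) * x * (ts * ta) := by group
        _ = (z₁ * y * (ts * ta)) * x * (ts * ta) := by rw [hr0y]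
        _ = z₁ * y * ((ts * ta) * x) * (ts * ta) := by group
        _ = z₁ * y * (y * x * (ts * ta)) * (ts * ta) := by rw [hr0x]
        _ = z₁ * (y * y) * x * ((ts * ta) * (ts * ta)) := by group
        _ = z₁ * x * ((ts * ta) * (ts * ta)) := by rw [hyy, mul_one]
    have h3 := h.Z_comm_of_mem_W hx3 hc
    rw [h2] at h3
    apply hz₁1
    have e : z₁ * x * (ts * ta * (ts * ta)) = 1 * x * (ts * ta * (ts * ta)) := by rw [h3]; group
    exact mul_right_cancel (mul_right_cancel e)
  -- pass to the quotient
  set π := QuotientGroup.mk' W with hπ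
  have hπ1 : ∀ {g : T}, π g = 1 ↔ g ∈ W := fun {g} => by
    rw [hπ, QuotientGroup.mk'_apply, QuotientGroup.eq_one_iff]
  set s := π ta with hs
  set u := π ts with hu
  have hss : s * s = 1 := by rw [hs, ← map_mul, hπ1]; exact f1
  have huu : u * u = 1 := by rw [hu, ← map_mul, hπ1]; exact f2
  have hs1 : s ≠ 1 := fun hc => f4 (hπ1.mp hc)
  have hu1 : u ≠ 1 := fun hc => f5 (hπ1.mp hc)
  have hrr : (u * s) * (u * s) ≠ 1 := by
    intro hc
    rw [hs, hu, ← map_mul, ← map_mul, hπ1] at hc
    exact f3 hc
  have hsi : s⁻¹ = s := inv_eq_of_mul_eq_one_left hss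
  have hui : u⁻¹ = u := inv_eq_of_mul_eq_one_left huu
  have hcard := h.card_quotient
  have hord : orderOf (u * s) = 4 := by
    have hdvd : orderOf (u * s) ∣ 2 ^ 3 := by
      have := orderOf_dvd_natCard (u * s)
      rw [hcard] at this
      exact this
    obtain ⟨k, hk3, hk⟩ := (Nat.dvd_prime_pow Nat.prime_two).mp hdvd
    interval_cases k
    · exfalso
      rw [pow_zero, orderOf_eq_one_iff] at hk
      apply hrr
      rw [hk, one_mul]
    · exfalso
      apply hrr
      have := pow_orderOf_eq_one (u * s)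
      rw [hk] at this
      rw [← this]; simp [pow_two]
    · rw [hk]; norm_num
    · exfalso
      have h8 : orderOf (u * s) = Nat.card (T ⧸ W) := by rw [hk, hcard]; norm_num
      have hcyc := isCyclic_of_orderOf_eq_card (u * s) h8
      have hcomm : ∀ a b : T ⧸ W, a * b = b * a := by
        let _i := IsCyclic.commGroup (α := T ⧸ W)
        exact fun a b => mul_comm a b
      apply hrr
      calc u * s * (u * s) = u * (s * u) * s := by group
        _ = u * (u * s) * s := by rw [hcomm s u]
        _ = (u * u) * (s * s) := by group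
        _ = 1 := by rw [huu, hss, one_mul]
  have hr4 : (u * s) ^ 4 = 1 := by rw [← hord]; exact pow_orderOf_eq_one _
  have hsrs : s * (u * s) * s = (u * s)⁻¹ := by
    rw [mul_inv_rev, hsi, hui]
    calc s * (u * s) * s = s * u * (s * s) := by group
      _ = s * u := by rw [hss, mul_one]
  have hnot : s ∉ Subgroup.zpowers (u * s) := by
    intro hc
    classical
    have h1 : s ∈ Submonoid.powers (u * s) := mem_powers_iff_mem_zpowers.mpr hc
    rw [mem_powers_iff_mem_range_orderOf, hord] at h1
    simp only [Finset.mem_image, Finset.mem_range] at h1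
    obtain ⟨a, ha4, ha⟩ := h1
    interval_cases a
    · apply hs1; rw [← ha]; simp
    · apply hu1
      rw [pow_one] at ha
      have : u * s = 1 * s := by rw [ha, one_mul]
      exact mul_right_cancel this
    · apply hs1
      rw [pow_two] at ha
      have e : u * s * u = 1 := by
        have : (u * s * u) * s = 1 * s := by
          calc (u * s * u) * s = u * s * (u * s) := by group
            _ = s := ha
            _ = 1 * s := (one_mul s).symm
        exact mul_right_cancel this
      calc s = u⁻¹ * (u * s * u) * u⁻¹ := by group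
        _ = 1 := by rw [e, hui, mul_one, huu]
    · apply hu1
      have e : (u * s) ^ 3 = (u * s)⁻¹ := by
        have : (u * s) ^ 3 * (u * s) = 1 := by rw [← pow_succ]; exact hr4
        exact eq_inv_of_mul_eq_one_left this
      rw [e, mul_inv_rev, hsi, hui] at ha
      have : s * u = s * 1 := by rw [ha, mul_one]
      exact mul_left_cancel this
  exact Cfsg.Agent.Lib.Helper14.nonempty_mulEquiv_dihedral 4 (by rw [hcard]) (u * s) s hr4 hss
    hsrs hord hnot

end Ctx

end Cfsg.Agent.Lib.Helper20.RuSyl
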