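import Mathlib

set_option autoImplicit false

/-!
# Rudvalis-type 2-groups (S3174), part I: class-two calculus in `W` with `W' ≤ Z ≤ Z(W)`,
`Z` of exponent two, `[Z, T] ≤ N`.
-/

namespace Cfsg.Agent.Lib.Helper20.RuSyl

/-- the data for the class-two calculus. -/
structure C2Data {T : Type*} [Group T] (W Z N : Subgroup T) : Prop where
  hWn : ∀ w ∈ W, ∀ g : T, g * w * g⁻¹ ∈ W
  hNn : ∀ n ∈ N, ∀ g : T, g * n * g⁻¹ ∈ N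
  hZW : Z ≤ W
  hNZ : N ≤ Z
  hcen : ∀ z ∈ Z, ∀ w ∈ W, w * z = z * w
  hκ : ∀ a ∈ W, ∀ b ∈ W, a * b * a⁻¹ * b⁻¹ ∈ Z
  hsq : ∀ w ∈ W, w * w ∈ Z
  hZ2 : ∀ z ∈ Z, z * z = 1
  hZT : ∀ z ∈ Z, ∀ g : T, g * z * g⁻¹ * z⁻¹ ∈ N

namespace C2Data

variable {T : Type*} [Group T] {W Z N : Subgroup T} (d : C2Data W Z N)

include d

theorem inv_Z {z : T} (hz : z ∈ Z) : z⁻¹ = z := inv_eq_of_mul_eq_one_left (d.hZ2 z hz)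

theorem conj_Z {z : T} (hz : z ∈ Z) (g : T) : g * z * g⁻¹ ∈ Z := by
  have h1 := d.hNZ (d.hZT z hz g)
  have : g * z * g⁻¹ = (g * z * g⁻¹ * z⁻¹) * z := by group
  rw [this]
  exact Z.mul_mem h1 hz

theorem comm_Z {a b : T} (ha : a ∈ Z) (hb : b ∈ Z) : a * b = b * a := d.hcen b hb a (d.hZW ha)

/-- `κ(ab, c) = κ(a, c) κ(b, c)`. -/
theorem kappa_mul_left {a b c : T} (ha : a ∈ W) (hb : b ∈ W) (hc : c ∈ W) :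
    (a * b) * c * (a * b)⁻¹ * c⁻¹ = (a * c * a⁻¹ * c⁻¹) * (b * c * b⁻¹ * c⁻¹) := by
  have h1 := d.hcen _ (d.hκ b hb c hc) a ha
  calc (a * b) * c * (a * b)⁻¹ * c⁻¹ = (a * (b * c * b⁻¹ * c⁻¹)) * c * a⁻¹ * c⁻¹ := by group
    _ = ((b * c * b⁻¹ * c⁻¹) * a) * c * a⁻¹ * c⁻¹ := by rw [h1]
    _ = (b * c * b⁻¹ * c⁻¹) * (a * c * a⁻¹ * c⁻¹) := by group
    _ = _ := d.comm_Z (d.hκ b hb c hc) (d.hκ a ha c hc)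

/-- `κ(a, bc) = κ(a, b) κ(a, c)`. -/
theorem kappa_mul_right {a b c : T} (ha : a ∈ W) (hb : b ∈ W) (hc : c ∈ W) :
    a * (b * c) * a⁻¹ * (b * c)⁻¹ = (a * b * a⁻¹ * b⁻¹) * (a * c * a⁻¹ * c⁻¹) := by
  have h2 := d.hcen _ (d.hκ a ha c hc) _ (W.inv_mem hb)
  calc a * (b * c) * a⁻¹ * (b * c)⁻¹ = (a * b * a⁻¹) * ((a * c * a⁻¹ * c⁻¹) * b⁻¹)⁻¹⁻¹ := by group
    _ = (a * b * a⁻¹) * ((a * c * a⁻¹ * c⁻¹) * b⁻¹) := by rw [inv_inv]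
    _ = (a * b * a⁻¹) * (b⁻¹ * (a * c * a⁻¹ * c⁻¹)) := by rw [h2]
    _ = _ := by group

/-- `κ(b, a) = κ(a, b)`. -/
theorem kappa_symm {a b : T} (ha : a ∈ W) (hb : b ∈ W) :
    b * a * b⁻¹ * a⁻¹ = a * b * a⁻¹ * b⁻¹ := by
  have : b * a * b⁻¹ * a⁻¹ = (a * b * a⁻¹ * b⁻¹)⁻¹ := by group
  rw [this, d.inv_Z (d.hκ a ha b hb)]

/-- `κ(a, b⁻¹) = κ(a, b)`. -/
theorem kappa_inv_right {a b : T} (ha : a ∈ W) (hb : b ∈ W) :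
    a * b⁻¹ * a⁻¹ * (b⁻¹)⁻¹ = a * b * a⁻¹ * b⁻¹ := by
  have h1 := d.kappa_mul_right ha hb (W.inv_mem hb)
  have h2 : a * (b * b⁻¹) * a⁻¹ * (b * b⁻¹)⁻¹ = 1 := by group
  rw [h2] at h1
  have h3 : (a * b * a⁻¹ * b⁻¹)⁻¹ = a * b⁻¹ * a⁻¹ * (b⁻¹)⁻¹ := inv_eq_of_mul_eq_one_right h1.symm
  rw [← h3, d.inv_Z (d.hκ a ha b hb)]

/-- `κ(a⁻¹, b) = κ(a, b)`. -/
theorem kappa_inv_left {a b : T} (ha : a ∈ W) (hb : b ∈ W) :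
    a⁻¹ * b * (a⁻¹)⁻¹ * b⁻¹ = a * b * a⁻¹ * b⁻¹ := by
  rw [d.kappa_symm hb (W.inv_mem ha), d.kappa_inv_right hb ha, d.kappa_symm ha hb]

/-- `κ(z, b) = 1` for central `z`. -/
theorem kappa_central_left {z b : T} (hz : ∀ w ∈ W, w * z = z * w) (hb : b ∈ W) :
    z * b * z⁻¹ * b⁻¹ = 1 := by
  have := hz b hb
  calc z * b * z⁻¹ * b⁻¹ = (z * b) * z⁻¹ * b⁻¹ := by group
    _ = (b * z) * z⁻¹ * b⁻¹ := by rw [this]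
    _ = 1 := by group

/-- `(ab)² = a² b² κ(a, b)`. -/
theorem sq_mul {a b : T} (ha : a ∈ W) (hb : b ∈ W) :
    (a * b) * (a * b) = (a * a) * (b * b) * (a * b * a⁻¹ * b⁻¹) := by
  have h1 : b⁻¹ * a⁻¹ * (b⁻¹)⁻¹ * (a⁻¹)⁻¹ ∈ Z := d.hκ _ (W.inv_mem hb) _ (W.inv_mem ha)
  have h2 := d.hcen _ h1 b hb
  have e : b⁻¹ * a⁻¹ * (b⁻¹)⁻¹ * (a⁻¹)⁻¹ = a * b * a⁻¹ * b⁻¹ := by
    rw [d.kappa_inv_right (W.inv_mem hb) ha, d.kappa_inv_left hb ha, d.kappa_symm ha hb]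
  calc (a * b) * (a * b)
      = (a * a) * b * (b⁻¹ * a⁻¹ * (b⁻¹)⁻¹ * (a⁻¹)⁻¹) * b := by group
    _ = (a * a) * (b * (b⁻¹ * a⁻¹ * (b⁻¹)⁻¹ * (a⁻¹)⁻¹)) * b := by group
    _ = (a * a) * ((b⁻¹ * a⁻¹ * (b⁻¹)⁻¹ * (a⁻¹)⁻¹) * b) * b := by rw [h2]
    _ = (a * a) * ((a * b * a⁻¹ * b⁻¹) * b) * b := by rw [e]
    _ = (a * a) * ((a * b * a⁻¹ * b⁻¹) * (b * b)) := by group
    _ = (a * a) * ((b * b) * (a * b * a⁻¹ * b⁻¹)) := by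
      rw [d.comm_Z (d.hκ a ha b hb) (d.hsq b hb)]
    _ = _ := by group

section witht

variable {t : T} (ht2 : t * t ∈ W) (htc : ∀ z ∈ Z, t * z = z * t → z ∈ N)

include ht2 htc

/-- (a) `κ(w, t w t⁻¹) ∈ N`. -/
theorem kappa_conj_mem {w : T} (hw : w ∈ W) :
    w * (t * w * t⁻¹) * w⁻¹ * (t * w * t⁻¹)⁻¹ ∈ N := by
  have hw' : t * w * t⁻¹ ∈ W := d.hWn w hw t
  have hc : w * (t * w * t⁻¹) * w⁻¹ * (t * w * t⁻¹)⁻¹ ∈ Z := d.hκ w hw _ hw'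
  apply htc _ hc
  -- conjugate of c by t
  have hζ : (t * t) * w * (t * t)⁻¹ * w⁻¹ ∈ Z := d.hκ _ ht2 w hw
  have e1 : t * (w * (t * w * t⁻¹) * w⁻¹ * (t * w * t⁻¹)⁻¹) * t⁻¹ =
      (t * w * t⁻¹) * (((t * t) * w * (t * t)⁻¹ * w⁻¹) * w) * (t * w * t⁻¹)⁻¹ *
        (((t * t) * w * (t * t)⁻¹ * w⁻¹) * w)⁻¹ := by group
  have e2 := d.kappa_mul_right hw' (d.hZW hζ) hw
  have e3 : (t * w * t⁻¹) * ((t * t) * w * (t * t)⁻¹ * w⁻¹) * (t * w * t⁻¹)⁻¹ *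
      ((t * t) * w * (t * t)⁻¹ * w⁻¹)⁻¹ = 1 := by
    have := d.hcen _ hζ _ hw'
    calc (t * w * t⁻¹) * ((t * t) * w * (t * t)⁻¹ * w⁻¹) * (t * w * t⁻¹)⁻¹ *
        ((t * t) * w * (t * t)⁻¹ * w⁻¹)⁻¹
        = ((t * w * t⁻¹) * ((t * t) * w * (t * t)⁻¹ * w⁻¹)) * (t * w * t⁻¹)⁻¹ *
          ((t * t) * w * (t * t)⁻¹ * w⁻¹)⁻¹ := by group
      _ = (((t * t) * w * (t * t)⁻¹ * w⁻¹) * (t * w * t⁻¹)) * (t * w * t⁻¹)⁻¹ *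
          ((t * t) * w * (t * t)⁻¹ * w⁻¹)⁻¹ := by rw [this]
      _ = 1 := by group
  have e4 : t * (w * (t * w * t⁻¹) * w⁻¹ * (t * w * t⁻¹)⁻¹) * t⁻¹ =
      w * (t * w * t⁻¹) * w⁻¹ * (t * w * t⁻¹)⁻¹ := by
    rw [e1, e2, e3, one_mul, d.kappa_symm hw hw']
  calc t * (w * (t * w * t⁻¹) * w⁻¹ * (t * w * t⁻¹)⁻¹)
      = (t * (w * (t * w * t⁻¹) * w⁻¹ * (t * w * t⁻¹)⁻¹) * t⁻¹) * t := by group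
    _ = _ := by rw [e4]

/-- (b) `[w, t]² ∈ N`. -/
theorem sq_comm_mem {w : T} (hw : w ∈ W) :
    (w * (t * w⁻¹ * t⁻¹)) * (w * (t * w⁻¹ * t⁻¹)) ∈ N := by
  have hw1 : t * w⁻¹ * t⁻¹ ∈ W := d.hWn _ (W.inv_mem hw) t
  rw [d.sq_mul hw hw1]
  have hz : w * w ∈ Z := d.hsq w hw
  have h1 : (w * w) * ((t * w⁻¹ * t⁻¹) * (t * w⁻¹ * t⁻¹)) ∈ N := by
    have := N.inv_mem (d.hZT _ hz t)
    have e : (t * (w * w) * t⁻¹ * (w * w)⁻¹)⁻¹ =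
        (w * w) * ((t * w⁻¹ * t⁻¹) * (t * w⁻¹ * t⁻¹)) := by
      simp only [mul_inv_rev, inv_inv, mul_assoc, inv_mul_cancel_left]
    rwa [e] at this
  have h2 : w * (t * w⁻¹ * t⁻¹) * w⁻¹ * (t * w⁻¹ * t⁻¹)⁻¹ ∈ N := by
    have := d.kappa_conj_mem ht2 htc hw
    have e : t * w⁻¹ * t⁻¹ = (t * w * t⁻¹)⁻¹ := by group
    rw [e, d.kappa_inv_right hw (d.hWn w hw t)]
    exact this
  exact N.mul_mem h1 h2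

omit ht2 htc in
/-- (d) if `[y₀, t]` (and its conjugate by `t⁻¹`) is central in `W`, then `κ(y₀, [w, t]) ∈ N`. -/
theorem kappa_comm_mem {y₀ : T} (hy₀ : y₀ ∈ W)
    (he' : ∀ w ∈ W, w * (t⁻¹ * (y₀ * (t * y₀⁻¹ * t⁻¹)) * t) = (t⁻¹ * (y₀ * (t * y₀⁻¹ * t⁻¹)) * t) * w)
    {w : T} (hw : w ∈ W) :
    y₀ * (w * (t * w⁻¹ * t⁻¹)) * y₀⁻¹ * (w * (t * w⁻¹ * t⁻¹))⁻¹ ∈ N := by
  have hw1 : t * w⁻¹ * t⁻¹ ∈ W := d.hWn _ (W.inv_mem hw) t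
  rw [d.kappa_mul_right hy₀ hw hw1]
  set k := y₀ * w * y₀⁻¹ * w⁻¹ with hk
  have hkZ : k ∈ Z := d.hκ y₀ hy₀ w hw
  -- second factor is the conjugate of k by t
  have hy1 : t⁻¹ * y₀ * t ∈ W := by
    have := d.hWn y₀ hy₀ t⁻¹
    simpa using this
  have he'W : t⁻¹ * (y₀ * (t * y₀⁻¹ * t⁻¹)) * t ∈ W := by
    have h1 : y₀ * (t * y₀⁻¹ * t⁻¹) ∈ W := W.mul_mem hy₀ (d.hWn _ (W.inv_mem hy₀) t)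
    have := d.hWn _ h1 t⁻¹
    simpa using this
  have e1 : y₀ * (t * w⁻¹ * t⁻¹) * y₀⁻¹ * (t * w⁻¹ * t⁻¹)⁻¹ =
      t * ((t⁻¹ * y₀ * t) * w⁻¹ * (t⁻¹ * y₀ * t)⁻¹ * (w⁻¹)⁻¹) * t⁻¹ := by group
  have e2 : t⁻¹ * y₀ * t = (t⁻¹ * (y₀ * (t * y₀⁻¹ * t⁻¹)) * t) * y₀ := by group
  have e3 : (t⁻¹ * y₀ * t) * w⁻¹ * (t⁻¹ * y₀ * t)⁻¹ * (w⁻¹)⁻¹ = k := by
    rw [e2, d.kappa_mul_left he'W hy₀ (W.inv_mem hw), d.kappa_central_left he' (W.inv_mem hw),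
      one_mul, d.kappa_inv_right hy₀ hw]
  rw [e1, e3]
  -- k * (t k t⁻¹) = (t k t⁻¹ k⁻¹) * (k * k)
  have hn : t * k * t⁻¹ * k⁻¹ ∈ N := d.hZT k hkZ t
  have e4 : k * (t * k * t⁻¹) = t * k * t⁻¹ * k⁻¹ := by
    calc k * (t * k * t⁻¹) = k * ((t * k * t⁻¹ * k⁻¹) * k) := by group
      _ = (k * (t * k * t⁻¹ * k⁻¹)) * k := by group
      _ = ((t * k * t⁻¹ * k⁻¹) * k) * k := by rw [d.comm_Z hkZ (d.hNZ hn)]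
      _ = (t * k * t⁻¹ * k⁻¹) * (k * k) := by group
      _ = _ := by rw [d.hZ2 k hkZ, mul_one]
  rw [e4]
  exact hn

end witht

end C2Data

end Cfsg.Agent.Lib.Helper20.RuSyl
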