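import Cfsg.Agent.Lib.Helper20.RuSylH
import Cfsg.Agent.Lib.Helper20.RuSylI

set_option autoImplicit false

/-!
# Rudvalis-type 2-groups (S3174), part J: elements of `C_T(Z₂)` and the subgroups `W⟨t⟩`.
-/

namespace Cfsg.Agent.Lib.Helper20.RuSyl

section ext

variable {T : Type*} [Group T] (W : Subgroup T) [hW : W.Normal]

/-- `W⟨t⟩`. -/
def extBy (t : T) : Subgroup T :=
  (Subgroup.zpowers (QuotientGroup.mk' W t)).comap (QuotientGroup.mk' W)

theorem le_extBy (t : T) : W ≤ extBy W t := by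
  intro w hw
  unfold extBy
  rw [Subgroup.mem_comap]
  have : (QuotientGroup.mk' W) w = 1 := by
    rw [QuotientGroup.mk'_apply, QuotientGroup.eq_one_iff]; exact hw
  rw [this]
  exact Subgroup.one_mem _

theorem self_mem_extBy (t : T) : t ∈ extBy W t := by
  unfold extBy
  rw [Subgroup.mem_comap]
  exact Subgroup.mem_zpowers _

theorem extBy_le {t : T} {K : Subgroup T} (hWK : W ≤ K) (htK : t ∈ K) : extBy W t ≤ K := by
  intro m hm
  unfold extBy at hm
  rw [Subgroup.mem_comap, Subgroup.mem_zpowers_iff] at hm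
  obtain ⟨k, hk⟩ := hm
  rw [← map_zpow] at hk
  have h1 : (t ^ k)⁻¹ * m ∈ W := by
    rw [← QuotientGroup.eq_one_iff, ← QuotientGroup.mk'_apply, map_mul, map_inv, hk]
    simp
  have : m = t ^ k * ((t ^ k)⁻¹ * m) := by group
  rw [this]
  exact K.mul_mem (K.zpow_mem htK k) (hWK h1)

theorem card_extBy [Finite T] {t : T} (ht : t ∉ W) (ht2 : t * t ∈ W) :
    Nat.card (extBy W t) = 2 * Nat.card W := by
  unfold extBy
  rw [card_comap_mk, Nat.card_zpowers]
  have : orderOf ((QuotientGroup.mk' W) t) = 2 := by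
    apply orderOf_eq_prime
    · rw [pow_two, ← map_mul, QuotientGroup.mk'_apply, QuotientGroup.eq_one_iff]
      exact ht2
    · rw [QuotientGroup.mk'_apply, Ne, QuotientGroup.eq_one_iff]
      exact ht
  rw [this, mul_comm]

end ext

namespace Ctx

variable {T : Type*} [Group T] [Finite T] {W : Subgroup T} (h : Ctx T W)

local notation "Z" => Subgroup.upperCentralSeries T

include h

theorem c2data : C2Data W (Z 3) (Z 2) where
  hWn := fun w hw g => h.W_normal.conj_mem w hw g
  hNn := fun n hn g => (inferInstance : (Z 2).Normal).conj_mem n hn g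
  hZW := h.Z3_le_W
  hNZ := h.Z2_le_Z3
  hcen := fun _ hz _ hw => h.Z_comm_of_mem_W hz hw
  hκ := fun _ ha _ hb => h.comm_mem_Z3 ha hb
  hsq := fun _ hw => h.sq_mem_Z3 hw
  hZ2 := h.sq_eq_one_of_mem_Z3
  hZT := fun _ hz g => (h.comm_mem_Z hz g).2

omit h in
/-- `x ∈ Z₃ ∖ Z₂`, `y ∈ Z₂ ∖ Z₁`. -/
structure IsXY (T : Type*) [Group T] (x y : T) : Prop where
  hx3 : x ∈ Subgroup.upperCentralSeries T 3
  hx2 : x ∉ Subgroup.upperCentralSeries T 2
  hy2 : y ∈ Subgroup.upperCentralSeries T 2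
  hy1 : y ∉ Subgroup.upperCentralSeries T 1

omit h in
/-- `t` centralizes `y` and maps `x` to `b x`, `1 ≠ b ∈ Z₂`. -/
structure IsSElt (T : Type*) [Group T] (x y t b : T) : Prop where
  hb : b ∈ Subgroup.upperCentralSeries T 2
  hb1 : b ≠ 1
  hty : t * y = y * t
  htx : t * x * t⁻¹ = b * x

theorem W_eq_inf {x y : T} (hxy : IsXY T x y) :
    W = Subgroup.centralizer {x} ⊓ Subgroup.centralizer {y} := by
  obtain ⟨hx3, hx2, hy2, hy1⟩ := hxy
  apply le_antisymm
  · intro w hw
    rw [Subgroup.mem_inf, Subgroup.mem_centralizer_iff, Subgroup.mem_centralizer_iff]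
    refine ⟨fun a ha => ?_, fun a ha => ?_⟩
    · rw [Set.mem_singleton_iff] at ha; subst ha
      exact (h.Z_comm_of_mem_W hx3 hw).symm
    · rw [Set.mem_singleton_iff] at ha; subst ha
      exact (h.Z_comm_of_mem_W (h.Z2_le_Z3 hy2) hw).symm
  · intro t ht
    rw [Subgroup.mem_inf, Subgroup.mem_centralizer_iff, Subgroup.mem_centralizer_iff] at ht
    exact h.mem_W_of_comm hx3 hx2 hy2 hy1 (ht.1 x rfl).symm (ht.2 y rfl).symm

theorem relIndex_cx_cy {x y : T} (hxy : IsXY T x y) :
    (Subgroup.centralizer {x}).relIndex (Subgroup.centralizer {y}) = 4 ∧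
      (Subgroup.centralizer {y}).index = 2 := by
  have hWeq := h.W_eq_inf hxy
  obtain ⟨hx3, hx2, hy2, hy1⟩ := hxy
  have hidx := h.index_W
  have hy_idx : (Subgroup.centralizer {y}).index ≤ 2 := by
    have := relIndex_centralizer_le ⊤ (Z 1) y (fun t _ => (h.comm_mem_Z hy2 t).2)
    rwa [Subgroup.relIndex_top_right, h.card_Z1] at this
  have hxy : (Subgroup.centralizer {x}).relIndex (Subgroup.centralizer {y}) ≤ 4 := by
    have := relIndex_centralizer_le (Subgroup.centralizer {y}) (Z 2) x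
      (fun t _ => (h.comm_mem_Z hx3 t).2)
    rwa [h.card_Z2] at this
  have e1 : (Subgroup.centralizer {x}).relIndex (Subgroup.centralizer {y}) *
      (Subgroup.centralizer {y}).index = 8 := by
    have := Subgroup.relIndex_mul_index (H := Subgroup.centralizer {x} ⊓ Subgroup.centralizer {y})
      (K := Subgroup.centralizer {y}) inf_le_right
    rw [Subgroup.inf_relIndex_right, ← hWeq, hidx] at this
    exact this
  constructor <;> nlinarith

/-- elements of `C_T(y)` with prescribed action on `x`. -/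
theorem exists_S_elt {x y : T} (hxy : IsXY T x y) {b : T} (hb : b ∈ Z 2) :
    ∃ t, t * y = y * t ∧ t * x * t⁻¹ = b * x := by
  obtain ⟨hxy4, _⟩ := h.relIndex_cx_cy hxy
  obtain ⟨hx3, hx2, hy2, hy1⟩ := hxy
  obtain ⟨t, ht, ht'⟩ := exists_comm_eq_of_card_le (Subgroup.centralizer {y}) (Z 2) x
    (fun t _ => (h.comm_mem_Z hx3 t).2) (by rw [h.card_Z2, hxy4]) b hb
  rw [Subgroup.mem_centralizer_iff] at ht
  refine ⟨t, (ht y rfl).symm, ?_⟩
  calc t * x * t⁻¹ = (t * x * t⁻¹ * x⁻¹) * x := by group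
    _ = b * x := by rw [ht']

/-- (s0) `t` centralizes `Z₂`. -/
theorem S_elt_cent {x y t : T} (hxy : IsXY T x y) (hty : t * y = y * t) {z : T} (hz : z ∈ Z 2) :
    t * z = z * t := by
  obtain ⟨hx3, hx2, hy2, hy1⟩ := hxy
  have hy' : y ∈ Subgroup.centralizer {t} := by
    rw [Subgroup.mem_centralizer_iff]
    intro s hs
    rw [Set.mem_singleton_iff] at hs
    subst hs
    exact hty
  have h2 : Z 2 ≤ Subgroup.centralizer {t} :=
    le_of_card_eq_two_mul (Subgroup.upperCentralSeries_mono T (by norm_num : 1 ≤ 2))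
      (by rw [h.card_Z2, h.card_Z1]) (h.Z1_le_centralizer t) hy' hy2 hy1
  have := h2 hz
  rw [Subgroup.mem_centralizer_iff] at this
  exact this t rfl

omit h in
/-- `t x = b x t`. -/
theorem S_elt_rule {x y t b : T} (ht : IsSElt T x y t b) : t * x = b * x * t := by
  calc t * x = (t * x * t⁻¹) * t := by group
    _ = b * x * t := by rw [ht.htx]

/-- (s1) `t² ∈ W`. -/
theorem S_elt_sq {x y t b : T} (hxy : IsXY T x y) (ht : IsSElt T x y t b) : t * t ∈ W := by
  have r1 := S_elt_rule ht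
  have hbt := h.S_elt_cent hxy ht.hty ht.hb
  have hbb : b * b = 1 := h.sq_eq_one_of_mem_Z3 b (h.Z2_le_Z3 ht.hb)
  have hty := ht.hty
  apply h.mem_W_of_comm hxy.hx3 hxy.hx2 hxy.hy2 hxy.hy1
  · calc t * t * x = t * (t * x) := by group
      _ = t * (b * x * t) := by rw [r1]
      _ = (t * b) * x * t := by group
      _ = b * (t * x) * t := by rw [hbt]; group
      _ = b * (b * x * t) * t := by rw [r1]
      _ = (b * b) * x * (t * t) := by group
      _ = x * (t * t) := by rw [hbb, one_mul]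
  · calc t * t * y = t * (t * y) := by group
      _ = t * (y * t) := by rw [hty]
      _ = (t * y) * t := by group
      _ = y * (t * t) := by rw [hty]; group

/-- (s3) `t ∉ W`. -/
theorem S_elt_not_mem {x y t b : T} (hxy : IsXY T x y) (ht : IsSElt T x y t b) : t ∉ W := by
  intro hc
  have r1 := S_elt_rule ht
  have := h.Z_comm_of_mem_W hxy.hx3 hc
  rw [r1] at this
  apply ht.hb1
  have e : b * x * t = 1 * x * t := by rw [this]; group
  exact mul_right_cancel (mul_right_cancel e)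

/-- (s2) `C_{Z₃}(t) ≤ Z₂`. -/
theorem S_elt_fix {x y t b : T} (hxy : IsXY T x y) (ht : IsSElt T x y t b) {z : T}
    (hz : z ∈ Z 3) (htz : t * z = z * t) : z ∈ Z 2 := by
  by_contra hz2
  have hxi : x⁻¹ ∈ Z 3 := (Z 3).inv_mem hxy.hx3
  have hxi2 : x⁻¹ ∉ Z 2 := fun hc => hxy.hx2 (by simpa using (Z 2).inv_mem hc)
  have hz' : x⁻¹ * z ∈ Z 2 := h.mul_mem_Z2 hxi hz hxi2 hz2
  have hc := h.S_elt_cent hxy ht.hty hz'
  have r1 := S_elt_rule ht
  have e : t * z = b * z * t := by
    calc t * z = (t * x) * (x⁻¹ * z) := by group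
      _ = (b * x * t) * (x⁻¹ * z) := by rw [r1]
      _ = b * x * (t * (x⁻¹ * z)) := by group
      _ = b * x * ((x⁻¹ * z) * t) := by rw [hc]
      _ = b * z * t := by group
  rw [e] at htz
  apply ht.hb1
  have e2 : b * z * t = 1 * z * t := by rw [htz]; group
  exact mul_right_cancel (mul_right_cancel e2)

/-- two such elements with different `b` are independent modulo `W`. -/
theorem S_elt_indep {x y t b t' b' : T} (hxy : IsXY T x y) (ht : IsSElt T x y t b)
    (ht' : IsSElt T x y t' b') (hbb' : b ≠ b') : t'⁻¹ * t ∉ W := by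
  intro hc
  have r1 := S_elt_rule ht
  have r1' := S_elt_rule ht'
  have hcb := h.S_elt_cent hxy ht'.hty ht'.hb
  have hcb2 := h.S_elt_cent hxy ht'.hty ht.hb
  have := h.Z_comm_of_mem_W hxy.hx3 hc
  -- t x = t' (t'⁻¹ t) x = t' x (t'⁻¹ t) = b' x t' t'⁻¹ t = b' x t
  have e : t * x = b' * x * t := by
    calc t * x = t' * ((t'⁻¹ * t) * x) := by group
      _ = t' * (x * (t'⁻¹ * t)) := by rw [this]
      _ = (t' * x) * (t'⁻¹ * t) := by group
      _ = (b' * x * t') * (t'⁻¹ * t) := by rw [r1']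
      _ = b' * x * t := by group
  rw [r1] at e
  exact hbb' (mul_right_cancel (mul_right_cancel e))

end Ctx

end Cfsg.Agent.Lib.Helper20.RuSyl
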