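import Cfsg.Agent.Lib.Helper20.RuSylJ

set_option autoImplicit false

/-!
# Rudvalis-type 2-groups (S3174), part K: preparation for `Z(W) = Z₃`.
-/

namespace Cfsg.Agent.Lib.Helper20.RuSyl

theorem D_mul {T : Type*} [Group T] (t u v : T) :
    (u * v) * (t * (u * v)⁻¹ * t⁻¹) =
      (u * (v * (t * v⁻¹ * t⁻¹)) * u⁻¹) * (u * (t * u⁻¹ * t⁻¹)) := by group

theorem D_inv {T : Type*} [Group T] (t u : T) :
    u⁻¹ * (t * (u⁻¹)⁻¹ * t⁻¹) = u⁻¹ * (u * (t * u⁻¹ * t⁻¹))⁻¹ * u := by group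

namespace Ctx

variable {T : Type*} [Group T] [Finite T] {W : Subgroup T} (h : Ctx T W)

local notation "Z" => Subgroup.upperCentralSeries T

include h

theorem Z3_le_Z4 : Z 3 ≤ Z 4 := Subgroup.upperCentralSeries_mono T (by norm_num)

theorem card_Z4_eq_two_mul : Nat.card (Z 4) = 2 * Nat.card (Z 3) := by
  rw [h.card_Z4, h.card_Z3]

/-- the product of two elements of `Z₄ ∖ Z₃` lies in `Z₃`. -/
theorem mul_mem_Z3 {a b : T} (ha : a ∈ Z 4) (hb : b ∈ Z 4) (ha3 : a ∉ Z 3) (hb3 : b ∉ Z 3) :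
    a * b ∈ Z 3 := by
  obtain ⟨_, hf⟩ := index_two_facts h.Z3_le_Z4 h.card_Z4_eq_two_mul
  obtain ⟨_, _, hcov⟩ := hf a⁻¹ ((Z 4).inv_mem ha) (fun hc => ha3 (by simpa using (Z 3).inv_mem hc))
  rcases hcov b hb with hc | hc
  · exact absurd hc hb3
  · simpa using hc

theorem exists_Z4_not_Z3 : ∃ e ∈ Z 4, e ∉ Z 3 := by
  by_contra hcon
  push Not at hcon
  have : Z 4 ≤ Z 3 := fun x hx => hcon x hx
  have := Subgroup.card_le_of_le this
  rw [h.card_Z4, h.card_Z3] at this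
  omega

theorem fixCard_le_two_pow (M : Subgroup T) (hΦM : h.Phi ≤ M) :
    fixCard W h.Phi M ≤ 2 ^ M.index := by
  have := fixCard_le_pow h.hT h.W_normal h.Phi_le (fun _ hw => h.sq_mem_Phi hw) M hΦM
  rwa [h.fixCard_top] at this

theorem index_of_card {M : Subgroup T} {k : ℕ} (hk : k ≤ 14) (hM : Nat.card M = 2 ^ k) :
    M.index = 2 ^ (14 - k) := by
  have h1 := Subgroup.card_mul_index M
  rw [hM, h.card_T] at h1
  have : (2 : ℕ) ^ 14 = 2 ^ k * 2 ^ (14 - k) := by rw [← pow_add]; congr 1; omega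
  rw [this] at h1
  exact Nat.eq_of_mul_eq_mul_left (by positivity) h1

/-- for `t ∉ W` with `t² ∈ W`: `|C_{W/Φ}(t)| = 16` and the commutator map with `t` is onto it. -/
theorem extBy_facts {t : T} (ht : t ∉ W) (ht2 : t * t ∈ W) :
    letI := h.W_normal
    Nat.card (extBy W t) = 2 ^ 12 ∧ fixCard W h.Phi (extBy W t) = 16 ∧
      ∀ c ∈ fixMod W h.Phi (extBy W t), ∃ v ∈ W, (v * (t * v⁻¹ * t⁻¹))⁻¹ * c ∈ h.Phi := by
  letI := h.W_normal
  have hc : Nat.card (extBy W t) = 2 * Nat.card W := card_extBy W ht ht2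
  have hc12 : Nat.card (extBy W t) = 2 ^ 12 := by rw [hc, h.card_W_eq]; norm_num
  have hidx : (extBy W t).index = 4 := by
    rw [h.index_of_card (by norm_num) hc12]; norm_num
  have h1 := h.fixCard_le_two_pow (extBy W t) (h.Phi_le.trans (le_extBy W t))
  rw [hidx] at h1
  have h2 := fixCard_le_sq h.W_normal h.Phi_le (fun _ hw => h.sq_mem_Phi hw) (le_extBy W t) hc
  rw [h.fixCard_W] at h2
  have h16 : fixCard W h.Phi (extBy W t) = 16 := by
    norm_num at h1 h2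
    nlinarith
  refine ⟨hc12, h16, ?_⟩
  have heq : fixCard W h.Phi W = fixCard W h.Phi (extBy W t) ^ 2 := by
    rw [h.fixCard_W, h16]; norm_num
  intro c hc'
  obtain ⟨v, hv, hvc⟩ := exists_comm_of_fixCard_eq h.W_normal h.Phi_le
    (fun _ hw => h.sq_mem_Phi hw) (le_extBy W t) hc heq (self_mem_extBy W t) ht c hc'
  exact ⟨v, fixMod_le h.Phi_le W hv, hvc⟩

/-- description of `C_{W/Φ}(t)` pulled back to `W`. -/
theorem mem_fixMod_extBy_iff {t : T} (ht : t ∉ W) (ht2 : t * t ∈ W) {v : T} :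
    letI := h.W_normal
    v ∈ fixMod W h.Phi (extBy W t) ↔ v ∈ W ∧ v * (t * v⁻¹ * t⁻¹) ∈ Z 3 := by
  letI := h.W_normal
  have hΦn := h.Phi_normal
  rw [mem_fixMod h.Phi_le, ← h.Phi_eq_Z3]
  constructor
  · rintro ⟨hv, hall⟩
    refine ⟨hv, ?_⟩
    have := h.Phi.inv_mem (hall t (self_mem_extBy W t))
    have e : (t * v * t⁻¹ * v⁻¹)⁻¹ = v * (t * v⁻¹ * t⁻¹) := by group
    rwa [e] at this
  · rintro ⟨hv, hD⟩
    refine ⟨hv, ?_⟩
    have hc : Nat.card (extBy W t) = 2 * Nat.card W := card_extBy W ht ht2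
    obtain ⟨_, hfacts⟩ := index_two_facts (le_extBy W t) hc
    obtain ⟨_, _, hcov⟩ := hfacts t (self_mem_extBy W t) ht
    have htv : t * v * t⁻¹ * v⁻¹ ∈ h.Phi := by
      have := h.Phi.inv_mem hD
      have e : (v * (t * v⁻¹ * t⁻¹))⁻¹ = t * v * t⁻¹ * v⁻¹ := by group
      rwa [e] at this
    intro m hm
    rcases hcov m hm with hmW | hmW
    · exact h.comm_mem_Phi hmW hv
    · have h1 : (t⁻¹ * m) * v * (t⁻¹ * m)⁻¹ * v⁻¹ ∈ h.Phi := h.comm_mem_Phi hmW hv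
      have h2 := hΦn.conj_mem _ h1 t
      have e : m * v * m⁻¹ * v⁻¹ =
          (t * ((t⁻¹ * m) * v * (t⁻¹ * m)⁻¹ * v⁻¹) * t⁻¹) * (t * v * t⁻¹ * v⁻¹) := by group
      rw [e]
      exact h.Phi.mul_mem h2 htv

end Ctx

end Cfsg.Agent.Lib.Helper20.RuSyl
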