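import Cfsg.Agent.Lib.Helper20.RuSylK

set_option autoImplicit false

/-!
# Rudvalis-type 2-groups (S3174), part L: `Z₄ ≰ Z(W)`.
-/

namespace Cfsg.Agent.Lib.Helper20.RuSyl

namespace Ctx

variable {T : Type*} [Group T] [Finite T] {W : Subgroup T} (h : Ctx T W)

local notation "Z" => Subgroup.upperCentralSeries T

include h

/-- existence of `y₀ = [u, t']` with `[y₀, t] ∈ Z₄ ∖ Z₃`. -/
theorem exists_y0 {x y t t' b b' : T} (hxy : IsXY T x y) (ht : IsSElt T x y t b)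
    (ht' : IsSElt T x y t' b') (hbb' : b ≠ b') :
    ∃ u ∈ W, (u * (t' * u⁻¹ * t'⁻¹)) * (t * (u * (t' * u⁻¹ * t'⁻¹))⁻¹ * t⁻¹) ∈ Z 4 ∧
      (u * (t' * u⁻¹ * t'⁻¹)) * (t * (u * (t' * u⁻¹ * t'⁻¹))⁻¹ * t⁻¹) ∉ Z 3 := by
  letI := h.W_normal
  have hΦn := h.Phi_normal
  have ht'W := h.S_elt_not_mem hxy ht'
  have ht'2 := h.S_elt_sq hxy ht'
  have htW := h.S_elt_not_mem hxy ht
  obtain ⟨hcM', hfcM', hsurj'⟩ := h.extBy_facts ht'W ht'2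
  -- S = C_T(y)
  set S := Subgroup.centralizer ({y} : Set T) with hS
  have hWS : W ≤ S := by
    rw [h.W_eq_inf hxy]; exact inf_le_right
  have ht'S : t' ∈ S := by
    rw [hS, Subgroup.mem_centralizer_iff]
    intro a ha
    rw [Set.mem_singleton_iff] at ha; subst ha
    exact ht'.hty.symm
  have htS : t ∈ S := by
    rw [hS, Subgroup.mem_centralizer_iff]
    intro a ha
    rw [Set.mem_singleton_iff] at ha; subst ha
    exact ht.hty.symm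
  have hM'S : extBy W t' ≤ S := extBy_le W hWS ht'S
  have hSidx : S.index = 2 := (h.relIndex_cx_cy hxy).2
  have hScard : Nat.card S = 2 ^ 13 := by
    have := Subgroup.card_mul_index S
    rw [hSidx, h.card_T] at this
    omega
  have hcSM' : Nat.card S = 2 * Nat.card (extBy W t') := by rw [hScard, hcM']; norm_num
  have htM' : t ∉ extBy W t' := by
    intro hc
    have hcW : Nat.card (extBy W t') = 2 * Nat.card W := card_extBy W ht'W ht'2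
    obtain ⟨_, hfacts⟩ := index_two_facts (le_extBy W t') hcW
    obtain ⟨_, _, hcov⟩ := hfacts t' (self_mem_extBy W t') ht'W
    rcases hcov t hc with h1 | h1
    · exact htW h1
    · exact h.S_elt_indep hxy ht ht' hbb' h1
  -- fixCard S = 4
  have hΦS : h.Phi ≤ S := h.Phi_le.trans hWS
  have h1 := h.fixCard_le_two_pow S hΦS
  rw [hSidx] at h1
  have h2 := fixCard_le_sq h.W_normal h.Phi_le (fun _ hw => h.sq_mem_Phi hw) hM'S hcSM'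
  rw [hfcM'] at h2
  have hfcS : fixCard W h.Phi S = 4 := by
    norm_num at h1
    nlinarith
  have heq : fixCard W h.Phi (extBy W t') = fixCard W h.Phi S ^ 2 := by
    rw [hfcM', hfcS]; norm_num
  have hsurjS := exists_comm_of_fixCard_eq h.W_normal h.Phi_le
    (fun _ hw => h.sq_mem_Phi hw) hM'S hcSM' heq htS htM'
  -- the element of Z₄ ∖ Z₃
  obtain ⟨e₀, he₀4, he₀3⟩ := h.exists_Z4_not_Z3
  have he₀S : e₀ ∈ fixMod W h.Phi S := by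
    apply fixMod_anti h.Phi_le (le_top : S ≤ ⊤)
    rw [h.fixMod_top_eq]; exact he₀4
  obtain ⟨v₁, hv₁, hv₁e⟩ := hsurjS e₀ he₀S
  obtain ⟨u, hu, huv⟩ := hsurj' v₁ hv₁
  refine ⟨u, hu, ?_⟩
  set y₀ := u * (t' * u⁻¹ * t'⁻¹) with hy₀
  -- v₁ = y₀ φ
  set φ := y₀⁻¹ * v₁ with hφ
  have hφ3 : φ ∈ Z 3 := h.Phi_eq_Z3 ▸ huv
  have hv₁eq : v₁ = y₀ * φ := by rw [hφ]; group
  -- D_t(v₁) = (y₀ D_t(φ) y₀⁻¹) D_t(y₀)
  have hDφ : φ * (t * φ⁻¹ * t⁻¹) ∈ Z 3 := by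
    have h1 := (h.comm_mem_Z (k := 2) hφ3 t).2
    have h2 := (Z 2).inv_mem h1
    have e : (t * φ * t⁻¹ * φ⁻¹)⁻¹ = φ * (t * φ⁻¹ * t⁻¹) := by group
    rw [e] at h2
    exact h.Z2_le_Z3 h2
  have hZ3n : (Z 3).Normal := inferInstance
  have hconj : y₀ * (φ * (t * φ⁻¹ * t⁻¹)) * y₀⁻¹ ∈ Z 3 := hZ3n.conj_mem _ hDφ y₀
  have hD := D_mul t y₀ φ
  rw [← hv₁eq] at hD
  -- (D_t v₁)⁻¹ e₀ ∈ Z₃
  have hv₁e3 : (v₁ * (t * v₁⁻¹ * t⁻¹))⁻¹ * e₀ ∈ Z 3 := h.Phi_eq_Z3 ▸ hv₁e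
  rw [hD] at hv₁e3
  -- hence D_t(y₀) ∈ e₀ Z₃
  have key : (y₀ * (t * y₀⁻¹ * t⁻¹))⁻¹ * e₀ ∈ Z 3 := by
    have e : (y₀ * (t * y₀⁻¹ * t⁻¹))⁻¹ * e₀ =
        ((y₀ * (φ * (t * φ⁻¹ * t⁻¹)) * y₀⁻¹ * (y₀ * (t * y₀⁻¹ * t⁻¹)))⁻¹ * e₀) *
          (e₀⁻¹ * (y₀ * (φ * (t * φ⁻¹ * t⁻¹)) * y₀⁻¹) * e₀⁻¹⁻¹) := by group
    rw [e]
    exact (Z 3).mul_mem hv₁e3 (hZ3n.conj_mem _ hconj e₀⁻¹)
  constructor
  · have : y₀ * (t * y₀⁻¹ * t⁻¹) = e₀ * ((y₀ * (t * y₀⁻¹ * t⁻¹))⁻¹ * e₀)⁻¹ := by group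
    rw [this]
    exact (Z 4).mul_mem he₀4 ((Z 4).inv_mem (h.Z3_le_Z4 key))
  · intro hc
    apply he₀3
    have : e₀ = (y₀ * (t * y₀⁻¹ * t⁻¹)) * ((y₀ * (t * y₀⁻¹ * t⁻¹))⁻¹ * e₀) := by group
    rw [this]
    exact (Z 3).mul_mem hc key

/-- `Z₄` is not central in `W`. -/
theorem not_Z4_central (hZ4 : ∀ e ∈ Z 4, ∀ w ∈ W, w * e = e * w) : False := by
  letI := h.W_normal
  have hWn := h.W_normal
  obtain ⟨x, hx3, hx2⟩ := h.exists_Z3_not_Z2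
  obtain ⟨y, hy2, hy1⟩ := h.exists_Z2_not_Z1
  have hxy : IsXY T x y := ⟨hx3, hx2, hy2, hy1⟩
  obtain ⟨z₁, hz₁, hz₁1⟩ := h.exists_Z1_ne_one
  have hy_ne : y ≠ 1 := fun hc => hy1 (hc ▸ (Z 1).one_mem)
  obtain ⟨t', ht'y, ht'x⟩ := h.exists_S_elt hxy hy2
  obtain ⟨t, hty, htx⟩ := h.exists_S_elt hxy (h.Z1_le_Z2 hz₁)
  have hSt' : IsSElt T x y t' y := ⟨hy2, hy_ne, ht'y, ht'x⟩
  have hSt : IsSElt T x y t z₁ := ⟨h.Z1_le_Z2 hz₁, hz₁1, hty, htx⟩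
  have hne : z₁ ≠ y := fun hc => hy1 (hc ▸ hz₁)
  obtain ⟨u, hu, he4, he3⟩ := h.exists_y0 hxy hSt hSt' hne
  set y₀ := u * (t' * u⁻¹ * t'⁻¹) with hy₀
  have hy₀W : y₀ ∈ W := W.mul_mem hu (hWn.conj_mem _ (W.inv_mem hu) t')
  set e := y₀ * (t * y₀⁻¹ * t⁻¹) with he
  have d := h.c2data
  have htW := h.S_elt_not_mem hxy hSt
  have ht2 := h.S_elt_sq hxy hSt
  have ht'2 := h.S_elt_sq hxy hSt'
  have htfix : ∀ z ∈ Z 3, t * z = z * t → z ∈ Z 2 := fun z hz hc => h.S_elt_fix hxy hSt hz hc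
  have ht'fix : ∀ z ∈ Z 3, t' * z = z * t' → z ∈ Z 2 :=
    fun z hz hc => h.S_elt_fix hxy hSt' hz hc
  obtain ⟨hcM, hfcM, hsurj⟩ := h.extBy_facts htW ht2
  have hZ3n : (Z 3).Normal := inferInstance
  have hZ4n : (Z 4).Normal := inferInstance
  -- y₀² ∈ Z₂
  have hy₀sq : y₀ * y₀ ∈ Z 2 := d.sq_comm_mem ht'2 ht'fix hu
  -- (d)
  have he' : ∀ w ∈ W, w * (t⁻¹ * e * t) = (t⁻¹ * e * t) * w := by
    intro w hw
    apply hZ4 _ _ w hw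
    have := hZ4n.conj_mem e he4 t⁻¹
    simpa using this
  have hkd : ∀ w ∈ W, y₀ * (w * (t * w⁻¹ * t⁻¹)) * y₀⁻¹ * (w * (t * w⁻¹ * t⁻¹))⁻¹ ∈ Z 2 :=
    fun w hw => d.kappa_comm_mem hy₀W he' hw
  -- the subgroup C
  have hCiff : ∀ {v : T}, v ∈ fixMod W h.Phi (extBy W t) ↔ v ∈ W ∧ v * (t * v⁻¹ * t⁻¹) ∈ Z 3 :=
    fun {v} => h.mem_fixMod_extBy_iff htW ht2
  have hCcard : Nat.card (fixMod W h.Phi (extBy W t)) = 2 ^ 7 := by
    rw [card_fixMod, h.card_Phi_eq, hfcM]; norm_num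
  -- squares and commutators with y₀ for elements of C
  have hCsq : ∀ c ∈ fixMod W h.Phi (extBy W t),
      c * c ∈ Z 2 ∧ y₀ * c * y₀⁻¹ * c⁻¹ ∈ Z 2 := by
    intro c hc
    obtain ⟨w, hw, hwc⟩ := hsurj c hc
    set D := w * (t * w⁻¹ * t⁻¹) with hD
    have hDW : D ∈ W := W.mul_mem hw (hWn.conj_mem _ (W.inv_mem hw) t)
    set φ := D⁻¹ * c with hφ
    have hφ3 : φ ∈ Z 3 := h.Phi_eq_Z3 ▸ hwc
    have hceq : c = D * φ := by rw [hφ]; group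
    have hφD : D * φ = φ * D := d.hcen φ hφ3 D hDW
    have hφφ : φ * φ = 1 := d.hZ2 φ hφ3
    constructor
    · have e1 : c * c = D * D := by
        rw [hceq]
        calc D * φ * (D * φ) = D * (φ * D) * φ := by group
          _ = D * (D * φ) * φ := by rw [hφD]
          _ = D * D * (φ * φ) := by group
          _ = D * D := by rw [hφφ, mul_one]
      rw [e1]
      exact d.sq_comm_mem ht2 htfix hw
    · rw [hceq, d.kappa_mul_right hy₀W hDW (d.hZW hφ3)]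
      have e2 : y₀ * φ * y₀⁻¹ * φ⁻¹ = 1 := by
        have := d.hcen φ hφ3 y₀ hy₀W
        calc y₀ * φ * y₀⁻¹ * φ⁻¹ = (y₀ * φ) * y₀⁻¹ * φ⁻¹ := by group
          _ = (φ * y₀) * y₀⁻¹ * φ⁻¹ := by rw [this]
          _ = 1 := by group
      rw [e2, mul_one]
      exact hkd w hw
  -- the subgroup V
  let V : Subgroup T :=
    { carrier := {v | v ∈ W ∧ v * (t * v⁻¹ * t⁻¹) ∈ Z 4}
      one_mem' := ⟨W.one_mem, by simp⟩
      mul_mem' := by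
        rintro a b ⟨ha, haD⟩ ⟨hb, hbD⟩
        refine ⟨W.mul_mem ha hb, ?_⟩
        rw [D_mul]
        exact (Z 4).mul_mem (hZ4n.conj_mem _ hbD a) haD
      inv_mem' := by
        rintro a ⟨ha, haD⟩
        refine ⟨W.inv_mem ha, ?_⟩
        rw [D_inv]
        have := hZ4n.conj_mem _ ((Z 4).inv_mem haD) a⁻¹
        simpa using this }
  have hVW : V ≤ W := fun v hv => hv.1
  have hCV : fixMod W h.Phi (extBy W t) ≤ V :=
    fun v hv => ⟨(hCiff.mp hv).1, h.Z3_le_Z4 (hCiff.mp hv).2⟩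
  have hy₀V : y₀ ∈ V := ⟨hy₀W, he4⟩
  have hy₀C : y₀ ∉ fixMod W h.Phi (extBy W t) := fun hc => he3 (hCiff.mp hc).2
  have hVcard : 2 ^ 8 ≤ Nat.card V := by
    have hlt : fixMod W h.Phi (extBy W t) < V :=
      lt_of_le_of_ne hCV (fun hc => hy₀C (hc ▸ hy₀V))
    have h1 := card_lt_card_of_lt hlt
    obtain ⟨j, hj⟩ := Subgroup.card_dvd_of_le hCV
    rw [hCcard] at h1 hj
    have hj2 : 2 ≤ j := by
      by_contra hcon
      have : j = 0 ∨ j = 1 := by omega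
      rcases this with rfl | rfl <;> omega
    rw [hj]
    calc 2 ^ 8 = 2 ^ 7 * 2 := by norm_num
      _ ≤ 2 ^ 7 * j := Nat.mul_le_mul_left _ hj2
  -- dichotomy
  have hdich : ∀ v ∈ V, v ∈ fixMod W h.Phi (extBy W t) ∨
      v * y₀⁻¹ ∈ fixMod W h.Phi (extBy W t) := by
    rintro v ⟨hvW, hvD⟩
    by_cases hv3 : v * (t * v⁻¹ * t⁻¹) ∈ Z 3
    · exact Or.inl (hCiff.mpr ⟨hvW, hv3⟩)
    · right
      rw [hCiff]
      refine ⟨W.mul_mem hvW (W.inv_mem hy₀W), ?_⟩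
      rw [D_mul, D_inv]
      have h1 : v * (y₀⁻¹ * e⁻¹ * y₀) * v⁻¹ ∈ Z 4 := by
        have := hZ4n.conj_mem _ ((Z 4).inv_mem he4) (v * y₀⁻¹)
        have e1 : v * y₀⁻¹ * e⁻¹ * (v * y₀⁻¹)⁻¹ = v * (y₀⁻¹ * e⁻¹ * y₀) * v⁻¹ := by group
        rwa [e1] at this
      have h2 : v * (y₀⁻¹ * e⁻¹ * y₀) * v⁻¹ ∉ Z 3 := by
        intro hc
        apply he3
        have := hZ3n.conj_mem _ hc (v * y₀⁻¹)⁻¹
        have e1 : (v * y₀⁻¹)⁻¹ * (v * (y₀⁻¹ * e⁻¹ * y₀) * v⁻¹) * (v * y₀⁻¹)⁻¹⁻¹ = e⁻¹ := by group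
        rw [e1] at this
        simpa using (Z 3).inv_mem this
      exact h.mul_mem_Z3 h1 hvD h2 hv3
  -- all squares in Z₂
  have hVsq : ∀ v ∈ V, v * v ∈ Z 2 := by
    intro v hv
    rcases hdich v hv with hc | hc
    · exact (hCsq v hc).1
    · set c := v * y₀⁻¹ with hcdef
      have hcW : c ∈ W := fixMod_le h.Phi_le _ hc
      have hveq : v = c * y₀ := by rw [hcdef]; group
      rw [hveq, d.sq_mul hcW hy₀W]
      refine (Z 2).mul_mem ((Z 2).mul_mem (hCsq c hc).1 hy₀sq) ?_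
      have e9 : c * y₀ * c⁻¹ * y₀⁻¹ = y₀ * c * y₀⁻¹ * c⁻¹ := d.kappa_symm hy₀W hcW
      rw [e9]
      exact (hCsq c hc).2
  -- Z₃ ≤ C ≤ V
  have hZ3C : Z 3 ≤ fixMod W h.Phi (extBy W t) := by
    have := le_fixMod h.Phi_le (extBy W t)
    intro z hz
    exact this (h.Phi_eq_Z3 ▸ hz)
  obtain ⟨U, _, hUV, hxU, hcU⟩ :=
    exists_index_two_avoiding_mod V (Z 2) (fun z hz => hCV (hZ3C (h.Z2_le_Z3 hz)))
      hVsq (hCV (hZ3C hx3)) hx2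
  have := h.Z3_le_of_card U (hUV.trans hVW) (by rw [h.card_W_eq]; omega)
  exact hxU (this hx3)

end Ctx

end Cfsg.Agent.Lib.Helper20.RuSyl
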