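import Cfsg.Agent.Lib.Helper20.RuSylL

set_option autoImplicit false

/-!
# Rudvalis-type 2-groups (S3174), part M: `Z(W) = Z₃` and the assembly.
-/

namespace Cfsg.Agent.Lib.Helper20.RuSyl

/-- the image in `T` of the centre of `↥W`. -/
theorem map_center_eq {T : Type*} [Group T] (W : Subgroup T) :
    (Subgroup.center ↥W).map W.subtype = W ⊓ Subgroup.centralizer (W : Set T) := by
  ext x
  rw [Subgroup.mem_map, Subgroup.mem_inf, Subgroup.mem_centralizer_iff]
  constructor
  · rintro ⟨w, hw, rfl⟩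
    refine ⟨w.2, fun g hg => ?_⟩
    rw [Subgroup.mem_center_iff] at hw
    have := hw ⟨g, hg⟩
    exact congrArg Subtype.val this
  · rintro ⟨hx, hc⟩
    refine ⟨⟨x, hx⟩, ?_, rfl⟩
    rw [Subgroup.mem_center_iff]
    intro g
    exact Subtype.ext (hc g.1 g.2)

namespace Ctx

variable {T : Type*} [Group T] [Finite T] {W : Subgroup T} (h : Ctx T W)

local notation "Z" => Subgroup.upperCentralSeries T

include h

/-- `W ∩ C_T(W) = Z₃`. -/
theorem cen_eq_Z3 : W ⊓ Subgroup.centralizer (W : Set T) = Z 3 := by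
  have hWn := h.W_normal
  have d := h.c2data
  set cen := W ⊓ Subgroup.centralizer (W : Set T) with hcen
  have hcenW : cen ≤ W := inf_le_left
  have hcenN : cen.Normal := by
    haveI := hWn
    rw [hcen]
    infer_instance
  have hΦcen : h.Phi ≤ cen := by
    intro φ hφ
    have hφ3 : φ ∈ Z 3 := h.Phi_eq_Z3 ▸ hφ
    rw [hcen, Subgroup.mem_inf, Subgroup.mem_centralizer_iff]
    exact ⟨h.Phi_le hφ, fun g hg => d.hcen φ hφ3 g hg⟩
  by_contra hne
  have hlt : h.Phi < cen := by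
    refine lt_of_le_of_ne hΦcen (fun hc => hne ?_)
    rw [← hc, h.Phi_eq_Z3]
  have hsq : ∀ w ∈ cen, w * w ∈ h.Phi := fun w hw => h.sq_mem_Phi (hcenW hw)
  -- Φ acts trivially on `cen / Φ`
  have hself : fixMod cen h.Phi h.Phi = cen := by
    apply le_antisymm (fixMod_le hΦcen _)
    intro w hw
    rw [mem_fixMod hΦcen]
    refine ⟨hw, fun m hm => ?_⟩
    have h1 : w * m⁻¹ * w⁻¹ ∈ h.Phi := h.Phi_normal.conj_mem _ (h.Phi.inv_mem hm) w
    have e : m * w * m⁻¹ * w⁻¹ = m * (w * m⁻¹ * w⁻¹) := by group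
    rw [e]
    exact h.Phi.mul_mem hm h1
  have hc1 : Nat.card cen = Nat.card h.Phi * fixCard cen h.Phi h.Phi := by
    rw [← card_fixMod, hself]
  have hc2 := card_lt_card_of_lt hlt
  have hf1 : 2 ≤ fixCard cen h.Phi h.Phi := by
    by_contra hcon
    have hpos := fixCard_pos (W := cen) (Φ := h.Phi) h.Phi
    have : fixCard cen h.Phi h.Phi = 1 := by omega
    rw [this, mul_one] at hc1
    omega
  have hpw := fixCard_le_pow h.hT hcenN hΦcen hsq h.Phi le_rfl
  have hf2 : 2 ≤ fixCard cen h.Phi ⊤ := by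
    by_contra hcon
    have hpos := fixCard_pos (W := cen) (Φ := h.Phi) ⊤
    have : fixCard cen h.Phi ⊤ = 1 := by omega
    rw [this, one_pow] at hpw
    omega
  -- hence the fixed points of `T` on `cen / Φ` are all of `Z₄ / Φ`
  have hle : fixMod cen h.Phi ⊤ ≤ Z 4 := by
    rw [← h.fixMod_top_eq]
    intro w hw
    rw [mem_fixMod hΦcen] at hw
    rw [mem_fixMod h.Phi_le]
    exact ⟨hcenW hw.1, hw.2⟩
  have heq : fixMod cen h.Phi ⊤ = Z 4 := by
    apply Subgroup.eq_of_le_of_card_ge hle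
    rw [card_fixMod, h.card_Phi_eq, h.card_Z4]
    omega
  have hZ4cen : Z 4 ≤ cen := heq ▸ fixMod_le hΦcen ⊤
  apply h.not_Z4_central
  intro e he w hw
  have := hZ4cen he
  rw [hcen, Subgroup.mem_inf, Subgroup.mem_centralizer_iff] at this
  exact this.2 w hw

/-- `|Z(W)| = 8`. -/
theorem card_center : Nat.card (Subgroup.center ↥W) = 8 := by
  rw [← Subgroup.card_subtype W (Subgroup.center ↥W), map_center_eq, h.cen_eq_Z3, h.card_Z3]

/-- the full structure statement. -/
theorem main :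
    Nat.card T = 2 ^ 14 ∧
      (commutator ↥W).map W.subtype = Z 3 ∧
      (frattini ↥W).map W.subtype = Z 3 ∧
      Nat.card ↥(Subgroup.center ↥W) = 8 ∧
      Nat.card ↥(Z 3) = 8 ∧ (∀ z ∈ Z 3, z ^ 2 = 1) ∧
      (∃ (_ : W.Normal), Nonempty (T ⧸ W ≃* DihedralGroup 4)) ∧
      Nat.card (↥W ⧸ commutator ↥W) = 2 ^ 8 ∧ (∀ x : ↥W ⧸ commutator ↥W, x ^ 2 = 1) := by
  have hcomm : (commutator ↥W).map W.subtype = Z 3 := by
    rw [Subgroup.map_subtype_commutator, h.commutator_eq_Z3]
  refine ⟨h.card_T, hcomm, h.Phi_eq_Z3, h.card_center, h.card_Z3, ?_, h.quotient_dihedral, ?_, ?_⟩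
  · intro z hz
    rw [pow_two]
    exact h.sq_eq_one_of_mem_Z3 z hz
  · have h1 := Subgroup.card_eq_card_quotient_mul_card_subgroup (commutator ↥W)
    have h2 : Nat.card (commutator ↥W) = 8 := by
      rw [← Subgroup.card_subtype W (commutator ↥W), hcomm, h.card_Z3]
    rw [h.card_W_eq, h2] at h1
    omega
  · intro x
    induction x using QuotientGroup.induction_on with
    | H w =>
      rw [← QuotientGroup.mk_pow, QuotientGroup.eq_one_iff, pow_two]
      have h1 : (w : T) * (w : T) ∈ Z 3 := h.sq_mem_Z3 w.2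
      rw [← hcomm] at h1
      obtain ⟨v, hv, hvw⟩ := h1
      have : v = w * w := Subtype.ext hvw
      rwa [this] at hv

end Ctx

end Cfsg.Agent.Lib.Helper20.RuSyl
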