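import Cfsg.Agent.Lib.Helper20.RuSylM
import Cfsg.Agent.Lib.Helper10.PGroupBasic

set_option autoImplicit false

/-!
# Rudvalis-type 2-groups (S3175), part N: automorphisms of odd order are trivial.
-/

namespace Cfsg.Agent.Lib.Helper20.RuSyl

section general

variable {T : Type*} [Group T]

/-- a `2`-element killed by an odd power is trivial. -/
theorem eq_one_of_pow_odd (hT : IsPGroup 2 T) {m : ℕ} (hm : Odd m) {n : T} (hn : n ^ m = 1) :
    n = 1 := by
  obtain ⟨j, hj⟩ := hT n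
  have h1 : orderOf n ∣ m := orderOf_dvd_of_pow_eq_one hn
  have h2 : orderOf n ∣ 2 ^ j := orderOf_dvd_of_pow_eq_one hj
  have hcop : Nat.Coprime m (2 ^ j) := Nat.Coprime.pow_right j hm.coprime_two_right
  have : orderOf n = 1 := Nat.eq_one_of_dvd_coprimes hcop h1 h2
  exact orderOf_eq_one_iff.mp this

/-- stability step for an automorphism of odd order of a `2`-group. -/
theorem fixes_of_stab (hT : IsPGroup 2 T) (α : MulAut T) {m : ℕ} (hm : Odd m) (hαm : α ^ m = 1)
    (N H : Subgroup T) (hN : ∀ n ∈ N, α n = n) (hH : ∀ x ∈ H, x⁻¹ * α x ∈ N) :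
    ∀ x ∈ H, α x = x := by
  intro x hx
  set n := x⁻¹ * α x with hn
  have hnN : n ∈ N := hH x hx
  have hαx : α x = x * n := by rw [hn]; group
  have key : ∀ k : ℕ, (α ^ k) x = x * n ^ k := by
    intro k
    induction k with
    | zero => simp
    | succ k ih =>
      rw [pow_succ', MulAut.mul_apply, ih, map_mul, map_pow, hN n hnN, hαx, pow_succ', mul_assoc]
  have h1 := key m
  rw [hαm, MulAut.one_apply] at h1
  have h2 : n ^ m = 1 := by
    have : x * n ^ m = x * 1 := by rw [mul_one]; exact h1.symm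
    exact mul_left_cancel this
  have h3 : n = 1 := eq_one_of_pow_odd hT hm h2
  rw [hαx, h3, mul_one]

/-- the terms of the upper central series are invariant under automorphisms. -/
theorem map_mem_ucs_iff (α : MulAut T) (k : ℕ) {t : T} :
    α t ∈ Subgroup.upperCentralSeries T k ↔ t ∈ Subgroup.upperCentralSeries T k := by
  have hch : (Subgroup.upperCentralSeries T k).Characteristic := inferInstance
  have hfix := Subgroup.Characteristic.fixed hch α
  constructor
  · intro ht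
    rw [← hfix, Subgroup.mem_comap]
    exact ht
  · intro ht
    rw [← hfix, Subgroup.mem_comap] at ht
    exact ht

/-- an automorphism acts trivially on an invariant section of order two. -/
theorem inv_mul_map_mem_of_index_two [Finite T] (α : MulAut T) {A B : Subgroup T} (hAB : A ≤ B)
    (hc : Nat.card B = 2 * Nat.card A) (hA : ∀ t, α t ∈ A ↔ t ∈ A) (hB : ∀ t, α t ∈ B ↔ t ∈ B) :
    ∀ b ∈ B, b⁻¹ * α b ∈ A := by
  intro b hb
  by_cases hbA : b ∈ A
  · exact A.mul_mem (A.inv_mem hbA) ((hA b).mpr hbA)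
  · obtain ⟨_, hf⟩ := index_two_facts hAB hc
    obtain ⟨_, _, hcov⟩ := hf b hb hbA
    rcases hcov (α b) ((hB b).mpr hb) with h | h
    · exact absurd ((hA b).mp h) hbA
    · exact h

/-- a normal subgroup of a finite `2`-group not inside `Z_k` meets `Z_{k+1} ∖ Z_k`. -/
theorem exists_mem_ucs_succ [Finite T] (hT : IsPGroup 2 T) (k : ℕ) (N : Subgroup T) [hN : N.Normal]
    (hNk : ¬ N ≤ Subgroup.upperCentralSeries T k) :
    ∃ e ∈ N, e ∈ Subgroup.upperCentralSeries T (k + 1) ∧ e ∉ Subgroup.upperCentralSeries T k := by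
  have : Fact (Nat.Prime 2) := ⟨Nat.prime_two⟩
  set Zk := Subgroup.upperCentralSeries T k with hZk
  set π := QuotientGroup.mk' Zk with hπ
  have hQ : IsPGroup 2 (T ⧸ Zk) := hT.to_quotient Zk
  have hπ1 : ∀ a : T, π a = 1 ↔ a ∈ Zk := fun a => QuotientGroup.eq_one_iff a
  have hNb : N.map π ≠ ⊥ := by
    intro hb
    apply hNk
    intro x hx
    have : π x ∈ N.map π := Subgroup.mem_map_of_mem π hx
    rw [hb, Subgroup.mem_bot] at this
    exact (hπ1 x).mp this
  have : (N.map π).Normal := hN.map π (QuotientGroup.mk'_surjective Zk)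
  obtain ⟨x, hxN, hxc, hx1⟩ :=
    Cfsg.Agent.Lib.Helper10.exists_mem_center_of_normal_ne_bot 2 hQ (N.map π) hNb
  obtain ⟨e, he, rfl⟩ := hxN
  refine ⟨e, he, ?_, ?_⟩
  · rw [Subgroup.mem_upperCentralSeries_succ_iff]
    intro y
    rw [commutatorElement_def, ← hZk, ← hπ1, map_mul, map_mul, map_mul, map_inv, map_inv]
    have := Subgroup.mem_center_iff.mp hxc (π y)
    rw [← this]
    group
  · intro hc
    exact hx1 ((hπ1 e).mpr hc)

end general

namespace Ctx

variable {T : Type*} [Group T] [Finite T] {W : Subgroup T} (h : Ctx T W)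

local notation "Z" => Subgroup.upperCentralSeries T

include h

section aut

variable (α : MulAut T) {m : ℕ} (hm : Odd m) (hαm : α ^ m = 1)

include hm hαm

/-- an automorphism of odd order fixes `Z₄` elementwise. -/
theorem aut_fix_Z4 : ∀ z ∈ Z 4, α z = z := by
  have hT := h.hT
  have h0 : ∀ z ∈ Z 0, α z = z := by
    intro z hz
    rw [Subgroup.upperCentralSeries_zero, Subgroup.mem_bot] at hz
    rw [hz, map_one]
  have step : ∀ k, Nat.card (Z (k + 1)) = 2 * Nat.card (Z k) → (∀ z ∈ Z k, α z = z) →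
      ∀ z ∈ Z (k + 1), α z = z := by
    intro k hc hk
    exact fixes_of_stab hT α hm hαm (Z k) (Z (k + 1)) hk
      (inv_mul_map_mem_of_index_two α (Subgroup.upperCentralSeries_mono T (Nat.le_succ k)) hc
        (fun t => map_mem_ucs_iff α k) (fun t => map_mem_ucs_iff α (k + 1)))
  have c0 : Nat.card (Z 0) = 1 := by rw [Subgroup.upperCentralSeries_zero, Subgroup.card_bot]
  have h1 : ∀ z ∈ Z 1, α z = z := step 0 (by
    show Nat.card (Z 1) = 2 * Nat.card (Z 0)
    rw [c0, h.card_Z1]) h0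
  have h2 : ∀ z ∈ Z 2, α z = z := step 1 (by
    show Nat.card (Z 2) = 2 * Nat.card (Z 1)
    rw [h.card_Z1, h.card_Z2]) h1
  have h3 : ∀ z ∈ Z 3, α z = z := step 2 (by
    show Nat.card (Z 3) = 2 * Nat.card (Z 2)
    rw [h.card_Z2, h.card_Z3]) h2
  exact step 3 (by
    show Nat.card (Z 4) = 2 * Nat.card (Z 3)
    rw [h.card_Z3, h.card_Z4]) h3

/-- an automorphism of odd order acts trivially on `T/W`. -/
theorem aut_mem_W (t : T) : t⁻¹ * α t ∈ W := by
  have hfix := h.aut_fix_Z4 α hm hαm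
  have hZ3n : (Z 3).Normal := inferInstance
  rw [h.hW, Subgroup.mem_centralizer_iff]
  intro z hz
  have hz' : α z = z := hfix z (h.Z3_le_Z4 hz)
  have hconj : t * z * t⁻¹ ∈ Z 3 := hZ3n.conj_mem z hz t
  have h1 : α (t * z * t⁻¹) = t * z * t⁻¹ := hfix _ (h.Z3_le_Z4 hconj)
  rw [map_mul, map_mul, map_inv, hz'] at h1
  calc z * (t⁻¹ * α t) = t⁻¹ * (t * z * t⁻¹) * α t := by group
    _ = t⁻¹ * (α t * z * (α t)⁻¹) * α t := by rw [h1]
    _ = (t⁻¹ * α t) * z := by group

/-- an automorphism of odd order acts trivially on `W/Z₃`. -/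
theorem aut_comm_mem_Z3 : ∀ w ∈ W, w⁻¹ * α w ∈ Z 3 := by
  have hT := h.hT
  have hWn := h.W_normal
  have hfix := h.aut_fix_Z4 α hm hαm
  have hαW : ∀ w ∈ W, α w ∈ W := by
    intro w hw
    have := W.mul_mem hw (h.aut_mem_W α hm hαm w)
    rwa [mul_inv_cancel_left] at this
  set π := QuotientGroup.mk' (Z 3) with hπ
  have hπ1 : ∀ a : T, π a = 1 ↔ a ∈ Z 3 := fun a => QuotientGroup.eq_one_iff a
  -- commutativity of the image of `W`
  have hcW : ∀ a ∈ W, ∀ b ∈ W, π a * π b = π b * π a := by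
    intro a ha b hb
    have := h.comm_mem_Z3 ha hb
    rw [← hπ1, map_mul, map_mul, map_mul, map_inv, map_inv] at this
    calc π a * π b = (π a * π b * (π a)⁻¹ * (π b)⁻¹) * (π b * π a) := by group
      _ = π b * π a := by rw [this, one_mul]
  -- compatibility of `α` with `π`
  have hcompat : ∀ a b : T, π a = π b → π (α a) = π (α b) := by
    intro a b hab
    have h1 : a⁻¹ * b ∈ Z 3 := by
      rw [← hπ1, map_mul, map_inv, hab, inv_mul_cancel]
    have h2 : α (a⁻¹ * b) ∈ Z 3 := (map_mem_ucs_iff α 3).mpr h1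
    rw [← hπ1] at h2
    have h3 : π (α (a⁻¹ * b)) = (π (α a))⁻¹ * π (α b) := by
      rw [map_mul α, map_inv α, map_mul π, map_inv π]
    rw [h3] at h2
    exact inv_mul_eq_one.mp h2
  -- the subgroup `B`, the preimage of `[W/Z₃, α]`
  let B : Subgroup T :=
    { carrier := {b | b ∈ W ∧ ∃ w ∈ W, π b = (π w)⁻¹ * π (α w)}
      one_mem' := ⟨W.one_mem, 1, W.one_mem, by simp⟩
      mul_mem' := by
        rintro a b ⟨haW, w₁, hw₁, h₁⟩ ⟨hbW, w₂, hw₂, h₂⟩
        refine ⟨W.mul_mem haW hbW, w₁ * w₂, W.mul_mem hw₁ hw₂, ?_⟩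
        have hc1 : π a * (π w₂)⁻¹ = (π w₂)⁻¹ * π a := by
          have := hcW a haW w₂⁻¹ (W.inv_mem hw₂)
          rwa [map_inv] at this
        have e1 : π (a * b) = π a * π b := map_mul π a b
        have e2 : π (α (w₁ * w₂)) = π (α w₁) * π (α w₂) := by rw [map_mul α, map_mul π]
        have e3 : (π (w₁ * w₂))⁻¹ = (π w₂)⁻¹ * (π w₁)⁻¹ := by rw [map_mul π, mul_inv_rev]
        rw [e1, e2, e3, h₂, ← mul_assoc (π a), hc1, h₁]
        group
      inv_mem' := by
        rintro a ⟨haW, w, hw, h₁⟩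
        refine ⟨W.inv_mem haW, w⁻¹, W.inv_mem hw, ?_⟩
        have hc1 : (π (α w))⁻¹ * π w = π w * (π (α w))⁻¹ := by
          have := hcW (α w)⁻¹ (W.inv_mem (hαW w hw)) w hw
          rwa [map_inv] at this
        have e1 : π a⁻¹ = (π (α w))⁻¹ * π w := by rw [map_inv π, h₁, mul_inv_rev, inv_inv]
        have e2 : (π w⁻¹)⁻¹ * π (α w⁻¹) = π w * (π (α w))⁻¹ := by
          rw [map_inv α, map_inv π, map_inv π, inv_inv]
        rw [e1, e2, hc1] }
  have hBmem : ∀ b : T, b ∈ B ↔ b ∈ W ∧ ∃ w ∈ W, π b = (π w)⁻¹ * π (α w) := fun b => Iff.rfl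
  have hBn : B.Normal := by
    constructor
    intro b hb t
    rw [hBmem] at hb ⊢
    obtain ⟨hbW, w, hw, h₁⟩ := hb
    refine ⟨hWn.conj_mem b hbW t, t * w * t⁻¹, hWn.conj_mem w hw t, ?_⟩
    set s := t⁻¹ * α t with hs
    have hsW : s ∈ W := h.aut_mem_W α hm hαm t
    have hαt : α t = t * s := by rw [hs]; group
    have hcs : π s * π (α w) = π (α w) * π s := hcW s hsW (α w) (hαW w hw)
    have e1 : π (t * b * t⁻¹) = π t * ((π w)⁻¹ * π (α w)) * (π t)⁻¹ := by
      rw [map_mul π, map_mul π, map_inv π, h₁]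
    have e2 : α (t * w * t⁻¹) = t * (s * α w * s⁻¹) * t⁻¹ := by
      rw [map_mul α, map_mul α, map_inv α, hαt]; group
    have e3 : π s * π (α w) * (π s)⁻¹ = π (α w) := by rw [hcs, mul_inv_cancel_right]
    have f1 : (π (t * w * t⁻¹))⁻¹ = π t * (π w)⁻¹ * (π t)⁻¹ := by
      rw [map_mul π, map_mul π, map_inv π]; group
    have f2 : π (α (t * w * t⁻¹)) = π t * π (α w) * (π t)⁻¹ := by
      rw [e2, map_mul π, map_mul π, map_inv π, map_mul π, map_mul π, map_inv π, e3]
    rw [e1, f1, f2]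
    group
  have hBle : B ≤ Z 3 := by
    by_contra hcon
    obtain ⟨e, heB, he4, he3⟩ := exists_mem_ucs_succ hT 3 B hcon
    rw [hBmem] at heB
    obtain ⟨heW, w, hw, h₁⟩ := heB
    have hαe : α e = e := hfix e he4
    have h3 : π (α w) = π w * π e := by rw [h₁]; group
    have key : ∀ i : ℕ, π ((α ^ i) w) = π w * (π e) ^ i := by
      intro i
      induction i with
      | zero => simp
      | succ i ih =>
        rw [pow_succ', MulAut.mul_apply]
        have h2 : π ((α ^ i) w) = π (w * e ^ i) := by rw [ih, map_mul π, map_pow π]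
        rw [hcompat _ _ h2, map_mul α, map_pow α, hαe, map_mul π, map_pow π, h3, pow_succ',
          mul_assoc]
    have h4 := key m
    rw [hαm, MulAut.one_apply] at h4
    have h5 : (π e) ^ m = 1 := by
      have : π w * (π e) ^ m = π w * 1 := by rw [mul_one]; exact h4.symm
      exact mul_left_cancel this
    have h6 : e ^ m ∈ Z 3 := by rw [← hπ1, map_pow]; exact h5
    have h7 : e * e ∈ Z 3 := h.sq_mem_Z3 heW
    obtain ⟨j, rfl⟩ := hm
    apply he3
    have h8 : (e * e) ^ j = e ^ (2 * j) := by rw [← pow_two, ← pow_mul]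
    have h9 : e = e ^ (2 * j + 1) * ((e * e) ^ j)⁻¹ := by
      rw [h8, pow_succ]; group
    rw [h9]
    exact (Z 3).mul_mem h6 ((Z 3).inv_mem ((Z 3).pow_mem h7 j))
  intro w hw
  apply hBle
  rw [hBmem]
  exact ⟨W.mul_mem (W.inv_mem hw) (hαW w hw), w, hw, by rw [map_mul π, map_inv π]⟩

/-- **Automorphisms of odd order of a Rudvalis-type `2`-group are trivial.** -/
theorem aut_eq_one (t : T) : α t = t := by
  have hT := h.hT
  have hfixZ3 : ∀ z ∈ Z 3, α z = z := fun z hz => h.aut_fix_Z4 α hm hαm z (h.Z3_le_Z4 hz)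
  have hfixW : ∀ w ∈ W, α w = w :=
    fixes_of_stab hT α hm hαm (Z 3) W hfixZ3 (h.aut_comm_mem_Z3 α hm hαm)
  exact fixes_of_stab hT α hm hαm W ⊤ hfixW (fun x _ => h.aut_mem_W α hm hαm x) t
    (Subgroup.mem_top t)

end aut

end Ctx

end Cfsg.Agent.Lib.Helper20.RuSyl
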