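import Cfsg.Agent.Lib.Helper20.RuSylM

set_option autoImplicit false

/-!
# Rudvalis-type 2-groups (S3175), part O: subgroups of `T` that look like `W` are equal to `W`.
-/

namespace Cfsg.Agent.Lib.Helper20.RuSyl

section rel

variable {T : Type*} [Group T] [Finite T]

/-- relative version of `exists_index_two_avoiding_mod`, with `M` only central in `D`. -/
theorem exists_index_two_avoiding_rel (D M : Subgroup T)
    (hcen : ∀ m ∈ M, ∀ d ∈ D, d * m = m * d) (hsq : ∀ d ∈ D, d * d ∈ M) {s : T} (hsD : s ∈ D)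
    (hsM : s ∉ M) :
    ∃ U : Subgroup T, U ≤ D ∧ s ∉ U ∧ Nat.card D = 2 * Nat.card U := by
  have hN : (M.subgroupOf D).Normal := by
    constructor
    intro n hn g
    rw [Subgroup.mem_subgroupOf] at hn ⊢
    have := hcen n hn g g.2
    simp only [Subgroup.coe_mul, Subgroup.coe_inv]
    rw [this, mul_inv_cancel_right]
    exact hn
  obtain ⟨U', _, _, hsU', hcard⟩ :=
    exists_index_two_avoiding_mod (⊤ : Subgroup D) (M.subgroupOf D) le_top
      (fun x _ => by rw [Subgroup.mem_subgroupOf]; exact hsq x x.2) (s := ⟨s, hsD⟩)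
      (Subgroup.mem_top _) (by rw [Subgroup.mem_subgroupOf]; exact hsM)
  refine ⟨U'.map D.subtype, Subgroup.map_subtype_le U', ?_, ?_⟩
  · rintro ⟨u, hu, hus⟩
    apply hsU'
    have : u = ⟨s, hsD⟩ := Subtype.ext hus
    rwa [← this]
  · rw [Subgroup.card_subtype, ← hcard, Subgroup.card_top]

end rel

namespace Ctx

variable {T : Type*} [Group T] [Finite T] {W : Subgroup T} (h : Ctx T W)

local notation "Z" => Subgroup.upperCentralSeries T

include h

/-- a subgroup `W₁` of `T` of the order of `W`, with a central subgroup `Z'` of order `8`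
containing all squares of `W₁`, equals `W`. -/
theorem eq_W_of_like (W1 Z' : Subgroup T) (hcW1 : Nat.card W1 = Nat.card W)
    (hcZ' : Nat.card Z' = 8) (hsq : ∀ a ∈ W1, a * a ∈ Z')
    (hcen : ∀ z ∈ Z', ∀ w ∈ W1, w * z = z * w) : W1 = W := by
  have hWn := h.W_normal
  set D := W ⊓ W1 with hD
  have hposD : 0 < Nat.card D := Nat.card_pos
  -- `|W| ≤ 8 |D|`
  have hcard : Nat.card W ≤ 8 * Nat.card D := by
    have h1 : W.relIndex W1 ∣ W.index := Subgroup.relIndex_dvd_index_of_normal W W1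
    rw [h.index_W] at h1
    have h2 : W.relIndex W1 ≤ 8 := Nat.le_of_dvd (by norm_num) h1
    have h3 := Subgroup.card_mul_index (W.subgroupOf W1)
    have h4 : Nat.card (W.subgroupOf W1) = Nat.card D := by
      rw [← Subgroup.inf_subgroupOf_right]
      exact Nat.card_congr (Subgroup.subgroupOfEquivOfLe inf_le_right).toEquiv
    rw [h4] at h3
    have h5 : (W.subgroupOf W1).index ≤ 8 := h2
    rw [← hcW1, ← h3]
    calc Nat.card D * (W.subgroupOf W1).index ≤ Nat.card D * 8 := Nat.mul_le_mul_left _ h5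
      _ = 8 * Nat.card D := mul_comm _ _
  have hZ3D : Z 3 ≤ D := h.Z3_le_of_card D inf_le_left (by omega)
  -- `Z₃ ≤ Z'`
  have hZ3Z' : Z 3 ≤ Z' := by
    by_contra hcon
    obtain ⟨z, hz3, hzZ'⟩ := SetLike.not_le_iff_exists.mp hcon
    obtain ⟨U, hUD, hzU, hcU⟩ := exists_index_two_avoiding_rel D (Z 3 ⊓ Z')
      (fun m hm d hd => h.Z_comm_of_mem_W hm.1 hd.1)
      (fun d hd => ⟨h.sq_mem_Z3 hd.1, hsq d hd.2⟩) (hZ3D hz3) (fun hc => hzZ' hc.2)
    have hZ3U : Z 3 ≤ U := h.Z3_le_of_card U (hUD.trans inf_le_left) (by omega)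
    exact hzU (hZ3U hz3)
  have hZeq : Z 3 = Z' := Subgroup.eq_of_le_of_card_ge hZ3Z' (by rw [hcZ', h.card_Z3])
  have hle : W1 ≤ W := by
    intro w hw
    rw [h.hW, Subgroup.mem_centralizer_iff]
    intro z hz
    exact (hcen z (hZeq ▸ hz) w hw).symm
  exact Subgroup.eq_of_le_of_card_ge hle (by rw [hcW1])

end Ctx

end Cfsg.Agent.Lib.Helper20.RuSyl
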