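/-
helper20: generic lemmas for the S3333 endgame (order 720 => Sym(6)).
-/
import Mathlib
import Cfsg.Agent.Lib.Helper6.S6F

set_option autoImplicit false

namespace Cfsg.Agent.Lib.Helper20.S3333End

open Subgroup

/-- product formula `|N ∩ L| * |X| = |N| * |L|` when `N ⊔ L = ⊤` and `L` is normal -/
theorem card_inf_mul_card_of_sup_eq_top {X : Type*} [Group X] [Finite X] (N L : Subgroup X)
    [L.Normal] (h : N ⊔ L = ⊤) :
    Nat.card (N ⊓ L : Subgroup X) * Nat.card X = Nat.card N * Nat.card L := by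
  have h1 : L.relIndex (N ⊔ L) = L.relIndex N := Subgroup.relIndex_sup_right N L
  rw [h, Subgroup.relIndex_top_right] at h1
  have h2 : Nat.card L * L.index = Nat.card X := L.card_mul_index
  have h3 : (N ⊓ L).relIndex N = L.relIndex N := Subgroup.inf_relIndex_left N L
  have h4 : Nat.card (N ⊓ L : Subgroup X) * (N ⊓ L).relIndex N = Nat.card N := by
    have h5 := Subgroup.relIndex_mul_relIndex (⊥ : Subgroup X) (N ⊓ L) N bot_le inf_le_left
    rwa [Subgroup.relIndex_bot_left, Subgroup.relIndex_bot_left] at h5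
  rw [← h2, ← h4, h3, h1]
  ring

/-- general product inequality-free formula: `|N ⊔ L| * |N ⊓ L| = |N| * |L|` for `L` normal -/
theorem card_sup_mul_card_inf {X : Type*} [Group X] [Finite X] (N L : Subgroup X) [L.Normal] :
    Nat.card (N ⊔ L : Subgroup X) * Nat.card (N ⊓ L : Subgroup X) = Nat.card N * Nat.card L := by
  have h1 : L.relIndex (N ⊔ L) = L.relIndex N := Subgroup.relIndex_sup_right N L
  have h3 : (N ⊓ L).relIndex N = L.relIndex N := Subgroup.inf_relIndex_left N L
  have h4 : Nat.card (N ⊓ L : Subgroup X) * (N ⊓ L).relIndex N = Nat.card N := by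
    have h5 := Subgroup.relIndex_mul_relIndex (⊥ : Subgroup X) (N ⊓ L) N bot_le inf_le_left
    rwa [Subgroup.relIndex_bot_left, Subgroup.relIndex_bot_left] at h5
  have h6 : Nat.card L * L.relIndex (N ⊔ L) = Nat.card (N ⊔ L : Subgroup X) := by
    have h5 := Subgroup.relIndex_mul_relIndex (⊥ : Subgroup X) L (N ⊔ L) bot_le le_sup_right
    rwa [Subgroup.relIndex_bot_left, Subgroup.relIndex_bot_left] at h5
  rw [← h6, ← h4, h3, h1]
  ring


section PermSix

open Equiv

variable {G : Type*} [Group G] (K : Subgroup G) [hn : K.Normal]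

/-- the action of `G` on `A₆` through an isomorphism `K ≃* A₆` of a normal subgroup -/
noncomputable def psi (f₀ : K ≃* alternatingGroup (Fin 6)) :
    G →* MulAut (alternatingGroup (Fin 6)) :=
  (MulAut.congr f₀).toMonoidHom.comp (MulAut.conjNormal (H := K))

theorem psi_apply (f₀ : K ≃* alternatingGroup (Fin 6)) (x : G) (y : alternatingGroup (Fin 6)) :
    psi K f₀ x y = f₀ ((MulAut.conjNormal (H := K) x) (f₀.symm y)) := rfl

/-- conjugation by permutations on `A₆` -/
noncomputable abbrev cN6 : Perm (Fin 6) →* MulAut (alternatingGroup (Fin 6)) := MulAut.conjNormal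

theorem psi_of_mem (f₀ : K ≃* alternatingGroup (Fin 6)) {x : G} (hx : x ∈ K) :
    psi K f₀ x = cN6 ((f₀ ⟨x, hx⟩ : alternatingGroup (Fin 6)) : Perm (Fin 6)) := by
  apply MulEquiv.ext
  intro y
  rw [psi_apply]
  apply Subtype.ext
  rw [MulAut.conjNormal_apply]
  have h1 : (MulAut.conjNormal (H := K) x) (f₀.symm y) = ⟨x, hx⟩ * f₀.symm y * ⟨x, hx⟩⁻¹ := by
    apply Subtype.ext
    rw [MulAut.conjNormal_apply]
    rfl
  rw [h1, map_mul, map_mul, map_inv, MulEquiv.apply_symm_apply]
  rfl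

theorem psi_mem_of_comm (f₀ : K ≃* alternatingGroup (Fin 6)) {t ρ : G} (hρK : ρ ∈ K)
    (hρ3 : orderOf ρ = 3) (hcomm : t * ρ * t⁻¹ = ρ) : psi K f₀ t ∈ (cN6).range := by
  let ρ₀ : K := ⟨ρ, hρK⟩
  have ho : orderOf (f₀ ρ₀) = 3 := by
    rw [MulEquiv.orderOf_eq, ← Subgroup.orderOf_coe]
    exact hρ3
  have hfix : psi K f₀ t (f₀ ρ₀) = f₀ ρ₀ := by
    rw [psi_apply, MulEquiv.symm_apply_apply]
    congr 1
    apply Subtype.ext
    rw [MulAut.conjNormal_apply]
    exact hcomm
  obtain ⟨g, hg⟩ := Cfsg.Agent.Lib.Helper6.S6Rec.exists_perm_of_fixed (psi K f₀ t) (f₀ ρ₀) ho hfix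
  exact ⟨g, hg⟩

theorem psi_mem_range (hi : K.index = 2) (f₀ : K ≃* alternatingGroup (Fin 6)) {t ρ : G}
    (ht : t ∉ K) (hρK : ρ ∈ K) (hρ3 : orderOf ρ = 3) (hcomm : t * ρ * t⁻¹ = ρ) (x : G) :
    psi K f₀ x ∈ (cN6).range := by
  by_cases hx : x ∈ K
  · rw [psi_of_mem K f₀ hx]
    exact ⟨_, rfl⟩
  · have h1 : x * t ∈ K := by
      rw [Subgroup.mul_mem_iff_of_index_two hi]
      exact ⟨fun h' => absurd h' hx, fun h' => absurd h' ht⟩
    have h2 : x = (x * t) * t⁻¹ := by group
    rw [h2, map_mul, map_inv]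
    apply mul_mem
    · rw [psi_of_mem K f₀ h1]; exact ⟨_, rfl⟩
    · exact inv_mem (psi_mem_of_comm K f₀ hρK hρ3 hcomm)

theorem psi_injective (f₀ : K ≃* alternatingGroup (Fin 6))
    (hcent : ∀ k : G, (∀ x ∈ K, k * x = x * k) → k = 1) : Function.Injective (psi K f₀) := by
  rw [injective_iff_map_eq_one]
  intro k hk
  apply hcent
  intro x hx
  have h1 := DFunLike.congr_fun hk (f₀ ⟨x, hx⟩)
  rw [psi_apply, MulEquiv.symm_apply_apply, MulAut.one_apply] at h1
  have h2 := congrArg Subtype.val (f₀.injective h1)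
  rw [MulAut.conjNormal_apply] at h2
  calc k * x = (k * x * k⁻¹) * k := by group
    _ = x * k := by rw [h2]

/-- **From `A₆` to `S₆`**: a group with a normal subgroup `K ≅ A₆` of index 2 with trivial
centralizer, such that some element outside `K` centralizes an element of order 3 of `K`, is
isomorphic to `S₆`. -/
theorem perm_six_of_index_two [Finite G] (hi : K.index = 2) (f₀ : K ≃* alternatingGroup (Fin 6))
    {t ρ : G} (ht : t ∉ K) (hρK : ρ ∈ K) (hρ3 : orderOf ρ = 3) (hcomm : t * ρ * t⁻¹ = ρ)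
    (hcent : ∀ k : G, (∀ x ∈ K, k * x = x * k) → k = 1) : Nonempty (G ≃* Perm (Fin 6)) := by
  have hinj : Function.Injective (cN6) :=
    Cfsg.Agent.Lib.Helper9.AltAut.conjNormal_injective (α := Fin 6) (by simp)
  let Ψ' : G →* (cN6).range :=
    (psi K f₀).codRestrict (cN6).range (psi_mem_range K hi f₀ ht hρK hρ3 hcomm)
  let Θ : G →* Perm (Fin 6) := (MonoidHom.ofInjective hinj).symm.toMonoidHom.comp Ψ'
  have hΘ : Function.Injective Θ := by
    intro x y h
    have h1 : Ψ' x = Ψ' y := (MonoidHom.ofInjective hinj).symm.injective h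
    have h2 : psi K f₀ x = psi K f₀ y := congrArg Subtype.val h1
    exact psi_injective K f₀ hcent h2
  have hA6 : Nat.card (alternatingGroup (Fin 6)) = 360 := by
    have := two_mul_nat_card_alternatingGroup (α := Fin 6)
    rw [Nat.card_eq_fintype_card (α := Perm (Fin 6)), Fintype.card_perm, Fintype.card_fin] at this
    have h720 : Nat.factorial 6 = 720 := by decide
    omega
  have hcard : Nat.card K = 360 := by rw [Nat.card_congr f₀.toEquiv, hA6]
  have hG : Nat.card G = 720 := by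
    rw [← K.card_mul_index, hi, hcard]
  have hbij : Function.Bijective Θ := by
    apply Function.Injective.bijective_of_nat_card_le hΘ
    rw [hG, Nat.card_eq_fintype_card, Fintype.card_perm, Fintype.card_fin]
    decide
  exact ⟨MulEquiv.ofBijective Θ hbij⟩

end PermSix

end Cfsg.Agent.Lib.Helper20.S3333End
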