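/-
helper20: S3333 endgame, the local configuration `Cfg` (TI Sylow 3-subgroup of order 9 with
normalizer of order `9e` and index 10) and its consequences: every non-trivial normal subgroup has
order divisible by 180; `e ≠ 2`; for `e = 4` the group is simple.
-/
import Mathlib
import Cfsg.Agent.Lib.Helper20.S3333Gen

set_option autoImplicit false

namespace Cfsg.Agent.Lib.Helper20.S3333End

open Subgroup

/-- configuration: a Sylow 3-subgroup `P` of order 9 containing its centralizer, with local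
control of centralizers, normalizer of order `9e` and group order `90e`, `e ∣ 8`. -/
structure Cfg (X : Type*) [Group X] (P : Sylow 3 X) (e : ℕ) : Prop where
  cardP : Nat.card (P : Subgroup X) = 9
  loc : ∀ x ∈ (P : Subgroup X), x ≠ 1 →
    centralizer ({x} : Set X) ≤ normalizer ((P : Subgroup X) : Set X)
  cent : centralizer ((P : Subgroup X) : Set X) ≤ (P : Subgroup X)
  cardN : Nat.card (normalizer ((P : Subgroup X) : Set X)) = 9 * e
  cardX : Nat.card X = 90 * e
  he : e ∣ 8

namespace Cfg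

variable {X : Type*} [Group X] {P : Sylow 3 X} {e : ℕ}

theorem e_pos (h : Cfg X P e) : 0 < e := Nat.pos_of_dvd_of_pos h.he (by norm_num)

theorem e_le (h : Cfg X P e) : e ≤ 8 := Nat.le_of_dvd (by norm_num) h.he

theorem comm (h : Cfg X P e) {a b : X} (ha : a ∈ (P : Subgroup X)) (hb : b ∈ (P : Subgroup X)) :
    a * b = b * a := by
  have h9 : Nat.card (P : Subgroup X) = 3 ^ 2 := by rw [h.cardP]; norm_num
  have hc : IsMulCommutative (P : Subgroup X) := IsPGroup.isMulCommutative_of_card_eq_prime_sq h9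
  have := mul_comm' (⟨a, ha⟩ : (P : Subgroup X)) ⟨b, hb⟩
  exact congrArg Subtype.val this

/-- a 3-subgroup of the normalizer of `P` lies in `P` -/
theorem le_of_le_normalizer {Q : Subgroup X} (hQ : IsPGroup 3 Q)
    (hQN : Q ≤ normalizer ((P : Subgroup X) : Set X)) : Q ≤ (P : Subgroup X) := by
  have h1 : Q ⊓ normalizer ((P : Subgroup X) : Set X) = Q ⊓ (P : Subgroup X) :=
    hQ.inf_normalizer_sylow P
  have h2 : Q ⊓ normalizer ((P : Subgroup X) : Set X) = Q := inf_eq_left.2 hQN
  rw [h2] at h1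
  exact inf_eq_left.1 h1.symm

/-- an element of `3`-power order of the normalizer of `P` lies in `P` -/
theorem mem_of_mem_normalizer {y : X} (hyN : y ∈ normalizer ((P : Subgroup X) : Set X))
    {k : ℕ} (hy : y ^ 3 ^ k = 1) : y ∈ (P : Subgroup X) := by
  have hQ : IsPGroup 3 (zpowers y) := by
    intro z
    obtain ⟨z, hz⟩ := z
    obtain ⟨n, rfl⟩ := mem_zpowers_iff.1 hz
    refine ⟨k, ?_⟩
    apply Subtype.ext
    simp only [SubmonoidClass.coe_pow, OneMemClass.coe_one]
    rw [← zpow_natCast, ← zpow_mul, mul_comm, zpow_mul, zpow_natCast, hy, one_zpow]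
  exact le_of_le_normalizer hQ ((zpowers_le).2 hyN) (mem_zpowers y)

variable [Finite X]

/-- `P` is a TI-subgroup -/
theorem ti (h : Cfg X P e) {g : X} (hg : g ∉ normalizer ((P : Subgroup X) : Set X)) {x : X}
    (hx : x ∈ (P : Subgroup X)) (hgx : g * x * g⁻¹ ∈ (P : Subgroup X)) : x = 1 := by
  by_contra hx1
  apply hg
  have hy1 : g * x * g⁻¹ ≠ 1 := by
    intro h1
    apply hx1
    have : x = g⁻¹ * (g * x * g⁻¹) * g := by group
    rw [this, h1]; group
  have hQle : ((g • P : Sylow 3 X) : Subgroup X) ≤ normalizer ((P : Subgroup X) : Set X) := by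
    refine le_trans ?_ (h.loc _ hgx hy1)
    intro q hq
    rw [Sylow.coe_subgroup_smul, Subgroup.mem_pointwise_smul_iff_inv_smul_mem] at hq
    rw [mem_centralizer_iff]
    intro z hz
    rw [Set.mem_singleton_iff] at hz
    subst hz
    have hq' : g⁻¹ * q * g ∈ (P : Subgroup X) := by
      simpa [MulAut.smul_def] using hq
    have hc := h.comm hx hq'
    calc g * x * g⁻¹ * q = g * (x * (g⁻¹ * q * g)) * g⁻¹ := by group
      _ = g * ((g⁻¹ * q * g) * x) * g⁻¹ := by rw [hc]
      _ = q * (g * x * g⁻¹) := by group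
  have hQP : ((g • P : Sylow 3 X) : Subgroup X) ≤ (P : Subgroup X) :=
    le_of_le_normalizer (g • P).2 hQle
  have heq : g • P = P := by
    apply Sylow.ext
    exact ((g • P).3 P.2 hQP).symm
  exact Sylow.smul_eq_iff_mem_normalizer.1 heq

theorem index_normalizer (h : Cfg X P e) :
    (normalizer ((P : Subgroup X) : Set X)).index = 10 := by
  have h1 := (normalizer ((P : Subgroup X) : Set X)).card_mul_index
  rw [h.cardN, h.cardX] at h1
  have := h.e_pos
  have h2 : 9 * e * (normalizer ((P : Subgroup X) : Set X)).index = 9 * e * 10 := by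
    rw [h1]; ring
  exact Nat.eq_of_mul_eq_mul_left (by positivity) h2

theorem exists_not_mem (h : Cfg X P e) : ∃ g : X, g ∉ normalizer ((P : Subgroup X) : Set X) := by
  by_contra hcon
  push Not at hcon
  have : normalizer ((P : Subgroup X) : Set X) = ⊤ := (Subgroup.eq_top_iff' _).2 hcon
  have h1 := h.index_normalizer
  rw [this, index_top] at h1
  omega

/-- the normalizer of `P` is a maximal subgroup -/
theorem maximal (h : Cfg X P e) (H : Subgroup X)
    (hNH : normalizer ((P : Subgroup X) : Set X) ≤ H) :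
    H = normalizer ((P : Subgroup X) : Set X) ∨ H = ⊤ := by
  have hPH : (P : Subgroup X) ≤ H := le_trans le_normalizer hNH
  have h1 := card_sylow_modEq_one 3 ↥H
  have h2 : Nat.card (Sylow 3 ↥H)
      = (normalizer (((P.subtype hPH : Sylow 3 ↥H) : Subgroup ↥H) : Set ↥H)).index :=
    Sylow.card_eq_index_normalizer (P.subtype hPH)
  rw [Sylow.coe_subtype, ← subgroupOf_normalizer_eq hPH] at h2
  change _ = (normalizer ((P : Subgroup X) : Set X)).relIndex H at h2
  have h3 := relIndex_mul_index hNH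
  rw [h.index_normalizer] at h3
  rw [h2] at h1
  set r := (normalizer ((P : Subgroup X) : Set X)).relIndex H with hr
  have hr10 : r ∣ 10 := Dvd.intro _ h3
  have hrle : r ≤ 10 := Nat.le_of_dvd (by norm_num) hr10
  have hmod : r % 3 = 1 := h1
  have hcases : r = 1 ∨ r = 10 := by
    interval_cases r <;> omega
  rcases hcases with h1' | h10
  · left
    exact le_antisymm (relIndex_eq_one.1 h1') hNH
  · right
    rw [h10] at h3
    have : H.index = 1 := by omega
    exact index_eq_one.1 this

/-- a non-trivial normal subgroup is not contained in the normalizer of `P` -/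
theorem not_le (h : Cfg X P e) (L : Subgroup X) [L.Normal] (hL : L ≠ ⊥) :
    ¬ L ≤ normalizer ((P : Subgroup X) : Set X) := by
  intro hLN
  apply hL
  obtain ⟨g, hg⟩ := h.exists_not_mem
  have hg' : g⁻¹ ∉ normalizer ((P : Subgroup X) : Set X) := fun h' => hg (by simpa using inv_mem h')
  have hLP : ∀ x ∈ L, x ∈ (P : Subgroup X) → x = 1 := by
    intro x hxL hxP
    have h9 : x ^ 3 ^ 2 = 1 := by
      have : (⟨x, hxP⟩ : (P : Subgroup X)) ^ Nat.card (P : Subgroup X) = 1 := pow_card_eq_one'
      rw [h.cardP] at this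
      have := congrArg Subtype.val this
      simpa using this
    have h1 : g⁻¹ * x * g⁻¹⁻¹ ∈ L := Subgroup.Normal.conj_mem inferInstance x hxL g⁻¹
    have h2 : g⁻¹ * x * g⁻¹⁻¹ ∈ (P : Subgroup X) := by
      apply mem_of_mem_normalizer (hLN h1) (k := 2)
      rw [conj_pow, h9]; group
    exact h.ti hg' hxP h2
  rw [eq_bot_iff]
  intro l hl
  rw [mem_bot]
  have hlN := hLN hl
  have hlc : l ∈ centralizer ((P : Subgroup X) : Set X) := by
    rw [mem_centralizer_iff]
    intro u hu
    have hu' : u ∈ (P : Subgroup X) := hu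
    have hc1 : l * u * l⁻¹ * u⁻¹ ∈ L := by
      have : l * u * l⁻¹ * u⁻¹ = l * (u * l⁻¹ * u⁻¹) := by group
      rw [this]
      exact mul_mem hl (Subgroup.Normal.conj_mem inferInstance _ (inv_mem hl) u)
    have hc2 : l * u * l⁻¹ * u⁻¹ ∈ (P : Subgroup X) :=
      mul_mem ((Subgroup.mem_normalizer_iff.1 hlN u).1 hu') (inv_mem hu')
    have := hLP _ hc1 hc2
    calc u * l = (l * u * l⁻¹ * u⁻¹)⁻¹ * (l * u) := by group
      _ = l * u := by rw [this]; group
  exact hLP l hl (h.cent hlc)

theorem sup_eq_top (h : Cfg X P e) (L : Subgroup X) [L.Normal] (hL : L ≠ ⊥) :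
    normalizer ((P : Subgroup X) : Set X) ⊔ L = ⊤ := by
  rcases h.maximal (normalizer ((P : Subgroup X) : Set X) ⊔ L) le_sup_left with h1 | h1
  · exfalso
    apply h.not_le L hL
    rw [← h1]
    exact le_sup_right
  · exact h1

theorem card_inf (h : Cfg X P e) (L : Subgroup X) [L.Normal] (hL : L ≠ ⊥) :
    Nat.card (normalizer ((P : Subgroup X) : Set X) ⊓ L : Subgroup X) * 10 = Nat.card L := by
  have h1 := card_inf_mul_card_of_sup_eq_top _ L (h.sup_eq_top L hL)
  rw [h.cardN, h.cardX] at h1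
  have := h.e_pos
  have h2 : 9 * e * (Nat.card (normalizer ((P : Subgroup X) : Set X) ⊓ L : Subgroup X) * 10)
      = 9 * e * Nat.card L := by
    rw [← h1]; ring
  exact Nat.eq_of_mul_eq_mul_left (by positivity) h2


/-! ### Sylow 5-subgroups -/

theorem card_dvd_720 (h : Cfg X P e) : Nat.card X ∣ 720 := by
  rw [h.cardX]
  have := Nat.mul_dvd_mul_left 90 h.he
  simpa using this

theorem cardN_dvd_72 (h : Cfg X P e) :
    Nat.card (normalizer ((P : Subgroup X) : Set X)) ∣ 72 := by
  rw [h.cardN]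
  have := Nat.mul_dvd_mul_left 9 h.he
  simpa using this

/-- elements of order 3 and 5 do not commute -/
theorem not_comm (h : Cfg X P e) {y f : X} (hy : orderOf y = 3) (hf : orderOf f = 5) :
    y * f ≠ f * y := by
  intro hcomm
  have hQ : IsPGroup 3 (zpowers y) :=
    IsPGroup.of_card (n := 1) (by rw [Nat.card_zpowers, hy]; norm_num)
  obtain ⟨Q, hQ'⟩ := hQ.exists_le_sylow
  obtain ⟨g, hg⟩ := MulAction.exists_smul_eq X Q P
  have hx : g * y * g⁻¹ ∈ (P : Subgroup X) := by
    rw [← hg, Sylow.coe_subgroup_smul, Subgroup.mem_pointwise_smul_iff_inv_smul_mem]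
    have : (MulAut.conj g)⁻¹ • (g * y * g⁻¹) = y := by
      rw [inv_smul_eq_iff, MulAut.smul_def, MulAut.conj_apply]
    rw [this]
    exact hQ' (mem_zpowers y)
  have hy1 : y ≠ 1 := by
    intro h1
    rw [h1, orderOf_one] at hy
    omega
  have hx1 : g * y * g⁻¹ ≠ 1 := by
    intro h1
    apply hy1
    have : y = g⁻¹ * (g * y * g⁻¹) * g := by group
    rw [this, h1]; group
  have hfc : g * f * g⁻¹ ∈ centralizer ({g * y * g⁻¹} : Set X) := by
    rw [mem_centralizer_iff]
    intro z hz
    rw [Set.mem_singleton_iff] at hz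
    subst hz
    calc g * y * g⁻¹ * (g * f * g⁻¹) = g * (y * f) * g⁻¹ := by group
      _ = g * (f * y) * g⁻¹ := by rw [hcomm]
      _ = g * f * g⁻¹ * (g * y * g⁻¹) := by group
  have hfN := h.loc _ hx hx1 hfc
  have ho : orderOf (g * f * g⁻¹) = 5 := by
    have := (MulAut.conj g).orderOf_eq f
    rw [MulAut.conj_apply] at this
    rw [this, hf]
  have h5 : 5 ∣ Nat.card (normalizer ((P : Subgroup X) : Set X)) := by
    have := orderOf_dvd_natCard (⟨g * f * g⁻¹, hfN⟩ : normalizer ((P : Subgroup X) : Set X))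
    rwa [Subgroup.orderOf_mk, ho] at this
  have := h5.trans h.cardN_dvd_72
  omega

theorem card_sylow5 (h : Cfg X P e) (F : Sylow 5 X) : Nat.card (F : Subgroup X) = 5 := by
  have : Fact (Nat.Prime 5) := ⟨by norm_num⟩
  have h1 := F.card_eq_multiplicity
  have hpos : Nat.card X ≠ 0 := Nat.card_pos.ne'
  have h5 : 5 ∣ Nat.card X := by
    rw [h.cardX]
    exact Dvd.dvd.mul_right (by norm_num) e
  have h25 : ¬ 25 ∣ Nat.card X := by
    intro h'
    have := h'.trans h.card_dvd_720
    omega
  have h3 : 1 ≤ (Nat.card X).factorization 5 :=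
    (Nat.Prime.dvd_iff_one_le_factorization (by norm_num) hpos).1 h5
  have h4 : ¬ 2 ≤ (Nat.card X).factorization 5 := by
    intro h5'
    exact h25 ((Nat.Prime.pow_dvd_iff_le_factorization (by norm_num) hpos).2 h5')
  have h6 : (Nat.card X).factorization 5 = 1 := by omega
  rw [h1, h6]; norm_num

/-- an element of order 3 normalizing a cyclic group of order 5 centralizes it -/
theorem comm_of_conj_mem_zpowers {a b : X} (ha : a ^ 3 = 1) (hb : b ^ 5 = 1)
    (hab : a * b * a⁻¹ ∈ zpowers b) : a * b = b * a := by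
  obtain ⟨k, hk⟩ := mem_zpowers_iff.1 hab
  have h1 : ∀ n : ℤ, a * b ^ n * a⁻¹ = (b ^ k) ^ n := by
    intro n
    rw [hk, conj_zpow]
  have h2 : b = b ^ (k * k * k) := by
    have e1 : a * (a * (a * b * a⁻¹) * a⁻¹) * a⁻¹ = b ^ (k * k * k) := by
      rw [← hk, h1 k, ← zpow_mul, h1 (k * k), ← zpow_mul]
      congr 1; ring
    have e3 : a ^ 3 = a * a * a := by rw [pow_succ, pow_two]
    have e2 : a * (a * (a * b * a⁻¹) * a⁻¹) * a⁻¹ = a ^ 3 * b * (a ^ 3)⁻¹ := by
      rw [e3]; group
    rw [e2, ha] at e1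
    simpa using e1
  have h3' : b ^ (k * k * k - 1) = 1 := by
    rw [zpow_sub, zpow_one, ← h2, mul_inv_cancel]
  have hb' : b ^ (5 : ℤ) = 1 := by exact_mod_cast hb
  -- reduce k mod 5
  obtain ⟨r, c, hr0, hr5, hkr⟩ : ∃ r c : ℤ, 0 ≤ r ∧ r < 5 ∧ k = r + 5 * c :=
    ⟨k % 5, k / 5, Int.emod_nonneg _ (by norm_num), Int.emod_lt_of_pos _ (by norm_num),
      (Int.emod_add_mul_ediv k 5).symm⟩
  have hbk : b ^ k = b ^ r := by
    rw [hkr, zpow_add, zpow_mul, hb', one_zpow, mul_one]
  have h4 : b ^ (r * r * r - 1) = 1 := by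
    have : k * k * k - 1 = (r * r * r - 1) + 5 * (3 * r * r * c + 15 * r * c * c + 25 * c * c * c) := by
      rw [hkr]; ring
    rw [this, zpow_add, zpow_mul, hb', one_zpow, mul_one] at h3'
    exact h3'
  have hr : r = 1 ∨ b = 1 := by
    have hcases : r = 0 ∨ r = 1 ∨ r = 2 ∨ r = 3 ∨ r = 4 := by omega
    rcases hcases with rfl | rfl | rfl | rfl | rfl
    · right
      norm_num at h4
      simpa using h4
    · left; rfl
    · right
      norm_num at h4
      -- b^7 = 1 and b^5 = 1
      have h7 : b ^ (7 : ℤ) = 1 := by exact_mod_cast h4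
      have : b = (b ^ (5 : ℤ)) ^ (3 : ℤ) * (b ^ (7 : ℤ)) ^ (-2 : ℤ) := by
        rw [← zpow_mul, ← zpow_mul, ← zpow_add]; norm_num
      rw [this, hb', h7]; simp
    · right
      norm_num at h4
      have h26 : b ^ (26 : ℤ) = 1 := by exact_mod_cast h4
      have : b = (b ^ (26 : ℤ)) ^ (1 : ℤ) * (b ^ (5 : ℤ)) ^ (-5 : ℤ) := by
        rw [← zpow_mul, ← zpow_mul, ← zpow_add]; norm_num
      rw [this, hb', h26]; simp
    · right
      norm_num at h4
      have h63 : b ^ (63 : ℤ) = 1 := by exact_mod_cast h4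
      have : b = (b ^ (5 : ℤ)) ^ (38 : ℤ) * (b ^ (63 : ℤ)) ^ (-3 : ℤ) := by
        rw [← zpow_mul, ← zpow_mul, ← zpow_add]; norm_num
      rw [this, hb', h63]; simp
  rcases hr with hr | hb1
  · rw [hbk, hr, zpow_one] at hk
    calc a * b = (a * b * a⁻¹) * a := by group
      _ = b * a := by rw [← hk]
  · rw [hb1]; simp

/-- the normalizer of a Sylow 5-subgroup has order prime to 3 -/
theorem three_not_dvd (h : Cfg X P e) (F : Sylow 5 X) :
    ¬ 3 ∣ Nat.card (normalizer ((F : Subgroup X) : Set X)) := by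
  intro h3
  have : Fact (Nat.Prime 3) := ⟨by norm_num⟩
  obtain ⟨⟨a, haN⟩, hy⟩ := exists_prime_orderOf_dvd_card' 3 h3
  have hy3 : orderOf a = 3 := by rw [← hy, Subgroup.orderOf_mk]
  have hF5 := h.card_sylow5 F
  have : Fact (Nat.Prime 5) := ⟨by norm_num⟩
  obtain ⟨⟨b, hbF⟩, hf⟩ := exists_prime_orderOf_dvd_card' 5 (show 5 ∣ Nat.card (F : Subgroup X) by
    rw [hF5])
  have hf5 : orderOf b = 5 := by rw [← hf, Subgroup.orderOf_mk]
  have hzF : zpowers b = (F : Subgroup X) := by
    apply Subgroup.eq_of_le_of_card_ge ((zpowers_le).2 hbF)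
    rw [Nat.card_zpowers, hf5, hF5]
  have hyf : a * b * a⁻¹ ∈ zpowers b := by
    rw [hzF]
    exact (Subgroup.mem_normalizer_iff.1 haN b).1 hbF
  have ha3 : a ^ 3 = 1 := by
    have := pow_orderOf_eq_one a
    rwa [hy3] at this
  have hb5 : b ^ 5 = 1 := by
    have := pow_orderOf_eq_one b
    rwa [hf5] at this
  exact h.not_comm hy3 hf5 (comm_of_conj_mem_zpowers ha3 hb5 hyf)


/-- `2 |N(F)| = 5 e` for a Sylow 5-subgroup `F` (equivalently `n₅ = 36`) -/
theorem card_normalizer5 (h : Cfg X P e) (F : Sylow 5 X) :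
    2 * Nat.card (normalizer ((F : Subgroup X) : Set X)) = 5 * e := by
  have : Fact (Nat.Prime 5) := ⟨by norm_num⟩
  have h1 : Nat.card (normalizer ((F : Subgroup X) : Set X)) *
      (normalizer ((F : Subgroup X) : Set X)).index = 90 * e := by
    rw [← h.cardX]; exact Subgroup.card_mul_index _
  have h2 : (normalizer ((F : Subgroup X) : Set X)).index % 5 = 1 := by
    have h2' := card_sylow_modEq_one 5 X
    have h2'' : Nat.card (Sylow 5 X) = (normalizer ((F : Subgroup X) : Set X)).index :=
      Sylow.card_eq_index_normalizer F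
    rw [h2''] at h2'
    exact h2'
  have h3 : ¬ 3 ∣ Nat.card (normalizer ((F : Subgroup X) : Set X)) := h.three_not_dvd F
  set m := Nat.card (normalizer ((F : Subgroup X) : Set X)) with hm
  set n := (normalizer ((F : Subgroup X) : Set X)).index with hn
  have h9 : 9 ∣ n := by
    have hc : Nat.Coprime 9 m := by
      have : Nat.Coprime 3 m := (Nat.Prime.coprime_iff_not_dvd (by norm_num)).2 h3
      exact Nat.Coprime.pow_left 2 this
    have : 9 ∣ m * n := by rw [h1]; exact Dvd.dvd.mul_right (by norm_num) e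
    exact hc.dvd_of_dvd_mul_left this
  have hn720 : n ∣ 720 := by
    have : n ∣ 90 * e := Dvd.intro_left m h1
    have h720 := h.card_dvd_720
    rw [h.cardX] at h720
    exact this.trans h720
  obtain ⟨j, hj⟩ := h9
  have hj80 : j ∣ 80 := by
    rw [hj] at hn720
    have : 9 * j ∣ 9 * 80 := by simpa using hn720
    exact (Nat.mul_dvd_mul_iff_left (by norm_num : 0 < 9)).1 this
  have hjle : j ≤ 80 := Nat.le_of_dvd (by norm_num) hj80
  have hj4 : j = 4 := by
    rw [hj] at h2
    interval_cases j <;> omega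
  rw [hj4] at hj
  rw [hj] at h1
  omega

/-- **every non-trivial normal subgroup has order divisible by 180** -/
theorem card_dvd_of_normal (h : Cfg X P e) (L : Subgroup X) [L.Normal] (hL : L ≠ ⊥) :
    180 ∣ Nat.card L := by
  have : Fact (Nat.Prime 5) := ⟨by norm_num⟩
  have h10 := h.card_inf L hL
  have h5 : 5 ∣ Nat.card L := by
    rw [← h10]
    exact Dvd.dvd.mul_left (by norm_num) _
  obtain ⟨⟨f, hfL⟩, hf⟩ := exists_prime_orderOf_dvd_card' 5 h5
  have hf5 : orderOf f = 5 := by rw [← hf, Subgroup.orderOf_mk]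
  have hQ : IsPGroup 5 (zpowers f) :=
    IsPGroup.of_card (n := 1) (by rw [Nat.card_zpowers, hf5]; norm_num)
  obtain ⟨F, hF⟩ := hQ.exists_le_sylow
  have hFz : zpowers f = (F : Subgroup X) :=
    Subgroup.eq_of_le_of_card_ge hF (by rw [Nat.card_zpowers, hf5, h.card_sylow5 F])
  have hFL : (F : Subgroup X) ≤ L := by rw [← hFz]; exact (zpowers_le).2 hfL
  have hfr : normalizer ((F : Subgroup X) : Set X) ⊔ L = ⊤ := Sylow.normalizer_sup_eq_top' F hFL
  have h1 := card_inf_mul_card_of_sup_eq_top _ L hfr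
  have h2 := h.card_normalizer5 F
  rw [h.cardX] at h1
  have h3 : 5 ∣ Nat.card (normalizer ((F : Subgroup X) : Set X) ⊓ L : Subgroup X) := by
    have := Subgroup.card_dvd_of_le
      (le_inf le_normalizer hFL : (F : Subgroup X) ≤ normalizer ((F : Subgroup X) : Set X) ⊓ L)
    rwa [h.card_sylow5 F] at this
  obtain ⟨c, hc⟩ := h3
  refine ⟨c, ?_⟩
  have he := h.e_pos
  rw [hc] at h1
  have h4 : e * (5 * Nat.card L) = e * (5 * (180 * c)) := by
    calc e * (5 * Nat.card L) = (5 * e) * Nat.card L := by ring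
      _ = 2 * (Nat.card (normalizer ((F : Subgroup X) : Set X)) * Nat.card L) := by
        rw [← h2]; ring
      _ = 2 * (5 * c * (90 * e)) := by rw [← h1]
      _ = e * (5 * (180 * c)) := by ring
  have h5' := Nat.eq_of_mul_eq_mul_left he h4
  omega

/-- every non-trivial normal subgroup contains `P` -/
theorem le_of_normal (h : Cfg X P e) (L : Subgroup X) [L.Normal] (hL : L ≠ ⊥) :
    (P : Subgroup X) ≤ L := by
  have : Fact (Nat.Prime 3) := ⟨by norm_num⟩
  have h180 := h.card_dvd_of_normal L hL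
  have h10 := h.card_inf L hL
  have h9 : 3 ^ 2 ∣ Nat.card (normalizer ((P : Subgroup X) : Set X) ⊓ L : Subgroup X) := by
    obtain ⟨d, hd⟩ := h180
    refine ⟨2 * d, ?_⟩
    omega
  obtain ⟨Q', hQ'⟩ := Sylow.exists_subgroup_card_pow_prime 3 h9
  have hQc : Nat.card (Q'.map (normalizer ((P : Subgroup X) : Set X) ⊓ L).subtype) = 9 := by
    rw [Subgroup.card_map_of_injective (Subgroup.subtype_injective _), hQ']; norm_num
  have hQ3 : IsPGroup 3 (Q'.map (normalizer ((P : Subgroup X) : Set X) ⊓ L).subtype) :=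
    IsPGroup.of_card (n := 2) (by rw [hQc]; norm_num)
  have hQle : Q'.map (normalizer ((P : Subgroup X) : Set X) ⊓ L).subtype
      ≤ normalizer ((P : Subgroup X) : Set X) ⊓ L := Subgroup.map_subtype_le _
  have hQP : Q'.map (normalizer ((P : Subgroup X) : Set X) ⊓ L).subtype ≤ (P : Subgroup X) :=
    le_of_le_normalizer hQ3 (hQle.trans inf_le_left)
  have heq : Q'.map (normalizer ((P : Subgroup X) : Set X) ⊓ L).subtype = (P : Subgroup X) :=
    Subgroup.eq_of_le_of_card_ge hQP (by rw [hQc, h.cardP])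
  rw [← heq]
  exact hQle.trans inf_le_right

/-- restriction of the configuration to a subgroup containing `P` -/
theorem restrict (h : Cfg X P e) (Y : Subgroup X) (hPY : (P : Subgroup X) ≤ Y) {e' : ℕ}
    (he' : e' ∣ 8) (hY : Nat.card Y = 90 * e')
    (hNY : Nat.card (normalizer ((P : Subgroup X) : Set X) ⊓ Y : Subgroup X) = 9 * e') :
    Cfg ↥Y (P.subtype hPY) e' where
  cardP := by
    rw [Sylow.coe_subtype, Nat.card_congr (Subgroup.subgroupOfEquivOfLe hPY).toEquiv, h.cardP]
  loc := by
    intro x hx hx1 z hz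
    rw [Sylow.coe_subtype] at hx ⊢
    rw [← subgroupOf_normalizer_eq hPY, mem_subgroupOf]
    apply h.loc (x : X) (mem_subgroupOf.1 hx) (by
      intro h1; apply hx1; exact Subtype.ext h1)
    rw [mem_centralizer_iff] at hz ⊢
    intro w hw
    rw [Set.mem_singleton_iff] at hw
    subst hw
    have := hz x rfl
    exact congrArg Subtype.val this
  cent := by
    intro z hz
    rw [Sylow.coe_subtype, mem_subgroupOf]
    apply h.cent
    rw [mem_centralizer_iff] at hz ⊢
    intro u hu
    have hu' : (⟨u, hPY hu⟩ : Y) ∈ (((P.subtype hPY : Sylow 3 ↥Y) : Subgroup ↥Y) : Set ↥Y) := by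
      rw [Sylow.coe_subtype]
      exact mem_subgroupOf.2 hu
    have := hz ⟨u, hPY hu⟩ hu'
    exact congrArg Subtype.val this
  cardN := by
    rw [Sylow.coe_subtype, ← subgroupOf_normalizer_eq hPY, ← inf_subgroupOf_right,
      Nat.card_congr (subgroupOfEquivOfLe inf_le_right).toEquiv, hNY]
  cardX := hY
  he := he'

/-- the case `e = 2` (order 180) does not occur: Burnside's transfer at the prime 5 -/
theorem ne_two (h : Cfg X P e) : e ≠ 2 := by
  rintro rfl
  have : Fact (Nat.Prime 5) := ⟨by norm_num⟩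
  obtain ⟨F⟩ : Nonempty (Sylow 5 X) := inferInstance
  have h2 := h.card_normalizer5 F
  have hm : Nat.card (normalizer ((F : Subgroup X) : Set X)) = 5 := by omega
  have hF5 := h.card_sylow5 F
  have hNF : normalizer ((F : Subgroup X) : Set X) = F :=
    (Subgroup.eq_of_le_of_card_ge le_normalizer (by rw [hm, hF5])).symm
  have hcyc : IsCyclic (F : Subgroup X) := isCyclic_of_prime_card hF5
  have hle : normalizer ((F : Subgroup X) : Set X) ≤ centralizer ((F : Subgroup X) : Set X) := by
    rw [hNF]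
    intro a ha
    rw [mem_centralizer_iff]
    intro b hb
    have hcm : IsMulCommutative (F : Subgroup X) := IsCyclic.isMulCommutative
    have := mul_comm' (⟨b, hb⟩ : (F : Subgroup X)) ⟨a, ha⟩
    exact congrArg Subtype.val this
  have hcomp := MonoidHom.ker_transferSylow_isComplement' F hle
  have hc := hcomp.card_mul_card
  rw [h.cardX] at hc
  have hc' : Nat.card (MonoidHom.transferSylow F hle).ker * 5 = 90 * 2 := by
    rw [← hc, hF5]
  have hk : Nat.card (MonoidHom.transferSylow F hle).ker = 36 := by omega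
  have hne : (MonoidHom.transferSylow F hle).ker ≠ ⊥ := by
    intro hb
    rw [hb, Subgroup.card_bot] at hk
    omega
  have := h.card_dvd_of_normal _ hne
  rw [hk] at this
  omega

/-- **the case `e = 4` (order 360): the group is simple** -/
theorem isSimpleGroup (h : Cfg X P 4) : IsSimpleGroup X := by
  have hX : Nat.card X = 360 := by rw [h.cardX]
  have : Nontrivial X := by
    rw [← Finite.one_lt_card_iff_nontrivial, hX]; norm_num
  refine ⟨fun L hLn => ?_⟩
  by_cases hL : L = ⊥
  · left; exact hL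
  · right
    have h180 := h.card_dvd_of_normal L hL
    have hdvd : Nat.card L ∣ 360 := hX ▸ Subgroup.card_subgroup_dvd_card L
    have hcases : Nat.card L = 180 ∨ Nat.card L = 360 := by
      obtain ⟨c, hc⟩ := h180
      have hle : Nat.card L ≤ 360 := Nat.le_of_dvd (by norm_num) hdvd
      have hpos : 0 < Nat.card L := Nat.card_pos
      have : c = 1 ∨ c = 2 := by omega
      rcases this with rfl | rfl <;> omega
    rcases hcases with h1 | h1
    · exfalso
      have hPL := h.le_of_normal L hL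
      have h10 := h.card_inf L hL
      have hr := h.restrict L hPL (e' := 2) (by norm_num) (by rw [h1]) (by omega)
      exact hr.ne_two rfl
    · exact (Subgroup.card_eq_iff_eq_top L).1 (by rw [h1, hX])

end Cfg

end Cfsg.Agent.Lib.Helper20.S3333End
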