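/-
helper20: S3333 endgame leaf.  Under the hypotheses of S3333 together with `|G| = 720`, the group
`G` is isomorphic to `Sym(6)`.
-/
import Mathlib
import Cfsg.Agent.Lib.Helper20.S3333Cfg
import Cfsg.Agent.Lib.Helper4.S360e

set_option autoImplicit false

namespace Cfsg.Agent.Lib.Helper20.S3333End

open Subgroup

section Sign

variable {G : Type*} [Group G] [Finite G] {P : Sylow 3 G} {e : ℕ}

/-- `P` acts semiregularly on the other Sylow 3-subgroups -/
theorem Cfg.semiregular (h : Cfg G P e) {u : G} (hu : u ∈ (P : Subgroup G)) {Q : Sylow 3 G}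
    (hQ : Q ≠ P) (huQ : u • Q = Q) : u = 1 := by
  have : Fact (Nat.Prime 3) := ⟨by norm_num⟩
  have h9 : u ^ 3 ^ 2 = 1 := by
    have : (⟨u, hu⟩ : (P : Subgroup G)) ^ Nat.card (P : Subgroup G) = 1 := pow_card_eq_one'
    rw [h.cardP] at this
    have := congrArg Subtype.val this
    simpa using this
  have huQ' : u ∈ (Q : Subgroup G) :=
    Cfg.mem_of_mem_normalizer (P := Q) (Sylow.smul_eq_iff_mem_normalizer.1 huQ) h9
  obtain ⟨g, hg⟩ := MulAction.exists_smul_eq G P Q
  have hgN : g ∉ normalizer ((P : Subgroup G) : Set G) := by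
    intro hgN
    apply hQ
    rw [← hg]
    exact Sylow.smul_eq_iff_mem_normalizer.2 hgN
  have hx : g⁻¹ * u * g ∈ (P : Subgroup G) := by
    rw [← hg, Sylow.coe_subgroup_smul, Subgroup.mem_pointwise_smul_iff_inv_smul_mem] at huQ'
    have e1 : (MulAut.conj g)⁻¹ • u = g⁻¹ * u * g := by
      rw [inv_smul_eq_iff, MulAut.smul_def, MulAut.conj_apply]; group
    rwa [e1] at huQ'
  have hx' : g * (g⁻¹ * u * g) * g⁻¹ ∈ (P : Subgroup G) := by
    have : g * (g⁻¹ * u * g) * g⁻¹ = u := by group
    rw [this]; exact hu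
  have := h.ti hgN hx hx'
  calc u = g * (g⁻¹ * u * g) * g⁻¹ := by group
    _ = 1 := by rw [this]; group

theorem Cfg.card_sylow3 (h : Cfg G P e) : Nat.card (Sylow 3 G) = 10 := by
  have : Fact (Nat.Prime 3) := ⟨by norm_num⟩
  have h1 : Nat.card (Sylow 3 G) = (normalizer ((P : Subgroup G) : Set G)).index :=
    Sylow.card_eq_index_normalizer P
  rw [h1, h.index_normalizer]

/-- `P` is transitive on the other Sylow 3-subgroups -/
theorem Cfg.exists_smul_eq (h : Cfg G P e) {Q₀ Q : Sylow 3 G} (hQ₀ : Q₀ ≠ P) (hQ : Q ≠ P) :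
    ∃ u ∈ (P : Subgroup G), u • Q₀ = Q := by
  have hfix : ∀ u ∈ (P : Subgroup G), u • P = P := fun u hu =>
    Sylow.smul_eq_iff_mem_normalizer.2 (le_normalizer hu)
  have hne : ∀ u ∈ (P : Subgroup G), u • Q₀ ≠ P := by
    intro u hu heq
    apply hQ₀
    have : Q₀ = u⁻¹ • P := by rw [← heq, inv_smul_smul]
    rw [this]
    exact hfix _ (inv_mem hu)
  let j : ↥(P : Subgroup G) → {Q : Sylow 3 G // Q ≠ P} := fun u => ⟨(u : G) • Q₀, hne u u.2⟩
  have hj : Function.Injective j := by
    intro u v huv
    have h1 : (u : G) • Q₀ = (v : G) • Q₀ := congrArg Subtype.val huv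
    have h2 : ((v : G)⁻¹ * (u : G)) • Q₀ = Q₀ := by
      rw [mul_smul, h1, inv_smul_smul]
    have h3 := h.semiregular (mul_mem (inv_mem v.2) u.2) hQ₀ h2
    apply Subtype.ext
    calc (u : G) = (v : G) * ((v : G)⁻¹ * (u : G)) := by group
      _ = v := by rw [h3, mul_one]
  have hcard : Nat.card {Q : Sylow 3 G // Q ≠ P} ≤ Nat.card (P : Subgroup G) := by
    have h1 : Nat.card {Q : Sylow 3 G // Q ≠ P} = Nat.card (Sylow 3 G) - 1 := by
      classical
      letI : Fintype (Sylow 3 G) := Fintype.ofFinite _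
      rw [Nat.card_eq_fintype_card, Nat.card_eq_fintype_card, Fintype.card_subtype_compl,
        Fintype.card_subtype_eq]
    rw [h1, h.card_sylow3, h.cardP]
  have hbij := Function.Injective.bijective_of_nat_card_le hj hcard
  obtain ⟨u, hu⟩ := hbij.2 ⟨Q, hQ⟩
  exact ⟨u, u.2, congrArg Subtype.val hu⟩

/-- The number of Sylow 3-subgroups fixed by an involution `s` of the normalizer is
`1 + |C_P(s)|`. -/
theorem Cfg.ncard_fixed (h : Cfg G P e) {s : G} (hsN : s ∈ normalizer ((P : Subgroup G) : Set G))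
    (hs2 : s * s = 1) :
    {Q : Sylow 3 G | s • Q = Q}.ncard
      = 1 + Nat.card ((P : Subgroup G) ⊓ centralizer ({s} : Set G) : Subgroup G) := by
  classical
  have : Fact (Nat.Prime 2) := ⟨by norm_num⟩
  letI : Fintype (Sylow 3 G) := Fintype.ofFinite _
  have hsP : s • P = P := Sylow.smul_eq_iff_mem_normalizer.2 hsN
  have hsinv : s⁻¹ = s := inv_eq_of_mul_eq_one_right hs2
  -- a second fixed point, by parity
  obtain ⟨Q₀, hQ₀P, hsQ₀⟩ : ∃ Q₀ : Sylow 3 G, Q₀ ≠ P ∧ s • Q₀ = Q₀ := by
    by_contra hcon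
    push Not at hcon
    let σ : Equiv.Perm (Sylow 3 G) := MulAction.toPerm s
    have hσ : σ ^ 2 ^ 1 = 1 := by
      ext Q
      simp only [pow_one, pow_two, Equiv.Perm.coe_mul, Function.comp_apply, σ,
        MulAction.toPerm_apply, Equiv.Perm.coe_one, id_eq]
      rw [← mul_smul, hs2, one_smul]
    have h1 := Equiv.Perm.card_compl_support_modEq hσ
    have h2 : σ.supportᶜ = {P} := by
      ext Q
      simp only [Finset.mem_compl, Equiv.Perm.mem_support, not_not, Finset.mem_singleton, σ,
        MulAction.toPerm_apply]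
      constructor
      · intro hQ
        by_contra hQP
        exact hcon Q hQP hQ
      · rintro rfl
        exact hsP
    rw [h2, Finset.card_singleton, ← Nat.card_eq_fintype_card, h.card_sylow3] at h1
    have : 1 % 2 = 10 % 2 := h1
    omega
  -- the map from the fixed subgroup
  let C : Subgroup G := (P : Subgroup G) ⊓ centralizer ({s} : Set G)
  let j : C → Sylow 3 G := fun u => (u : G) • Q₀
  have hCP : ∀ u : C, (u : G) ∈ (P : Subgroup G) := fun u => (mem_inf.1 u.2).1
  have hCs : ∀ u : C, s * (u : G) = (u : G) * s := fun u => by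
    have := mem_centralizer_iff.1 (mem_inf.1 u.2).2 s rfl
    exact this
  have hj : Function.Injective j := by
    intro u v huv
    have h1 : (u : G) • Q₀ = (v : G) • Q₀ := huv
    have h2 : ((v : G)⁻¹ * (u : G)) • Q₀ = Q₀ := by
      rw [mul_smul, h1, inv_smul_smul]
    have h3 := h.semiregular (mul_mem (inv_mem (hCP v)) (hCP u)) hQ₀P h2
    apply Subtype.ext
    calc (u : G) = (v : G) * ((v : G)⁻¹ * (u : G)) := by group
      _ = v := by rw [h3, mul_one]
  have hset : {Q : Sylow 3 G | s • Q = Q} = insert P (Set.range j) := by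
    ext Q
    simp only [Set.mem_ofPred_eq, Set.mem_insert_iff, Set.mem_range]
    constructor
    · intro hQ
      by_cases hQP : Q = P
      · left; exact hQP
      · right
        obtain ⟨u, hu, huQ⟩ := h.exists_smul_eq hQ₀P hQP
        have h1 : (u⁻¹ * (s * u * s⁻¹)) • Q₀ = Q₀ := by
          have e1 : s⁻¹ • Q₀ = Q₀ := by rw [hsinv]; exact hsQ₀
          rw [mul_smul, mul_smul, mul_smul, e1, huQ, hQ, ← huQ, inv_smul_smul]
        have h2 : s * u * s⁻¹ ∈ (P : Subgroup G) := (Subgroup.mem_normalizer_iff.1 hsN u).1 hu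
        have h3 := h.semiregular (mul_mem (inv_mem hu) h2) hQ₀P h1
        have h4 : s * u = u * s := by
          calc s * u = u * (u⁻¹ * (s * u * s⁻¹)) * s := by group
            _ = u * s := by rw [h3, mul_one]
        refine ⟨⟨u, mem_inf.2 ⟨hu, ?_⟩⟩, huQ⟩
        rw [mem_centralizer_iff]
        intro z hz
        rw [Set.mem_singleton_iff] at hz
        subst hz
        exact h4
    · rintro (rfl | ⟨u, rfl⟩)
      · exact hsP
      · change s • ((u : G) • Q₀) = (u : G) • Q₀
        rw [← mul_smul, hCs u, mul_smul, hsQ₀]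
  have hnotin : P ∉ Set.range j := by
    rintro ⟨u, hu⟩
    apply hQ₀P
    have hu' : (u : G) • Q₀ = P := hu
    have : Q₀ = (u : G)⁻¹ • P := by rw [← hu', inv_smul_smul]
    rw [this]
    exact Sylow.smul_eq_iff_mem_normalizer.2 (le_normalizer (inv_mem (hCP u)))
  rw [hset, Set.ncard_insert_of_notMem hnotin (Set.toFinite _), add_comm]
  congr 1
  rw [← Set.image_univ, Set.ncard_image_of_injective _ hj, Set.ncard_univ]

/-- sign of the permutation induced by `s` on the Sylow 3-subgroups -/
noncomputable def signHom (G : Type*) [Group G] [Finite G] : G →* ℤˣ :=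
  letI : Fintype (Sylow 3 G) := Fintype.ofFinite _
  letI : DecidableEq (Sylow 3 G) := Classical.decEq _
  Equiv.Perm.sign.comp (MulAction.toPermHom G (Sylow 3 G))

theorem Cfg.signHom_eq (h : Cfg G P e) {s : G} (hsN : s ∈ normalizer ((P : Subgroup G) : Set G))
    (hs2 : s * s = 1)
    (hC : Nat.card ((P : Subgroup G) ⊓ centralizer ({s} : Set G) : Subgroup G) = 3) :
    signHom G s = -1 := by
  letI : Fintype (Sylow 3 G) := Fintype.ofFinite _
  letI : DecidableEq (Sylow 3 G) := Classical.decEq _
  have hσ : (MulAction.toPermHom G (Sylow 3 G) s) ^ 2 = 1 := by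
    rw [← map_pow, pow_two, hs2, map_one]
  have h1 := Equiv.Perm.sign_of_pow_two_eq_one hσ
  have h2 : Fintype.card (Function.fixedPoints (MulAction.toPermHom G (Sylow 3 G) s)) = 4 := by
    rw [← Nat.card_eq_fintype_card]
    have h3 := h.ncard_fixed hsN hs2
    rw [hC] at h3
    have h4 : Function.fixedPoints (MulAction.toPermHom G (Sylow 3 G) s)
        = {Q : Sylow 3 G | s • Q = Q} := by
      ext Q
      simp [Function.fixedPoints, Function.IsFixedPt]
    rw [h4, _root_.Nat.card_coe_set_eq, h3]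
  have h5 : Fintype.card (Sylow 3 G) = 10 := by
    rw [← Nat.card_eq_fintype_card, h.card_sylow3]
  rw [h2, h5] at h1
  have h6 : signHom G s = Equiv.Perm.sign (MulAction.toPermHom G (Sylow 3 G) s) := rfl
  rw [h6, h1]
  norm_num

end Sign


section Main

variable {G : Type*} [Group G] [Finite G] {P : Sylow 3 G}

/-- the configuration `Cfg G P 8` from the hypotheses of S3333 and `|G| = 720` -/
theorem cfg_of_hyp (hcard : Nat.card (P : Subgroup G) = 9)
    (hC : centralizer ((P : Subgroup G) : Set G) = P)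
    (eN : normalizer ((P : Subgroup G) : Set G) ⧸
      (P : Subgroup G).subgroupOf (normalizer ((P : Subgroup G) : Set G)) ≃* DihedralGroup 4)
    (hcent : ∀ x ∈ (P : Subgroup G), x ≠ 1 →
      centralizer ({x} : Set G) ≤ normalizer ((P : Subgroup G) : Set G))
    (h720 : Nat.card G = 720) : Cfg G P 8 where
  cardP := hcard
  loc := hcent
  cent := hC.le
  cardN := by
    have h1 := Subgroup.card_eq_card_quotient_mul_card_subgroup
      ((P : Subgroup G).subgroupOf (normalizer ((P : Subgroup G) : Set G)))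
    rw [Nat.card_congr eN.toEquiv, DihedralGroup.nat_card,
      Nat.card_congr (Subgroup.subgroupOfEquivOfLe le_normalizer).toEquiv, hcard] at h1
    rw [h1]
  cardX := by rw [h720]
  he := dvd_rfl

/-- the projection of the normalizer onto `D₈` -/
noncomputable def phi
    (eN : normalizer ((P : Subgroup G) : Set G) ⧸
      (P : Subgroup G).subgroupOf (normalizer ((P : Subgroup G) : Set G)) ≃* DihedralGroup 4) :
    normalizer ((P : Subgroup G) : Set G) →* DihedralGroup 4 :=
  eN.toMonoidHom.comp (QuotientGroup.mk' _)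

omit [Finite G] in
theorem phi_surjective
    (eN : normalizer ((P : Subgroup G) : Set G) ⧸
      (P : Subgroup G).subgroupOf (normalizer ((P : Subgroup G) : Set G)) ≃* DihedralGroup 4) :
    Function.Surjective (phi eN) :=
  eN.surjective.comp (QuotientGroup.mk'_surjective _)

omit [Finite G] in
theorem phi_eq_one_iff
    (eN : normalizer ((P : Subgroup G) : Set G) ⧸
      (P : Subgroup G).subgroupOf (normalizer ((P : Subgroup G) : Set G)) ≃* DihedralGroup 4)
    (n : normalizer ((P : Subgroup G) : Set G)) : phi eN n = 1 ↔ (n : G) ∈ (P : Subgroup G) := by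
  unfold phi
  rw [MonoidHom.comp_apply, MulEquiv.coe_toMonoidHom, MulEquiv.map_eq_one_iff,
    QuotientGroup.mk'_apply, QuotientGroup.eq_one_iff, mem_subgroupOf]

theorem exists_invol (h : Cfg G P 8)
    (eN : normalizer ((P : Subgroup G) : Set G) ⧸
      (P : Subgroup G).subgroupOf (normalizer ((P : Subgroup G) : Set G)) ≃* DihedralGroup 4)
    (i : ZMod 4) :
    ∃ (s : G) (hsN : s ∈ normalizer ((P : Subgroup G) : Set G)), s * s = 1 ∧
      phi eN ⟨s, hsN⟩ = DihedralGroup.sr i := by
  obtain ⟨n, hn⟩ := phi_surjective eN (DihedralGroup.sr i)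
  refine ⟨((n ^ 9 : normalizer ((P : Subgroup G) : Set G)) : G), (n ^ 9).2, ?_, ?_⟩
  · have h1 : phi eN (n ^ 2) = 1 := by
      rw [map_pow, hn, pow_two, DihedralGroup.sr_mul_self]
    have h2 := (phi_eq_one_iff eN _).1 h1
    have h3 : (⟨_, h2⟩ : (P : Subgroup G)) ^ Nat.card (P : Subgroup G) = 1 := pow_card_eq_one'
    rw [h.cardP] at h3
    have h4 := congrArg Subtype.val h3
    simp only [SubmonoidClass.coe_pow, OneMemClass.coe_one] at h4
    rw [SubmonoidClass.coe_pow, ← pow_add, show 9 + 9 = 2 * 9 by norm_num, pow_mul]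
    exact h4
  · have h1 : (⟨((n ^ 9 : normalizer ((P : Subgroup G) : Set G)) : G), (n ^ 9).2⟩ :
        normalizer ((P : Subgroup G) : Set G)) = n ^ 9 := rfl
    rw [h1, map_pow, hn, ← pow_mod_orderOf, DihedralGroup.orderOf_sr]
    norm_num

/-- a non-central involution of `N/P` fixes exactly 3 elements of `P` -/
theorem card_fixed (h : Cfg G P 8)
    (eN : normalizer ((P : Subgroup G) : Set G) ⧸
      (P : Subgroup G).subgroupOf (normalizer ((P : Subgroup G) : Set G)) ≃* DihedralGroup 4)
    {s : G} (hsN : s ∈ normalizer ((P : Subgroup G) : Set G)) (hs2 : s * s = 1)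
    (hphi : phi eN ⟨s, hsN⟩ = DihedralGroup.sr 0) :
    Nat.card ((P : Subgroup G) ⊓ centralizer ({s} : Set G) : Subgroup G) = 3 := by
  have hsinv : s⁻¹ = s := inv_eq_of_mul_eq_one_right hs2
  have hdvd : Nat.card ((P : Subgroup G) ⊓ centralizer ({s} : Set G) : Subgroup G) ∣ 9 := by
    rw [← h.cardP]
    exact Subgroup.card_dvd_of_le inf_le_left
  have hle : Nat.card ((P : Subgroup G) ⊓ centralizer ({s} : Set G) : Subgroup G) ≤ 9 :=
    Nat.le_of_dvd (by norm_num) hdvd
  have hne9 : Nat.card ((P : Subgroup G) ⊓ centralizer ({s} : Set G) : Subgroup G) ≠ 9 := by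
    intro h9
    have heq : (P : Subgroup G) ⊓ centralizer ({s} : Set G) = (P : Subgroup G) :=
      Subgroup.eq_of_le_of_card_ge inf_le_left (by rw [h9, h.cardP])
    have hsc : s ∈ centralizer ((P : Subgroup G) : Set G) := by
      rw [mem_centralizer_iff]
      intro u hu
      have hu' : u ∈ (P : Subgroup G) ⊓ centralizer ({s} : Set G) := by rw [heq]; exact hu
      exact (mem_centralizer_iff.1 (mem_inf.1 hu').2 s rfl).symm
    have hsP : s ∈ (P : Subgroup G) := h.cent hsc
    have := (phi_eq_one_iff eN ⟨s, hsN⟩).2 hsP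
    rw [hphi] at this
    revert this
    decide
  have hne1 : Nat.card ((P : Subgroup G) ⊓ centralizer ({s} : Set G) : Subgroup G) ≠ 1 := by
    intro h1
    have hbot : (P : Subgroup G) ⊓ centralizer ({s} : Set G) = ⊥ := Subgroup.card_eq_one.1 h1
    -- s inverts P
    have hinv : ∀ u ∈ (P : Subgroup G), s * u * s⁻¹ = u⁻¹ := by
      intro u hu
      have hsu : s * u * s⁻¹ ∈ (P : Subgroup G) := (Subgroup.mem_normalizer_iff.1 hsN u).1 hu
      have hmem : u * (s * u * s⁻¹) ∈ (P : Subgroup G) ⊓ centralizer ({s} : Set G) := by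
        refine mem_inf.2 ⟨mul_mem hu hsu, ?_⟩
        rw [mem_centralizer_iff]
        intro z hz
        rw [Set.mem_singleton_iff] at hz
        subst hz
        have hc := h.comm hu hsu
        calc z * (u * (z * u * z⁻¹)) = (z * u * z⁻¹) * ((z * z) * u * (z * z)⁻¹) * z := by group
          _ = (z * u * z⁻¹) * u * z := by rw [hs2]; group
          _ = u * (z * u * z⁻¹) * z := by rw [hc]
      rw [hbot, mem_bot] at hmem
      exact (eq_inv_of_mul_eq_one_right hmem)
    -- hence the image of s is central in D₈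
    have hcentral : ∀ m : normalizer ((P : Subgroup G) : Set G),
        phi eN ⟨s, hsN⟩ * phi eN m = phi eN m * phi eN ⟨s, hsN⟩ := by
      intro m
      have hmN := m.2
      have hcomm : s * (m : G) * s⁻¹ * (m : G)⁻¹ ∈ centralizer ((P : Subgroup G) : Set G) := by
        rw [mem_centralizer_iff]
        intro u hu
        have hu' : u ∈ (P : Subgroup G) := hu
        have hv : (m : G)⁻¹ * u * (m : G) ∈ (P : Subgroup G) := by
          have := (Subgroup.mem_normalizer_iff.1 (inv_mem hmN) u).1 hu'
          simpa using this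
        have e1 := hinv _ hv
        have hv' : (m : G) * ((m : G)⁻¹ * u * (m : G))⁻¹ * (m : G)⁻¹ = u⁻¹ := by group
        have e2 := hinv _ (inv_mem hu')
        rw [inv_inv] at e2
        -- c u c⁻¹ = u where c = s m s⁻¹ m⁻¹
        have e3 : s * (m : G) * s⁻¹ * (m : G)⁻¹ * u * (s * (m : G) * s⁻¹ * (m : G)⁻¹)⁻¹ = u := by
          calc s * (m : G) * s⁻¹ * (m : G)⁻¹ * u * (s * (m : G) * s⁻¹ * (m : G)⁻¹)⁻¹
              = s * ((m : G) * (s⁻¹ * ((m : G)⁻¹ * u * (m : G)) * s) * (m : G)⁻¹) * s⁻¹ := by group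
            _ = s * ((m : G) * (s * ((m : G)⁻¹ * u * (m : G)) * s⁻¹) * (m : G)⁻¹) * s⁻¹ := by
                rw [hsinv]
            _ = s * ((m : G) * ((m : G)⁻¹ * u * (m : G))⁻¹ * (m : G)⁻¹) * s⁻¹ := by rw [e1]
            _ = s * u⁻¹ * s⁻¹ := by rw [hv']
            _ = u := e2
        calc u * (s * (m : G) * s⁻¹ * (m : G)⁻¹)
            = (s * (m : G) * s⁻¹ * (m : G)⁻¹ * u * (s * (m : G) * s⁻¹ * (m : G)⁻¹)⁻¹) *
              (s * (m : G) * s⁻¹ * (m : G)⁻¹) := by rw [e3]
          _ = s * (m : G) * s⁻¹ * (m : G)⁻¹ * u := by group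
      have hcP := h.cent hcomm
      have hcN : s * (m : G) * s⁻¹ * (m : G)⁻¹ ∈ normalizer ((P : Subgroup G) : Set G) :=
        le_normalizer hcP
      have h1' := (phi_eq_one_iff eN ⟨_, hcN⟩).2 hcP
      have h2' : (⟨s * (m : G) * s⁻¹ * (m : G)⁻¹, hcN⟩ : normalizer ((P : Subgroup G) : Set G))
          = ⟨s, hsN⟩ * m * ⟨s, hsN⟩⁻¹ * m⁻¹ := rfl
      rw [h2', map_mul, map_mul, map_mul, map_inv, map_inv] at h1'
      calc phi eN ⟨s, hsN⟩ * phi eN m
          = (phi eN ⟨s, hsN⟩ * phi eN m * (phi eN ⟨s, hsN⟩)⁻¹ * (phi eN m)⁻¹) *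
            (phi eN m * phi eN ⟨s, hsN⟩) := by group
        _ = phi eN m * phi eN ⟨s, hsN⟩ := by rw [h1', one_mul]
    obtain ⟨m, hm⟩ := phi_surjective eN (DihedralGroup.r 1)
    have := hcentral m
    rw [hphi, hm] at this
    revert this
    decide
  have : Nat.card ((P : Subgroup G) ⊓ centralizer ({s} : Set G) : Subgroup G) = 1 ∨
      Nat.card ((P : Subgroup G) ⊓ centralizer ({s} : Set G) : Subgroup G) = 3 ∨
      Nat.card ((P : Subgroup G) ⊓ centralizer ({s} : Set G) : Subgroup G) = 9 := by
    have h9 : (9 : ℕ) = 3 ^ 2 := by norm_num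
    rw [h9, Nat.dvd_prime_pow (by norm_num)] at hdvd
    obtain ⟨k, hk, hk'⟩ := hdvd
    interval_cases k
    · left; simpa using hk'
    · right; left; simpa using hk'
    · right; right; simpa using hk'
  rcases this with h1 | h3 | h9
  · exact absurd h1 hne1
  · exact h3
  · exact absurd h9 hne9

end Main


section Final

variable {G : Type*} [Group G] [Finite G]

/-- **S3333 endgame**: under the hypotheses of S3333, if `|G| = 720` then `G ≃* Sym(6)`. -/
theorem s6_of_card (P : Sylow 3 G) (S : Subgroup G) (hSP : S = P) (hcard : Nat.card S = 9)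
    (hC : Subgroup.centralizer (S : Set G) = S)
    (eN : Subgroup.normalizer (S : Set G) ⧸ S.subgroupOf (Subgroup.normalizer (S : Set G)) ≃*
      DihedralGroup 4)
    (hcent : ∀ x ∈ S, x ≠ 1 → Subgroup.centralizer ({x} : Set G) ≤ Subgroup.normalizer (S : Set G))
    (h720 : Nat.card G = 720) : Nonempty (G ≃* Equiv.Perm (Fin 6)) := by
  subst hSP
  have h : Cfg G P 8 := cfg_of_hyp hcard hC eN hcent h720
  -- the odd involution
  obtain ⟨s, hsN, hs2, hphi⟩ := exists_invol h eN 0
  have hC3 := card_fixed h eN hsN hs2 hphi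
  have hsign := h.signHom_eq hsN hs2 hC3
  -- the kernel of the sign
  have hunits : ∀ z : ℤˣ, z = 1 ∨ z = -1 := Int.units_eq_one_or
  have hneg : (-1 : ℤˣ) ≠ 1 := by decide
  have hsK : s ∉ (signHom G).ker := by
    rw [MonoidHom.mem_ker, hsign]
    exact hneg
  have hi : (signHom G).ker.index = 2 := by
    rw [Subgroup.index_eq_two_iff]
    refine ⟨s, fun b => ?_⟩
    rw [MonoidHom.mem_ker, MonoidHom.mem_ker, map_mul, hsign]
    rcases hunits (signHom G b) with hb | hb
    · rw [hb]
      right
      exact ⟨rfl, by decide⟩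
    · rw [hb]
      left
      exact ⟨by decide, by decide⟩
  have hPK : (P : Subgroup G) ≤ (signHom G).ker := by
    intro u hu
    rw [MonoidHom.mem_ker]
    have h9 : u ^ 9 = 1 := by
      have h3 : (⟨u, hu⟩ : (P : Subgroup G)) ^ Nat.card (P : Subgroup G) = 1 := pow_card_eq_one'
      rw [h.cardP] at h3
      have := congrArg Subtype.val h3
      simpa using this
    have h1 : (signHom G u) ^ 9 = 1 := by rw [← map_pow, h9, map_one]
    rcases hunits (signHom G u) with hb | hb
    · exact hb
    · rw [hb] at h1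
      exact absurd h1 (by decide)
  -- orders
  have hK360 : Nat.card (signHom G).ker = 360 := by
    have := (signHom G).ker.card_mul_index
    rw [hi, h720] at this
    omega
  have hsup : normalizer ((P : Subgroup G) : Set G) ⊔ (signHom G).ker = ⊤ := by
    have h1 := relIndex_mul_index
      (le_sup_right : (signHom G).ker ≤ normalizer ((P : Subgroup G) : Set G) ⊔ (signHom G).ker)
    rw [hi] at h1
    have h2 : (signHom G).ker.relIndex (normalizer ((P : Subgroup G) : Set G) ⊔ (signHom G).ker)
        ≠ 1 := by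
      intro h1'
      apply hsK
      exact (relIndex_eq_one.1 h1') (le_sup_left (a := normalizer ((P : Subgroup G) : Set G)) hsN)
    have h3 : (normalizer ((P : Subgroup G) : Set G) ⊔ (signHom G).ker).index = 1 := by
      have hd : (signHom G).ker.relIndex
          (normalizer ((P : Subgroup G) : Set G) ⊔ (signHom G).ker) ∣ 2 := Dvd.intro _ h1
      have hle := Nat.le_of_dvd (by norm_num) hd
      have hpos : (signHom G).ker.relIndex
          (normalizer ((P : Subgroup G) : Set G) ⊔ (signHom G).ker) ≠ 0 := by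
        intro h0
        rw [h0] at h1
        omega
      have : (signHom G).ker.relIndex
          (normalizer ((P : Subgroup G) : Set G) ⊔ (signHom G).ker) = 2 := by omega
      rw [this] at h1
      omega
    exact index_eq_one.1 h3
  have hNK : Nat.card (normalizer ((P : Subgroup G) : Set G) ⊓ (signHom G).ker : Subgroup G)
      = 9 * 4 := by
    have h1 := card_inf_mul_card_of_sup_eq_top _ (signHom G).ker hsup
    rw [h.cardN, hK360, h720] at h1
    omega
  -- the kernel is simple, hence `A₆`
  have hcfgK := h.restrict (signHom G).ker hPK (e' := 4) (by norm_num) (by rw [hK360]) hNK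
  haveI : IsSimpleGroup ↥(signHom G).ker := hcfgK.isSimpleGroup
  obtain ⟨f₀⟩ := Cfsg.Agent.Lib.Helper4.s360_iso_alt6 hK360
  -- an element of order 3 centralized by `s`
  obtain ⟨ρ, hρmem, hρ1⟩ : ∃ ρ ∈ ((P : Subgroup G) ⊓ centralizer ({s} : Set G) : Subgroup G),
      ρ ≠ 1 := by
    by_contra hcon
    push Not at hcon
    have : ((P : Subgroup G) ⊓ centralizer ({s} : Set G) : Subgroup G) = ⊥ :=
      (Subgroup.eq_bot_iff_forall _).2 hcon
    rw [this, Subgroup.card_bot] at hC3
    omega
  have hρ3 : orderOf ρ = 3 := by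
    have h1 : orderOf (⟨ρ, hρmem⟩ : ((P : Subgroup G) ⊓ centralizer ({s} : Set G) : Subgroup G))
        ∣ 3 := by
      have := orderOf_dvd_natCard
        (⟨ρ, hρmem⟩ : ((P : Subgroup G) ⊓ centralizer ({s} : Set G) : Subgroup G))
      rwa [hC3] at this
    rw [Subgroup.orderOf_mk] at h1
    rcases (Nat.dvd_prime (by norm_num)).1 h1 with h1' | h3
    · exact absurd (orderOf_eq_one_iff.1 h1') hρ1
    · exact h3
  have hρK : ρ ∈ (signHom G).ker := hPK (mem_inf.1 hρmem).1
  have hcomm : s * ρ * s⁻¹ = ρ := by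
    have := mem_centralizer_iff.1 (mem_inf.1 hρmem).2 s rfl
    rw [this]; group
  -- trivial centralizer of the kernel
  have hcentK : ∀ k : G, (∀ x ∈ (signHom G).ker, k * x = x * k) → k = 1 := by
    intro k hk
    have hkc : k ∈ centralizer ((P : Subgroup G) : Set G) := by
      rw [mem_centralizer_iff]
      intro u hu
      exact (hk u (hPK hu)).symm
    have hkP := h.cent hkc
    have hkK := hPK hkP
    have hcen : (⟨k, hkK⟩ : (signHom G).ker) ∈ Subgroup.center ↥(signHom G).ker := by
      rw [Subgroup.mem_center_iff]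
      intro x
      apply Subtype.ext
      exact (hk x x.2).symm
    rcases (inferInstance : (Subgroup.center ↥(signHom G).ker).Normal).eq_bot_or_eq_top with hb | ht
    · rw [hb, mem_bot] at hcen
      exact congrArg Subtype.val hcen
    · exfalso
      -- then `P` would be normal in the kernel
      have hPn : ((P : Subgroup G).subgroupOf (signHom G).ker).Normal := by
        constructor
        intro n hn g
        have hg : g ∈ Subgroup.center ↥(signHom G).ker := by rw [ht]; trivial
        have : g * n * g⁻¹ = n := by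
          rw [Subgroup.mem_center_iff] at hg
          rw [← hg n]; group
        rw [this]; exact hn
      have hcP : Nat.card ((P : Subgroup G).subgroupOf (signHom G).ker) = 9 := by
        rw [Nat.card_congr (Subgroup.subgroupOfEquivOfLe hPK).toEquiv, h.cardP]
      rcases hPn.eq_bot_or_eq_top with hb | ht'
      · rw [hb, Subgroup.card_bot] at hcP; omega
      · rw [ht', Subgroup.card_top, hK360] at hcP; omega
  exact perm_six_of_index_two (signHom G).ker hi f₀ hsK hρK hρ3 hcomm hcentK

end Final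

end Cfsg.Agent.Lib.Helper20.S3333End
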