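/-
helper20: structure leaf L4 for helper8's S3341: from the exact hypotheses of S3341 extract either
the data `D2` (`|N_G(S) : S| = 2`) or `D4` (`|N_G(S) : S| = 4`).
-/
import Mathlib
import Cfsg.Agent.Lib.Helper8.S3341Defs

set_option autoImplicit false

namespace Cfsg.Agent.Lib.Helper20.S3341Leaf

open Cfsg.Agent.Lib.Helper8.S3341

/-- if all point stabilizers of an action on a finite set equal `H`, the index of `H` divides the
size of the set -/
theorem index_dvd_card_of_stabilizer_eq {α β : Type*} [Group α] [MulAction α β] [Finite α]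
    [Finite β] (H : Subgroup α) (h : ∀ b : β, MulAction.stabilizer α b = H) :
    H.index ∣ Nat.card β := by
  classical
  have e := MulAction.selfEquivSigmaOrbitsQuotientStabilizer α β
  have : Fintype (Quotient (MulAction.orbitRel α β)) := Fintype.ofFinite _
  rw [Nat.card_congr e, Nat.card_sigma]
  have : ∀ ω : Quotient (MulAction.orbitRel α β),
      Nat.card (α ⧸ MulAction.stabilizer α ω.out) = H.index := by
    intro ω
    rw [h]
    rfl
  rw [Finset.sum_congr rfl (fun ω _ => this ω)]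
  simp

variable {G : Type*} [Group G]

/-- the nonidentity elements of a subgroup -/
def Sharp (S : Subgroup G) : Type _ := {s : G // s ∈ S ∧ s ≠ 1}

instance sharpAction (S : Subgroup G) :
    MulAction ↥(Subgroup.normalizer (S : Set G)) (Sharp S) where
  smul n s := ⟨(n : G) * s.1 * (n : G)⁻¹, (Subgroup.mem_normalizer_iff.mp n.2 s.1).mp s.2.1, by
    intro h
    apply s.2.2
    have : s.1 = (n : G)⁻¹ * ((n : G) * s.1 * (n : G)⁻¹) * (n : G) := by group
    rw [this, h]; group⟩
  one_smul s := by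
    apply Subtype.ext
    show ((1 : ↥(Subgroup.normalizer (S : Set G))) : G) * s.1 *
      ((1 : ↥(Subgroup.normalizer (S : Set G))) : G)⁻¹ = s.1
    simp
  mul_smul a b s := by
    apply Subtype.ext
    show ((a * b : ↥(Subgroup.normalizer (S : Set G))) : G) * s.1 *
      ((a * b : ↥(Subgroup.normalizer (S : Set G))) : G)⁻¹ =
        (a : G) * ((b : G) * s.1 * (b : G)⁻¹) * (a : G)⁻¹
    simp [mul_assoc]

theorem sharp_smul_val (S : Subgroup G) (n : ↥(Subgroup.normalizer (S : Set G))) (s : Sharp S) :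
    (n • s).1 = (n : G) * s.1 * (n : G)⁻¹ := rfl


section basic

variable {S : Subgroup G}

theorem not_mem_of_invol (h : Hyp S) {t : G} (ht1 : t ≠ 1) (ht2 : t * t = 1) : t ∉ S := by
  intro htS
  apply ht1
  have h3 := h.cube t htS
  calc t = t ^ 3 * (t * t)⁻¹ := by group
    _ = 1 := by rw [h3, ht2]; simp

/-- an involution normalizing `S` inverts `S` -/
theorem inverts (h : Hyp S) {t : G} (htN : t ∈ Subgroup.normalizer (S : Set G)) (ht1 : t ≠ 1)
    (ht2 : t * t = 1) : ∀ s ∈ S, t * s * t⁻¹ = s⁻¹ := by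
  intro s hs
  have htS : t ∉ S := not_mem_of_invol h ht1 ht2
  have hts : t * s * t⁻¹ ∈ S := (Subgroup.mem_normalizer_iff.mp htN s).mp hs
  have hinv : t⁻¹ = t := inv_eq_of_mul_eq_one_right ht2
  by_contra hne
  have hu1 : s * (t * s * t⁻¹) ≠ 1 := by
    intro hu
    apply hne
    exact (inv_eq_of_mul_eq_one_right hu).symm
  have huS : s * (t * s * t⁻¹) ∈ S := S.mul_mem hs hts
  apply htS
  apply h.cent _ huS hu1
  have hc := h.comm s hs _ hts
  calc t * (s * (t * s * t⁻¹)) = (t * s * t⁻¹) * ((t * t) * s * (t⁻¹ * t⁻¹)) * t := by group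
    _ = (t * s * t⁻¹) * s * t := by rw [ht2, hinv, ht2]; group
    _ = s * (t * s * t⁻¹) * t := by rw [hc]

theorem orderOf_eq_three (h : Hyp S) {x : G} (hx : x ∈ S) (hx1 : x ≠ 1) : orderOf x = 3 :=
  orderOf_eq_prime (h.cube x hx) hx1

/-- `ℤ`-independence of two generators -/
theorem indepZ (h : Hyp S) {x y : G} (hx : x ∈ S) (hy : y ∈ S) (hx1 : x ≠ 1)
    (hy' : y ∉ Subgroup.zpowers x) (a b : ℤ) (e : x ^ a * y ^ b = 1) :
    (3 : ℤ) ∣ a ∧ (3 : ℤ) ∣ b := by
  have hy3 : y ^ (3 : ℤ) = 1 := by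
    have := h.cube y hy
    rw [← zpow_natCast] at this
    exact this
  have hyb : y ^ b = x ^ (-a) := by
    rw [zpow_neg]
    exact eq_inv_of_mul_eq_one_right e
  have hb : (3 : ℤ) ∣ b := by
    by_contra hb
    apply hy'
    have hbq : b = 3 * (b / 3) + b % 3 := (Int.mul_ediv_add_emod b 3).symm
    have hr : y ^ (b % 3) = x ^ (-a) := by
      rw [← hyb]
      conv_rhs => rw [hbq]
      rw [zpow_add, zpow_mul, hy3, one_zpow, one_mul]
    have hcases : b % 3 = 1 ∨ b % 3 = 2 := by omega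
    rcases hcases with h1 | h2
    · rw [h1, zpow_one] at hr
      rw [hr]
      exact Subgroup.zpow_mem_zpowers x _
    · rw [h2] at hr
      have : y = (y ^ (2 : ℤ)) ^ (2 : ℤ) * (y ^ (3 : ℤ))⁻¹ := by
        rw [← zpow_mul, ← zpow_neg, ← zpow_add]
        norm_num
      rw [this, hy3, hr, inv_one, mul_one, ← zpow_mul]
      exact Subgroup.zpow_mem_zpowers x _
  refine ⟨?_, hb⟩
  obtain ⟨c, rfl⟩ := hb
  rw [zpow_mul, hy3, one_zpow, mul_one] at e
  have := (orderOf_dvd_iff_zpow_eq_one).mpr e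
  rw [orderOf_eq_three h hx hx1] at this
  exact_mod_cast this

theorem gens [Finite G] (h : Hyp S) {x y : G} (hx : x ∈ S) (hy : y ∈ S) (hx1 : x ≠ 1)
    (hy' : y ∉ Subgroup.zpowers x) :
    (∀ s ∈ S, ∃ i j : ℕ, i < 3 ∧ j < 3 ∧ s = x ^ i * y ^ j) ∧
      (∀ i j : ℕ, i < 3 → j < 3 → x ^ i * y ^ j = 1 → i = 0 ∧ j = 0) := by
  have hI := indepZ h hx hy hx1 hy'
  have hc : Commute x y := h.comm x hx y hy
  constructor
  · let f : Fin 3 × Fin 3 → ↥S := fun p =>
      ⟨x ^ (p.1 : ℕ) * y ^ (p.2 : ℕ), S.mul_mem (S.pow_mem hx _) (S.pow_mem hy _)⟩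
    have hinj : Function.Injective f := by
      rintro ⟨i, j⟩ ⟨i', j'⟩ hE
      have E : x ^ (i : ℕ) * y ^ (j : ℕ) = x ^ (i' : ℕ) * y ^ (j' : ℕ) := congrArg Subtype.val hE
      have key : x ^ (((i : ℕ) : ℤ) - ((i' : ℕ) : ℤ)) * y ^ (((j : ℕ) : ℤ) - ((j' : ℕ) : ℤ)) = 1 := by
        rw [zpow_sub, zpow_sub, zpow_natCast, zpow_natCast, zpow_natCast, zpow_natCast]
        have c1 : Commute (x ^ (i' : ℕ))⁻¹ (y ^ (j : ℕ)) := (hc.pow_pow _ _).inv_left
        calc x ^ (i : ℕ) * (x ^ (i' : ℕ))⁻¹ * (y ^ (j : ℕ) * (y ^ (j' : ℕ))⁻¹)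
            = x ^ (i : ℕ) * ((x ^ (i' : ℕ))⁻¹ * y ^ (j : ℕ)) * (y ^ (j' : ℕ))⁻¹ := by group
          _ = x ^ (i : ℕ) * (y ^ (j : ℕ) * (x ^ (i' : ℕ))⁻¹) * (y ^ (j' : ℕ))⁻¹ := by rw [c1.eq]
          _ = (x ^ (i : ℕ) * y ^ (j : ℕ)) * (x ^ (i' : ℕ))⁻¹ * (y ^ (j' : ℕ))⁻¹ := by group
          _ = (x ^ (i' : ℕ) * y ^ (j' : ℕ)) * (x ^ (i' : ℕ))⁻¹ * (y ^ (j' : ℕ))⁻¹ := by rw [E]
          _ = 1 := by rw [(hc.pow_pow _ _).eq]; group
      obtain ⟨d1, d2⟩ := hI _ _ key
      have hi := i.2
      have hi' := i'.2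
      have hj := j.2
      have hj' := j'.2
      have e1 : (i : ℕ) = (i' : ℕ) := by omega
      have e2 : (j : ℕ) = (j' : ℕ) := by omega
      exact Prod.ext (Fin.ext e1) (Fin.ext e2)
    have hbij : Function.Bijective f := by
      apply hinj.bijective_of_nat_card_le
      rw [h.card]
      simp
    intro s hs
    obtain ⟨⟨i, j⟩, hij⟩ := hbij.2 ⟨s, hs⟩
    exact ⟨i, j, i.2, j.2, (congrArg Subtype.val hij).symm⟩
  · intro i j hi hj e
    have := hI (i : ℤ) (j : ℤ) (by rw [zpow_natCast, zpow_natCast]; exact e)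
    omega

end basic

section counting

variable {S : Subgroup G}

theorem stabilizer_eq (h : Hyp S) (s : Sharp S) :
    MulAction.stabilizer ↥(Subgroup.normalizer (S : Set G)) s =
      S.subgroupOf (Subgroup.normalizer (S : Set G)) := by
  ext n
  rw [MulAction.mem_stabilizer_iff, Subgroup.mem_subgroupOf]
  constructor
  · intro hn
    have e : (n : G) * s.1 * (n : G)⁻¹ = s.1 := congrArg Subtype.val hn
    apply h.cent s.1 s.2.1 s.2.2
    calc (n : G) * s.1 = ((n : G) * s.1 * (n : G)⁻¹) * (n : G) := by group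
      _ = s.1 * (n : G) := by rw [e]
  · intro hn
    apply Subtype.ext
    show (n : G) * s.1 * (n : G)⁻¹ = s.1
    rw [h.comm _ hn _ s.2.1]
    group

theorem card_sharp [Finite G] (h : Hyp S) : Nat.card (Sharp S) = 8 := by
  have e1 : Nat.card (Sharp S) = ((S : Set G) \ {1}).ncard := by
    rw [← _root_.Nat.card_coe_set_eq]
    rfl
  rw [e1, Set.ncard_sdiff_singleton_of_mem S.one_mem]
  have : (S : Set G).ncard = 9 := by
    rw [← _root_.Nat.card_coe_set_eq]
    exact h.card
  rw [this]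

theorem card_normalizer (h : Hyp S) :
    Nat.card ↥(Subgroup.normalizer (S : Set G)) =
      9 * (S.subgroupOf (Subgroup.normalizer (S : Set G))).index := by
  rw [← Subgroup.card_mul_index (S.subgroupOf (Subgroup.normalizer (S : Set G)))]
  congr 1
  rw [Nat.card_congr (Subgroup.subgroupOfEquivOfLe (Subgroup.le_normalizer)).toEquiv]
  exact h.card

theorem index_dvd [Finite G] (h : Hyp S) :
    (S.subgroupOf (Subgroup.normalizer (S : Set G))).index ∣ 8 := by
  have hfin : Finite (Sharp S) := by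
    unfold Sharp
    infer_instance
  have := index_dvd_card_of_stabilizer_eq (β := Sharp S)
    (S.subgroupOf (Subgroup.normalizer (S : Set G))) (stabilizer_eq h)
  rwa [card_sharp h] at this

theorem index_cases [Finite G] (h : Hyp S) :
    Nat.card ↥(Subgroup.normalizer (S : Set G)) = 9 ∨
    Nat.card ↥(Subgroup.normalizer (S : Set G)) = 18 ∨
    Nat.card ↥(Subgroup.normalizer (S : Set G)) = 36 ∨
    Nat.card ↥(Subgroup.normalizer (S : Set G)) = 72 := by
  have h1 := card_normalizer h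
  have h2 := index_dvd h
  generalize (S.subgroupOf (Subgroup.normalizer (S : Set G))).index = e at h1 h2
  have hle : e ≤ 8 := Nat.le_of_dvd (by norm_num) h2
  interval_cases e <;> simp_all

/-- if `|N| = 72` then `N` is transitive on `S#` -/
theorem transitive_of_card [Finite G] (h : Hyp S)
    (hc : Nat.card ↥(Subgroup.normalizer (S : Set G)) = 72) (s s' : G) (hs : s ∈ S) (hs1 : s ≠ 1)
    (hs' : s' ∈ S) (hs'1 : s' ≠ 1) :
    ∃ n ∈ Subgroup.normalizer (S : Set G), n * s * n⁻¹ = s' := by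
  have hfin : Finite (Sharp S) := by
    unfold Sharp
    infer_instance
  have h1 := card_normalizer h
  rw [hc] at h1
  have hidx : (S.subgroupOf (Subgroup.normalizer (S : Set G))).index = 8 := by omega
  let a : Sharp S := ⟨s, hs, hs1⟩
  let b : Sharp S := ⟨s', hs', hs'1⟩
  have hio := MulAction.index_stabilizer ↥(Subgroup.normalizer (S : Set G)) a
  rw [stabilizer_eq h a, hidx] at hio
  have huniv : MulAction.orbit ↥(Subgroup.normalizer (S : Set G)) a = Set.univ := by
    apply Set.eq_of_subset_of_ncard_le (Set.subset_univ _)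
    rw [Set.ncard_univ, card_sharp h, ← hio]
  have hb : b ∈ MulAction.orbit ↥(Subgroup.normalizer (S : Set G)) a := by
    rw [huniv]; trivial
  obtain ⟨n, hn⟩ := hb
  exact ⟨n.1, n.2, congrArg Subtype.val hn⟩

end counting

section main

variable [Finite G]

theorem hyp_of (P : Sylow 3 G) (S : Subgroup G) (hSP : S = P) (hcomm : IsMulCommutative S)
    (hexp : ∀ a ∈ S, a ^ 3 = 1) (hcard : Nat.card S = 9)
    (hcent : ∀ s ∈ S, s ≠ 1 → Subgroup.centralizer ({s} : Set G) = S) : Hyp S where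
  comm := by
    intro s hs t ht
    have := hcomm.is_comm.comm (⟨s, hs⟩ : ↥S) ⟨t, ht⟩
    exact congrArg Subtype.val this
  cube := hexp
  card := hcard
  cent := by
    intro t ht ht1 g hg
    rw [← hcent t ht ht1, Subgroup.mem_centralizer_iff]
    intro u hu
    rw [Set.mem_singleton_iff] at hu
    rw [hu]
    exact hg.symm
  conj_into := by
    intro p hp
    have hpg : IsPGroup 3 (Subgroup.zpowers p) := by
      rintro ⟨g, hg⟩
      refine ⟨1, ?_⟩
      obtain ⟨m, rfl⟩ := Subgroup.mem_zpowers_iff.mp hg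
      apply Subtype.ext
      show (p ^ m) ^ 3 ^ 1 = 1
      rw [pow_one, ← zpow_natCast, ← zpow_mul, mul_comm, zpow_mul, zpow_natCast, hp, one_zpow]
    obtain ⟨Q, hQ⟩ := hpg.exists_le_sylow
    obtain ⟨g, hg⟩ := MulAction.exists_smul_eq G Q P
    refine ⟨g, ?_⟩
    rw [hSP, ← hg, Sylow.coe_subgroup_smul]
    have := Subgroup.smul_mem_pointwise_smul p (MulAut.conj g) (Q : Subgroup G)
      (hQ (Subgroup.mem_zpowers p))
    simpa [MulAut.smul_def] using this


variable {S : Subgroup G}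

omit [Finite G] in
theorem exists_ne_one (h : Hyp S) : ∃ x ∈ S, x ≠ 1 := by
  have hne : S ≠ ⊥ := by
    intro e
    have := h.card
    rw [e] at this
    simp at this
  obtain ⟨a, ha⟩ := (Subgroup.ne_bot_iff_exists_ne_one).mp hne
  exact ⟨a.1, a.2, fun e => ha (Subtype.ext e)⟩

theorem exists_not_mem_zpowers (h : Hyp S) {x : G} (hx : x ∈ S) :
    ∃ y ∈ S, y ∉ Subgroup.zpowers x := by
  by_contra hcon
  push Not at hcon
  have hle : S ≤ Subgroup.zpowers x := fun y hy => hcon y hy
  have h1 := Subgroup.card_le_of_le hle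
  rw [h.card, Nat.card_zpowers] at h1
  have h2 : orderOf x ∣ 3 := orderOf_dvd_of_pow_eq_one (h.cube x hx)
  have h3 := Nat.le_of_dvd (by norm_num) h2
  omega

theorem false_of_card_72 (h : Hyp S)
    (hc : Nat.card ↥(Subgroup.normalizer (S : Set G)) = 72)
    (hclasses : ∃ a b : G, orderOf a = 3 ∧ orderOf b = 3 ∧ ∀ g : G, g * a * g⁻¹ ≠ b) : False := by
  obtain ⟨a, b, ha, hb, hab⟩ := hclasses
  have ha3 : a ^ 3 = 1 := by rw [← ha]; exact pow_orderOf_eq_one a
  have hb3 : b ^ 3 = 1 := by rw [← hb]; exact pow_orderOf_eq_one b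
  have ha1 : a ≠ 1 := by rintro rfl; simp at ha
  have hb1 : b ≠ 1 := by rintro rfl; simp at hb
  obtain ⟨g, hg⟩ := h.conj_into a ha3
  obtain ⟨g', hg'⟩ := h.conj_into b hb3
  have hg1 : g * a * g⁻¹ ≠ 1 := by
    intro e
    apply ha1
    have : a = g⁻¹ * (g * a * g⁻¹) * g := by group
    rw [this, e]; group
  have hg'1 : g' * b * g'⁻¹ ≠ 1 := by
    intro e
    apply hb1
    have : b = g'⁻¹ * (g' * b * g'⁻¹) * g' := by group
    rw [this, e]; group
  obtain ⟨n, hn, e⟩ := transitive_of_card h hc _ _ hg hg1 hg' hg'1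
  apply hab (g'⁻¹ * n * g)
  calc g'⁻¹ * n * g * a * (g'⁻¹ * n * g)⁻¹ = g'⁻¹ * (n * (g * a * g⁻¹) * n⁻¹) * g' := by group
    _ = b := by rw [e]; group

theorem false_of_card_9 [IsSimpleGroup G] (P : Sylow 3 G) (h : Hyp (P : Subgroup G))
    (hc : Nat.card ↥(Subgroup.normalizer ((P : Subgroup G) : Set G)) = 9) : False := by
  have hNS : Subgroup.normalizer ((P : Subgroup G) : Set G) = P := by
    symm
    apply Subgroup.eq_of_le_of_card_ge Subgroup.le_normalizer
    rw [hc, h.card]
  have hP : Subgroup.normalizer ((P : Subgroup G) : Set G) ≤ Subgroup.centralizer (P : Set G) := by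
    rw [hNS]
    intro n hn
    rw [Subgroup.mem_centralizer_iff]
    intro s hs
    exact h.comm s hs n hn
  have hcompl := MonoidHom.ker_transferSylow_isComplement' P hP
  rcases (MonoidHom.normal_ker (MonoidHom.transferSylow P hP)).eq_bot_or_eq_top with hK | hK
  · rw [hK, Subgroup.isComplement'_bot_left] at hcompl
    obtain ⟨x, hx, hx1⟩ := exists_ne_one h
    have hnorm : (Subgroup.zpowers x).Normal := by
      constructor
      intro n hn g
      have hnP : n ∈ (P : Subgroup G) := by rw [hcompl]; trivial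
      have hgP : g ∈ (P : Subgroup G) := by rw [hcompl]; trivial
      have : g * n * g⁻¹ = n := by
        rw [h.comm g hgP n hnP]; group
      rw [this]; exact hn
    rcases hnorm.eq_bot_or_eq_top with hz | hz
    · exact hx1 (Subgroup.zpowers_eq_bot.mp hz)
    · have h1 : Nat.card ↥(Subgroup.zpowers x) = 9 := by
        rw [hz, ← hcompl]; exact h.card
      rw [Nat.card_zpowers, orderOf_eq_three h hx hx1] at h1
      omega
  · rw [hK, Subgroup.isComplement'_top_left] at hcompl
    have := h.card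
    rw [hcompl] at this
    simp at this

theorem exists_D2 (h : Hyp S)
    (hc : Nat.card ↥(Subgroup.normalizer (S : Set G)) = 18) : ∃ x y t : G, D2 S x y t := by
  obtain ⟨x, hx, hx1⟩ := exists_ne_one h
  obtain ⟨y, hy, hy'⟩ := exists_not_mem_zpowers h hx
  have hy1 : y ≠ 1 := by rintro rfl; exact hy' (Subgroup.one_mem _)
  obtain ⟨nf, ind⟩ := gens h hx hy hx1 hy'
  have : Fact (Nat.Prime 2) := ⟨Nat.prime_two⟩
  obtain ⟨t, ht⟩ := exists_prime_orderOf_dvd_card'
    (G := ↥(Subgroup.normalizer (S : Set G))) 2 (by rw [hc]; norm_num)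
  have ht2 : t * t = 1 := by rw [← pow_two, ← ht]; exact pow_orderOf_eq_one t
  have ht1 : t ≠ 1 := by rintro rfl; simp at ht
  have ht2' : (t : G) * (t : G) = 1 := congrArg Subtype.val ht2
  have ht1' : (t : G) ≠ 1 := fun e => ht1 (Subtype.ext e)
  have hinv := inverts h t.2 ht1' ht2'
  exact ⟨x, y, t, ⟨h, hx, hy, hx1, hy1, nf, ind, t.2, ht1', ht2', hinv x hx, hinv y hy, hc⟩⟩

theorem exists_D4 (h : Hyp S)
    (hc : Nat.card ↥(Subgroup.normalizer (S : Set G)) = 36) : ∃ x y n : G, D4 S x y n := by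
  obtain ⟨x, hx, hx1⟩ := exists_ne_one h
  have hx3 : orderOf x = 3 := orderOf_eq_three h hx hx1
  have : Fact (Nat.Prime 2) := ⟨Nat.prime_two⟩
  obtain ⟨Q, hQ⟩ := Sylow.exists_subgroup_card_pow_prime
    (G := ↥(Subgroup.normalizer (S : Set G))) 2 (n := 2) (by rw [hc]; norm_num)
  by_cases hex : ∃ q ∈ Q, q * q ≠ 1
  · obtain ⟨q, hqQ, hq⟩ := hex
    have hq4 : q ^ 4 = 1 := by
      have := pow_card_eq_one' (G := ↥Q) (x := ⟨q, hqQ⟩)
      rw [hQ] at this
      have := congrArg Subtype.val this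
      simpa using this
    have hnN : (q : G) ∈ Subgroup.normalizer (S : Set G) := q.2
    have hq4' : (q : G) ^ 4 = 1 := by
      have := congrArg Subtype.val hq4
      simpa using this
    have hm2 : ((q : G) * (q : G)) * ((q : G) * (q : G)) = 1 := by
      rw [← hq4']
      simp [pow_succ, mul_assoc]
    have hm1 : (q : G) * (q : G) ≠ 1 := fun e => hq (Subtype.ext e)
    have hmN : (q : G) * (q : G) ∈ Subgroup.normalizer (S : Set G) := Subgroup.mul_mem _ hnN hnN
    have hinv := inverts h hmN hm1 hm2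
    have hy : (q : G) * x * (q : G)⁻¹ ∈ S := (Subgroup.mem_normalizer_iff.mp hnN x).mp hx
    have ny : (q : G) * ((q : G) * x * (q : G)⁻¹) * (q : G)⁻¹ = x⁻¹ := by
      rw [← hinv x hx]; group
    have hy' : (q : G) * x * (q : G)⁻¹ ∉ Subgroup.zpowers x := by
      intro hyz
      obtain ⟨k, hk⟩ := Subgroup.mem_zpowers_iff.mp hyz
      have e1 : x ^ (k * k) = x⁻¹ := by
        rw [zpow_mul, hk, conj_zpow, hk, ny]
      have e2 : x ^ (k * k + 1) = 1 := by
        rw [zpow_add, zpow_one, e1]; group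
      have hdvd := (orderOf_dvd_iff_zpow_eq_one).mpr e2
      rw [hx3] at hdvd
      have hz : ((k * k + 1 : ℤ) : ZMod 3) = 0 := by
        exact (ZMod.intCast_zmod_eq_zero_iff_dvd _ 3).mpr (by exact_mod_cast hdvd)
      push_cast at hz
      have hall : ∀ z : ZMod 3, z * z + 1 ≠ 0 := by decide
      exact hall _ hz
    have hy1 : (q : G) * x * (q : G)⁻¹ ≠ 1 := by
      intro e; apply hy'; rw [e]; exact Subgroup.one_mem _
    obtain ⟨nf, ind⟩ := gens h hx hy hx1 hy'
    exact ⟨x, (q : G) * x * (q : G)⁻¹, q, ⟨h, hx, hy, hx1, hy1, nf, ind, hnN, rfl, ny, hc⟩⟩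
  · exfalso
    push Not at hex
    have hQ4 : Nat.card ↥Q = 4 := by rw [hQ]; norm_num
    -- pick `t1 ≠ 1` in `Q`
    have hne : Q ≠ ⊥ := by
      intro e
      rw [e] at hQ4
      simp at hQ4
    obtain ⟨t1, ht1⟩ := (Subgroup.ne_bot_iff_exists_ne_one).mp hne
    -- pick `t2 ∉ {1, t1}`
    have hex2 : ∃ t2 : ↥Q, t2 ≠ 1 ∧ t2 ≠ t1 := by
      by_contra hcon
      push Not at hcon
      classical
      have hinj : Function.Injective (fun q : ↥Q => if q = 1 then (0 : Fin 2) else 1) := by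
        intro a b hab
        have hab' : (if a = 1 then (0 : Fin 2) else 1) = (if b = 1 then (0 : Fin 2) else 1) := hab
        by_cases ha : a = 1
        · by_cases hb : b = 1
          · rw [ha, hb]
          · rw [if_pos ha, if_neg hb] at hab'
            exact absurd hab' (by decide)
        · by_cases hb : b = 1
          · rw [if_neg ha, if_pos hb] at hab'
            exact absurd hab' (by decide)
          · rw [hcon a ha, hcon b hb]
      have := Nat.card_le_card_of_injective _ hinj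
      rw [hQ4] at this
      simp at this
    obtain ⟨t2, ht2, ht21⟩ := hex2
    have inv_of : ∀ t : ↥Q, t ≠ 1 → ∀ s ∈ S, ((t : ↥(Subgroup.normalizer (S : Set G))) : G) * s *
        ((t : ↥(Subgroup.normalizer (S : Set G))) : G)⁻¹ = s⁻¹ := by
      intro t ht
      apply inverts h t.1.2
      · intro e
        apply ht
        apply Subtype.ext
        apply Subtype.ext
        exact e
      · have := hex t.1 t.2
        exact congrArg Subtype.val this
    have h12 : t1 * t2 ≠ 1 := by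
      intro e
      apply ht21
      have h11 : t1 * t1 = 1 := Subtype.ext (hex t1.1 t1.2)
      calc t2 = (t1 * t1) * t2 := by rw [h11, one_mul]
        _ = t1 * (t1 * t2) := by group
        _ = t1 := by rw [e, mul_one]
    have a1 := inv_of t1 ht1 x hx
    have a2 := inv_of t2 ht2 x hx
    have a3 := inv_of (t1 * t2) h12 x hx
    have hxx : x = x⁻¹ := by
      calc x = (x⁻¹)⁻¹ := by group
        _ = (((t1 : ↥(Subgroup.normalizer (S : Set G))) : G) * x *
            ((t1 : ↥(Subgroup.normalizer (S : Set G))) : G)⁻¹)⁻¹ := by rw [a1]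
        _ = ((t1 : ↥(Subgroup.normalizer (S : Set G))) : G) * x⁻¹ *
            ((t1 : ↥(Subgroup.normalizer (S : Set G))) : G)⁻¹ := by group
        _ = ((t1 : ↥(Subgroup.normalizer (S : Set G))) : G) *
            (((t2 : ↥(Subgroup.normalizer (S : Set G))) : G) * x *
            ((t2 : ↥(Subgroup.normalizer (S : Set G))) : G)⁻¹) *
            ((t1 : ↥(Subgroup.normalizer (S : Set G))) : G)⁻¹ := by rw [a2]
        _ = (((t1 * t2 : ↥Q) : ↥(Subgroup.normalizer (S : Set G))) : G) * x *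
            (((t1 * t2 : ↥Q) : ↥(Subgroup.normalizer (S : Set G))) : G)⁻¹ := by
              simp only [Subgroup.coe_mul]; group
        _ = x⁻¹ := a3
    apply hx1
    have hx2 : x * x = 1 := by
      calc x * x = x * x⁻¹ := by rw [← hxx]
        _ = 1 := by group
    calc x = x ^ 3 * (x * x)⁻¹ := by group
      _ = 1 := by rw [h.cube x hx, hx2]; simp

/-- **Leaf L4** for S3341. -/
theorem exists_data [IsSimpleGroup G] (P : Sylow 3 G) (S : Subgroup G) (hSP : S = P)
    (hcomm : IsMulCommutative S) (hexp : ∀ a ∈ S, a ^ 3 = 1) (hcard : Nat.card S = 9)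
    (hclasses : ∃ a b : G, orderOf a = 3 ∧ orderOf b = 3 ∧ ∀ g : G, g * a * g⁻¹ ≠ b)
    (hcent : ∀ s ∈ S, s ≠ 1 → Subgroup.centralizer ({s} : Set G) = S) :
    (∃ x y t : G, D2 S x y t) ∨ (∃ x y n : G, D4 S x y n) := by
  have h : Hyp S := hyp_of P S hSP hcomm hexp hcard hcent
  rcases index_cases h with hc | hc | hc | hc
  · exfalso
    subst hSP
    exact false_of_card_9 P h hc
  · exact Or.inl (exists_D2 h hc)
  · exact Or.inr (exists_D4 h hc)
  · exact (false_of_card_72 h hc hclasses).elim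

end main

end Cfsg.Agent.Lib.Helper20.S3341Leaf
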