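import Mathlib
import Cfsg.Agent.Lib.Helper20.SL23

/-!
Helper lemmas (helper20): concrete facts on `SL₂(3)`: its quaternion subgroup `Q4`
(the elements with `y ^ 4 = 1`), centralizers, odd normal subgroups.
-/

set_option autoImplicit false

namespace Cfsg.Agent.Lib.Helper20.SL23

set_option maxRecDepth 100000 in
theorem sl_pow4_mul : ∀ x y : SL, x ^ 4 = 1 → y ^ 4 = 1 → (x * y) ^ 4 = 1 := by decide

set_option maxRecDepth 100000 in
theorem sl_invol_central : ∀ t : SL, t ^ 2 = 1 → ∀ g : SL, g * t = t * g := by decide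

set_option maxRecDepth 100000 in
theorem sl_odd_normal :
    ∀ x : SL, x ≠ 1 → x ^ 3 ≠ 1 ∨ ∃ g : SL, (x * (g * x * g⁻¹)) ^ 3 ≠ 1 := by
  decide

set_option maxRecDepth 100000 in
theorem sl_centralizer : ∀ c : SL, c * mI = mI * c → c * mJ = mJ * c → c ^ 4 = 1 := by decide

set_option maxRecDepth 100000 in
theorem mI_mJ_pow4 : mI ^ 4 = 1 ∧ mJ ^ 4 = 1 := by decide

/-- the quaternion subgroup of `SL₂(3)`: the elements of order dividing four -/
def Q4 : Subgroup SL where
  carrier := {y | y ^ 4 = 1}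
  mul_mem' := fun {x y} hx hy => sl_pow4_mul x y hx hy
  one_mem' := one_pow 4
  inv_mem' := fun {x} hx => by
    show x⁻¹ ^ 4 = 1
    rw [inv_pow, show x ^ 4 = 1 from hx, inv_one]

theorem mem_Q4 {y : SL} : y ∈ Q4 ↔ y ^ 4 = 1 := Iff.rfl

instance Q4_normal : Q4.Normal := ⟨fun y hy g => by
  show (g * y * g⁻¹) ^ 4 = 1
  rw [conj_pow, show y ^ 4 = 1 from hy, mul_one, mul_inv_cancel]⟩

theorem Q4_isPGroup : IsPGroup 2 Q4 := fun y => ⟨2, Subtype.ext (by
  have : (y : SL) ^ 4 = 1 := y.2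
  simpa using this)⟩

theorem centralizer_Q4_le : Subgroup.centralizer (Q4 : Set SL) ≤ Q4 := by
  intro c hc
  rw [Subgroup.mem_centralizer_iff] at hc
  exact sl_centralizer c ((hc mI mI_mJ_pow4.1).symm) ((hc mJ mI_mJ_pow4.2).symm)

/-- `O_{2'}(SL₂(3)) = 1`: a normal subgroup of odd order is trivial -/
theorem eq_bot_of_normal_of_coprime (N : Subgroup SL) [N.Normal] (hN : (Nat.card N).Coprime 2) :
    N = ⊥ := by
  have hdvd : Nat.card N ∣ 3 := by
    have h24 : Nat.card N ∣ 8 * 3 := by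
      have := Subgroup.card_subgroup_dvd_card N
      rwa [card_SL23] at this
    have hc8 : (Nat.card N).Coprime 8 := by
      have : (8 : ℕ) = 2 ^ 3 := by norm_num
      rw [this]
      exact Nat.Coprime.pow_right 3 hN
    exact hc8.dvd_of_dvd_mul_left h24
  have hpow : ∀ y ∈ N, y ^ 3 = 1 := by
    intro y hy
    have h1 : (⟨y, hy⟩ : N) ^ Nat.card N = 1 := pow_card_eq_one'
    have h2 : (⟨y, hy⟩ : N) ^ 3 = 1 := by
      obtain ⟨k, hk⟩ := hdvd
      have h3 : (⟨y, hy⟩ : N) ^ (Nat.card N * k) = 1 := by rw [pow_mul, h1, one_pow]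
      rwa [← hk] at h3
    exact congrArg Subtype.val h2
  rw [Subgroup.eq_bot_iff_forall]
  intro x hx
  by_contra hne
  rcases sl_odd_normal x hne with h | ⟨g, hg⟩
  · exact h (hpow x hx)
  · exact hg (hpow _ (N.mul_mem hx (Subgroup.Normal.conj_mem inferInstance x hx g)))

end Cfsg.Agent.Lib.Helper20.SL23
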