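import Mathlib
import Cfsg.Agent.Lib.Helper20.SL23Facts

/-!
Helper lemmas (helper20): the normal subgroups of `SL₂(3)`, its centre and commutator subgroup.
-/

set_option autoImplicit false

namespace Cfsg.Agent.Lib.Helper20.SL23

open QuaternionGroup Cfsg.Agent.Lib.Helper20.Q8

/-- the central involution -/
def mZ : SL := mI ^ 2

set_option maxRecDepth 100000 in
theorem sl_center_iff : ∀ z : SL, (∀ g : SL, g * z = z * g) ↔ z = 1 ∨ z = mZ := by decide

set_option maxRecDepth 100000 in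
theorem mZ_facts : mZ ^ 2 = 1 ∧ mZ ≠ 1 := by decide

set_option maxRecDepth 100000 in
theorem sl_comm_pow4 : ∀ g h : SL, (g * h * g⁻¹ * h⁻¹) ^ 4 = 1 := by decide

set_option maxRecDepth 100000 in
theorem sl_pow4_comm : ∀ y : SL, y ^ 4 = 1 → ∃ g h : SL, y = g * h * g⁻¹ * h⁻¹ := by decide

set_option maxRecDepth 100000 in
theorem thetaMap_pow4 : ∀ q : Q8c, thetaMap q ^ 4 = 1 := by decide

set_option maxRecDepth 100000 in
theorem sl_pow4_thetaMap : ∀ y : SL, y ^ 4 = 1 → ∃ q : Q8c, thetaMap q = y := by decide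

set_option maxRecDepth 100000 in
theorem sl_sq_eq_one : ∀ x : SL, x ^ 2 = 1 → x = 1 ∨ x = mZ := by decide

set_option maxRecDepth 100000 in
theorem sl_order4_in_normal : ∀ x : SL, x ^ 4 ≠ 1 →
    ∃ q : SL, (x * (q * x⁻¹ * q⁻¹)) ^ 2 ≠ 1 ∧ (x * (q * x⁻¹ * q⁻¹)) ^ 4 = 1 := by decide

set_option maxRecDepth 100000 in
theorem sl_Q4_normal_closure : ∀ u : SL, u ^ 4 = 1 → u ^ 2 ≠ 1 →
    ∀ y : SL, y ^ 4 = 1 → y = 1 ∨ y = u ^ 2 ∨ ∃ g : SL, y = g * u * g⁻¹ := by decide

set_option maxRecDepth 100000 in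
theorem sl_Q4_mul_zpowers : ∀ x : SL, x ^ 4 ≠ 1 →
    ∀ y : SL, ∃ q : SL, q ^ 4 = 1 ∧ (y = q ∨ y = q * x ^ 2 ∨ y = q * x ^ 4) := by decide

theorem center_eq : Subgroup.center SL = Subgroup.zpowers mZ := by
  ext z
  rw [Subgroup.mem_center_iff, sl_center_iff]
  constructor
  · rintro (rfl | rfl)
    · exact one_mem _
    · exact Subgroup.mem_zpowers _
  · intro h
    obtain ⟨k, rfl⟩ := Subgroup.mem_zpowers_iff.mp h
    rcases Int.even_or_odd' k with ⟨m, rfl | rfl⟩
    · left
      rw [zpow_mul, zpow_ofNat, mZ_facts.1, one_zpow]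
    · right
      rw [zpow_add, zpow_mul, zpow_ofNat, mZ_facts.1, one_zpow, one_mul, zpow_one]

theorem orderOf_mZ : orderOf mZ = 2 := orderOf_eq_prime mZ_facts.1 mZ_facts.2

theorem card_center : Nat.card (Subgroup.center SL) = 2 := by
  rw [center_eq, Nat.card_zpowers, orderOf_mZ]

theorem commutator_eq : commutator SL = Q4 := by
  apply le_antisymm
  · rw [commutator_def, Subgroup.commutator_le]
    intro g _ h _
    exact sl_comm_pow4 g h
  · intro y hy
    obtain ⟨g, h, rfl⟩ := sl_pow4_comm y hy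
    rw [commutator_def]
    exact Subgroup.commutator_mem_commutator (Subgroup.mem_top g) (Subgroup.mem_top h)

theorem range_theta : theta.range = Q4 := by
  ext y
  constructor
  · rintro ⟨q, rfl⟩
    exact thetaMap_pow4 q
  · intro hy
    obtain ⟨q, hq⟩ := sl_pow4_thetaMap y hy
    exact ⟨q, hq⟩

/-- `Q4 ≅ Q₈` -/
noncomputable def Q4Equiv : Q4 ≃* Q8c :=
  ((MonoidHom.ofInjective theta_injective).trans (MulEquiv.subgroupCongr range_theta)).symm

theorem card_Q4 : Nat.card Q4 = 8 := by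
  rw [Nat.card_congr Q4Equiv.toEquiv, Nat.card_eq_fintype_card, QuaternionGroup.card]

theorem card_sylow_three (P : Sylow 3 SL) : Nat.card P = 3 := by
  haveI : Fact (Nat.Prime 3) := ⟨Nat.prime_three⟩
  rw [P.card_eq_multiplicity, card_SL23]
  have : (24 : ℕ) = 3 * 8 := by norm_num
  rw [this, Nat.factorization_mul (by norm_num) (by norm_num), Finsupp.add_apply,
    Nat.prime_three.factorization_self, Nat.factorization_eq_zero_of_not_dvd (by norm_num)]
  norm_num

theorem isComplement'_Q4_sylow (P : Sylow 3 SL) :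
    Subgroup.IsComplement' Q4 (P : Subgroup SL) := by
  apply Subgroup.isComplement'_of_coprime
  · rw [card_Q4, card_sylow_three, card_SL23]
  · rw [card_Q4, card_sylow_three]; norm_num

/-- the normal subgroups of `SL₂(3)` -/
theorem normal_classification (N : Subgroup SL) [N.Normal] :
    N = ⊥ ∨ N = ⊤ ∨ N = Subgroup.center SL ∨ N = Q4 := by
  have hQ4 : ∀ u ∈ N, u ^ 4 = 1 → u ^ 2 ≠ 1 → Q4 ≤ N := by
    intro u hu h4 h2 y hy
    rcases sl_Q4_normal_closure u h4 h2 y hy with rfl | rfl | ⟨g, rfl⟩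
    · exact one_mem _
    · exact N.pow_mem hu 2
    · exact Subgroup.Normal.conj_mem inferInstance u hu g
  by_cases h1 : ∃ x ∈ N, x ^ 4 ≠ 1
  · right; left
    obtain ⟨x, hx, hx4⟩ := h1
    obtain ⟨q, hq2, hq4⟩ := sl_order4_in_normal x hx4
    have hmem : x * (q * x⁻¹ * q⁻¹) ∈ N :=
      N.mul_mem hx (Subgroup.Normal.conj_mem inferInstance x⁻¹ (N.inv_mem hx) q)
    have hQN := hQ4 _ hmem hq4 hq2
    rw [eq_top_iff]
    intro y _
    obtain ⟨q', hq', h | h | h⟩ := sl_Q4_mul_zpowers x hx4 y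
    · rw [h]; exact hQN hq'
    · rw [h]; exact N.mul_mem (hQN hq') (N.pow_mem hx 2)
    · rw [h]; exact N.mul_mem (hQN hq') (N.pow_mem hx 4)
  · push Not at h1
    by_cases h2 : ∃ u ∈ N, u ^ 2 ≠ 1
    · right; right; right
      obtain ⟨u, hu, hu2⟩ := h2
      exact le_antisymm (fun y hy => h1 y hy) (hQ4 u hu (h1 u hu) hu2)
    · push Not at h2
      by_cases h3 : mZ ∈ N
      · right; right; left
        rw [center_eq]
        apply le_antisymm
        · intro y hy
          rcases sl_sq_eq_one y (h2 y hy) with rfl | rfl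
          · exact one_mem _
          · exact Subgroup.mem_zpowers _
        · rw [Subgroup.zpowers_le]; exact h3
      · left
        rw [Subgroup.eq_bot_iff_forall]
        intro y hy
        rcases sl_sq_eq_one y (h2 y hy) with rfl | rfl
        · rfl
        · exact absurd hy h3

end Cfsg.Agent.Lib.Helper20.SL23
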