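import Mathlib
import Cfsg.Prelude.Def_Solvable
import Cfsg.Agent.Lib.Helper28.SOTP
import Cfsg.Agent.Lib.Helper26.SOT4A1
import Cfsg.Agent.Lib.Helper28.SOT4A3S
import Cfsg.Agent.Lib.Helper19.SOT4A4N

/-!
# S4004 leaf A5 (helper20): all element orders in `{1, p, q}`, two primes: a Frobenius complement of prime order
-/

set_option autoImplicit false

namespace Cfsg.Agent.Lib.Helper20.SOT4


/-- in a subgroup of prime order every non-identity element generates -/
theorem mem_zpowers_of_mem_prime_card {G : Type*} [Group G] (C : Subgroup G) (r : ℕ) [Fact r.Prime]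
    (hC : Nat.card C = r) (x y : G) (hx : x ∈ C) (hx1 : x ≠ 1) (hy : y ∈ C) : ∃ k : ℤ, x ^ k = y := by
  have h1 : (⟨x, hx⟩ : C) ≠ 1 := by
    intro h
    exact hx1 (congrArg Subtype.val h)
  have h2 : (⟨y, hy⟩ : C) ∈ Subgroup.zpowers (⟨x, hx⟩ : C) := mem_zpowers_of_prime_card hC h1
  obtain ⟨k, hk⟩ := Subgroup.mem_zpowers_iff.mp h2
  exact ⟨k, by simpa using congrArg Subtype.val hk⟩

/-- the one-sided version of A5: `V` abelian normal containing an element of order `r` -/
theorem A5_aux {G : Type*} [Group G] [Finite G] (r r' : ℕ) (hr : r.Prime) (hr' : r'.Prime) (hne : r ≠ r')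
    (hord : ∀ g : G, orderOf g = 1 ∨ orderOf g = r ∨ orderOf g = r') (hr'G : r' ∣ Nat.card G)
    (V : Subgroup G) [V.Normal] (hVc : ∀ a ∈ V, ∀ b ∈ V, a * b = b * a) (v : G) (hvV : v ∈ V)
    (hv : orderOf v = r) :
    ∃ C : Subgroup G, Cfsg.IsFrobeniusComplement C ∧ (Nat.card ↥C).Prime := by
  have : Fact r'.Prime := ⟨hr'⟩
  have hv1 : v ≠ 1 := by
    intro h
    rw [h, orderOf_one] at hv
    exact hr.one_lt.ne hv
  have hV : V ≠ ⊥ := by
    intro h
    rw [h, Subgroup.mem_bot] at hvV
    exact hv1 hvV
  -- `V` is an `r`-group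
  have hVr : ∀ w ∈ V, w ^ r = 1 := by
    intro w hw
    rcases hord w with h | h | h
    · rw [orderOf_eq_one_iff] at h
      rw [h, one_pow]
    · rw [← h]
      exact pow_orderOf_eq_one w
    · exfalso
      have hcomm : Commute v w := hVc v hvV w hw
      have hcop : Nat.Coprime (orderOf v) (orderOf w) := by
        rw [hv, h]
        exact (Nat.coprime_primes hr hr').mpr hne
      have ho := hcomm.orderOf_mul_eq_mul_orderOf_of_coprime hcop
      rw [hv, h] at ho
      have h2 := hr.two_le
      have h2' := hr'.two_le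
      rcases hord (v * w) with h' | h' | h'
      · rw [h'] at ho
        nlinarith
      · rw [h'] at ho
        nlinarith
      · rw [h'] at ho
        nlinarith
  -- an element of order `r'`
  obtain ⟨y, hy⟩ := exists_prime_orderOf_dvd_card' r' hr'G
  have hy1 : y ≠ 1 := by
    intro h
    rw [h, orderOf_one] at hy
    exact hr'.one_lt.ne hy
  have hCcard : Nat.card (Subgroup.zpowers y) = r' := by rw [Nat.card_zpowers, hy]
  -- elements outside `C` do not normalize `C`
  have hnn : ∀ σ : G, σ ∉ Subgroup.zpowers y → σ * y * σ⁻¹ ∈ Subgroup.zpowers y → False := by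
    intro σ hσC hnorm
    rcases hord σ with h | h | h
    · rw [orderOf_eq_one_iff] at h
      rw [h] at hσC
      exact hσC (Subgroup.one_mem _)
    · exact Cfsg.Agent.Lib.Helper19.SOT4.A4_no_normalizing r r' hr hr' hne hord V hVc hVr hV y σ hy h hnorm
    · -- `σ` is an `r'`-element normalizing `C`
      have hCp : IsPGroup r' (Subgroup.zpowers y) := IsPGroup.of_card (n := 1) (by rw [hCcard, pow_one])
      obtain ⟨R, hCR⟩ := hCp.exists_le_sylow
      have hRcard : Nat.card (R : Subgroup G) = r' := Cfsg.Agent.Lib.Helper28.SOT4.A3_sylow_card r r' hr hne hord V hVc hVr hV R hr'G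
      have hRC : (R : Subgroup G) = Subgroup.zpowers y := by
        symm
        apply Subgroup.eq_of_le_of_card_ge hCR
        rw [hRcard, hCcard]
      have hσp : IsPGroup r' (Subgroup.zpowers σ) :=
        IsPGroup.of_card (n := 1) (by rw [Nat.card_zpowers, h, pow_one])
      have hσN : σ ∈ Subgroup.normalizer ((R : Subgroup G) : Set G) := by
        rw [hRC]
        rw [Subgroup.mem_normalizer_iff]
        intro x
        constructor
        · intro hx
          obtain ⟨k, rfl⟩ := Subgroup.mem_zpowers_iff.mp hx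
          have : σ * y ^ k * σ⁻¹ = (σ * y * σ⁻¹) ^ k := by
            rw [conj_zpow]
          rw [this]
          exact Subgroup.zpow_mem _ hnorm k
        · intro hx
          -- conjugation by `σ` is injective on the finite set `C`, hence surjective
          have hmaps : ∀ c ∈ Subgroup.zpowers y, σ * c * σ⁻¹ ∈ Subgroup.zpowers y := by
            intro c hc
            obtain ⟨k, rfl⟩ := Subgroup.mem_zpowers_iff.mp hc
            have : σ * y ^ k * σ⁻¹ = (σ * y * σ⁻¹) ^ k := by
              rw [conj_zpow]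
            rw [this]
            exact Subgroup.zpow_mem _ hnorm k
          let f : Subgroup.zpowers y → Subgroup.zpowers y := fun c => ⟨σ * c.1 * σ⁻¹, hmaps c.1 c.2⟩
          have hinj : Function.Injective f := by
            intro a b hab
            have : σ * a.1 * σ⁻¹ = σ * b.1 * σ⁻¹ := congrArg Subtype.val hab
            apply Subtype.ext
            simpa using this
          have hsurj : Function.Surjective f := Finite.surjective_of_injective hinj
          obtain ⟨c, hc⟩ := hsurj ⟨σ * x * σ⁻¹, hx⟩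
          have : σ * c.1 * σ⁻¹ = σ * x * σ⁻¹ := congrArg Subtype.val hc
          have hcx : c.1 = x := by simpa using this
          rw [← hcx]
          exact c.2
      have key := hσp.inf_normalizer_sylow R
      have hmem : σ ∈ Subgroup.zpowers σ ⊓ (R : Subgroup G) := by
        rw [← key]
        exact ⟨Subgroup.mem_zpowers σ, hσN⟩
      have : σ ∈ (R : Subgroup G) := hmem.2
      rw [hRC] at this
      exact hσC this
  refine ⟨Subgroup.zpowers y, ⟨?_, ?_, ?_⟩, ?_⟩
  · intro h
    rw [Subgroup.zpowers_eq_bot] at h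
    exact hy1 h
  · intro h
    have hvC : v ∈ Subgroup.zpowers y := by rw [h]; exact Subgroup.mem_top v
    have h1 : orderOf v ∣ r' := by
      have := orderOf_dvd_natCard (⟨v, hvC⟩ : Subgroup.zpowers y)
      rw [hCcard, Subgroup.orderOf_mk] at this
      exact this
    rw [hv] at h1
    exact hne ((Nat.prime_dvd_prime_iff_eq hr hr').mp h1)
  · intro g hg
    rw [eq_bot_iff]
    intro x hx
    rw [Subgroup.mem_bot]
    by_contra hx1
    obtain ⟨hxC, hxg⟩ := hx
    -- `y` is a power of `x`
    obtain ⟨k, hk⟩ := mem_zpowers_of_mem_prime_card (Subgroup.zpowers y) r' hCcard x y hxC hx1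
      (Subgroup.mem_zpowers y)
    -- `x = g c g⁻¹`
    obtain ⟨c, hc, hcx⟩ := Subgroup.mem_smul_pointwise_iff_exists _ _ _ |>.mp hxg
    have hcx' : g * c * g⁻¹ = x := by
      simpa [MulAut.smul_def, MulAut.conj_apply] using hcx
    -- `g⁻¹ y g = c ^ k ∈ C`
    have hnorm : g⁻¹ * y * g⁻¹⁻¹ ∈ Subgroup.zpowers y := by
      have : g⁻¹ * y * g⁻¹⁻¹ = c ^ k := by
        rw [← hk, ← hcx', conj_zpow]
        group
      rw [this]
      exact Subgroup.zpow_mem _ hc k
    apply hnn g⁻¹ _ hnorm
    intro h
    exact hg (by simpa using Subgroup.inv_mem _ h)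
  · rw [hCcard]
    exact hr'

/-- **A5**: all element orders in `{1, p, q}`, exactly the primes `p, q`: a Frobenius complement of prime order -/
theorem A5_frobenius_complement {G : Type*} [Group G] [Finite G] (p q : ℕ) (hp : p.Prime) (hq : q.Prime) (hpq : p ≠ q)
    (hN : (Nat.card G).primeFactors = {p, q}) (hord : ∀ g : G, orderOf g = 1 ∨ orderOf g = p ∨ orderOf g = q) :
    ∃ C : Subgroup G, Cfsg.IsFrobeniusComplement C ∧ (Nat.card ↥C).Prime := by
  have hpG : p ∣ Nat.card G := by
    have : p ∈ (Nat.card G).primeFactors := by rw [hN]; simp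
    exact Nat.dvd_of_mem_primeFactors this
  have hqG : q ∣ Nat.card G := by
    have : q ∈ (Nat.card G).primeFactors := by rw [hN]; simp
    exact Nat.dvd_of_mem_primeFactors this
  have hsol : Group.IsSolvable G := by
    apply Cfsg.Agent.Lib.Helper28.SOT.P_solvable
    rw [hN, Finset.card_pair hpq]
  have : Nontrivial G := by
    rw [← Finite.one_lt_card_iff_nontrivial]
    have := Nat.le_of_dvd Nat.card_pos hpG
    have := hp.two_le
    omega
  obtain ⟨V, hVn, hV1, hVc⟩ := Cfsg.Agent.Lib.Helper26.SOT4.A1_abelian_normal hsol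
  have := hVn
  obtain ⟨v, hvV, hv1⟩ : ∃ v ∈ V, v ≠ 1 := by
    by_contra hcon
    push Not at hcon
    apply hV1
    rw [eq_bot_iff]
    intro x hx
    rw [Subgroup.mem_bot]
    exact hcon x hx
  rcases hord v with h | h | h
  · rw [orderOf_eq_one_iff] at h
    exact absurd h hv1
  · exact A5_aux p q hp hq hpq hord hqG V hVc v hvV h
  · refine A5_aux q p hq hp hpq.symm (fun g => ?_) hpG V hVc v hvV h
    rcases hord g with h' | h' | h'
    · exact Or.inl h'
    · exact Or.inr (Or.inr h')
    · exact Or.inr (Or.inl h')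

end Cfsg.Agent.Lib.Helper20.SOT4
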