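import Mathlib

/-!
# S4004: the norm product of a group acting on a commutative group (helper20)
-/

set_option autoImplicit false

namespace Cfsg.Agent.Lib.Helper20.SOT4

/-- the norm product `∏_{i<n} φ(g^i) v` -/
noncomputable def Nm {H V : Type*} [Group H] [CommGroup V] (φ : H →* MulAut V) (g : H) (n : ℕ) (v : V) : V :=
  ∏ i ∈ Finset.range n, φ (g ^ i) v

end Cfsg.Agent.Lib.Helper20.SOT4
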