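import Mathlib
import Cfsg.Agent.Lib.Lead.CharBurnside

/-!
# S3996 leaf P: at most two prime divisors of the order => solvable (Burnside `p^a q^b`)
-/

set_option autoImplicit false

namespace Cfsg.Agent.Lib.Helper20.SOT

/-- **P**: at most two prime divisors: solvable (Burnside) -/
theorem P_solvable {G : Type*} [Group G] [Finite G] (h : (Nat.card G).primeFactors.card ≤ 2) :
    Group.IsSolvable G := by
  have hN0 : Nat.card G ≠ 0 := Nat.card_pos.ne'
  have hprod := Nat.prod_factorization_pow_eq_self hN0
  rw [Nat.prod_factorization_eq_prod_primeFactors] at hprod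
  set S := (Nat.card G).primeFactors with hS
  have hc : S.card = 0 ∨ S.card = 1 ∨ S.card = 2 := by omega
  rcases hc with h0 | h1 | h2
  · rw [Finset.card_eq_zero] at h0
    rw [h0, Finset.prod_empty] at hprod
    exact Cfsg.Agent.CharLib.isSolvable_of_card_pq 2 3 0 0 Nat.prime_two Nat.prime_three
      (by rw [← hprod]; norm_num)
  · rw [Finset.card_eq_one] at h1
    obtain ⟨p, hp⟩ := h1
    have hpp : p.Prime := by
      have : p ∈ S := by rw [hp]; exact Finset.mem_singleton_self p
      exact Nat.prime_of_mem_primeFactors this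
    rw [hp, Finset.prod_singleton] at hprod
    exact Cfsg.Agent.CharLib.isSolvable_of_card_pq p 2 ((Nat.card G).factorization p) 0 hpp
      Nat.prime_two (by rw [pow_zero, mul_one]; exact hprod.symm)
  · rw [Finset.card_eq_two] at h2
    obtain ⟨p, q, hpq, hSpq⟩ := h2
    have hpp : p.Prime := by
      have : p ∈ S := by rw [hSpq]; simp
      exact Nat.prime_of_mem_primeFactors this
    have hqp : q.Prime := by
      have : q ∈ S := by rw [hSpq]; simp
      exact Nat.prime_of_mem_primeFactors this
    rw [hSpq, Finset.prod_pair hpq] at hprod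
    exact Cfsg.Agent.CharLib.isSolvable_of_card_pq p q _ _ hpp hqp hprod.symm

end Cfsg.Agent.Lib.Helper20.SOT
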