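import Cfsg.Agent.Lib.Helper18.SPDec
import Cfsg.Agent.Lib.Helper18.SPHom

/-!
# S3713, super-leaf T2 (rank two: `Sp₄` on the indices `{o, p}`) — definitions (sub-planner helper20)

`T2Hyp`: the hypotheses of `t2` bundled (`σo`, `σp` on `S_o`, `S_p`; `ψ₁` on `P1 = PJ {o,p} o`, the stabiliser of the
vector `e_o`; `ψ₂` on `P2 = PJ {o,p} p`).  Group side: the short root elements `Xg t = E(e_o, t f_p)`,
`Yg t = E(f_o, t e_p)`, `Zg t = E(e_o, t e_p)`, the Weyl element `νg = Xg 1 * Yg (-1) * Xg 1` of the short root `SL₂`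
(`e_o ↦ e_p ↦ -e_o`, `f_o ↦ f_p ↦ -f_o`), the torus elements `hT k c` (`e_k ↦ c e_k`, `f_k ↦ c⁻¹ f_k`).
`H` side: `Xt, Yt, Zt, nto, ntp, Nt, Ht`.  `StepOK` is the conclusion of the two step hypotheses of `ylemma`.
-/

set_option autoImplicit false

namespace Cfsg.Agent.Lib.Helper20.SPT2

open Matrix Cfsg.Agent.Lib.Helper5 Cfsg.Agent.Lib.Helper14.SpPerfect Cfsg.Agent.Lib.Helper18.SP

section group
variable (n : ℕ) (F : Type*) [Field F] (o p : Fin n)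

/-- the short root element `E(e_o, t f_p)` (`e_p ↦ e_p - t e_o`, `f_o ↦ f_o + t f_p`) -/
def Xg (t : F) : Sp n F := E (eV n F o) (t • fV n F p)

/-- the short root element `E(f_o, t e_p)` (`e_o ↦ e_o - t e_p`, `f_p ↦ f_p + t f_o`) -/
def Yg (t : F) : Sp n F := E (fV n F o) (t • eV n F p)

/-- the short root element `E(e_o, t e_p)` (in `M_{op}`) -/
def Zg (t : F) : Sp n F := E (eV n F o) (t • eV n F p)

/-- the Weyl element of the short root `SL₂` -/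
def νg : Sp n F := Xg n F o p 1 * Yg n F o p (-1) * Xg n F o p 1

/-- the torus element `h_k(c)` of `S_k` (`e_k ↦ c e_k`, `f_k ↦ c⁻¹ f_k`) -/
def hT (k : Fin n) (c : F) : Sp n F :=
  Tr (eV n F k) c * Tr (fV n F k) c⁻¹ * Tr (eV n F k) c * (nW n F k)⁻¹

end group

/-- the hypotheses of `t2` -/
structure T2Hyp (n : ℕ) (F : Type*) [Field F] (H : Type*) [Group H] (o p : Fin n) where
  hF : ∃ a : F, a ≠ 0 ∧ a ≠ 1
  hop : o ≠ p
  σo : Sp n F → H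
  σp : Sp n F → H
  ψ₁ : Sp n F → H
  ψ₂ : Sp n F → H
  hσo : HomOn (SS n F o) σo
  hσp : HomOn (SS n F p) σp
  hψ₁ : HomOn (PJ n F {o, p} o) ψ₁
  hψ₂ : HomOn (PJ n F {o, p} p) ψ₂
  h1p : ∀ g ∈ SS n F p, ψ₁ g = σp g
  h2o : ∀ g ∈ SS n F o, ψ₂ g = σo g
  h12 : ∀ g ∈ MM n F o p, ψ₁ g = ψ₂ g
  hD : ∀ s ∈ SS n F o, ∀ s' ∈ SS n F p, Commute (σo s) (σp s')

namespace T2Hyp

variable {n : ℕ} {F : Type*} [Field F] {H : Type*} [Group H] {o p : Fin n} (A : T2Hyp n F H o p)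

/-- the hypotheses with the roles of `o` and `p` exchanged -/
def symm : T2Hyp n F H p o where
  hF := A.hF
  hop := A.hop.symm
  σo := A.σp
  σp := A.σo
  ψ₁ := A.ψ₂
  ψ₂ := A.ψ₁
  hσo := A.hσp
  hσp := A.hσo
  hψ₁ := by rw [Set.pair_comm]; exact A.hψ₂
  hψ₂ := by rw [Set.pair_comm]; exact A.hψ₁
  h1p := A.h2o
  h2o := A.h1p
  h12 := fun g hg => (A.h12 g (by rw [MM_comm]; exact hg)).symm
  hD := fun s hs s' hs' => (A.hD s' hs' s hs).symm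

/-- the lift of `Xg t` -/
def Xt (t : F) : H := A.ψ₁ (Xg n F o p t)

/-- the lift of `Yg t` -/
def Yt (t : F) : H := A.ψ₂ (Yg n F o p t)

/-- the lift of `Zg t` -/
def Zt (t : F) : H := A.ψ₁ (Zg n F o p t)

/-- the lift of `nW o` -/
def nto : H := A.σo (nW n F o)

/-- the lift of `nW p` -/
def ntp : H := A.σp (nW n F p)

/-- the lift of `νg` -/
def Nt : H := A.Xt 1 * A.Yt (-1) * A.Xt 1

/-- the lift of `hT o c * hT p c⁻¹` (the torus of the short root `SL₂`) -/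
def Ht (c : F) : H := A.σo (hT n F o c) * A.σp (hT n F p c⁻¹)

end T2Hyp

/-- the conclusion of the step hypotheses of `ylemma`: `g = p₁ s p₂`, `h = φ p₁ s̃ φ p₂` with `s ∈ {1, y, n}` -/
def StepOK {G H : Type*} [Group G] [Group H] (Ph : Subgroup G) (φ : G → H) (n y : G) (nt yt : H) (g : G) (h : H) :
    Prop :=
  ∃ p₁ ∈ Ph, ∃ p₂ ∈ Ph,
    (g = p₁ * p₂ ∧ h = φ p₁ * φ p₂) ∨ (g = p₁ * y * p₂ ∧ h = φ p₁ * yt * φ p₂) ∨
      (g = p₁ * n * p₂ ∧ h = φ p₁ * nt * φ p₂)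

theorem StepOK.mul_left {G H : Type*} [Group G] [Group H] {Ph : Subgroup G} {φ : G → H} (hφ : HomOn Ph φ)
    {n y : G} {nt yt : H} {g : G} {h : H} (hs : StepOK Ph φ n y nt yt g h) {q : G} (hq : q ∈ Ph) :
    StepOK Ph φ n y nt yt (q * g) (φ q * h) := by
  obtain ⟨p₁, hp₁, p₂, hp₂, hcase⟩ := hs
  refine ⟨q * p₁, mul_mem hq hp₁, p₂, hp₂, ?_⟩
  rw [hφ.map_mul hq hp₁]
  rcases hcase with ⟨h1, h2⟩ | ⟨h1, h2⟩ | ⟨h1, h2⟩
  · exact Or.inl ⟨by rw [h1]; group, by rw [h2]; group⟩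
  · exact Or.inr (Or.inl ⟨by rw [h1]; group, by rw [h2]; group⟩)
  · exact Or.inr (Or.inr ⟨by rw [h1]; group, by rw [h2]; group⟩)

theorem StepOK.mul_right {G H : Type*} [Group G] [Group H] {Ph : Subgroup G} {φ : G → H} (hφ : HomOn Ph φ)
    {n y : G} {nt yt : H} {g : G} {h : H} (hs : StepOK Ph φ n y nt yt g h) {q : G} (hq : q ∈ Ph) :
    StepOK Ph φ n y nt yt (g * q) (h * φ q) := by
  obtain ⟨p₁, hp₁, p₂, hp₂, hcase⟩ := hs
  refine ⟨p₁, hp₁, p₂ * q, mul_mem hp₂ hq, ?_⟩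
  rw [hφ.map_mul hp₂ hq]
  rcases hcase with ⟨h1, h2⟩ | ⟨h1, h2⟩ | ⟨h1, h2⟩
  · exact Or.inl ⟨by rw [h1]; group, by rw [h2]; group⟩
  · exact Or.inr (Or.inl ⟨by rw [h1]; group, by rw [h2]; group⟩)
  · exact Or.inr (Or.inr ⟨by rw [h1]; group, by rw [h2]; group⟩)

theorem StepOK.congr {G H : Type*} [Group G] [Group H] {Ph : Subgroup G} {φ : G → H}
    {n y : G} {nt yt : H} {g g' : G} {h h' : H} (hs : StepOK Ph φ n y nt yt g h) (hg : g' = g) (hh : h' = h) :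
    StepOK Ph φ n y nt yt g' h' := by
  rw [hg, hh]; exact hs

end Cfsg.Agent.Lib.Helper20.SPT2
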