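import Cfsg.Agent.Lib.Helper20.SPT2Calc
import Cfsg.Agent.Lib.Helper20.SPT2Rel
import Cfsg.Agent.Lib.Helper20.SPT2G
import Cfsg.Agent.Lib.Helper5.SPT2NUCONJ

/-!
# S3713, super-leaf T2: leaf HARD0 (the hard case of the `y`-step for `γ = -1`)
-/

set_option autoImplicit false

namespace Cfsg.Agent.Lib.Helper20.SPT2HARD0

open Matrix Cfsg.Agent.Lib.Helper5 Cfsg.Agent.Lib.Helper14.SpPerfect Cfsg.Agent.Lib.Helper18.SP
open Cfsg.Agent.Lib.Helper20.SPT2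

variable {F : Type*} [Field F] {n : ℕ} {H : Type*} [Group H] {o p : Fin n}

/-- **HARD0** (`γ = -1`): `Xg (-1) Yg 1 = νg⁻¹ Xg 1`, `g = Xg (-1) * y * [Xg (-1) s' Xg 1]`, `s' = νg (n Tr(e_o,c)) νg⁻¹ ∈ S_p`;
`H` side: `C1` at `n Tr(e_o,c)` and `L.Nt_inv` -/
theorem hard0 (A : T2Hyp n F H o p) {φ₁ : Sp n F → H} (P1 : Phi1 A φ₁) (L : AddRel A) (C : ConjRel A) (c : F) :
    SOK A φ₁ (nW n F o * (Xg n F o p (-1) * Tr (eV n F o) c) * yE n F o p)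
      (A.nto * A.ψ₁ (Xg n F o p (-1) * Tr (eV n F o) c) * A.ψ₂ (yE n F o p)) := by
  have hop := A.hop
  have hnS : nW n F o ∈ SS n F o := nW_mem_SS o
  have heo : eV n F o ∈ VJ n F {o} := eV_mem_VJ rfl
  have hTS : Tr (eV n F o) c ∈ SS n F o := Tr_mem_GJ heo c
  have hTM : Tr (eV n F o) c ∈ MM n F o p := Tr_eo_mem_MM o p c
  have hs0 : nW n F o * Tr (eV n F o) c ∈ SS n F o := mul_mem hnS hTS
  have hs' : νg n F o p * (nW n F o * Tr (eV n F o) c) * (νg n F o p)⁻¹ ∈ SS n F p :=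
    Cfsg.Agent.Lib.Helper5.SPT2NUCONJ.νg_conj_SS_o hop hs0
  have hX : ∀ t : F, Xg n F o p t ∈ PJ n F {o, p} o := fun t => Xg_mem_PJ hop t
  have hs'P : νg n F o p * (nW n F o * Tr (eV n F o) c) * (νg n F o p)⁻¹ ∈ PJ n F {o, p} o := SS_p_le_P1 hop hs'
  have hTP : Tr (eV n F o) c ∈ PJ n F {o, p} o := MM_le_P1 o p hTM
  -- `Tr e_o c` commutes with `Xg (-1)`
  have hcomm : Xg n F o p (-1) * Tr (eV n F o) c = Tr (eV n F o) c * Xg n F o p (-1) :=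
    (E_commute_Tr (eV n F o) ((-1 : F) • fV n F p) c (by rw [ω_smul_right, ω_eo_fp hop, mul_zero])).eq
  have hp₂ : Xg n F o p (-1) * (νg n F o p * (nW n F o * Tr (eV n F o) c) * (νg n F o p)⁻¹) * Xg n F o p 1
      ∈ PJ n F {o, p} o := mul_mem (mul_mem (hX _) hs'P) (hX _)
  refine ⟨Xg n F o p (-1), PJ_le_PhJ _ o (hX _), _, PJ_le_PhJ _ o hp₂, Or.inr (Or.inl ⟨?_, ?_⟩)⟩
  · -- the group side
    have h1 : nW n F o * (Xg n F o p (-1) * Tr (eV n F o) c) * yE n F o p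
        = nW n F o * Tr (eV n F o) c * (Xg n F o p (-1) * Yg n F o p 1) := by
      rw [hcomm, yE_eq_Yg]; group
    have h2 : Xg n F o p (-1) * yE n F o p *
        (Xg n F o p (-1) * (νg n F o p * (nW n F o * Tr (eV n F o) c) * (νg n F o p)⁻¹) * Xg n F o p 1)
        = (Xg n F o p (-1) * Yg n F o p 1 * Xg n F o p (-1)) *
          (νg n F o p * (nW n F o * Tr (eV n F o) c) * (νg n F o p)⁻¹) * Xg n F o p 1 := by
      rw [yE_eq_Yg]; group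
    rw [h1, h2, ← νg_inv hop, Xg_neg_one_mul_Yg_one hop]
    group
  · -- the `H` side
    have e1 : A.ψ₁ (Xg n F o p (-1) * Tr (eV n F o) c) = A.ψ₁ (Tr (eV n F o) c) * A.Xt (-1) := by
      rw [hcomm, A.hψ₁.map_mul hTP (hX _)]; rfl
    have e2 : A.ψ₁ (Tr (eV n F o) c) = A.σo (Tr (eV n F o) c) := by
      rw [A.h12 _ hTM, A.h2o _ hTS]
    have e3 : φ₁ (Xg n F o p (-1)) = A.Xt (-1) := P1.onP _ (hX _)
    have e4 : φ₁ (Xg n F o p (-1) * (νg n F o p * (nW n F o * Tr (eV n F o) c) * (νg n F o p)⁻¹) * Xg n F o p 1)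
        = A.Xt (-1) * (A.Nt * (A.nto * A.σo (Tr (eV n F o) c)) * A.Nt⁻¹) * A.Xt 1 := by
      rw [P1.onP _ hp₂, A.hψ₁.map_mul (mul_mem (hX _) hs'P) (hX _), A.hψ₁.map_mul (hX _) hs'P, A.h1p _ hs',
        ← C.C1 _ hs0, A.hσo.map_mul hnS hTS]
      rfl
    have e5 : A.Xt (-1) * A.Xt 1 = 1 := by rw [← L.Xt_inv 1, inv_mul_cancel]
    rw [e1, e2, e3, e4, L.yt_eq]
    have e6 : A.Xt (-1) * A.Yt 1 * (A.Xt (-1) * (A.Nt * (A.nto * A.σo (Tr (eV n F o) c)) * A.Nt⁻¹) * A.Xt 1)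
        = (A.Xt (-1) * A.Yt 1 * A.Xt (-1)) * A.Nt * (A.nto * A.σo (Tr (eV n F o) c)) * A.Nt⁻¹ * A.Xt 1 := by group
    rw [e6, ← L.Nt_inv, inv_mul_cancel, one_mul, L.Nt_inv]
    have e7 : A.nto * A.σo (Tr (eV n F o) c) * (A.Xt (-1) * A.Yt 1 * A.Xt (-1)) * A.Xt 1
        = A.nto * A.σo (Tr (eV n F o) c) * A.Xt (-1) * A.Yt 1 * (A.Xt (-1) * A.Xt 1) := by group
    rw [e7, e5, mul_one]
    group

end Cfsg.Agent.Lib.Helper20.SPT2HARD0
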