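/-
helper20: S2283, the case `q = 5` (spare/double of helper8's (Q5)).
In `UJ (frobHom hK) 3`, `|K| = 25`: `ω` a primitive cube root of unity (`σ ω = -1 - ω`),
`w := vL 1 ω`, `u := uU (ω + 3) (4 ω + 1)`; the word `x := w u w w` is upper triangular with
multiplier `x₀₀ σ(x₁₁) = 4 ω + 2 ∉ F_5`; helper5's `core_of_borel` does the rest.
Explicit matrix identities: machine-generated `linear_combination` certificates modulo
`(ω^2 + ω + 1, 5)`.
-/
import Mathlib
import Cfsg.Agent.Lib.Helper20.SU3Q8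
import Cfsg.Agent.Lib.Helper4.SU3Mat
import Cfsg.Agent.Lib.Helper5.SU3Core

set_option autoImplicit false
set_option linter.unusedVariables false
set_option linter.unusedSectionVars false
set_option linter.unusedSimpArgs false
set_option linter.style.haveILetI false
set_option linter.unnecessarySeqFocus false
set_option linter.unreachableTactic false
set_option linter.unusedTactic false

namespace Cfsg.Agent.Lib.Helper20.SU3Q5

open Matrix Cfsg.Agent.Lib.Helper16.FusSU Cfsg.Agent.Lib.Helper4.SU3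
open Cfsg.Agent.Lib.Helper5.HermBridge (frobHom)
open Cfsg.Agent.Lib.Helper20.SU3Q8 (mk3_eq det3)

variable {K : Type*} [Field K]

theorem adj3' (σ : K →+* K) (a00 a01 a02 a10 a11 a12 a20 a21 a22 : K) :
    adj σ !![a00, a01, a02; a10, a11, a12; a20, a21, a22] =
      !![σ a22, σ a12, σ a02; σ a21, σ a11, σ a01; σ a20, σ a10, σ a00] :=
  Cfsg.Agent.Lib.Helper20.SU3Q8.adj3 σ _ _ _ _ _ _ _ _ _

section field

variable [Fintype K]

theorem five_eq_zero (hK : Fintype.card K = 5 ^ 2) : (5 : K) = 0 := by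
  haveI := ringChar.charP K
  obtain ⟨n, hp, hc⟩ := FiniteField.card K (ringChar K)
  have h1 : ringChar K ∣ 5 ^ 2 := by
    have : ringChar K ∣ ringChar K ^ (n : ℕ) := dvd_pow_self _ n.pos.ne'
    rw [← hc, hK] at this
    exact this
  have h2 : ringChar K = 5 := (Nat.prime_dvd_prime_iff_eq hp (by norm_num)).1
    (hp.dvd_of_dvd_pow h1)
  have h3 : ((ringChar K : ℕ) : K) = 0 := CharP.cast_eq_zero K (ringChar K)
  rw [h2] at h3
  exact_mod_cast h3

theorem exists_omega (hK : Fintype.card K = 5 ^ 2) : ∃ ω : K, ω ^ 2 + ω + 1 = 0 := by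
  obtain ⟨g, hg0, hord, -⟩ := Cfsg.Agent.Lib.Helper8.SUField.exists_gen (F := K)
  rw [hK] at hord
  have h3 : (g ^ 8) ^ 3 = 1 := by
    rw [← pow_mul]
    have := pow_orderOf_eq_one g
    rw [hord] at this
    exact this
  have h1 : g ^ 8 ≠ 1 := pow_ne_one_of_lt_orderOf (by norm_num) (by rw [hord]; norm_num)
  refine ⟨g ^ 8, ?_⟩
  have h : (g ^ 8 - 1) * ((g ^ 8) ^ 2 + g ^ 8 + 1) = 0 := by linear_combination h3
  exact (mul_eq_zero.1 h).resolve_left (sub_ne_zero.2 h1)

theorem subfield_top_25 (hK : Fintype.card K = 5 ^ 2) (S : Subfield K) (τ : K) (hτ : τ ∈ S)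
    (h5 : τ ^ 5 ≠ τ) : S = ⊤ := by
  classical
  set r := Fintype.card S with hr
  set e := Module.finrank S K with he
  have hcard : 5 ^ 2 = r ^ e := by
    rw [← hK]
    exact Module.card_eq_pow_finrank
  have hr2 : 2 ≤ r := Fintype.one_lt_card
  have he_pos : 0 < e := Module.finrank_pos
  have hpow : τ ^ r = τ := by
    have h2 := FiniteField.pow_card (⟨τ, hτ⟩ : S)
    have h3 := congrArg (Subtype.val) h2
    simpa using h3
  have he1 : e = 1 := by
    by_contra hne
    have he2 : 2 ≤ e := by omega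
    have hr5 : r ≤ 5 := by
      by_contra hlt
      have h6 : 6 ≤ r := by omega
      have : 6 ^ 2 ≤ r ^ e :=
        le_trans (Nat.pow_le_pow_left h6 2) (Nat.pow_le_pow_right (by omega) he2)
      omega
    have hdvd : r ∣ 25 := by
      have : r ∣ r ^ e := dvd_pow_self r he_pos.ne'
      rw [← hcard] at this
      exact this
    interval_cases r
    · omega
    · omega
    · omega
    · exact h5 hpow
  have hcardS : Fintype.card S = Fintype.card K := by
    rw [hK, hcard, he1, pow_one]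
  have hbij : Function.Bijective (S.subtype : S → K) :=
    (Fintype.bijective_iff_injective_and_card _).2 ⟨S.subtype_injective, hcardS⟩
  rw [eq_top_iff]
  intro x _
  obtain ⟨y, hy⟩ := hbij.2 x
  rw [← hy]
  exact y.2

end field

/-! ### explicit matrices (machine generated) -/

/-- explicit matrix `wF` -/
def wF (ω : K) : Matrix (Fin 3) (Fin 3) K :=
  !![1, 0, 0; 1, 1, 0; ω, 4, 1]

/-- explicit matrix `wiF` -/
def wiF (ω : K) : Matrix (Fin 3) (Fin 3) K :=
  !![1, 0, 0; 4, 1, 0; 4 * ω + 4, 1, 1]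

/-- explicit matrix `uF` -/
def uF (ω : K) : Matrix (Fin 3) (Fin 3) K :=
  !![1, ω + 3, 4 * ω + 1; 0, 1, ω + 3; 0, 0, 1]

/-- explicit matrix `uiF` -/
def uiF (ω : K) : Matrix (Fin 3) (Fin 3) K :=
  !![1, 4 * ω + 2, ω + 2; 0, 1, 4 * ω + 2; 0, 0, 1]

/-- explicit matrix `q1F` -/
def q1F (ω : K) : Matrix (Fin 3) (Fin 3) K :=
  !![1, ω + 3, 4 * ω + 1; 1, ω + 4, 4; ω, 2 * ω + 3, ω + 4]

/-- explicit matrix `q2F` -/
def q2F (ω : K) : Matrix (Fin 3) (Fin 3) K :=
  !![3 * ω, 2 * ω + 2, 4 * ω + 1; 0, ω, 4; ω + 2, ω + 4, ω + 4]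

/-- explicit matrix `xF` -/
def xF (ω : K) : Matrix (Fin 3) (Fin 3) K :=
  !![2 * ω + 3, 3 * ω + 1, 4 * ω + 1; 0, ω + 1, 4; 0, 0, ω + 4]

/-- explicit matrix `gF` -/
def gF (ω : K) : Matrix (Fin 3) (Fin 3) K :=
  !![0, 0, 2 * ω + 3; 0, 4 * ω + 4, 4 * ω + 4; ω + 4, 4 * ω + 1, 1]

/-- explicit matrix `giF` -/
def giF (ω : K) : Matrix (Fin 3) (Fin 3) K :=
  !![1, ω, 3 * ω + 1; ω + 2, ω, 0; 4 * ω + 3, 0, 0]

/-- explicit matrix `cF` -/
def cF (ω : K) : Matrix (Fin 3) (Fin 3) K :=
  !![0, 0, 2 * ω + 3; 0, 4 * ω + 4, ω + 2; ω + 4, 2, 2 * ω]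

theorem wF_mul_uF {ω : K} (h5 : (5 : K) = 0) (hm : ω ^ 2 + ω + 1 = 0) :
    wF ω * uF ω = q1F ω := by
  unfold wF uF q1F
  rw [Matrix.mul_fin_three]
  exact mk3_eq
    (by ring)
    (by ring)
    (by ring)
    (by ring)
    (by ring)
    (by linear_combination (ω) * h5)
    (by ring)
    (by linear_combination (1) * hm)
    (by linear_combination (4) * hm + (1) * h5)

theorem q1F_mul_wF {ω : K} (h5 : (5 : K) = 0) (hm : ω ^ 2 + ω + 1 = 0) :
    q1F ω * wF ω = q2F ω := by
  unfold q1F wF q2F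
  rw [Matrix.mul_fin_three]
  exact mk3_eq
    (by linear_combination (4) * hm + (-ω) * h5)
    (by linear_combination (3 * ω + 1) * h5)
    (by ring)
    (by linear_combination (ω + 1) * h5)
    (by linear_combination (4) * h5)
    (by ring)
    (by linear_combination (1) * hm + (ω) * h5)
    (by linear_combination (ω + 3) * h5)
    (by ring)

theorem q2F_mul_wF {ω : K} (h5 : (5 : K) = 0) (hm : ω ^ 2 + ω + 1 = 0) :
    q2F ω * wF ω = xF ω := by
  unfold q2F wF xF
  rw [Matrix.mul_fin_three]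
  exact mk3_eq
    (by linear_combination (4) * hm + (-1) * h5)
    (by linear_combination (3 * ω + 1) * h5)
    (by ring)
    (by linear_combination (ω) * h5)
    (by linear_combination (3) * h5)
    (by ring)
    (by linear_combination (1) * hm + (ω + 1) * h5)
    (by linear_combination (ω + 4) * h5)
    (by ring)

theorem gF_mul_uF {ω : K} (h5 : (5 : K) = 0) (hm : ω ^ 2 + ω + 1 = 0) :
    gF ω * uF ω = cF ω := by
  unfold gF uF cF
  rw [Matrix.mul_fin_three]
  exact mk3_eq
    (by ring)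
    (by ring)
    (by ring)
    (by ring)
    (by ring)
    (by linear_combination (4) * hm + (3 * ω + 2) * h5)
    (by ring)
    (by linear_combination (1) * hm + (2 * ω + 2) * h5)
    (by linear_combination (8) * hm + (4 * ω) * h5)

theorem wF_mul_gF {ω : K} (h5 : (5 : K) = 0) (hm : ω ^ 2 + ω + 1 = 0) :
    wF ω * gF ω = cF ω := by
  unfold wF gF cF
  rw [Matrix.mul_fin_three]
  exact mk3_eq
    (by ring)
    (by ring)
    (by ring)
    (by ring)
    (by ring)
    (by linear_combination (ω + 1) * h5)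
    (by ring)
    (by linear_combination (4 * ω + 3) * h5)
    (by linear_combination (2) * hm + (3 * ω + 3) * h5)

theorem gF_mul_giF {ω : K} (h5 : (5 : K) = 0) (hm : ω ^ 2 + ω + 1 = 0) :
    gF ω * giF ω = 1 := by
  unfold gF giF
  rw [Matrix.mul_fin_three, Matrix.one_fin_three]
  exact mk3_eq
    (by linear_combination (8) * hm + (2 * ω) * h5)
    (by ring)
    (by ring)
    (by linear_combination (20) * hm + (4 * ω) * h5)
    (by linear_combination (4) * hm + (-1) * h5)
    (by ring)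
    (by linear_combination (4) * hm + (2 * ω + 1) * h5)
    (by linear_combination (5) * hm + (-1) * h5)
    (by linear_combination (3) * hm + (2 * ω) * h5)

theorem uF_mul_uiF {ω : K} (h5 : (5 : K) = 0) (hm : ω ^ 2 + ω + 1 = 0) :
    uF ω * uiF ω = 1 := by
  unfold uF uiF
  rw [Matrix.mul_fin_three, Matrix.one_fin_three]
  exact mk3_eq
    (by ring)
    (by linear_combination (ω + 1) * h5)
    (by linear_combination (4) * hm + (3 * ω + 1) * h5)
    (by ring)
    (by ring)
    (by linear_combination (ω + 1) * h5)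
    (by ring)
    (by ring)
    (by ring)

theorem wF_mul_wiF {ω : K} (h5 : (5 : K) = 0) (hm : ω ^ 2 + ω + 1 = 0) :
    wF ω * wiF ω = 1 := by
  unfold wF wiF
  rw [Matrix.mul_fin_three, Matrix.one_fin_three]
  exact mk3_eq
    (by ring)
    (by ring)
    (by ring)
    (by linear_combination (1) * h5)
    (by ring)
    (by ring)
    (by linear_combination (ω + 4) * h5)
    (by linear_combination (1) * h5)
    (by ring)

theorem adj_gF {σ : K →+* K} {ω : K} (h5 : (5 : K) = 0) (hm : ω ^ 2 + ω + 1 = 0) (hσω : σ ω = -1 - ω) :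
    adj σ (gF ω) = giF ω := by
  unfold gF giF
  rw [adj3']
  exact mk3_eq
    (by simp only [map_add, map_mul, map_pow, map_one, map_zero, map_ofNat, hσω] <;> ring)
    (by simp only [map_add, map_mul, map_pow, map_one, map_zero, map_ofNat, hσω] <;> linear_combination (-ω) * h5)
    (by simp only [map_add, map_mul, map_pow, map_one, map_zero, map_ofNat, hσω] <;> linear_combination (-ω) * h5)
    (by simp only [map_add, map_mul, map_pow, map_one, map_zero, map_ofNat, hσω] <;> linear_combination (-ω - 1) * h5)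
    (by simp only [map_add, map_mul, map_pow, map_one, map_zero, map_ofNat, hσω] <;> linear_combination (-ω) * h5)
    (by simp only [map_add, map_mul, map_pow, map_one, map_zero, map_ofNat, hσω] <;> ring)
    (by simp only [map_add, map_mul, map_pow, map_one, map_zero, map_ofNat, hσω] <;> linear_combination (-ω) * h5)
    (by simp only [map_add, map_mul, map_pow, map_one, map_zero, map_ofNat, hσω] <;> ring)
    (by simp only [map_add, map_mul, map_pow, map_one, map_zero, map_ofNat, hσω] <;> ring)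

theorem adj_uF {σ : K →+* K} {ω : K} (h5 : (5 : K) = 0) (hm : ω ^ 2 + ω + 1 = 0) (hσω : σ ω = -1 - ω) :
    adj σ (uF ω) = uiF ω := by
  unfold uF uiF
  rw [adj3']
  exact mk3_eq
    (by simp only [map_add, map_mul, map_pow, map_one, map_zero, map_ofNat, hσω] <;> ring)
    (by simp only [map_add, map_mul, map_pow, map_one, map_zero, map_ofNat, hσω] <;> linear_combination (-ω) * h5)
    (by simp only [map_add, map_mul, map_pow, map_one, map_zero, map_ofNat, hσω] <;> linear_combination (-ω - 1) * h5)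
    (by simp only [map_add, map_mul, map_pow, map_one, map_zero, map_ofNat, hσω] <;> ring)
    (by simp only [map_add, map_mul, map_pow, map_one, map_zero, map_ofNat, hσω] <;> ring)
    (by simp only [map_add, map_mul, map_pow, map_one, map_zero, map_ofNat, hσω] <;> linear_combination (-ω) * h5)
    (by simp only [map_add, map_mul, map_pow, map_one, map_zero, map_ofNat, hσω] <;> ring)
    (by simp only [map_add, map_mul, map_pow, map_one, map_zero, map_ofNat, hσω] <;> ring)
    (by simp only [map_add, map_mul, map_pow, map_one, map_zero, map_ofNat, hσω] <;> ring)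

theorem adj_wF {σ : K →+* K} {ω : K} (h5 : (5 : K) = 0) (hm : ω ^ 2 + ω + 1 = 0) (hσω : σ ω = -1 - ω) :
    adj σ (wF ω) = wiF ω := by
  unfold wF wiF
  rw [adj3']
  exact mk3_eq
    (by simp only [map_add, map_mul, map_pow, map_one, map_zero, map_ofNat, hσω] <;> ring)
    (by simp only [map_add, map_mul, map_pow, map_one, map_zero, map_ofNat, hσω] <;> ring)
    (by simp only [map_add, map_mul, map_pow, map_one, map_zero, map_ofNat, hσω] <;> ring)
    (by simp only [map_add, map_mul, map_pow, map_one, map_zero, map_ofNat, hσω] <;> ring)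
    (by simp only [map_add, map_mul, map_pow, map_one, map_zero, map_ofNat, hσω] <;> ring)
    (by simp only [map_add, map_mul, map_pow, map_one, map_zero, map_ofNat, hσω] <;> ring)
    (by simp only [map_add, map_mul, map_pow, map_one, map_zero, map_ofNat, hσω] <;> linear_combination (-ω - 1) * h5)
    (by simp only [map_add, map_mul, map_pow, map_one, map_zero, map_ofNat, hσω] <;> ring)
    (by simp only [map_add, map_mul, map_pow, map_one, map_zero, map_ofNat, hσω] <;> ring)

theorem det_gF {ω : K} (h5 : (5 : K) = 0) (hm : ω ^ 2 + ω + 1 = 0) :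
    (gF ω).det = 1 := by
  unfold gF
  rw [det3]
  linear_combination (-8 * ω - 44) * hm + (-8 * ω - 1) * h5

theorem det_wF {ω : K} (h5 : (5 : K) = 0) (hm : ω ^ 2 + ω + 1 = 0) :
    (wF ω).det = 1 := by
  unfold wF
  rw [det3]
  ring

theorem neg_sig_al {σ : K →+* K} {ω : K} (h5 : (5 : K) = 0) (hσω : σ ω = -1 - ω) :
    -σ (ω + 3) = ω + 3 := by
  simp only [map_add, map_mul, map_pow, map_one, map_zero, map_ofNat, hσω] <;> linear_combination (-1) * h5

theorem tau_eq {σ : K →+* K} {ω : K} (h5 : (5 : K) = 0) (hm : ω ^ 2 + ω + 1 = 0) (hσω : σ ω = -1 - ω) :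
    (2 * ω + 3) * σ (ω + 1) = 4 * ω + 2 := by
  simp only [map_add, map_mul, map_pow, map_one, map_zero, map_ofNat, hσω] <;> linear_combination (-2) * hm + (-ω) * h5

theorem sig_tau5 {σ : K →+* K} {ω : K} (h5 : (5 : K) = 0) (hσω : σ ω = -1 - ω) :
    σ (4 * ω + 2) = ω + 3 := by
  simp only [map_add, map_mul, map_pow, map_one, map_zero, map_ofNat, hσω] <;> linear_combination (-ω - 1) * h5

section main

variable [Fintype K]

/-- **the case `q = 5`**: all root groups lie in `⟨u, g u g⁻¹⟩` -/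
theorem su3_q5_Rt (hK : Fintype.card K = 5 ^ 2) :
    ∃ u g : ↥(UJ (frobHom hK) 3),
      (IsNilpotent (((u : SpecialLinearGroup (Fin 3) K) : Matrix (Fin 3) (Fin 3) K) - 1) ∧
        (((u : SpecialLinearGroup (Fin 3) K) : Matrix (Fin 3) (Fin 3) K) - 1) ^ (3 - 1) ≠ 0) ∧
      ∀ v : Fin 3 → K, hJ (frobHom hK) v v = 0 →
        v ∈ Rt (σ := frobHom hK)
          ((Subgroup.closure ({u, g * u * g⁻¹} : Set ↥(UJ (frobHom hK) 3))).map
            (UJ (frobHom hK) 3).subtype) := by
  classical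
  set σ : K →+* K := frobHom hK with hσdef
  have hσ : ∀ x, σ (σ x) = x := fun x =>
    Cfsg.Agent.Lib.Helper5.HermBridge.pow_q_pow_q hK x
  have h5 : (5 : K) = 0 := five_eq_zero hK
  obtain ⟨ω, hm⟩ := exists_omega hK
  have hσω : σ ω = -1 - ω := by
    show ω ^ 5 = -1 - ω
    linear_combination (ω ^ 3 - ω ^ 2 + 1) * hm
  have h10 : (1 : K) ≠ 0 := one_ne_zero
  -- the elements
  have hbe : (4 * ω + 1) + σ (4 * ω + 1) + (ω + 3) * σ (ω + 3) = 0 := by
    simp only [map_add, map_mul, map_one, map_ofNat, hσω]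
    linear_combination (-1) * hm + h5
  have hwrel : ω + σ ω + 1 * σ 1 = 0 := by
    rw [hσω, map_one]; ring
  set uS : SpecialLinearGroup (Fin 3) K := uU σ (ω + 3) (4 * ω + 1) with huS
  set wS : SpecialLinearGroup (Fin 3) K := vL σ 1 ω with hwS
  have huS_mem : uS ∈ UJ σ 3 := uU_mem hσ hbe
  have hwS_mem : wS ∈ UJ σ 3 := vL_mem hσ hwrel
  have huF : ((uS : SpecialLinearGroup (Fin 3) K) : Matrix (Fin 3) (Fin 3) K) = uF ω := by
    show uUm σ (ω + 3) (4 * ω + 1) = uF ω
    unfold uUm uF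
    rw [neg_sig_al h5 hσω]
  have hwF : ((wS : SpecialLinearGroup (Fin 3) K) : Matrix (Fin 3) (Fin 3) K) = wF ω := by
    show vLm σ 1 ω = wF ω
    unfold vLm wF
    rw [map_one]
    exact mk3_eq rfl rfl rfl rfl rfl rfl rfl (by linear_combination (-1 : K) * h5) rfl
  set gS : SpecialLinearGroup (Fin 3) K := ⟨gF ω, det_gF h5 hm⟩ with hgS
  have hgS_mem : gS ∈ UJ σ 3 := by
    refine mem_UJ.2 ?_
    show gF ω * adj σ (gF ω) = 1
    rw [adj_gF h5 hm hσω, gF_mul_giF h5 hm]
  have hconj : gS * uS * gS⁻¹ = wS := by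
    have e : gS * uS = wS * gS := by
      apply Subtype.ext
      rw [Matrix.SpecialLinearGroup.coe_mul, Matrix.SpecialLinearGroup.coe_mul, huF, hwF]
      show gF ω * uF ω = wF ω * gF ω
      rw [gF_mul_uF h5 hm, wF_mul_gF h5 hm]
    rw [e, mul_inv_cancel_right]
  -- the subgroup
  set X : Subgroup (SpecialLinearGroup (Fin 3) K) := Subgroup.closure {uS, wS} with hXdef
  have huX : uS ∈ X := Subgroup.subset_closure (by simp)
  have hwX : wS ∈ X := Subgroup.subset_closure (by simp)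
  have hX : X ≤ UJ σ 3 := by
    rw [hXdef, Subgroup.closure_le]
    rintro y (rfl | rfl)
    · exact huS_mem
    · exact hwS_mem
  -- the word
  obtain ⟨xS, hxS⟩ : ∃ xS : SpecialLinearGroup (Fin 3) K, xS = wS * uS * wS * wS := ⟨_, rfl⟩
  have hxX : xS ∈ X := by
    rw [hxS]
    exact X.mul_mem (X.mul_mem (X.mul_mem hwX huX) hwX) hwX
  have hxF : ((xS : SpecialLinearGroup (Fin 3) K) : Matrix (Fin 3) (Fin 3) K) = xF ω := by
    rw [hxS]
    simp only [Matrix.SpecialLinearGroup.coe_mul]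
    rw [huF, hwF, wF_mul_uF h5 hm, q1F_mul_wF h5 hm, q2F_mul_wF h5 hm]
  -- small facts about `ω`
  have h3ne : (3 : K) ≠ 0 := by
    intro h
    exact h10 (by linear_combination 2 * h - h5)
  have hω0 : ω ≠ 0 := by
    intro h
    rw [h] at hm
    norm_num at hm
  have hne : ∃ z, σ z ≠ z := by
    refine ⟨ω, ?_⟩
    rw [hσω]
    intro h
    apply h3ne
    linear_combination 4 * hm - (-2 * ω - 1) * h
  have hα : ω + 3 ≠ 0 := by
    intro h
    apply h10
    linear_combination 3 * hm - (3 * ω - 6) * h - 4 * h5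
  have hsk : ∀ c, σ c = -c → ∃ z, z - σ z = c := by
    intro c hc
    obtain ⟨s, hs⟩ := Cfsg.Agent.Lib.Helper8.SUField.exists_frob_sub_eq hK c hc
    refine ⟨-s, ?_⟩
    rw [map_neg]
    have : σ s = s ^ 5 := rfl
    rw [this]
    linear_combination hs
  have hτne : σ (4 * ω + 2) ≠ 4 * ω + 2 := by
    rw [sig_tau5 h5 hσω]
    intro h
    apply h10
    have h13 : (13 : K) = 0 := by linear_combination 9 * hm + (3 * ω + 4) * h
    linear_combination 2 * h13 - 5 * h5
  have hfield : ∀ M : AddSubgroup K, (∃ a ∈ M, a ≠ 0) →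
      (∀ y ∈ M, ((xS : SpecialLinearGroup (Fin 3) K) : Matrix (Fin 3) (Fin 3) K) 0 0 *
        σ (((xS : SpecialLinearGroup (Fin 3) K) : Matrix (Fin 3) (Fin 3) K) 1 1) * y ∈ M) →
      M = ⊤ := by
    intro M ⟨a, haM, ha0⟩ hst
    rw [hxF] at hst
    have e : xF ω 0 0 * σ (xF ω 1 1) = 4 * ω + 2 := by
      show (2 * ω + 3) * σ (ω + 1) = 4 * ω + 2
      exact tau_eq h5 hm hσω
    rw [e] at hst
    have htop : Cfsg.Agent.Lib.Helper1.SUMuField.mulStab M = ⊤ :=
      subfield_top_25 hK _ _ hst hτne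
    rw [eq_top_iff]
    intro y _
    have h4 : y / a ∈ Cfsg.Agent.Lib.Helper1.SUMuField.mulStab M := by
      rw [htop]; exact Subfield.mem_top _
    have h5' := h4 _ haM
    rwa [div_mul_cancel₀ _ ha0] at h5'
  have hall := Cfsg.Agent.Lib.Helper5.SU3C.core_of_borel hσ hX hne hsk huX hwX hxX
    (α := ω + 3) (β := 4 * ω + 1) rfl hα
    (by rw [hwF]; show ω ≠ 0; exact hω0)
    (by rw [hxF]; rfl) (by rw [hxF]; rfl) hfield
  -- package
  refine ⟨⟨uS, huS_mem⟩, ⟨gS, hgS_mem⟩, ?_, ?_⟩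
  · exact Cfsg.Agent.Lib.Helper5.SU3C.uUM_regular (σ := σ) hα (4 * ω + 1)
  · have hmap : (Subgroup.closure ({⟨uS, huS_mem⟩, (⟨gS, hgS_mem⟩ : ↥(UJ σ 3)) * ⟨uS, huS_mem⟩ *
        (⟨gS, hgS_mem⟩ : ↥(UJ σ 3))⁻¹} : Set ↥(UJ σ 3))).map (UJ σ 3).subtype = X := by
      rw [MonoidHom.map_closure, hXdef, Set.image_pair]
      have e : (UJ σ 3).subtype ((⟨gS, hgS_mem⟩ : ↥(UJ σ 3)) * ⟨uS, huS_mem⟩ *
          (⟨gS, hgS_mem⟩ : ↥(UJ σ 3))⁻¹) = wS := hconj
      rw [e]
      rfl
    rw [hmap]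
    exact hall

/-- **the case `q = 5` of S2283** in the antidiagonal model -/
theorem su3_q5 (hK : Fintype.card K = 5 ^ 2) :
    ∃ u g : ↥(UJ (frobHom hK) 3),
      (IsNilpotent (((u : SpecialLinearGroup (Fin 3) K) : Matrix (Fin 3) (Fin 3) K) - 1) ∧
        (((u : SpecialLinearGroup (Fin 3) K) : Matrix (Fin 3) (Fin 3) K) - 1) ^ (3 - 1) ≠ 0) ∧
      Subgroup.closure ({u, g * u * g⁻¹} : Set ↥(UJ (frobHom hK) 3)) = ⊤ := by
  obtain ⟨u, g, hreg, hall⟩ := su3_q5_Rt hK
  exact ⟨u, g, hreg, Cfsg.Agent.Lib.Helper23.SUBridge.closure_eq_top_of_Rt_all hK le_rfl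
    (by norm_num) _ hall⟩

end main

end Cfsg.Agent.Lib.Helper20.SU3Q5
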