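/-
helper20: S2283, the case `q = 8` (the hole of the generic Bruhat-word proof).
In `UJ (frobHom hK) 3` (antidiagonal model of helper16), `|K| = 64`: pick `t` with `t^8 = t + 1`,
`t^2 + t + 1 ≠ 0` (so `t^6 + t^5 + t^3 + t^2 + 1 = 0`, `σ t = t + 1`), `w := v(1,t)`,
`u := u(t^3, t^5+t^3+t^2)`; the word `x := w u u w u w` is upper triangular and acts on `U/Z = K` by
`τ = t^4+t^3+t^2+t+1`, which lies in no proper subfield (`τ^4 ≠ τ`, `τ^8 ≠ τ`).  Hence
`M = {a | u(a,·) ∈ X}` is everything, squares give the full centre `Z`, and helper4's `endgame3`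
gives all root groups.  The explicit matrix identities are closed by machine-generated
`linear_combination` certificates modulo `(t^6+t^5+t^3+t^2+1, 2)`.
-/
import Mathlib
import Cfsg.Agent.Lib.Helper4.SU3End
import Cfsg.Agent.Lib.Helper16.FusSUM
import Cfsg.Agent.Lib.Helper8.SUField
import Cfsg.Agent.Lib.Helper1.SUMuField
import Cfsg.Agent.Lib.Helper23.SUBridge2

set_option autoImplicit false
set_option linter.unusedVariables false
set_option linter.unusedSectionVars false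
set_option linter.unusedSimpArgs false
set_option linter.style.haveILetI false
set_option linter.unnecessarySeqFocus false
set_option linter.unreachableTactic false
set_option linter.unusedTactic false

namespace Cfsg.Agent.Lib.Helper20.SU3Q8

open Matrix Cfsg.Agent.Lib.Helper16.FusSU Cfsg.Agent.Lib.Helper4.SU3
open Cfsg.Agent.Lib.Helper5.HermBridge (frobHom)

variable {K : Type*} [Field K]

/-! ### generic `3 × 3` helpers -/

theorem mk3_eq {a00 a01 a02 a10 a11 a12 a20 a21 a22 b00 b01 b02 b10 b11 b12 b20 b21 b22 : K}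
    (h00 : a00 = b00) (h01 : a01 = b01) (h02 : a02 = b02) (h10 : a10 = b10) (h11 : a11 = b11)
    (h12 : a12 = b12) (h20 : a20 = b20) (h21 : a21 = b21) (h22 : a22 = b22) :
    !![a00, a01, a02; a10, a11, a12; a20, a21, a22] =
      !![b00, b01, b02; b10, b11, b12; b20, b21, b22] := by
  subst h00 h01 h02 h10 h11 h12 h20 h21 h22
  rfl

theorem adj3 (σ : K →+* K) (a00 a01 a02 a10 a11 a12 a20 a21 a22 : K) :
    adj σ !![a00, a01, a02; a10, a11, a12; a20, a21, a22] =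
      !![σ a22, σ a12, σ a02; σ a21, σ a11, σ a01; σ a20, σ a10, σ a00] := by
  ext i j
  fin_cases i <;> fin_cases j <;> rfl

theorem mulVec3 (a00 a01 a02 a10 a11 a12 a20 a21 a22 x y z : K) :
    !![a00, a01, a02; a10, a11, a12; a20, a21, a22] *ᵥ ![x, y, z] =
      ![a00 * x + a01 * y + a02 * z, a10 * x + a11 * y + a12 * z, a20 * x + a21 * y + a22 * z] := by
  ext i
  fin_cases i <;> simp [Matrix.mulVec, dotProduct, Fin.sum_univ_three]

theorem det3 (a b c d e f g h i : K) :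
    (!![a, b, c; d, e, f; g, h, i]).det =
      a * e * i - a * f * h - b * d * i + b * f * g + c * d * h - c * e * g := by
  rw [Matrix.det_fin_three]
  rfl

/-! ### the field with `64` elements -/

section field

variable [Fintype K]

theorem two_eq_zero (hK : Fintype.card K = 8 ^ 2) : (2 : K) = 0 := by
  haveI := ringChar.charP K
  obtain ⟨n, hp, hc⟩ := FiniteField.card K (ringChar K)
  have h1 : ringChar K ∣ 2 ^ 6 := by
    have : ringChar K ∣ ringChar K ^ (n : ℕ) := dvd_pow_self _ n.pos.ne'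
    rw [← hc, hK] at this
    exact this
  have h2 : ringChar K = 2 := (Nat.prime_dvd_prime_iff_eq hp Nat.prime_two).1
    (hp.dvd_of_dvd_pow h1)
  have h3 : ((ringChar K : ℕ) : K) = 0 := CharP.cast_eq_zero K (ringChar K)
  rw [h2] at h3
  exact_mod_cast h3

theorem frob_add (hK : Fintype.card K = 8 ^ 2) (x y : K) : (x + y) ^ 8 = x ^ 8 + y ^ 8 :=
  (frobHom hK).map_add x y

/-- an element `t` with `σ t = t + 1` outside the field with four elements -/
theorem exists_t (hK : Fintype.card K = 8 ^ 2) :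
    ∃ t : K, t ^ 8 = t + 1 ∧ t ^ 2 + t + 1 ≠ 0 := by
  have h2 := two_eq_zero hK
  obtain ⟨γ, hγ⟩ := Cfsg.Agent.Lib.Helper8.SUField.exists_trace_eq hK (1 : K) (one_pow 8)
  have hγ8 : γ ^ 8 = γ + 1 := by linear_combination hγ - γ * h2
  by_cases h : γ ^ 2 + γ + 1 = 0
  · obtain ⟨g, hg0, hord, -⟩ := Cfsg.Agent.Lib.Helper8.SUField.exists_gen (F := K)
    rw [hK] at hord
    have hc7 : (g ^ 9) ^ 7 = 1 := by
      rw [← pow_mul]
      have := pow_orderOf_eq_one g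
      rw [hord] at this
      exact this
    have hc8 : (g ^ 9) ^ 8 = g ^ 9 := by
      rw [pow_succ, hc7, one_mul]
    have hc1 : g ^ 9 ≠ 1 := pow_ne_one_of_lt_orderOf (by norm_num) (by rw [hord]; norm_num)
    have hc0 : g ^ 9 ≠ 0 := pow_ne_zero _ hg0
    refine ⟨γ + g ^ 9, ?_, ?_⟩
    · rw [frob_add hK, hγ8, hc8]; ring
    · have e : (γ + g ^ 9) ^ 2 + (γ + g ^ 9) + 1 = g ^ 9 * (g ^ 9 + 1) := by
        linear_combination h + (γ * g ^ 9) * h2
      rw [e]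
      refine mul_ne_zero hc0 ?_
      intro h1
      apply hc1
      linear_combination h1 - h2
  · exact ⟨γ, hγ8, h⟩

theorem min_poly_of {t : K} (h2 : (2 : K) = 0) (ht : t ^ 8 = t + 1) (hne : t ^ 2 + t + 1 ≠ 0) :
    t ^ 6 + t ^ 5 + t ^ 3 + t ^ 2 + 1 = 0 := by
  have h : (t ^ 2 + t + 1) * (t ^ 6 + t ^ 5 + t ^ 3 + t ^ 2 + 1) = 0 := by
    linear_combination ht + (t ^ 7 + t ^ 6 + t ^ 5 + t ^ 4 + t ^ 3 + t ^ 2 + t + 1) * h2
  exact (mul_eq_zero.1 h).resolve_left hne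

/-- a subfield of a field with `64` elements containing an element outside the subfields with
`4` and `8` elements is everything -/
theorem subfield_top_64 (hK : Fintype.card K = 8 ^ 2) (S : Subfield K) (τ : K) (hτ : τ ∈ S)
    (h4 : τ ^ 4 ≠ τ) (h8 : τ ^ 8 ≠ τ) : S = ⊤ := by
  classical
  set r := Fintype.card S with hr
  set e := Module.finrank S K with he
  have hcard : 8 ^ 2 = r ^ e := by
    rw [← hK]
    exact Module.card_eq_pow_finrank
  have hr2 : 2 ≤ r := Fintype.one_lt_card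
  have he_pos : 0 < e := Module.finrank_pos
  have hpow : τ ^ r = τ := by
    have h2 := FiniteField.pow_card (⟨τ, hτ⟩ : S)
    have h3 := congrArg (Subtype.val) h2
    simpa using h3
  have he1 : e = 1 := by
    by_contra hne
    have he2 : 2 ≤ e := by omega
    have hr8 : r ≤ 8 := by
      by_contra hlt
      have h9 : 9 ≤ r := by omega
      have : 9 ^ 2 ≤ r ^ e :=
        le_trans (Nat.pow_le_pow_left h9 2) (Nat.pow_le_pow_right (by omega) he2)
      omega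
    have hdvd : r ∣ 64 := by
      have : r ∣ r ^ e := dvd_pow_self r he_pos.ne'
      rw [← hcard] at this
      exact this
    interval_cases r
    · apply h4
      calc τ ^ 4 = (τ ^ 2) ^ 2 := by ring
        _ = τ := by rw [hpow, hpow]
    · omega
    · exact h4 hpow
    · omega
    · omega
    · omega
    · exact h8 hpow
  have hcardS : Fintype.card S = Fintype.card K := by
    rw [hK, hcard, he1, pow_one]
  have hbij : Function.Bijective (S.subtype : S → K) :=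
    (Fintype.bijective_iff_injective_and_card _).2 ⟨S.subtype_injective, hcardS⟩
  rw [eq_top_iff]
  intro x _
  obtain ⟨y, hy⟩ := hbij.2 x
  rw [← hy]
  exact y.2

end field

/-! ### explicit matrices (machine generated) -/

/-- explicit matrix `wE` -/
def wE (t : K) : Matrix (Fin 3) (Fin 3) K :=
  !![1, 0, 0; 1, 1, 0; t, 1, 1]

/-- explicit matrix `uE` -/
def uE (t : K) : Matrix (Fin 3) (Fin 3) K :=
  !![1, t ^ 3, t ^ 5 + t ^ 3 + t ^ 2; 0, 1, t ^ 3 + t ^ 2 + t + 1; 0, 0, 1]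

/-- explicit matrix `p1E` -/
def p1E (t : K) : Matrix (Fin 3) (Fin 3) K :=
  !![1, t ^ 3, t ^ 5 + t ^ 3 + t ^ 2; 1, t ^ 3 + 1, t ^ 5 + t + 1; t, t ^ 4 + 1, t ^ 5 + t ^ 4 + t ^ 3 + t + 1]

/-- explicit matrix `p2E` -/
def p2E (t : K) : Matrix (Fin 3) (Fin 3) K :=
  !![1, 0, t ^ 4 + t ^ 2 + 1; 1, 1, t ^ 4 + t ^ 2 + 1; t, 1, t ^ 5 + t ^ 3 + t + 1]

/-- explicit matrix `p3E` -/
def p3E (t : K) : Matrix (Fin 3) (Fin 3) K :=
  !![t ^ 5 + t ^ 3 + t + 1, t ^ 4 + t ^ 2 + 1, t ^ 4 + t ^ 2 + 1; t ^ 5 + t ^ 3 + t, t ^ 4 + t ^ 2, t ^ 4 + t ^ 2 + 1; t ^ 5 + t ^ 4 + t ^ 3, t ^ 5 + t ^ 3 + t, t ^ 5 + t ^ 3 + t + 1]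

/-- explicit matrix `p4E` -/
def p4E (t : K) : Matrix (Fin 3) (Fin 3) K :=
  !![t ^ 5 + t ^ 3 + t + 1, t ^ 5 + t + 1, t ^ 5 + t + 1; t ^ 5 + t ^ 3 + t, t ^ 5 + t ^ 3 + t, 0; t ^ 5 + t ^ 4 + t ^ 3, t ^ 5 + t ^ 4 + t + 1, t ^ 5 + t ^ 4 + t + 1]

/-- explicit matrix `xE` -/
def xE (t : K) : Matrix (Fin 3) (Fin 3) K :=
  !![t ^ 5 + t + 1, 0, t ^ 5 + t + 1; 0, t ^ 5 + t ^ 3 + t, 0; 0, 0, t ^ 5 + t ^ 4 + t + 1]

/-- explicit matrix `gE` -/
def gE (t : K) : Matrix (Fin 3) (Fin 3) K :=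
  !![0, 0, t ^ 3 + t; 0, t ^ 5 + t ^ 2 + 1, t ^ 5 + t ^ 4 + t ^ 2 + t + 1; t ^ 3 + 1, t ^ 5 + t ^ 3 + t ^ 2 + t + 1, t ^ 4 + 1]

/-- explicit matrix `giE` -/
def giE (t : K) : Matrix (Fin 3) (Fin 3) K :=
  !![t ^ 4, t ^ 5 + t ^ 2 + 1, t ^ 3 + t ^ 2; t ^ 5 + t ^ 4 + t ^ 3 + t + 1, t ^ 5 + t ^ 4 + t ^ 2 + t + 1, 0; t ^ 3 + t ^ 2 + t, 0, 0]

/-- explicit matrix `cE` -/
def cE (t : K) : Matrix (Fin 3) (Fin 3) K :=
  !![0, 0, t ^ 3 + t; 0, t ^ 5 + t ^ 2 + 1, t ^ 5 + t ^ 4 + t ^ 3 + t ^ 2 + 1; t ^ 3 + 1, t ^ 3 + t, t ^ 5 + t ^ 4 + t]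

theorem wE_mul_uE {t : K} (h2 : (2 : K) = 0) (hm : t ^ 6 + t ^ 5 + t ^ 3 + t ^ 2 + 1 = 0) :
    wE t * uE t = p1E t := by
  unfold wE uE p1E
  rw [Matrix.mul_fin_three]
  exact mk3_eq
    (by ring)
    (by ring)
    (by ring)
    (by ring)
    (by ring)
    (by linear_combination (t ^ 3 + t ^ 2) * h2)
    (by ring)
    (by ring)
    (by linear_combination (1) * hm + (-t ^ 5) * h2)

theorem p1E_mul_uE {t : K} (h2 : (2 : K) = 0) (hm : t ^ 6 + t ^ 5 + t ^ 3 + t ^ 2 + 1 = 0) :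
    p1E t * uE t = p2E t := by
  unfold p1E uE p2E
  rw [Matrix.mul_fin_three]
  exact mk3_eq
    (by ring)
    (by linear_combination (t ^ 3) * h2)
    (by linear_combination (1) * hm + (t ^ 5 + t ^ 3 - 1) * h2)
    (by ring)
    (by linear_combination (t ^ 3) * h2)
    (by linear_combination (1) * hm + (t ^ 5 + t ^ 3 + t) * h2)
    (by ring)
    (by linear_combination (t ^ 4) * h2)
    (by linear_combination (t + 1) * hm + (t ^ 4) * h2)

theorem p2E_mul_wE {t : K} (h2 : (2 : K) = 0) (hm : t ^ 6 + t ^ 5 + t ^ 3 + t ^ 2 + 1 = 0) :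
    p2E t * wE t = p3E t := by
  unfold p2E wE p3E
  rw [Matrix.mul_fin_three]
  exact mk3_eq
    (by ring)
    (by ring)
    (by ring)
    (by linear_combination (1) * h2)
    (by linear_combination (1) * h2)
    (by ring)
    (by linear_combination (1) * hm + (-t ^ 5 - t ^ 3 + t) * h2)
    (by linear_combination (1) * h2)
    (by ring)

theorem p3E_mul_uE {t : K} (h2 : (2 : K) = 0) (hm : t ^ 6 + t ^ 5 + t ^ 3 + t ^ 2 + 1 = 0) :
    p3E t * uE t = p4E t := by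
  unfold p3E uE p4E
  rw [Matrix.mul_fin_three]
  exact mk3_eq
    (by ring)
    (by linear_combination (t ^ 2 - t + 2) * hm + (-2 * t ^ 5 + t ^ 4 - t ^ 2 - 1) * h2)
    (by linear_combination (t ^ 4 - t ^ 3 + 3 * t ^ 2 - 2 * t + 5) * hm + (-2 * t ^ 5 + t ^ 4 + t ^ 3 - 2 * t ^ 2 + t - 2) * h2)
    (by ring)
    (by linear_combination (t ^ 2 - t + 2) * hm + (-2 * t ^ 5 + t ^ 4 - t ^ 3 - t ^ 2 - 1) * h2)
    (by linear_combination (t ^ 4 - t ^ 3 + 3 * t ^ 2 - 2 * t + 5) * hm + (-2 * t ^ 5 + t ^ 4 - 3 * t ^ 2 + t - 2) * h2)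
    (by ring)
    (by linear_combination (t ^ 2 + 1) * hm + (-t ^ 5 - t ^ 4 - t ^ 2 - 1) * h2)
    (by linear_combination (t ^ 4 + 3 * t ^ 2 - t + 4) * hm + (-2 * t ^ 5 - t ^ 4 - 3 * t ^ 2 + t - 2) * h2)

theorem p4E_mul_wE {t : K} (h2 : (2 : K) = 0) (hm : t ^ 6 + t ^ 5 + t ^ 3 + t ^ 2 + 1 = 0) :
    p4E t * wE t = xE t := by
  unfold p4E wE xE
  rw [Matrix.mul_fin_three]
  exact mk3_eq
    (by linear_combination (1) * hm + (t) * h2)
    (by linear_combination (t ^ 5 + t + 1) * h2)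
    (by ring)
    (by linear_combination (t ^ 5 + t ^ 3 + t) * h2)
    (by ring)
    (by ring)
    (by linear_combination (1) * hm + (t ^ 5 + t ^ 4 + t) * h2)
    (by linear_combination (t ^ 5 + t ^ 4 + t + 1) * h2)
    (by ring)

theorem gE_mul_uE {t : K} (h2 : (2 : K) = 0) (hm : t ^ 6 + t ^ 5 + t ^ 3 + t ^ 2 + 1 = 0) :
    gE t * uE t = cE t := by
  unfold gE uE cE
  rw [Matrix.mul_fin_three]
  exact mk3_eq
    (by ring)
    (by ring)
    (by ring)
    (by ring)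
    (by ring)
    (by linear_combination (t ^ 2 + 1) * hm + (t) * h2)
    (by ring)
    (by linear_combination (1) * hm)
    (by linear_combination (2 * t ^ 2 - t + 4) * hm + (-t ^ 5 + t ^ 4 + t ^ 3 - t ^ 2 + t - 1) * h2)

theorem wE_mul_gE {t : K} (h2 : (2 : K) = 0) (hm : t ^ 6 + t ^ 5 + t ^ 3 + t ^ 2 + 1 = 0) :
    wE t * gE t = cE t := by
  unfold wE gE cE
  rw [Matrix.mul_fin_three]
  exact mk3_eq
    (by ring)
    (by ring)
    (by ring)
    (by ring)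
    (by ring)
    (by linear_combination (t) * h2)
    (by ring)
    (by linear_combination (t ^ 5 + t ^ 2 + 1) * h2)
    (by linear_combination (t ^ 4 + t ^ 2 + 1) * h2)

theorem gE_mul_giE {t : K} (h2 : (2 : K) = 0) (hm : t ^ 6 + t ^ 5 + t ^ 3 + t ^ 2 + 1 = 0) :
    gE t * giE t = 1 := by
  unfold gE giE
  rw [Matrix.mul_fin_three, Matrix.one_fin_three]
  exact mk3_eq
    (by linear_combination (1) * hm + (t ^ 4 - 1) * h2)
    (by ring)
    (by ring)
    (by linear_combination (t ^ 4 + 2 * t ^ 2 + 3) * hm + (t ^ 3 - t ^ 2 + t - 1) * h2)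
    (by linear_combination (t ^ 4 + t) * hm + (t ^ 5 + t ^ 2) * h2)
    (by ring)
    (by linear_combination (t ^ 4 + 2 * t ^ 2 + t + 3) * hm + (-t ^ 2 + t - 1) * h2)
    (by linear_combination (t ^ 4 + 2 * t ^ 2 + 2) * hm + (t ^ 5 + t ^ 3 + t) * h2)
    (by linear_combination (1) * hm + (-1) * h2)

theorem adj_gE {σ : K →+* K} {t : K} (h2 : (2 : K) = 0) (hσt : σ t = t + 1) :
    adj σ (gE t) = giE t := by
  unfold gE giE
  rw [adj3]
  exact mk3_eq
    (by simp only [map_add, map_mul, map_pow, map_one, map_zero, hσt] <;> linear_combination (2 * t ^ 3 + 3 * t ^ 2 + 2 * t + 1) * h2)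
    (by simp only [map_add, map_mul, map_pow, map_one, map_zero, hσt] <;> linear_combination (3 * t ^ 4 + 7 * t ^ 3 + 8 * t ^ 2 + 6 * t + 2) * h2)
    (by simp only [map_add, map_mul, map_pow, map_one, map_zero, hσt] <;> linear_combination (t ^ 2 + 2 * t + 1) * h2)
    (by simp only [map_add, map_mul, map_pow, map_one, map_zero, hσt] <;> linear_combination (2 * t ^ 4 + 5 * t ^ 3 + 7 * t ^ 2 + 5 * t + 2) * h2)
    (by simp only [map_add, map_mul, map_pow, map_one, map_zero, hσt] <;> linear_combination (2 * t ^ 4 + 5 * t ^ 3 + 5 * t ^ 2 + 3 * t + 1) * h2)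
    (by simp only [map_add, map_mul, map_pow, map_one, map_zero, hσt] <;> ring)
    (by simp only [map_add, map_mul, map_pow, map_one, map_zero, hσt] <;> linear_combination (t ^ 2 + t + 1) * h2)
    (by simp only [map_add, map_mul, map_pow, map_one, map_zero, hσt] <;> ring)
    (by simp only [map_add, map_mul, map_pow, map_one, map_zero, hσt] <;> ring)

theorem det_gE {t : K} (h2 : (2 : K) = 0) (hm : t ^ 6 + t ^ 5 + t ^ 3 + t ^ 2 + 1 = 0) :
    (gE t).det = 1 := by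
  unfold gE
  rw [det3]
  linear_combination (-t ^ 5 + t ^ 4 - 2 * t ^ 3 + t ^ 2 - t - 1) * hm + (t ^ 5 - t ^ 4 + t ^ 3) * h2

theorem sig_al {σ : K →+* K} {t : K} (h2 : (2 : K) = 0) (hσt : σ t = t + 1) :
    σ (t ^ 3) = t ^ 3 + t ^ 2 + t + 1 := by
  simp only [map_add, map_mul, map_pow, map_one, map_zero, hσt] <;> linear_combination (t ^ 2 + t) * h2

theorem be_rel {σ : K →+* K} {t : K} (h2 : (2 : K) = 0) (hm : t ^ 6 + t ^ 5 + t ^ 3 + t ^ 2 + 1 = 0) (hσt : σ t = t + 1) :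
    (t ^ 5 + t ^ 3 + t ^ 2) + σ (t ^ 5 + t ^ 3 + t ^ 2) = t ^ 3 * σ (t ^ 3) := by
  simp only [map_add, map_mul, map_pow, map_one, map_zero, hσt] <;> linear_combination (-1) * hm + (t ^ 4 + 6 * t ^ 3 + 8 * t ^ 2 + 5 * t + 2) * h2

theorem x00_eq {t : K} (h2 : (2 : K) = 0) (hm : t ^ 6 + t ^ 5 + t ^ 3 + t ^ 2 + 1 = 0) :
    t ^ 5 + t + 1 = (t ^ 4 + t ^ 3 + t ^ 2 + t + 1) * (t ^ 5 + t ^ 3 + t) := by
  linear_combination (-t ^ 3 - 2 * t + 1) * hm + (-t ^ 5 - t ^ 2 + t) * h2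

theorem x11_eq {t : K} (h2 : (2 : K) = 0) (hm : t ^ 6 + t ^ 5 + t ^ 3 + t ^ 2 + 1 = 0) :
    t ^ 5 + t ^ 3 + t = (t ^ 4 + t ^ 3 + 1) * (t ^ 5 + t ^ 4 + t + 1) := by
  linear_combination (-t ^ 3 - t ^ 2 + 1) * hm + (-t ^ 4 - 1) * h2

theorem x00_eq' {t : K} (h2 : (2 : K) = 0) (hm : t ^ 6 + t ^ 5 + t ^ 3 + t ^ 2 + 1 = 0) :
    t ^ 5 + t + 1 = (t ^ 4 + t ^ 2) * (t ^ 5 + t ^ 4 + t + 1) := by
  linear_combination (-t ^ 3 - t + 1) * hm + (-t ^ 2 + t) * h2

theorem sig_tau {σ : K →+* K} {t : K} (h2 : (2 : K) = 0) (hσt : σ t = t + 1) :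
    σ (t ^ 4 + t ^ 3 + t ^ 2 + t + 1) = t ^ 4 + t ^ 3 + 1 := by
  simp only [map_add, map_mul, map_pow, map_one, map_zero, hσt] <;> linear_combination (2 * t ^ 3 + 5 * t ^ 2 + 5 * t + 2) * h2

theorem tau_pow4 {t : K} (h2 : (2 : K) = 0) (hm : t ^ 6 + t ^ 5 + t ^ 3 + t ^ 2 + 1 = 0) :
    (t ^ 4 + t ^ 3 + t ^ 2 + t + 1) ^ 4 = t ^ 5 + t ^ 2 + t + 1 := by
  linear_combination (t ^ 10 + 3 * t ^ 9 + 7 * t ^ 8 + 12 * t ^ 7 + 19 * t ^ 6 + 23 * t ^ 5 + 25 * t ^ 4 + 21 * t ^ 3 + 15 * t ^ 2 + 5 * t - 2) * hm + (-3 * t ^ 5 - 5 * t ^ 4 - 2 * t ^ 3 - 2 * t ^ 2 - t + 1) * h2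

/-! ### generic upper unitriangular elements -/

/-- the matrix `u(a,b)` -/
def Um (σ : K →+* K) (a b : K) : Matrix (Fin 3) (Fin 3) K := !![1, a, b; 0, 1, σ a; 0, 0, 1]

theorem det_Um (σ : K →+* K) (a b : K) : (Um σ a b).det = 1 := by
  unfold Um
  rw [det3]
  ring

/-- `u(a,b)` as an element of `SL₃` -/
def US (σ : K →+* K) (a b : K) : SpecialLinearGroup (Fin 3) K := ⟨Um σ a b, det_Um σ a b⟩

theorem coe_US (σ : K →+* K) (a b : K) :
    ((US σ a b : SpecialLinearGroup (Fin 3) K) : Matrix (Fin 3) (Fin 3) K) = Um σ a b := rfl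

theorem Um_mul (σ : K →+* K) (a b a' b' : K) :
    Um σ a b * Um σ a' b' = Um σ (a + a') (b + b' + a * σ a') := by
  unfold Um
  rw [Matrix.mul_fin_three]
  exact mk3_eq (by ring) (by ring) (by ring) (by ring) (by ring) (by rw [map_add]; ring)
    (by ring) (by ring) (by ring)

theorem US_mul (σ : K →+* K) (a b a' b' : K) :
    US σ a b * US σ a' b' = US σ (a + a') (b + b' + a * σ a') := by
  apply Subtype.ext
  rw [Matrix.SpecialLinearGroup.coe_mul, coe_US, coe_US, coe_US, Um_mul]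

theorem Um_zero (σ : K →+* K) : Um σ 0 0 = 1 := by
  unfold Um
  rw [map_zero, Matrix.one_fin_three]

theorem US_zero (σ : K →+* K) : US σ 0 0 = 1 := by
  apply Subtype.ext
  rw [coe_US, Um_zero]
  rfl

theorem Um_mem {σ : K →+* K} (hσ : ∀ x, σ (σ x) = x) (h2 : (2 : K) = 0) {a b : K}
    (hb : b + σ b = a * σ a) : Um σ a b * adj σ (Um σ a b) = 1 := by
  unfold Um
  rw [adj3, Matrix.mul_fin_three, Matrix.one_fin_three]
  simp only [map_one, map_zero, hσ]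
  exact mk3_eq (by ring) (by linear_combination a * h2)
    (by linear_combination hb + (a * σ a) * h2) (by ring) (by ring)
    (by linear_combination (σ a) * h2) (by ring) (by ring) (by ring)

theorem US_mem {σ : K →+* K} (hσ : ∀ x, σ (σ x) = x) (h2 : (2 : K) = 0) {a b : K}
    (hb : b + σ b = a * σ a) : US σ a b ∈ UJ σ 3 :=
  mem_UJ.2 (Um_mem hσ h2 hb)

theorem Um_sub_one (σ : K →+* K) (a b : K) :
    Um σ a b - 1 = !![0, a, b; 0, 0, σ a; 0, 0, 0] := by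
  unfold Um
  rw [Matrix.one_fin_three]
  ext i j
  fin_cases i <;> fin_cases j <;> simp

theorem Um_sub_one_sq (σ : K →+* K) (a b : K) :
    (Um σ a b - 1) ^ 2 = !![0, 0, a * σ a; 0, 0, 0; 0, 0, 0] := by
  rw [Um_sub_one, pow_two, Matrix.mul_fin_three]
  exact mk3_eq (by ring) (by ring) (by ring) (by ring) (by ring) (by ring) (by ring) (by ring)
    (by ring)

theorem Um_regular (σ : K →+* K) (a b : K) (ha : a * σ a ≠ 0) :
    IsNilpotent (Um σ a b - 1) ∧ (Um σ a b - 1) ^ 2 ≠ 0 := by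
  constructor
  · refine ⟨3, ?_⟩
    rw [pow_succ, Um_sub_one_sq, Um_sub_one, Matrix.mul_fin_three]
    ext i j
    fin_cases i <;> fin_cases j <;> simp
  · rw [Um_sub_one_sq]
    intro h
    apply ha
    have := congrFun (congrFun h 0) 2
    simpa using this

theorem Um_zero_eq_TJm (σ : K →+* K) (c : K) : Um σ 0 c = TJm σ (eV : Fin 3 → K) c := by
  unfold Um TJm
  rw [Matrix.one_fin_three]
  ext i j
  rw [Matrix.add_apply, Matrix.smul_apply, vecMulVec_apply, sh_apply]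
  fin_cases i <;> fin_cases j <;> simp [eV, Fin.rev]

theorem Um_mulVec (σ : K →+* K) (a b x y z : K) :
    Um σ a b *ᵥ ![x, y, z] = ![x + a * y + b * z, y + σ a * z, z] := by
  unfold Um
  rw [mulVec3]
  refine Matrix.vec3_eq ?_ ?_ ?_ <;> ring

theorem vec_eq_smul_Pt {σ : K →+* K} (hσ : ∀ x, σ (σ x) = x) (p r s : K) (hs : s ≠ 0) :
    Pt σ (σ (r / s)) (p / s) = s⁻¹ • ![p, r, s] := by
  unfold Pt
  rw [hσ]
  ext i
  fin_cases i
  · simp [div_eq_inv_mul]
  · simp [div_eq_inv_mul]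
  · simp [hs]

/-! ### the additive group of parameters -/

/-- the parameters `a` of the elements `u(a,·)` of `X` -/
def MS (σ : K →+* K) (h2 : (2 : K) = 0) (X : Subgroup (SpecialLinearGroup (Fin 3) K)) :
    AddSubgroup K where
  carrier := {a | ∃ b, US σ a b ∈ X}
  zero_mem' := ⟨0, by rw [US_zero]; exact X.one_mem⟩
  add_mem' := by
    rintro a a' ⟨b, hb⟩ ⟨b', hb'⟩
    exact ⟨_, by rw [← US_mul]; exact X.mul_mem hb hb'⟩
  neg_mem' := by
    rintro a ⟨b, hb⟩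
    refine ⟨b, ?_⟩
    have : -a = a := by linear_combination (-a) * h2
    rwa [this]

theorem mem_MS {σ : K →+* K} {h2 : (2 : K) = 0} {X : Subgroup (SpecialLinearGroup (Fin 3) K)}
    {a : K} : a ∈ MS σ h2 X ↔ ∃ b, US σ a b ∈ X := Iff.rfl

/-- conjugation by the word `x` multiplies the parameter by `τ` -/
theorem xE_mul_Um {σ : K →+* K} {t : K} (h2 : (2 : K) = 0)
    (hm : t ^ 6 + t ^ 5 + t ^ 3 + t ^ 2 + 1 = 0) (hσt : σ t = t + 1) (a b : K) :
    xE t * Um σ a b =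
      Um σ ((t ^ 4 + t ^ 3 + t ^ 2 + t + 1) * a) ((t ^ 4 + t ^ 2) * b) * xE t := by
  have e1 := x00_eq h2 hm
  have e2 := x11_eq h2 hm
  have e3 := x00_eq' h2 hm
  have e4 := sig_tau (σ := σ) h2 hσt
  unfold xE Um
  rw [Matrix.mul_fin_three, Matrix.mul_fin_three, map_mul, e4]
  exact mk3_eq (by ring) (by linear_combination a * e1) (by linear_combination b * e3)
    (by ring) (by ring) (by linear_combination (σ a) * e2) (by ring) (by ring) (by ring)

section main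

variable [Fintype K]

/-- **the case `q = 8`**: all root groups lie in `⟨u, g u g⁻¹⟩` -/
theorem su3_q8_Rt (hK : Fintype.card K = 8 ^ 2) :
    ∃ u g : ↥(UJ (frobHom hK) 3),
      (IsNilpotent (((u : SpecialLinearGroup (Fin 3) K) : Matrix (Fin 3) (Fin 3) K) - 1) ∧
        (((u : SpecialLinearGroup (Fin 3) K) : Matrix (Fin 3) (Fin 3) K) - 1) ^ (3 - 1) ≠ 0) ∧
      ∀ v : Fin 3 → K, hJ (frobHom hK) v v = 0 →
        v ∈ Rt (σ := frobHom hK)
          ((Subgroup.closure ({u, g * u * g⁻¹} : Set ↥(UJ (frobHom hK) 3))).map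
            (UJ (frobHom hK) 3).subtype) := by
  classical
  set σ : K →+* K := frobHom hK with hσdef
  have hσ : ∀ x, σ (σ x) = x := fun x =>
    Cfsg.Agent.Lib.Helper5.HermBridge.pow_q_pow_q hK x
  have h2 : (2 : K) = 0 := two_eq_zero hK
  obtain ⟨t, ht8, htne⟩ := exists_t hK
  have hm : t ^ 6 + t ^ 5 + t ^ 3 + t ^ 2 + 1 = 0 := min_poly_of h2 ht8 htne
  have hσt : σ t = t + 1 := ht8
  have ht0 : t ≠ 0 := by
    intro h
    rw [h] at hm
    norm_num at hm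
  have hσt0 : σ t ≠ 0 := by
    intro h
    apply ht0
    have := congrArg σ h
    rwa [hσ, map_zero] at this
  -- the elements
  have hbe : (t ^ 5 + t ^ 3 + t ^ 2) + σ (t ^ 5 + t ^ 3 + t ^ 2) = t ^ 3 * σ (t ^ 3) :=
    be_rel h2 hm hσt
  have huE : Um σ (t ^ 3) (t ^ 5 + t ^ 3 + t ^ 2) = uE t := by
    unfold Um uE
    rw [sig_al h2 hσt]
  set uS : SpecialLinearGroup (Fin 3) K := US σ (t ^ 3) (t ^ 5 + t ^ 3 + t ^ 2) with huS
  have huS_mem : uS ∈ UJ σ 3 := US_mem hσ h2 hbe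
  have hdetw : (wE t).det = 1 := by
    unfold wE
    rw [det3]
    ring
  set wS : SpecialLinearGroup (Fin 3) K := ⟨wE t, hdetw⟩ with hwS
  have hwS_mem : wS ∈ UJ σ 3 := by
    refine mem_UJ.2 ?_
    show wE t * adj σ (wE t) = 1
    unfold wE
    rw [adj3, Matrix.mul_fin_three, Matrix.one_fin_three]
    simp only [map_one, map_zero, hσt]
    exact mk3_eq (by ring) (by ring) (by ring) (by linear_combination h2) (by ring) (by ring)
      (by linear_combination (t + 1) * h2) (by linear_combination h2) (by ring)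
  set gS : SpecialLinearGroup (Fin 3) K := ⟨gE t, det_gE h2 hm⟩ with hgS
  have hgS_mem : gS ∈ UJ σ 3 := by
    refine mem_UJ.2 ?_
    show gE t * adj σ (gE t) = 1
    rw [adj_gE h2 hσt, gE_mul_giE h2 hm]
  have hconj : gS * uS * gS⁻¹ = wS := by
    have e : gS * uS = wS * gS := by
      apply Subtype.ext
      rw [Matrix.SpecialLinearGroup.coe_mul, Matrix.SpecialLinearGroup.coe_mul]
      show gE t * Um σ (t ^ 3) (t ^ 5 + t ^ 3 + t ^ 2) = wE t * gE t
      rw [huE, gE_mul_uE h2 hm, wE_mul_gE h2 hm]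
    rw [e, mul_inv_cancel_right]
  -- the subgroup
  set X : Subgroup (SpecialLinearGroup (Fin 3) K) := Subgroup.closure {uS, wS} with hXdef
  have huX : uS ∈ X := Subgroup.subset_closure (by simp)
  have hwX : wS ∈ X := Subgroup.subset_closure (by simp)
  have hX : X ≤ UJ σ 3 := by
    rw [hXdef, Subgroup.closure_le]
    rintro y (rfl | rfl)
    · exact huS_mem
    · exact hwS_mem
  -- the word
  obtain ⟨xS, hxS⟩ : ∃ xS : SpecialLinearGroup (Fin 3) K, xS = wS * uS * uS * wS * uS * wS :=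
    ⟨_, rfl⟩
  have hxX : xS ∈ X := by
    rw [hxS]
    exact X.mul_mem (X.mul_mem (X.mul_mem (X.mul_mem (X.mul_mem hwX huX) huX) hwX) huX) hwX
  have hxE : ((xS : SpecialLinearGroup (Fin 3) K) : Matrix (Fin 3) (Fin 3) K) = xE t := by
    rw [hxS]
    simp only [Matrix.SpecialLinearGroup.coe_mul]
    show wE t * Um σ (t ^ 3) (t ^ 5 + t ^ 3 + t ^ 2) * Um σ (t ^ 3) (t ^ 5 + t ^ 3 + t ^ 2) * wE t *
      Um σ (t ^ 3) (t ^ 5 + t ^ 3 + t ^ 2) * wE t = xE t
    rw [huE, wE_mul_uE h2 hm, p1E_mul_uE h2 hm, p2E_mul_wE h2 hm, p3E_mul_uE h2 hm,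
      p4E_mul_wE h2 hm]
  -- Lemma M
  have hstab : ∀ a ∈ MS σ h2 X, (t ^ 4 + t ^ 3 + t ^ 2 + t + 1) * a ∈ MS σ h2 X := by
    rintro a ⟨b, hb⟩
    refine ⟨(t ^ 4 + t ^ 2) * b, ?_⟩
    have e : xS * US σ a b = US σ ((t ^ 4 + t ^ 3 + t ^ 2 + t + 1) * a) ((t ^ 4 + t ^ 2) * b) * xS := by
      apply Subtype.ext
      rw [Matrix.SpecialLinearGroup.coe_mul, Matrix.SpecialLinearGroup.coe_mul, hxE, coe_US,
        coe_US, xE_mul_Um h2 hm hσt]
    have e' : US σ ((t ^ 4 + t ^ 3 + t ^ 2 + t + 1) * a) ((t ^ 4 + t ^ 2) * b) =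
        xS * US σ a b * xS⁻¹ := by
      rw [e, mul_inv_cancel_right]
    rw [e']
    exact X.mul_mem (X.mul_mem hxX hb) (X.inv_mem hxX)
  have hτ4 : (t ^ 4 + t ^ 3 + t ^ 2 + t + 1) ^ 4 ≠ t ^ 4 + t ^ 3 + t ^ 2 + t + 1 := by
    rw [tau_pow4 h2 hm]
    intro h
    have h3 : t ^ 3 * (t ^ 2 + t + 1) = 0 := by
      linear_combination h + (t ^ 4 + t ^ 3) * h2
    rcases mul_eq_zero.1 h3 with h | h
    · exact ht0 (pow_eq_zero_iff (by norm_num) |>.1 h)
    · exact htne h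
  have hτ8 : (t ^ 4 + t ^ 3 + t ^ 2 + t + 1) ^ 8 ≠ t ^ 4 + t ^ 3 + t ^ 2 + t + 1 := by
    have e : (t ^ 4 + t ^ 3 + t ^ 2 + t + 1) ^ 8 = σ (t ^ 4 + t ^ 3 + t ^ 2 + t + 1) := rfl
    rw [e, sig_tau h2 hσt]
    intro h
    have h3 : t * σ t = 0 := by
      rw [hσt]
      linear_combination (-1 : K) * h
    rcases mul_eq_zero.1 h3 with h | h
    · exact ht0 h
    · exact hσt0 h
  have hstabtop : Cfsg.Agent.Lib.Helper1.SUMuField.mulStab (MS σ h2 X) = ⊤ :=
    subfield_top_64 hK _ _ hstab hτ4 hτ8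
  have hMtop : ∀ y : K, y ∈ MS σ h2 X := by
    intro y
    have h3 : t ^ 3 ∈ MS σ h2 X := ⟨_, huX⟩
    have h4 : y / t ^ 3 ∈ Cfsg.Agent.Lib.Helper1.SUMuField.mulStab (MS σ h2 X) := by
      rw [hstabtop]; exact Subfield.mem_top _
    have h5 := h4 _ h3
    rwa [div_mul_cancel₀ _ (pow_ne_zero 3 ht0)] at h5
  -- the central root group
  have heV : (eV : Fin 3 → K) ∈ Rt (σ := σ) X := by
    refine ⟨?_, ?_⟩
    · rw [hJ_three]
      simp [eV]
    · intro c hc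
      have hc8 : c ^ 8 = c := by
        have : σ c = c := by rw [hc]; linear_combination (-c) * h2
        exact this
      obtain ⟨α, hα⟩ := Cfsg.Agent.Lib.Helper8.SUField.exists_norm_eq_fixed hK c hc8
      obtain ⟨b, hb⟩ := hMtop α
      refine ⟨US σ α b * US σ α b, X.mul_mem hb hb, ?_⟩
      rw [US_mul, coe_US, ← Um_zero_eq_TJm]
      have e1 : α + α = 0 := by linear_combination α * h2
      have e2 : b + b + α * σ α = c := by
        have : α * σ α = c := hα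
        linear_combination this + b * h2
      rw [e1, e2]
  -- two points
  have hP1 : (![1, 1, t] : Fin 3 → K) ∈ Rt (σ := σ) X := by
    have := Rt_ap hX hwX heV
    have e : ((wS : SpecialLinearGroup (Fin 3) K) : Matrix (Fin 3) (Fin 3) K) *ᵥ (eV : Fin 3 → K) =
        ![1, 1, t] := by
      show wE t *ᵥ (eV : Fin 3 → K) = ![1, 1, t]
      unfold wE eV
      rw [mulVec3]
      refine Matrix.vec3_eq ?_ ?_ ?_ <;> ring
    rwa [e] at this
  have hP2 : (![1 + t ^ 3 * 1 + (t ^ 5 + t ^ 3 + t ^ 2) * t, 1 + σ (t ^ 3) * t, t] : Fin 3 → K) ∈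
      Rt (σ := σ) X := by
    have := Rt_ap hX huX hP1
    rwa [huS, coe_US, Um_mulVec] at this
  have h1 := Rt_smul hσ t⁻¹ hP1
  have h2' := Rt_smul hσ t⁻¹ hP2
  rw [← vec_eq_smul_Pt hσ _ _ _ ht0] at h1 h2'
  have h12 : σ (1 / t) ≠ σ ((1 + σ (t ^ 3) * t) / t) := by
    intro h
    have h3 := congrArg σ h
    rw [hσ, hσ] at h3
    have h4 : σ (t ^ 3) * t = 0 := by
      field_simp at h3
      linear_combination -h3
    rcases mul_eq_zero.1 h4 with h | h
    · rw [map_pow] at h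
      exact hσt0 (pow_eq_zero_iff (by norm_num) |>.1 h)
    · exact ht0 h
  have hall := endgame3 hσ hX ⟨t, by rw [hσt]; intro h; exact one_ne_zero (by linear_combination h)⟩
    heV h1 h2' h12
  -- package
  refine ⟨⟨uS, huS_mem⟩, ⟨gS, hgS_mem⟩, ?_, ?_⟩
  · have hreg := Um_regular σ (t ^ 3) (t ^ 5 + t ^ 3 + t ^ 2)
      (mul_ne_zero (pow_ne_zero 3 ht0) (by rw [map_pow]; exact pow_ne_zero 3 hσt0))
    exact hreg
  · have hmap : (Subgroup.closure ({⟨uS, huS_mem⟩, (⟨gS, hgS_mem⟩ : ↥(UJ σ 3)) * ⟨uS, huS_mem⟩ *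
        (⟨gS, hgS_mem⟩ : ↥(UJ σ 3))⁻¹} : Set ↥(UJ σ 3))).map (UJ σ 3).subtype = X := by
      rw [MonoidHom.map_closure, hXdef, Set.image_pair]
      have e : (UJ σ 3).subtype ((⟨gS, hgS_mem⟩ : ↥(UJ σ 3)) * ⟨uS, huS_mem⟩ *
          (⟨gS, hgS_mem⟩ : ↥(UJ σ 3))⁻¹) = wS := hconj
      rw [e]
      rfl
    rw [hmap]
    exact hall

/-- **the case `q = 8` of S2283** in the antidiagonal model -/
theorem su3_q8 (hK : Fintype.card K = 8 ^ 2) :
    ∃ u g : ↥(UJ (frobHom hK) 3),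
      (IsNilpotent (((u : SpecialLinearGroup (Fin 3) K) : Matrix (Fin 3) (Fin 3) K) - 1) ∧
        (((u : SpecialLinearGroup (Fin 3) K) : Matrix (Fin 3) (Fin 3) K) - 1) ^ (3 - 1) ≠ 0) ∧
      Subgroup.closure ({u, g * u * g⁻¹} : Set ↥(UJ (frobHom hK) 3)) = ⊤ := by
  obtain ⟨u, g, hreg, hall⟩ := su3_q8_Rt hK
  exact ⟨u, g, hreg, Cfsg.Agent.Lib.Helper23.SUBridge.closure_eq_top_of_Rt_all hK le_rfl
    (by norm_num) _ hall⟩

end main

end Cfsg.Agent.Lib.Helper20.SU3Q8
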