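import Mathlib
import Cfsg.Prelude.Def_Transfer
import Cfsg.Agent.Lib.Helper21.SchDefs

/-!
# S4395-IDX (helper21's market): `index_le`

`k' = AddSubgroup.closure {ω^m + ω⁻¹^m}` is a subfield of the finite field `K = 𝔽_p[ω]`, and `K = k' + k' ω`,
so `|K : k'| ≤ 2`; hence every additive subgroup `N ⊇ k'` has index at most `p ^ bb a`.
-/

set_option autoImplicit false
universe u v
open Cfsg
open Cfsg.Agent.Lib.Helper21.Sch

namespace Cfsg.Agent.Lib.Helper20.SchIDX

section
variable {K : Type*} [Field K] (ω : K)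

/-- the generators `ω^m + ω^{-m}` -/
def gen (m : ℕ) : K := ω ^ m + ω⁻¹ ^ m

/-- the additive subgroup generated by them -/
def kk : AddSubgroup K := AddSubgroup.closure (Set.range (gen ω))

theorem gen_mem (m : ℕ) : gen ω m ∈ kk ω := AddSubgroup.subset_closure ⟨m, rfl⟩

theorem gen_mul_gen_eq (hω0 : ω ≠ 0) (k n : ℕ) :
    gen ω (n + k) * gen ω n = gen ω (n + k + n) + gen ω k := by
  simp only [gen, inv_pow, pow_add]
  field_simp
  ring

theorem gen_mul_gen_mem (hω0 : ω ≠ 0) (m n : ℕ) : gen ω m * gen ω n ∈ kk ω := by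
  rcases le_total n m with h | h
  · obtain ⟨k, rfl⟩ := Nat.exists_eq_add_of_le h
    rw [gen_mul_gen_eq ω hω0]
    exact (kk ω).add_mem (gen_mem ω _) (gen_mem ω _)
  · obtain ⟨k, rfl⟩ := Nat.exists_eq_add_of_le h
    rw [mul_comm, gen_mul_gen_eq ω hω0]
    exact (kk ω).add_mem (gen_mem ω _) (gen_mem ω _)

theorem gen_mul_mem (hω0 : ω ≠ 0) (m : ℕ) {x : K} (hx : x ∈ kk ω) : gen ω m * x ∈ kk ω := by
  unfold kk at hx
  induction hx using AddSubgroup.closure_induction with
  | mem y hy =>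
    obtain ⟨n, rfl⟩ := hy
    exact gen_mul_gen_mem ω hω0 m n
  | zero => simp
  | add y z _ _ hy hz => rw [mul_add]; exact (kk ω).add_mem hy hz
  | neg y _ hy => rw [mul_neg]; exact (kk ω).neg_mem hy

theorem mul_mem (hω0 : ω ≠ 0) {x y : K} (hx : x ∈ kk ω) (hy : y ∈ kk ω) : x * y ∈ kk ω := by
  unfold kk at hx
  induction hx using AddSubgroup.closure_induction with
  | mem z hz =>
    obtain ⟨n, rfl⟩ := hz
    exact gen_mul_mem ω hω0 n hy
  | zero => simp
  | add z w _ _ hz hw => rw [add_mul]; exact (kk ω).add_mem hz hw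
  | neg z _ hz => rw [neg_mul]; exact (kk ω).neg_mem hz

theorem pow_mem (hω0 : ω ≠ 0) {x : K} (hx : x ∈ kk ω) : ∀ n : ℕ, x ^ (n + 1) ∈ kk ω
  | 0 => by simpa using hx
  | n + 1 => by rw [pow_succ]; exact mul_mem ω hω0 (pow_mem hω0 hx n) hx

end

section fin
variable {K : Type*} [Field K] [Finite K] (ω : K)

omit [Finite K] in
theorem pow_card_units (x : K) (hx : x ≠ 0) : x ^ Nat.card Kˣ = 1 := by
  have h := pow_card_eq_one' (G := Kˣ) (x := Units.mk0 x hx)
  have h2 : ((Units.mk0 x hx ^ Nat.card Kˣ : Kˣ) : K) = 1 := by rw [h]; rfl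
  rw [Units.val_pow_eq_pow_val, Units.val_mk0] at h2
  exact h2

theorem card_units_pos : 0 < Nat.card Kˣ := Nat.card_pos

omit [Finite K] in
theorem exists_ne_zero_mem (hω0 : ω ≠ 0) (h : (2 : K) ≠ 0 ∨ ω ^ 2 ≠ 1) : ∃ x ∈ kk ω, x ≠ 0 := by
  by_cases h2 : (2 : K) = 0
  · refine ⟨gen ω 1, gen_mem ω 1, fun h0 => ?_⟩
    have hne := h.resolve_left (fun h' => h' h2)
    apply hne
    have h1 : ω ^ 2 + 1 = 0 := by
      have : (ω + ω⁻¹) * ω = 0 := by
        have h0' : ω + ω⁻¹ = 0 := by simpa [gen] using h0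
        rw [h0', zero_mul]
      rw [add_mul, inv_mul_cancel₀ hω0] at this
      rw [pow_two]; exact this
    have h3 : ω ^ 2 = ω ^ 2 + 1 - 1 := by ring
    rw [h3, h1]
    have : (0 : K) - 1 + 2 = 1 := by ring
    rw [h2] at this
    simpa using this
  · exact ⟨gen ω 0, gen_mem ω 0, by simpa [gen, one_add_one_eq_two] using h2⟩

theorem one_mem (hω0 : ω ≠ 0) (h : (2 : K) ≠ 0 ∨ ω ^ 2 ≠ 1) : (1 : K) ∈ kk ω := by
  obtain ⟨x, hx, hx0⟩ := exists_ne_zero_mem ω hω0 h
  obtain ⟨n, hn⟩ := Nat.exists_eq_succ_of_ne_zero (card_units_pos (K := K)).ne'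
  have := pow_mem ω hω0 hx n
  rw [← Nat.succ_eq_add_one, ← hn, pow_card_units x hx0] at this
  exact this

theorem inv_mem (hω0 : ω ≠ 0) (h : (2 : K) ≠ 0 ∨ ω ^ 2 ≠ 1) {x : K} (hx : x ∈ kk ω) : x⁻¹ ∈ kk ω := by
  by_cases hx0 : x = 0
  · subst hx0; simp
  have hc := pow_card_units x hx0
  obtain ⟨n, hn⟩ := Nat.exists_eq_succ_of_ne_zero (card_units_pos (K := K)).ne'
  rw [hn, pow_succ] at hc
  have hinv : x⁻¹ = x ^ n := (eq_inv_of_mul_eq_one_left hc).symm
  rw [hinv]
  rcases n with _ | n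
  · simpa using one_mem ω hω0 h
  · exact pow_mem ω hω0 hx n

/-- the subfield `k'` -/
def kF (hω0 : ω ≠ 0) (h : (2 : K) ≠ 0 ∨ ω ^ 2 ≠ 1) : Subfield K where
  carrier := kk ω
  mul_mem' := mul_mem ω hω0
  one_mem' := one_mem ω hω0 h
  add_mem' := (kk ω).add_mem
  zero_mem' := (kk ω).zero_mem
  neg_mem' := (kk ω).neg_mem
  inv_mem' := fun _ hx => inv_mem ω hω0 h hx

theorem mem_kF (hω0 : ω ≠ 0) (h : (2 : K) ≠ 0 ∨ ω ^ 2 ≠ 1) (x : K) : x ∈ kF ω hω0 h ↔ x ∈ kk ω := Iff.rfl

theorem finrank_le_two (hω0 : ω ≠ 0) (h : (2 : K) ≠ 0 ∨ ω ^ 2 ≠ 1)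
    (hspan : ∀ S : AddSubgroup K, (1 : K) ∈ S → (∀ v ∈ S, ω * v ∈ S) → S = ⊤) :
    Module.finrank (kF ω hω0 h) K ≤ 2 := by
  set F := kF ω hω0 h
  have key : Submodule.span F (Set.range ![(1 : K), ω]) = ⊤ := by
    have h1 : (1 : K) ∈ Submodule.span F (Set.range ![(1 : K), ω]) :=
      Submodule.subset_span ⟨0, rfl⟩
    have hw : ω ∈ Submodule.span F (Set.range ![(1 : K), ω]) :=
      Submodule.subset_span ⟨1, rfl⟩
    have hcl : ∀ v ∈ Submodule.span F (Set.range ![(1 : K), ω]),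
        ω * v ∈ Submodule.span F (Set.range ![(1 : K), ω]) := by
      intro v hv
      induction hv using Submodule.span_induction with
      | mem x hx =>
        obtain ⟨i, rfl⟩ := hx
        fin_cases i
        · simpa using hw
        · have hg : gen ω 1 ∈ F := gen_mem ω 1
          have : ω * ω = (⟨gen ω 1, hg⟩ : F) • ω - 1 := by
            show ω * ω = gen ω 1 * ω - 1
            simp only [gen, pow_one]
            rw [add_mul, inv_mul_cancel₀ hω0]; ring
          simp only [Matrix.cons_val_one, Matrix.cons_val_zero, Fin.mk_one, Fin.isValue]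
          rw [this]
          exact Submodule.sub_mem _ (Submodule.smul_mem _ _ hw) h1
      | zero => simp
      | add x y _ _ hx hy => rw [mul_add]; exact Submodule.add_mem _ hx hy
      | smul c x _ hx =>
        have : ω * (c • x) = c • (ω * x) := by
          show ω * ((c : K) * x) = (c : K) * (ω * x)
          ring
        rw [this]; exact Submodule.smul_mem _ _ hx
    have := hspan (Submodule.span F (Set.range ![(1 : K), ω])).toAddSubgroup h1 hcl
    apply top_unique
    intro x _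
    have hx : x ∈ (Submodule.span F (Set.range ![(1 : K), ω])).toAddSubgroup := by
      rw [this]; trivial
    exact hx
  have := finrank_le_of_span_eq_top (R := F) (M := K) key
  simpa using this

end fin

theorem bb_two_mul (b : ℕ) : bb (2 * b) = b := by
  unfold bb
  split_ifs with h
  · omega
  · omega

/-- **TAG IDX** -/
theorem index_le {K : Type*} [Field K] [Finite K] (p q : ℕ) [Fact p.Prime] [Fact q.Prime] [CharP K p]
    (hpq : p ≠ q) (a : ℕ) (hK : Nat.card K = p ^ a) (ω : K) (hω : orderOf ω = q)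
    (hspan : ∀ S : AddSubgroup K, (1 : K) ∈ S → (∀ v ∈ S, ω * v ∈ S) → S = ⊤)
    (N : AddSubgroup K) (hN : ∀ m : ℕ, ω ^ m + ω⁻¹ ^ m ∈ N) : N.index ≤ p ^ bb a := by
  have hp : p.Prime := Fact.out
  have hq : q.Prime := Fact.out
  have hω0 : ω ≠ 0 := by
    rintro rfl
    rw [orderOf_eq_zero_iff.mpr] at hω
    · exact hq.ne_zero hω.symm
    · intro hfin
      have := hfin.exists_pow_eq_one
      obtain ⟨n, hn, h⟩ := isOfFinOrder_iff_pow_eq_one.mp hfin
      rw [zero_pow hn.ne'] at h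
      exact zero_ne_one h
  have h2 : (2 : K) ≠ 0 ∨ ω ^ 2 ≠ 1 := by
    by_contra hcon
    rw [not_or, not_not, not_not] at hcon
    obtain ⟨h20, hω2⟩ := hcon
    have hp2 : p ∣ 2 := by
      have := (CharP.cast_eq_zero_iff K p 2).mp (by exact_mod_cast h20)
      exact this
    have hq2 : q ∣ 2 := by
      rw [← hω]; exact orderOf_dvd_of_pow_eq_one hω2
    have hp' : p = 2 := (Nat.prime_dvd_prime_iff_eq hp Nat.prime_two).mp hp2
    have hq' : q = 2 := (Nat.prime_dvd_prime_iff_eq hq Nat.prime_two).mp hq2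
    exact hpq (hp'.trans hq'.symm)
  -- `kk ω ≤ N`
  have hle : kk ω ≤ N := by
    unfold kk
    rw [AddSubgroup.closure_le]
    rintro x ⟨m, rfl⟩
    exact hN m
  have hidx : N.index ≤ (kk ω).index :=
    Nat.le_of_dvd (Nat.pos_of_ne_zero AddSubgroup.index_ne_zero_of_finite)
      (AddSubgroup.index_dvd_of_le hle)
  refine hidx.trans ?_
  set F := kF ω hω0 h2
  have hcardF : Nat.card F = Nat.card (kk ω) :=
    Nat.card_congr (Equiv.subtypeEquivRight (fun x => Iff.rfl))
  have hd2 := finrank_le_two ω hω0 h2 hspan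
  have hpow : Nat.card K = Nat.card F ^ Module.finrank F K := Module.natCard_eq_pow_finrank
  have hmul : (kk ω).index * Nat.card (kk ω) = Nat.card K := AddSubgroup.index_mul_card _
  have hKgt : 1 < Nat.card K := Finite.one_lt_card
  set c := Nat.card (kk ω) with hc
  set d := Module.finrank F K with hd
  rw [hcardF] at hpow
  have hcpos : 0 < c := Nat.card_pos
  have hppos : 0 < p ^ bb a := pow_pos hp.pos _
  have hd0 : d ≠ 0 := by
    intro h0
    rw [h0, pow_zero] at hpow
    omega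
  have hd12 : d = 1 ∨ d = 2 := by omega
  rcases hd12 with h1 | h2'
  · rw [h1, pow_one] at hpow
    rw [hpow] at hmul
    have : (kk ω).index = 1 := by
      have := Nat.eq_of_mul_eq_mul_right hcpos (hmul.trans (one_mul c).symm)
      exact this
    rw [this]; exact hppos
  · rw [h2', pow_two] at hpow
    rw [hpow] at hmul
    have hic : (kk ω).index = c := Nat.eq_of_mul_eq_mul_right hcpos hmul
    rw [hic]
    have hcd : c ∣ p ^ a := by
      rw [← hK, hpow]; exact dvd_mul_right c c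
    obtain ⟨b, _, hb⟩ := (Nat.dvd_prime_pow hp).mp hcd
    have hab : a = 2 * b := by
      have h3 : p ^ a = p ^ (2 * b) := by
        rw [← hK, hpow, hb, ← pow_add]; congr 1; ring
      exact Nat.pow_right_injective hp.two_le h3
    rw [hab, bb_two_mul, hb]

end Cfsg.Agent.Lib.Helper20.SchIDX
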