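import Mathlib
import Cfsg.Prelude.Def_Transfer
import Cfsg.Prelude.Def_SolvableStructure
import Cfsg.Prelude.Def_Local
import Cfsg.Prelude.Def_CaseTheorems
import Cfsg.Agent.Lib.Helper21.SchDefs
import Cfsg.Agent.Lib.Helper21.SchPDefs
import Cfsg.Agent.Lib.Helper20.ExpPLenC
import Cfsg.Agent.Lib.Helper8.Hyperplane
import Cfsg.Agent.Lib.Helper8.DualHH
import Cfsg.Agent.Lib.Helper12.HallHigman
import Cfsg.Agent.Lib.Helper24.PSolvable

/-!
# S4394-G2 (helper21's market): `le_pCore_of_bigType`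
-/

set_option autoImplicit false
universe u v
open Cfsg
open Cfsg.Agent.Lib.Helper21.Sch
open Cfsg.Agent.Lib.Helper21.SchP

namespace Cfsg.Agent.Lib.Helper20.SchPG2

/-- powers of an element stabilizing the chain `R ≥ Z ≥ 1` stabilize it -/
theorem pow_stab {H : Type*} [Group H] (R Z : Subgroup H) (e : H)
    (heZ : ∀ z ∈ Z, e * z = z * e) (heR : ∀ r ∈ R, e * r * e⁻¹ * r⁻¹ ∈ Z) (n : ℕ) :
    (∀ z ∈ Z, e ^ n * z = z * e ^ n) ∧ ∀ r ∈ R, e ^ n * r * (e ^ n)⁻¹ * r⁻¹ ∈ Z := by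
  induction n with
  | zero =>
    refine ⟨fun z _ => by simp, fun r _ => ?_⟩
    simp
  | succ n ih =>
    obtain ⟨ih1, ih2⟩ := ih
    refine ⟨fun z hz => ?_, fun r hr => ?_⟩
    · rw [pow_succ, mul_assoc, heZ z hz, ← mul_assoc, ih1 z hz, mul_assoc]
    · -- e^(n+1) r e^-(n+1) r⁻¹ = e^n (e r e⁻¹ r⁻¹) e^-n * (e^n r e^-n r⁻¹)
      have h1 : e * r * e⁻¹ * r⁻¹ ∈ Z := heR r hr
      have h2 : e ^ n * r * (e ^ n)⁻¹ * r⁻¹ ∈ Z := ih2 r hr
      have h3 : e ^ n * (e * r * e⁻¹ * r⁻¹) * (e ^ n)⁻¹ = e * r * e⁻¹ * r⁻¹ := by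
        rw [ih1 _ h1, mul_assoc, mul_inv_cancel, mul_one]
      have h4 : e ^ (n + 1) * r * (e ^ (n + 1))⁻¹ * r⁻¹ =
          (e ^ n * (e * r * e⁻¹ * r⁻¹) * (e ^ n)⁻¹) * (e ^ n * r * (e ^ n)⁻¹ * r⁻¹) := by
        rw [pow_succ]; group
      rw [h4, h3]
      exact Z.mul_mem h1 h2

/-- **TAG G2** -/
theorem le_pCore_of_bigType {H : Type*} [Group H] [Finite H] (p : ℕ) [Fact p.Prime] (hsol : Cfsg.IsPSolvable p H)
    (hO : Cfsg.pPrimeCore p H = ⊥) (S : Sylow p H) (hS : BigType p ↥(S : Subgroup H))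
    (hstab : ∀ (R Z : Subgroup H), IsPGroup p R → Z ≤ R → ∀ e : H, (orderOf e).Coprime p →
      (∀ z ∈ Z, e * z = z * e) → (∀ r ∈ R, e * r * e⁻¹ * r⁻¹ ∈ Z) → ∀ r ∈ R, e * r = r * e) :
    (S : Subgroup H) ≤ Cfsg.pCore p H := by
  classical
  have hp : p.Prime := Fact.out
  obtain ⟨hcl2, hpow, hbig⟩ := hS
  set R := Cfsg.pCore p H with hR
  have hRn : R.Normal := Cfsg.Agent.Lib.Helper24.pCore_normal' p
  have hRp : IsPGroup p R := Cfsg.Agent.Lib.Helper12.pCore_isPGroup' p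
  have hRS : R ≤ (S : Subgroup H) := Cfsg.Agent.Lib.Helper24.normal_pgroup_le_sylow R hRp S
  have hCR : Subgroup.centralizer (R : Set H) ≤ R :=
    Cfsg.Agent.Lib.Helper12.centralizer_pCore_le_pCore p hsol hO
  -- the centre of `S`, in `H`
  set Z : Subgroup H := (Subgroup.center ↥(S : Subgroup H)).map (S : Subgroup H).subtype with hZ
  have hZmem : ∀ z : H, z ∈ Z ↔ ∃ hz : z ∈ (S : Subgroup H), ∀ s (hs : s ∈ (S : Subgroup H)), s * z = z * s := by
    intro z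
    constructor
    · rintro ⟨⟨z', hz'S⟩, hz', rfl⟩
      refine ⟨hz'S, fun s hs => ?_⟩
      have := Subgroup.mem_center_iff.mp hz' ⟨s, hs⟩
      exact congrArg Subtype.val this
    · rintro ⟨hzS, hz⟩
      refine ⟨⟨z, hzS⟩, ?_, rfl⟩
      rw [SetLike.mem_coe, Subgroup.mem_center_iff]
      rintro ⟨s, hs⟩
      exact Subtype.ext (hz s hs)
  have hZS : Z ≤ (S : Subgroup H) := fun z hz => ((hZmem z).mp hz).1
  have hZR : Z ≤ R := by
    intro z hz
    obtain ⟨_, hz'⟩ := (hZmem z).mp hz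
    apply hCR
    rw [Subgroup.mem_centralizer_iff]
    intro r hr
    exact hz' r (hRS hr)
  have hcl2' : ∀ x ∈ (S : Subgroup H), ∀ y ∈ (S : Subgroup H), x * y * x⁻¹ * y⁻¹ ∈ Z := by
    intro x hx y hy
    exact ⟨_, hcl2 ⟨x, hx⟩ ⟨y, hy⟩, rfl⟩
  have hpow' : ∀ x ∈ (S : Subgroup H), x ^ p ∈ Z := by
    intro x hx
    exact ⟨_, hpow ⟨x, hx⟩, rfl⟩
  intro x hxS
  by_contra hxR
  -- the quotient
  let π : H →* H ⧸ R := QuotientGroup.mk' R
  have hπsurj : Function.Surjective π := QuotientGroup.mk'_surjective R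
  have hπker : ∀ g : H, π g = 1 ↔ g ∈ R := fun g => QuotientGroup.eq_one_iff g
  have hsol' : Cfsg.IsPSolvable p (H ⧸ R) :=
    Cfsg.Agent.Lib.Helper24.isPSolvable_of_surjective p π hπsurj hsol
  have hOp : Cfsg.pCore p (H ⧸ R) = ⊥ := Cfsg.Agent.Lib.Helper20.ExpPLen.pcore_quot_eq_bot p
  set K : Subgroup (H ⧸ R) := Cfsg.pPrimeCore p (H ⧸ R) with hK
  have hKn : K.Normal := Cfsg.Agent.Lib.Helper24.pPrimeCore_normal' p
  have hKc : (Nat.card K).Coprime p := Cfsg.Agent.Lib.Helper12.pPrimeCore_coprime p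
  have hCK : Subgroup.centralizer (K : Set (H ⧸ R)) ≤ K :=
    Cfsg.Agent.Lib.Helper8.DualHH.centralizer_pPrimeCore_le p hsol' hOp
  have htorK : ∀ c ∈ K, ∀ k : ℕ, c ^ p ^ k = 1 → c = 1 := by
    intro c hc k hcp
    have h1 : c ^ Nat.card K = 1 := by
      have := pow_card_eq_one' (G := ↥K) (x := ⟨c, hc⟩)
      exact congrArg Subtype.val this
    exact Cfsg.Agent.Lib.Helper12.eq_one_of_pow_eq_one_of_coprime c k _ hcp h1 hKc
  -- the image of `S`
  set A : Subgroup (H ⧸ R) := (S : Subgroup H).map π with hA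
  have hAel : Cfsg.IsElementaryAbelian p A := by
    refine ⟨⟨⟨?_⟩⟩, ?_⟩
    · rintro ⟨a, s, hs, rfl⟩ ⟨b, s', hs', rfl⟩
      apply Subtype.ext
      show π s * π s' = π s' * π s
      have h1 : s * s' * s⁻¹ * s'⁻¹ ∈ R := hZR (hcl2' s hs s' hs')
      have h2 := (hπker _).mpr h1
      rw [map_mul, map_mul, map_mul, map_inv, map_inv] at h2
      have h3 : π s * π s' = (π s * π s' * (π s)⁻¹ * (π s')⁻¹) * (π s' * π s) := by group
      rw [h3, h2, one_mul]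
    · rintro a ⟨s, hs, rfl⟩
      rw [← map_pow]
      exact (hπker _).mpr (hZR (hpow' s hs))
  set xb : H ⧸ R := π x with hxb
  have hxb1 : xb ≠ 1 := fun h => hxR ((hπker x).mp h)
  have hxbA : xb ∈ A := ⟨x, hxS, rfl⟩
  have hxbp : xb ^ p = 1 := hAel.2 xb hxbA
  have hxbK : xb ∉ K := fun h => hxb1 (htorK xb h 1 (by rwa [pow_one]))
  have hKD : ¬ K ≤ Subgroup.centralizer ({xb} : Set (H ⧸ R)) := by
    intro h
    apply hxbK
    apply hCK
    rw [Subgroup.mem_centralizer_iff]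
    intro k hk
    have := Subgroup.mem_centralizer_singleton_iff.mp (h hk)
    exact this
  have hAK : A ≤ Subgroup.normalizer (K : Set (H ⧸ R)) := by
    rw [Subgroup.normalizer_eq_top]; exact le_top
  have hAp : IsPGroup p A := by
    rintro ⟨a, ha⟩
    exact ⟨1, Subtype.ext (by rw [pow_one]; exact hAel.2 a ha)⟩
  have hcop : (Nat.card A).Coprime (Nat.card K) := by
    obtain ⟨e, he⟩ := IsPGroup.iff_card.mp hAp
    rw [he]
    exact Nat.Coprime.pow_left e hKc.symm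
  obtain ⟨B, hBA, hcardB, hBD⟩ := Cfsg.Agent.Lib.Helper8.exists_hyperplane_centralizer_not_le p A K
    (Subgroup.centralizer ({xb} : Set (H ⧸ R))) hAel hAK hcop hKD
  obtain ⟨db, hdb, hdbx⟩ := Set.not_subset.mp hBD
  obtain ⟨hdbK, hdbB⟩ := Subgroup.mem_inf.mp hdb
  obtain ⟨d, rfl⟩ := hπsurj db
  have hdbx' : ¬ (π d * xb = xb * π d) := by
    intro h
    apply hdbx
    rw [SetLike.mem_coe, Subgroup.mem_centralizer_singleton_iff]
    exact h
  -- `B ≠ A`, so `|A : B| = p`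
  have hBneA : B ≠ A := by
    rintro rfl
    apply hdbx'
    rw [Subgroup.mem_centralizer_iff] at hdbB
    exact (hdbB xb hxbA).symm
  have hrel : B.relIndex A = p := by
    have h1 : B.relIndex A * Nat.card B = Nat.card A := by
      have := Subgroup.card_mul_index (B.subgroupOf A)
      rw [Nat.card_congr (Subgroup.subgroupOfEquivOfLe hBA).toEquiv] at this
      rw [mul_comm]; exact this
    have hBpos : 0 < Nat.card B := Nat.card_pos
    have h2 : B.relIndex A ≤ p := by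
      by_contra hlt
      push Not at hlt
      have : p * Nat.card B < B.relIndex A * Nat.card B := Nat.mul_lt_mul_of_pos_right hlt hBpos
      omega
    have h3 : B.relIndex A ≠ 1 := by
      intro h
      apply hBneA
      apply le_antisymm hBA
      exact Subgroup.relIndex_eq_one.mp h
    have h4 : B.relIndex A ∣ Nat.card A := Subgroup.relIndex_dvd_card B A
    obtain ⟨e, he⟩ := IsPGroup.iff_card.mp hAp
    rw [he] at h4
    obtain ⟨j, -, hj⟩ := (Nat.dvd_prime_pow hp).mp h4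
    rcases j with _ | _ | j
    · rw [pow_zero] at hj; exact absurd hj h3
    · rw [hj, pow_one]
    · exfalso
      have : p ^ 2 ≤ p ^ (j + 1 + 1) := Nat.pow_le_pow_right hp.pos (by omega)
      rw [← hj] at this
      have hp2 : p < p ^ 2 := by
        rw [pow_two]; exact lt_mul_self hp.one_lt  -- may need adjusting
      omega
  -- `S₁`
  set S₁ : Subgroup H := (S : Subgroup H) ⊓ B.comap π with hS₁
  have hS₁S : S₁ ≤ (S : Subgroup H) := inf_le_left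
  have hRS₁ : R ≤ S₁ := by
    intro r hr
    refine Subgroup.mem_inf.mpr ⟨hRS hr, ?_⟩
    show π r ∈ B
    rw [(hπker r).mpr hr]
    exact B.one_mem
  have hidx : (S₁.subgroupOf (S : Subgroup H)).index = p := by
    have h1 : S₁.subgroupOf (S : Subgroup H) = (B.comap π).subgroupOf (S : Subgroup H) := by
      rw [hS₁, Subgroup.inf_subgroupOf_left]
    rw [h1]
    show (B.comap π).relIndex (S : Subgroup H) = p
    rw [Subgroup.relIndex_comap]
    exact hrel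
  -- elements whose image centralizes `B` normalize `S₁`
  have hnormS₁ : ∀ g : H, π g ∈ Subgroup.centralizer (B : Set (H ⧸ R)) → ∀ s ∈ S₁, g * s * g⁻¹ ∈ S₁ := by
    intro g hg s hs
    obtain ⟨hsS, hsB⟩ := Subgroup.mem_inf.mp hs
    rw [Subgroup.mem_comap] at hsB
    have hcomm : π s * π g = π g * π s := Subgroup.mem_centralizer_iff.mp hg (π s) hsB
    have h1 : π (g * s * g⁻¹) = π s := by
      rw [map_mul, map_mul, map_inv, ← hcomm, mul_assoc, mul_inv_cancel, mul_one]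
    have h2 : g * s * g⁻¹ * s⁻¹ ∈ R := by
      rw [← hπker, map_mul, h1, map_inv, mul_inv_cancel]
    refine Subgroup.mem_inf.mpr ⟨?_, ?_⟩
    · have : g * s * g⁻¹ = (g * s * g⁻¹ * s⁻¹) * s := by group
      rw [this]
      exact (S : Subgroup H).mul_mem (hRS h2) hsS
    · rw [Subgroup.mem_comap, h1]; exact hsB
  -- the big type property
  have hcent : Subgroup.centralizer ((R.subgroupOf (S : Subgroup H) : Subgroup ↥(S : Subgroup H)) : Set ↥(S : Subgroup H)) ≤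
      R.subgroupOf (S : Subgroup H) := by
    intro s hs
    rw [Subgroup.mem_subgroupOf]
    apply hCR
    rw [Subgroup.mem_centralizer_iff]
    intro r hr
    have := Subgroup.mem_centralizer_iff.mp hs ⟨r, hRS hr⟩ (by rw [SetLike.mem_coe, Subgroup.mem_subgroupOf]; exact hr)
    exact congrArg Subtype.val this
  have hclo := hbig (R.subgroupOf (S : Subgroup H)) (S₁.subgroupOf (S : Subgroup H))
    (fun s hs => by
      rw [Subgroup.mem_subgroupOf] at hs ⊢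
      exact hRS₁ hs) hidx hcent
  have hZclo : Z = Subgroup.closure {c : H | ∃ r ∈ R, ∃ s ∈ S₁, c = r * s * r⁻¹ * s⁻¹} := by
    rw [hZ, ← hclo, MonoidHom.map_closure]
    congr 1
    ext c
    constructor
    · rintro ⟨c', ⟨r, hr, s, hs, rfl⟩, rfl⟩
      exact ⟨r, Subgroup.mem_subgroupOf.mp hr, s, Subgroup.mem_subgroupOf.mp hs, rfl⟩
    · rintro ⟨r, hr, s, hs, rfl⟩
      refine ⟨⟨r, hRS hr⟩ * ⟨s, hS₁S hs⟩ * ⟨r, hRS hr⟩⁻¹ * ⟨s, hS₁S hs⟩⁻¹,
        ⟨⟨r, hRS hr⟩, Subgroup.mem_subgroupOf.mpr hr, ⟨s, hS₁S hs⟩, Subgroup.mem_subgroupOf.mpr hs, rfl⟩, rfl⟩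
  have hnormZ : ∀ g : H, (∀ s ∈ S₁, g * s * g⁻¹ ∈ S₁) → ∀ z ∈ Z, g * z * g⁻¹ ∈ Z := by
    intro g hg z hz
    have hle : Z ≤ Z.comap (MulAut.conj g).toMonoidHom := by
      conv_lhs => rw [hZclo]
      rw [Subgroup.closure_le]
      rintro c ⟨r, hr, s, hs, rfl⟩
      rw [SetLike.mem_coe, Subgroup.mem_comap]
      show g * (r * s * r⁻¹ * s⁻¹) * g⁻¹ ∈ Z
      rw [hZclo]
      apply Subgroup.subset_closure
      refine ⟨g * r * g⁻¹, hRn.conj_mem r hr g, g * s * g⁻¹, hg s hs, ?_⟩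
      group
    exact hle hz
  have hdB' : π d⁻¹ ∈ Subgroup.centralizer (B : Set (H ⧸ R)) := by
    rw [map_inv]; exact Subgroup.inv_mem _ hdbB
  have hdZ := hnormZ d (hnormS₁ d hdbB)
  have hdZ' := hnormZ d⁻¹ (hnormS₁ d⁻¹ hdB')
  have hxZ : ∀ z ∈ Z, x * z = z * x := by
    intro z hz
    obtain ⟨_, hz'⟩ := (hZmem z).mp hz
    exact hz' x hxS
  -- `x' = d x d⁻¹`
  have hx'Z : ∀ z ∈ Z, (d * x * d⁻¹) * z = z * (d * x * d⁻¹) := by
    intro z hz
    have h1 : d⁻¹ * z * d⁻¹⁻¹ ∈ Z := hdZ' z hz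
    rw [inv_inv] at h1
    have h2 := hxZ _ h1
    calc d * x * d⁻¹ * z = d * (x * (d⁻¹ * z * d)) * d⁻¹ := by group
      _ = d * ((d⁻¹ * z * d) * x) * d⁻¹ := by rw [h2]
      _ = z * (d * x * d⁻¹) := by group
  have hx'R : ∀ r ∈ R, (d * x * d⁻¹) * r * (d * x * d⁻¹)⁻¹ * r⁻¹ ∈ Z := by
    intro r hr
    have hr' : d⁻¹ * r * d ∈ R := by
      have := hRn.conj_mem r hr d⁻¹
      rwa [inv_inv] at this
    have h1 : x * (d⁻¹ * r * d) * x⁻¹ * (d⁻¹ * r * d)⁻¹ ∈ Z := hcl2' x hxS _ (hRS hr')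
    have h2 := hdZ _ h1
    have : d * (x * (d⁻¹ * r * d) * x⁻¹ * (d⁻¹ * r * d)⁻¹) * d⁻¹ =
        (d * x * d⁻¹) * r * (d * x * d⁻¹)⁻¹ * r⁻¹ := by group
    rwa [this] at h2
  set e : H := d * x * d⁻¹ * x⁻¹ with he
  have heZ : ∀ z ∈ Z, e * z = z * e := by
    intro z hz
    have h1 : x⁻¹ * z = z * x⁻¹ := by
      have := hxZ z hz
      calc x⁻¹ * z = x⁻¹ * (z * x) * x⁻¹ := by group
        _ = x⁻¹ * (x * z) * x⁻¹ := by rw [this]
        _ = z * x⁻¹ := by group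
    rw [he, mul_assoc, h1, ← mul_assoc, hx'Z z hz, mul_assoc]
  have heR : ∀ r ∈ R, e * r * e⁻¹ * r⁻¹ ∈ Z := by
    intro r hr
    -- e r e⁻¹ r⁻¹ = x' (x⁻¹ r x r⁻¹) x'⁻¹ * (x' r x'⁻¹ r⁻¹)
    have h1 : x⁻¹ * r * x⁻¹⁻¹ * r⁻¹ ∈ Z := hcl2' x⁻¹ ((S : Subgroup H).inv_mem hxS) r (hRS hr)
    have h2 : (d * x * d⁻¹) * (x⁻¹ * r * x⁻¹⁻¹ * r⁻¹) * (d * x * d⁻¹)⁻¹ = x⁻¹ * r * x⁻¹⁻¹ * r⁻¹ := by
      rw [hx'Z _ h1, mul_assoc, mul_inv_cancel, mul_one]
    have h3 : e * r * e⁻¹ * r⁻¹ =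
        ((d * x * d⁻¹) * (x⁻¹ * r * x⁻¹⁻¹ * r⁻¹) * (d * x * d⁻¹)⁻¹) *
          ((d * x * d⁻¹) * r * (d * x * d⁻¹)⁻¹ * r⁻¹) := by
      rw [he]; group
    rw [h3, h2]
    exact Z.mul_mem h1 (hx'R r hr)
  -- the `p'`-part of `e` is trivial
  obtain ⟨k, m, hm, hom⟩ := Nat.exists_eq_pow_mul_and_not_dvd (orderOf_pos e).ne' p hp.ne_one
  have hmcop : m.Coprime p := ((Nat.Prime.coprime_iff_not_dvd hp).mpr hm).symm
  have hord : (orderOf (e ^ p ^ k)).Coprime p := by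
    have hd : orderOf (e ^ p ^ k) ∣ m := by
      apply orderOf_dvd_of_pow_eq_one
      rw [← pow_mul, ← hom, pow_orderOf_eq_one]
    exact Nat.Coprime.coprime_dvd_left hd hmcop
  obtain ⟨hpZ, hpR⟩ := pow_stab R Z e heZ heR (p ^ k)
  have hcR := hstab R Z hRp hZR (e ^ p ^ k) hord hpZ hpR
  have hepR : e ^ p ^ k ∈ R := by
    apply hCR
    rw [Subgroup.mem_centralizer_iff]
    intro r hr
    exact (hcR r hr).symm
  have hπe : (π e) ^ p ^ k = 1 := by
    rw [← map_pow]; exact (hπker _).mpr hepR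
  have hπeK : π e ∈ K := by
    have h1 : π e = π d * (xb * (π d)⁻¹ * xb⁻¹) := by
      rw [he, hxb, map_mul, map_mul, map_mul, map_inv, map_inv]; group
    rw [h1]
    exact K.mul_mem hdbK (hKn.conj_mem _ (K.inv_mem hdbK) xb)
  have hπe1 : π e = 1 := htorK _ hπeK k hπe
  apply hdbx'
  have h1 : π e = π d * xb * (π d)⁻¹ * xb⁻¹ := by
    rw [he, hxb, map_mul, map_mul, map_mul, map_inv, map_inv]
  rw [h1] at hπe1
  calc π d * xb = (π d * xb * (π d)⁻¹ * xb⁻¹) * (xb * π d) := by group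
    _ = xb * π d := by rw [hπe1, one_mul]

end Cfsg.Agent.Lib.Helper20.SchPG2
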