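import Mathlib
import Cfsg.Agent.Lib.Helper29.SpPrfDefs
import Cfsg.Agent.Lib.Helper20.SpTnsDefs

set_option autoImplicit false
set_option linter.unusedSectionVars false
set_option linter.unusedVariables false

namespace Cfsg.Agent.Lib.Helper20.SpTnsLeaf
open Matrix Cfsg Cfsg.Geo Cfsg.Agent.Lib.Helper20.Asch Cfsg.Agent.Lib.Helper29.SpAsch
  Cfsg.Agent.Lib.Helper20.SpTns
open scoped Kronecker

variable {F : Type*} [Field F] [Fintype F] {n m : ℕ} {J : Matrix (Fin n) (Fin n) F}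
  {H N : Subgroup (GL (Fin n) F)}

theorem kron_alt_cases {s k : ℕ} (hs : 0 < s) (hk : 0 < k) (G₁ : Matrix (Fin s) (Fin s) F)
    (G₂ : Matrix (Fin k) (Fin k) F) (h : IsAltGram (G₁ ⊗ₖ G₂)) :
    (IsAltGram G₁ ∧ G₂ᵀ = G₂ ∧ G₂.det ≠ 0) ∨ (G₁ᵀ = G₁ ∧ G₁.det ≠ 0 ∧ IsAltGram G₂) := by
  have hdet := h.det
  rw [Matrix.det_kronecker] at hdet
  have hd₁ : G₁.det ≠ 0 := fun h0 => hdet (by
    rw [h0, zero_pow (by simp; omega), zero_mul])
  have hd₂ : G₂.det ≠ 0 := fun h0 => hdet (by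
    rw [h0, zero_pow (by simp; omega), mul_zero])
  have hstar : ∀ a b c d, G₁ b a * G₂ d c = -(G₁ a b * G₂ c d) := by
    intro a b c d
    have := congrFun (congrFun h.skew (a, c)) (b, d)
    simpa [Matrix.transpose_apply, Matrix.kroneckerMap_apply] using this
  have hdiag : ∀ a c, G₁ a a * G₂ c c = 0 := by
    intro a c
    have := h.diag (a, c)
    simpa [Matrix.kroneckerMap_apply] using this
  have hne₁ : G₁ ≠ 0 := by
    rintro rfl
    have : Nonempty (Fin s) := ⟨⟨0, hs⟩⟩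
    exact hd₁ Matrix.det_zero
  have hne₂ : G₂ ≠ 0 := by
    rintro rfl
    have : Nonempty (Fin k) := ⟨⟨0, hk⟩⟩
    exact hd₂ Matrix.det_zero
  obtain ⟨a₀, b₀, hp⟩ : ∃ a b, G₁ a b ≠ 0 := by
    by_contra hcon
    push Not at hcon
    exact hne₁ (by ext a b; exact hcon a b)
  obtain ⟨c₀, d₀, hr⟩ : ∃ c d, G₂ c d ≠ 0 := by
    by_contra hcon
    push Not at hcon
    exact hne₂ (by ext a b; exact hcon a b)
  have h0 := hstar a₀ b₀ c₀ d₀
  have hp' : G₁ b₀ a₀ ≠ 0 := by
    intro hz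
    rw [hz, zero_mul] at h0
    exact mul_ne_zero hp hr (by linear_combination h0)
  have hr' : G₂ d₀ c₀ ≠ 0 := by
    intro hz
    rw [hz, mul_zero] at h0
    exact mul_ne_zero hp hr (by linear_combination h0)
  -- `p'² = p²`
  have hsq : (G₁ b₀ a₀ - G₁ a₀ b₀) * (G₁ b₀ a₀ + G₁ a₀ b₀) = 0 := by
    have e1 := hstar a₀ b₀ c₀ d₀
    have e2 := hstar a₀ b₀ d₀ c₀
    have : ((G₁ b₀ a₀ - G₁ a₀ b₀) * (G₁ b₀ a₀ + G₁ a₀ b₀)) * G₂ d₀ c₀ = 0 := by
      linear_combination (G₁ b₀ a₀) * e1 - (G₁ a₀ b₀) * e2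
    exact (mul_eq_zero.mp this).resolve_right hr'
  have hAB : (G₁ᵀ = -G₁ ∧ G₂ᵀ = G₂) ∨ (G₁ᵀ = G₁ ∧ G₂ᵀ = -G₂) := by
    rcases mul_eq_zero.mp hsq with hc | hc
    · -- `p' = p`: `G₂` skew, `G₁` symmetric
      right
      have hpp : G₁ b₀ a₀ = G₁ a₀ b₀ := by linear_combination hc
      have hG₂ : ∀ c d, G₂ d c = -G₂ c d := by
        intro c d
        have e := hstar a₀ b₀ c d
        rw [hpp] at e
        have : G₁ a₀ b₀ * (G₂ d c + G₂ c d) = 0 := by linear_combination e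
        have := (mul_eq_zero.mp this).resolve_left hp
        linear_combination this
      constructor
      · ext a b
        rw [Matrix.transpose_apply]
        have e := hstar b a c₀ d₀
        rw [hG₂ c₀ d₀] at e
        have : G₂ c₀ d₀ * (G₁ b a - G₁ a b) = 0 := by linear_combination e
        have := (mul_eq_zero.mp this).resolve_left hr
        linear_combination this
      · ext c d
        rw [Matrix.transpose_apply, Matrix.neg_apply]
        exact hG₂ c d
    · left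
      have hpp : G₁ b₀ a₀ = -G₁ a₀ b₀ := by linear_combination hc
      have hG₂ : ∀ c d, G₂ d c = G₂ c d := by
        intro c d
        have e := hstar a₀ b₀ c d
        rw [hpp] at e
        have : G₁ a₀ b₀ * (G₂ d c - G₂ c d) = 0 := by linear_combination -e
        have := (mul_eq_zero.mp this).resolve_left hp
        linear_combination this
      constructor
      · ext a b
        rw [Matrix.transpose_apply, Matrix.neg_apply]
        have e := hstar b a c₀ d₀
        rw [hG₂ c₀ d₀] at e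
        have : G₂ c₀ d₀ * (G₁ a b + G₁ b a) = 0 := by linear_combination e
        have := (mul_eq_zero.mp this).resolve_left hr
        linear_combination this
      · ext c d
        rw [Matrix.transpose_apply]
        exact hG₂ c d
  -- a matrix which is both skew and symmetric-with-char-2
  have hchar : ∀ {t : ℕ} (M : Matrix (Fin t) (Fin t) F) (i : Fin t), Mᵀ = -M → M i i ≠ 0 → (2 : F) = 0 := by
    intro t M i hM hi
    have := congrFun (congrFun hM i) i
    rw [Matrix.transpose_apply, Matrix.neg_apply] at this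
    have h2 : (2 : F) * M i i = 0 := by linear_combination this
    exact (mul_eq_zero.mp h2).resolve_right hi
  have hneg : (2 : F) = 0 → ∀ {t : ℕ} (M : Matrix (Fin t) (Fin t) F), -M = M := by
    intro h2 t M
    ext i j
    rw [Matrix.neg_apply]
    linear_combination (-(M i j)) * h2
  rcases hAB with ⟨hs₁, hs₂⟩ | ⟨hs₁, hs₂⟩
  · by_cases hz : ∀ a, G₁ a a = 0
    · exact Or.inl ⟨⟨hs₁, hz, hd₁⟩, hs₂, hd₂⟩
    · push Not at hz
      obtain ⟨a₁, ha₁⟩ := hz
      have h2 := hchar G₁ a₁ hs₁ ha₁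
      right
      refine ⟨by rw [hs₁, hneg h2], hd₁, ⟨by rw [hs₂, hneg h2], ?_, hd₂⟩⟩
      intro c
      exact (mul_eq_zero.mp (hdiag a₁ c)).resolve_left ha₁
  · by_cases hz : ∀ c, G₂ c c = 0
    · exact Or.inr ⟨hs₁, hd₁, ⟨hs₂, hz, hd₂⟩⟩
    · push Not at hz
      obtain ⟨c₁, hc₁⟩ := hz
      have h2 := hchar G₂ c₁ hs₂ hc₁
      left
      refine ⟨⟨by rw [hs₁, hneg h2], ?_, hd₁⟩, by rw [hs₂, hneg h2], hd₂⟩
      intro a
      exact (mul_eq_zero.mp (hdiag a c₁)).resolve_right hc₁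

end Cfsg.Agent.Lib.Helper20.SpTnsLeaf
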