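import Mathlib
import Cfsg.Agent.Lib.Helper29.SpPrfDefs
import Cfsg.Agent.Lib.Helper29.AschKF2
import Cfsg.Agent.Lib.Helper26.AschNL
import Cfsg.Agent.Lib.Helper9.TensSwap
import Cfsg.Agent.Lib.Helper17.SpAschQ0
import Cfsg.Agent.Lib.Helper17.SpAschZ
import Cfsg.Agent.Lib.Helper20.SpTnsDefs
import Cfsg.Agent.Lib.Helper20.SpTnsBasic
import Cfsg.Agent.Lib.Helper20.SpTnsK2
import Cfsg.Agent.Lib.Helper25.OAschTNSb
import Cfsg.Agent.Lib.Helper28.SpTnsE2b
import Cfsg.Agent.Lib.Helper28.SpTnsX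
import Cfsg.Agent.Lib.Helper22.SpTnsE3
import Cfsg.Agent.Lib.Helper22.SpTnsE4

/-!
S5662 (Aschbacher for `Sp_2m(F)`), block **TNS** = `sgeo_of_tensor` (sub-planner helper20): the assembly of
`notes/S5662_TNS_leaves.lean` on the landed leaves (helper20: B2 B3 B8 B9 K2 K3 K4 K5 E1; helper25: K1 `gram_kron`; helper28: X1 X2 E2a E2b;
helper22: E3 E4; helper23: K2 K3 duplicates).
-/

set_option autoImplicit false
set_option linter.unusedSectionVars false
set_option linter.unusedVariables false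

namespace Cfsg.Agent.Lib.Helper20.SpTnsLeaf
open Matrix Cfsg Cfsg.Geo Cfsg.Agent.Lib.Helper20.Asch Cfsg.Agent.Lib.Helper29.SpAsch
  Cfsg.Agent.Lib.Helper20.SpTns
open Cfsg.Agent.Lib.Helper28.SpTnsLeaf (exit_field exit_eigen exists_skew_root)
open Cfsg.Agent.Lib.Helper22.SpTnsLeaf (exit_even_c8 false_of_nonalt)
open Cfsg.Agent.Lib.Helper25.OAschLeaf (gram_kron)
open scoped Kronecker

variable {F : Type*} [Field F] [Fintype F] {n m : ℕ} {J : Matrix (Fin n) (Fin n) F}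
  {H N : Subgroup (GL (Fin n) F)}

/-! ## assembly -/

/-- the abstract exit for a skew-adjoint square root -/
theorem skew_root_exit (h : SpCtx J m H) (hirr : Irr H) (hodd : Odd (Fintype.card F))
    (T : Matrix (Fin n) (Fin n) F) (δ : F) (hδ : δ ≠ 0) (hT2 : T * T = δ • (1 : Matrix (Fin n) (Fin n) F))
    (hadj : ∀ u v, bfm J (T *ᵥ u) v = - bfm J u (T *ᵥ v))
    (hnorm : ∀ g ∈ H, (g : Matrix (Fin n) (Fin n) F) * T = T * (g : Matrix (Fin n) (Fin n) F) ∨
      (g : Matrix (Fin n) (Fin n) F) * T = - (T * (g : Matrix (Fin n) (Fin n) F))) : SGeo J m H := by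
  by_cases hsq : IsSquare δ
  · obtain ⟨γ, rfl⟩ := hsq
    have hγ : γ ≠ 0 := by
      rintro rfl
      exact hδ (by simp)
    exact exit_eigen h hirr hodd T γ hγ hT2 hadj hnorm
  · exact exit_field h hodd T δ hsq hT2 hadj hnorm

/-- the core: first factor alternating, second factor symmetric -/
theorem sgeo_of_alt_sym (h : SpCtx J m H) (hirr : Irr H) {s k : ℕ} (hs : 0 < s) (hk : 2 ≤ k)
    (e : Fin n ≃ Fin s × Fin k) (P : GL (Fin n) F) (G₁ : Matrix (Fin s) (Fin s) F)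
    (G₂ : Matrix (Fin k) (Fin k) F) (hG₁ : IsAltGram G₁) (hG₂s : G₂ᵀ = G₂) (hG₂d : G₂.det ≠ 0)
    (hgram : gramT e P J = G₁ ⊗ₖ G₂) (hH : H ≤ tensorProductSubgroup s k e P) : SGeo J m H := by
  by_cases hodd : Odd (Fintype.card F)
  · rcases Nat.lt_or_ge k 3 with hk3 | hk3
    · have hk2 : k = 2 := by omega
      subst hk2
      obtain ⟨T, δ, hδ, hT2, hadj, hnorm⟩ := exists_skew_root h e P G₁ G₂ hG₁ hG₂s hG₂d hgram hH
      exact skew_root_exit h hirr hodd T δ hδ hT2 hadj hnorm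
    · exact exit_c4 h hodd hk3 e P G₁ G₂ hG₁ hG₂s hG₂d hgram hH
  · by_cases hz : ∀ c, G₂ c c = 0
    · have h2 := Cfsg.Agent.Lib.Helper17.SpAschLeaf.two_eq_zero_of_not_odd (F := F) hodd
      have hG₁s : G₁ᵀ = G₁ := by
        rw [hG₁.skew]
        have : (-1 : F) = 1 := by linear_combination -h2
        rw [← neg_one_smul F G₁, this, one_smul]
      exact exit_even_c8 h hodd e P G₁ G₂ hG₁s hG₁.diag hG₂s hz hgram hH
    · push Not at hz
      have hG₁ne : G₁ ≠ 0 := by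
        intro h0
        have hdet := hG₁.det
        rw [h0] at hdet
        have : Nonempty (Fin s) := ⟨⟨0, hs⟩⟩
        exact hdet Matrix.det_zero
      exact (false_of_nonalt h hirr hodd hs hk e P G₁ G₂ hG₁ne hG₂s hz hgram hH).elim

/-- [TNS] TENSOR WITH FORM - the block theorem, EXACT signature of `notes/S5662_leaves.lean`. -/
theorem sgeo_of_tensor (h : SpCtx J m H) (hirr : Irr H) (hN : N ≤ H) (hnorm : NormBy H N)
    {s k : ℕ} (hs : 2 ≤ s) (hk : 2 ≤ k) (e : Fin n ≃ Fin s × Fin k) (P : GL (Fin n) F)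
    (h1 : ∀ A : Matrix (Fin s) (Fin s) F, conjR e P (A ⊗ₖ (1 : Matrix (Fin k) (Fin k) F)) ∈ Env N)
    (h2 : ∀ T ∈ Env N, ∃ A : Matrix (Fin s) (Fin s) F,
      T = conjR e P (A ⊗ₖ (1 : Matrix (Fin k) (Fin k) F))) : SGeo J m H := by
  have hH : H ≤ tensorProductSubgroup s k e P := by
    intro g hg
    apply Cfsg.Agent.Lib.Helper26.AschLeaf.normalizer_le_tensor e P g
    intro A
    exact h2 _ (Cfsg.Agent.Lib.Helper29.AschLeaf.env_conj hnorm g hg _ (h1 A))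
  obtain ⟨G₁, G₂, hG⟩ := gram_kron h.alt.det (hN.trans h.le) (by omega) (by omega) e P h1 h2
  have hgram : gramT e P J = G₁ ⊗ₖ G₂ := hG
  have halt := isAltGram_gramT h.alt e P
  rw [hgram] at halt
  rcases kron_alt_cases (by omega) (by omega) G₁ G₂ halt with ⟨hG₁, hG₂s, hG₂d⟩ | ⟨hG₁s, hG₁d, hG₂⟩
  · exact sgeo_of_alt_sym h hirr (by omega) hk e P G₁ G₂ hG₁ hG₂s hG₂d hgram hH
  · have hgram' := gramT_swap e P G₁ G₂ hgram
    rw [Cfsg.Agent.Lib.Helper9.TensSwap.tensorProductSubgroup_swap] at hH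
    exact sgeo_of_alt_sym h hirr (by omega) hs _ P G₂ G₁ hG₂ hG₁s hG₁d hgram' hH

end Cfsg.Agent.Lib.Helper20.SpTnsLeaf
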