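import Cfsg.Agent.Lib.Helper20.StOPres
import Cfsg.Agent.Lib.Helper25.CTDOGen

/-!
# From (T1) to helper11's `OmegaStatement` (helper20; S3352)

* `pullRel`: Steinberg relations pull back along an injective homomorphism.
* `exists_omega_hom`: given the relations `R` in the isometry group of `quadFormPlus n F` (root elements = `rootMat`)
  and (T1) for the presented group (`(stoLift R).ker ≤ centre`), every group `G` with trivial centre generated by
  elements satisfying the relations is an image of `Ω⁺(2n, F)` (helper25: `Ω⁺` is generated by the root elements).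
-/

set_option autoImplicit false

namespace Cfsg.Agent.Lib.Helper20.StO

open Cfsg.Agent.Lib.Helper11 Cfsg.Agent.Lib.Helper25.CTDOGen
open CTD (DIdx bar IsRt rootMat)

section pull

variable {n : ℕ} {F : Type*} [Field F]

/-- the relations pull back along an injective homomorphism -/
def pullRel {Γ Γ' : Type*} [Group Γ] [Group Γ'] (ι : Γ' →* Γ) (hι : Function.Injective ι)
    (S : CTD.StORel n F Γ) (x' : DIdx n → DIdx n → F → Γ')
    (hx : ∀ a b, IsRt a b → ∀ t, ι (x' a b t) = S.x a b t) : CTD.StORel n F Γ' where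
  x := x'
  symm a b h t := hι (by rw [hx a b h, hx _ _ (isRt_bar h)]; exact S.symm a b h t)
  add a b h t u := hι (by rw [map_mul, hx a b h, hx a b h, hx a b h]; exact S.add a b h t u)
  comm a b c d hab hcd h1 h2 h3 h4 t u := by
    show x' a b t * x' c d u = x' c d u * x' a b t
    apply hι
    rw [map_mul, map_mul, hx a b hab, hx c d hcd]
    exact (S.comm a b c d hab hcd h1 h2 h3 h4 t u).eq
  comm' a b hab t u := by
    have h1 : IsRt a (bar b) := ⟨hab.2, by rw [CTD.bar_bar]; exact hab.1⟩
    show x' a b t * x' a (bar b) u = x' a (bar b) u * x' a b t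
    apply hι
    rw [map_mul, map_mul, hx a b hab, hx a (bar b) h1]
    exact (S.comm' a b hab t u).eq
  rel a b d hab hbd had t u := by
    apply hι
    rw [map_mul, map_mul, map_mul, map_inv, map_inv, hx a b hab, hx b d hbd, hx a d had]
    exact S.rel a b d hab hbd had t u

end pull

section main

variable {n : ℕ} {F : Type*} [Field F]

theorem isRt_ne {a b : DIdx n} (h : IsRt a b) : a ≠ b := h.1

open Classical in
/-- the root elements of the isometry group -/
noncomputable def isoX (a b : DIdx n) (t : F) : ↥(Cfsg.isometryGroup F (Cfsg.quadFormPlus n F)) :=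
  if h : IsRt a b then rootG a b t (isRt_ne h) else 1

theorem isoX_of {a b : DIdx n} (h : IsRt a b) (t : F) :
    (isoX a b t : ↥(Cfsg.isometryGroup F (Cfsg.quadFormPlus n F))) = rootG a b t (isRt_ne h) := by
  unfold isoX
  exact dif_pos h

theorem isoX_coe {a b : DIdx n} (h : IsRt a b) (t : F) :
    (((isoX a b t : ↥(Cfsg.isometryGroup F (Cfsg.quadFormPlus n F))) : GL (DIdx n) F) :
      Matrix (DIdx n) (DIdx n) F) = rootMat a b t := by
  rw [isoX_of h]
  exact rootG_coe a b t (isRt_ne h)

/-- the relations in the isometry group, from the relations in `GL` -/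
noncomputable def isoRel (R : CTD.StORel n F (GL (DIdx n) F))
    (hR : ∀ a b, IsRt a b → ∀ t, ((R.x a b t : GL (DIdx n) F) : Matrix (DIdx n) (DIdx n) F) = rootMat a b t) :
    CTD.StORel n F ↥(Cfsg.isometryGroup F (Cfsg.quadFormPlus n F)) :=
  pullRel (Subgroup.subtype _) (Subgroup.subtype_injective _) R isoX
    (by
      intro a b h t
      apply Units.ext
      rw [hR a b h t]
      exact isoX_coe h t)

theorem isoRel_coe (R : CTD.StORel n F (GL (DIdx n) F))
    (hR : ∀ a b, IsRt a b → ∀ t, ((R.x a b t : GL (DIdx n) F) : Matrix (DIdx n) (DIdx n) F) = rootMat a b t)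
    (a b : DIdx n) (h : IsRt a b) (t : F) :
    ((((isoRel R hR).x a b t : ↥(Cfsg.isometryGroup F (Cfsg.quadFormPlus n F))) : GL (DIdx n) F) :
      Matrix (DIdx n) (DIdx n) F) = rootMat a b t :=
  isoX_coe h t

/-- **helper11's `OmegaStatement`**, from (T1) for the presented group -/
theorem exists_omega_hom [Fintype F] (hn : 4 ≤ n)
    (R : CTD.StORel n F ↥(Cfsg.isometryGroup F (Cfsg.quadFormPlus n F)))
    (hR : ∀ a b, IsRt a b → ∀ t,
      (((R.x a b t : ↥(Cfsg.isometryGroup F (Cfsg.quadFormPlus n F))) : GL (DIdx n) F) :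
        Matrix (DIdx n) (DIdx n) F) = rootMat a b t)
    (T1 : (stoLift R).ker ≤ Subgroup.center (StOGrp n F))
    {G : Type*} [Group G] (S : CTD.StORel n F G)
    (hgen : Subgroup.closure {g | ∃ a b t, IsRt a b ∧ g = S.x a b t} = ⊤)
    (hZ : Subgroup.center G = ⊥) :
    ∃ ψ : ↥(Cfsg.Omega F (Cfsg.quadFormPlus n F)) →* G, Function.Surjective ψ := by
  -- `π : St → G` is onto
  have hπ : Function.Surjective (stoLift S) := by
    rw [← MonoidHom.range_eq_top, eq_top_iff, ← hgen, Subgroup.closure_le]
    rintro g ⟨a, b, t, hab, rfl⟩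
    exact ⟨(stoRel n F).x a b t, stoLift_x S hab t⟩
  -- the range of `toO` is `Ω`
  have hrange : (stoLift R).range = Cfsg.Omega F (Cfsg.quadFormPlus n F) := by
    rw [← closure_rootMat_eq_omega hn F, MonoidHom.range_eq_map, ← stoGrp_closure, MonoidHom.map_closure]
    congr 1
    ext g
    constructor
    · rintro ⟨_, ⟨a, b, t, hab, rfl⟩, rfl⟩
      refine ⟨a, b, t, hab, ?_⟩
      rw [stoLift_x R hab t]
      exact hR a b hab t
    · rintro ⟨a, b, t, hab, hg⟩
      refine ⟨(stoRel n F).x a b t, ⟨a, b, t, hab, rfl⟩, ?_⟩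
      rw [stoLift_x R hab t]
      exact Subtype.ext (Units.ext ((hR a b hab t).trans hg.symm))
  have hmem : ∀ s, stoLift R s ∈ Cfsg.Omega F (Cfsg.quadFormPlus n F) := by
    intro s
    rw [← hrange]
    exact ⟨s, rfl⟩
  let toΩ : StOGrp n F →* ↥(Cfsg.Omega F (Cfsg.quadFormPlus n F)) := (stoLift R).codRestrict _ hmem
  have hsurj : Function.Surjective toΩ := by
    rintro ⟨g, hg⟩
    rw [← hrange] at hg
    obtain ⟨s, rfl⟩ := hg
    exact ⟨s, rfl⟩
  have hker : toΩ.ker ≤ (stoLift S).ker := by
    intro k hk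
    have hk' : k ∈ (stoLift R).ker := by
      rw [MonoidHom.mem_ker] at hk ⊢
      exact congrArg Subtype.val hk
    have hc := T1 hk'
    rw [MonoidHom.mem_ker]
    have : stoLift S k ∈ Subgroup.center G := by
      rw [Subgroup.mem_center_iff]
      intro g
      obtain ⟨s, rfl⟩ := hπ g
      rw [← map_mul, ← map_mul, (Subgroup.mem_center_iff.mp hc) s]
    rw [hZ, Subgroup.mem_bot] at this
    exact this
  refine ⟨toΩ.liftOfSurjective hsurj ⟨stoLift S, hker⟩, ?_⟩
  intro g
  obtain ⟨s, rfl⟩ := hπ g
  exact ⟨toΩ s, MonoidHom.liftOfRightInverse_comp_apply _ _ _ _ s⟩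

end main

end Cfsg.Agent.Lib.Helper20.StO
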