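import Mathlib
import Cfsg.Agent.Lib.Helper20.SuzCenter

set_option autoImplicit false

/-!
# The centre of a Suzuki 2-group, part 2: the subgroup `B` over a good subgroup `A`
-/

namespace Cfsg.Agent.Lib.Helper20.SuzTwist

variable {P : Type*} [Group P]

/-- Central elements of square one. -/
def Zsub (Q : Type*) [Group Q] : Subgroup Q where
  carrier := {c | c ∈ Subgroup.center Q ∧ c * c = 1}
  mul_mem' := by
    rintro a b ⟨ha, ha2⟩ ⟨hb, hb2⟩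
    refine ⟨Subgroup.mul_mem _ ha hb, ?_⟩
    have hcm : b * a = a * b := Subgroup.mem_center_iff.mp ha b
    calc a * b * (a * b) = a * (b * a) * b := by group
      _ = a * (a * b) * b := by rw [hcm]
      _ = (a * a) * (b * b) := by group
      _ = 1 := by rw [ha2, hb2, one_mul]
  one_mem' := ⟨Subgroup.one_mem _, by simp⟩
  inv_mem' := by
    rintro a ⟨ha, ha2⟩
    refine ⟨Subgroup.inv_mem _ ha, ?_⟩
    rw [← mul_inv_rev, ha2, inv_one]

instance Zsub_normal (Q : Type*) [Group Q] : (Zsub Q).Normal :=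
  ⟨fun c hc g => by
    have h : g * c * g⁻¹ = c := by
      rw [Subgroup.mem_center_iff.mp hc.1 g, mul_inv_cancel_right]
    rw [h]
    exact hc⟩

/-- The preimage of `Ω₁(Z(P/A))`. -/
def Bsub (A : Subgroup P) [A.Normal] : Subgroup P :=
  (Zsub (P ⧸ A)).comap (QuotientGroup.mk' A)

instance Bsub_normal (A : Subgroup P) [A.Normal] : (Bsub A).Normal := by
  unfold Bsub
  infer_instance

theorem mem_Bsub (A : Subgroup P) [A.Normal] (x : P) :
    x ∈ Bsub A ↔ x * x ∈ A ∧ ∀ y, x⁻¹ * y⁻¹ * x * y ∈ A := by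
  constructor
  · rintro ⟨hc, h2⟩
    constructor
    · have h : ((x * x : P) : P ⧸ A) = 1 := h2
      exact (QuotientGroup.eq_one_iff _).mp h
    · intro y
      have h : (y : P ⧸ A) * (x : P ⧸ A) = (x : P ⧸ A) * (y : P ⧸ A) :=
        Subgroup.mem_center_iff.mp hc (y : P ⧸ A)
      apply (QuotientGroup.eq_one_iff _).mp
      simp only [QuotientGroup.mk_mul, QuotientGroup.mk_inv]
      calc (x : P ⧸ A)⁻¹ * (y : P ⧸ A)⁻¹ * (x : P ⧸ A) * (y : P ⧸ A)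
          = (x : P ⧸ A)⁻¹ * (y : P ⧸ A)⁻¹ * ((x : P ⧸ A) * (y : P ⧸ A)) := by group
        _ = (x : P ⧸ A)⁻¹ * (y : P ⧸ A)⁻¹ * ((y : P ⧸ A) * (x : P ⧸ A)) := by rw [h]
        _ = 1 := by group
  · rintro ⟨h2, hc⟩
    refine ⟨?_, ?_⟩
    · rw [Subgroup.mem_center_iff]
      intro g
      obtain ⟨y, rfl⟩ := QuotientGroup.mk_surjective g
      have h := (QuotientGroup.eq_one_iff (N := A) _).mpr (hc y)
      simp only [QuotientGroup.mk_mul, QuotientGroup.mk_inv] at h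
      change (y : P ⧸ A) * (x : P ⧸ A) = (x : P ⧸ A) * (y : P ⧸ A)
      calc (y : P ⧸ A) * (x : P ⧸ A)
          = (y : P ⧸ A) * (x : P ⧸ A) *
              ((x : P ⧸ A)⁻¹ * (y : P ⧸ A)⁻¹ * (x : P ⧸ A) * (y : P ⧸ A)) := by
            rw [h, mul_one]
        _ = (x : P ⧸ A) * (y : P ⧸ A) := by group
    · have h := (QuotientGroup.eq_one_iff (N := A) _).mpr h2
      exact h

theorem Good.le_Bsub {K : Subgroup (MulAut P)} {A : Subgroup P} [A.Normal] (hA : Good K A)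
    {a : P} (ha : a ∈ A) : a ∈ Bsub A := by
  rw [mem_Bsub]
  refine ⟨A.mul_mem ha ha, fun y => ?_⟩
  have h : a⁻¹ * y⁻¹ * a * y = a⁻¹ * (y⁻¹ * a * y) := by group
  rw [h]
  exact A.mul_mem (A.inv_mem ha) (hA.conj_mem y ha)

theorem Good.Bsub_inv {K : Subgroup (MulAut P)} {A : Subgroup P} [A.Normal] (hA : Good K A)
    (φ : MulAut P) (hφ : φ ∈ K) {x : P} (hx : x ∈ Bsub A) : φ x ∈ Bsub A := by
  rw [mem_Bsub] at hx ⊢
  refine ⟨?_, fun y => ?_⟩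
  · rw [← map_mul]
    exact hA.inv φ hφ _ hx.1
  · have h := hA.inv φ hφ _ (hx.2 (φ.symm y))
    simpa using h

theorem exists_mem_Bsub_not_mem [Finite P] (hP : IsPGroup 2 P) (A : Subgroup P) [A.Normal]
    (hne : A ≠ ⊤) : ∃ x ∈ Bsub A, x ∉ A := by
  obtain ⟨g, hg⟩ : ∃ g : P, g ∉ A := by
    by_contra h
    exact hne (eq_top_iff.mpr fun x _ => by
      by_contra hx
      exact h ⟨x, hx⟩)
  haveI : Nontrivial (P ⧸ A) :=
    ⟨⟨(g : P ⧸ A), 1, fun h => hg ((QuotientGroup.eq_one_iff g).mp h)⟩⟩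
  obtain ⟨c, hcc, hc1, hc2⟩ := exists_central_invol (hP.to_quotient A)
  obtain ⟨x, rfl⟩ := QuotientGroup.mk_surjective c
  refine ⟨x, ⟨?_, hc2⟩, ?_⟩
  · rw [Subgroup.mem_center_iff]
    intro g'
    exact (hcc g').symm
  · intro hxA
    exact hc1 ((QuotientGroup.eq_one_iff x).mpr hxA)

/-- The configuration to be refuted. -/
structure Cfg (K : Subgroup (MulAut P)) (A : Subgroup P) (n : ℕ) : Prop where
  su : Setup P K
  gd : Good K A
  o4 : ∀ x : P, x ^ 4 = 1 → ∀ y, x * y = y * x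
  cenA : ∀ x : P, (∀ y, x * y = y * x) → x ∈ A
  expA : ∀ b ∈ A, b ^ (2 ^ (n + 2)) = 1
  wit : ∃ e ∈ A, e ^ (2 ^ (n + 1)) ≠ 1

section cfg

variable {K : Subgroup (MulAut P)} {A : Subgroup P} {n : ℕ}

theorem Cfg.hom (C : Cfg K A n) (r j : ℕ) (h : r + j = n + 2) {b : P} (hb : b ∈ A)
    (hpow : b ^ (2 ^ r) = 1) : ∃ c ∈ A, c ^ (2 ^ j) = b :=
  homocyclic C.su C.gd (n + 2) (by omega) C.expA (by simpa using C.wit) r j h b hb hpow

theorem Cfg.dl_pow_top (C : Cfg K A n) (x : P) {b : P} (hb : b ∈ A) : dl x b ^ (2 ^ n) = 1 := by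
  rw [← C.gd.dl_pow x hb]
  apply dl_central
  apply C.o4
  rw [← pow_mul, show 2 ^ n * 4 = 2 ^ (n + 2) by ring]
  exact C.expA b hb

theorem Cfg.dl_fourth (C : Cfg K A n) (x : P) {b : P} (hb : b ∈ A) :
    ∃ g ∈ A, g ^ 4 = dl x b := by
  obtain ⟨g, hg, h⟩ := C.hom n 2 rfl (C.gd.dl_mem x hb) (C.dl_pow_top x hb)
  exact ⟨g, hg, by simpa using h⟩

theorem Cfg.descent (C : Cfg K A n) [A.Normal] :
    ∀ j k : ℕ, n + 2 ≤ k + 1 + j → ∀ x ∈ Bsub A, ∀ d ∈ A, x * x = d ^ (2 ^ (k + 1)) → x ∈ A := by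
  intro j
  induction j with
  | zero =>
    intro k hk x _ d hd hxd
    have h1 : d ^ (2 ^ (k + 1)) = 1 := by
      obtain ⟨m, hm⟩ : ∃ m, k + 1 = n + 2 + m := ⟨k + 1 - (n + 2), by omega⟩
      rw [hm, pow_add, pow_mul, C.expA d hd, one_pow]
    rw [h1] at hxd
    exact C.cenA x (C.su.cen x hxd)
  | succ j ih =>
    intro k hk x hx d hd hxd
    have hbA : (d⁻¹) ^ (2 ^ k) ∈ A := A.pow_mem (A.inv_mem hd) _
    set b := (d⁻¹) ^ (2 ^ k) with hb
    have hx'B : x * b ∈ Bsub A := (Bsub A).mul_mem hx (C.gd.le_Bsub hbA)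
    have hbb : b * b = (x * x)⁻¹ := by
      rw [hxd, hb, ← pow_add, ← two_mul, ← pow_succ', inv_pow]
    have hdlA := C.gd.dl_mem x hbA
    have hsq : (x * b) * (x * b) = dl x b := by
      have h1 : (x * b) * (x * b) = (x * x) * (x⁻¹ * b * x) * b := by group
      rw [h1, conj_eq_dl]
      calc x * x * (b * dl x b) * b = (x * x) * (b * (dl x b * b)) := by group
        _ = (x * x) * (b * (b * dl x b)) := by rw [(C.gd.commute hdlA hbA).eq]
        _ = ((x * x) * (b * b)) * dl x b := by group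
        _ = dl x b := by rw [hbb, mul_inv_cancel, one_mul]
    obtain ⟨g, hgA, hg⟩ := C.dl_fourth x (A.inv_mem hd)
    have hsq2 : (x * b) * (x * b) = g ^ (2 ^ (k + 1 + 1)) := by
      rw [hsq, hb, C.gd.dl_pow x (A.inv_mem hd), ← hg, ← pow_mul]
      congr 1
      ring
    have hx'A := ih (k + 1) (by omega) (x * b) hx'B g hgA hsq2
    have : x = (x * b) * b⁻¹ := by group
    rw [this]
    exact A.mul_mem hx'A (A.inv_mem hbA)

theorem Cfg.comm_identity (C : Cfg K A n) [A.Normal] {x x' : P} (hx : x ∈ Bsub A) :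
    dl x' (x * x) = (x⁻¹ * x'⁻¹ * x * x') * (x⁻¹ * x'⁻¹ * x * x') * dl x (x⁻¹ * x'⁻¹ * x * x') := by
  have hwA : x⁻¹ * x'⁻¹ * x * x' ∈ A := ((mem_Bsub A x).mp hx).2 x'
  set w := x⁻¹ * x'⁻¹ * x * x' with hw
  have h1 : dl x' (x * x) = (x⁻¹ * w * x) * w := by
    rw [hw]; unfold dl; group
  rw [h1, conj_eq_dl, mul_assoc, (C.gd.commute (C.gd.dl_mem x hwA) hwA).eq, ← mul_assoc]

theorem Cfg.comm_pow (C : Cfg K A n) [A.Normal] {x x' : P} (hx : x ∈ Bsub A) :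
    (x⁻¹ * x'⁻¹ * x * x') ^ (2 ^ (n + 1)) = 1 := by
  have hwA : x⁻¹ * x'⁻¹ * x * x' ∈ A := ((mem_Bsub A x).mp hx).2 x'
  have hid := C.comm_identity (x' := x') hx
  set w := x⁻¹ * x'⁻¹ * x * x' with hw
  have hxxA : x * x ∈ A := ((mem_Bsub A x).mp hx).1
  have h1 : w * w = dl x' (x * x) * (dl x w)⁻¹ := by
    rw [hid]; group
  have hcm : Commute (dl x' (x * x)) (dl x w)⁻¹ :=
    C.gd.commute (C.gd.dl_mem x' hxxA) (A.inv_mem (C.gd.dl_mem x hwA))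
  have h2 : (w * w) ^ (2 ^ n) = 1 := by
    rw [h1, hcm.mul_pow, C.dl_pow_top x' hxxA, inv_pow, C.dl_pow_top x hwA, inv_one, one_mul]
  rw [pow_succ', pow_mul, pow_two]
  exact h2

theorem Cfg.s_eq (x : P) (m : ℕ) : x ^ (2 ^ (m + 1)) = (x * x) ^ (2 ^ m) := by
  rw [pow_succ', pow_mul, pow_two]

theorem Cfg.s_sq (C : Cfg K A n) [A.Normal] {x : P} (hx : x ∈ Bsub A) :
    x ^ (2 ^ (n + 2)) * x ^ (2 ^ (n + 2)) = 1 := by
  have hxxA : x * x ∈ A := ((mem_Bsub A x).mp hx).1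
  rw [Cfg.s_eq x (n + 1), ← pow_add, ← two_mul, ← pow_succ']
  exact C.expA _ hxxA

theorem Cfg.s_mul (C : Cfg K A n) [A.Normal] {x x' : P} (hx : x ∈ Bsub A) (hx' : x' ∈ Bsub A) :
    (x * x') ^ (2 ^ (n + 2)) = x ^ (2 ^ (n + 2)) * x' ^ (2 ^ (n + 2)) := by
  have hxxA : x * x ∈ A := ((mem_Bsub A x).mp hx).1
  have hxxA' : x' * x' ∈ A := ((mem_Bsub A x').mp hx').1
  have hwA : x'⁻¹ * x⁻¹ * x' * x ∈ A := ((mem_Bsub A x').mp hx').2 x
  have hcA : x' * (x'⁻¹ * x⁻¹ * x' * x) * x'⁻¹ ∈ A := C.gd.normal.conj_mem _ hwA x'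
  have hc : (x' * (x'⁻¹ * x⁻¹ * x' * x) * x'⁻¹) ^ (2 ^ (n + 1)) = 1 := by
    rw [conj_pow, C.comm_pow hx', mul_one, mul_inv_cancel]
  have h1 : (x * x') * (x * x') = (x * x) * (x' * (x'⁻¹ * x⁻¹ * x' * x) * x'⁻¹) * (x' * x') := by
    group
  rw [Cfg.s_eq (x * x') (n + 1), Cfg.s_eq x (n + 1), Cfg.s_eq x' (n + 1), h1,
    (C.gd.commute (A.mul_mem hxxA hcA) hxxA').mul_pow, (C.gd.commute hxxA hcA).mul_pow, hc, mul_one]

theorem Cfg.s_ker (C : Cfg K A n) [A.Normal] {x : P} (hx : x ∈ Bsub A)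
    (h : x ^ (2 ^ (n + 2)) = 1) : x ∈ A := by
  have hxxA : x * x ∈ A := ((mem_Bsub A x).mp hx).1
  rw [Cfg.s_eq x (n + 1)] at h
  obtain ⟨d, hdA, hd⟩ := C.hom (n + 1) 1 rfl hxxA h
  exact C.descent (n + 1) 0 (by omega) x hx d hdA (by rw [hd])

end cfg

end Cfsg.Agent.Lib.Helper20.SuzTwist
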