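import Mathlib
import Cfsg.Agent.Lib.Helper20.SuzCenter2

set_option autoImplicit false

/-!
# The centre of a Suzuki 2-group, part 3: the contradiction
-/

namespace Cfsg.Agent.Lib.Helper20.SuzTwist

variable {P : Type*} [Group P]

section cfg

variable {K : Subgroup (MulAut P)} {A : Subgroup P} {n : ℕ}

/-- One step down in the level of the action of `B` on `A`. -/
theorem Cfg.level (C : Cfg K A n) [A.Normal] (r : ℕ)
    (hr : ∀ x ∈ Bsub A, ∀ b ∈ A, dl x b ^ (2 ^ (r + 1)) = 1) :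
    ∀ x ∈ Bsub A, ∀ b ∈ A, dl x b ^ (2 ^ r) = 1 := by
  haveI := C.su.fin
  have hsq : ∀ x ∈ Bsub A, ∀ b ∈ A, dl x b ^ (2 ^ r) * dl x b ^ (2 ^ r) = 1 := by
    intro x hx b hb
    rw [← pow_add, ← two_mul, ← pow_succ']
    exact hr x hx b hb
  refine twist_vanish K C.su.cyc C.su.reg C.su.cen C.su.two (Bsub A) A
    (fun φ hφ x hx => C.gd.Bsub_inv φ hφ hx) C.gd.inv
    (fun x => x ^ (2 ^ (n + 2))) (fun b => b ^ (2 ^ (n + 1))) (fun x b => dl x b ^ (2 ^ r))
    ?_ ?_ ?_ ?_ ?_ ?_ ?_ ?_ ?_ ?_ ?_ ?_ ?_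
  · intro x hx
    exact C.s_sq hx
  · intro x hx x' hx'
    exact C.s_mul hx hx'
  · intro φ _ x _
    simp only [map_pow]
  · intro b hb
    rw [← pow_add, ← two_mul, ← pow_succ']
    exact C.expA b hb
  · intro b hb b' hb'
    exact (C.gd.commute hb hb').mul_pow _
  · intro φ _ b _
    simp only [map_pow]
  · exact hsq
  · intro x hx x' _ b hb
    have h1 := C.gd.dl_mul_left x x' hb
    have hA1 := C.gd.dl_mem x hb
    have hA2 := C.gd.dl_mem x' hb
    have hA3 := C.gd.dl_mem x' hA1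
    have h3 : dl x' (dl x b) ^ (2 ^ r) = 1 := by
      rw [← C.gd.dl_pow x' hA1]
      exact dl_central _ _ (C.su.cen _ (hsq x hx b hb))
    rw [h1, (C.gd.commute (A.mul_mem hA2 hA1) hA3).mul_pow, (C.gd.commute hA2 hA1).mul_pow, h3,
      mul_one, (C.gd.commute (A.pow_mem hA2 _) (A.pow_mem hA1 _)).eq]
  · intro x _ b hb b' hb'
    rw [C.gd.dl_mul x hb hb', (C.gd.commute (C.gd.dl_mem x hb) (C.gd.dl_mem x hb')).mul_pow]
  · intro φ _ x _ b _
    simp only [map_pow, dl_map]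
  · intro x hx b hb h
    rw [C.gd.dl_of_mem (C.s_ker hx h) hb, one_pow]
  · intro x hx b hb h
    obtain ⟨c, hcA, hc⟩ := C.hom (n + 1) 1 rfl hb h
    rw [← hc, C.gd.dl_pow x hcA, ← pow_mul, pow_one, ← pow_succ']
    exact hr x hx c hcA
  · intro x hx b hb h
    have hxxA : x * x ∈ A := ((mem_Bsub A x).mp hx).1
    rw [Cfg.s_eq x (n + 1)] at h
    have h1 : ((x * x)⁻¹ * b) ^ (2 ^ (n + 1)) = 1 := by
      rw [(C.gd.commute (A.inv_mem hxxA) hb).mul_pow, inv_pow, h, inv_mul_cancel]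
    obtain ⟨c, hcA, hc⟩ := C.hom (n + 1) 1 rfl (A.mul_mem (A.inv_mem hxxA) hb) h1
    have hb' : b = (x * x) * c ^ 2 := by
      rw [pow_one] at hc
      rw [hc]; group
    rw [hb', C.gd.dl_mul x hxxA (A.pow_mem hcA 2), dl_self_sq, one_mul, C.gd.dl_pow x hcA,
      ← pow_mul, ← pow_succ']
    exact hr x hx c hcA

/-- `B` centralizes `A`. -/
theorem Cfg.dl_trivial (C : Cfg K A n) [A.Normal] : ∀ x ∈ Bsub A, ∀ b ∈ A, dl x b = 1 := by
  have key : ∀ r : ℕ, (∀ x ∈ Bsub A, ∀ b ∈ A, dl x b ^ (2 ^ r) = 1) →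
      ∀ x ∈ Bsub A, ∀ b ∈ A, dl x b = 1 := by
    intro r
    induction r with
    | zero =>
      intro h x hx b hb
      have := h x hx b hb
      simpa using this
    | succ r ih =>
      intro h
      exact ih (C.level r h)
  exact key n (fun x _ b hb => C.dl_pow_top x hb)

theorem Cfg.conj_trivial (C : Cfg K A n) [A.Normal] {x b : P} (hx : x ∈ Bsub A) (hb : b ∈ A) :
    x⁻¹ * b * x = b := by
  rw [conj_eq_dl, C.dl_trivial x hx b hb, mul_one]

/-- `B` is abelian. -/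
theorem Cfg.B_comm (C : Cfg K A n) [A.Normal] :
    ∀ x ∈ Bsub A, ∀ y ∈ Bsub A, x * y = y * x := by
  haveI := C.su.fin
  have hw2 : ∀ x ∈ Bsub A, ∀ y ∈ Bsub A,
      (x⁻¹ * y⁻¹ * x * y) * (x⁻¹ * y⁻¹ * x * y) = 1 := by
    intro x hx y hy
    have hwA : x⁻¹ * y⁻¹ * x * y ∈ A := ((mem_Bsub A x).mp hx).2 y
    have hxxA : x * x ∈ A := ((mem_Bsub A x).mp hx).1
    have hid := C.comm_identity (x' := y) hx
    rw [C.dl_trivial y hy _ hxxA, C.dl_trivial x hx _ hwA, mul_one] at hid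
    exact hid.symm
  have hwc : ∀ x ∈ Bsub A, ∀ y ∈ Bsub A, ∀ g : P,
      (x⁻¹ * y⁻¹ * x * y) * g = g * (x⁻¹ * y⁻¹ * x * y) :=
    fun x hx y hy => C.su.cen _ (hw2 x hx y hy)
  have hvan : ∀ x ∈ Bsub A, ∀ y ∈ Bsub A, x⁻¹ * y⁻¹ * x * y = 1 := by
    refine twist_vanish K C.su.cyc C.su.reg C.su.cen C.su.two (Bsub A) (Bsub A)
      (fun φ hφ x hx => C.gd.Bsub_inv φ hφ hx) (fun φ hφ x hx => C.gd.Bsub_inv φ hφ hx)
      (fun x => x ^ (2 ^ (n + 2))) (fun x => x ^ (2 ^ (n + 2))) (fun x y => x⁻¹ * y⁻¹ * x * y)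
      (fun x hx => C.s_sq hx) (fun x hx x' hx' => C.s_mul hx hx')
      (fun φ _ x _ => by simp only [map_pow])
      (fun x hx => C.s_sq hx) (fun x hx x' hx' => C.s_mul hx hx')
      (fun φ _ x _ => by simp only [map_pow])
      hw2 ?_ ?_ ?_ ?_ ?_ ?_
    · intro x hx x' hx' y hy
      have h1 : (x * x')⁻¹ * y⁻¹ * (x * x') * y
          = x'⁻¹ * ((x⁻¹ * y⁻¹ * x * y) * (y⁻¹ * x' * y)) := by group
      calc (x * x')⁻¹ * y⁻¹ * (x * x') * y
          = x'⁻¹ * ((x⁻¹ * y⁻¹ * x * y) * (y⁻¹ * x' * y)) := h1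
        _ = x'⁻¹ * ((y⁻¹ * x' * y) * (x⁻¹ * y⁻¹ * x * y)) := by rw [hwc x hx y hy]
        _ = (x'⁻¹ * y⁻¹ * x' * y) * (x⁻¹ * y⁻¹ * x * y) := by group
        _ = (x⁻¹ * y⁻¹ * x * y) * (x'⁻¹ * y⁻¹ * x' * y) := (hwc x hx y hy _).symm
    · intro x hx y hy y' hy'
      have h1 : x⁻¹ * (y * y')⁻¹ * x * (y * y')
          = (x⁻¹ * y'⁻¹ * x) * ((x⁻¹ * y⁻¹ * x * y) * y') := by group
      rw [h1, hwc x hx y hy]
      have h2 : x⁻¹ * y'⁻¹ * x * (y' * (x⁻¹ * y⁻¹ * x * y))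
          = (x⁻¹ * y'⁻¹ * x * y') * (x⁻¹ * y⁻¹ * x * y) := by group
      rw [h2, hwc x hx y' hy']
    · intro φ _ x _ y _
      simp
    · intro x hx y hy h
      have hxA := C.s_ker hx h
      have h1 : x⁻¹ * y⁻¹ * x * y = x⁻¹ * (y⁻¹ * x * y) := by group
      rw [h1, C.conj_trivial hy hxA, inv_mul_cancel]
    · intro x hx y hy h
      have hyA := C.s_ker hy h
      have h1 := C.conj_trivial hx (A.inv_mem hyA)
      rw [h1, inv_mul_cancel]
    · intro x hx y hy h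
      have hxi : x⁻¹ ∈ Bsub A := (Bsub A).inv_mem hx
      have h1 : (x⁻¹ * y) ^ (2 ^ (n + 2)) = 1 := by
        rw [C.s_mul hxi hy, inv_pow, h, inv_mul_cancel]
      have haA := C.s_ker ((Bsub A).mul_mem hxi hy) h1
      have h2 := C.conj_trivial hx (A.inv_mem haA)
      have h3 : x⁻¹ * y⁻¹ * x * y = (x⁻¹ * (x⁻¹ * y)⁻¹ * x) * (x⁻¹ * y) := by group
      rw [h3, h2, inv_mul_cancel]
  intro x hx y hy
  have h := hvan x hx y hy
  calc x * y = y * x * (x⁻¹ * y⁻¹ * x * y) := by group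
    _ = y * x := by rw [h, mul_one]

end cfg

/-- The centre of a Suzuki 2-group has exponent two. -/
theorem center_sq_eq_one {K : Subgroup (MulAut P)} (S : Setup P K)
    (hnab : ∃ x y : P, x * y ≠ y * x) : ∀ z ∈ Subgroup.center P, z * z = 1 := by
  haveI := S.fin
  by_contra hcon
  push Not at hcon
  obtain ⟨z0, hz0c, hz0⟩ := hcon
  have hz0c' : ∀ y, z0 * y = y * z0 := fun y => (Subgroup.mem_center_iff.mp hz0c y).symm
  have ho4 := S.o4 ⟨z0, hz0c', hz0⟩
  -- a maximal good subgroup containing the centre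
  have hfin : {A : Subgroup P | Good K A ∧ Subgroup.center P ≤ A}.Finite := Set.toFinite _
  have hne : {A : Subgroup P | Good K A ∧ Subgroup.center P ≤ A}.Nonempty := by
    refine ⟨Subgroup.center P, ⟨?_, inferInstance, ?_⟩, le_refl _⟩
    · intro a ha b _
      exact (Subgroup.mem_center_iff.mp ha b).symm
    · intro φ _ a ha
      rw [Subgroup.mem_center_iff]
      intro g
      exact (central_map φ a (fun y => (Subgroup.mem_center_iff.mp ha y).symm) g).symm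
  obtain ⟨A, hAmax⟩ := hfin.exists_maximal hne
  obtain ⟨⟨hAg, hAc⟩, hAm⟩ := hAmax
  haveI : A.Normal := hAg.normal
  -- the exponent of `A`
  have hexN : ∃ N : ℕ, ∀ b ∈ A, b ^ (2 ^ N) = 1 := by
    haveI : Fact (Nat.Prime 2) := ⟨Nat.prime_two⟩
    obtain ⟨N, hN⟩ := S.pg.exists_card_eq
    refine ⟨N, fun b _ => ?_⟩
    rw [← hN]
    exact pow_card_eq_one'
  classical
  have hNspec := Nat.find_spec hexN
  have hNmin := fun m => Nat.find_min hexN (m := m)
  set N := Nat.find hexN with hNdef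
  have hz0A : z0 ∈ A := hAc hz0c
  have hN2 : 2 ≤ N := by
    by_contra hlt
    apply hz0
    have h1 := hNspec z0 hz0A
    have h2 : N = 0 ∨ N = 1 := by omega
    rcases h2 with h2 | h2
    · rw [h2] at h1
      simp only [pow_zero, pow_one] at h1
      rw [h1, one_mul]
    · rw [h2] at h1
      simp only [pow_one] at h1
      rw [← pow_two]
      exact h1
  obtain ⟨n, hn⟩ : ∃ n, N = n + 2 := ⟨N - 2, by omega⟩
  have hwit : ∃ e ∈ A, e ^ (2 ^ (n + 1)) ≠ 1 := by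
    have := hNmin (n + 1) (by omega)
    push Not at this
    exact this
  have C : Cfg K A n :=
    { su := S
      gd := hAg
      o4 := ho4
      cenA := fun x hx => hAc (Subgroup.mem_center_iff.mpr fun g => (hx g).symm)
      expA := fun b hb => by
        have := hNspec b hb
        rw [hn] at this
        exact this
      wit := hwit }
  -- `B` is good and contains `A` strictly
  have hAtop : A ≠ ⊤ := by
    intro h
    obtain ⟨x, y, hxy⟩ := hnab
    exact hxy (hAg.comm x (h ▸ Subgroup.mem_top x) y (h ▸ Subgroup.mem_top y))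
  obtain ⟨x, hxB, hxA⟩ := exists_mem_Bsub_not_mem S.pg A hAtop
  have hBg : Good K (Bsub A) :=
    { comm := C.B_comm
      normal := inferInstance
      inv := fun φ hφ x hx => hAg.Bsub_inv φ hφ hx }
  have hAB : A ≤ Bsub A := fun a ha => hAg.le_Bsub ha
  have hBA : Bsub A ≤ A := hAm ⟨hBg, hAc.trans hAB⟩ hAB
  exact hxA (hBA hxB)

end Cfsg.Agent.Lib.Helper20.SuzTwist
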