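import Mathlib
import Cfsg.Agent.Lib.Helper20.SuzCenter3

/-!
Helper lemmas (helper20): structure of a Suzuki `2`-group `P` with `|P| = |Z(P)|²`:
`P / Z(P)` and `Z(P)` are elementary abelian, the squaring map induces a bijection
`P / Z(P) → Z(P)`, and `K` is transitive on the non-identity elements of `P / Z(P)`.
-/

set_option autoImplicit false

namespace Cfsg.Agent.Lib.Helper20.SuzTwist

open scoped commutatorElement

variable {P : Type*} [Group P]

/-- the structural facts on a Suzuki `2`-group of order `|Z(P)|²` -/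
structure TypeAData (K : Subgroup (MulAut P)) : Prop where
  sqZ : ∀ x : P, x * x ∈ Subgroup.center P
  commZ : ∀ x y : P, ⁅x, y⁆ ∈ Subgroup.center P
  Z2 : ∀ z ∈ Subgroup.center P, z * z = 1
  invZ : ∀ x : P, x * x = 1 → x ∈ Subgroup.center P
  mapZ : ∀ (k : K) (x : P), (k : MulAut P) x ∈ Subgroup.center P ↔ x ∈ Subgroup.center P
  trans : ∃ x0 : P, x0 ∉ Subgroup.center P ∧ ∀ x : P, x ∉ Subgroup.center P →
    ∃ k : K, ∃ z ∈ Subgroup.center P, x = (k : MulAut P) x0 * z
  transZ : ∃ w0 ∈ Subgroup.center P, w0 ≠ 1 ∧ ∀ z ∈ Subgroup.center P, z ≠ 1 →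
    ∃ k : K, (k : MulAut P) w0 = z
  sqinj : ∀ x y : P, x * x = y * y → x⁻¹ * y ∈ Subgroup.center P
  sqsurj : ∀ z ∈ Subgroup.center P, ∃ x : P, x * x = z

theorem typeAData {K : Subgroup (MulAut P)} (S : Setup P K) (hnab : ∃ x y : P, x * y ≠ y * x)
    (hcard : Nat.card P = Nat.card (Subgroup.center P) ^ 2) : TypeAData K := by
  classical
  haveI := S.fin
  have hZ2 := center_sq_eq_one S hnab
  have hinvZ : ∀ x : P, x * x = 1 → x ∈ Subgroup.center P := by
    intro x hx
    rw [Subgroup.mem_center_iff]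
    intro g
    exact (S.cen x hx g).symm
  have hgood : Good K (Subgroup.center P) := by
    refine ⟨?_, inferInstance, ?_⟩
    · intro a ha b _
      exact (Subgroup.mem_center_iff.mp ha b).symm
    · intro φ _ a ha
      rw [Subgroup.mem_center_iff]
      intro g
      exact (central_map φ a (fun y => (Subgroup.mem_center_iff.mp ha y).symm) g).symm
  have hKZ : ∀ (k : K) (x : P),
      (k : MulAut P) x ∈ Subgroup.center P ↔ x ∈ Subgroup.center P := by
    intro k x
    constructor
    · intro h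
      have := hgood.inv ((k : MulAut P)⁻¹) (K.inv_mem k.2) _ h
      simpa using this
    · exact hgood.inv _ k.2 x
  have hne : Subgroup.center P ≠ ⊤ := by
    intro h
    obtain ⟨x, y, hxy⟩ := hnab
    apply hxy
    have : x ∈ Subgroup.center P := by rw [h]; trivial
    exact (Subgroup.mem_center_iff.mp this y).symm
  obtain ⟨x0, hx0B, hx0Z⟩ := exists_mem_Bsub_not_mem S.pg (Subgroup.center P) hne
  have hx0 := (mem_Bsub _ x0).mp hx0B
  obtain ⟨w0, hw0⟩ : ∃ w0, w0 = x0 * x0 := ⟨_, rfl⟩
  have hw0Z : w0 ∈ Subgroup.center P := hw0 ▸ hx0.1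
  have hw01 : w0 ≠ 1 := by
    intro h
    apply hx0Z
    apply hinvZ
    rw [← hw0]; exact h
  have hw02 : w0 * w0 = 1 := hZ2 w0 hw0Z
  have hkw : ∀ k : K, (k : MulAut P) w0 ≠ 1 ∧ (k : MulAut P) w0 * (k : MulAut P) w0 = 1 := by
    intro k
    constructor
    · intro h
      apply hw01
      exact (k : MulAut P).injective (h.trans (map_one _).symm)
    · rw [← map_mul, hw02, map_one]
  have hKinj : ∀ k k' : K, (k : MulAut P) w0 = (k' : MulAut P) w0 → k = k' := by
    intro k k' h
    obtain ⟨k'', -, huniq⟩ := S.reg w0 ((k : MulAut P) w0) hw01 hw02 (hkw k).1 (hkw k).2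
    rw [huniq k rfl, huniq k' h.symm]
  haveI : Finite K :=
    Finite.of_injective (fun k : K => (k : MulAut P) w0) (fun k k' h => hKinj k k' h)
  have htrZ : ∀ z ∈ Subgroup.center P, z ≠ 1 → ∃ k : K, (k : MulAut P) w0 = z := by
    intro z hz hz1
    obtain ⟨k, hk, -⟩ := S.reg w0 z hw01 hw02 hz1 (hZ2 z hz)
    exact ⟨k, hk⟩
  have hcardK : Nat.card (Subgroup.center P) ≤ Nat.card K + 1 := by
    rw [← Finite.card_option]
    apply Nat.card_le_card_of_surjective (fun o : Option K =>
      o.elim (1 : Subgroup.center P) (fun k => ⟨(k : MulAut P) w0, (hKZ k w0).mpr hw0Z⟩))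
    intro z
    by_cases hz : z = 1
    · exact ⟨none, hz.symm⟩
    · have hz1 : (z : P) ≠ 1 := fun h => hz (Subtype.ext h)
      obtain ⟨k, hk⟩ := htrZ z z.2 hz1
      exact ⟨some k, Subtype.ext hk⟩
  have hsq : ∀ (k : K) (z : P), z ∈ Subgroup.center P →
      ((k : MulAut P) x0 * z) * ((k : MulAut P) x0 * z) = (k : MulAut P) w0 := by
    intro k z hz
    have h1 : z * (k : MulAut P) x0 = (k : MulAut P) x0 * z :=
      (Subgroup.mem_center_iff.mp hz _).symm
    calc ((k : MulAut P) x0 * z) * ((k : MulAut P) x0 * z)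
        = (k : MulAut P) x0 * (z * (k : MulAut P) x0) * z := by group
      _ = (k : MulAut P) x0 * ((k : MulAut P) x0 * z) * z := by rw [h1]
      _ = ((k : MulAut P) x0 * (k : MulAut P) x0) * (z * z) := by group
      _ = (k : MulAut P) w0 := by rw [hZ2 z hz, mul_one, ← map_mul, hw0]
  -- the decomposition
  let g : (Subgroup.center P) ⊕ (K × Subgroup.center P) → P :=
    Sum.elim (fun z : Subgroup.center P => (z : P))
      (fun kz : K × Subgroup.center P => (kz.1 : MulAut P) x0 * (kz.2 : P))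
  have hginj : Function.Injective g := by
    rintro (z | ⟨k, z⟩) (z' | ⟨k', z'⟩) h
    · exact congrArg Sum.inl (Subtype.ext h)
    · exfalso
      have h' : (z : P) = (k' : MulAut P) x0 * z' := h
      have : (k' : MulAut P) x0 ∈ Subgroup.center P := by
        have e : (k' : MulAut P) x0 = z * (z' : P)⁻¹ := by rw [h']; group
        rw [e]; exact Subgroup.mul_mem _ z.2 (Subgroup.inv_mem _ z'.2)
      exact hx0Z ((hKZ k' x0).mp this)
    · exfalso
      have h' : (k : MulAut P) x0 * z = (z' : P) := h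
      have : (k : MulAut P) x0 ∈ Subgroup.center P := by
        have e : (k : MulAut P) x0 = z' * (z : P)⁻¹ := by rw [← h']; group
        rw [e]; exact Subgroup.mul_mem _ z'.2 (Subgroup.inv_mem _ z.2)
      exact hx0Z ((hKZ k x0).mp this)
    · have h' : (k : MulAut P) x0 * z = (k' : MulAut P) x0 * z' := h
      have hk : k = k' := by
        apply hKinj
        rw [← hsq k z z.2, ← hsq k' z' z'.2, h']
      subst hk
      have hz : z = z' := Subtype.ext (mul_left_cancel h')
      rw [hz]
  have hcardsum : Nat.card ((Subgroup.center P) ⊕ (K × Subgroup.center P)) =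
      Nat.card (Subgroup.center P) + Nat.card K * Nat.card (Subgroup.center P) := by
    rw [Nat.card_sum, Nat.card_prod]
  have hle : Nat.card P ≤ Nat.card ((Subgroup.center P) ⊕ (K × Subgroup.center P)) := by
    rw [hcardsum, hcard, sq]
    nlinarith [hcardK]
  have hgbij : Function.Bijective g := hginj.bijective_of_nat_card_le hle
  have hdec : ∀ x : P, x ∈ Subgroup.center P ∨
      ∃ k : K, ∃ z ∈ Subgroup.center P, x = (k : MulAut P) x0 * z := by
    intro x
    obtain ⟨s, hs⟩ := hgbij.2 x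
    rcases s with z | ⟨k, z⟩
    · left; rw [← hs]; exact z.2
    · right; exact ⟨k, z, z.2, hs.symm⟩
  have hallB : ∀ x : P, x ∈ Bsub (Subgroup.center P) := by
    intro x
    rcases hdec x with h | ⟨k, z, hz, rfl⟩
    · exact hgood.le_Bsub h
    · exact Subgroup.mul_mem _ (hgood.Bsub_inv _ k.2 hx0B) (hgood.le_Bsub hz)
  refine ⟨?_, ?_, hZ2, hinvZ, hKZ, ⟨x0, hx0Z, ?_⟩, ⟨w0, hw0Z, hw01, htrZ⟩, ?_, ?_⟩
  · intro x
    rcases hdec x with h | ⟨k, z, hz, rfl⟩
    · exact Subgroup.mul_mem _ h h
    · rw [hsq k z hz]; exact (hKZ k w0).mpr hw0Z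
  · intro x y
    have h := ((mem_Bsub _ x⁻¹).mp (hallB x⁻¹)).2 y⁻¹
    rw [inv_inv, inv_inv] at h
    rw [commutatorElement_def]
    exact h
  · intro x hx
    rcases hdec x with h | h
    · exact absurd h hx
    · exact h
  · intro x y hxy
    rcases hdec x with hx | ⟨k, z, hz, rfl⟩
    · have hy : y ∈ Subgroup.center P := by
        apply hinvZ
        rw [← hxy]; exact hZ2 x hx
      exact Subgroup.mul_mem _ (Subgroup.inv_mem _ hx) hy
    · rcases hdec y with hy | ⟨k', z', hz', rfl⟩
      · exfalso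
        rw [hsq k z hz, hZ2 y hy] at hxy
        exact (hkw k).1 hxy
      · rw [hsq k z hz, hsq k' z' hz'] at hxy
        have hk := hKinj k k' hxy
        subst hk
        have e : ((k : MulAut P) x0 * z)⁻¹ * ((k : MulAut P) x0 * z') = z⁻¹ * z' := by group
        rw [e]
        exact Subgroup.mul_mem _ (Subgroup.inv_mem _ hz) hz'
  · intro z hz
    by_cases hz1 : z = 1
    · exact ⟨1, by rw [hz1, mul_one]⟩
    · obtain ⟨k, hk⟩ := htrZ z hz hz1
      refine ⟨(k : MulAut P) x0, ?_⟩
      rw [← map_mul, ← hw0, hk]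

end Cfsg.Agent.Lib.Helper20.SuzTwist
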