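import Mathlib
import Cfsg.Prelude.Def_LieRecognition

/-!
Helper lemmas (helper20): a model `TA F φ` on `F × F` of the Suzuki `2`-group of type A, its
identification with `Cfsg.suzukiTypeA F φ`, and a recognition theorem: a finite group `P` whose
centre and central quotient are coordinatized by `F` compatibly with the squaring map
`x ↦ x φ(x)` is isomorphic to `TA F φ`.
-/

set_option autoImplicit false

namespace Cfsg.Agent.Lib.Helper20.SuzA

/-- the model of the type A group: pairs `(x, y)` with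
`(x, y) (x', y') = (x + x', y + y' + φ x * x')` -/
@[ext] structure TA (F : Type*) [Field F] (φ : F →+* F) where
  x : F
  y : F

section Model

variable {F : Type*} [Field F] {φ : F →+* F}

instance : Mul (TA F φ) := ⟨fun a b => ⟨a.x + b.x, a.y + b.y + φ a.x * b.x⟩⟩
instance : One (TA F φ) := ⟨⟨0, 0⟩⟩
instance : Inv (TA F φ) := ⟨fun a => ⟨-a.x, -a.y + φ a.x * a.x⟩⟩

@[simp] theorem mul_x (a b : TA F φ) : (a * b).x = a.x + b.x := rfl
@[simp] theorem mul_y (a b : TA F φ) : (a * b).y = a.y + b.y + φ a.x * b.x := rfl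
@[simp] theorem one_x : (1 : TA F φ).x = 0 := rfl
@[simp] theorem one_y : (1 : TA F φ).y = 0 := rfl
@[simp] theorem inv_x (a : TA F φ) : (a⁻¹).x = -a.x := rfl
@[simp] theorem inv_y (a : TA F φ) : (a⁻¹).y = -a.y + φ a.x * a.x := rfl

instance : Group (TA F φ) where
  mul_assoc a b c := by
    ext
    · simp [add_assoc]
    · simp; ring
  one_mul a := by ext <;> simp
  mul_one a := by ext <;> simp
  inv_mul_cancel a := by
    ext
    · simp
    · simp

/-- the matrix of an element of the model -/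
def mat (a : TA F φ) : Matrix (Fin 3) (Fin 3) F := !![1, 0, 0; a.x, 1, 0; a.y, φ a.x, 1]

theorem mat_one : mat (1 : TA F φ) = 1 := by
  ext i j
  fin_cases i <;> fin_cases j <;> simp [mat]

theorem mat_mul (a b : TA F φ) : mat (a * b) = mat a * mat b := by
  ext i j
  fin_cases i <;> fin_cases j <;> simp [mat, Matrix.mul_apply, Fin.sum_univ_three] <;> ring

/-- the matrix representation as a monoid homomorphism -/
def matHom : TA F φ →* Matrix (Fin 3) (Fin 3) F where
  toFun := mat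
  map_one' := mat_one
  map_mul' := mat_mul

/-- the matrix representation into `GL₃(F)` -/
def glHom : TA F φ →* GL (Fin 3) F := matHom.toHomUnits

theorem glHom_coe (a : TA F φ) : ((glHom a : GL (Fin 3) F) : Matrix (Fin 3) (Fin 3) F) = mat a := rfl

theorem glHom_injective : Function.Injective (glHom : TA F φ → GL (Fin 3) F) := by
  intro a b h
  have h1 : mat a = mat b := by rw [← glHom_coe, ← glHom_coe, h]
  have hx := congrFun (congrFun h1 1) 0
  have hy := congrFun (congrFun h1 2) 0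
  simp [mat] at hx hy
  exact TA.ext hx hy

theorem suzukiTypeA_eq_range : Cfsg.suzukiTypeA F φ = (glHom : TA F φ →* GL (Fin 3) F).range := by
  unfold Cfsg.suzukiTypeA
  have hset : {g : GL (Fin 3) F | ∃ x y : F, (g : Matrix (Fin 3) (Fin 3) F) =
      !![1, 0, 0; x, 1, 0; y, φ x, 1]} = ((glHom : TA F φ →* GL (Fin 3) F).range : Set _) := by
    ext g
    constructor
    · rintro ⟨x, y, hg⟩
      exact ⟨⟨x, y⟩, Units.ext (by rw [glHom_coe, hg]; rfl)⟩
    · rintro ⟨a, rfl⟩
      exact ⟨a.x, a.y, rfl⟩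
  rw [hset, Subgroup.closure_eq]

/-- the model is isomorphic to `Cfsg.suzukiTypeA` -/
noncomputable def equivSuzukiTypeA : TA F φ ≃* Cfsg.suzukiTypeA F φ :=
  (MonoidHom.ofInjective glHom_injective).trans
    (MulEquiv.subgroupCongr suzukiTypeA_eq_range.symm)

end Model

/-! ### complements modulo a central subgroup containing all squares -/

section Compl

variable {G : Type*} [Group G]

theorem exists_compl [Finite G] (D W R : Subgroup G) (hDW : D ≤ W) (hWR : W ≤ R)
    (hsq : ∀ r ∈ R, r * r ∈ D) :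
    ∃ C : Subgroup G, D ≤ C ∧ C ≤ R ∧ C ⊓ W ≤ D ∧ ∀ r ∈ R, ∃ c ∈ C, ∃ w ∈ W, r = c * w := by
  have hfin : {C : Subgroup G | D ≤ C ∧ C ≤ R ∧ C ⊓ W ≤ D}.Finite := Set.toFinite _
  have hne : {C : Subgroup G | D ≤ C ∧ C ≤ R ∧ C ⊓ W ≤ D}.Nonempty :=
    ⟨D, le_refl _, hDW.trans hWR, inf_le_left⟩
  obtain ⟨C, hCmax⟩ := hfin.exists_maximal hne
  obtain ⟨⟨hDC, hCR, hCW⟩, hCm⟩ := hCmax
  refine ⟨C, hDC, hCR, hCW, ?_⟩
  intro r hr
  by_contra hcon
  push Not at hcon
  have hconj : ∀ s ∈ R, ∀ c ∈ C, s * c * s⁻¹ ∈ C := by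
    intro s hs c hc
    have h1 : (s * c) * (s * c) ∈ D := hsq _ (R.mul_mem hs (hCR hc))
    have h2 : s * s ∈ D := hsq s hs
    have : s * c * s⁻¹ = ((s * c) * (s * c)) * c⁻¹ * (s * s)⁻¹ := by group
    rw [this]
    exact C.mul_mem (C.mul_mem (hDC h1) (C.inv_mem hc)) (C.inv_mem (hDC h2))
  let C' : Subgroup G :=
    { carrier := {x | x ∈ C ∨ ∃ c ∈ C, x = c * r}
      one_mem' := Or.inl C.one_mem
      mul_mem' := by
        rintro a b (ha | ⟨c, hc, rfl⟩) (hb | ⟨c', hc', rfl⟩)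
        · exact Or.inl (C.mul_mem ha hb)
        · exact Or.inr ⟨a * c', C.mul_mem ha hc', by group⟩
        · exact Or.inr ⟨c * (r * b * r⁻¹), C.mul_mem hc (hconj r hr b hb), by group⟩
        · refine Or.inl ?_
          have : c * r * (c' * r) = c * (r * c' * r⁻¹) * (r * r) := by group
          rw [this]
          exact C.mul_mem (C.mul_mem hc (hconj r hr c' hc')) (hDC (hsq r hr))
      inv_mem' := by
        rintro a (ha | ⟨c, hc, rfl⟩)
        · exact Or.inl (C.inv_mem ha)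
        · refine Or.inr ⟨(r⁻¹ * c⁻¹ * r⁻¹⁻¹) * (r * r)⁻¹, ?_, by group⟩
          exact C.mul_mem (hconj r⁻¹ (R.inv_mem hr) c⁻¹ (C.inv_mem hc))
            (C.inv_mem (hDC (hsq r hr))) }
  have hCC' : C ≤ C' := fun x hx => Or.inl hx
  have hrC' : r ∈ C' := Or.inr ⟨1, C.one_mem, by group⟩
  have hC'mem : C' ∈ {C : Subgroup G | D ≤ C ∧ C ≤ R ∧ C ⊓ W ≤ D} := by
    refine ⟨hDC.trans hCC', ?_, ?_⟩
    · rintro x (hx | ⟨c, hc, rfl⟩)
      · exact hCR hx
      · exact R.mul_mem (hCR hc) hr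
    · rintro x ⟨(hx | ⟨c, hc, rfl⟩), hxW⟩
      · exact hCW ⟨hx, hxW⟩
      · exact absurd (by group : r = c⁻¹ * (c * r)) (hcon c⁻¹ (C.inv_mem hc) _ hxW)
  have hrC : r ∈ C := hCm hC'mem hCC' hrC'
  exact hcon r hrC 1 W.one_mem (by group)

end Compl

/-! ### recognition -/

section Recognition

variable {F : Type*} [Field F] {φ : F →+* F}

instance [Finite F] : Finite (TA F φ) :=
  Finite.of_injective (fun a : TA F φ => (a.x, a.y)) (fun a b h => by
    have h1 := congrArg Prod.fst h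
    have h2 := congrArg Prod.snd h
    exact TA.ext h1 h2)

theorem exists_equiv_TA {P : Type*} [Group P] [Finite P] [Finite F] (h2 : (2 : F) = 0)
    (α : P → F) (hαmul : ∀ g h, α (g * h) = α g + α h)
    (hαker : ∀ g, α g = 0 ↔ g ∈ Subgroup.center P) (hαsurj : Function.Surjective α)
    (β : P → F)
    (hβmul : ∀ z ∈ Subgroup.center P, ∀ z' ∈ Subgroup.center P, β (z * z') = β z + β z')
    (hβinj : ∀ z ∈ Subgroup.center P, β z = 0 → z = 1)
    (hβsurj : ∀ f : F, ∃ z ∈ Subgroup.center P, β z = f)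
    (hsqZ : ∀ g : P, g * g ∈ Subgroup.center P)
    (hsq : ∀ g : P, β (g * g) = α g * φ (α g)) : Nonempty (P ≃* TA F φ) := by
  have hα1 : α 1 = 0 := (hαker 1).mpr (Subgroup.one_mem _)
  have hαinv : ∀ g, α g⁻¹ = -α g := by
    intro g
    have := hαmul g g⁻¹
    rw [mul_inv_cancel, hα1] at this
    exact (neg_eq_of_add_eq_zero_right this.symm).symm
  have hβ1 : β 1 = 0 := by
    have := hβmul 1 (Subgroup.one_mem _) 1 (Subgroup.one_mem _)
    rw [mul_one] at this
    exact left_eq_add.mp this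
  have hβinv : ∀ z ∈ Subgroup.center P, β z⁻¹ = -β z := by
    intro z hz
    have := hβmul z hz z⁻¹ (Subgroup.inv_mem _ hz)
    rw [mul_inv_cancel, hβ1] at this
    exact (neg_eq_of_add_eq_zero_right this.symm).symm
  have hyy : ∀ y : F, y + y = 0 := by
    intro y
    rw [← two_mul, h2, zero_mul]
  let R : Subgroup (P × TA F φ) :=
    { carrier := {r | α r.1 = r.2.x}
      one_mem' := by
        show α (1 : P × TA F φ).1 = (1 : P × TA F φ).2.x
        rw [Prod.fst_one, Prod.snd_one, hα1, one_x]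
      mul_mem' := by
        intro a b ha hb
        show α (a * b).1 = (a * b).2.x
        rw [Prod.fst_mul, Prod.snd_mul, hαmul, mul_x, ha, hb]
      inv_mem' := by
        intro a ha
        show α (a⁻¹).1 = (a⁻¹).2.x
        rw [Prod.fst_inv, Prod.snd_inv, hαinv, inv_x, ha] }
  let W : Subgroup (P × TA F φ) :=
    { carrier := {r | r.1 ∈ Subgroup.center P ∧ r.2.x = 0}
      one_mem' := ⟨Subgroup.one_mem _, rfl⟩
      mul_mem' := by
        rintro a b ⟨ha1, ha2⟩ ⟨hb1, hb2⟩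
        refine ⟨Subgroup.mul_mem _ ha1 hb1, ?_⟩
        show (a * b).2.x = 0
        rw [Prod.snd_mul, mul_x, ha2, hb2, add_zero]
      inv_mem' := by
        rintro a ⟨ha1, ha2⟩
        refine ⟨Subgroup.inv_mem _ ha1, ?_⟩
        show (a⁻¹).2.x = 0
        rw [Prod.snd_inv, inv_x, ha2, neg_zero] }
  let D : Subgroup (P × TA F φ) :=
    { carrier := {r | r.1 ∈ Subgroup.center P ∧ r.2.x = 0 ∧ β r.1 = r.2.y}
      one_mem' := ⟨Subgroup.one_mem _, rfl, by
        show β (1 : P × TA F φ).1 = (1 : P × TA F φ).2.y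
        rw [Prod.fst_one, Prod.snd_one, hβ1, one_y]⟩
      mul_mem' := by
        rintro a b ⟨ha1, ha2, ha3⟩ ⟨hb1, hb2, hb3⟩
        refine ⟨Subgroup.mul_mem _ ha1 hb1, ?_, ?_⟩
        · show (a * b).2.x = 0
          rw [Prod.snd_mul, mul_x, ha2, hb2, add_zero]
        · show β (a * b).1 = (a * b).2.y
          rw [Prod.fst_mul, Prod.snd_mul, hβmul _ ha1 _ hb1, mul_y, ha3, hb3, hb2, mul_zero,
            add_zero]
      inv_mem' := by
        rintro a ⟨ha1, ha2, ha3⟩
        refine ⟨Subgroup.inv_mem _ ha1, ?_, ?_⟩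
        · show (a⁻¹).2.x = 0
          rw [Prod.snd_inv, inv_x, ha2, neg_zero]
        · show β (a⁻¹).1 = (a⁻¹).2.y
          rw [Prod.fst_inv, Prod.snd_inv, hβinv _ ha1, inv_y, ha3, ha2, mul_zero, add_zero] }
  have hDW : D ≤ W := fun r hr => ⟨hr.1, hr.2.1⟩
  have hWR : W ≤ R := by
    intro r hr
    show α r.1 = r.2.x
    rw [hr.2, (hαker r.1).mpr hr.1]
  have hsqD : ∀ r ∈ R, r * r ∈ D := by
    intro r hr
    have hr' : α r.1 = r.2.x := hr
    refine ⟨hsqZ r.1, ?_, ?_⟩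
    · show (r * r).2.x = 0
      rw [Prod.snd_mul, mul_x, hyy]
    · show β (r * r).1 = (r * r).2.y
      rw [Prod.fst_mul, Prod.snd_mul, hsq, mul_y, hyy, zero_add, hr', mul_comm]
  obtain ⟨C, hDC, hCR, hCW, hCcov⟩ := exists_compl D W R hDW hWR hsqD
  -- the two projections
  have hinj1 : Function.Injective ((MonoidHom.fst P (TA F φ)).comp C.subtype) := by
    rw [injective_iff_map_eq_one]
    intro c hc
    have hc1 : (c : P × TA F φ).1 = 1 := hc
    have hcR : α (c : P × TA F φ).1 = (c : P × TA F φ).2.x := hCR c.2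
    rw [hc1, hα1] at hcR
    have hcW : (c : P × TA F φ) ∈ W := ⟨by rw [hc1]; exact Subgroup.one_mem _, hcR.symm⟩
    have hcD : (c : P × TA F φ) ∈ D := hCW ⟨c.2, hcW⟩
    have hy : β (c : P × TA F φ).1 = (c : P × TA F φ).2.y := hcD.2.2
    rw [hc1, hβ1] at hy
    apply Subtype.ext
    apply Prod.ext hc1
    exact TA.ext hcR.symm hy.symm
  have hsurj1 : Function.Surjective ((MonoidHom.fst P (TA F φ)).comp C.subtype) := by
    intro g
    have hr : ((g, ⟨α g, 0⟩) : P × TA F φ) ∈ R := rfl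
    obtain ⟨c, hc, w, hw, hrcw⟩ := hCcov _ hr
    have hd : ((w.1, ⟨0, β w.1⟩) : P × TA F φ) ∈ D := ⟨hw.1, rfl, rfl⟩
    refine ⟨⟨c * (w.1, ⟨0, β w.1⟩), C.mul_mem hc (hDC hd)⟩, ?_⟩
    show (c * ((w.1, ⟨0, β w.1⟩) : P × TA F φ)).1 = g
    have := congrArg Prod.fst hrcw
    rw [Prod.fst_mul] at this ⊢
    exact this.symm
  have hinj2 : Function.Injective ((MonoidHom.snd P (TA F φ)).comp C.subtype) := by
    rw [injective_iff_map_eq_one]
    intro c hc
    have hc2 : (c : P × TA F φ).2 = 1 := hc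
    have hcR : α (c : P × TA F φ).1 = (c : P × TA F φ).2.x := hCR c.2
    rw [hc2, one_x] at hcR
    have hcZ : (c : P × TA F φ).1 ∈ Subgroup.center P := (hαker _).mp hcR
    have hcW : (c : P × TA F φ) ∈ W := ⟨hcZ, by rw [hc2]; rfl⟩
    have hcD : (c : P × TA F φ) ∈ D := hCW ⟨c.2, hcW⟩
    have hy : β (c : P × TA F φ).1 = (c : P × TA F φ).2.y := hcD.2.2
    rw [hc2, one_y] at hy
    apply Subtype.ext
    exact Prod.ext (hβinj _ hcZ hy) hc2
  have hsurj2 : Function.Surjective ((MonoidHom.snd P (TA F φ)).comp C.subtype) := by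
    intro t
    obtain ⟨g, hg⟩ := hαsurj t.x
    have hr : ((g, t) : P × TA F φ) ∈ R := hg
    obtain ⟨c, hc, w, hw, hrcw⟩ := hCcov _ hr
    obtain ⟨z', hz', hβz'⟩ := hβsurj w.2.y
    have hd : ((z', w.2) : P × TA F φ) ∈ D := ⟨hz', hw.2, hβz'⟩
    refine ⟨⟨c * (z', w.2), C.mul_mem hc (hDC hd)⟩, ?_⟩
    show (c * ((z', w.2) : P × TA F φ)).2 = t
    have := congrArg Prod.snd hrcw
    rw [Prod.snd_mul] at this ⊢
    exact this.symm
  exact ⟨(MulEquiv.ofBijective _ ⟨hinj1, hsurj1⟩).symm.trans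
    (MulEquiv.ofBijective _ ⟨hinj2, hsurj2⟩)⟩

end Recognition

end Cfsg.Agent.Lib.Helper20.SuzA
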