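import Mathlib
import Cfsg.Agent.Lib.Helper20.SuzA1
import Cfsg.Agent.Lib.Helper20.RegField
import Cfsg.Agent.Lib.Helper20.HigmanQ
import Cfsg.Agent.Lib.Helper20.SuzTypeA
import Cfsg.Agent.Lib.Helper20.OmegaBound

/-!
Helper lemmas (helper20): a Suzuki `2`-group `P` with `|P| = |Z(P)|²` is of type A
(Higman): assembly of `SuzA1` (structure of `P`), `RegField` (coordinatization of `Z(P)` and
`P / Z(P)` by a finite field), `HigmanQ` (the squaring map is `a ↦ c σ(a) τ(a)`) and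
`SuzTypeA` (recognition of the model group).
-/

set_option autoImplicit false

namespace Cfsg.Agent.Lib.Helper20.SuzTwist

open scoped commutatorElement

variable {P : Type*} [Group P]

theorem typeA_main {K : Subgroup (MulAut P)} (S : Setup P K) (hnab : ∃ x y : P, x * y ≠ y * x)
    (hcard : Nat.card P = Nat.card (Subgroup.center P) ^ 2) :
    ∃ (n : ℕ) (φ : GaloisField 2 n ≃+* GaloisField 2 n),
      Nat.card (GaloisField 2 n) = Nat.card (Subgroup.center P) ∧
      φ ≠ RingEquiv.refl (GaloisField 2 n) ∧ Odd (orderOf φ) ∧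
      Nonempty (P ≃* Cfsg.suzukiTypeA (GaloisField 2 n)
        (φ : GaloisField 2 n →+* GaloisField 2 n)) := by
  classical
  haveI := S.fin
  haveI : Fact (Nat.Prime 2) := ⟨Nat.prime_two⟩
  have T := typeAData S hnab hcard
  obtain ⟨x0, hx0Z, htrans⟩ := T.trans
  obtain ⟨w0, hw0Z, hw01, htransZ⟩ := T.transZ
  obtain ⟨n, hn⟩ : ∃ n, Nat.card (Subgroup.center P) = 2 ^ n :=
    (S.pg.to_subgroup (Subgroup.center P)).exists_card_eq
  have hn0 : n ≠ 0 := by
    rintro rfl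
    rw [pow_zero] at hn
    have hsub : Subsingleton (Subgroup.center P) := (Nat.card_eq_one_iff_unique.mp hn).1
    apply hw01
    have := Subsingleton.elim (⟨w0, hw0Z⟩ : Subgroup.center P) 1
    exact congrArg Subtype.val this
  haveI := S.cyc
  have hKc : ∀ k k' : K, k * k' = k' * k :=
    fun k k' => (IsCyclic.isMulCommutative (α := K)).is_comm.comm k k'
  -- the action on the centre
  let actZ : K → (Subgroup.center P) →* (Subgroup.center P) := fun k =>
    { toFun := fun z => ⟨(k : MulAut P) z, (T.mapZ k z).mpr z.2⟩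
      map_one' := Subtype.ext (map_one _)
      map_mul' := fun a b => Subtype.ext (map_mul _ _ _) }
  have hactZ1 : ∀ z, actZ 1 z = z := fun z => Subtype.ext rfl
  have hactZmul : ∀ k k' z, actZ (k * k') z = actZ k (actZ k' z) := fun k k' z => Subtype.ext rfl
  have hcommZ : ∀ x y : Subgroup.center P, x * y = y * x :=
    fun x y => Subtype.ext (Subgroup.mem_center_iff.mp y.2 x)
  have hm0 : (⟨w0, hw0Z⟩ : Subgroup.center P) ≠ 1 := fun h => hw01 (congrArg Subtype.val h)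
  have htrZ : ∀ y : Subgroup.center P, y ≠ 1 → ∃ k : K, actZ k ⟨w0, hw0Z⟩ = y := by
    intro y hy
    obtain ⟨k, hk⟩ := htransZ y y.2 (fun h => hy (Subtype.ext h))
    exact ⟨k, Subtype.ext hk⟩
  obtain ⟨ιZ, χZ, hιZbij, hιZadd, hιZact, hχZmul, hχZsurj, hιZm0, hχZ1⟩ :=
    RegField.main hcommZ hKc actZ hactZ1 hactZmul ⟨w0, hw0Z⟩ hm0 htrZ 2 n hn
  -- the action on the central quotient
  have hmapZ : ∀ k : K, Subgroup.center P ≤
      (Subgroup.center P).comap ((k : MulAut P).toMonoidHom) := by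
    intro k z hz
    exact (T.mapZ k z).mpr hz
  let actV : K → (P ⧸ Subgroup.center P) →* (P ⧸ Subgroup.center P) := fun k =>
    QuotientGroup.map _ _ ((k : MulAut P).toMonoidHom) (hmapZ k)
  have hactVmk : ∀ (k : K) (x : P), actV k (x : P ⧸ Subgroup.center P) =
      (((k : MulAut P) x : P) : P ⧸ Subgroup.center P) := fun k x => rfl
  have hactV1 : ∀ v, actV 1 v = v := by
    intro v
    obtain ⟨x, rfl⟩ := QuotientGroup.mk_surjective v
    rw [hactVmk]; rfl
  have hactVmul : ∀ k k' v, actV (k * k') v = actV k (actV k' v) := by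
    intro k k' v
    obtain ⟨x, rfl⟩ := QuotientGroup.mk_surjective v
    rw [hactVmk, hactVmk, hactVmk]; rfl
  have hcommV : ∀ u v : P ⧸ Subgroup.center P, u * v = v * u := by
    intro u v
    obtain ⟨x, rfl⟩ := QuotientGroup.mk_surjective u
    obtain ⟨y, rfl⟩ := QuotientGroup.mk_surjective v
    rw [← QuotientGroup.mk_mul, ← QuotientGroup.mk_mul, QuotientGroup.eq]
    have := T.commZ y⁻¹ x⁻¹
    rw [commutatorElement_def, inv_inv, inv_inv] at this
    have e : (x * y)⁻¹ * (y * x) = y⁻¹ * x⁻¹ * y * x := by group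
    rw [e]; exact this
  have hv0 : ((x0 : P) : P ⧸ Subgroup.center P) ≠ 1 := by
    intro h
    exact hx0Z ((QuotientGroup.eq_one_iff x0).mp h)
  have htrV : ∀ v : P ⧸ Subgroup.center P, v ≠ 1 →
      ∃ k : K, actV k ((x0 : P) : P ⧸ Subgroup.center P) = v := by
    intro v hv
    obtain ⟨x, rfl⟩ := QuotientGroup.mk_surjective v
    have hx : x ∉ Subgroup.center P := fun h => hv ((QuotientGroup.eq_one_iff x).mpr h)
    obtain ⟨k, z, hz, rfl⟩ := htrans x hx
    refine ⟨k, ?_⟩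
    rw [hactVmk, QuotientGroup.eq, inv_mul_cancel_left]
    exact hz
  have hcardV : Nat.card (P ⧸ Subgroup.center P) = 2 ^ n := by
    have h1 := Subgroup.card_eq_card_quotient_mul_card_subgroup (Subgroup.center P)
    rw [hcard, hn, sq] at h1
    exact (Nat.eq_of_mul_eq_mul_right (by positivity) h1).symm
  obtain ⟨ιV, χV, hιVbij, hιVadd, hιVact, hχVmul, hχVsurj, hιVm0, hχV1⟩ :=
    RegField.main hcommV hKc actV hactV1 hactVmul _ hv0 htrV 2 n hcardV
  letI : Fintype (GaloisField 2 n) := Fintype.ofFinite _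
  have hadd0 : ∀ y : GaloisField 2 n, y + y = 0 := CharTwo.add_self_eq_zero
  have hιV1 : ιV 1 = 0 := by
    have := hιVadd 1 1
    rw [mul_one] at this
    exact left_eq_add.mp this
  have hιZ1 : ιZ 1 = 0 := by
    have := hιZadd 1 1
    rw [mul_one] at this
    exact left_eq_add.mp this
  -- coordinates on `P`
  obtain ⟨α0, hα0⟩ : ∃ α0 : P → GaloisField 2 n,
      ∀ g, α0 g = ιV ((g : P) : P ⧸ Subgroup.center P) := ⟨_, fun g => rfl⟩
  have hα0mul : ∀ g h, α0 (g * h) = α0 g + α0 h := by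
    intro g h
    rw [hα0, hα0, hα0, QuotientGroup.mk_mul, hιVadd]
  have hα0ker : ∀ g, α0 g = 0 ↔ g ∈ Subgroup.center P := by
    intro g
    rw [hα0, ← hιV1, hιVbij.1.eq_iff, QuotientGroup.eq_one_iff]
  have hα0surj : Function.Surjective α0 := by
    intro f
    obtain ⟨v, hv⟩ := hιVbij.2 f
    obtain ⟨g, rfl⟩ := QuotientGroup.mk_surjective v
    exact ⟨g, by rw [hα0, hv]⟩
  have hα0act : ∀ (k : K) (g : P), α0 ((k : MulAut P) g) = χV k * α0 g := by
    intro k g
    rw [hα0, hα0, ← hιVact, hactVmk]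
  have hα0eq : ∀ g h, α0 g = α0 h → g⁻¹ * h ∈ Subgroup.center P := by
    intro g h hgh
    rw [← hα0ker, hα0mul]
    have hinv : α0 g⁻¹ + α0 g = 0 := by
      rw [← hα0mul, inv_mul_cancel, hα0, QuotientGroup.mk_one, hιV1]
    rw [← hgh]; exact hinv
  obtain ⟨β0, hβ0⟩ : ∃ β0 : P → GaloisField 2 n,
      ∀ (z : P) (hz : z ∈ Subgroup.center P), β0 z = ιZ ⟨z, hz⟩ :=
    ⟨fun g => if h : g ∈ Subgroup.center P then ιZ ⟨g, h⟩ else 0, fun z hz => dif_pos hz⟩
  have hβ0mul : ∀ z ∈ Subgroup.center P, ∀ z' ∈ Subgroup.center P,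
      β0 (z * z') = β0 z + β0 z' := by
    intro z hz z' hz'
    rw [hβ0 _ (Subgroup.mul_mem _ hz hz'), hβ0 z hz, hβ0 z' hz', ← hιZadd]
    rfl
  have hβ0inj : ∀ z ∈ Subgroup.center P, ∀ z' ∈ Subgroup.center P, β0 z = β0 z' → z = z' := by
    intro z hz z' hz' h
    rw [hβ0 z hz, hβ0 z' hz'] at h
    exact congrArg Subtype.val (hιZbij.1 h)
  have hβ01 : β0 1 = 0 := by
    rw [hβ0 1 (Subgroup.one_mem _)]
    exact hιZ1
  have hβ0surj : ∀ f : GaloisField 2 n, ∃ z ∈ Subgroup.center P, β0 z = f := by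
    intro f
    obtain ⟨z, hz⟩ := hιZbij.2 f
    exact ⟨z, z.2, by rw [hβ0 z z.2]; exact hz⟩
  have hβ0act : ∀ (k : K) (z : P), z ∈ Subgroup.center P →
      β0 ((k : MulAut P) z) = χZ k * β0 z := by
    intro k z hz
    rw [hβ0 _ ((T.mapZ k z).mpr hz), hβ0 z hz, ← hιZact]
    rfl
  -- the squaring map in coordinates
  obtain ⟨q, hqdef⟩ : ∃ q : GaloisField 2 n → GaloisField 2 n,
      ∀ a, q a = β0 (Function.surjInv hα0surj a * Function.surjInv hα0surj a) := ⟨_, fun a => rfl⟩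
  have hq1 : ∀ x : P, q (α0 x) = β0 (x * x) := by
    intro x
    rw [hqdef]
    obtain ⟨s, hs⟩ : ∃ s : P, s = Function.surjInv hα0surj (α0 x) := ⟨_, rfl⟩
    rw [← hs]
    have h1 : α0 s = α0 x := by rw [hs]; exact Function.surjInv_eq hα0surj (α0 x)
    have hz := hα0eq s x h1
    have hzc := Subgroup.mem_center_iff.mp hz
    have hx : x = s * (s⁻¹ * x) := by group
    congr 1
    calc s * s = s * s * ((s⁻¹ * x) * (s⁻¹ * x)) := by rw [T.Z2 _ hz, mul_one]
      _ = s * (s * (s⁻¹ * x)) * (s⁻¹ * x) := by group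
      _ = s * ((s⁻¹ * x) * s) * (s⁻¹ * x) := by rw [hzc s]
      _ = x * x := by group
  have hqinj : Function.Injective q := by
    intro a b hab
    obtain ⟨x, rfl⟩ := hα0surj a
    obtain ⟨y, rfl⟩ := hα0surj b
    rw [hq1, hq1] at hab
    have hxy := hβ0inj _ (T.sqZ x) _ (T.sqZ y) hab
    have hz := T.sqinj x y hxy
    have : α0 y = α0 (x * (x⁻¹ * y)) := by congr 1; group
    rw [this, hα0mul, (hα0ker _).mpr hz, add_zero]
  -- polar form
  have hpolar : ∀ x y : P, q (α0 x + α0 y) + q (α0 x) + q (α0 y) = β0 ⁅y⁻¹, x⁻¹⁆ := by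
    intro x y
    rw [← hα0mul, hq1, hq1, hq1, OmegaBound.sq_mul T.commZ x y,
      hβ0mul _ (Subgroup.mul_mem _ (T.sqZ x) (T.sqZ y)) _ (T.commZ _ _),
      hβ0mul _ (T.sqZ x) _ (T.sqZ y)]
    have e1 := hadd0 (β0 (x * x))
    have e2 := hadd0 (β0 (y * y))
    linear_combination e1 + e2
  obtain ⟨Bf, hBf⟩ : ∃ Bf : GaloisField 2 n → GaloisField 2 n → GaloisField 2 n,
      ∀ a b, Bf a b = q (a + b) + q a + q b := ⟨_, fun a b => rfl⟩
  have hBsymm : ∀ a b, Bf a b = Bf b a := by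
    intro a b
    rw [hBf, hBf, add_comm a b]; ring
  have hBadd : ∀ a a' b, Bf (a + a') b = Bf a b + Bf a' b := by
    intro a a' b
    obtain ⟨x, rfl⟩ := hα0surj a
    obtain ⟨x', rfl⟩ := hα0surj a'
    obtain ⟨y, rfl⟩ := hα0surj b
    rw [← hα0mul, hBf, hBf, hBf, hpolar, hpolar, hpolar, mul_inv_rev,
      OmegaBound.comm_mul_right T.commZ, hβ0mul _ (T.commZ _ _) _ (T.commZ _ _), add_comm]
  let B : GaloisField 2 n →+ GaloisField 2 n →+ GaloisField 2 n :=
    AddMonoidHom.mk' (fun a => AddMonoidHom.mk' (Bf a) (fun b b' => by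
      rw [hBsymm a (b + b'), hBadd, hBsymm b a, hBsymm b' a]))
      (fun a a' => by
        ext b
        exact hBadd a a' b)
  have hB : ∀ a b, B a b = q (a + b) + q a + q b := fun a b => hBf a b
  have hB0 : ∃ a b, B a b ≠ 0 := by
    obtain ⟨x, y, hxy⟩ := hnab
    refine ⟨α0 x, α0 y, ?_⟩
    rw [hB, hpolar]
    intro h
    rw [← hβ01] at h
    have h1 := hβ0inj _ (T.commZ _ _) _ (Subgroup.one_mem _) h
    apply hxy
    rw [commutatorElement_def, inv_inv, inv_inv] at h1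
    calc x * y = x * y * (y⁻¹ * x⁻¹ * y * x) := by rw [h1, mul_one]
      _ = y * x := by group
  -- a generator of `K`
  obtain ⟨ξ, hξK, hgen⟩ := exists_gen K S.cyc
  have hgenK : ∀ k : K, ∃ m : ℕ, k = (⟨ξ, hξK⟩ : K) ^ m := by
    intro k
    obtain ⟨m, hm⟩ := hgen k k.2
    exact ⟨m, Subtype.ext (by rw [hm]; rfl)⟩
  have hχVpow : ∀ m : ℕ, χV ((⟨ξ, hξK⟩ : K) ^ m) = χV ⟨ξ, hξK⟩ ^ m := by
    intro m
    induction m with
    | zero => rw [pow_zero, pow_zero, hχV1]
    | succ m ih => rw [pow_succ, pow_succ, hχVmul, ih]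
  have hμ : ∀ f : GaloisField 2 n, f ≠ 0 → ∃ i : ℕ, f = χV ⟨ξ, hξK⟩ ^ i := by
    intro f hf
    obtain ⟨k, rfl⟩ := hχVsurj f hf
    obtain ⟨m, rfl⟩ := hgenK k
    exact ⟨m, hχVpow m⟩
  have hq : ∀ a, q (χV ⟨ξ, hξK⟩ * a) = χZ ⟨ξ, hξK⟩ * q a := by
    intro a
    obtain ⟨x, rfl⟩ := hα0surj a
    rw [← hα0act, hq1, hq1, ← map_mul, hβ0act _ _ (T.sqZ x)]
  obtain ⟨c, σ0, τ0, hc, hστ, hqform⟩ := HigmanQ.main q _ _ hμ hq B hB hB0
  -- the field automorphism
  obtain ⟨φ, hφ⟩ : ∃ φ : GaloisField 2 n ≃+* GaloisField 2 n, φ = σ0.symm.trans τ0 := ⟨_, rfl⟩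
  have hφσ : ∀ a, φ (σ0 a) = τ0 a := by
    intro a
    rw [hφ, RingEquiv.trans_apply, RingEquiv.symm_apply_apply]
  have hφne : φ ≠ RingEquiv.refl (GaloisField 2 n) := by
    intro h
    apply hστ
    ext a
    have := hφσ a
    rw [h] at this
    exact this
  have hinj : Function.Injective (fun a : GaloisField 2 n => a * φ a) := by
    intro a b hab
    have hab' : a * φ a = b * φ b := hab
    have ha : q (σ0.symm a) = c * (a * φ a) := by
      rw [hqform, ← hφσ, RingEquiv.apply_symm_apply]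
    have hb : q (σ0.symm b) = c * (b * φ b) := by
      rw [hqform, ← hφσ, RingEquiv.apply_symm_apply]
    have := hqinj (ha.trans (by rw [hab', ← hb]))
    exact σ0.symm.injective this
  have hodd := HigmanQ.odd_orderOf_of_injective φ hinj
  -- recognition
  have hrec := SuzA.exists_equiv_TA (F := GaloisField 2 n)
    (φ := (φ : GaloisField 2 n →+* GaloisField 2 n)) (P := P) CharTwo.two_eq_zero
    (fun g => σ0 (α0 g)) (fun g h => by rw [hα0mul, map_add])
    (fun g => by rw [map_eq_zero_iff σ0 σ0.injective, hα0ker])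
    (fun f => by
      obtain ⟨g, hg⟩ := hα0surj (σ0.symm f)
      exact ⟨g, by show σ0 (α0 g) = f; rw [hg, RingEquiv.apply_symm_apply]⟩)
    (fun g => c⁻¹ * β0 g)
    (fun z hz z' hz' => by rw [hβ0mul z hz z' hz', mul_add])
    (fun z hz h => by
      have h0 : β0 z = 0 := by
        rcases mul_eq_zero.mp h with h | h
        · exact absurd (inv_eq_zero.mp h) hc
        · exact h
      rw [← hβ01] at h0
      exact hβ0inj z hz 1 (Subgroup.one_mem _) h0)
    (fun f => by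
      obtain ⟨z, hz, hzf⟩ := hβ0surj (c * f)
      exact ⟨z, hz, by rw [hzf, inv_mul_cancel_left₀ hc]⟩)
    T.sqZ
    (fun g => by
      rw [← hq1, hqform, inv_mul_cancel_left₀ hc, RingEquiv.coe_toRingHom, hφσ])
  obtain ⟨e⟩ := hrec
  refine ⟨n, φ, ?_, hφne, hodd, ⟨e.trans SuzA.equivSuzukiTypeA⟩⟩
  rw [hn]
  exact GaloisField.card 2 n hn0

end Cfsg.Agent.Lib.Helper20.SuzTwist
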