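import Mathlib
import Cfsg.Prelude.Def_Local
import Cfsg.Agent.Lib.Helper8.Components
import Cfsg.Agent.S4337

/-!
Overgroups of a Sylow 2-subgroup of the alternating group with quasisimple generalized Fitting
subgroup (helper20), part A: a quasisimple normal self-centralizing subgroup `L` of a
permutation group `H`; elements of small support do not centralize `L`, and `L` fixes pointwise
every invariant set fixed pointwise by an element not centralizing it.
-/

set_option autoImplicit false

namespace Cfsg.Agent.Lib.Helper20.Syl2Over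

open Equiv Equiv.Perm Subgroup
open scoped commutatorElement
open Cfsg.Agent.Lib.Helper8

theorem perm_apply_inv {α : Type*} (f : Perm α) (x : α) : f (f⁻¹ x) = x := f.apply_symm_apply x

theorem perm_inv_apply {α : Type*} (f : Perm α) (x : α) : f⁻¹ (f x) = x := f.symm_apply_apply x

/-- the standing hypotheses -/
structure Setup {α : Type*} (H L : Subgroup (Perm α)) : Prop where
  le : L ≤ H
  norm : ∀ h ∈ H, ∀ l ∈ L, h * l * h⁻¹ ∈ L
  cent : ∀ g ∈ H, (∀ l ∈ L, g * l = l * g) → g ∈ L
  qs : Cfsg.IsQuasisimple ↥L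

theorem Setup.perf {α : Type*} {H L : Subgroup (Perm α)} (S : Setup H L) : ⁅L, L⁆ = L :=
  Subgroup.isPerfect_iff.mp S.qs.1

theorem Setup.norm' {α : Type*} {H L : Subgroup (Perm α)} (S : Setup H L) {h : Perm α}
    (hh : h ∈ H) {l : Perm α} (hl : l ∈ L) : h⁻¹ * l * h ∈ L := by
  have := S.norm h⁻¹ (H.inv_mem hh) l hl
  rwa [inv_inv] at this

variable {α : Type*} [Fintype α] [DecidableEq α] {H L : Subgroup (Perm α)}

omit [DecidableEq α] in
/-- a perfect permutation group fixes pointwise every invariant set of at most four points -/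
theorem fix_small (hperf : ⁅L, L⁆ = L) (p : α → Prop) [DecidablePred p]
    (hp : ∀ l ∈ L, ∀ x, p (l x) ↔ p x) (hcard : Fintype.card (Subtype p) ≤ 4) :
    ∀ l ∈ L, ∀ x, p x → l x = x := by
  let ρ : L →* Perm (Subtype p) :=
    { toFun := fun l => subtypePerm l.1 (hp l.1 l.2)
      map_one' := by ext; simp
      map_mul' := fun a b => by ext x; rfl }
  have hsolv : Group.IsSolvable (Perm (Subtype p)) :=
    ⟨⟨3, Cfsg.Agent.S4337.derivedSeries_perm_small hcard⟩⟩
  have hperfL : Group.IsPerfect ↥L := Subgroup.isPerfect_iff.mpr hperf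
  have hperfR : Group.IsPerfect ↥ρ.range := Group.IsPerfect.range ρ
  have hsub : Subsingleton ↥ρ.range := by
    by_contra hns
    rw [not_subsingleton_iff_nontrivial] at hns
    exact Group.IsPerfect.not_isSolvable (G := ↥ρ.range) inferInstance
  intro l hl x hx
  have h1 : ρ ⟨l, hl⟩ = 1 := by
    have := Subsingleton.elim (⟨ρ ⟨l, hl⟩, ⟨_, rfl⟩⟩ : ρ.range) 1
    exact congrArg Subtype.val this
  have h2 := congrArg (fun σ : Perm (Subtype p) => (σ ⟨x, hx⟩ : α)) h1
  simpa [ρ] using h2

/-- a nontrivial element of `H` moving at most four points does not centralize `L` -/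
theorem not_central_small (S : Setup H L) (t : Perm α) (htH : t ∈ H) (ht1 : t ≠ 1)
    (hsupp : t.support.card ≤ 4) : ¬ ∀ l ∈ L, t * l = l * t := by
  intro hcc
  have htL : t ∈ L := S.cent t htH hcc
  have hp : ∀ l ∈ L, ∀ x, (l x ∈ t.support) ↔ x ∈ t.support := by
    intro l hl x
    have h1 : t (l x) = l (t x) := by
      have := congrArg (fun f : Perm α => f x) (hcc l hl)
      simpa [Perm.mul_apply] using this
    rw [Perm.mem_support, Perm.mem_support, h1]
    exact not_congr l.injective.eq_iff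
  have hfix := fix_small S.perf (fun x => x ∈ t.support) hp
    (by rw [Fintype.card_coe]; exact hsupp) t htL
  apply ht1
  ext x
  by_contra hx
  exact hx (hfix x (Perm.mem_support.mpr hx))

omit [Fintype α] [DecidableEq α] in
/-- if `t ∈ H` does not centralize `L` then `L` fixes pointwise every `L`-invariant set
fixed pointwise by `t` -/
theorem fixes_of_not_central (S : Setup H L) (t : Perm α) (htH : t ∈ H)
    (hnc : ¬ ∀ l ∈ L, t * l = l * t) (O : Set α) (hOt : ∀ x ∈ O, t x = x)
    (hOL : ∀ l ∈ L, ∀ x ∈ O, l x ∈ O) : ∀ l ∈ L, ∀ x ∈ O, l x = x := by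
  have hOL' : ∀ l ∈ L, ∀ x ∈ O, l⁻¹ x ∈ O := fun l hl x hx => hOL l⁻¹ (L.inv_mem hl) x hx
  -- the pointwise fixer of `O` in `L`
  let N : Subgroup ↥L :=
    { carrier := {l | ∀ x ∈ O, (l : Perm α) x = x}
      mul_mem' := fun {a b} ha hb x hx => by
        rw [Subgroup.coe_mul, Perm.mul_apply, hb x hx, ha x hx]
      one_mem' := fun x _ => rfl
      inv_mem' := fun {a} ha x hx => by
        rw [Subgroup.coe_inv, Perm.inv_eq_iff_eq, ha x hx] }
  have hN : N.Normal := by
    constructor
    intro n hn g x hx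
    have h1 : (g⁻¹ : ↥L) • x ∈ O := hOL' g g.2 x hx
    show ((g * n * g⁻¹ : ↥L) : Perm α) x = x
    rw [Subgroup.coe_mul, Subgroup.coe_mul, Perm.mul_apply, Perm.mul_apply]
    have h2 : (n : Perm α) (((g⁻¹ : ↥L) : Perm α) x) = ((g⁻¹ : ↥L) : Perm α) x := hn _ h1
    rw [h2, Subgroup.coe_inv, perm_apply_inv]
  rcases quasisimple_normal S.qs N hN with h | h
  · intro l hl x hx
    have : (⟨l, hl⟩ : ↥L) ∈ N := by rw [h]; exact Subgroup.mem_top _
    exact this x hx
  · exfalso
    apply hnc
    have hzfix : ∀ i : ℤ, ∀ x ∈ O, (t ^ i) x = x := by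
      intro i x hx
      have h1 : t ∈ MulAction.stabilizer (Perm α) x := hOt x hx
      exact (MulAction.stabilizer (Perm α) x).zpow_mem h1 i
    have h1 : ⁅⁅Subgroup.zpowers t, L⁆, L⁆ = ⊥ := by
      rw [Subgroup.commutator_eq_bot_iff_le_centralizer, Subgroup.commutator_le]
      intro y hy l hl
      obtain ⟨i, rfl⟩ := Subgroup.mem_zpowers_iff.mp hy
      have hyH : t ^ i ∈ H := H.zpow_mem htH i
      have hzL : ⁅t ^ i, l⁆ ∈ L := by
        rw [commutatorElement_def]
        exact L.mul_mem (S.norm _ hyH l hl) (L.inv_mem hl)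
      have hzN : (⟨⁅t ^ i, l⁆, hzL⟩ : ↥L) ∈ N := by
        intro x hx
        show ⁅t ^ i, l⁆ x = x
        rw [commutatorElement_def, Perm.mul_apply, Perm.mul_apply, Perm.mul_apply]
        have e1 : (t ^ i)⁻¹ (l⁻¹ x) = l⁻¹ x := by
          rw [Perm.inv_eq_iff_eq, hzfix i _ (hOL' l hl x hx)]
        rw [e1, perm_apply_inv, hzfix i x hx]
      have hz := h hzN
      rw [Subgroup.mem_center_iff] at hz
      rw [Subgroup.mem_centralizer_iff]
      intro g hg
      exact congrArg Subtype.val (hz ⟨g, hg⟩)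
    have h2 := commutator_eq_bot_of_perfect L (Subgroup.zpowers t) S.perf h1
    rw [Subgroup.commutator_eq_bot_iff_le_centralizer] at h2
    have h3 := h2 (Subgroup.mem_zpowers t)
    rw [Subgroup.mem_centralizer_iff] at h3
    intro l hl
    exact (h3 l hl).symm

end Cfsg.Agent.Lib.Helper20.Syl2Over
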