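import Mathlib

/-!
Sylow 2-subgroups of symmetric/alternating groups and maximal subgroups (helper20), part A:
binomial parities, the fixed point lemma for 2-groups, and a criterion for unique coatoms.
-/

set_option autoImplicit false

namespace Cfsg.Agent.Lib.Helper20.SylMax

open scoped Nat

/-- Lucas for the top bit. -/
theorem choose_top (a : ℕ) : ∀ r s : ℕ, r < 2 ^ a → s < 2 ^ a →
    (Nat.choose (2 ^ a + r) (2 ^ a + s) ≡ Nat.choose r s [MOD 2]) ∧
    (Nat.choose (2 ^ a + r) s ≡ Nat.choose r s [MOD 2]) := by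
  induction a with
  | zero =>
    intro r s hr hs
    have hr0 : r = 0 := by simpa using hr
    have hs0 : s = 0 := by simpa using hs
    subst hr0; subst hs0
    simp [Nat.ModEq]
  | succ a ih =>
    intro r s hr hs
    have h2 : (2 : ℕ) ^ (a + 1) = 2 * 2 ^ a := by rw [pow_succ]; ring
    have hr2 : r / 2 < 2 ^ a := by omega
    have hs2 : s / 2 < 2 ^ a := by omega
    obtain ⟨ih1, ih2⟩ := ih (r / 2) (s / 2) hr2 hs2
    have L := @Choose.choose_modEq_choose_mod_mul_choose_div_nat r s 2 _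
    have e1 : (2 ^ (a + 1) + r) % 2 = r % 2 := by omega
    have e2 : (2 ^ (a + 1) + s) % 2 = s % 2 := by omega
    have e3 : (2 ^ (a + 1) + r) / 2 = 2 ^ a + r / 2 := by omega
    have e4 : (2 ^ (a + 1) + s) / 2 = 2 ^ a + s / 2 := by omega
    constructor
    · have L1 := @Choose.choose_modEq_choose_mod_mul_choose_div_nat (2 ^ (a + 1) + r)
        (2 ^ (a + 1) + s) 2 _
      rw [e1, e2, e3, e4] at L1
      exact L1.trans ((Nat.ModEq.mul_left _ ih1).trans L.symm)
    · have L1 := @Choose.choose_modEq_choose_mod_mul_choose_div_nat (2 ^ (a + 1) + r) s 2 _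
      rw [e1, e3] at L1
      exact L1.trans ((Nat.ModEq.mul_left _ ih2).trans L.symm)

theorem odd_choose_one (a r : ℕ) (hr : r < 2 ^ a) : Odd (Nat.choose (2 ^ a + r) (2 ^ a)) := by
  have h := (choose_top a r 0 hr (by positivity)).1
  rw [Nat.odd_iff]
  simpa [Nat.ModEq] using h

theorem odd_choose_two (a b r : ℕ) (hr : r < 2 ^ a) (hb : 2 ^ b ≤ r) (hb' : r < 2 ^ (b + 1)) :
    Odd (Nat.choose (2 ^ a + r) (2 ^ a + 2 ^ b)) := by
  have h2 : (2 : ℕ) ^ (b + 1) = 2 * 2 ^ b := by rw [pow_succ]; ring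
  have h := (choose_top a r (2 ^ b) hr (by omega)).1
  have h' := odd_choose_one b (r - 2 ^ b) (by omega)
  rw [show 2 ^ b + (r - 2 ^ b) = r by omega] at h'
  rw [Nat.odd_iff] at h' ⊢
  rw [← h']; exact h

theorem odd_choose_half (a : ℕ) (ha : 1 ≤ a) :
    Odd (Nat.choose (2 ^ a - 1) (2 ^ (a - 1) - 1)) := by
  obtain ⟨c, rfl⟩ : ∃ c, a = c + 1 := ⟨a - 1, by omega⟩
  have h2 : (2 : ℕ) ^ (c + 1) = 2 * 2 ^ c := by rw [pow_succ]; ring
  have hpos : 0 < 2 ^ c := by positivity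
  have h := (choose_top c (2 ^ c - 1) (2 ^ c - 1) (by omega) (by omega)).2
  rw [show c + 1 - 1 = c by omega, show 2 ^ (c + 1) - 1 = 2 ^ c + (2 ^ c - 1) by omega]
  rw [Nat.odd_iff]
  rw [h]; simp

theorem odd_doubleFactorial (k : ℕ) : Odd ((2 * k + 1)‼) := by
  induction k with
  | zero => simp
  | succ k ih =>
    rw [show 2 * (k + 1) + 1 = (2 * k + 1) + 2 by ring, Nat.doubleFactorial_add_two]
    exact Odd.mul ⟨k + 1, by ring⟩ ih

theorem factorial_two_mul (k : ℕ) (hk : 1 ≤ k) :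
    (2 * k)! = 2 ^ k * k ! * (2 * k - 1)‼ := by
  obtain ⟨c, rfl⟩ : ∃ c, k = c + 1 := ⟨k - 1, by omega⟩
  rw [show 2 * (c + 1) = (2 * c + 1) + 1 by ring, Nat.factorial_eq_mul_doubleFactorial,
    show 2 * c + 1 + 1 = 2 * (c + 1) by ring, Nat.doubleFactorial_two_mul]
  rfl

/-- the number of fixed-point-free involutions on `2k` points is odd -/
theorem odd_card_fpf_invol {α : Type*} [Fintype α] [DecidableEq α] (k : ℕ) (hk : 1 ≤ k)
    (hα : Fintype.card α = 2 * k) :
    Odd (Finset.univ.filter (fun g : Equiv.Perm α => g.cycleType = Multiset.replicate k 2)).card := by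
  rw [Equiv.Perm.card_of_cycleType]
  have hsum : (Multiset.replicate k 2).sum = 2 * k := by simp [mul_comm]
  have hprod : (Multiset.replicate k 2).prod = 2 ^ k := by simp
  have htf : (Multiset.replicate k 2).toFinset = {2} := by
    rw [Multiset.toFinset_replicate]; simp; omega
  rw [if_pos ⟨by rw [hsum, hα], fun a ha => by rw [Multiset.eq_of_mem_replicate ha]⟩]
  rw [hsum, hprod, htf, hα]
  simp only [Nat.sub_self, Nat.factorial_zero, one_mul, Finset.prod_singleton,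
    Multiset.count_replicate_self]
  rw [factorial_two_mul k hk, Nat.mul_div_cancel_left _ (by positivity)]
  obtain ⟨c, rfl⟩ : ∃ c, k = c + 1 := ⟨k - 1, by omega⟩
  rw [show 2 * (c + 1) - 1 = 2 * c + 1 by omega]
  exact odd_doubleFactorial c

/-- fixed point lemma for a 2-group acting through a homomorphism -/
theorem exists_fixed_of_odd {P : Type*} [Group P] [Finite P] (hP : IsPGroup 2 P)
    {Γ : Type*} [Group Γ] (f : P →* Γ) {X : Type*} [MulAction Γ X] (S : Finset X)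
    (hS : ∀ g : P, ∀ x ∈ S, f g • x ∈ S) (hodd : Odd S.card) :
    ∃ x ∈ S, ∀ g : P, f g • x = x := by
  classical
  letI : MulAction P X := MulAction.compHom X f
  let T : SubMulAction P X := ⟨↑S, fun g x hx => hS g x hx⟩
  have hfin : Finite T := Finite.of_injective (fun t : T => (⟨t.1, t.2⟩ : (S : Set X)))
    (fun a b h => by
      apply Subtype.ext
      exact congrArg (fun u : (S : Set X) => (u : X)) h)
  have hcard : Nat.card T = S.card := by
    have : Nat.card T = Nat.card (S : Set X) := Nat.card_congr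
      ⟨fun t => ⟨t.1, t.2⟩, fun t => ⟨t.1, t.2⟩, fun _ => rfl, fun _ => rfl⟩
    rw [this, Nat.card_coe_set_eq, Set.ncard_coe_finset]
  have hnd : ¬ 2 ∣ Nat.card T := by
    rw [hcard]; exact fun h => (Nat.not_even_iff_odd.mpr hodd) (even_iff_two_dvd.mpr h)
  obtain ⟨⟨x, hx⟩, hfix⟩ := hP.nonempty_fixed_point_of_prime_not_dvd_card T hnd
  refine ⟨x, hx, fun g => ?_⟩
  have := hfix g
  exact congrArg Subtype.val this

/-- two proper subgroups containing `R` that generate everything exclude a unique coatom -/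
theorem not_unique_coatom {G : Type*} [Group G] (R H₁ H₂ : Subgroup G)
    (h₁ : R ≤ H₁) (h₂ : R ≤ H₂) (n₁ : H₁ ≠ ⊤) (n₂ : H₂ ≠ ⊤) (hsup : H₁ ⊔ H₂ = ⊤) [Finite G] :
    ¬ ∃! M : Subgroup G, IsCoatom M ∧ R ≤ M := by
  rintro ⟨M, ⟨hM, hRM⟩, huniq⟩
  obtain ⟨M₁, hM₁, hle₁⟩ := (eq_top_or_exists_le_coatom H₁).resolve_left n₁
  obtain ⟨M₂, hM₂, hle₂⟩ := (eq_top_or_exists_le_coatom H₂).resolve_left n₂
  have e₁ := huniq M₁ ⟨hM₁, h₁.trans hle₁⟩
  have e₂ := huniq M₂ ⟨hM₂, h₂.trans hle₂⟩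
  rw [e₁] at hle₁
  rw [e₂] at hle₂
  have : (⊤ : Subgroup G) ≤ M := by rw [← hsup]; exact sup_le hle₁ hle₂
  exact hM.1 (top_le_iff.mp this)

/-- if every proper subgroup containing `R` lies in `M₀` then `M₀` is the unique coatom
above `R` -/
theorem exists_unique_coatom_of {G : Type*} [Group G] (R M₀ : Subgroup G) (hR : R ≤ M₀)
    (hM₀ : M₀ ≠ ⊤) (hall : ∀ H : Subgroup G, R ≤ H → H ≠ ⊤ → H ≤ M₀) :
    ∃! M : Subgroup G, IsCoatom M ∧ R ≤ M := by
  have hco : IsCoatom M₀ := by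
    refine ⟨hM₀, fun K hK => ?_⟩
    by_contra hne
    exact (lt_irrefl _ (lt_of_lt_of_le hK (hall K (hR.trans hK.le) hne)))
  refine ⟨M₀, ⟨hco, hR⟩, fun M hM => ?_⟩
  have hle := hall M hM.2 hM.1.1
  rcases eq_or_lt_of_le hle with h | h
  · exact h
  · exact absurd (hM.1.2 M₀ h) hM₀

end Cfsg.Agent.Lib.Helper20.SylMax
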