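import Mathlib
import Cfsg.Agent.Lib.Helper20.SylMaxA

/-!
Sylow 2-subgroups of symmetric/alternating groups and maximal subgroups (helper20), part B:
the framework of a group `𝔊` embedded in `Perm α` with image containing `Alt α`.
-/

set_option autoImplicit false

namespace Cfsg.Agent.Lib.Helper20.SylMax

open Equiv Equiv.Perm Subgroup
open scoped Pointwise

variable {α : Type*} [Fintype α] [DecidableEq α] {𝔊 : Type*} [Group 𝔊] [Finite 𝔊]

/-- a subgroup containing a Sylow 2-subgroup whose image contains the alternating group is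
everything -/
theorem eq_top_of_alt_le [Nontrivial α] (ι : 𝔊 →* Perm α) (hinj : Function.Injective ι)
    (R : Sylow 2 𝔊) (H : Subgroup 𝔊) (hRH : (R : Subgroup 𝔊) ≤ H)
    (hAH : alternatingGroup α ≤ H.map ι) : H = ⊤ := by
  have hN : (alternatingGroup α).comap ι ≤ H := by
    intro g hg
    obtain ⟨h, hh, hhg⟩ := hAH (mem_comap.mp hg)
    rw [← hinj hhg]; exact hh
  have h1 : ((alternatingGroup α).comap ι).index ∣ 2 := by
    rw [index_comap, ← alternatingGroup.index_eq_two (α := α)]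
    exact relIndex_dvd_index_of_normal _ _
  have h2 : H.index ∣ 2 := (index_dvd_of_le hN).trans h1
  have h3 : H.index ∣ (R : Subgroup 𝔊).index := index_dvd_of_le hRH
  have h4 : ¬ 2 ∣ (R : Subgroup 𝔊).index := R.not_dvd_index
  rw [← index_eq_one]
  rcases (Nat.dvd_prime Nat.prime_two).mp h2 with h | h
  · exact h
  · rw [h] at h3; exact absurd h3 h4

/-- any 2-subgroup of the image is conjugate into the image of a given Sylow 2-subgroup -/
theorem exists_conj_le (ι : 𝔊 →* Perm α) (hinj : Function.Injective ι)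
    (R : Sylow 2 𝔊) (Q : Subgroup (Perm α)) (hQ : IsPGroup 2 Q) (hQr : Q ≤ ι.range) :
    ∃ g : 𝔊, ∀ q ∈ Q, ∃ r ∈ (R : Subgroup 𝔊), ι r = ι g * q * (ι g)⁻¹ := by
  have hQ' : IsPGroup 2 (Q.comap ι) := hQ.comap_of_injective ι hinj
  obtain ⟨P, hP⟩ := hQ'.exists_le_sylow
  obtain ⟨g, hg⟩ := MulAction.exists_smul_eq 𝔊 P R
  refine ⟨g, fun q hq => ?_⟩
  obtain ⟨q', rfl⟩ := hQr hq
  have h1 : q' ∈ (P : Subgroup 𝔊) := hP (mem_comap.mpr hq)
  refine ⟨g * q' * g⁻¹, ?_, by simp⟩
  rw [← hg, Sylow.coe_subgroup_smul]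
  have := Subgroup.smul_mem_pointwise_smul q' (MulAut.conj g) (P : Subgroup 𝔊) h1
  simpa [MulAut.smul_def] using this

/-- elements of a Sylow 2-subgroup, as permutations -/
theorem sylow_isPGroup (R : Sylow 2 𝔊) : IsPGroup 2 (R : Subgroup 𝔊) := R.isPGroup'

/-- invariant subsets from odd binomial coefficients -/
theorem exists_invariant_finset (ι : 𝔊 →* Perm α) (R : Sylow 2 𝔊) (k : ℕ)
    (hodd : Odd (Nat.choose (Fintype.card α) k)) :
    ∃ X : Finset α, X.card = k ∧ ∀ g ∈ (R : Subgroup 𝔊), ι g • X = X := by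
  obtain ⟨X, hX, hfix⟩ := exists_fixed_of_odd (sylow_isPGroup R)
    (ι.comp (R : Subgroup 𝔊).subtype) (Finset.powersetCard k (Finset.univ : Finset α))
    (fun g X hX => by
      rw [Finset.mem_powersetCard] at hX ⊢
      exact ⟨Finset.subset_univ _, by rw [Finset.card_smul_finset]; exact hX.2⟩)
    (by rw [Finset.card_powersetCard, Finset.card_univ]; exact hodd)
  exact ⟨X, (Finset.mem_powersetCard.mp hX).2, fun g hg => hfix ⟨g, hg⟩⟩

/-- a fixed point when the degree is odd -/
theorem exists_fixed_point (ι : 𝔊 →* Perm α) (R : Sylow 2 𝔊) (hodd : Odd (Fintype.card α)) :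
    ∃ ω : α, ∀ g ∈ (R : Subgroup 𝔊), ι g ω = ω := by
  obtain ⟨x, -, hfix⟩ := exists_fixed_of_odd (sylow_isPGroup R)
    (ι.comp (R : Subgroup 𝔊).subtype) (Finset.univ : Finset α)
    (fun g x _ => Finset.mem_univ _) (by rw [Finset.card_univ]; exact hodd)
  exact ⟨x, fun g hg => hfix ⟨g, hg⟩⟩

/-- a centralized fixed-point-free involution when the degree is even -/
theorem exists_invariant_invol (ι : 𝔊 →* Perm α) (R : Sylow 2 𝔊) (k : ℕ) (hk : 1 ≤ k)
    (hα : Fintype.card α = 2 * k) :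
    ∃ z : Perm α, z.cycleType = Multiset.replicate k 2 ∧
      ∀ g ∈ (R : Subgroup 𝔊), ι g * z * (ι g)⁻¹ = z := by
  obtain ⟨z, hz, hfix⟩ := exists_fixed_of_odd (sylow_isPGroup R)
    ((ConjAct.toConjAct (G := Perm α)).toMonoidHom.comp (ι.comp (R : Subgroup 𝔊).subtype))
    (Finset.univ.filter (fun g : Perm α => g.cycleType = Multiset.replicate k 2))
    (fun g z hz => by
      rw [Finset.mem_filter] at hz ⊢
      refine ⟨Finset.mem_univ _, ?_⟩
      rw [← hz.2]
      simp only [MonoidHom.coe_comp, Function.comp_apply, ConjAct.smul_def]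
      exact cycleType_conj)
    (odd_card_fpf_invol k hk hα)
  refine ⟨z, (Finset.mem_filter.mp hz).2, fun g hg => ?_⟩
  have := hfix ⟨g, hg⟩
  simpa [ConjAct.smul_def] using this

theorem smul_finset_compl' (σ : Perm α) (X : Finset α) : σ • Xᶜ = (σ • X)ᶜ := by
  apply Finset.coe_injective
  rw [Finset.coe_smul_finset, Finset.coe_compl, Finset.coe_compl, Finset.coe_smul_finset,
    Set.smul_set_compl]

/-- an invariant halving when the degree is a power of two -/
theorem exists_invariant_halving (ι : 𝔊 →* Perm α) (R : Sylow 2 𝔊) (a : ℕ) (ha : 1 ≤ a)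
    (hα : Fintype.card α = 2 ^ a) :
    ∃ X : Finset α, X.card = 2 ^ (a - 1) ∧
      ∀ g ∈ (R : Subgroup 𝔊), ι g • X = X ∨ ι g • X = Xᶜ := by
  obtain ⟨c, rfl⟩ : ∃ c, a = c + 1 := ⟨a - 1, by omega⟩
  have h2 : (2 : ℕ) ^ (c + 1) = 2 * 2 ^ c := by rw [pow_succ]; ring
  have hpos : 0 < 2 ^ c := by positivity
  rw [show c + 1 - 1 = c by omega]
  have hne : Nonempty α := by
    rw [← Fintype.card_pos_iff, hα]; positivity
  obtain ⟨x₀⟩ := hne
  set S₀ : Finset (Finset α) :=
    (Finset.powersetCard (2 ^ c) (Finset.univ : Finset α)).filter (fun X => x₀ ∈ X) with hS₀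
  have hmem₀ : ∀ X : Finset α, X ∈ S₀ ↔ X.card = 2 ^ c ∧ x₀ ∈ X := by
    intro X
    simp [hS₀, Finset.mem_powersetCard]
  have hcompl : ∀ X : Finset α, X.card = 2 ^ c → Xᶜ.card = 2 ^ c := by
    intro X hX
    rw [Finset.card_compl, hα, hX]; omega
  have hcard₀ : S₀.card = Nat.choose (2 ^ (c + 1) - 1) (2 ^ c - 1) := by
    have e1 := Finset.card_filter_add_card_filter_not (s := Finset.powersetCard (2 ^ c)
      (Finset.univ : Finset α)) (fun X => x₀ ∈ X)
    have e2 : (Finset.powersetCard (2 ^ c) (Finset.univ : Finset α)).filter (fun X => ¬ x₀ ∈ X) =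
        Finset.powersetCard (2 ^ c) (Finset.univ.erase x₀) := by
      ext X
      simp only [Finset.mem_filter, Finset.mem_powersetCard, Finset.subset_univ, true_and]
      constructor
      · rintro ⟨h1, h2⟩
        exact ⟨fun y hy => Finset.mem_erase.mpr ⟨fun h => h2 (h ▸ hy), Finset.mem_univ _⟩, h1⟩
      · rintro ⟨h1, h2⟩
        exact ⟨h2, fun h => (Finset.mem_erase.mp (h1 h)).1 rfl⟩
    rw [e2, Finset.card_powersetCard, Finset.card_powersetCard, Finset.card_univ,
      Finset.card_erase_of_mem (Finset.mem_univ _), Finset.card_univ, hα] at e1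
    have e3 : Nat.choose (2 ^ (c + 1)) (2 ^ c) =
        Nat.choose (2 ^ (c + 1) - 1) (2 ^ c - 1) + Nat.choose (2 ^ (c + 1) - 1) (2 ^ c) := by
      have := Nat.choose_succ_succ' (2 ^ (c + 1) - 1) (2 ^ c - 1)
      rwa [show 2 ^ (c + 1) - 1 + 1 = 2 ^ (c + 1) by omega,
        show 2 ^ c - 1 + 1 = 2 ^ c by omega] at this
    rw [hS₀]
    omega
  set F : Finset α → Finset (Finset α) := fun X => {X, Xᶜ} with hF
  have hinj : Set.InjOn F (S₀ : Set (Finset α)) := by
    intro X hX Y hY hXY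
    rw [Finset.mem_coe, hmem₀] at hX hY
    have h1 : X ∈ F Y := by rw [← hXY]; simp [hF]
    simp only [hF, Finset.mem_insert, Finset.mem_singleton] at h1
    rcases h1 with h1 | h1
    · exact h1
    · exfalso
      have := hX.2
      rw [h1, Finset.mem_compl] at this
      exact this hY.2
  obtain ⟨T, hT, hfix⟩ := exists_fixed_of_odd (sylow_isPGroup R)
    (ι.comp (R : Subgroup 𝔊).subtype) (S₀.image F)
    (fun g T hT => by
      obtain ⟨X, hX, rfl⟩ := Finset.mem_image.mp hT
      rw [hmem₀] at hX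
      set σ : Perm α := (ι.comp (R : Subgroup 𝔊).subtype) g with hσ
      have e1 : σ • F X = {σ • X, (σ • X)ᶜ} := by
        simp only [hF, Finset.smul_finset_insert, Finset.smul_finset_singleton,
          smul_finset_compl']
      have hc : (σ • X).card = 2 ^ c := by rw [Finset.card_smul_finset]; exact hX.1
      rw [e1]
      by_cases hx : x₀ ∈ σ • X
      · exact Finset.mem_image.mpr ⟨σ • X, (hmem₀ _).mpr ⟨hc, hx⟩, rfl⟩
      · refine Finset.mem_image.mpr ⟨(σ • X)ᶜ, (hmem₀ _).mpr ⟨hcompl _ hc, ?_⟩, ?_⟩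
        · exact Finset.mem_compl.mpr hx
        · simp only [hF, compl_compl]
          exact Finset.pair_comm _ _)
    (by
      rw [Finset.card_image_of_injOn hinj, hcard₀]
      exact odd_choose_half (c + 1) (by omega))
  obtain ⟨X, hX, rfl⟩ := Finset.mem_image.mp hT
  rw [hmem₀] at hX
  refine ⟨X, hX.1, fun g hg => ?_⟩
  have h1 := hfix ⟨g, hg⟩
  have h2 : ι g • X ∈ ι g • F X := Finset.smul_mem_smul_finset (by simp [hF])
  have h3 : ι g • F X = F X := h1
  rw [h3] at h2
  simpa [hF] using h2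

end Cfsg.Agent.Lib.Helper20.SylMax
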