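import Mathlib
import Cfsg.Agent.Lib.Helper20.SylMaxB

/-!
Sylow 2-subgroups of symmetric/alternating groups and maximal subgroups (helper20), part C:
a group containing the even part of a set stabilizer and an element moving the set off
itself and its complement contains the alternating group.
-/

set_option autoImplicit false

namespace Cfsg.Agent.Lib.Helper20.SylMax

open Equiv Equiv.Perm Subgroup MulAction Set
open scoped Pointwise

variable {α : Type*} [Fintype α] [DecidableEq α]

/-- blocks strictly inside `s` are subsingletons -/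
theorem block_subsingleton (K : Subgroup (Perm α)) (s : Set α)
    (hK : stabilizer (Perm α) s ⊓ alternatingGroup α ≤ K) (hsc : sᶜ.Nontrivial)
    {B : Set α} (hB : IsBlock K B) (hss : B ⊂ s) : B.Subsingleton := by
  apply hB.subsingleton_of_ssubset_of_stabilizer_le hss
  intro σ
  obtain ⟨⟨k, hk⟩, rfl⟩ := alternatingGroup.stabilizer.surjective_toPerm hsc σ
  have hk' : (k : Perm α) ∈ stabilizer (Perm α) s := hk
  exact ⟨⟨⟨k.1, hK ⟨hk', k.2⟩⟩, hk⟩, rfl⟩

theorem block_subsingleton_compl (K : Subgroup (Perm α)) (s : Set α)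
    (hK : stabilizer (Perm α) s ⊓ alternatingGroup α ≤ K) (hs : s.Nontrivial)
    {B : Set α} (hB : IsBlock K B) (hss : B ⊂ sᶜ) : B.Subsingleton := by
  apply block_subsingleton K sᶜ _ _ hB hss
  · rwa [stabilizer_compl]
  · rwa [compl_compl]

/-- a block meeting both `s` and its complement contains `s` -/
theorem subset_block (K : Subgroup (Perm α)) (s : Set α)
    (hK : stabilizer (Perm α) s ⊓ alternatingGroup α ≤ K) (hs3 : 3 ≤ s.ncard)
    {B : Set α} (hB : IsBlock K B) (h1 : ¬ B ⊆ s) (h2 : ¬ B ⊆ sᶜ) : s ⊆ B := by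
  obtain ⟨b, hbB, hbs⟩ := Set.not_subset.mp h1
  obtain ⟨a, haB, has⟩ := Set.not_subset.mp h2
  rw [Set.mem_compl_iff, not_not] at has
  intro x hx
  by_cases hxa : x = a
  · rw [hxa]; exact haB
  have hlt : ({a, x} : Set α).ncard < s.ncard := by
    have := Set.ncard_pair (Ne.symm hxa)
    omega
  obtain ⟨c, hcs, hc⟩ := Set.exists_mem_notMem_of_ncard_lt_ncard hlt
  simp only [Set.mem_insert_iff, Set.mem_singleton_iff, not_or] at hc
  set k : Perm α := swap a x * swap x c with hk
  have hkK : k ∈ K := by
    apply hK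
    refine ⟨Subgroup.mul_mem _ (swap_mem_stabilizer has hx) (swap_mem_stabilizer hx hcs), ?_⟩
    show k ∈ alternatingGroup α
    rw [mem_alternatingGroup, hk, Perm.sign_mul, sign_swap (Ne.symm hxa), sign_swap (Ne.symm hc.2)]
    rfl
  have hka : k a = x := by
    rw [hk, Perm.mul_apply, swap_apply_of_ne_of_ne (Ne.symm hxa) (Ne.symm hc.1), swap_apply_left]
  have hkb : k b = b := by
    have hba : b ≠ a := fun h => hbs (h ▸ has)
    have hbx : b ≠ x := fun h => hbs (h ▸ hx)
    have hbc : b ≠ c := fun h => hbs (h ▸ hcs)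
    rw [hk, Perm.mul_apply, swap_apply_of_ne_of_ne hbx hbc, swap_apply_of_ne_of_ne hba hbx]
  have hkB : (⟨k, hkK⟩ : K) • B = B := by
    apply hB.smul_eq_of_mem hbB
    show k b ∈ B
    rw [hkb]; exact hbB
  rw [← hkB, ← hka]
  exact Set.smul_mem_smul_set (a := (⟨k, hkK⟩ : K)) haB

/-- the main generation lemma -/
theorem alt_le_of_stab (K : Subgroup (Perm α)) (s : Set α)
    (hK : stabilizer (Perm α) s ⊓ alternatingGroup α ≤ K)
    (hs3 : 3 ≤ s.ncard) (hsc : sᶜ.Nontrivial) (hle : sᶜ.ncard ≤ s.ncard)
    (h : Perm α) (hh : h ∈ K) (h1 : h • s ≠ s) (h2 : h • s ≠ sᶜ) :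
    alternatingGroup α ≤ K := by
  have hsum := Set.ncard_add_ncard_compl s
  have hsc2 : 1 < sᶜ.ncard := (Set.one_lt_ncard_iff_nontrivial).mpr hsc
  have hs : s.Nontrivial := (Set.one_lt_ncard_iff_nontrivial).mp (by omega)
  have h4 : 4 < Nat.card α := by omega
  -- transitivity
  have htrans : IsPretransitive K α := by
    apply IsPretransitive.of_partition (s := s)
    · intro a ha b hb
      obtain ⟨g, hg, hgab⟩ := alternatingGroup.exists_mem_stabilizer_smul_eq (by omega) a ha b hb
      have hg' : (g : Perm α) ∈ stabilizer (Perm α) s := hg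
      exact ⟨⟨g.1, hK ⟨hg', g.2⟩⟩, hgab⟩
    · intro a ha b hb
      obtain ⟨g, hg, hgab⟩ := alternatingGroup.exists_mem_stabilizer_smul_eq (by omega) a ha b hb
      have hg' : (g : Perm α) ∈ stabilizer (Perm α) sᶜ := hg
      rw [stabilizer_compl] at hg'
      exact ⟨⟨g.1, hK ⟨hg', g.2⟩⟩, hgab⟩
    · intro htop
      have : (⟨h, hh⟩ : K) ∈ stabilizer K s := by rw [htop]; trivial
      exact h1 this
  have hprim : IsPreprimitive K α := by
    apply IsPreprimitive.mk
    intro B hB
    rw [IsTrivialBlock, or_iff_not_imp_left]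
    intro hBns
    have hhB := hB.smul_eq_or_disjoint ⟨h, hh⟩
    by_cases hBs : B ⊆ s
    · exfalso
      have hBeq : B = s := by
        by_contra hne
        exact hBns (block_subsingleton K s hK hsc hB (hBs.ssubset_of_ne hne))
      rw [hBeq] at hhB
      rcases hhB with e | e
      · exact h1 e
      · have hsub : h • s ⊆ sᶜ := fun x hx => fun hxs => (Set.disjoint_left.mp e) hx hxs
        have hcard : (h • s).ncard = s.ncard := Set.ncard_smul_set _ _
        exact h2 (Set.eq_of_subset_of_ncard_le hsub (by omega))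
    by_cases hBsc : B ⊆ sᶜ
    · exfalso
      have hBeq : B = sᶜ := by
        by_contra hne
        exact hBns (block_subsingleton_compl K s hK hs hB (hBsc.ssubset_of_ne hne))
      rw [hBeq] at hhB hB
      have hcompl : (⟨h, hh⟩ : K) • sᶜ = (h • s)ᶜ := Set.smul_set_compl
      rcases hhB with e | e
      · rw [hcompl] at e
        exact h1 (compl_injective e)
      · have hsub : (⟨h, hh⟩ : K) • sᶜ ⊆ s := fun x hx => by
          by_contra hxs
          exact (Set.disjoint_left.mp e) hx hxs
        have hblk : IsBlock K ((⟨h, hh⟩ : K) • sᶜ) := hB.translate _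
        by_cases heq : (⟨h, hh⟩ : K) • sᶜ = s
        · rw [hcompl] at heq
          apply h2
          rw [← compl_compl (h • s), heq]
        · have hsub' := block_subsingleton K s hK hsc hblk (hsub.ssubset_of_ne heq)
          have hnt : ((⟨h, hh⟩ : K) • sᶜ).Nontrivial := by
            obtain ⟨x, hx, y, hy, hxy⟩ := hsc
            exact ⟨_, Set.smul_mem_smul_set hx, _, Set.smul_mem_smul_set hy,
              fun e => hxy (MulAction.injective _ e)⟩
          exact Set.not_subsingleton_iff.mpr hnt hsub'
    · have hsB := subset_block K s hK hs3 hB hBs hBsc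
      apply hB.eq_univ_of_card_lt
      have hlt : s.ncard < B.ncard := by
        apply Set.ncard_lt_ncard (hsB.ssubset_of_ne _)
        rintro rfl
        exact hBs le_rfl
      omega
  exact Equiv.Perm.alternatingGroup_le_of_isPreprimitive h4 K hK

end Cfsg.Agent.Lib.Helper20.SylMax
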