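import Mathlib
import Cfsg.Agent.Lib.Helper20.SylMaxC

/-!
Sylow 2-subgroups of symmetric/alternating groups and maximal subgroups (helper20), part D:
even permutations centralizing a fixed-point-free involution.
-/

set_option autoImplicit false

namespace Cfsg.Agent.Lib.Helper20.SylMax

open Equiv Equiv.Perm Subgroup MulAction
open scoped Pointwise

variable {α : Type*} [Fintype α] [DecidableEq α]

theorem swap_comm_of_ne {a b c d : α} (hac : a ≠ c) (had : a ≠ d) (hbc : b ≠ c) (hbd : b ≠ d) :
    swap a b * swap c d = swap c d * swap a b := by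
  by_cases hab : a = b
  · subst hab; rw [swap_self]; rfl
  by_cases hcd : c = d
  · subst hcd; rw [swap_self]; rfl
  exact (Perm.disjoint_swap_swap (by simp [hab, hac, had, hbc, hbd, hcd])).commute.eq

theorem conj_swap_mul_swap (z : Perm α) (a b c d : α) :
    z * (swap a b * swap c d) = (swap (z a) (z b) * swap (z c) (z d)) * z := by
  rw [swap_apply_apply, swap_apply_apply]; group

/-- the cycle type `2^k` on `2k` points: fixed-point-free involution -/
theorem invol_of_cycleType (z : Perm α) (k : ℕ) (hk : 1 ≤ k) (hα : Fintype.card α = 2 * k)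
    (hz : z.cycleType = Multiset.replicate k 2) : z * z = 1 ∧ ∀ x, z x ≠ x := by
  constructor
  · have h1 : orderOf z = 2 := by
      rw [← lcm_cycleType, hz]
      obtain ⟨c, rfl⟩ : ∃ c, k = c + 1 := ⟨k - 1, by omega⟩
      clear hk hα hz
      induction c with
      | zero => simp
      | succ c ih => rw [Multiset.replicate_succ, Multiset.lcm_cons, ih]; simp
    rw [← pow_two, ← h1]; exact pow_orderOf_eq_one z
  · have h1 : z.support.card = Fintype.card α := by
      rw [← sum_cycleType, hz, hα]; simp [mul_comm]
    have h2 : z.support = Finset.univ := by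
      rw [← Finset.card_eq_iff_eq_univ]; exact h1
    intro x
    rw [← Perm.mem_support, h2]; exact Finset.mem_univ _

/-- even permutations centralizing a fixed-point-free involution `z`, fixing a `z`-invariant
set pointwise and moving `u` to `v` -/
theorem exists_centralizing (z : Perm α) (hz2 : z * z = 1) (hfpf : ∀ x, z x ≠ x)
    (F : Finset α) (hF : ∀ x ∈ F, z x ∈ F) (hcard : F.card + 2 < Fintype.card α)
    (u v : α) (hu : u ∉ F) (hv : v ∉ F) :
    ∃ g : Perm α, sign g = 1 ∧ g * z = z * g ∧ g u = v ∧ ∀ x ∈ F, g x = x := by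
  have hzz : ∀ x, z (z x) = x := fun x => by
    have := congrArg (fun f : Perm α => f x) hz2
    simpa using this
  have hFz : ∀ x, x ∉ F → z x ∉ F := fun x hx h => hx (by simpa [hzz] using hF _ h)
  by_cases huv : u = v
  · exact ⟨1, by simp, by simp, by simpa using huv, fun x _ => rfl⟩
  by_cases hvz : v = z u
  · -- need another pair
    have hex : ∃ w, w ∉ insert u (insert (z u) F) := by
      by_contra hcon
      push Not at hcon
      have h1 : insert u (insert (z u) F) = Finset.univ := Finset.eq_univ_iff_forall.mpr hcon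
      have h2 := Finset.card_insert_le u (insert (z u) F)
      have h3 := Finset.card_insert_le (z u) F
      rw [h1, Finset.card_univ] at h2
      omega
    obtain ⟨w, hw⟩ := hex
    simp only [Finset.mem_insert, not_or] at hw
    obtain ⟨hwu, hwzu, hwF⟩ := hw
    have hzwu : z w ≠ u := fun h => hwzu (by rw [← h, hzz])
    have hzwzu : z w ≠ z u := fun h => hwu (z.injective h)
    refine ⟨swap u (z u) * swap w (z w), ?_, ?_, ?_, ?_⟩
    · rw [Perm.sign_mul, sign_swap (hfpf u).symm, sign_swap (hfpf w).symm]; rfl
    · rw [conj_swap_mul_swap, hzz, hzz, swap_comm (z u) u, swap_comm (z w) w]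
    · rw [Perm.mul_apply, swap_apply_of_ne_of_ne (Ne.symm hwu) (Ne.symm hzwu), swap_apply_left, hvz]
    · intro x hx
      have h1 : x ≠ u := fun h => hu (h ▸ hx)
      have h2 : x ≠ z u := fun h => hFz u hu (h ▸ hx)
      have h3 : x ≠ w := fun h => hwF (h ▸ hx)
      have h4 : x ≠ z w := fun h => hFz w hwF (h ▸ hx)
      rw [Perm.mul_apply, swap_apply_of_ne_of_ne h3 h4, swap_apply_of_ne_of_ne h1 h2]
  · have hzuv : z u ≠ v := fun h => hvz h.symm
    have hzvu : z v ≠ u := fun h => hvz (by rw [← h, hzz])
    have hzuzv : z u ≠ z v := fun h => huv (z.injective h)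
    refine ⟨swap u v * swap (z u) (z v), ?_, ?_, ?_, ?_⟩
    · rw [Perm.sign_mul, sign_swap huv, sign_swap hzuzv]; rfl
    · rw [conj_swap_mul_swap, hzz, hzz]
      rw [swap_comm_of_ne (hfpf u).symm (Ne.symm hzvu) (Ne.symm hzuv) (hfpf v).symm]
    · rw [Perm.mul_apply, swap_apply_of_ne_of_ne (hfpf u).symm (Ne.symm hzvu), swap_apply_left]
    · intro x hx
      have h1 : x ≠ u := fun h => hu (h ▸ hx)
      have h2 : x ≠ z u := fun h => hFz u hu (h ▸ hx)
      have h3 : x ≠ v := fun h => hv (h ▸ hx)
      have h4 : x ≠ z v := fun h => hFz v hv (h ▸ hx)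
      rw [Perm.mul_apply, swap_apply_of_ne_of_ne h2 h4, swap_apply_of_ne_of_ne h1 h3]

/-- an even permutation not commuting with a fixed-point-free involution -/
theorem exists_not_centralizing (z : Perm α) (hfpf : ∀ x, z x ≠ x) (hz2 : z * z = 1)
    (hcard : 3 ≤ Fintype.card α) :
    ∃ g : Perm α, sign g = 1 ∧ g * z ≠ z * g := by
  have hzz : ∀ x, z (z x) = x := fun x => by
    have := congrArg (fun f : Perm α => f x) hz2
    simpa using this
  have hne : Nonempty α := by
    rw [← Fintype.card_pos_iff]; omega
  obtain ⟨x⟩ := hne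
  have hex : ∃ y, y ∉ ({x, z x} : Finset α) := by
    by_contra hcon
    push Not at hcon
    have h1 : ({x, z x} : Finset α) = Finset.univ := Finset.eq_univ_iff_forall.mpr hcon
    have h2 := Finset.card_le_two (a := x) (b := z x)
    rw [h1, Finset.card_univ] at h2
    omega
  obtain ⟨y, hy⟩ := hex
  simp only [Finset.mem_insert, Finset.mem_singleton, not_or] at hy
  refine ⟨swap x y * swap x (z x), ?_, fun h => ?_⟩
  · rw [Perm.sign_mul, sign_swap (Ne.symm hy.1), sign_swap (hfpf x).symm]; rfl
  · have := congrArg (fun f : Perm α => f x) h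
    simp only [Perm.mul_apply, swap_apply_right, swap_apply_left] at this
    rw [swap_apply_of_ne_of_ne (hfpf x) (fun h => hy.2 h.symm), hzz] at this
    exact hy.1 this

end Cfsg.Agent.Lib.Helper20.SylMax
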