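import Mathlib
import Cfsg.Agent.Lib.Helper20.Syl2OverA
import Cfsg.Agent.Lib.Helper20.SylMaxD

/-!
Overgroups of a Sylow 2-subgroup of the alternating group with quasisimple generalized Fitting
subgroup (helper20), part B: double transpositions, Klein four-groups on four points, and the
transitivity of `L` on its support.
-/

set_option autoImplicit false

namespace Cfsg.Agent.Lib.Helper20.Syl2Over

open Equiv Equiv.Perm Subgroup

variable {α : Type*} [DecidableEq α]

/-- the double transposition `(a b)(c d)` -/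
def dt (a b c d : α) : Perm α := swap a b * swap c d

theorem dt_fst {a b c d : α} (hac : a ≠ c) (had : a ≠ d) : dt a b c d a = b := by
  unfold dt
  rw [Perm.mul_apply, swap_apply_of_ne_of_ne hac had, swap_apply_left]

theorem dt_snd {a b c d : α} (hbc : b ≠ c) (hbd : b ≠ d) : dt a b c d b = a := by
  unfold dt
  rw [Perm.mul_apply, swap_apply_of_ne_of_ne hbc hbd, swap_apply_right]

theorem dt_trd {a b c d : α} (hda : d ≠ a) (hdb : d ≠ b) : dt a b c d c = d := by
  unfold dt
  rw [Perm.mul_apply, swap_apply_left, swap_apply_of_ne_of_ne hda hdb]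

theorem dt_fth {a b c d : α} (hca : c ≠ a) (hcb : c ≠ b) : dt a b c d d = c := by
  unfold dt
  rw [Perm.mul_apply, swap_apply_right, swap_apply_of_ne_of_ne hca hcb]

theorem dt_of_ne {a b c d x : α} (ha : x ≠ a) (hb : x ≠ b) (hc : x ≠ c) (hd : x ≠ d) :
    dt a b c d x = x := by
  unfold dt
  rw [Perm.mul_apply, swap_apply_of_ne_of_ne hc hd, swap_apply_of_ne_of_ne ha hb]

theorem dt_conj (g : Perm α) (a b c d : α) :
    g * dt a b c d * g⁻¹ = dt (g a) (g b) (g c) (g d) := by
  unfold dt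
  rw [swap_apply_apply, swap_apply_apply]
  group

theorem dt_support_card [Fintype α] (a b c d : α) : (dt a b c d).support.card ≤ 4 := by
  have h1 : (dt a b c d).support ⊆ ({a, b, c, d} : Finset α) := by
    intro x hx
    rw [Perm.mem_support] at hx
    by_contra hn
    simp only [Finset.mem_insert, Finset.mem_singleton, not_or] at hn
    exact hx (dt_of_ne hn.1 hn.2.1 hn.2.2.1 hn.2.2.2)
  exact (Finset.card_le_card h1).trans Finset.card_le_four

theorem dt_ne_one {a b c d : α} (hab : a ≠ b) (hac : a ≠ c) (had : a ≠ d) : dt a b c d ≠ 1 := by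
  intro h
  have := congrArg (fun f : Perm α => f a) h
  simp only [dt_fst hac had, Perm.one_apply] at this
  exact hab this.symm

/-- `H` contains the Klein four-group acting regularly on `{a, b, c, d}` -/
structure HasV4 (H : Subgroup (Perm α)) (a b c d : α) : Prop where
  ab : a ≠ b
  ac : a ≠ c
  ad : a ≠ d
  bc : b ≠ c
  bd : b ≠ d
  cd : c ≠ d
  m1 : dt a b c d ∈ H
  m2 : dt a c b d ∈ H
  m3 : dt a d b c ∈ H

theorem dt_comm' {a b c d : α} (hac : a ≠ c) (had : a ≠ d) (hbc : b ≠ c) (hbd : b ≠ d) :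
    dt a b c d = dt c d a b := by
  unfold dt
  by_cases hab : a = b
  · subst hab; rw [swap_self]; rfl
  by_cases hcd : c = d
  · subst hcd; rw [swap_self]; rfl
  exact (Perm.disjoint_swap_swap (by simp [hab, hac, had, hbc, hbd, hcd])).commute.eq

theorem dt_flip (a b c d : α) : dt a b c d = dt b a d c := by
  unfold dt
  rw [swap_comm a b, swap_comm c d]

variable {H : Subgroup (Perm α)}

theorem HasV4.flip {a b c d : α} (V : HasV4 H a b c d) : HasV4 H b a d c where
  ab := V.ab.symm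
  ac := V.bd
  ad := V.bc
  bc := V.ad
  bd := V.ac
  cd := V.cd.symm
  m1 := by rw [← dt_flip]; exact V.m1
  m2 := by
    rw [dt_comm' V.ab.symm V.bc V.ad.symm V.cd.symm]
    exact V.m2
  m3 := by
    rw [dt_comm' V.ab.symm V.bd V.ac.symm V.cd]
    exact V.m3

theorem HasV4.rot {a b c d : α} (V : HasV4 H a b c d) : HasV4 H c d a b where
  ab := V.cd
  ac := V.ac.symm
  ad := V.bc.symm
  bc := V.ad.symm
  bd := V.bd.symm
  cd := V.ab
  m1 := by rw [← dt_comm' V.ac V.ad V.bc V.bd]; exact V.m1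
  m2 := by rw [dt_flip]; exact V.m2
  m3 := by
    rw [dt_flip, dt_comm' V.ab.symm V.bd V.ac.symm V.cd]
    exact V.m3

theorem HasV4.conj {a b c d : α} (V : HasV4 H a b c d) (g : Perm α) (hg : g ∈ H) :
    HasV4 H (g a) (g b) (g c) (g d) where
  ab := g.injective.ne V.ab
  ac := g.injective.ne V.ac
  ad := g.injective.ne V.ad
  bc := g.injective.ne V.bc
  bd := g.injective.ne V.bd
  cd := g.injective.ne V.cd
  m1 := by rw [← dt_conj]; exact H.mul_mem (H.mul_mem hg V.m1) (H.inv_mem hg)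
  m2 := by rw [← dt_conj]; exact H.mul_mem (H.mul_mem hg V.m2) (H.inv_mem hg)
  m3 := by rw [← dt_conj]; exact H.mul_mem (H.mul_mem hg V.m3) (H.inv_mem hg)

/-- an element of the four-group moving `x ∈ {a,b,c,d}` to `a` -/
theorem HasV4.exists_to_fst {a b c d : α} (V : HasV4 H a b c d) (x : α)
    (hx : x = a ∨ x = b ∨ x = c ∨ x = d) :
    ∃ t ∈ H, t x = a ∧ ∀ y, y ≠ a → y ≠ b → y ≠ c → y ≠ d → t y = y := by
  rcases hx with rfl | rfl | rfl | rfl
  · exact ⟨1, H.one_mem, rfl, fun y _ _ _ _ => rfl⟩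
  · exact ⟨dt a x c d, V.m1, dt_snd V.bc V.bd, fun y h1 h2 h3 h4 => dt_of_ne h1 h2 h3 h4⟩
  · exact ⟨dt a x b d, V.m2, dt_snd V.bc.symm V.cd, fun y h1 h2 h3 h4 => dt_of_ne h1 h3 h2 h4⟩
  · exact ⟨dt a x b c, V.m3, dt_snd V.bd.symm V.cd.symm,
      fun y h1 h2 h3 h4 => dt_of_ne h1 h4 h2 h3⟩

end Cfsg.Agent.Lib.Helper20.Syl2Over
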