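import Mathlib
import Cfsg.Agent.Lib.Helper20.Syl2OverB

/-!
Overgroups of a Sylow 2-subgroup of the alternating group with quasisimple generalized Fitting
subgroup (helper20), part C: `L` is transitive on the set of points it moves, which contains
the supports of two disjoint Klein four-groups of `H`.
-/

set_option autoImplicit false

namespace Cfsg.Agent.Lib.Helper20.Syl2Over

open Equiv Equiv.Perm Subgroup

variable {α : Type*} [Fintype α] [DecidableEq α] {H L : Subgroup (Perm α)}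

/-- the points moved by `L` -/
def moved (L : Subgroup (Perm α)) : Set α := {x | ∃ l ∈ L, l x ≠ x}

omit [Fintype α] [DecidableEq α] in
theorem not_mem_moved {x : α} (hx : x ∉ moved L) {l : Perm α} (hl : l ∈ L) : l x = x := by
  by_contra h
  exact hx ⟨l, hl, h⟩

omit [Fintype α] [DecidableEq α] in
theorem moved_smul (S : Setup H L) {h : Perm α} (hh : h ∈ H) {x : α} (hx : x ∈ moved L) :
    h x ∈ moved L := by
  obtain ⟨l, hl, hlx⟩ := hx
  refine ⟨h * l * h⁻¹, S.norm h hh l hl, ?_⟩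
  rw [Perm.mul_apply, Perm.mul_apply, perm_inv_apply]
  exact fun e => hlx (h.injective e)

omit [Fintype α] [DecidableEq α] in
theorem moved_smul_iff (S : Setup H L) {h : Perm α} (hh : h ∈ H) (x : α) :
    h x ∈ moved L ↔ x ∈ moved L := by
  constructor
  · intro hx
    have := moved_smul S (H.inv_mem hh) hx
    rwa [perm_inv_apply] at this
  · exact moved_smul S hh

omit [Fintype α] [DecidableEq α] in
theorem exists_moved (S : Setup H L) : ∃ x, x ∈ moved L := by
  haveI := Cfsg.Agent.Lib.Helper8.isQuasisimple_nontrivial S.qs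
  obtain ⟨l, hl⟩ := exists_ne (1 : ↥L)
  by_contra hcon
  push Not at hcon
  apply hl
  apply Subtype.ext
  ext x
  exact not_mem_moved (hcon x) l.2

/-- the `L`-orbit of a moved point contains the first point of a four-group -/
theorem orbit_contains (S : Setup H L) {a b c d a' b' c' d' : α} (V : HasV4 H a b c d)
    (V' : HasV4 H a' b' c' d')
    (hdisj : ∀ x, (x = a ∨ x = b ∨ x = c ∨ x = d) → ¬ (x = a' ∨ x = b' ∨ x = c' ∨ x = d'))
    (x : α) (hx : x ∈ moved L) : ∃ l ∈ L, l x = a := by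
  have hxO : x ∈ {y | ∃ l ∈ L, l x = y} := ⟨1, L.one_mem, rfl⟩
  have hOL : ∀ l ∈ L, ∀ y ∈ {y | ∃ l ∈ L, l x = y}, l y ∈ {y | ∃ l ∈ L, l x = y} := by
    rintro l hl y ⟨l', hl', rfl⟩
    exact ⟨l * l', L.mul_mem hl hl', rfl⟩
  have hnotfix : ¬ ∀ l ∈ L, ∀ y ∈ {y | ∃ l ∈ L, l x = y}, l y = y := by
    intro h
    obtain ⟨l, hl, hlx⟩ := hx
    exact hlx (h l hl x hxO)
  have hmeet : ∀ {p q r s : α}, HasV4 H p q r s →
      ∃ y ∈ {y | ∃ l ∈ L, l x = y}, (y = p ∨ y = q ∨ y = r ∨ y = s) := by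
    intro p q r s W
    by_contra hcon
    push Not at hcon
    apply hnotfix
    apply fixes_of_not_central S (dt p q r s) W.m1
      (not_central_small S _ W.m1 (dt_ne_one W.ab W.ac W.ad) (dt_support_card _ _ _ _)) _ _ hOL
    intro y hy
    have := hcon y hy
    exact dt_of_ne this.1 this.2.1 this.2.2.1 this.2.2.2
  obtain ⟨y0, hy0O, hy0⟩ := hmeet V'
  obtain ⟨y1, hy1O, hy1⟩ := hmeet V
  have hpres : ∀ t ∈ H, (∀ y, y ≠ a → y ≠ b → y ≠ c → y ≠ d → t y = y) →
      ∀ y ∈ {y | ∃ l ∈ L, l x = y}, t y ∈ {y | ∃ l ∈ L, l x = y} := by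
    intro t ht hfix y hy
    have hty0 : t y0 = y0 := hfix y0 (fun e => hdisj y0 (Or.inl e) hy0)
      (fun e => hdisj y0 (Or.inr (Or.inl e)) hy0)
      (fun e => hdisj y0 (Or.inr (Or.inr (Or.inl e))) hy0)
      (fun e => hdisj y0 (Or.inr (Or.inr (Or.inr e))) hy0)
    obtain ⟨l0, hl0, rfl⟩ := hy0O
    obtain ⟨l, hl, rfl⟩ := hy
    refine ⟨t * (l * l0⁻¹) * t⁻¹ * l0,
      L.mul_mem (S.norm t ht _ (L.mul_mem hl (L.inv_mem hl0))) hl0, ?_⟩
    simp only [Perm.mul_apply]
    have : t⁻¹ (l0 x) = l0 x := by rw [Perm.inv_eq_iff_eq, hty0]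
    rw [this, perm_inv_apply]
  obtain ⟨t, htH, hta, htfix⟩ := V.exists_to_fst y1 hy1
  have := hpres t htH htfix y1 hy1O
  rw [hta] at this
  exact this

/-- `L` is transitive on the set of points it moves -/
theorem transitive_moved (S : Setup H L) {a b c d a' b' c' d' : α} (V : HasV4 H a b c d)
    (V' : HasV4 H a' b' c' d')
    (hdisj : ∀ x, (x = a ∨ x = b ∨ x = c ∨ x = d) → ¬ (x = a' ∨ x = b' ∨ x = c' ∨ x = d'))
    (x y : α) (hx : x ∈ moved L) (hy : y ∈ moved L) : ∃ l ∈ L, l x = y := by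
  obtain ⟨l1, hl1, h1⟩ := orbit_contains S V V' hdisj x hx
  obtain ⟨l2, hl2, h2⟩ := orbit_contains S V V' hdisj y hy
  refine ⟨l2⁻¹ * l1, L.mul_mem (L.inv_mem hl2) hl1, ?_⟩
  rw [Perm.mul_apply, h1, ← h2, perm_inv_apply]

theorem fst_mem_moved (S : Setup H L) {a b c d a' b' c' d' : α} (V : HasV4 H a b c d)
    (V' : HasV4 H a' b' c' d')
    (hdisj : ∀ x, (x = a ∨ x = b ∨ x = c ∨ x = d) → ¬ (x = a' ∨ x = b' ∨ x = c' ∨ x = d')) :
    a ∈ moved L := by
  obtain ⟨x, hx⟩ := exists_moved S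
  obtain ⟨l, hl, h1⟩ := orbit_contains S V V' hdisj x hx
  rw [← h1]
  exact moved_smul S (S.le hl) hx

/-- the support of a four-group lies in the set of moved points -/
theorem support_subset_moved (S : Setup H L) {a b c d a' b' c' d' : α} (V : HasV4 H a b c d)
    (V' : HasV4 H a' b' c' d')
    (hdisj : ∀ x, (x = a ∨ x = b ∨ x = c ∨ x = d) → ¬ (x = a' ∨ x = b' ∨ x = c' ∨ x = d')) :
    a ∈ moved L ∧ b ∈ moved L ∧ c ∈ moved L ∧ d ∈ moved L := by
  refine ⟨fst_mem_moved S V V' hdisj, fst_mem_moved S V.flip V' (fun x hx => hdisj x (by tauto)),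
    fst_mem_moved S V.rot V' (fun x hx => hdisj x (by tauto)),
    fst_mem_moved S V.rot.flip V' (fun x hx => hdisj x (by tauto))⟩

end Cfsg.Agent.Lib.Helper20.Syl2Over
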