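import Mathlib
import Cfsg.Agent.Lib.Helper20.Syl2OverC

/-!
Overgroups of a Sylow 2-subgroup of the alternating group with quasisimple generalized Fitting
subgroup (helper20), part D: `H` acts faithfully on the set of points moved by `L`, and every
block of `H` inside that set containing two points is the whole set.
-/

set_option autoImplicit false

namespace Cfsg.Agent.Lib.Helper20.Syl2Over

open Equiv Equiv.Perm Subgroup
open scoped Pointwise commutatorElement
open Cfsg.Agent.Lib.Helper8

variable {α : Type*} [Fintype α] [DecidableEq α] {H L : Subgroup (Perm α)}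

omit [Fintype α] [DecidableEq α] in
/-- a subgroup normalized by `L` containing an element of `H` that does not centralize `L`
contains `L` -/
theorem le_of_normalized (S : Setup H L) (N : Subgroup (Perm α))
    (hN : ∀ l ∈ L, ∀ n ∈ N, l * n * l⁻¹ ∈ N) (t : Perm α) (htN : t ∈ N) (htH : t ∈ H)
    (hnc : ¬ ∀ l ∈ L, t * l = l * t) : L ≤ N := by
  have hNn : (N.subgroupOf L).Normal := by
    constructor
    intro x hx g
    rw [Subgroup.mem_subgroupOf] at hx ⊢
    exact hN g g.2 x hx
  rcases quasisimple_normal S.qs (N.subgroupOf L) hNn with h | h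
  · intro l hl
    have : (⟨l, hl⟩ : ↥L) ∈ N.subgroupOf L := by rw [h]; exact Subgroup.mem_top _
    rwa [Subgroup.mem_subgroupOf] at this
  · exfalso
    apply hnc
    have h1 : ⁅⁅Subgroup.zpowers t, L⁆, L⁆ = ⊥ := by
      rw [Subgroup.commutator_eq_bot_iff_le_centralizer, Subgroup.commutator_le]
      intro y hy l hl
      obtain ⟨i, rfl⟩ := Subgroup.mem_zpowers_iff.mp hy
      have hyH : t ^ i ∈ H := H.zpow_mem htH i
      have hyN : t ^ i ∈ N := N.zpow_mem htN i
      have hzL : ⁅t ^ i, l⁆ ∈ L := by
        rw [commutatorElement_def]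
        exact L.mul_mem (S.norm _ hyH l hl) (L.inv_mem hl)
      have hzN : ⁅t ^ i, l⁆ ∈ N := by
        rw [commutatorElement_def]
        have e : t ^ i * l * (t ^ i)⁻¹ * l⁻¹ = t ^ i * (l * (t ^ i)⁻¹ * l⁻¹) := by group
        rw [e]
        exact N.mul_mem hyN (hN l hl _ (N.inv_mem hyN))
      have hz : (⟨⁅t ^ i, l⁆, hzL⟩ : ↥L) ∈ Subgroup.center ↥L := h (by
        rw [Subgroup.mem_subgroupOf]; exact hzN)
      rw [Subgroup.mem_center_iff] at hz
      rw [Subgroup.mem_centralizer_iff]
      intro g hg
      exact congrArg Subtype.val (hz ⟨g, hg⟩)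
    have h2 := commutator_eq_bot_of_perfect L (Subgroup.zpowers t) S.perf h1
    rw [Subgroup.commutator_eq_bot_iff_le_centralizer] at h2
    have h3 := h2 (Subgroup.mem_zpowers t)
    rw [Subgroup.mem_centralizer_iff] at h3
    intro l hl
    exact (h3 l hl).symm

omit [Fintype α] [DecidableEq α] in
/-- an element of `H` fixing all moved points is trivial -/
theorem eq_one_of_fix_moved (S : Setup H L) (g : Perm α) (hg : g ∈ H)
    (hfix : ∀ x ∈ moved L, g x = x) : g = 1 := by
  have hcomm : ∀ l ∈ L, g * l = l * g := by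
    intro l hl
    ext x
    rw [Perm.mul_apply, Perm.mul_apply]
    by_cases hx : x ∈ moved L
    · rw [hfix x hx, hfix (l x) (moved_smul S (S.le hl) hx)]
    · have hgx : g x ∉ moved L := fun h => hx ((moved_smul_iff S hg x).mp h)
      rw [not_mem_moved hx hl, not_mem_moved hgx hl]
  have hgL : g ∈ L := S.cent g hg hcomm
  ext x
  by_cases hx : x ∈ moved L
  · exact hfix x hx
  · exact not_mem_moved hx hgL

omit [Fintype α] in
/-- a permutation fixing the complement of a finite set pointwise preserves the set -/
theorem apply_mem_of_fix_compl (t : Perm α) (B : Finset α) (hfix : ∀ y, y ∉ B → t y = y)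
    {y : α} (hy : y ∈ B) : t y ∈ B := by
  by_contra h
  have h1 := hfix (t y) h
  have h2 : t y = y := t.injective h1
  rw [h2] at h
  exact h hy

/-- a block of `H` inside the moved points, containing two points, contains all moved points -/
theorem block_eq (S : Setup H L) {a b c d a' b' c' d' : α} (V : HasV4 H a b c d)
    (V' : HasV4 H a' b' c' d')
    (hdisj : ∀ x, (x = a ∨ x = b ∨ x = c ∨ x = d) → ¬ (x = a' ∨ x = b' ∨ x = c' ∨ x = d'))
    (β : Set α) (hblk : ∀ g₁ ∈ H, ∀ g₂ ∈ H, g₁ • β = g₂ • β ∨ Disjoint (g₁ • β) (g₂ • β))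
    (hsub : β ⊆ moved L) (u v : α) (hu : u ∈ β) (hv : v ∈ β) (huv : u ≠ v) :
    moved L ⊆ β := by
  classical
  have hamoved := fst_mem_moved S V V' hdisj
  obtain ⟨l, hl, hlu⟩ := transitive_moved S V V' hdisj a u hamoved (hsub hu)
  have W := V.conj l (S.le hl)
  rw [hlu] at W
  generalize l b = b₁ at W
  generalize l c = c₁ at W
  generalize l d = d₁ at W
  -- translates
  have hT5 : ∀ g ∈ H, ∀ t ∈ H, ∀ y, y ∈ g • β → t y ∈ g • β → t • (g • β) = g • β := by
    intro g hg t ht y hy hty
    rw [smul_smul]
    rcases hblk (t * g) (H.mul_mem ht hg) g hg with h | h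
    · exact h
    · exfalso
      refine Set.disjoint_left.mp h ?_ hty
      rw [← smul_smul]
      exact Set.smul_mem_smul_set hy
  have hfixset : ∀ (t : Perm α) (X : Set α), (∀ y ∈ X, t y = y) → t • X = X := by
    intro t X h
    ext x
    constructor
    · rintro ⟨y, hy, rfl⟩
      show t y ∈ X
      rw [h y hy]; exact hy
    · intro hx
      exact ⟨x, hx, h x hx⟩
  have hβ1 : (1 : Perm α) • β = β := one_smul _ _
  have hcardβ : 2 ≤ β.ncard := by
    have : 1 < β.ncard := by
      rw [Set.one_lt_ncard_iff]
      exact ⟨u, v, hu, hv, huv⟩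
    omega
  -- the key: an element of the four-group at `u` fixing all translates
  have key : ∃ t, t ∈ H ∧ t.support.card ≤ 4 ∧ t ≠ 1 ∧ ∀ g ∈ H, t • (g • β) = g • β := by
    have hsuppB : ∀ {p q r : α}, ∀ y, y ∉ ({u, b₁, c₁, d₁} : Finset α) →
        ({u, p, q, r} : Finset α) = {u, b₁, c₁, d₁} → dt u p q r y = y := by
      intro p q r y hy he
      rw [← he] at hy
      simp only [Finset.mem_insert, Finset.mem_singleton, not_or] at hy
      exact dt_of_ne hy.1 hy.2.1 hy.2.2.1 hy.2.2.2
    have e2 : ({u, c₁, b₁, d₁} : Finset α) = {u, b₁, c₁, d₁} := by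
      ext x; simp only [Finset.mem_insert, Finset.mem_singleton]; tauto
    have e3 : ({u, d₁, b₁, c₁} : Finset α) = {u, b₁, c₁, d₁} := by
      ext x; simp only [Finset.mem_insert, Finset.mem_singleton]; tauto
    by_cases hout : ∃ y ∈ β, y ∉ ({u, b₁, c₁, d₁} : Finset α)
    · -- the block sticks out of the four points
      obtain ⟨y, hyβ, hyB⟩ := hout
      have hfixβ : ∀ t ∈ H, (∀ y, y ∉ ({u, b₁, c₁, d₁} : Finset α) → t y = y) → t • β = β := by
        intro t ht hfix
        have := hT5 1 H.one_mem t ht y (by rw [hβ1]; exact hyβ)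
          (by rw [hβ1, hfix y hyB]; exact hyβ)
        rwa [hβ1] at this
      have hmem : ∀ t ∈ H, (∀ y, y ∉ ({u, b₁, c₁, d₁} : Finset α) → t y = y) → t u ∈ β := by
        intro t ht hfix
        have h1 := hfixβ t ht hfix
        rw [← h1]
        exact Set.smul_mem_smul_set (a := t) hu
      have hb₁ : b₁ ∈ β := by
        have := hmem _ W.m1 (fun y hy => hsuppB y hy rfl)
        rwa [dt_fst W.ac W.ad] at this
      have hc₁ : c₁ ∈ β := by
        have := hmem _ W.m2 (fun y hy => hsuppB y hy e2)
        rwa [dt_fst W.ab W.ad] at this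
      have hd₁ : d₁ ∈ β := by
        have := hmem _ W.m3 (fun y hy => hsuppB y hy e3)
        rwa [dt_fst W.ab W.ac] at this
      refine ⟨dt u b₁ c₁ d₁, W.m1, dt_support_card _ _ _ _, dt_ne_one W.ab W.ac W.ad, ?_⟩
      intro g hg
      rcases hblk g hg 1 H.one_mem with h | h
      · rw [h, hβ1]
        exact hfixβ _ W.m1 (fun y hy => hsuppB y hy rfl)
      · apply hfixset
        intro y hy
        apply hsuppB y _ rfl
        intro hyB
        rw [hβ1] at h
        refine Set.disjoint_left.mp h hy ?_
        simp only [Finset.mem_insert, Finset.mem_singleton] at hyB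
        rcases hyB with rfl | rfl | rfl | rfl
        · exact hu
        · exact hb₁
        · exact hc₁
        · exact hd₁
    · -- the block lies inside the four points
      push Not at hout
      have hvB := hout v hv
      simp only [Finset.mem_insert, Finset.mem_singleton] at hvB
      -- a general argument for an element `t` of the four-group with `t u = v`
      have main : ∀ t ∈ H, (∀ y, y ∉ ({u, b₁, c₁, d₁} : Finset α) → t y = y) → t u = v →
          ∀ g ∈ H, t • (g • β) = g • β := by
        intro t ht hfix htu g hg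
        have htβ : t • β = β := by
          have := hT5 1 H.one_mem t ht u (by rw [hβ1]; exact hu) (by rw [hβ1, htu]; exact hv)
          rwa [hβ1] at this
        rcases hblk g hg 1 H.one_mem with h | h
        · rw [h, hβ1]; exact htβ
        rw [hβ1] at h
        by_cases hout' : ∃ y ∈ g • β, y ∉ ({u, b₁, c₁, d₁} : Finset α)
        · obtain ⟨y, hy, hyB⟩ := hout'
          exact hT5 g hg t ht y hy (by rw [hfix y hyB]; exact hy)
        push Not at hout'
        by_contra hne
        -- three pairwise disjoint translates inside four points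
        have hd1 : Disjoint (t • (g • β)) (g • β) := by
          rw [smul_smul]
          rcases hblk (t * g) (H.mul_mem ht hg) g hg with h' | h'
          · rw [smul_smul] at hne; exact absurd h' hne
          · exact h'
        have hd2' : Disjoint (t • (g • β)) (t • β) := by
          rw [Set.disjoint_left] at h ⊢
          rintro x ⟨y, hy, rfl⟩ ⟨y', hy', hyy⟩
          have : y = y' := t.injective hyy.symm
          exact h hy (this ▸ hy')
        have hd2 : Disjoint (t • (g • β)) β := by
          rw [htβ] at hd2'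
          exact hd2'
        have hsub3 : (t • (g • β)) ∪ (g • β) ∪ β ⊆ (({u, b₁, c₁, d₁} : Finset α) : Set α) := by
          intro x hx
          rcases hx with (hx | hx) | hx
          · obtain ⟨y, hy, rfl⟩ := hx
            exact apply_mem_of_fix_compl t _ hfix (hout' y hy)
          · exact hout' x hx
          · exact hout x hx
        have hc1 : (t • (g • β)).ncard = β.ncard := by
          rw [Set.ncard_smul_set, Set.ncard_smul_set]
        have hc2 : (g • β).ncard = β.ncard := Set.ncard_smul_set _ _
        have hc3 : ((t • (g • β)) ∪ (g • β) ∪ β).ncard = β.ncard + β.ncard + β.ncard := by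
          rw [Set.ncard_union_eq, Set.ncard_union_eq hd1, hc1, hc2]
          rw [Set.disjoint_union_left]
          exact ⟨hd2, h⟩
        have hc4 := Set.ncard_le_ncard hsub3
        rw [hc3, Set.ncard_coe_finset] at hc4
        have := Finset.card_le_four (a := u) (b := b₁) (c := c₁) (d := d₁)
        omega
      rcases hvB with h | h | h | h
      · exact absurd h.symm huv
      · exact ⟨dt u b₁ c₁ d₁, W.m1, dt_support_card _ _ _ _, dt_ne_one W.ab W.ac W.ad,
          main _ W.m1 (fun y hy => hsuppB y hy rfl) (by rw [dt_fst W.ac W.ad, h])⟩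
      · exact ⟨dt u c₁ b₁ d₁, W.m2, dt_support_card _ _ _ _, dt_ne_one W.ac W.ab W.ad,
          main _ W.m2 (fun y hy => hsuppB y hy e2) (by rw [dt_fst W.ab W.ad, h])⟩
      · exact ⟨dt u d₁ b₁ c₁, W.m3, dt_support_card _ _ _ _, dt_ne_one W.ad W.ab W.ac,
          main _ W.m3 (fun y hy => hsuppB y hy e3) (by rw [dt_fst W.ab W.ac, h])⟩
  obtain ⟨t, htH, hcard, hne, hfixall⟩ := key
  -- the kernel of the action on the translates
  let N : Subgroup (Perm α) :=
    { carrier := {n | ∀ g ∈ H, n • (g • β) = g • β}
      mul_mem' := fun {x y} hx hy g hg => by rw [mul_smul, hy g hg, hx g hg]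
      one_mem' := fun g _ => one_smul _ _
      inv_mem' := fun {x} hx g hg => by rw [inv_smul_eq_iff, hx g hg] }
  have hNL : ∀ l ∈ L, ∀ n ∈ N, l * n * l⁻¹ ∈ N := by
    intro l hl n hn g hg
    have h1 := hn (l⁻¹ * g) (H.mul_mem (H.inv_mem (S.le hl)) hg)
    rw [mul_smul] at h1
    rw [mul_smul, mul_smul, h1, smul_smul, mul_inv_cancel, one_smul]
  have hLN := le_of_normalized S N hNL t hfixall htH (not_central_small S t htH hne hcard)
  intro y hy
  obtain ⟨l', hl', rfl⟩ := transitive_moved S V V' hdisj u y (hsub hu) hy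
  have h1 := hLN hl' 1 H.one_mem
  rw [hβ1] at h1
  rw [← h1]
  exact Set.smul_mem_smul_set (a := l') hu

end Cfsg.Agent.Lib.Helper20.Syl2Over
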