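import Mathlib
import Cfsg.Agent.Lib.Helper20.Syl2OverD
import Cfsg.Agent.S3707

/-!
Overgroups of a Sylow 2-subgroup of the alternating group with quasisimple generalized Fitting
subgroup (helper20), part E: `H` is primitive, hence (Marggraf) triply transitive, on the set
of points moved by `L`.
-/

set_option autoImplicit false

namespace Cfsg.Agent.Lib.Helper20.Syl2Over

open Equiv Equiv.Perm Subgroup MulAction
open scoped Pointwise

variable {α : Type*} [Fintype α] [DecidableEq α] {H L : Subgroup (Perm α)}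

/-- the moved points with the action of `H` -/
def movedSub (S : Setup H L) : SubMulAction ↥H α where
  carrier := moved L
  smul_mem' := fun h _ hx => moved_smul S h.2 hx

omit [Fintype α] in
theorem card_four {a b c d : α} (hab : a ≠ b) (hac : a ≠ c) (had : a ≠ d) (hbc : b ≠ c)
    (hbd : b ≠ d) (hcd : c ≠ d) : ({a, b, c, d} : Finset α).card = 4 := by
  rw [Finset.card_insert_of_notMem, Finset.card_insert_of_notMem, Finset.card_insert_of_notMem,
    Finset.card_singleton]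
  · simpa using hcd
  · simp [hbc, hbd]
  · simp [hab, hac, had]

/-- at least eight points are moved -/
theorem eight_le_ncard_moved (S : Setup H L) {a b c d a' b' c' d' : α} (V : HasV4 H a b c d)
    (V' : HasV4 H a' b' c' d')
    (hdisj : ∀ x, (x = a ∨ x = b ∨ x = c ∨ x = d) → ¬ (x = a' ∨ x = b' ∨ x = c' ∨ x = d')) :
    8 ≤ (moved L).ncard := by
  obtain ⟨h1, h2, h3, h4⟩ := support_subset_moved S V V' hdisj
  obtain ⟨h5, h6, h7, h8⟩ := support_subset_moved S V' V (fun x hx hx' => hdisj x hx' hx)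
  have hsub : ((({a, b, c, d} : Finset α) ∪ {a', b', c', d'} : Finset α) : Set α) ⊆ moved L := by
    intro x hx
    simp only [Finset.coe_union, Finset.coe_insert, Finset.coe_singleton, Set.mem_union,
      Set.mem_insert_iff, Set.mem_singleton_iff] at hx
    rcases hx with (rfl | rfl | rfl | rfl) | (rfl | rfl | rfl | rfl) <;> assumption
  have hcard := Set.ncard_le_ncard hsub
  rw [Set.ncard_coe_finset, Finset.card_union_of_disjoint, card_four V.ab V.ac V.ad V.bc V.bd V.cd,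
    card_four V'.ab V'.ac V'.ad V'.bc V'.bd V'.cd] at hcard
  · exact hcard
  · rw [Finset.disjoint_left]
    intro x hx hx'
    simp only [Finset.mem_insert, Finset.mem_singleton] at hx hx'
    exact hdisj x hx hx'

theorem emb3_injective {Ω : Type*} (x y z : Ω) (hxy : x ≠ y) (hxz : x ≠ z) (hyz : y ≠ z) :
    Function.Injective (![x, y, z] : Fin 3 → Ω) := by
  intro i j h
  fin_cases i <;> fin_cases j <;> simp_all

/-- `H` is triply transitive on the moved points -/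
theorem three_transitive (S : Setup H L) {a b c d a' b' c' d' : α} (V : HasV4 H a b c d)
    (V' : HasV4 H a' b' c' d')
    (hdisj : ∀ x, (x = a ∨ x = b ∨ x = c ∨ x = d) → ¬ (x = a' ∨ x = b' ∨ x = c' ∨ x = d'))
    (x₁ x₂ x₃ y₁ y₂ y₃ : α) (hx₁ : x₁ ∈ moved L) (hx₂ : x₂ ∈ moved L) (hx₃ : x₃ ∈ moved L)
    (hy₁ : y₁ ∈ moved L) (hy₂ : y₂ ∈ moved L) (hy₃ : y₃ ∈ moved L)
    (hx₁₂ : x₁ ≠ x₂) (hx₁₃ : x₁ ≠ x₃) (hx₂₃ : x₂ ≠ x₃)
    (hy₁₂ : y₁ ≠ y₂) (hy₁₃ : y₁ ≠ y₃) (hy₂₃ : y₂ ≠ y₃) :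
    ∃ h ∈ H, h x₁ = y₁ ∧ h x₂ = y₂ ∧ h x₃ = y₃ := by
  classical
  obtain ⟨ha, hb, hc, hd⟩ := support_subset_moved S V V' hdisj
  have hfaith : FaithfulSMul ↥H ↥(movedSub S) := by
    refine ⟨fun {g₁ g₂} h => ?_⟩
    have h1 : (g₂⁻¹ * g₁ : ↥H).1 = 1 := by
      apply eq_one_of_fix_moved S _ (g₂⁻¹ * g₁ : ↥H).2
      intro x hx
      have h2 := congrArg Subtype.val (h ⟨x, hx⟩)
      have h3 : (g₁ : Perm α) x = (g₂ : Perm α) x := h2
      rw [Subgroup.coe_mul, Subgroup.coe_inv, Perm.mul_apply, h3, perm_inv_apply]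
    have h4 : g₂⁻¹ * g₁ = 1 := Subtype.ext h1
    exact (inv_mul_eq_one.mp h4).symm
  have htrans : IsPretransitive ↥H ↥(movedSub S) := by
    refine ⟨fun x y => ?_⟩
    obtain ⟨l, hl, hlx⟩ := transitive_moved S V V' hdisj x.1 y.1 x.2 y.2
    exact ⟨⟨l, S.le hl⟩, Subtype.ext hlx⟩
  have hprim : IsPreprimitive ↥H ↥(movedSub S) := by
    refine ⟨fun {B} hB => ?_⟩
    by_cases hsub : B.Subsingleton
    · exact Or.inl hsub
    right
    rw [Set.not_subsingleton_iff] at hsub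
    obtain ⟨u, hu, v, hv, huv⟩ := hsub
    have hβ : IsBlock ↥H (Subtype.val '' B : Set α) := isBlock_subtypeVal.mpr hB
    have hblk : ∀ g₁ ∈ H, ∀ g₂ ∈ H,
        g₁ • (Subtype.val '' B : Set α) = g₂ • (Subtype.val '' B : Set α) ∨
        Disjoint (g₁ • (Subtype.val '' B : Set α)) (g₂ • (Subtype.val '' B : Set α)) :=
      fun g₁ h₁ g₂ h₂ => isBlock_iff_smul_eq_smul_or_disjoint.mp hβ ⟨g₁, h₁⟩ ⟨g₂, h₂⟩
    have hall := block_eq S V V' hdisj (Subtype.val '' B : Set α) hblk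
      (by rintro _ ⟨w, -, rfl⟩; exact w.2) u.1 v.1 ⟨u, hu, rfl⟩ ⟨v, hv, rfl⟩
      (fun e => huv (Subtype.ext e))
    rw [Set.eq_univ_iff_forall]
    intro w
    obtain ⟨w', hw', hww⟩ := hall w.2
    rwa [Subtype.ext hww] at hw'
  -- the Jordan set
  let Γ : Set ↥(movedSub S) := {w | w.1 = a ∨ w.1 = b ∨ w.1 = c ∨ w.1 = d}
  have hΓ : Γ.ncard = 4 := by
    have e : Γ = ((({⟨a, ha⟩, ⟨b, hb⟩, ⟨c, hc⟩, ⟨d, hd⟩} : Finset ↥(movedSub S))) : Set _) := by
      ext w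
      simp only [Γ, Set.mem_ofPred_eq, Finset.coe_insert, Finset.coe_singleton,
        Set.mem_insert_iff, Set.mem_singleton_iff, Subtype.ext_iff]
    rw [e, Set.ncard_coe_finset]
    apply card_four <;> simp [Subtype.ext_iff, V.ab, V.ac, V.ad, V.bc, V.bd, V.cd]
  have hcardΩ : 8 ≤ Nat.card ↥(movedSub S) := by
    have h1 := eight_le_ncard_moved S V V' hdisj
    have h2 : Nat.card ↥(movedSub S) = (moved L).ncard := Nat.card_coe_set_eq (moved L)
    omega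
  have htr : ∀ x ∈ Γ, ∀ y ∈ Γ, ∃ g : ↥H, (∀ z ∉ Γ, g • z = z) ∧ g • x = y := by
    intro x hx y hy
    obtain ⟨t₁, ht₁, h1, hf1⟩ := V.exists_to_fst x.1 hx
    obtain ⟨t₂, ht₂, h2, hf2⟩ := V.exists_to_fst y.1 hy
    refine ⟨⟨t₂⁻¹ * t₁, H.mul_mem (H.inv_mem ht₂) ht₁⟩, ?_, ?_⟩
    · intro z hz
      simp only [Γ, Set.mem_ofPred_eq, not_or] at hz
      apply Subtype.ext
      show (t₂⁻¹ * t₁) z.1 = z.1
      rw [Perm.mul_apply, hf1 z.1 hz.1 hz.2.1 hz.2.2.1 hz.2.2.2, Perm.inv_eq_iff_eq,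
        hf2 z.1 hz.1 hz.2.1 hz.2.2.1 hz.2.2.2]
    · apply Subtype.ext
      show (t₂⁻¹ * t₁) x.1 = y.1
      rw [Perm.mul_apply, h1, Perm.inv_eq_iff_eq, h2]
  have h3 : IsMultiplyPretransitive ↥H ↥(movedSub S) 3 :=
    Cfsg.Agent.S3707.result hprim Γ (by omega) (by omega) htr
  let e₁ : Fin 3 ↪ ↥(movedSub S) := ⟨![⟨x₁, hx₁⟩, ⟨x₂, hx₂⟩, ⟨x₃, hx₃⟩],
    emb3_injective _ _ _ (fun e => hx₁₂ (congrArg Subtype.val e))
      (fun e => hx₁₃ (congrArg Subtype.val e)) (fun e => hx₂₃ (congrArg Subtype.val e))⟩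
  let e₂ : Fin 3 ↪ ↥(movedSub S) := ⟨![⟨y₁, hy₁⟩, ⟨y₂, hy₂⟩, ⟨y₃, hy₃⟩],
    emb3_injective _ _ _ (fun e => hy₁₂ (congrArg Subtype.val e))
      (fun e => hy₁₃ (congrArg Subtype.val e)) (fun e => hy₂₃ (congrArg Subtype.val e))⟩
  obtain ⟨g, hg⟩ := h3.exists_smul_eq e₁ e₂
  refine ⟨g.1, g.2, ?_, ?_, ?_⟩
  · have := congrArg (fun f : Fin 3 ↪ ↥(movedSub S) => (f 0).1) hg
    exact this
  · have := congrArg (fun f : Fin 3 ↪ ↥(movedSub S) => (f 1).1) hg
    exact this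
  · have := congrArg (fun f : Fin 3 ↪ ↥(movedSub S) => (f 2).1) hg
    exact this

end Cfsg.Agent.Lib.Helper20.Syl2Over
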