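import Mathlib
import Cfsg.Agent.Lib.Helper20.Syl2OverE

/-!
Overgroups of a Sylow 2-subgroup of the alternating group with quasisimple generalized Fitting
subgroup (helper20), part F: a group acting triply transitively on at least nine points and
containing a double transposition contains a three-cycle.
-/

set_option autoImplicit false

namespace Cfsg.Agent.Lib.Helper20.Syl2Over

open Equiv Equiv.Perm Subgroup

variable {α : Type*} [Fintype α] [DecidableEq α]

omit [Fintype α] in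
theorem dt_mul_dt_shared {p q x y z : α} (hpx : p ≠ x) (hpy : p ≠ y) (hqx : q ≠ x) (hqy : q ≠ y) :
    dt p q x y * dt p q y z = swap x y * swap y z := by
  unfold dt
  have hc : swap p q * swap x y = swap x y * swap p q := by
    by_cases hpq : p = q
    · subst hpq; rw [swap_self]; rfl
    by_cases hxy : x = y
    · subst hxy; rw [swap_self]; rfl
    exact (Perm.disjoint_swap_swap (by simp [hpq, hpx, hpy, hqx, hqy, hxy])).commute.eq
  calc swap p q * swap x y * (swap p q * swap y z)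
      = (swap p q * swap x y) * swap p q * swap y z := by group
    _ = swap x y * (swap p q * swap p q) * swap y z := by rw [hc]; group
    _ = swap x y * swap y z := by rw [swap_mul_self, mul_one]

omit [Fintype α] in
theorem dt_mul_dt_tail {p q r x y : α} (hpx : p ≠ x) (hpy : p ≠ y) (hrx : r ≠ x) (hry : r ≠ y) :
    dt q p x y * dt p r x y = swap q p * swap p r := by
  unfold dt
  have hc : swap x y * swap p r = swap p r * swap x y := by
    by_cases hxy : x = y
    · subst hxy; rw [swap_self]; rfl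
    by_cases hpr : p = r
    · subst hpr; rw [swap_self]; rfl
    exact (Perm.disjoint_swap_swap (by
      simp [hxy, hpr, hpx.symm, hpy.symm, hrx.symm, hry.symm])).commute.eq
  calc swap q p * swap x y * (swap p r * swap x y)
      = swap q p * (swap x y * swap p r) * swap x y := by group
    _ = swap q p * swap p r * (swap x y * swap x y) := by rw [hc]; group
    _ = swap q p * swap p r := by rw [swap_mul_self, mul_one]

theorem isThreeCycle_chain {x y z : α} (hxy : x ≠ y) (hxz : x ≠ z) (hyz : y ≠ z) :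
    (swap x y * swap y z).IsThreeCycle := by
  rw [swap_comm x y]
  exact isThreeCycle_swap_mul_swap_same hxy.symm hyz hxz

/-- triple transitivity and a double transposition on at least nine points give a three-cycle -/
theorem exists_threeCycle (H : Subgroup (Perm α)) (Δ : Set α)
    (hT3 : ∀ x₁ x₂ x₃ y₁ y₂ y₃ : α, x₁ ∈ Δ → x₂ ∈ Δ → x₃ ∈ Δ → y₁ ∈ Δ → y₂ ∈ Δ → y₃ ∈ Δ →
      x₁ ≠ x₂ → x₁ ≠ x₃ → x₂ ≠ x₃ → y₁ ≠ y₂ → y₁ ≠ y₃ → y₂ ≠ y₃ →
      ∃ h ∈ H, h x₁ = y₁ ∧ h x₂ = y₂ ∧ h x₃ = y₃)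
    {a b c d : α} (ha : a ∈ Δ) (hb : b ∈ Δ) (hc : c ∈ Δ) (hd : d ∈ Δ)
    (hab : a ≠ b) (hac : a ≠ c) (had : a ≠ d) (hbc : b ≠ c) (hbd : b ≠ d) (hcd : c ≠ d)
    (ht : dt a b c d ∈ H) (h9 : 9 ≤ Δ.ncard) : ∃ k ∈ H, k.IsThreeCycle := by
  classical
  -- a point `e` outside the support
  obtain ⟨e, heΔ, heB⟩ := Set.exists_mem_notMem_of_ncard_lt_ncard
    (s := (({a, b, c, d} : Finset α) : Set α)) (t := Δ) (by
      rw [Set.ncard_coe_finset]
      exact lt_of_le_of_lt Finset.card_le_four (by omega))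
  simp only [Finset.coe_insert, Finset.coe_singleton, Set.mem_insert_iff,
    Set.mem_singleton_iff, not_or] at heB
  obtain ⟨hea, heb, hec, hed⟩ := heB
  -- conjugates `(a e)(z w_z)` for `z ∈ {b, c, d}`
  have hconj : ∀ z ∈ Δ, z ≠ a → z ≠ e → ∃ w, w ≠ a ∧ w ≠ e ∧ w ≠ z ∧ dt a e z w ∈ H := by
    intro z hz hza hze
    obtain ⟨g, hg, h1, h2, h3⟩ := hT3 a b c a e z ha hb hc ha heΔ hz hab hac hbc
      (Ne.symm hea) (Ne.symm hza) (Ne.symm hze)
    refine ⟨g d, ?_, ?_, ?_, ?_⟩
    · rw [← h1]; exact g.injective.ne (Ne.symm had)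
    · rw [← h2]; exact g.injective.ne (Ne.symm hbd)
    · rw [← h3]; exact g.injective.ne (Ne.symm hcd)
    · have := H.mul_mem (H.mul_mem hg ht) (H.inv_mem hg)
      rwa [dt_conj, h1, h2, h3] at this
  obtain ⟨wb, hwba, hwbe, hwbb, hub⟩ := hconj b hb (Ne.symm hab) (Ne.symm heb)
  obtain ⟨wc, hwca, hwce, hwcc, huc⟩ := hconj c hc (Ne.symm hac) (Ne.symm hec)
  obtain ⟨wd, hwda, hwde, hwdd, hud⟩ := hconj d hd (Ne.symm had) (Ne.symm hed)
  -- a point `f` avoiding eight points
  obtain ⟨f, hfΔ, hfB⟩ := Set.exists_mem_notMem_of_ncard_lt_ncard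
    (s := (({a, b, c, d} ∪ {e, wb, wc, wd} : Finset α) : Set α)) (t := Δ) (by
      rw [Set.ncard_coe_finset]
      refine lt_of_le_of_lt (Finset.card_union_le _ _) ?_
      have h1 := Finset.card_le_four (a := a) (b := b) (c := c) (d := d)
      have h2 := Finset.card_le_four (a := e) (b := wb) (c := wc) (d := wd)
      omega)
  simp only [Finset.coe_union, Finset.coe_insert, Finset.coe_singleton, Set.mem_union,
    Set.mem_insert_iff, Set.mem_singleton_iff, not_or] at hfB
  obtain ⟨⟨hfa, hfb, hfc, hfd⟩, hfe, hfwb, hfwc, hfwd⟩ := hfB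
  obtain ⟨w, hwa, hwe, hwf, hu⟩ := hconj f hfΔ hfa hfe
  -- the case analysis on `w`
  have hcase : ∀ z wz : α, w = z → z ≠ a → z ≠ e → f ≠ z → wz ≠ a → wz ≠ e → wz ≠ z → f ≠ wz →
      dt a e z wz ∈ H → ∃ k ∈ H, k.IsThreeCycle := by
    intro z wz hwz hza hze hfz hwza hwze hwzz hfwz huz
    subst hwz
    refine ⟨dt a e f w * dt a e w wz, H.mul_mem hu huz, ?_⟩
    rw [dt_mul_dt_shared (Ne.symm hfa) (Ne.symm hza) (Ne.symm hfe) (Ne.symm hze)]
    exact isThreeCycle_chain hfz hfwz (Ne.symm hwzz)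
  by_cases hwb : w = b
  · exact hcase b wb hwb (Ne.symm hab) (Ne.symm heb) hfb hwba hwbe hwbb hfwb hub
  by_cases hwc : w = c
  · exact hcase c wc hwc (Ne.symm hac) (Ne.symm hec) hfc hwca hwce hwcc hfwc huc
  by_cases hwd : w = d
  · exact hcase d wd hwd (Ne.symm had) (Ne.symm hed) hfd hwda hwde hwdd hfwd hud
  -- `w` outside the support of `t`
  have hconj2 : dt b e f w ∈ H := by
    have := H.mul_mem (H.mul_mem ht hu) (H.inv_mem ht)
    rwa [dt_conj, dt_fst hac had, dt_of_ne hea heb hec hed, dt_of_ne hfa hfb hfc hfd,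
      dt_of_ne hwa hwb hwc hwd] at this
  refine ⟨dt a e f w * dt e b f w, H.mul_mem hu ?_, ?_⟩
  · rw [dt, swap_comm e b]; exact hconj2
  · rw [dt_mul_dt_tail (Ne.symm hfe) (Ne.symm hwe) (Ne.symm hfb) (Ne.symm hwb)]
    exact isThreeCycle_chain (Ne.symm hea) hab heb

end Cfsg.Agent.Lib.Helper20.Syl2Over
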