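import Mathlib
import Cfsg.Agent.Lib.Helper20.Syl2OverF

/-!
Overgroups of a Sylow 2-subgroup of the alternating group with quasisimple generalized Fitting
subgroup (helper20), part G: `H` is doubly transitive on the moved points, hence the centre of
`L` is trivial.
-/

set_option autoImplicit false

namespace Cfsg.Agent.Lib.Helper20.Syl2Over

open Equiv Equiv.Perm Subgroup

variable {α : Type*} [Fintype α] [DecidableEq α] {H L : Subgroup (Perm α)}

omit [Fintype α] in
/-- a third point -/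
theorem exists_third (Δ : Set α) (h3 : 3 ≤ Δ.ncard) (x y : α) :
    ∃ w ∈ Δ, w ≠ x ∧ w ≠ y := by
  classical
  obtain ⟨w, hw, hwB⟩ := Set.exists_mem_notMem_of_ncard_lt_ncard
    (s := (({x, y} : Finset α) : Set α)) (t := Δ) (by
      rw [Set.ncard_coe_finset]
      exact lt_of_le_of_lt Finset.card_le_two (by omega))
  simp only [Finset.coe_insert, Finset.coe_singleton, Set.mem_insert_iff,
    Set.mem_singleton_iff, not_or] at hwB
  exact ⟨w, hw, hwB.1, hwB.2⟩

/-- `H` is doubly transitive on the moved points -/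
theorem two_transitive (S : Setup H L) {a b c d a' b' c' d' : α} (V : HasV4 H a b c d)
    (V' : HasV4 H a' b' c' d')
    (hdisj : ∀ x, (x = a ∨ x = b ∨ x = c ∨ x = d) → ¬ (x = a' ∨ x = b' ∨ x = c' ∨ x = d'))
    (x y u v : α) (hx : x ∈ moved L) (hy : y ∈ moved L) (hu : u ∈ moved L) (hv : v ∈ moved L)
    (hxy : x ≠ y) (huv : u ≠ v) : ∃ h ∈ H, h x = u ∧ h y = v := by
  have h8 := eight_le_ncard_moved S V V' hdisj
  obtain ⟨w, hw, hwx, hwy⟩ := exists_third (moved L) (by omega) x y
  obtain ⟨w', hw', hwu, hwv⟩ := exists_third (moved L) (by omega) u v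
  obtain ⟨h, hh, h1, h2, -⟩ := three_transitive S V V' hdisj x y w u v w' hx hy hw hu hv hw'
    hxy (Ne.symm hwx) (Ne.symm hwy) huv (Ne.symm hwu) (Ne.symm hwv)
  exact ⟨h, hh, h1, h2⟩

/-- the centre of `L` is trivial -/
theorem center_trivial (S : Setup H L) {a b c d a' b' c' d' : α} (V : HasV4 H a b c d)
    (V' : HasV4 H a' b' c' d')
    (hdisj : ∀ x, (x = a ∨ x = b ∨ x = c ∨ x = d) → ¬ (x = a' ∨ x = b' ∨ x = c' ∨ x = d'))
    (z : Perm α) (hzL : z ∈ L) (hzc : ∀ l ∈ L, z * l = l * z) : z = 1 := by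
  by_contra hz1
  obtain ⟨x, hzx⟩ : ∃ x, z x ≠ x := by
    by_contra h
    push Not at h
    exact hz1 (Equiv.ext h)
  have hx : x ∈ moved L := ⟨z, hzL, hzx⟩
  have hy : z x ∈ moved L := moved_smul S (S.le hzL) hx
  -- conjugates of `z` are central
  have hconj : ∀ h ∈ H, h * z * h⁻¹ ∈ L ∧ ∀ l ∈ L, (h * z * h⁻¹) * l = l * (h * z * h⁻¹) := by
    intro h hh
    refine ⟨S.norm h hh z hzL, fun l hl => ?_⟩
    have h1 := hzc _ (S.norm' hh hl)
    calc h * z * h⁻¹ * l = h * (z * (h⁻¹ * l * h)) * h⁻¹ := by group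
      _ = h * ((h⁻¹ * l * h) * z) * h⁻¹ := by rw [h1]
      _ = l * (h * z * h⁻¹) := by group
  -- the centre is transitive on the moved points
  have htrans : ∀ u ∈ moved L, ∃ z' ∈ L, (∀ l ∈ L, z' * l = l * z') ∧ z' x = u := by
    intro u hu
    by_cases hux : u = x
    · exact ⟨1, L.one_mem, fun l _ => by rw [one_mul, mul_one], by rw [hux]; rfl⟩
    · obtain ⟨h, hh, h1, h2⟩ := two_transitive S V V' hdisj (z x) x u x hy hx hu hx hzx hux
      refine ⟨h * z * h⁻¹, (hconj h hh).1, (hconj h hh).2, ?_⟩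
      rw [Perm.mul_apply, Perm.mul_apply]
      have : h⁻¹ x = x := by rw [Perm.inv_eq_iff_eq, h2]
      rw [this, h1]
  -- `L` is commutative
  have hcomm : ∀ l ∈ L, ∀ l' ∈ L, l * l' = l' * l := by
    intro l hl l' hl'
    obtain ⟨z', hz'L, hz'c, hz'x⟩ := htrans (l x) (moved_smul S (S.le hl) hx)
    have hg : z'⁻¹ * l = 1 := by
      ext u
      rw [Perm.mul_apply, Perm.one_apply]
      by_cases hu : u ∈ moved L
      · obtain ⟨z'', hz''L, hz''c, rfl⟩ := htrans u hu
        have e1 : l (z'' x) = z'' (l x) := by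
          have := congrArg (fun f : Perm α => f x) (hz''c l hl)
          simpa [Perm.mul_apply] using this.symm
        have e2 : z'⁻¹ (z'' (z' x)) = z'' x := by
          have := congrArg (fun f : Perm α => f x) (hz''c z' hz'L)
          simp only [Perm.mul_apply] at this
          rw [this, perm_inv_apply]
        rw [e1, ← hz'x, e2]
      · rw [not_mem_moved hu hl, Perm.inv_eq_iff_eq, not_mem_moved hu hz'L]
    have hlz : l = z' := by
      have := congrArg (fun f : Perm α => z' * f) hg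
      simpa [mul_assoc] using this
    rw [hlz]
    exact hz'c l' hl'
  have hbot : ⁅L, L⁆ = ⊥ := by
    rw [Subgroup.commutator_eq_bot_iff_le_centralizer]
    intro l hl
    rw [Subgroup.mem_centralizer_iff]
    intro l' hl'
    exact hcomm l' hl' l hl
  have hL : L = ⊥ := by rw [← S.perf, hbot]
  rw [hL, Subgroup.mem_bot] at hzL
  exact hz1 hzL

end Cfsg.Agent.Lib.Helper20.Syl2Over
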