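import Mathlib
import Cfsg.Agent.Lib.Helper20.A8SubM
import Cfsg.Agent.Lib.Helper20.A8SubF
import Cfsg.Agent.Lib.Helper26.EmbA8

/-!
Overgroups of a Sylow 2-subgroup of the alternating group with quasisimple generalized Fitting
subgroup (helper20), part H: a group of even permutations of eight points, without solvable
normal subgroups and of order divisible by 32, is the alternating group.
-/

set_option autoImplicit false

namespace Cfsg.Agent.Lib.Helper20.Syl2Over

open Equiv Equiv.Perm Subgroup Matrix
open Cfsg.Agent.Lib.Helper20.A8Sub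

theorem card_GL4 : Nat.card (GL (Fin 4) (ZMod 2)) = 20160 := by
  rw [Matrix.card_GL_field, ZMod.card]
  decide

theorem card_alt8 : Nat.card (alternatingGroup (Fin 8)) = 20160 := by
  have h := card_alt 8 (by norm_num)
  have : Nat.factorial 8 = 40320 := by decide
  omega

/-- the isomorphism `GL₄(2) ≃ A₈` -/
theorem exists_gl_equiv : Nonempty (GL (Fin 4) (ZMod 2) ≃* alternatingGroup (Fin 8)) := by
  obtain ⟨f, hf⟩ := Cfsg.Agent.Lib.Helper26.EmbA8.exists_gl_embed
  have hbij : Function.Bijective f :=
    hf.bijective_of_nat_card_le (by rw [card_GL4, card_alt8])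
  exact ⟨MulEquiv.ofBijective f hbij⟩

/-- a group of even permutations of eight points has no simple subgroup of order `1344` -/
theorem no_simple_1344 {G : Type*} [Group G] (φ : G →* Perm (Fin 8)) (hφ : Function.Injective φ)
    (heven : ∀ g, Perm.sign (φ g) = 1) (K : Subgroup G) (hK : Nat.card K = 1344) :
    ¬ IsSimpleGroup K := by
  intro hsimple
  obtain ⟨fe⟩ := exists_gl_equiv
  let φA : G →* alternatingGroup (Fin 8) :=
    φ.codRestrict (alternatingGroup (Fin 8)) (fun g => Perm.mem_alternatingGroup.mpr (heven g))
  have hφA : Function.Injective φA := by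
    intro x y hxy
    exact hφ (congrArg Subtype.val hxy)
  let ψ : G →* GL (Fin 4) (ZMod 2) := fe.symm.toMonoidHom.comp φA
  have hψ : Function.Injective ψ := fe.symm.injective.comp hφA
  have e : K ≃* K.map ψ := K.equivMapOfInjective ψ hψ
  have : Nontrivial (K.map ψ) := e.symm.toEquiv.nontrivial
  have hs2 : IsSimpleGroup (K.map ψ) :=
    IsSimpleGroup.isSimpleGroup_of_surjective e.toMonoidHom e.surjective
  refine not_simple_of_card_1344 (K.map ψ) ?_ hs2
  rw [← Nat.card_congr e.toEquiv, hK]

theorem card_alt5 : Nat.card (alternatingGroup (Fin 5)) = 60 := by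
  have h := card_alt 5 (by norm_num)
  have : Nat.factorial 5 = 120 := by decide
  omega

theorem card_alt6 : Nat.card (alternatingGroup (Fin 6)) = 360 := by
  have h := card_alt 6 (by norm_num)
  have : Nat.factorial 6 = 720 := by decide
  omega

theorem card_alt7 : Nat.card (alternatingGroup (Fin 7)) = 2520 := by
  have h := card_alt 7 (by norm_num)
  have : Nat.factorial 7 = 5040 := by decide
  omega

universe u

/-- the image is the alternating group -/
theorem range_eq_alt {G : Type u} [Group G] [Finite G] [Nontrivial G] (φ : G →* Perm (Fin 8))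
    (hφ : Function.Injective φ) (heven : ∀ g, Perm.sign (φ g) = 1)
    (hsol : ∀ N : Subgroup G, N.Normal → Group.IsSolvable N → N = ⊥)
    (h32 : 32 ∣ Nat.card G) : φ.range = alternatingGroup (Fin 8) := by
  have hle : φ.range ≤ alternatingGroup (Fin 8) := by
    rintro _ ⟨g, rfl⟩
    exact Perm.mem_alternatingGroup.mpr (heven g)
  have hcard : Nat.card G = 20160 := by
    rcases main φ hφ heven hsol (fun K hK => no_simple_1344 φ hφ heven K hK) with
      ⟨k, hk5, hk8, ⟨e⟩⟩ | ⟨⟨e⟩⟩ | ⟨⟨e⟩⟩ | ⟨⟨e⟩⟩
    · rw [Nat.card_congr e.toEquiv] at h32 ⊢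
      interval_cases k
      · rw [card_alt5] at h32; omega
      · rw [card_alt6] at h32; omega
      · rw [card_alt7] at h32; omega
      · exact card_alt8
    · rw [Nat.card_congr e.toEquiv, Nat.card_perm, Nat.card_fin] at h32
      have : Nat.factorial 5 = 120 := by decide
      omega
    · rw [Nat.card_congr e.toEquiv, Nat.card_perm, Nat.card_fin] at h32
      have : Nat.factorial 6 = 720 := by decide
      omega
    · rw [Nat.card_congr e.toEquiv, card_GL3] at h32
      omega
  apply Subgroup.eq_of_le_of_card_ge hle
  rw [card_alt8, ← hcard]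
  exact le_of_eq (Nat.card_congr (MonoidHom.ofInjective hφ).toEquiv)

end Cfsg.Agent.Lib.Helper20.Syl2Over
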