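import Mathlib
import Cfsg.Agent.Lib.Helper20.Syl2OverH

/-!
Overgroups of a Sylow 2-subgroup of the alternating group with quasisimple generalized Fitting
subgroup (helper20), part I: a group of permutations of eight points, of order divisible by 64,
with a perfect self-centralizing normal subgroup `Lg` without solvable normal subgroups: `Lg`
induces the alternating group.
-/

set_option autoImplicit false

namespace Cfsg.Agent.Lib.Helper20.Syl2Over

open Equiv Equiv.Perm Subgroup

universe u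

theorem alt_le_map {G : Type u} [Group G] [Finite G] (φ : G →* Perm (Fin 8))
    (hφ : Function.Injective φ) (h64 : 64 ∣ Nat.card G) (Lg : Subgroup G) (hLn : Lg.Normal)
    (hLnt : Lg ≠ ⊥) (hperf : ⁅Lg, Lg⁆ = Lg)
    (hq : ∀ N : Subgroup G, N ≤ Lg → (∀ l ∈ Lg, ∀ n ∈ N, l * n * l⁻¹ ∈ N) →
      Group.IsSolvable N → N = ⊥)
    (hcent : ∀ g, (∀ l ∈ Lg, g * l = l * g) → g ∈ Lg) :
    alternatingGroup (Fin 8) ≤ Lg.map φ := by
  classical
  set Gp : Subgroup G := (alternatingGroup (Fin 8)).comap φ with hGp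
  have hidx : Gp.index ∣ 2 := by
    rw [hGp, index_comap, ← alternatingGroup.index_eq_two (α := Fin 8)]
    exact relIndex_dvd_index_of_normal _ _
  have h32 : 32 ∣ Nat.card Gp := by
    have h1 := Subgroup.card_mul_index Gp
    rcases (Nat.dvd_prime Nat.prime_two).mp hidx with h | h
    · rw [h, mul_one] at h1
      rw [h1]
      exact Dvd.dvd.trans (by norm_num) h64
    · rw [h] at h1
      rw [← h1] at h64
      omega
  -- `Lg` consists of even permutations
  have hLG : Lg ≤ Gp := by
    intro l hl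
    have hP : Group.IsPerfect ↥Lg := Subgroup.isPerfect_iff.mpr hperf
    let χ : ↥Lg →* ℤˣ := (Perm.sign.comp φ).comp Lg.subtype
    have h1 : (⟨l, hl⟩ : ↥Lg) ∈ χ.ker :=
      Abelianization.commutator_subset_ker χ Group.IsPerfect.mem_commutator
    rw [hGp, mem_comap, Perm.mem_alternatingGroup]
    exact h1
  let φp : ↥Gp →* Perm (Fin 8) := φ.comp Gp.subtype
  have hφp : Function.Injective φp := hφ.comp Gp.subtype_injective
  have hevenp : ∀ g : ↥Gp, Perm.sign (φp g) = 1 := fun g => Perm.mem_alternatingGroup.mp g.2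
  have hnt : Nontrivial ↥Gp := by
    obtain ⟨l, hl1⟩ := (Subgroup.ne_bot_iff_exists_ne_one).mp hLnt
    refine ⟨⟨⟨l.1, hLG l.2⟩, 1, fun h => hl1 ?_⟩⟩
    apply Subtype.ext
    have h2 : ((⟨l.1, hLG l.2⟩ : ↥Gp) : G) = ((1 : ↥Gp) : G) := congrArg Subtype.val h
    exact h2
  have hsol : ∀ N : Subgroup ↥Gp, N.Normal → Group.IsSolvable N → N = ⊥ := by
    intro N hN hNs
    set N' : Subgroup G := N.map Gp.subtype with hN'
    have hN's : Group.IsSolvable ↥N' :=
      Group.isSolvable_of_surjective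
        (f := (N.equivMapOfInjective Gp.subtype Gp.subtype_injective).toMonoidHom)
        (N.equivMapOfInjective Gp.subtype Gp.subtype_injective).surjective
    have hnormN' : ∀ l ∈ Lg, ∀ n ∈ N', l * n * l⁻¹ ∈ N' := by
      rintro l hl _ ⟨n0, hn0, rfl⟩
      exact ⟨⟨l, hLG hl⟩ * n0 * ⟨l, hLG hl⟩⁻¹, hN.conj_mem n0 hn0 _, rfl⟩
    have hM : N' ⊓ Lg = ⊥ := by
      apply hq _ inf_le_right
      · intro l hl n hn
        exact ⟨hnormN' l hl n hn.1, Lg.mul_mem (Lg.mul_mem hl hn.2) (Lg.inv_mem hl)⟩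
      · exact Group.isSolvable_of_isSolvable_injective
          (f := Subgroup.inclusion (inf_le_left : N' ⊓ Lg ≤ N'))
          (Subgroup.inclusion_injective (inf_le_left : N' ⊓ Lg ≤ N'))
    have hcomm : ∀ n ∈ N', ∀ l ∈ Lg, n * l = l * n := by
      intro n hn l hl
      have hc : n * l * n⁻¹ * l⁻¹ ∈ N' ⊓ Lg := by
        constructor
        · have e : n * l * n⁻¹ * l⁻¹ = n * (l * n⁻¹ * l⁻¹) := by group
          rw [e]
          exact N'.mul_mem hn (hnormN' l hl _ (N'.inv_mem hn))
        · exact Lg.mul_mem (hLn.conj_mem l hl n) (Lg.inv_mem hl)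
      rw [hM, Subgroup.mem_bot] at hc
      have e : n * l = (n * l * n⁻¹ * l⁻¹) * (l * n) := by group
      rw [hc, one_mul] at e
      exact e
    have hN'L : N' ≤ Lg := fun n hn => hcent n (hcomm n hn)
    have hN'bot : N' = ⊥ := by
      rw [eq_bot_iff, ← hM]
      exact le_inf le_rfl hN'L
    rwa [hN', Subgroup.map_eq_bot_iff_of_injective _ Gp.subtype_injective] at hN'bot
  have hrange := range_eq_alt φp hφp hevenp hsol h32
  -- the image of `Lg` is normal in the alternating group
  have hsimple : IsSimpleGroup ↥(alternatingGroup (Fin 8)) :=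
    alternatingGroup.isSimpleGroup (by simp)
  have hN8 : ((Lg.map φ).subgroupOf (alternatingGroup (Fin 8))).Normal := by
    constructor
    intro x hx a
    rw [Subgroup.mem_subgroupOf] at hx ⊢
    have ha : (a : Perm (Fin 8)) ∈ φp.range := by rw [hrange]; exact a.2
    obtain ⟨g, hg⟩ := ha
    obtain ⟨l, hl, hlx⟩ := hx
    refine ⟨g.1 * l * g.1⁻¹, hLn.conj_mem l hl g.1, ?_⟩
    rw [map_mul, map_mul, map_inv, hlx]
    have hg' : φ g.1 = (a : Perm (Fin 8)) := hg
    rw [hg']
    rfl
  rcases hN8.eq_bot_or_eq_top with h | h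
  · exfalso
    apply hLnt
    rw [eq_bot_iff]
    intro l hl
    have h1 : φ l ∈ alternatingGroup (Fin 8) := hLG hl
    have h2 : (⟨φ l, h1⟩ : ↥(alternatingGroup (Fin 8))) ∈
        (Lg.map φ).subgroupOf (alternatingGroup (Fin 8)) := by
      rw [Subgroup.mem_subgroupOf]
      exact ⟨l, hl, rfl⟩
    rw [h, Subgroup.mem_bot] at h2
    have h3 : φ l = 1 := congrArg Subtype.val h2
    rw [Subgroup.mem_bot]
    exact hφ (h3.trans (map_one φ).symm)
  · intro a ha
    have h2 : (⟨a, ha⟩ : ↥(alternatingGroup (Fin 8))) ∈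
        (Lg.map φ).subgroupOf (alternatingGroup (Fin 8)) := by
      rw [h]; exact Subgroup.mem_top _
    rw [Subgroup.mem_subgroupOf] at h2
    exact h2

end Cfsg.Agent.Lib.Helper20.Syl2Over
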