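import Mathlib
import Cfsg.Agent.Lib.Helper20.Syl2OverG
import Cfsg.Agent.Lib.Helper20.Syl2OverI

/-!
Overgroups of a Sylow 2-subgroup of the alternating group with quasisimple generalized Fitting
subgroup (helper20), part J: when exactly eight points are moved, `L` contains a three-cycle.
-/

set_option autoImplicit false

namespace Cfsg.Agent.Lib.Helper20.Syl2Over

open Equiv Equiv.Perm Subgroup MulAction
open Cfsg.Agent.Lib.Helper8

variable {α : Type*} [Fintype α] [DecidableEq α] {H L : Subgroup (Perm α)}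

theorem exists_threeCycle_eight (S : Setup H L) {a b c d a' b' c' d' : α} (V : HasV4 H a b c d)
    (V' : HasV4 H a' b' c' d')
    (hdisj : ∀ x, (x = a ∨ x = b ∨ x = c ∨ x = d) → ¬ (x = a' ∨ x = b' ∨ x = c' ∨ x = d'))
    (h8 : (moved L).ncard = 8) (h64 : 64 ∣ Nat.card H) : ∃ k ∈ L, k.IsThreeCycle := by
  classical
  have hcardΩ : Nat.card ↥(movedSub S) = 8 := (Nat.card_coe_set_eq (moved L)).trans h8
  have : Fintype ↥(movedSub S) := Fintype.ofFinite _
  have hcard' : Fintype.card ↥(movedSub S) = 8 := by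
    rw [← Nat.card_eq_fintype_card]; exact hcardΩ
  let e : ↥(movedSub S) ≃ Fin 8 := Fintype.equivFinOfCardEq hcard'
  let φ : ↥H →* Perm (Fin 8) :=
    (e.permCongrHom).toMonoidHom.comp (MulAction.toPermHom ↥H ↥(movedSub S))
  have hφapply : ∀ (h : ↥H) (i : Fin 8), φ h i = e (h • e.symm i) := fun h i => rfl
  have hφ : Function.Injective φ := by
    rw [injective_iff_map_eq_one]
    intro h hh
    apply Subtype.ext
    apply eq_one_of_fix_moved S h.1 h.2
    intro x hx
    have h1 := congrArg (fun σ : Perm (Fin 8) => σ (e ⟨x, hx⟩)) hh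
    simp only [hφapply, Equiv.symm_apply_apply, Perm.one_apply] at h1
    have h2 := e.injective h1
    exact congrArg Subtype.val h2
  set Lg : Subgroup ↥H := L.subgroupOf H with hLg
  have hLn : Lg.Normal := by
    constructor
    intro x hx g
    rw [hLg, Subgroup.mem_subgroupOf] at hx ⊢
    exact S.norm g.1 g.2 x.1 hx
  have hLnt : Lg ≠ ⊥ := by
    intro hbot
    have := isQuasisimple_nontrivial S.qs
    obtain ⟨l, hl⟩ := exists_ne (1 : ↥L)
    apply hl
    have h1 : (⟨l.1, S.le l.2⟩ : ↥H) ∈ Lg := by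
      rw [hLg, Subgroup.mem_subgroupOf]; exact l.2
    rw [hbot, Subgroup.mem_bot] at h1
    apply Subtype.ext
    have h2 : ((⟨l.1, S.le l.2⟩ : ↥H) : Perm α) = ((1 : ↥H) : Perm α) := congrArg Subtype.val h1
    exact h2
  have hmapL : Lg.map H.subtype = L := by
    rw [hLg]; exact Subgroup.map_subgroupOf_eq_of_le S.le
  have hperf : ⁅Lg, Lg⁆ = Lg := by
    apply Subgroup.map_injective H.subtype_injective
    rw [Subgroup.map_commutator, hmapL, S.perf]
  have hq : ∀ N : Subgroup ↥H, N ≤ Lg → (∀ l ∈ Lg, ∀ n ∈ N, l * n * l⁻¹ ∈ N) →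
      Group.IsSolvable N → N = ⊥ := by
    intro N hNL hNn hNs
    set N'' : Subgroup (Perm α) := N.map H.subtype with hN''
    have hN''L : N'' ≤ L := by
      rw [← hmapL]; exact Subgroup.map_mono hNL
    have eN : ↥N ≃* ↥N'' := N.equivMapOfInjective H.subtype H.subtype_injective
    have hN''s : Group.IsSolvable ↥N'' :=
      Group.isSolvable_of_surjective (f := eN.toMonoidHom) eN.surjective
    have hNq : (N''.subgroupOf L).Normal := by
      constructor
      intro x hx g
      rw [Subgroup.mem_subgroupOf] at hx ⊢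
      obtain ⟨n, hn, hnx⟩ := hx
      have hg : (⟨g.1, S.le g.2⟩ : ↥H) ∈ Lg := by
        rw [hLg, Subgroup.mem_subgroupOf]; exact g.2
      refine ⟨_, hNn _ hg n hn, ?_⟩
      rw [map_mul, map_mul, map_inv, hnx]
      rfl
    rcases quasisimple_normal S.qs _ hNq with h | h
    · exfalso
      apply isQuasisimple_not_isSolvable S.qs
      have hLN : L ≤ N'' := by
        intro l hl
        have : (⟨l, hl⟩ : ↥L) ∈ N''.subgroupOf L := by rw [h]; exact Subgroup.mem_top _
        rwa [Subgroup.mem_subgroupOf] at this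
      exact Group.isSolvable_of_isSolvable_injective (f := Subgroup.inclusion hLN)
        (Subgroup.inclusion_injective hLN)
    · have hbot : N'' = ⊥ := by
        rw [eq_bot_iff]
        intro n hn
        rw [Subgroup.mem_bot]
        have hnL := hN''L hn
        have hc : (⟨n, hnL⟩ : ↥L) ∈ Subgroup.center ↥L := h (by
          rw [Subgroup.mem_subgroupOf]; exact hn)
        rw [Subgroup.mem_center_iff] at hc
        apply center_trivial S V V' hdisj n hnL
        intro l hl
        exact (congrArg Subtype.val (hc ⟨l, hl⟩)).symm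
      rwa [hN'', Subgroup.map_eq_bot_iff_of_injective _ H.subtype_injective] at hbot
  have hcent : ∀ g : ↥H, (∀ l ∈ Lg, g * l = l * g) → g ∈ Lg := by
    intro g hg
    rw [hLg, Subgroup.mem_subgroupOf]
    apply S.cent g.1 g.2
    intro l hl
    have hl' : (⟨l, S.le hl⟩ : ↥H) ∈ Lg := by
      rw [hLg, Subgroup.mem_subgroupOf]; exact hl
    exact congrArg Subtype.val (hg _ hl')
  have hA := alt_le_map φ hφ h64 Lg hLn hLnt hperf hq hcent
  -- the three-cycle
  have h01 : (0 : Fin 8) ≠ 1 := by decide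
  have h02 : (0 : Fin 8) ≠ 2 := by decide
  have h12 : (1 : Fin 8) ≠ 2 := by decide
  obtain ⟨σ, hσdef⟩ : ∃ σ : Perm (Fin 8), σ = swap (0 : Fin 8) 1 * swap 0 2 := ⟨_, rfl⟩
  have hσ3 : σ.IsThreeCycle := by
    rw [hσdef]; exact isThreeCycle_swap_mul_swap_same h01 h02 h12
  obtain ⟨l', hl'L, hl'σ⟩ := hA hσ3.mem_alternatingGroup
  have hl'L : (l' : Perm α) ∈ L := Subgroup.mem_subgroupOf.mp hl'L
  let ι : Fin 8 → α := fun i => (e.symm i).1
  have hι : Function.Injective ι := fun i j hij => e.symm.injective (Subtype.ext hij)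
  have hιm : ∀ i, ι i ∈ moved L := fun i => (e.symm i).2
  have hkey : (l' : Perm α) = swap (ι 0) (ι 1) * swap (ι 0) (ι 2) := by
    ext y
    by_cases hy : y ∈ moved L
    · have h1 : φ l' (e ⟨y, hy⟩) = σ (e ⟨y, hy⟩) := by rw [hl'σ]
      rw [hφapply, Equiv.symm_apply_apply] at h1
      have h2 : l' • (⟨y, hy⟩ : ↥(movedSub S)) = e.symm (σ (e ⟨y, hy⟩)) := by
        rw [← h1, Equiv.symm_apply_apply]
      have h3 : (l' : Perm α) y = ι (σ (e ⟨y, hy⟩)) := congrArg Subtype.val h2
      have h4 : y = ι (e ⟨y, hy⟩) := by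
        show y = (e.symm (e ⟨y, hy⟩)).1
        rw [Equiv.symm_apply_apply]
      rw [h3]
      conv_rhs => rw [h4]
      rw [Perm.mul_apply, hι.swap_apply, hι.swap_apply, hσdef, Perm.mul_apply]
    · rw [not_mem_moved hy hl'L, Perm.mul_apply]
      have hne : ∀ i, y ≠ ι i := fun i h => hy (h ▸ hιm i)
      rw [swap_apply_of_ne_of_ne (hne 0) (hne 2), swap_apply_of_ne_of_ne (hne 0) (hne 1)]
  refine ⟨l', hl'L, ?_⟩
  rw [hkey]
  exact isThreeCycle_swap_mul_swap_same (hι.ne h01) (hι.ne h02) (hι.ne h12)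

end Cfsg.Agent.Lib.Helper20.Syl2Over
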