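import Mathlib
import Cfsg.Agent.Lib.Helper20.SylMaxD

/-!
Sylow 2-subgroups of symmetric/alternating groups and maximal subgroups (helper20), part E:
if the degree is not `2^k+1` then a Sylow 2-subgroup lies in two proper subgroups generating
everything.
-/

set_option autoImplicit false

namespace Cfsg.Agent.Lib.Helper20.SylMax

open Equiv Equiv.Perm Subgroup MulAction
open scoped Pointwise

variable {α : Type*} [Fintype α] [DecidableEq α] {𝔊 : Type*} [Group 𝔊] [Finite 𝔊]

/-- set stabilizer pulled back -/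
def stabG (ι : 𝔊 →* Perm α) (X : Finset α) : Subgroup 𝔊 := (stabilizer (Perm α) X).comap ι

theorem mem_stabG (ι : 𝔊 →* Perm α) (X : Finset α) (g : 𝔊) : g ∈ stabG ι X ↔ ι g • X = X :=
  Iff.rfl

/-- stabilizer of a set or its complement pulled back -/
def stab2G (ι : 𝔊 →* Perm α) (X : Finset α) : Subgroup 𝔊 :=
  (stabilizer (Perm α) ({X, Xᶜ} : Finset (Finset α))).comap ι

theorem mem_stab2G (ι : 𝔊 →* Perm α) (X : Finset α) (g : 𝔊) :
    g ∈ stab2G ι X ↔ ι g • X = X ∨ ι g • X = Xᶜ := by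
  show ι g • ({X, Xᶜ} : Finset (Finset α)) = {X, Xᶜ} ↔ _
  rw [Finset.smul_finset_insert, Finset.smul_finset_singleton, smul_finset_compl']
  constructor
  · intro h
    have : ι g • X ∈ ({X, Xᶜ} : Finset (Finset α)) := by rw [← h]; simp
    simpa using this
  · rintro (h | h)
    · rw [h]
    · rw [h, compl_compl]; exact Finset.pair_comm _ _

/-- centralizer pulled back -/
def centG (ι : 𝔊 →* Perm α) (z : Perm α) : Subgroup 𝔊 := (centralizer {z}).comap ι

theorem mem_centG (ι : 𝔊 →* Perm α) (z : Perm α) (g : 𝔊) :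
    g ∈ centG ι z ↔ ι g * z = z * ι g := by
  show ι g ∈ centralizer {z} ↔ _
  rw [mem_centralizer_iff]
  constructor
  · intro h; exact (h z rfl).symm
  · intro h y hy; rw [Set.mem_singleton_iff.mp hy]; exact h.symm

theorem three_cycle_move (x y w : α) (hxy : x ≠ y) (hxw : x ≠ w) (hyw : y ≠ w) :
    sign (swap x y * swap y w) = 1 ∧ (swap x y * swap y w) x = y := by
  constructor
  · rw [Perm.sign_mul, sign_swap hxy, sign_swap hyw]; rfl
  · rw [Perm.mul_apply, swap_apply_of_ne_of_ne hxy hxw, swap_apply_left]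

theorem coe_smul_finset' (σ : Perm α) (X : Finset α) :
    ((σ • X : Finset α) : Set α) = σ • (X : Set α) := Finset.coe_smul_finset σ X

/-- framework version of the generation lemma -/
theorem sup_eq_top_of [Nontrivial α] (ι : 𝔊 →* Perm α) (hinj : Function.Injective ι)
    (hAlt : alternatingGroup α ≤ ι.range) (R : Sylow 2 𝔊) (H₁ H₂ : Subgroup 𝔊)
    (hR₁ : (R : Subgroup 𝔊) ≤ H₁) (X : Finset α)
    (hstab : ∀ g : 𝔊, ι g • X = X → g ∈ H₁)
    (hX3 : 3 ≤ X.card) (hXc : 2 ≤ Xᶜ.card) (hle : Xᶜ.card ≤ X.card)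
    (h : 𝔊) (hh : h ∈ H₂) (h1 : ι h • X ≠ X) (h2 : ι h • X ≠ Xᶜ) : H₁ ⊔ H₂ = ⊤ := by
  apply eq_top_of_alt_le ι hinj R _ (hR₁.trans le_sup_left)
  apply alt_le_of_stab _ (X : Set α) _ _ _ _ (ι h) (mem_map_of_mem ι (le_sup_right (a := H₁) hh))
  · intro e
    apply h1
    apply Finset.coe_injective
    rw [coe_smul_finset']; exact e
  · intro e
    apply h2
    apply Finset.coe_injective
    rw [coe_smul_finset', Finset.coe_compl]; exact e
  · rintro σ ⟨hσ1, hσ2⟩
    obtain ⟨g, rfl⟩ := hAlt hσ2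
    refine mem_map_of_mem ι (le_sup_left (b := H₂) (hstab g ?_))
    apply Finset.coe_injective
    rw [coe_smul_finset']; exact hσ1
  · rw [Set.ncard_coe_finset]; exact hX3
  · rw [← Finset.coe_compl, ← Set.one_lt_ncard_iff_nontrivial, Set.ncard_coe_finset]; omega
  · rw [← Finset.coe_compl, Set.ncard_coe_finset, Set.ncard_coe_finset]; exact hle

theorem swap_smul_finset {X : Finset α} {a b : α} (ha : a ∈ X) (hb : b ∈ X) :
    swap a b • X = X := by
  apply Finset.coe_injective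
  rw [coe_smul_finset']
  exact mem_stabilizer_iff.mp (swap_mem_stabilizer (s := (X : Set α)) ha hb)

/-- an even permutation in the image is in the range -/
theorem exists_preimage (ι : 𝔊 →* Perm α) (hAlt : alternatingGroup α ≤ ι.range)
    (σ : Perm α) (hσ : sign σ = 1) : ∃ g : 𝔊, ι g = σ :=
  hAlt (mem_alternatingGroup.mpr hσ)

/-- the case of an invariant (up to complement) set and a centralized involution -/
theorem false_of_invol [Nontrivial α] (ι : 𝔊 →* Perm α) (hinj : Function.Injective ι)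
    (hAlt : alternatingGroup α ≤ ι.range) (R : Sylow 2 𝔊)
    (huniq : ∃! M : Subgroup 𝔊, IsCoatom M ∧ (R : Subgroup 𝔊) ≤ M)
    (X : Finset α) (hX3 : 3 ≤ X.card) (hXc : 2 ≤ Xᶜ.card) (hle : Xᶜ.card ≤ X.card)
    (H₁ : Subgroup 𝔊) (hR₁ : (R : Subgroup 𝔊) ≤ H₁) (hstab : ∀ g : 𝔊, ι g • X = X → g ∈ H₁)
    (hH₁ : ∀ g ∈ H₁, ι g • X = X ∨ ι g • X = Xᶜ)
    (z : Perm α) (hz2 : z * z = 1) (hfpf : ∀ x, z x ≠ x)
    (hRz : ∀ g ∈ (R : Subgroup 𝔊), ι g * z * (ι g)⁻¹ = z) : False := by
  have hzz : ∀ x, z (z x) = x := fun x => by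
    have := congrArg (fun f : Perm α => f x) hz2
    simpa using this
  have hsum := Finset.card_add_card_compl X
  obtain ⟨x, hx⟩ : X.Nonempty := Finset.card_pos.mp (by omega)
  have hF2 : ({x, z x} : Finset α).card ≤ 2 := Finset.card_le_two
  obtain ⟨u, huX, huF⟩ := Finset.exists_mem_notMem_of_card_lt_card
    (s := ({x, z x} : Finset α)) (t := X) (by omega)
  obtain ⟨v, hvX, hvz⟩ := Finset.exists_mem_ne (s := Xᶜ) (by omega) (z x)
  have hvx : v ≠ x := fun h => (Finset.mem_compl.mp hvX) (h ▸ hx)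
  have hvF : v ∉ ({x, z x} : Finset α) := by
    simp only [Finset.mem_insert, Finset.mem_singleton, not_or]; exact ⟨hvx, hvz⟩
  obtain ⟨g₀, hg1, hg2, hg3, hg4⟩ := exists_centralizing z hz2 hfpf ({x, z x} : Finset α)
    (fun t ht => by
      simp only [Finset.mem_insert, Finset.mem_singleton] at ht ⊢
      rcases ht with rfl | rfl
      · right; rfl
      · left; exact hzz _)
    (by omega) u v huF hvF
  obtain ⟨h, rfl⟩ := exists_preimage ι hAlt g₀ hg1
  have hh2 : h ∈ centG ι z := (mem_centG ι z h).mpr hg2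
  have hne1 : ι h • X ≠ X := by
    intro e
    have : v ∈ ι h • X := by rw [← hg3]; exact Finset.smul_mem_smul_finset huX
    rw [e] at this
    exact (Finset.mem_compl.mp hvX) this
  have hne2 : ι h • X ≠ Xᶜ := by
    intro e
    have : x ∈ ι h • X := by
      have h5 : ι h x = x := hg4 x (by simp)
      rw [← h5]; exact Finset.smul_mem_smul_finset hx
    rw [e] at this
    exact (Finset.mem_compl.mp this) hx
  have hR₂ : (R : Subgroup 𝔊) ≤ centG ι z := by
    intro g hg
    rw [mem_centG]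
    have := hRz g hg
    rwa [mul_inv_eq_iff_eq_mul] at this
  have hsup := sup_eq_top_of ι hinj hAlt R H₁ (centG ι z) hR₁ X hstab hX3 hXc hle h hh2 hne1 hne2
  refine not_unique_coatom _ H₁ (centG ι z) hR₁ hR₂ ?_ ?_ hsup huniq
  · intro htop
    have : h ∈ H₁ := by rw [htop]; trivial
    rcases hH₁ h this with e | e
    · exact hne1 e
    · exact hne2 e
  · intro htop
    obtain ⟨g₁, hg₁, hg₁'⟩ := exists_not_centralizing z hfpf hz2 (by omega)
    obtain ⟨h₁, rfl⟩ := exists_preimage ι hAlt g₁ hg₁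
    have : h₁ ∈ centG ι z := by rw [htop]; trivial
    exact hg₁' ((mem_centG ι z h₁).mp this)

/-- the case of two invariant sets -/
theorem false_of_sets [Nontrivial α] (ι : 𝔊 →* Perm α) (hinj : Function.Injective ι)
    (hAlt : alternatingGroup α ≤ ι.range) (R : Sylow 2 𝔊)
    (huniq : ∃! M : Subgroup 𝔊, IsCoatom M ∧ (R : Subgroup 𝔊) ≤ M)
    (A C : Finset α) (hA3 : 3 ≤ A.card) (hAc : 2 ≤ Aᶜ.card) (hle : Aᶜ.card < A.card)
    (hAC : A.card < C.card) (hCn : C.card < Fintype.card α)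
    (hbig : Fintype.card α < A.card + C.card)
    (hRA : ∀ g ∈ (R : Subgroup 𝔊), ι g • A = A) (hRC : ∀ g ∈ (R : Subgroup 𝔊), ι g • C = C) :
    False := by
  have hincl := Finset.card_union_add_card_inter A C
  have hun : (A ∪ C).card ≤ Fintype.card α := Finset.card_le_univ _
  obtain ⟨x, hx⟩ : (A ∩ C).Nonempty := Finset.card_pos.mp (by omega)
  rw [Finset.mem_inter] at hx
  obtain ⟨y, hyC, hyA⟩ := Finset.exists_mem_notMem_of_card_lt_card hAC
  have hxy : x ≠ y := fun h => hyA (h ▸ hx.1)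
  have hF2 : ({x, y} : Finset α).card ≤ 2 := Finset.card_le_two
  obtain ⟨w, hwC, hwF⟩ := Finset.exists_mem_notMem_of_card_lt_card
    (s := ({x, y} : Finset α)) (t := C) (by omega)
  simp only [Finset.mem_insert, Finset.mem_singleton, not_or] at hwF
  obtain ⟨hg1, hg2⟩ := three_cycle_move x y w hxy (Ne.symm hwF.1) (Ne.symm hwF.2)
  obtain ⟨h, hh⟩ := exists_preimage ι hAlt _ hg1
  have hhC : h ∈ stabG ι C := by
    rw [mem_stabG, hh, mul_smul, swap_smul_finset hyC hwC, swap_smul_finset hx.2 hyC]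
  have hne1 : ι h • A ≠ A := by
    intro e
    have : y ∈ ι h • A := by
      rw [hh]
      have := Finset.smul_mem_smul_finset (a := swap x y * swap y w) hx.1
      rwa [Perm.smul_def, hg2] at this
    rw [e] at this
    exact hyA this
  have hne2 : ι h • A ≠ Aᶜ := by
    intro e
    have := congrArg Finset.card e
    rw [Finset.card_smul_finset] at this
    omega
  have hsup := sup_eq_top_of ι hinj hAlt R (stabG ι A) (stabG ι C) hRA A (fun g hg => hg)
    hA3 hAc hle.le h hhC hne1 hne2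
  refine not_unique_coatom _ (stabG ι A) (stabG ι C) hRA hRC ?_ ?_ hsup huniq
  · intro htop
    have : h ∈ stabG ι A := by rw [htop]; trivial
    exact hne1 this
  · intro htop
    obtain ⟨y', hy'⟩ : ∃ y', y' ∉ C := by
      by_contra hcon
      push Not at hcon
      rw [Finset.eq_univ_iff_forall.mpr hcon, Finset.card_univ] at hCn
      exact lt_irrefl _ hCn
    have hxy' : x ≠ y' := fun h => hy' (h ▸ hx.2)
    have hwy' : y' ≠ w := fun h => hy' (h ▸ hwC)
    obtain ⟨hg1', hg2'⟩ := three_cycle_move x y' w hxy' (Ne.symm hwF.1) hwy'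
    obtain ⟨h', hh'⟩ := exists_preimage ι hAlt _ hg1'
    have : h' ∈ stabG ι C := by rw [htop]; trivial
    rw [mem_stabG, hh'] at this
    have h5 : y' ∈ (swap x y' * swap y' w) • C := by
      have := Finset.smul_mem_smul_finset (a := swap x y' * swap y' w) hx.2
      rwa [Perm.smul_def, hg2'] at this
    rw [this] at h5
    exact hy' h5

/-- if a Sylow 2-subgroup lies in a unique maximal subgroup then the degree is `2^k+1` -/
theorem fwd [Nontrivial α] (ι : 𝔊 →* Perm α) (hinj : Function.Injective ι)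
    (hAlt : alternatingGroup α ≤ ι.range) (hn5 : 5 ≤ Fintype.card α) (R : Sylow 2 𝔊)
    (huniq : ∃! M : Subgroup 𝔊, IsCoatom M ∧ (R : Subgroup 𝔊) ≤ M) :
    ∃ k : ℕ, 2 ≤ k ∧ Fintype.card α = 2 ^ k + 1 := by
  by_contra hk
  push Not at hk
  obtain ⟨a, ha1, ha2⟩ : ∃ a, 2 ^ a ≤ Fintype.card α ∧ Fintype.card α < 2 ^ (a + 1) :=
    ⟨Nat.log 2 (Fintype.card α), Nat.pow_log_le_self 2 (by omega),
      Nat.lt_pow_succ_log_self (by norm_num) _⟩
  have hp1 : (2 : ℕ) ^ (a + 1) = 2 * 2 ^ a := by rw [pow_succ]; ring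
  have ha : 2 ≤ a := by
    by_contra hlt
    have : a = 0 ∨ a = 1 := by omega
    rcases this with rfl | rfl <;> norm_num at ha2 <;> omega
  obtain ⟨a', rfl⟩ : ∃ a', a = a' + 1 := ⟨a - 1, by omega⟩
  have hp2 : (2 : ℕ) ^ (a' + 1) = 2 * 2 ^ a' := by rw [pow_succ]; ring
  have hp3 : 2 ≤ 2 ^ a' := by
    calc 2 = 2 ^ 1 := by norm_num
      _ ≤ 2 ^ a' := Nat.pow_le_pow_right (by norm_num) (by omega)
  obtain ⟨r, hr⟩ : ∃ r, Fintype.card α = 2 ^ (a' + 1) + r := ⟨_, (Nat.add_sub_cancel' ha1).symm⟩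
  have hr1 : r ≠ 1 := fun h => hk (a' + 1) ha (by rw [hr, h])
  have hra : r < 2 ^ (a' + 1) := by omega
  rcases Nat.lt_or_ge r 1 with h0 | h0
  · -- degree a power of two
    have hr0 : r = 0 := by omega
    rw [hr0, add_zero] at hr
    have ha3 : 2 ≤ a' := by
      by_contra hlt
      have : a' = 1 := by omega
      subst this
      norm_num at hr
      omega
    have hp4 : 4 ≤ 2 ^ a' := by
      calc 4 = 2 ^ 2 := by norm_num
        _ ≤ 2 ^ a' := Nat.pow_le_pow_right (by norm_num) ha3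
    obtain ⟨X, hXc, hXR⟩ := exists_invariant_halving ι R (a' + 1) (by omega) hr
    rw [show a' + 1 - 1 = a' by omega] at hXc
    obtain ⟨z, hz, hRz⟩ := exists_invariant_invol ι R (2 ^ a') (by omega) (by rw [hr, hp2])
    obtain ⟨hz2, hfpf⟩ := invol_of_cycleType z (2 ^ a') (by omega) (by rw [hr, hp2]) hz
    have hsum := Finset.card_add_card_compl X
    exact false_of_invol ι hinj hAlt R huniq X (by omega) (by omega) (by omega)
      (stab2G ι X) (fun g hg => (mem_stab2G ι X g).mpr (hXR g hg))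
      (fun g hg => (mem_stab2G ι X g).mpr (Or.inl hg))
      (fun g hg => (mem_stab2G ι X g).mp hg) z hz2 hfpf hRz
  · have hr2 : 2 ≤ r := by omega
    obtain ⟨b, hb1, hb2⟩ : ∃ b, 2 ^ b ≤ r ∧ r < 2 ^ (b + 1) :=
      ⟨Nat.log 2 r, Nat.pow_log_le_self 2 (by omega), Nat.lt_pow_succ_log_self (by norm_num) _⟩
    have hq1 : (2 : ℕ) ^ (b + 1) = 2 * 2 ^ b := by rw [pow_succ]; ring
    obtain ⟨A, hAc, hAR⟩ := exists_invariant_finset ι R (2 ^ (a' + 1))
      (by rw [hr]; exact odd_choose_one (a' + 1) r hra)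
    have hsum := Finset.card_add_card_compl A
    rcases eq_or_lt_of_le hb1 with hb | hb
    · -- r is a power of two
      have hb0 : 1 ≤ b := by
        by_contra hlt
        have : b = 0 := by omega
        subst this
        norm_num at hb
        omega
      obtain ⟨b', rfl⟩ : ∃ b', b = b' + 1 := ⟨b - 1, by omega⟩
      have hq2 : (2 : ℕ) ^ (b' + 1) = 2 * 2 ^ b' := by rw [pow_succ]; ring
      have hq3 : 1 ≤ 2 ^ b' := Nat.one_le_two_pow
      have hcard : Fintype.card α = 2 * (2 ^ a' + 2 ^ b') := by rw [hr, ← hb, hp2, hq2]; ring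
      obtain ⟨z, hz, hRz⟩ := exists_invariant_invol ι R (2 ^ a' + 2 ^ b') (by omega) hcard
      obtain ⟨hz2, hfpf⟩ := invol_of_cycleType z (2 ^ a' + 2 ^ b') (by omega) hcard hz
      exact false_of_invol ι hinj hAlt R huniq A (by omega) (by omega) (by omega)
        (stabG ι A) hAR (fun g hg => hg) (fun g hg => Or.inl hg) z hz2 hfpf hRz
    · obtain ⟨C, hCc, hCR⟩ := exists_invariant_finset ι R (2 ^ (a' + 1) + 2 ^ b)
        (by rw [hr]; exact odd_choose_two (a' + 1) b r hra hb1 hb2)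
      have hq3 : 1 ≤ 2 ^ b := Nat.one_le_two_pow
      exact false_of_sets ι hinj hAlt R huniq A C (by omega) (by omega) (by omega) (by omega)
        (by omega) (by omega) hAR hCR

end Cfsg.Agent.Lib.Helper20.SylMax
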