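import Mathlib
import Cfsg.Agent.Lib.Helper20.SylMaxE

/-!
Sylow 2-subgroups of symmetric/alternating groups and maximal subgroups (helper20), part F:
explicit even 2-groups on `2^k+1` points: a regular elementary abelian group on the complement
of a point, and a product of Klein four-groups.
-/

set_option autoImplicit false

namespace Cfsg.Agent.Lib.Helper20.SylMax

open Equiv Equiv.Perm Subgroup

/-- the Klein four-group as an additive group -/
abbrev KV := ZMod 2 × ZMod 2

theorem KV_add_self : ∀ v : KV, v + v = 0 := by decide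

theorem KV_sign : ∀ v : KV, sign (Equiv.addRight v) = 1 := by decide

theorem KV_swap : ∀ a b c d x : KV, a ≠ b → a ≠ c → a ≠ d → b ≠ c → b ≠ d → c ≠ d →
    swap a b (swap c d x) = x + (a + b) := by decide

theorem KV_card : Fintype.card KV = 4 := by decide

theorem isPGroup_of_sq {G : Type*} [Group G] (H : Subgroup G) (h : ∀ g ∈ H, g * g = 1) :
    IsPGroup 2 H := fun ⟨g, hg⟩ => ⟨1, by
  apply Subtype.ext
  simp only [pow_one, pow_two, Subgroup.coe_mul, Subgroup.coe_one]
  exact h g hg⟩

section Psi

variable {α : Type*} [Fintype α] [DecidableEq α] {W : Type*} [Fintype W] [DecidableEq W]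
  (ω₀ : α) (e : {x : α // x ≠ ω₀} ≃ W)

/-- transport of permutations of `W` to permutations of `α` fixing `ω₀` -/
def Psi : Perm W →* Perm α :=
  (Perm.ofSubtype (p := fun x : α => x ≠ ω₀)).comp (e.symm.permCongrHom).toMonoidHom

theorem Psi_apply_symm (σ : Perm W) (w : W) :
    Psi ω₀ e σ (e.symm w : α) = (e.symm (σ w) : α) := by
  simp [Psi, Equiv.permCongrHom, Perm.ofSubtype_apply_coe]

theorem Psi_apply_of_ne (σ : Perm W) (x : α) (hx : x ≠ ω₀) :
    Psi ω₀ e σ x = (e.symm (σ (e ⟨x, hx⟩)) : α) := by
  have := Psi_apply_symm ω₀ e σ (e ⟨x, hx⟩)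
  simpa using this

theorem Psi_sign (σ : Perm W) : sign (Psi ω₀ e σ) = sign σ := by
  simp [Psi, Equiv.permCongrHom]

theorem Psi_swap (w w' : W) :
    Psi ω₀ e (swap w w') = swap (e.symm w : α) (e.symm w' : α) := by
  have h1 : (e.symm.permCongrHom) (swap w w') = swap (e.symm w) (e.symm w') := by
    show e.symm.permCongr (swap w w') = _
    rw [Equiv.permCongr_def]
    exact Equiv.symm_trans_swap_trans w w' e.symm
  show Perm.ofSubtype ((e.symm.permCongrHom) (swap w w')) = _
  rw [h1, Perm.ofSubtype_swap_eq]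

end Psi

section Groups

variable (I : Type*) [Fintype I] [DecidableEq I] [AddCommGroup I]

/-- translations of an additive group -/
def transHom (W : Type*) [AddCommGroup W] : Multiplicative W →* Perm W where
  toFun w := Equiv.addRight (Multiplicative.toAdd w)
  map_one' := by ext x; simp
  map_mul' a b := by ext x; simp [add_comm, add_left_comm]

/-- fibrewise translations -/
def fibHom : Multiplicative (I → KV) →* Perm (I × KV) where
  toFun f := Equiv.prodCongrRight (fun i => Equiv.addRight (Multiplicative.toAdd f i))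
  map_one' := by ext ⟨i, u⟩ <;> simp
  map_mul' a b := by ext ⟨i, u⟩ <;> simp [add_comm, add_left_comm]

theorem sign_transHom (w : Multiplicative (I × KV)) :
    sign (transHom (I × KV) w) = 1 := by
  obtain ⟨c, v, H⟩ : ∃ c v, Multiplicative.toAdd w = (c, v) := ⟨_, _, rfl⟩
  have h1 : transHom (I × KV) w = Equiv.prodCongrLeft (fun _ : KV => Equiv.addRight c) *
      Equiv.prodCongrRight (fun _ : I => Equiv.addRight v) := by
    ext ⟨i, u⟩ <;> simp [transHom, H]
  rw [h1, Perm.sign_mul, sign_prodCongrLeft, sign_prodCongrRight]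
  simp only [Finset.prod_const, Finset.card_univ, KV_sign, one_pow, mul_one]
  rw [KV_card, Int.units_pow_eq_pow_mod_two]
  simp

theorem sign_fibHom (f : Multiplicative (I → KV)) : sign (fibHom I f) = 1 := by
  show sign (Equiv.prodCongrRight (fun i : I => Equiv.addRight (Multiplicative.toAdd f i))) = 1
  rw [sign_prodCongrRight]
  exact Finset.prod_eq_one (fun i _ => KV_sign _)

theorem transHom_sq (hI : ∀ c : I, c + c = 0) (w : Multiplicative (I × KV)) :
    transHom (I × KV) w * transHom (I × KV) w = 1 := by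
  rw [← map_mul]
  have : w * w = 1 := by
    apply Multiplicative.toAdd.injective
    show Multiplicative.toAdd w + Multiplicative.toAdd w = 0
    ext
    · exact hI _
    · exact congrArg Prod.fst (KV_add_self _)
    · exact congrArg Prod.snd (KV_add_self _)
  rw [this, map_one]

theorem fibHom_sq (f : Multiplicative (I → KV)) : fibHom I f * fibHom I f = 1 := by
  rw [← map_mul]
  have : f * f = 1 := by
    apply Multiplicative.toAdd.injective
    show Multiplicative.toAdd f + Multiplicative.toAdd f = 0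
    funext i
    exact KV_add_self _
  rw [this, map_one]

/-- the double transposition on a fibre is a fibrewise translation -/
theorem fibHom_swap (i : I) (a b c d : KV) (hab : a ≠ b) (hac : a ≠ c) (had : a ≠ d)
    (hbc : b ≠ c) (hbd : b ≠ d) (hcd : c ≠ d) :
    swap (i, a) (i, b) * swap (i, c) (i, d) =
      fibHom I (Multiplicative.ofAdd (Pi.single i (a + b))) := by
  ext ⟨j, u⟩ : 1
  have hkey : ∀ (p q : KV) (j : I) (u : KV),
      swap (i, p) (i, q) (j, u) = if j = i then (i, swap p q u) else (j, u) := by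
    intro p q j u
    by_cases hj : j = i
    · subst hj
      rw [if_pos rfl]
      rw [Equiv.swap_apply_def, Equiv.swap_apply_def]
      by_cases h1 : u = p
      · simp [h1]
      · by_cases h2 : u = q
        · subst h2
          have h1' : ¬ (u = p) := h1
          simp [h1']
        · simp [h1, h2]
    · rw [if_neg hj]
      exact Equiv.swap_apply_of_ne_of_ne (fun h => hj (congrArg Prod.fst h))
        (fun h => hj (congrArg Prod.fst h))
  rw [Perm.mul_apply, hkey c d j u]
  by_cases hj : j = i
  · subst hj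
    rw [if_pos rfl, hkey a b, if_pos rfl, KV_swap a b c d u hab hac had hbc hbd hcd]
    simp [fibHom, add_assoc]
  · rw [if_neg hj, hkey a b, if_neg hj]
    simp [fibHom, Pi.single_apply, hj]

end Groups

/-- `Q` contains Klein four-groups on the parts of a partition of the complement of `ω`
into 4-sets -/
def HasV4 {α : Type*} [Fintype α] [DecidableEq α] (Q : Subgroup (Perm α)) (ω : α) : Prop :=
  ∃ (I : Type) (_ : DecidableEq I) (ℓ : α → Option I), (∀ y, ℓ y = none ↔ y = ω) ∧
    (∀ i, (Finset.univ.filter (fun y => ℓ y = some i)).card = 4) ∧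
    ∀ a b c d : α, a ≠ b → a ≠ c → a ≠ d → b ≠ c → b ≠ d → c ≠ d → ℓ a ≠ none →
      ℓ b = ℓ a → ℓ c = ℓ a → ℓ d = ℓ a → swap a b * swap c d ∈ Q

/-- the two explicit 2-groups -/
theorem exists_groups (α : Type*) [Fintype α] [DecidableEq α] (k : ℕ) (hk : 2 ≤ k)
    (hα : Fintype.card α = 2 ^ k + 1) :
    ∃ (ω₀ : α) (T Q : Subgroup (Perm α)), IsPGroup 2 T ∧ T ≤ alternatingGroup α ∧
      (∀ x y, x ≠ ω₀ → y ≠ ω₀ → ∃ t ∈ T, t x = y) ∧
      IsPGroup 2 Q ∧ Q ≤ alternatingGroup α ∧ HasV4 Q ω₀ := by
  obtain ⟨j, rfl⟩ : ∃ j, k = j + 2 := ⟨k - 2, by omega⟩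
  have hne : Nonempty α := by
    rw [← Fintype.card_pos_iff, hα]; positivity
  obtain ⟨ω₀⟩ := hne
  have hcardI : Fintype.card ((Fin j → ZMod 2) × KV) = 2 ^ (j + 2) := by
    rw [Fintype.card_prod, KV_card, Fintype.card_fun, ZMod.card, Fintype.card_fin, pow_add]
    norm_num
  have hcardS : Fintype.card {x : α // x ≠ ω₀} = 2 ^ (j + 2) := by
    rw [Fintype.card_subtype_compl, Fintype.card_subtype_eq, hα]; omega
  let e : {x : α // x ≠ ω₀} ≃ (Fin j → ZMod 2) × KV :=
    Fintype.equivOfCardEq (hcardS.trans hcardI.symm)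
  have hI : ∀ c : Fin j → ZMod 2, c + c = 0 := fun c => by
    funext i; exact CharTwo.add_self_eq_zero _
  refine ⟨ω₀, ((Psi ω₀ e).comp (transHom ((Fin j → ZMod 2) × KV))).range,
    ((Psi ω₀ e).comp (fibHom (Fin j → ZMod 2))).range, ?_, ?_, ?_, ?_, ?_, ?_⟩
  · apply isPGroup_of_sq
    rintro _ ⟨w, rfl⟩
    simp only [MonoidHom.comp_apply]
    rw [← map_mul, transHom_sq _ hI, map_one]
  · rintro _ ⟨w, rfl⟩
    rw [mem_alternatingGroup, MonoidHom.comp_apply, Psi_sign, sign_transHom]
  · intro x y hx hy
    refine ⟨_, ⟨Multiplicative.ofAdd (e ⟨y, hy⟩ - e ⟨x, hx⟩), rfl⟩, ?_⟩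
    rw [MonoidHom.comp_apply, Psi_apply_of_ne ω₀ e _ x hx]
    simp [transHom]
  · apply isPGroup_of_sq
    rintro _ ⟨w, rfl⟩
    simp only [MonoidHom.comp_apply]
    rw [← map_mul, fibHom_sq, map_one]
  · rintro _ ⟨w, rfl⟩
    rw [mem_alternatingGroup, MonoidHom.comp_apply, Psi_sign, sign_fibHom]
  · classical
    refine ⟨Fin j → ZMod 2, inferInstance,
      fun y => if h : y = ω₀ then none else some (e ⟨y, h⟩).1, ?_, ?_, ?_⟩
    · intro y
      by_cases h : y = ω₀ <;> simp [h]
    · intro i
      have : (Finset.univ.filter (fun y : α =>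
          (if h : y = ω₀ then none else some (e ⟨y, h⟩).1) = some i)) =
          (Finset.univ : Finset KV).image (fun u => ((e.symm (i, u) : {x : α // x ≠ ω₀}) : α)) := by
        ext y
        simp only [Finset.mem_filter, Finset.mem_univ, true_and, Finset.mem_image]
        constructor
        · intro hy
          by_cases h : y = ω₀
          · simp [h] at hy
          · rw [dif_neg h] at hy
            refine ⟨(e ⟨y, h⟩).2, ?_⟩
            have : (i, (e ⟨y, h⟩).2) = e ⟨y, h⟩ := by
              rw [← Option.some.inj hy]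
            rw [this]; simp
        · rintro ⟨u, rfl⟩
          have h : ((e.symm (i, u) : {x : α // x ≠ ω₀}) : α) ≠ ω₀ := (e.symm (i, u)).2
          rw [dif_neg h]
          simp
      rw [this, Finset.card_image_of_injective, Finset.card_univ, KV_card]
      intro u u' huu
      have := e.symm.injective (Subtype.ext huu)
      exact (Prod.ext_iff.mp this).2
    · intro a b c d hab hac had hbc hbd hcd ha hb hc hd
      have ha' : a ≠ ω₀ := fun h => ha (by simp [h])
      have key : ∀ y : α, (if h : y = ω₀ then none else some (e ⟨y, h⟩).1) =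
          (if h : a = ω₀ then none else some (e ⟨a, h⟩).1) →
          ∃ u : KV, y = ((e.symm ((e ⟨a, ha'⟩).1, u) : {x : α // x ≠ ω₀}) : α) := by
        intro y hy
        rw [dif_neg ha'] at hy
        by_cases h : y = ω₀
        · simp [h] at hy
        · rw [dif_neg h] at hy
          refine ⟨(e ⟨y, h⟩).2, ?_⟩
          have : ((e ⟨a, ha'⟩).1, (e ⟨y, h⟩).2) = e ⟨y, h⟩ := by
            rw [← Option.some.inj hy]
          rw [this]; simp
      obtain ⟨ua, hua⟩ := key a rfl
      obtain ⟨ub, hub⟩ := key b hb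
      obtain ⟨uc, huc⟩ := key c hc
      obtain ⟨ud, hud⟩ := key d hd
      set i := (e ⟨a, ha'⟩).1 with hi
      have hne : ∀ {p q : α} {up uq : KV},
          p = ((e.symm (i, up) : {x : α // x ≠ ω₀}) : α) →
          q = ((e.symm (i, uq) : {x : α // x ≠ ω₀}) : α) → p ≠ q → up ≠ uq := by
        intro p q up uq hp hq hpq h
        apply hpq
        rw [hp, hq, h]
      refine ⟨Multiplicative.ofAdd (Pi.single i (ua + ub)), ?_⟩
      rw [MonoidHom.comp_apply, ← fibHom_swap (Fin j → ZMod 2) i ua ub uc ud
        (hne hua hub hab) (hne hua huc hac) (hne hua hud had) (hne hub huc hbc)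
        (hne hub hud hbd) (hne huc hud hcd), map_mul, Psi_swap, Psi_swap, ← hua, ← hub, ← huc, ← hud]

end Cfsg.Agent.Lib.Helper20.SylMax
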