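import Mathlib
import Cfsg.Agent.Lib.Helper20.Syl2OverF
import Cfsg.Agent.Lib.Helper20.SylMaxF
import Cfsg.Agent.Lib.Helper20.A8SubH
import Cfsg.Agent.Lib.Helper14.Syl3OverA

/-!
Overgroups of a Sylow 2-subgroup of the alternating group with quasisimple generalized Fitting
subgroup (helper20), part K: what the Sylow 2-subgroup of the alternating group provides: two
disjoint Klein four-groups, the order divisible by 64, and no double transposition centralizing
`L`.
-/

set_option autoImplicit false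

namespace Cfsg.Agent.Lib.Helper20.Syl2Over

open Equiv Equiv.Perm Subgroup

/-- commuting involutions generate an elementary abelian 2-group -/
theorem sq_eq_one_of_closure {G : Type*} [Group G] (T : Set G)
    (hcomm : ∀ x ∈ T, ∀ y ∈ T, x * y = y * x) (hsq : ∀ x ∈ T, x * x = 1) :
    ∀ g ∈ Subgroup.closure T, g * g = 1 := by
  have h1 : Subgroup.closure T ≤ Subgroup.centralizer T := by
    rw [Subgroup.closure_le]
    intro x hx
    rw [SetLike.mem_coe, Subgroup.mem_centralizer_iff]
    intro y hy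
    exact hcomm y hy x hx
  have h2 : Subgroup.closure T ≤ Subgroup.centralizer (Subgroup.closure T : Set G) :=
    (Subgroup.closure_le_centralizer_centralizer T).trans (Subgroup.centralizer_le h1)
  intro g hg
  induction hg using Subgroup.closure_induction with
  | mem x hx => exact hsq x hx
  | one => simp
  | mul x y hx hy ihx ihy =>
    have hxy : y * x = x * y := by
      have := h2 hx
      rw [Subgroup.mem_centralizer_iff] at this
      exact this y hy
    calc x * y * (x * y) = x * (y * x) * y := by group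
      _ = (x * x) * (y * y) := by rw [hxy]; group
      _ = 1 := by rw [ihx, ihy, one_mul]
  | inv x hx ihx =>
    have : x⁻¹ = x := by
      rw [inv_eq_iff_mul_eq_one]; exact ihx
    rw [this]; exact ihx

section dt

variable {α : Type*} [DecidableEq α]

theorem dt_sq {a b c d : α} (hac : a ≠ c) (had : a ≠ d) (hbc : b ≠ c) (hbd : b ≠ d) :
    dt a b c d * dt a b c d = 1 := by
  have h := dt_comm' hac had hbc hbd
  have h2 : dt a b c d * dt a b c d = dt a b c d * dt c d a b :=
    congrArg (fun t => dt a b c d * t) h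
  rw [h2]
  unfold dt
  calc swap a b * swap c d * (swap c d * swap a b)
      = swap a b * (swap c d * swap c d) * swap a b := by group
    _ = 1 := by rw [swap_mul_self, mul_one, swap_mul_self]

theorem dt_mul_v4 {a b c d : α} (hab : a ≠ b) (hac : a ≠ c) (had : a ≠ d) (hbc : b ≠ c)
    (hbd : b ≠ d) (hcd : c ≠ d) : dt a b c d * dt a c b d = dt a d b c := by
  ext x
  rw [Perm.mul_apply]
  by_cases hxa : x = a
  · subst hxa
    rw [dt_fst hab had, dt_trd had.symm hbd.symm, dt_fst hab hac]
  by_cases hxb : x = b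
  · subst hxb
    rw [dt_trd had.symm hcd.symm, dt_fth hac.symm hbc.symm, dt_trd hac.symm hcd]
  by_cases hxc : x = c
  · subst hxc
    rw [dt_snd hbc.symm hcd, dt_fst hac had, dt_fth hab.symm hbd]
  by_cases hxd : x = d
  · subst hxd
    rw [dt_fth hab.symm hbc, dt_snd hbc hbd, dt_snd hbd.symm hcd.symm]
  rw [dt_of_ne hxa hxc hxb hxd, dt_of_ne hxa hxb hxc hxd, dt_of_ne hxa hxd hxb hxc]

theorem dt_comm_v4 {a b c d : α} (hab : a ≠ b) (hac : a ≠ c) (had : a ≠ d) (hbc : b ≠ c)
    (hbd : b ≠ d) (hcd : c ≠ d) : dt a b c d * dt a c b d = dt a c b d * dt a b c d := by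
  rw [dt_mul_v4 hab hac had hbc hbd hcd, dt_mul_v4 hac hab had hbc.symm hcd hbd]
  unfold dt
  rw [swap_comm c b]

theorem dt_comm_disj {a b c d a' b' c' d' : α}
    (hdisj : ∀ x, (x = a ∨ x = b ∨ x = c ∨ x = d) → ¬ (x = a' ∨ x = b' ∨ x = c' ∨ x = d')) :
    dt a b c d * dt a' b' c' d' = dt a' b' c' d' * dt a b c d := by
  apply Perm.Disjoint.commute
  intro x
  by_cases hx : x = a ∨ x = b ∨ x = c ∨ x = d
  · right
    have := hdisj x hx
    push Not at this
    exact dt_of_ne this.1 this.2.1 this.2.2.1 this.2.2.2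
  · left
    push Not at hx
    exact dt_of_ne hx.1 hx.2.1 hx.2.2.1 hx.2.2.2

theorem sign_dt [Fintype α] {a b c d : α} (hab : a ≠ b) (hcd : c ≠ d) :
    Perm.sign (dt a b c d) = 1 := by
  unfold dt
  rw [Perm.sign_mul, Perm.sign_swap hab, Perm.sign_swap hcd]
  rfl

end dt

variable {n : ℕ}

/-- the two Klein four-groups -/
theorem exists_v4_pair (hn : 8 ≤ n) (H : Subgroup (Perm (Fin n)))
    (P : Sylow 2 ↥(alternatingGroup (Fin n)))
    (hPH : (P : Subgroup ↥(alternatingGroup (Fin n))).map (alternatingGroup (Fin n)).subtype ≤ H) :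
    ∃ a b c d a' b' c' d' : Fin n, HasV4 H a b c d ∧ HasV4 H a' b' c' d' ∧
      ∀ x, (x = a ∨ x = b ∨ x = c ∨ x = d) → ¬ (x = a' ∨ x = b' ∨ x = c' ∨ x = d') := by
  classical
  let q : Fin 8 → Fin n := Fin.castLE hn
  have hq : Function.Injective q := Fin.castLE_injective hn
  have hne : ∀ i j : Fin 8, i ≠ j → q i ≠ q j := fun i j h => hq.ne h
  have hd0 : ∀ x, (x = q 0 ∨ x = q 1 ∨ x = q 2 ∨ x = q 3) →
      ¬ (x = q 4 ∨ x = q 5 ∨ x = q 6 ∨ x = q 7) := by
    rintro x (rfl | rfl | rfl | rfl) (h | h | h | h) <;> exact absurd (hq h) (by decide)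
  let t1 := dt (q 0) (q 1) (q 2) (q 3)
  let t2 := dt (q 0) (q 2) (q 1) (q 3)
  let s1 := dt (q 4) (q 5) (q 6) (q 7)
  let s2 := dt (q 4) (q 6) (q 5) (q 7)
  let T : Set (Perm (Fin n)) := {t1, t2, s1, s2}
  have c12 : t1 * t2 = t2 * t1 :=
    dt_comm_v4 (hne _ _ (by decide)) (hne _ _ (by decide)) (hne _ _ (by decide))
      (hne _ _ (by decide)) (hne _ _ (by decide)) (hne _ _ (by decide))
  have c34 : s1 * s2 = s2 * s1 :=
    dt_comm_v4 (hne _ _ (by decide)) (hne _ _ (by decide)) (hne _ _ (by decide))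
      (hne _ _ (by decide)) (hne _ _ (by decide)) (hne _ _ (by decide))
  have c13 : t1 * s1 = s1 * t1 := dt_comm_disj (by
    rintro x (rfl | rfl | rfl | rfl) (h | h | h | h) <;> exact absurd (hq h) (by decide))
  have c14 : t1 * s2 = s2 * t1 := dt_comm_disj (by
    rintro x (rfl | rfl | rfl | rfl) (h | h | h | h) <;> exact absurd (hq h) (by decide))
  have c23 : t2 * s1 = s1 * t2 := dt_comm_disj (by
    rintro x (rfl | rfl | rfl | rfl) (h | h | h | h) <;> exact absurd (hq h) (by decide))
  have c24 : t2 * s2 = s2 * t2 := dt_comm_disj (by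
    rintro x (rfl | rfl | rfl | rfl) (h | h | h | h) <;> exact absurd (hq h) (by decide))
  have hcomm : ∀ x ∈ T, ∀ y ∈ T, x * y = y * x := by
    intro x hx y hy
    simp only [T, Set.mem_insert_iff, Set.mem_singleton_iff] at hx hy
    rcases hx with rfl | rfl | rfl | rfl <;> rcases hy with rfl | rfl | rfl | rfl <;>
      first
        | rfl | exact c12 | exact c12.symm | exact c34 | exact c34.symm | exact c13
        | exact c13.symm | exact c14 | exact c14.symm | exact c23 | exact c23.symm
        | exact c24 | exact c24.symm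
  have hsq : ∀ x ∈ T, x * x = 1 := by
    intro x hx
    simp only [T, Set.mem_insert_iff, Set.mem_singleton_iff] at hx
    rcases hx with rfl | rfl | rfl | rfl <;>
      exact dt_sq (hne _ _ (by decide)) (hne _ _ (by decide)) (hne _ _ (by decide))
        (hne _ _ (by decide))
  have heven : ∀ x ∈ T, x ∈ alternatingGroup (Fin n) := by
    intro x hx
    simp only [T, Set.mem_insert_iff, Set.mem_singleton_iff] at hx
    rw [Perm.mem_alternatingGroup]
    rcases hx with rfl | rfl | rfl | rfl <;>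
      exact sign_dt (hne _ _ (by decide)) (hne _ _ (by decide))
  let Q : Subgroup (Perm (Fin n)) := Subgroup.closure T
  have hQ : IsPGroup 2 Q :=
    Cfsg.Agent.Lib.Helper20.SylMax.isPGroup_of_sq Q (sq_eq_one_of_closure T hcomm hsq)
  have hQr : Q ≤ (alternatingGroup (Fin n)).subtype.range := by
    rw [Subgroup.range_subtype, Subgroup.closure_le]
    exact heven
  obtain ⟨g, hg⟩ := Cfsg.Agent.Lib.Helper20.SylMax.exists_conj_le
    (alternatingGroup (Fin n)).subtype (alternatingGroup (Fin n)).subtype_injective P Q hQ hQr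
  set γ : Perm (Fin n) := (g : Perm (Fin n)) with hγ
  have hmem : ∀ x ∈ Q, γ * x * γ⁻¹ ∈ H := by
    intro x hx
    obtain ⟨r, hr, hrx⟩ := hg x hx
    have : (alternatingGroup (Fin n)).subtype r ∈ H := hPH ⟨r, hr, rfl⟩
    rw [hrx] at this
    exact this
  have ht1 : t1 ∈ Q := Subgroup.subset_closure (by simp [T])
  have ht2 : t2 ∈ Q := Subgroup.subset_closure (by simp [T])
  have hs1 : s1 ∈ Q := Subgroup.subset_closure (by simp [T])
  have hs2 : s2 ∈ Q := Subgroup.subset_closure (by simp [T])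
  have ht3 : dt (q 0) (q 3) (q 1) (q 2) ∈ Q := by
    rw [← dt_mul_v4 (hne _ _ (by decide)) (hne _ _ (by decide)) (hne _ _ (by decide))
      (hne _ _ (by decide)) (hne _ _ (by decide)) (hne _ _ (by decide))]
    exact Q.mul_mem ht1 ht2
  have hs3 : dt (q 4) (q 7) (q 5) (q 6) ∈ Q := by
    rw [← dt_mul_v4 (hne _ _ (by decide)) (hne _ _ (by decide)) (hne _ _ (by decide))
      (hne _ _ (by decide)) (hne _ _ (by decide)) (hne _ _ (by decide))]
    exact Q.mul_mem hs1 hs2
  have hγne : ∀ i j : Fin 8, i ≠ j → γ (q i) ≠ γ (q j) := fun i j h => γ.injective.ne (hne i j h)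
  refine ⟨γ (q 0), γ (q 1), γ (q 2), γ (q 3), γ (q 4), γ (q 5), γ (q 6), γ (q 7), ?_, ?_, ?_⟩
  · exact
      { ab := hγne _ _ (by decide)
        ac := hγne _ _ (by decide)
        ad := hγne _ _ (by decide)
        bc := hγne _ _ (by decide)
        bd := hγne _ _ (by decide)
        cd := hγne _ _ (by decide)
        m1 := by rw [← dt_conj]; exact hmem _ ht1
        m2 := by rw [← dt_conj]; exact hmem _ ht2
        m3 := by rw [← dt_conj]; exact hmem _ ht3 }
  · exact
      { ab := hγne _ _ (by decide)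
        ac := hγne _ _ (by decide)
        ad := hγne _ _ (by decide)
        bc := hγne _ _ (by decide)
        bd := hγne _ _ (by decide)
        cd := hγne _ _ (by decide)
        m1 := by rw [← dt_conj]; exact hmem _ hs1
        m2 := by rw [← dt_conj]; exact hmem _ hs2
        m3 := by rw [← dt_conj]; exact hmem _ hs3 }
  · rintro x (rfl | rfl | rfl | rfl) (h | h | h | h) <;>
      exact absurd (hq (γ.injective h)) (by decide)

/-- the order of `H` is divisible by `64` -/
theorem dvd_card_of_sylow (hn : 8 ≤ n) (H : Subgroup (Perm (Fin n)))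
    (P : Sylow 2 ↥(alternatingGroup (Fin n)))
    (hPH : (P : Subgroup ↥(alternatingGroup (Fin n))).map (alternatingGroup (Fin n)).subtype ≤ H) :
    64 ∣ Nat.card H := by
  have h1 := Cfsg.Agent.Lib.Helper20.A8Sub.card_alt n (by omega)
  have h2 : Nat.factorial 8 ∣ Nat.factorial n := Nat.factorial_dvd_factorial hn
  have h3 : Nat.factorial 8 = 128 * 315 := by decide
  have h4 : 2 ^ 6 ∣ Nat.card (alternatingGroup (Fin n)) := by
    have h0 : 128 ∣ 2 * Nat.card (alternatingGroup (Fin n)) := by
      rw [h1]; exact Dvd.dvd.trans ⟨315, h3⟩ h2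
    have e : (2 : ℕ) ^ 6 = 64 := by norm_num
    rw [e]
    generalize Nat.card (alternatingGroup (Fin n)) = N at h0
    omega
  have h5 : 2 ^ 6 ∣ Nat.card P := P.pow_dvd_card_of_pow_dvd_card h4
  have h6 : Nat.card ((P : Subgroup ↥(alternatingGroup (Fin n))).map
      (alternatingGroup (Fin n)).subtype) = Nat.card P :=
    Subgroup.card_map_of_injective (alternatingGroup (Fin n)).subtype_injective
  have h7 := Subgroup.card_dvd_of_le hPH
  rw [h6] at h7
  have e : (2 : ℕ) ^ 6 = 64 := by norm_num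
  rw [e] at h5
  exact Dvd.dvd.trans h5 h7

/-- no double transposition centralizes `L` -/
theorem no_central_dt {H L : Subgroup (Perm (Fin n))} (S : Setup H L)
    (P : Sylow 2 ↥(alternatingGroup (Fin n)))
    (hPH : (P : Subgroup ↥(alternatingGroup (Fin n))).map (alternatingGroup (Fin n)).subtype ≤ H)
    {p q r s : Fin n} (hpq : p ≠ q) (hpr : p ≠ r) (hps : p ≠ s) (hqr : q ≠ r) (hqs : q ≠ s)
    (hrs : r ≠ s) : ¬ ∀ l ∈ L, dt p q r s * l = l * dt p q r s := by
  intro hdc
  set d : Perm (Fin n) := dt p q r s with hd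
  set Y0 : Subgroup (Perm (Fin n)) := Subgroup.normalizer (L : Set (Perm (Fin n))) with hY0
  have hHY : H ≤ Y0 := by
    intro h hh
    rw [hY0, Subgroup.mem_normalizer_iff]
    intro x
    constructor
    · intro hx; exact S.norm h hh x hx
    · intro hx
      have := S.norm h⁻¹ (H.inv_mem hh) _ hx
      have e : h⁻¹ * (h * x * h⁻¹) * h⁻¹⁻¹ = x := by group
      rwa [e] at this
  have hdY0 : d ∈ Y0 := by
    rw [hY0, Subgroup.mem_normalizer_iff]
    intro x
    constructor
    · intro hx
      have : d * x * d⁻¹ = x := by rw [hdc x hx]; group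
      rw [this]; exact hx
    · intro hx
      have h1 := hdc _ hx
      have h2 : d * x * d⁻¹ = x := mul_left_cancel (a := d) (h1.trans (by group))
      rwa [h2] at hx
  set Y : Subgroup ↥(alternatingGroup (Fin n)) := Y0.subgroupOf (alternatingGroup (Fin n)) with hY
  have hPY : (P : Subgroup ↥(alternatingGroup (Fin n))) ≤ Y := by
    intro g hg
    rw [hY, Subgroup.mem_subgroupOf]
    exact hHY (hPH ⟨g, hg, rfl⟩)
  have hdA : d ∈ alternatingGroup (Fin n) := by
    rw [Perm.mem_alternatingGroup]; exact sign_dt hpq hrs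
  have hd1 : d ≠ 1 := dt_ne_one hpq hpr hps
  have hd2 : d * d = 1 := dt_sq hpr hps hqr hqs
  have hord : orderOf (⟨d, hdA⟩ : ↥(alternatingGroup (Fin n))) = 2 := by
    apply orderOf_eq_prime
    · apply Subtype.ext
      rw [pow_two]
      exact hd2
    · intro h
      exact hd1 (congrArg Subtype.val h)
  obtain ⟨y, hyY, hyP⟩ := Cfsg.Agent.Lib.Helper14.Syl3Over.exists_conj_mem_sylow P Y hPY
    ⟨d, hdA⟩ (by rw [hY, Subgroup.mem_subgroupOf]; exact hdY0) hord
  rw [hY, Subgroup.mem_subgroupOf] at hyY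
  set γ : Perm (Fin n) := (y : Perm (Fin n)) with hγ
  have htH : γ * d * γ⁻¹ ∈ H := hPH ⟨_, hyP, rfl⟩
  have hconj : γ * d * γ⁻¹ = dt (γ p) (γ q) (γ r) (γ s) := dt_conj γ p q r s
  apply not_central_small S (γ * d * γ⁻¹) htH
  · rw [hconj]
    exact dt_ne_one (γ.injective.ne hpq) (γ.injective.ne hpr) (γ.injective.ne hps)
  · rw [hconj]
    exact dt_support_card _ _ _ _
  · intro l hl
    have hl0 : γ⁻¹ * l * γ ∈ L := by
      rw [hY0, Subgroup.mem_normalizer_iff] at hyY
      rw [hyY (γ⁻¹ * l * γ)]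
      have e : γ * (γ⁻¹ * l * γ) * γ⁻¹ = l := by group
      rw [e]; exact hl
    have h1 := hdc _ hl0
    have e1 : γ * d * γ⁻¹ * l = γ * (d * (γ⁻¹ * l * γ)) * γ⁻¹ := by group
    have e2 : l * (γ * d * γ⁻¹) = γ * ((γ⁻¹ * l * γ) * d) * γ⁻¹ := by group
    rw [e1, e2, h1]

end Cfsg.Agent.Lib.Helper20.Syl2Over
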