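import Mathlib
import Cfsg.Agent.Lib.Helper20.Syl2OverJ
import Cfsg.Agent.Lib.Helper20.Syl2OverK
import Cfsg.Agent.Lib.Helper14.Syl3OverB

/-!
Overgroups of a Sylow 2-subgroup of the alternating group with quasisimple generalized Fitting
subgroup (helper20), part L: the end of the argument (adapted from helper14's treatment of the
Sylow 3 case): once `H` contains a three-cycle, `L` is the alternating group on its support,
which misses at most three points.
-/

set_option autoImplicit false

namespace Cfsg.Agent.Lib.Helper20.Syl2Over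

open Equiv Equiv.Perm
open scoped Pointwise commutatorElement
open Cfsg.Agent.Lib.Helper8
open Cfsg.Agent.Lib.Helper14.ThreeCycGen
open Cfsg.Agent.Lib.Helper14.Syl3Over

variable {n : ℕ}

theorem finish (H L : Subgroup (Perm (Fin n))) (S : Setup H L)
    (c : Perm (Fin n)) (hcH : c ∈ H) (hc3 : c.IsThreeCycle)
    (hF : ∀ p q r s : Fin n, p ≠ q → p ≠ r → p ≠ s → q ≠ r → q ≠ s → r ≠ s →
      ¬ ∀ l ∈ L, dt p q r s * l = l * dt p q r s) :
    ∃ m : ℕ, (m = n - 3 ∨ m = n - 2 ∨ m = n - 1 ∨ m = n) ∧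
      Nonempty (↥L ≃* ↥(alternatingGroup (Fin m))) := by
  classical
  have hLH := S.le
  have hnorm := S.norm
  have hcent := S.cent
  have hq := S.qs
  have hperf : ⁅L, L⁆ = L := S.perf
  have hLnt : Nontrivial ↥L := isQuasisimple_nontrivial hq
  have hnsolv : ¬ Group.IsSolvable ↥L := isQuasisimple_not_isSolvable hq
  -- (A') no 3-cycle of `H` centralizes `L`
  have hA : ∀ c ∈ H, c.IsThreeCycle → ¬ (∀ l ∈ L, c * l = l * c) := by
    intro c hcH hc3 hcc
    exact no_central_threeCycle L hperf c hc3 (hcent c hcH hcc) hcc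
  -- the group generated by the `L`-conjugates of `c`
  set C : Set (Perm (Fin n)) := {g | ∃ l ∈ L, g = l * c * l⁻¹} with hCdef
  set K : Subgroup (Perm (Fin n)) := Subgroup.closure C with hKdef
  have hC3 : ∀ g ∈ C, g.IsThreeCycle := by
    rintro g ⟨l, -, rfl⟩
    unfold IsThreeCycle at hc3 ⊢
    rwa [cycleType_conj]
  have hcC : c ∈ C := ⟨1, L.one_mem, by simp⟩
  have hcK : c ∈ K := Subgroup.subset_closure hcC
  have hKH : K ≤ H := by
    rw [hKdef, Subgroup.closure_le]
    rintro g ⟨l, hl, rfl⟩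
    exact H.mul_mem (H.mul_mem (hLH hl) hcH) (H.inv_mem (hLH hl))
  have hKnorm : ∀ l ∈ L, ∀ k ∈ K, l * k * l⁻¹ ∈ K := by
    intro l hl k hk
    induction hk using Subgroup.closure_induction with
    | mem x hx =>
      obtain ⟨l₁, hl₁, rfl⟩ := hx
      apply Subgroup.subset_closure
      exact ⟨l * l₁, L.mul_mem hl hl₁, by group⟩
    | one => simp
    | mul x y _ _ hx hy =>
      have e : l * (x * y) * l⁻¹ = (l * x * l⁻¹) * (l * y * l⁻¹) := by group
      rw [e]; exact K.mul_mem hx hy
    | inv x _ hx =>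
      have e : l * x⁻¹ * l⁻¹ = (l * x * l⁻¹)⁻¹ := by group
      rw [e]; exact K.inv_mem hx
  -- (B) `L ≤ K`
  have hLK : L ≤ K := by
    have hN : (K.subgroupOf L).Normal := by
      constructor
      intro x hx g
      rw [Subgroup.mem_subgroupOf] at hx ⊢
      exact hKnorm g g.2 x hx
    rcases quasisimple_normal hq (K.subgroupOf L) hN with h | h
    · intro l hl
      have : (⟨l, hl⟩ : L) ∈ K.subgroupOf L := by rw [h]; exact Subgroup.mem_top _
      rwa [Subgroup.mem_subgroupOf] at this
    · exfalso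
      apply hA c hcH hc3
      have h1 : ⁅⁅Subgroup.zpowers c, L⁆, L⁆ = ⊥ := by
        rw [Subgroup.commutator_eq_bot_iff_le_centralizer, Subgroup.commutator_le]
        intro x hx l hl
        have hxK : x ∈ K := by
          rw [Subgroup.mem_zpowers_iff] at hx
          obtain ⟨i, rfl⟩ := hx
          exact K.zpow_mem hcK i
        have hzL : ⁅x, l⁆ ∈ L := by
          rw [commutatorElement_def]
          exact L.mul_mem (hnorm x (hKH hxK) l hl) (L.inv_mem hl)
        have hzK : ⁅x, l⁆ ∈ K := by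
          rw [commutatorElement_def]
          have e : x * l * x⁻¹ * l⁻¹ = x * (l * x⁻¹ * l⁻¹) := by group
          rw [e]
          exact K.mul_mem hxK (hKnorm l hl _ (K.inv_mem hxK))
        have hz : (⟨⁅x, l⁆, hzL⟩ : L) ∈ Subgroup.center ↥L := h (by
          rw [Subgroup.mem_subgroupOf]; exact hzK)
        rw [Subgroup.mem_center_iff] at hz
        rw [Subgroup.mem_centralizer_iff]
        intro g hg
        have := hz ⟨g, hg⟩
        exact congrArg Subtype.val this
      have h2 := commutator_eq_bot_of_perfect L (Subgroup.zpowers c) hperf h1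
      rw [Subgroup.commutator_eq_bot_iff_le_centralizer] at h2
      have h3 := h2 (Subgroup.mem_zpowers c)
      rw [Subgroup.mem_centralizer_iff] at h3
      intro l hl
      exact (h3 l hl).symm
  -- the orbit
  obtain ⟨a, ha⟩ : ∃ a, c a ≠ a := by
    by_contra h
    push Not at h
    have : c = 1 := Equiv.ext h
    rw [this] at hc3
    exact hc3.ne_one rfl
  let p : Fin n → Prop := fun x => x ∈ MulAction.orbit K a
  have hp_iff : ∀ x, p x ↔ ∃ k ∈ K, k a = x := by
    intro x
    constructor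
    · rintro ⟨k, hk⟩
      exact ⟨k, k.2, hk⟩
    · rintro ⟨k, hk, rfl⟩
      exact ⟨⟨k, hk⟩, rfl⟩
  have hCp : ∀ g ∈ C, ∀ x, g x ≠ x → p x := by
    rintro g ⟨l, hl, rfl⟩ x hx
    have h1 : c (l⁻¹ x) ≠ l⁻¹ x := by
      intro h
      apply hx
      simp only [Perm.mul_apply]
      rw [h]; simp
    obtain ⟨i, hi⟩ := hc3.isCycle.exists_zpow_eq ha h1
    rw [hp_iff]
    refine ⟨l * c ^ i, K.mul_mem (hLK hl) (K.zpow_mem hcK i), ?_⟩
    rw [Perm.mul_apply, hi]; simp
  have htr : ∀ x y, p x → p y → ∃ k ∈ Subgroup.closure C, k x = y := by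
    intro x y hx hy
    obtain ⟨k₁, hk₁, rfl⟩ := (hp_iff x).mp hx
    obtain ⟨k₂, hk₂, rfl⟩ := (hp_iff y).mp hy
    exact ⟨k₂ * k₁⁻¹, K.mul_mem hk₂ (K.inv_mem hk₁), by simp⟩
  have hKeq : K = (alternatingGroup (Subtype p)).map
      (ofSubtype : Perm (Subtype p) →* Perm (Fin n)) :=
    closure_threeCycles_eq_alt p C hC3 hCp ⟨c, hcC⟩ htr
  -- the isomorphism
  set m := Fintype.card (Subtype p) with hm
  let e1 : ↥(alternatingGroup (Subtype p)) ≃*
      ↥((alternatingGroup (Subtype p)).map (ofSubtype : Perm (Subtype p) →* Perm (Fin n))) :=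
    Subgroup.equivMapOfInjective _ _ ofSubtype_injective
  let e2 : ↥K ≃*
      ↥((alternatingGroup (Subtype p)).map (ofSubtype : Perm (Subtype p) →* Perm (Fin n))) :=
    MulEquiv.subgroupCongr hKeq
  let e3 : ↥(alternatingGroup (Subtype p)) ≃* ↥(alternatingGroup (Fin m)) :=
    Equiv.altCongrHom (Fintype.equivFin (Subtype p))
  let eK : ↥K ≃* ↥(alternatingGroup (Fin m)) := e2.trans (e1.symm.trans e3)
  have hm5 : 5 ≤ m := by
    by_contra hlt
    push Not at hlt
    apply hnsolv
    have : Group.IsSolvable (Perm (Subtype p)) :=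
      ⟨⟨3, Cfsg.Agent.S4337.derivedSeries_perm_small (by omega)⟩⟩
    let f : ↥L →* Perm (Subtype p) :=
      (alternatingGroup (Subtype p)).subtype.comp
        ((e2.trans e1.symm).toMonoidHom.comp (Subgroup.inclusion hLK))
    have hf : Function.Injective f := by
      intro x y hxy
      have h1 := Subtype.val_injective hxy
      have h2 := (e2.trans e1.symm).injective h1
      exact Subgroup.inclusion_injective hLK h2
    exact Group.isSolvable_of_isSolvable_injective hf
  -- `L = K`
  have hKL : K ≤ L := by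
    have : IsSimpleGroup ↥(alternatingGroup (Fin m)) :=
      alternatingGroup.isSimpleGroup (by simpa using hm5)
    have hN : (L.subgroupOf K).Normal := by
      constructor
      intro x hx g
      rw [Subgroup.mem_subgroupOf] at hx ⊢
      exact hnorm g (hKH g.2) x hx
    have hN' : ((L.subgroupOf K).map eK.toMonoidHom).Normal :=
      hN.map _ eK.surjective
    rcases hN'.eq_bot_or_eq_top with h | h
    · exfalso
      rw [Subgroup.map_eq_bot_iff_of_injective _ eK.injective] at h
      obtain ⟨x, hx⟩ := exists_ne (1 : ↥L)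
      apply hx
      have : (⟨x, hLK x.2⟩ : K) ∈ L.subgroupOf K := by
        rw [Subgroup.mem_subgroupOf]; exact x.2
      rw [h, Subgroup.mem_bot] at this
      have h5 : ((⟨x, hLK x.2⟩ : K) : Perm (Fin n)) = ((1 : K) : Perm (Fin n)) :=
        congrArg Subtype.val this
      exact Subtype.ext h5
    · intro k hk
      have h1 : eK.toMonoidHom ⟨k, hk⟩ ∈ (L.subgroupOf K).map eK.toMonoidHom := by
        rw [h]; exact Subgroup.mem_top _
      obtain ⟨x, hx, hxk⟩ := h1
      have h2 : x = ⟨k, hk⟩ := eK.injective hxk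
      rw [h2] at hx
      have hx' : (⟨k, hk⟩ : K) ∈ L.subgroupOf K := hx
      rw [Subgroup.mem_subgroupOf] at hx'
      exact hx'
  have hLKeq : L = K := le_antisymm hLK hKL
  refine ⟨m, ?_, ⟨(MulEquiv.subgroupCongr hLKeq).trans eK⟩⟩
  -- the degree
  have hmn : m ≤ n := by
    have := Fintype.card_subtype_le p
    simpa using this
  have hcompl : Fintype.card {x // ¬ p x} = n - m := by
    rw [Fintype.card_subtype_compl, Fintype.card_fin]
  have h2 : n - m ≤ 3 := by
    by_contra hlt
    push Not at hlt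
    have h3 : Fintype.card (Fin 4) ≤ Fintype.card {x // ¬ p x} := by
      rw [hcompl, Fintype.card_fin]; exact hlt
    obtain ⟨f⟩ := Function.Embedding.nonempty_of_card_le h3
    have hne : ∀ i j : Fin 4, i ≠ j → ((f i : {x // ¬ p x}) : Fin n) ≠ f j :=
      fun i j hij h => hij (f.injective (Subtype.ext h))
    apply hF (f 0) (f 1) (f 2) (f 3) (hne _ _ (by decide)) (hne _ _ (by decide))
      (hne _ _ (by decide)) (hne _ _ (by decide)) (hne _ _ (by decide)) (hne _ _ (by decide))
    intro l hl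
    have hlK := hLK hl
    rw [hKeq] at hlK
    obtain ⟨r, -, rfl⟩ := hlK
    apply Perm.Disjoint.commute
    intro w
    by_cases hw : p w
    · left
      have hwf : ∀ i : Fin 4, w ≠ f i := fun i h => (f i).2 (h ▸ hw)
      exact dt_of_ne (hwf 0) (hwf 1) (hwf 2) (hwf 3)
    · right
      exact ofSubtype_apply_of_not_mem r hw
  omega

/-- the main theorem -/
theorem main (hn : 8 ≤ n) (H L : Subgroup (Perm (Fin n)))
    (P : Sylow 2 ↥(alternatingGroup (Fin n)))
    (hPH : (P : Subgroup ↥(alternatingGroup (Fin n))).map (alternatingGroup (Fin n)).subtype ≤ H)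
    (S : Setup H L) :
    ∃ m : ℕ, (m = n - 3 ∨ m = n - 2 ∨ m = n - 1 ∨ m = n) ∧
      Nonempty (↥L ≃* ↥(alternatingGroup (Fin m))) := by
  obtain ⟨a, b, c, d, a', b', c', d', V, V', hdisj⟩ := exists_v4_pair hn H P hPH
  have h64 := dvd_card_of_sylow hn H P hPH
  have hF : ∀ p q r s : Fin n, p ≠ q → p ≠ r → p ≠ s → q ≠ r → q ≠ s → r ≠ s →
      ¬ ∀ l ∈ L, dt p q r s * l = l * dt p q r s :=
    fun p q r s hpq hpr hps hqr hqs hrs => no_central_dt S P hPH hpq hpr hps hqr hqs hrs
  have h8 := eight_le_ncard_moved S V V' hdisj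
  obtain ⟨k, hkH, hk3⟩ : ∃ k ∈ H, k.IsThreeCycle := by
    rcases Nat.lt_or_ge 8 (moved L).ncard with h9 | h9
    · obtain ⟨ha, hb, hc, hd⟩ := support_subset_moved S V V' hdisj
      exact exists_threeCycle H (moved L)
        (fun x₁ x₂ x₃ y₁ y₂ y₃ h1 h2 h3 h4 h5 h6 h7 h8 h9 h10 h11 h12 =>
          three_transitive S V V' hdisj x₁ x₂ x₃ y₁ y₂ y₃ h1 h2 h3 h4 h5 h6 h7 h8 h9 h10 h11 h12)
        ha hb hc hd V.ab V.ac V.ad V.bc V.bd V.cd V.m1 h9
    · obtain ⟨k, hkL, hk3⟩ := exists_threeCycle_eight S V V' hdisj (le_antisymm h9 h8) h64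
      exact ⟨k, S.le hkL, hk3⟩
  exact finish H L S k hkH hk3 hF

end Cfsg.Agent.Lib.Helper20.Syl2Over
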