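import Mathlib
import Cfsg.Agent.Lib.Helper20.SylMaxC

/-!
3-subgroups of alternating groups lying in a unique maximal subgroup (helper20), part A:
the number of fixed-point-free elements of order 3 on `3m` points is prime to 3, and a 3-group
acting on `3m` points centralizes such an element.
-/

set_option autoImplicit false

namespace Cfsg.Agent.Lib.Helper20.Syl3Alt

open Equiv Equiv.Perm Subgroup MulAction
open scoped Pointwise Nat

/-- `∏_{j<m} (3j+1)(3j+2)` -/
def triProd : ℕ → ℕ
  | 0 => 1
  | (m + 1) => triProd m * ((3 * m + 1) * (3 * m + 2))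

theorem factorial_three_mul (m : ℕ) : (3 * m)! = 3 ^ m * m ! * triProd m := by
  induction m with
  | zero => simp [triProd]
  | succ m ih =>
    rw [show 3 * (m + 1) = 3 * m + 1 + 1 + 1 by ring, Nat.factorial_succ, Nat.factorial_succ,
      Nat.factorial_succ, ih, triProd, pow_succ, Nat.factorial_succ]
    ring

theorem not_dvd_triProd (m : ℕ) : ¬ 3 ∣ triProd m := by
  induction m with
  | zero => simp [triProd]
  | succ m ih =>
    rw [triProd]
    intro h
    rcases (Nat.Prime.dvd_mul Nat.prime_three).mp h with h | h
    · exact ih h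
    · rcases (Nat.Prime.dvd_mul Nat.prime_three).mp h with h | h <;> omega

/-- the number of fixed-point-free elements of order three on `3m` points is prime to 3 -/
theorem not_dvd_card_tri {β : Type*} [Fintype β] [DecidableEq β] (m : ℕ) (hm : 1 ≤ m)
    (hβ : Fintype.card β = 3 * m) :
    ¬ 3 ∣ (Finset.univ.filter
      (fun g : Equiv.Perm β => g.cycleType = Multiset.replicate m 3)).card := by
  rw [Equiv.Perm.card_of_cycleType]
  have hsum : (Multiset.replicate m 3).sum = 3 * m := by simp [mul_comm]
  have hprod : (Multiset.replicate m 3).prod = 3 ^ m := by simp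
  have htf : (Multiset.replicate m 3).toFinset = {3} := by
    rw [Multiset.toFinset_replicate]; simp; omega
  rw [if_pos ⟨by rw [hsum, hβ], fun a ha => by rw [Multiset.eq_of_mem_replicate ha]; norm_num⟩]
  rw [hsum, hprod, htf, hβ]
  simp only [Nat.sub_self, Nat.factorial_zero, one_mul, Finset.prod_singleton,
    Multiset.count_replicate_self]
  rw [factorial_three_mul m, Nat.mul_div_cancel_left _ (by positivity)]
  exact not_dvd_triProd m

/-- fixed point lemma for a `p`-group acting through a homomorphism -/
theorem exists_fixed_of_not_dvd (p : ℕ) [Fact p.Prime] {P : Type*} [Group P] [Finite P]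
    (hP : IsPGroup p P)
    {Γ : Type*} [Group Γ] (f : P →* Γ) {X : Type*} [MulAction Γ X] (S : Finset X)
    (hS : ∀ g : P, ∀ x ∈ S, f g • x ∈ S) (hnd : ¬ p ∣ S.card) :
    ∃ x ∈ S, ∀ g : P, f g • x = x := by
  classical
  let _ : MulAction P X := MulAction.compHom X f
  let T : SubMulAction P X := ⟨↑S, fun g x hx => hS g x hx⟩
  have hfin : Finite T := Finite.of_injective (fun t : T => (⟨t.1, t.2⟩ : (S : Set X)))
    (fun a b h => by
      apply Subtype.ext
      exact congrArg (fun u : (S : Set X) => (u : X)) h)
  have hcard : Nat.card T = S.card := by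
    have : Nat.card T = Nat.card (S : Set X) := Nat.card_congr
      ⟨fun t => ⟨t.1, t.2⟩, fun t => ⟨t.1, t.2⟩, fun _ => rfl, fun _ => rfl⟩
    rw [this, Nat.card_coe_set_eq, Set.ncard_coe_finset]
  have hnd' : ¬ p ∣ Nat.card T := by rw [hcard]; exact hnd
  obtain ⟨⟨x, hx⟩, hfix⟩ := hP.nonempty_fixed_point_of_prime_not_dvd_card T hnd'
  refine ⟨x, hx, fun g => ?_⟩
  have := hfix g
  exact congrArg Subtype.val this

/-- a 3-group acting on `3m` points commutes with a fixed-point-free element of order 3 -/
theorem exists_commuting_tri {P : Type*} [Group P] [Finite P] (hP : IsPGroup 3 P)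
    {β : Type*} [Fintype β] [DecidableEq β] [MulAction P β] (m : ℕ) (hm : 1 ≤ m)
    (hβ : Fintype.card β = 3 * m) :
    ∃ z : Perm β, z.cycleType = Multiset.replicate m 3 ∧
      ∀ (g : P) (b : β), z (g • b) = g • z b := by
  obtain ⟨z, hz, hfix⟩ := exists_fixed_of_not_dvd 3 hP
    ((ConjAct.toConjAct (G := Perm β)).toMonoidHom.comp (MulAction.toPermHom P β))
    (Finset.univ.filter (fun g : Perm β => g.cycleType = Multiset.replicate m 3))
    (fun g z hz => by
      rw [Finset.mem_filter] at hz ⊢
      refine ⟨Finset.mem_univ _, ?_⟩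
      rw [← hz.2]
      simp only [MonoidHom.coe_comp, Function.comp_apply, ConjAct.smul_def]
      exact cycleType_conj)
    (not_dvd_card_tri m hm hβ)
  refine ⟨z, (Finset.mem_filter.mp hz).2, fun g b => ?_⟩
  have h1 := hfix g
  simp only [MonoidHom.coe_comp, Function.comp_apply, ConjAct.smul_def] at h1
  have h2 : MulAction.toPermHom P β g * z = z * MulAction.toPermHom P β g := by
    have := congrArg (fun t => t * MulAction.toPermHom P β g) h1
    simpa [mul_assoc] using this
  have h3 := congrArg (fun t : Perm β => t b) h2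
  simp only [Perm.mul_apply, MulAction.toPermHom_apply, MulAction.toPerm_apply] at h3
  exact h3.symm

/-- the cycle type `3^m` on `3m` points: fixed-point-free of order three -/
theorem tri_of_cycleType {β : Type*} [Fintype β] [DecidableEq β] (z : Perm β) (m : ℕ)
    (hm : 1 ≤ m) (hβ : Fintype.card β = 3 * m)
    (hz : z.cycleType = Multiset.replicate m 3) :
    (∀ x, z (z (z x)) = x) ∧ ∀ x, z x ≠ x := by
  constructor
  · have h1 : orderOf z = 3 := by
      rw [← lcm_cycleType, hz]
      obtain ⟨c, rfl⟩ : ∃ c, m = c + 1 := ⟨m - 1, by omega⟩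
      clear hm hβ hz
      induction c with
      | zero => simp
      | succ c ih => rw [Multiset.replicate_succ, Multiset.lcm_cons, ih]; simp
    have h2 : z ^ 3 = 1 := by rw [← h1]; exact pow_orderOf_eq_one z
    intro x
    have := congrArg (fun f : Perm β => f x) h2
    simpa [pow_succ, Perm.mul_apply] using this
  · have h1 : z.support.card = Fintype.card β := by
      rw [← sum_cycleType, hz, hβ]; simp [mul_comm]
    have h2 : z.support = Finset.univ := by
      rw [← Finset.card_eq_iff_eq_univ]; exact h1
    intro x
    rw [← Perm.mem_support, h2]; exact Finset.mem_univ _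

end Cfsg.Agent.Lib.Helper20.Syl3Alt
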