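import Mathlib
import Cfsg.Agent.Lib.Helper20.Syl3AltA
import Cfsg.Agent.Lib.Helper20.SylMaxE

/-!
3-subgroups of alternating groups lying in a unique maximal subgroup (helper20), part B:
orbits of a fixed-point-free element of order 3, partition stabilizers, and an even element
of the orbit-partition stabilizer exchanging two orbits.
-/

set_option autoImplicit false

namespace Cfsg.Agent.Lib.Helper20.Syl3Alt

open Equiv Equiv.Perm Subgroup MulAction
open scoped Pointwise

section orb

variable {β : Type*} [DecidableEq β]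

/-- fixed-point-free of order three -/
structure IsTri {β : Type*} (z : Perm β) : Prop where
  cube : ∀ x, z (z (z x)) = x
  fpf : ∀ x, z x ≠ x

/-- the orbit of `x` under an element of order three -/
def orb (z : Perm β) (x : β) : Finset β := {x, z x, z (z x)}

theorem mem_orb (z : Perm β) (x y : β) : y ∈ orb z x ↔ y = x ∨ y = z x ∨ y = z (z x) := by
  simp [orb]

omit [DecidableEq β] in
theorem IsTri.ne2 {z : Perm β} (h : IsTri z) (x : β) : z (z x) ≠ x := by
  intro e
  have := h.cube x
  rw [e] at this
  exact h.fpf x this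

theorem self_mem_orb (z : Perm β) (x : β) : x ∈ orb z x := by simp [orb]

theorem apply_mem_orb (z : Perm β) (x : β) : z x ∈ orb z x := by simp [orb]

theorem apply2_mem_orb (z : Perm β) (x : β) : z (z x) ∈ orb z x := by simp [orb]

theorem orb_apply {z : Perm β} (h : IsTri z) (x : β) : orb z (z x) = orb z x := by
  ext w
  simp only [mem_orb, h.cube]
  tauto

theorem orb_eq_of_mem {z : Perm β} (h : IsTri z) {x y : β} (hy : y ∈ orb z x) :
    orb z y = orb z x := by
  rw [mem_orb] at hy
  rcases hy with rfl | rfl | rfl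
  · rfl
  · exact orb_apply h x
  · rw [orb_apply h, orb_apply h]

theorem orb_eq_iff {z : Perm β} (h : IsTri z) (x y : β) : orb z y = orb z x ↔ y ∈ orb z x :=
  ⟨fun e => e ▸ self_mem_orb z y, orb_eq_of_mem h⟩

theorem card_orb {z : Perm β} (h : IsTri z) (x : β) : (orb z x).card = 3 := by
  unfold orb
  rw [Finset.card_insert_of_notMem, Finset.card_insert_of_notMem, Finset.card_singleton]
  · rw [Finset.mem_singleton]; exact (h.fpf (z x)).symm
  · rw [Finset.mem_insert, Finset.mem_singleton, not_or]
    exact ⟨(h.fpf x).symm, (h.ne2 x).symm⟩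

theorem orb_image (z σ : Perm β) (hσ : ∀ b, σ (z b) = z (σ b)) (x : β) :
    orb z (σ x) = (orb z x).image σ := by
  simp [orb, Finset.image_insert, hσ]

/-- elements of a different orbit are not in the orbit -/
theorem notMem_orb_of {z : Perm β} (h : IsTri z) {x y u : β} (hy : y ∉ orb z x)
    (hu : u ∈ orb z y) : u ∉ orb z x := by
  intro hux
  apply hy
  rw [← orb_eq_iff h, ← orb_eq_of_mem h hu, orb_eq_of_mem h hux]

theorem ne_of_orb {z : Perm β} (h : IsTri z) {x y a b : β} (hy : y ∉ orb z x)
    (ha : a ∈ orb z x) (hb : b ∈ orb z y) : a ≠ b := by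
  rintro rfl
  exact notMem_orb_of h hy hb ha

end orb

section part

variable {α : Type*} {γ : Type*}

/-- the stabilizer of the partition of `α` into the fibres of `c` -/
def partStab (c : α → γ) : Subgroup (Perm α) where
  carrier := {g | ∀ x y, c (g x) = c (g y) ↔ c x = c y}
  mul_mem' := by
    intro a b ha hb x y
    rw [Perm.mul_apply, Perm.mul_apply, ha, hb]
  one_mem' := fun x y => Iff.rfl
  inv_mem' := by
    intro a ha x y
    have := ha (a⁻¹ x) (a⁻¹ y)
    rw [show a (a⁻¹ x) = x from a.apply_symm_apply x,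
      show a (a⁻¹ y) = y from a.apply_symm_apply y] at this
    exact this.symm

theorem mem_partStab (c : α → γ) (g : Perm α) :
    g ∈ partStab c ↔ ∀ x y, c (g x) = c (g y) ↔ c x = c y := Iff.rfl

theorem mem_partStab_of_fix (c : α → γ) (g : Perm α) (h : ∀ x, c (g x) = c x) :
    g ∈ partStab c := by
  intro x y; rw [h, h]

theorem mem_partStab_of_map (c : α → γ) (g : Perm α) (σ : γ → γ)
    (hσ : Function.Injective σ) (h : ∀ x, c (g x) = σ (c x)) : g ∈ partStab c := by
  intro x y; rw [h, h]; exact hσ.eq_iff

end part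

section elts

variable {β : Type*} [DecidableEq β]

theorem comm_mem_partStab_orb (z g : Perm β) (hg : ∀ b, g (z b) = z (g b)) :
    g ∈ partStab (orb z) :=
  mem_partStab_of_map _ g (Finset.image g) (Finset.image_injective g.injective)
    (orb_image z g hg)

theorem swap_mem_partStab_orb {z : Perm β} (h : IsTri z) (x : β) :
    swap x (z x) ∈ partStab (orb z) := by
  apply mem_partStab_of_fix
  intro u
  by_cases h1 : u = x
  · subst h1; rw [swap_apply_left, orb_apply h]
  by_cases h2 : u = z x
  · subst h2; rw [swap_apply_right, orb_apply h]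
  rw [swap_apply_of_ne_of_ne h1 h2]

/-- the product of three transpositions exchanging two orbits -/
def eEl (z : Perm β) (x y : β) : Perm β :=
  swap x y * swap (z x) (z y) * swap (z (z x)) (z (z y))

/-- an even element exchanging two orbits -/
def hEl (z : Perm β) (x y : β) : Perm β := eEl z x y * swap x (z x)

variable [Fintype β]

theorem eEl_comm {z : Perm β} (h : IsTri z) {x y : β} (hy : y ∉ orb z x) :
    z * eEl z x y = eEl z x y * z := by
  have n1 := ne_of_orb h hy (self_mem_orb z x) (apply_mem_orb z y)
  have n2 := ne_of_orb h hy (self_mem_orb z x) (apply2_mem_orb z y)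
  have n3 := ne_of_orb h hy (apply_mem_orb z x) (self_mem_orb z y)
  have n4 := ne_of_orb h hy (apply2_mem_orb z x) (self_mem_orb z y)
  have hA : z * swap x y = swap (z x) (z y) * z := by rw [swap_apply_apply z x y]; group
  have hB : z * swap (z x) (z y) = swap (z (z x)) (z (z y)) * z := by
    rw [swap_apply_apply z (z x) (z y)]; group
  have hC : z * swap (z (z x)) (z (z y)) = swap x y * z := by
    have := swap_apply_apply z (z (z x)) (z (z y))
    rw [h.cube, h.cube] at this
    rw [this]; group
  have c1 : swap x y * swap (z x) (z y) = swap (z x) (z y) * swap x y :=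
    SylMax.swap_comm_of_ne (h.fpf x).symm n1 n3.symm (h.fpf y).symm
  have c2 : swap x y * swap (z (z x)) (z (z y)) = swap (z (z x)) (z (z y)) * swap x y :=
    SylMax.swap_comm_of_ne (h.ne2 x).symm n2 n4.symm (h.ne2 y).symm
  unfold eEl
  calc z * (swap x y * swap (z x) (z y) * swap (z (z x)) (z (z y)))
      = (z * swap x y) * swap (z x) (z y) * swap (z (z x)) (z (z y)) := by group
    _ = swap (z x) (z y) * (z * swap (z x) (z y)) * swap (z (z x)) (z (z y)) := by
        rw [hA]; group
    _ = swap (z x) (z y) * swap (z (z x)) (z (z y)) * (z * swap (z (z x)) (z (z y))) := by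
        rw [hB]; group
    _ = swap (z x) (z y) * (swap (z (z x)) (z (z y)) * swap x y) * z := by rw [hC]; group
    _ = (swap (z x) (z y) * swap x y) * swap (z (z x)) (z (z y)) * z := by rw [← c2]; group
    _ = swap x y * swap (z x) (z y) * swap (z (z x)) (z (z y)) * z := by rw [← c1]

theorem hEl_mem {z : Perm β} (h : IsTri z) {x y : β} (hy : y ∉ orb z x) :
    hEl z x y ∈ partStab (orb z) := by
  refine Subgroup.mul_mem _ (comm_mem_partStab_orb z _ (fun b => ?_)) (swap_mem_partStab_orb h x)
  have := congrArg (fun f : Perm β => f b) (eEl_comm h hy)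
  simpa [Perm.mul_apply] using this.symm

theorem sign_hEl {z : Perm β} (h : IsTri z) {x y : β} (hy : y ∉ orb z x) :
    sign (hEl z x y) = 1 := by
  have n0 := ne_of_orb h hy (self_mem_orb z x) (self_mem_orb z y)
  have n1 : z x ≠ z y := fun e => n0 (z.injective e)
  have n2 : z (z x) ≠ z (z y) := fun e => n1 (z.injective e)
  unfold hEl eEl
  rw [Perm.sign_mul, Perm.sign_mul, Perm.sign_mul, sign_swap n0, sign_swap n1, sign_swap n2,
    sign_swap (h.fpf x).symm]
  rfl

omit [Fintype β] in
theorem hEl_apply {z : Perm β} (h : IsTri z) {x y : β} (hy : y ∉ orb z x) :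
    hEl z x y x = z y := by
  have n1 := ne_of_orb h hy (apply_mem_orb z x) (apply2_mem_orb z y)
  have n2 := ne_of_orb h hy (self_mem_orb z x) (apply_mem_orb z y)
  unfold hEl eEl
  rw [Perm.mul_apply, swap_apply_left, Perm.mul_apply, Perm.mul_apply,
    swap_apply_of_ne_of_ne (h.fpf (z x)).symm n1, swap_apply_left,
    swap_apply_of_ne_of_ne n2.symm (h.fpf y)]

omit [Fintype β] in
theorem hEl_apply_of_notMem {z : Perm β} {x y w : β} (hx : w ∉ orb z x)
    (hw : w ∉ orb z y) : hEl z x y w = w := by
  rw [mem_orb] at hx hw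
  simp only [not_or] at hx hw
  unfold hEl eEl
  rw [Perm.mul_apply, swap_apply_of_ne_of_ne hx.1 hx.2.1, Perm.mul_apply, Perm.mul_apply,
    swap_apply_of_ne_of_ne hx.2.2 hw.2.2, swap_apply_of_ne_of_ne hx.2.1 hw.2.1,
    swap_apply_of_ne_of_ne hx.1 hw.1]

end elts

end Cfsg.Agent.Lib.Helper20.Syl3Alt
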