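import Mathlib
import Cfsg.Agent.Lib.Helper20.Syl3AltB

/-!
3-subgroups of alternating groups lying in a unique maximal subgroup (helper20), part C:
the set of orbits of a fixed-point-free element of order 3 as a set with group action, and the
generation lemma for a set stabilizer and a second subgroup.
-/

set_option autoImplicit false

namespace Cfsg.Agent.Lib.Helper20.Syl3Alt

open Equiv Equiv.Perm Subgroup MulAction
open scoped Pointwise

section quot

variable {α : Type*} [DecidableEq α] {P : Type*} [Group P] [MulAction P α]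

theorem smul_orb (z : Perm α) (hz : ∀ (g : P) (b : α), z (g • b) = g • z b) (g : P) (x : α) :
    g • orb z x = orb z (g • x) := by
  simp [orb, Finset.smul_finset_insert, hz]

/-- the set of orbits of `z`, with the action of a group commuting with `z` -/
def orbSub (P : Type*) [Group P] [MulAction P α] (z : Perm α)
    (hz : ∀ (g : P) (b : α), z (g • b) = g • z b) : SubMulAction P (Finset α) where
  carrier := {ω | ∃ x, orb z x = ω}
  smul_mem' := by
    rintro g ω ⟨x, rfl⟩
    exact ⟨g • x, (smul_orb z hz g x).symm⟩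

/-- the orbit map -/
def orbMk (z : Perm α) (hz : ∀ (g : P) (b : α), z (g • b) = g • z b) (x : α) :
    orbSub P z hz := ⟨orb z x, x, rfl⟩

theorem orbMk_smul (z : Perm α) (hz : ∀ (g : P) (b : α), z (g • b) = g • z b) (g : P) (x : α) :
    orbMk z hz (g • x) = g • orbMk z hz x := by
  apply Subtype.ext
  exact (smul_orb z hz g x).symm

theorem orbMk_surjective (z : Perm α) (hz : ∀ (g : P) (b : α), z (g • b) = g • z b) :
    Function.Surjective (orbMk (P := P) z hz) := by
  rintro ⟨ω, x, rfl⟩
  exact ⟨x, rfl⟩

theorem orbMk_eq_iff {z : Perm α} (h : IsTri z) (hz : ∀ (g : P) (b : α), z (g • b) = g • z b)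
    (x y : α) : orbMk (P := P) z hz y = orbMk z hz x ↔ y ∈ orb z x := by
  rw [← orb_eq_iff h]
  exact Subtype.ext_iff

theorem orbMk_apply {z : Perm α} (h : IsTri z) (hz : ∀ (g : P) (b : α), z (g • b) = g • z b)
    (x : α) : orbMk (P := P) z hz (z x) = orbMk z hz x :=
  (orbMk_eq_iff h hz x (z x)).mpr (apply_mem_orb z x)

theorem card_orbSub [Fintype α] {z : Perm α} (h : IsTri z)
    (hz : ∀ (g : P) (b : α), z (g • b) = g • z b) :
    Fintype.card α = 3 * Nat.card (orbSub P z hz) := by
  classical
  have : Fintype (orbSub P z hz) := Fintype.ofFinite _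
  rw [Nat.card_eq_fintype_card, ← Finset.card_univ (α := α),
    Finset.card_eq_sum_card_fiberwise (f := orbMk (P := P) z hz) (s := Finset.univ)
      (t := Finset.univ) (fun x _ => Finset.mem_univ _)]
  have : ∀ b ∈ (Finset.univ : Finset (orbSub P z hz)),
      (Finset.univ.filter (fun a => orbMk (P := P) z hz a = b)).card = 3 := by
    intro b _
    obtain ⟨x, rfl⟩ := orbMk_surjective z hz b
    have : Finset.univ.filter (fun a => orbMk (P := P) z hz a = orbMk z hz x) = orb z x := by
      ext y
      simp [orbMk_eq_iff h hz]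
    rw [this, card_orb h]
  rw [Finset.sum_congr rfl this, Finset.sum_const, Finset.card_univ, smul_eq_mul, mul_comm]

end quot

section gen

variable {α : Type*} [Fintype α] [DecidableEq α]

/-- symmetric version of the generation lemma -/
theorem alt_le_of_stab' (K : Subgroup (Perm α)) (s : Set α)
    (hK : stabilizer (Perm α) s ⊓ alternatingGroup α ≤ K)
    (hs2 : 2 ≤ s.ncard) (hsc2 : 2 ≤ sᶜ.ncard) (hn : 5 ≤ Fintype.card α)
    (h : Perm α) (hh : h ∈ K) (h1 : h • s ≠ s) (h2 : h • s ≠ sᶜ) :
    alternatingGroup α ≤ K := by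
  have hsum := Set.ncard_add_ncard_compl s
  rw [Nat.card_eq_fintype_card] at hsum
  rcases le_total sᶜ.ncard s.ncard with hle | hle
  · exact SylMax.alt_le_of_stab K s hK (by omega)
      (Set.one_lt_ncard_iff_nontrivial.mp (by omega)) hle h hh h1 h2
  · apply SylMax.alt_le_of_stab K sᶜ (by rwa [stabilizer_compl]) (by omega)
      (by rw [compl_compl]; exact Set.one_lt_ncard_iff_nontrivial.mp (by omega))
      (by rwa [compl_compl]) h hh
    · rw [Set.smul_set_compl]
      intro e
      exact h1 (compl_injective e)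
    · rw [Set.smul_set_compl, compl_compl]
      intro e
      apply h2
      rw [← compl_compl (h • s), e]

/-- a set stabilizer and a second subgroup containing a suitable even element generate the
alternating group -/
theorem two_gen (s : Set α) (K₂ : Subgroup (Perm α)) (hs2 : 2 ≤ s.ncard) (hsc2 : 2 ≤ sᶜ.ncard)
    (hn : 5 ≤ Fintype.card α) (h : Perm α) (hK : h ∈ K₂) (hsgn : sign h = 1)
    (a : α) (ha : a ∈ s) (ha' : h a ∉ s) (b : α) (hb : b ∈ s ↔ h b ∈ s)
    (h' : Perm α) (hs' : sign h' = 1) (hK' : h' ∉ K₂) :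
    ¬ alternatingGroup α ≤ stabilizer (Perm α) s ∧ ¬ alternatingGroup α ≤ K₂ ∧
      alternatingGroup α ≤
        (stabilizer (Perm α) s ⊓ alternatingGroup α) ⊔ (K₂ ⊓ alternatingGroup α) := by
  have h1 : h • s ≠ s := by
    intro e
    apply ha'
    rw [← e]
    exact Set.smul_mem_smul_set (a := h) ha
  have h2 : h • s ≠ sᶜ := by
    intro e
    by_cases hbs : b ∈ s
    · have : h b ∈ h • s := Set.smul_mem_smul_set (a := h) hbs
      rw [e] at this
      exact this (hb.mp hbs)
    · have : h b ∈ sᶜ := fun hh => hbs (hb.mpr hh)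
      rw [← e] at this
      obtain ⟨b', hb', hbb⟩ := this
      have : b' = b := h.injective hbb
      exact hbs (this ▸ hb')
  refine ⟨fun hle => h1 (hle (mem_alternatingGroup.mpr hsgn)), fun hle =>
    hK' (hle (mem_alternatingGroup.mpr hs')), ?_⟩
  apply alt_le_of_stab' _ s le_sup_left hs2 hsc2 hn h _ h1 h2
  exact le_sup_right (a := stabilizer (Perm α) s ⊓ alternatingGroup α)
    ⟨hK, mem_alternatingGroup.mpr hsgn⟩

end gen

end Cfsg.Agent.Lib.Helper20.Syl3Alt
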