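import Mathlib
import Cfsg.Agent.Lib.Helper20.Syl3AltC
import Cfsg.Agent.Lib.Helper9.AltAut

/-!
3-subgroups of alternating groups lying in a unique maximal subgroup (helper20), part D:
two proper overgroups generating the alternating group, when the 3-group has a fixed point
or fixes an orbit of a centralized fixed-point-free element of order 3.
-/

set_option autoImplicit false

namespace Cfsg.Agent.Lib.Helper20.Syl3Alt

open Equiv Equiv.Perm Subgroup MulAction
open Cfsg.Agent.Lib.Helper9.AltAut (c3 c3_apply_fst c3_apply_snd c3_apply_trd c3_apply_of_ne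
  isThreeCycle_c3 conj_c3)
open scoped Pointwise

variable {α : Type*} [Fintype α] [DecidableEq α]

/-- the acting group lies in two subgroups of the symmetric group, neither containing the
alternating group, whose even parts generate the alternating group -/
def TwoOver (α : Type*) [Fintype α] [DecidableEq α] (P : Type*) [Group P] [MulAction P α] :
    Prop :=
  ∃ K₁ K₂ : Subgroup (Perm α), (∀ g : P, (MulAction.toPerm g : Perm α) ∈ K₁) ∧
    (∀ g : P, (MulAction.toPerm g : Perm α) ∈ K₂) ∧
    ¬ alternatingGroup α ≤ K₁ ∧ ¬ alternatingGroup α ≤ K₂ ∧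
    alternatingGroup α ≤ (K₁ ⊓ alternatingGroup α) ⊔ (K₂ ⊓ alternatingGroup α)

omit [Fintype α] [DecidableEq α] in
theorem toPerm_smul_set {P : Type*} [Group P] [MulAction P α] (g : P) (s : Set α) :
    (MulAction.toPerm g : Perm α) • s = g • s := rfl

theorem sign_c3 {a b c : α} (hab : a ≠ b) (hac : a ≠ c) (hbc : b ≠ c) : sign (c3 a b c) = 1 :=
  (isThreeCycle_c3 hab hac hbc).sign

theorem exists_notMem_of_card_lt (F : Finset α) (hF : F.card < Fintype.card α) :
    ∃ b, b ∉ F := by
  by_contra hcon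
  push Not at hcon
  rw [Finset.eq_univ_iff_forall.mpr hcon, Finset.card_univ] at hF
  exact lt_irrefl _ hF

theorem twoOver_of_fixed {P : Type*} [Group P] [MulAction P α] (x : α)
    (hx : ∀ g : P, g • x = x) (s : Set α)
    (hs : ∀ g : P, (MulAction.toPerm g : Perm α) • s = s)
    (hs2 : 2 ≤ s.ncard) (hsc2 : 2 ≤ sᶜ.ncard) (hn : 5 ≤ Fintype.card α)
    (a w : α) (ha : a ∈ s) (hax : a ≠ x) (hw : w ∉ s) (hwx : w ≠ x) : TwoOver α P := by
  have haw : a ≠ w := fun e => hw (e ▸ ha)
  obtain ⟨v, hv⟩ := exists_notMem_of_card_lt ({x, a, w} : Finset α)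
    (lt_of_le_of_lt Finset.card_le_three (by omega))
  simp only [Finset.mem_insert, Finset.mem_singleton, not_or] at hv
  obtain ⟨hvx, hva, hvw⟩ := hv
  obtain ⟨n1, n2, n3⟩ := two_gen s (stabilizer (Perm α) x) hs2 hsc2 hn (c3 a w v)
    (c3_apply_of_ne hax.symm hwx.symm (Ne.symm hvx)) (sign_c3 haw (Ne.symm hva) (Ne.symm hvw))
    a ha (by rw [c3_apply_fst haw (Ne.symm hva)]; exact hw) x
    (by rw [c3_apply_of_ne hax.symm hwx.symm (Ne.symm hvx)])
    (c3 x a w) (sign_c3 hax.symm hwx.symm haw)
    (by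
      intro hmem
      have h1 : c3 x a w x = x := hmem
      rw [c3_apply_fst hax.symm hwx.symm] at h1
      exact hax h1)
  exact ⟨stabilizer (Perm α) s, stabilizer (Perm α) x, fun g => hs g, fun g => hx g, n1, n2, n3⟩

/-- the case of a fixed point -/
theorem twoOver_of_fixedPoint {P : Type*} [Group P] [Finite P] (hP : IsPGroup 3 P)
    [MulAction P α] (hn : 5 ≤ Fintype.card α) (x : α) (hx : ∀ g : P, g • x = x)
    (hex : ¬ ∃ a : ℕ, 2 ≤ a ∧ Fintype.card α = 3 ^ a + 1) : TwoOver α P := by
  have hnt : Nontrivial α := Fintype.one_lt_card_iff_nontrivial.mp (by omega)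
  obtain ⟨y, hyx⟩ := exists_ne x
  have hxY : x ∉ orbit P y := by
    rintro ⟨g, hg⟩
    apply hyx
    have h1 : g • y = x := hg
    have h2 : g • y = g • x := by rw [h1, hx]
    exact MulAction.injective g h2
  have hYinv : ∀ g : P, (MulAction.toPerm g : Perm α) • orbit P y = orbit P y := fun g => by
    rw [toPerm_smul_set]
    exact smul_orbit g y
  by_cases hall : ∀ w, w ≠ x → w ∈ orbit P y
  · exfalso
    apply hex
    obtain ⟨k, hk⟩ := hP.card_orbit y
    have hYc : orbit P y = {x}ᶜ := by
      ext w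
      constructor
      · intro hw hwx
        rw [Set.mem_singleton_iff] at hwx
        exact hxY (hwx ▸ hw)
      · intro hw
        exact hall w hw
    have h1 := Set.ncard_add_ncard_compl ({x} : Set α)
    rw [Set.ncard_singleton, Nat.card_eq_fintype_card, ← hYc, ← Nat.card_coe_set_eq, hk] at h1
    refine ⟨k, ?_, by omega⟩
    by_contra hk2
    have : k = 0 ∨ k = 1 := by omega
    rcases this with rfl | rfl <;> norm_num at h1 <;> omega
  · push Not at hall
    obtain ⟨w, hwx, hwY⟩ := hall
    by_cases hyfix : ∀ g : P, g • y = y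
    · have hwy : w ≠ y := fun e => hwY (by rw [e]; exact mem_orbit_self y)
      refine twoOver_of_fixed x hx ({x, y} : Set α) ?_ ?_ ?_ hn y w (by simp) hyx ?_ hwx
      · intro g
        rw [toPerm_smul_set, Set.smul_set_insert, Set.smul_set_singleton, hx, hyfix]
      · rw [Set.ncard_pair hyx.symm]
      · have h1 := Set.ncard_add_ncard_compl ({x, y} : Set α)
        rw [Set.ncard_pair hyx.symm, Nat.card_eq_fintype_card] at h1
        omega
      · simp only [Set.mem_insert_iff, Set.mem_singleton_iff, not_or]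
        exact ⟨hwx, hwy⟩
    · push Not at hyfix
      obtain ⟨g0, hg0⟩ := hyfix
      refine twoOver_of_fixed x hx (orbit P y) hYinv ?_ ?_ hn y w (mem_orbit_self y) hyx hwY hwx
      · have : 1 < (orbit P y).ncard := by
          rw [Set.one_lt_ncard_iff]
          exact ⟨g0 • y, y, mem_orbit y g0, mem_orbit_self y, hg0⟩
        omega
      · have : 1 < (orbit P y)ᶜ.ncard := by
          rw [Set.one_lt_ncard_iff]
          exact ⟨x, w, hxY, hwY, hwx.symm⟩
        omega

/-- the case of a fixed orbit of a centralized fixed-point-free element of order 3 -/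
theorem twoOver_of_fixedOrb {P : Type*} [Group P] [MulAction P α] (hn : 9 ≤ Fintype.card α)
    (z : Perm α) (h : IsTri z) (hz : ∀ (g : P) (b : α), z (g • b) = g • z b) (x₀ : α)
    (hfix : ∀ g : P, g • orb z x₀ = orb z x₀) : TwoOver α P := by
  obtain ⟨y, hy⟩ := exists_notMem_of_card_lt (orb z x₀) (by rw [card_orb h]; omega)
  obtain ⟨b, hb⟩ := exists_notMem_of_card_lt (orb z x₀ ∪ orb z y)
    (lt_of_le_of_lt (Finset.card_union_le _ _) (by rw [card_orb h, card_orb h]; omega))
  rw [Finset.mem_union, not_or] at hb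
  have hzy : z y ∉ orb z x₀ := notMem_orb_of h hy (apply_mem_orb z y)
  have hs3 : ((orb z x₀ : Finset α) : Set α).ncard = 3 := by
    rw [Set.ncard_coe_finset, card_orb h]
  have n1 : x₀ ≠ y := fun e => hy (e ▸ self_mem_orb z x₀)
  have n2 : x₀ ≠ z y := fun e => hzy (e ▸ self_mem_orb z x₀)
  have n3 : z x₀ ≠ y := fun e => hy (e ▸ apply_mem_orb z x₀)
  have n4 : z x₀ ≠ z y := fun e => hzy (e ▸ apply_mem_orb z x₀)
  obtain ⟨m1, m2, m3⟩ := two_gen ((orb z x₀ : Finset α) : Set α) (partStab (orb z))
    (by omega)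
    (by
      have h1 := Set.ncard_add_ncard_compl ((orb z x₀ : Finset α) : Set α)
      rw [hs3, Nat.card_eq_fintype_card] at h1
      omega)
    (by omega) (hEl z x₀ y) (hEl_mem h hy) (sign_hEl h hy) x₀
    (by exact_mod_cast self_mem_orb z x₀)
    (by rw [hEl_apply h hy]; exact_mod_cast hzy) b
    (by rw [hEl_apply_of_notMem hb.1 hb.2])
    (c3 x₀ y (z y)) (sign_c3 n1 n2 (h.fpf y).symm)
    (by
      intro hmem
      have h1 := (hmem x₀ (z x₀)).mpr (orb_apply h x₀).symm
      rw [c3_apply_fst n1 n2, c3_apply_of_ne (h.fpf x₀) n3 n4, orb_apply h] at h1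
      exact hy ((orb_eq_iff h x₀ y).mp h1))
  refine ⟨stabilizer (Perm α) ((orb z x₀ : Finset α) : Set α), partStab (orb z), fun g => ?_,
    fun g => comm_mem_partStab_orb z _ (fun b => (hz g b).symm), m1, m2, m3⟩
  rw [mem_stabilizer_iff]
  have := congrArg (fun F : Finset α => (F : Set α)) (hfix g)
  simp only [Finset.coe_smul_finset] at this
  exact this

end Cfsg.Agent.Lib.Helper20.Syl3Alt
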