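import Mathlib
import Cfsg.Agent.Lib.Helper20.Syl3AltD
import Cfsg.Agent.Lib.Helper14.ThreeCycGen

/-!
3-subgroups of alternating groups lying in a unique maximal subgroup (helper20), part E:
the stabilizer of the orbit partition of a fixed-point-free element of order 3 and the
stabilizer of a coarser partition generate the alternating group (by three-cycles).
-/

set_option autoImplicit false

namespace Cfsg.Agent.Lib.Helper20.Syl3Alt

open Equiv Equiv.Perm Subgroup MulAction
open Cfsg.Agent.Lib.Helper9.AltAut (c3 c3_apply_fst c3_apply_snd c3_apply_trd c3_apply_of_ne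
  isThreeCycle_c3 conj_c3)
open scoped Pointwise

variable {α : Type*} [Fintype α] [DecidableEq α] {γ : Type*}

omit [Fintype α] in
theorem swap_color (c : α → γ) {a b : α} (h : c a = c b) (x : α) : c (swap a b x) = c x := by
  by_cases h1 : x = a
  · subst h1; rw [swap_apply_left]; exact h.symm
  by_cases h2 : x = b
  · subst h2; rw [swap_apply_right]; exact h
  rw [swap_apply_of_ne_of_ne h1 h2]

omit [Fintype α] in
theorem c3_mem_partStab (c : α → γ) {a b d : α} (h1 : c a = c b) (h2 : c b = c d) :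
    c3 a b d ∈ partStab c := by
  apply mem_partStab_of_fix
  intro x
  unfold c3
  rw [Perm.mul_apply, swap_color c h1, swap_color c h2]

omit [Fintype α] in
theorem color_of_mem_orb (c : α → γ) (z : Perm α) (hc : ∀ x, c (z x) = c x) {x u : α}
    (hu : u ∈ orb z x) : c u = c x := by
  rw [mem_orb] at hu
  rcases hu with rfl | rfl | rfl
  · rfl
  · exact hc x
  · rw [hc, hc]

/-- generation by three-cycles -/
theorem gen_of_blocks (z : Perm α) (h : IsTri z) (c : α → γ) (hc : ∀ x, c (z x) = c x)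
    (hbig : ∀ x, ∃ u, c u = c x ∧ u ∉ orb z x) (x₀ y₀ : α) (hxy : c x₀ ≠ c y₀) :
    ¬ alternatingGroup α ≤ partStab (orb z) ∧ ¬ alternatingGroup α ≤ partStab c ∧
      alternatingGroup α ≤
        (partStab (orb z) ⊓ alternatingGroup α) ⊔ (partStab c ⊓ alternatingGroup α) := by
  have hy₀ : y₀ ∉ orb z x₀ := fun hmem => hxy (color_of_mem_orb c z hc hmem).symm
  have hzy : z y₀ ∉ orb z x₀ := notMem_orb_of h hy₀ (apply_mem_orb z y₀)
  have n1 : x₀ ≠ y₀ := fun e => hy₀ (e ▸ self_mem_orb z x₀)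
  have n2 : x₀ ≠ z y₀ := fun e => hzy (e ▸ self_mem_orb z x₀)
  have n3 : z x₀ ≠ y₀ := fun e => hy₀ (e ▸ apply_mem_orb z x₀)
  have n4 : z x₀ ≠ z y₀ := fun e => hzy (e ▸ apply_mem_orb z x₀)
  have hsg : c3 x₀ y₀ (z y₀) ∈ alternatingGroup α :=
    (isThreeCycle_c3 n1 n2 (h.fpf y₀).symm).mem_alternatingGroup
  refine ⟨fun hle => ?_, fun hle => ?_, ?_⟩
  · have hmem := hle hsg
    have h1 := (hmem x₀ (z x₀)).mpr (orb_apply h x₀).symm
    rw [c3_apply_fst n1 n2, c3_apply_of_ne (h.fpf x₀) n3 n4, orb_apply h] at h1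
    exact hy₀ ((orb_eq_iff h x₀ y₀).mp h1)
  · have hmem := hle hsg
    have h1 := (hmem x₀ (z x₀)).mpr (hc x₀).symm
    rw [c3_apply_fst n1 n2, c3_apply_of_ne (h.fpf x₀) n3 n4, hc] at h1
    exact hxy h1.symm
  -- generation
  have key : ∀ J : Subgroup (Perm α),
      J = (partStab (orb z) ⊓ alternatingGroup α) ⊔ (partStab c ⊓ alternatingGroup α) →
      alternatingGroup α ≤ J := by
    intro J hJ
    have hJ1 : partStab (orb z) ⊓ alternatingGroup α ≤ J := by rw [hJ]; exact le_sup_left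
    have hJ2 : partStab c ⊓ alternatingGroup α ≤ J := by rw [hJ]; exact le_sup_right
    have hCJ : closure {k : Perm α | k.IsThreeCycle ∧ k ∈ J} ≤ J :=
      (closure_le J).mpr (fun k hk => hk.2)
    have hsame : ∀ u v, c u = c v →
        ∃ k ∈ closure {k : Perm α | k.IsThreeCycle ∧ k ∈ J}, k u = v := by
      intro u v huv
      by_cases e : u = v
      · exact ⟨1, one_mem _, by rw [e]; rfl⟩
      obtain ⟨w, hwc, hwu, hwv⟩ : ∃ w, c w = c u ∧ w ≠ u ∧ w ≠ v := by
        by_cases hzu : z u = v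
        · exact ⟨z (z u), by rw [hc, hc], h.ne2 u, by rw [← hzu]; exact h.fpf (z u)⟩
        · exact ⟨z u, hc u, h.fpf u, hzu⟩
      have h3 := isThreeCycle_c3 e hwu.symm hwv.symm
      exact ⟨c3 u v w, subset_closure ⟨h3, hJ2 ⟨c3_mem_partStab c huv (huv.symm.trans hwc.symm),
        h3.mem_alternatingGroup⟩⟩, c3_apply_fst e hwu.symm⟩
    have hdiff : ∀ u v, c u ≠ c v →
        ∃ k ∈ closure {k : Perm α | k.IsThreeCycle ∧ k ∈ J}, k u = v := by
      intro u v huv
      obtain ⟨u', hu'c, hu'⟩ := hbig u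
      have hv : v ∉ orb z u := fun hm => huv (color_of_mem_orb c z hc hm).symm
      have hzu' : z u' ∉ orb z u := notMem_orb_of h hu' (apply_mem_orb z u')
      have hu'v : u' ∉ orb z v := fun hm => huv (by
        rw [← hu'c]; exact color_of_mem_orb c z hc hm)
      have hzu'v : z u' ∉ orb z v := fun hm => huv (by
        rw [← hu'c, ← hc u']; exact color_of_mem_orb c z hc hm)
      have d1 : u ≠ u' := fun e => hu' (e ▸ self_mem_orb z u)
      have d2 : u ≠ z u' := fun e => hzu' (e ▸ self_mem_orb z u)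
      have d3 : u' ≠ z u' := (h.fpf u').symm
      have d4 : z v ≠ u' := fun e => hu'v (e ▸ apply_mem_orb z v)
      have d5 : z v ≠ z u' := fun e => hzu'v (e ▸ apply_mem_orb z v)
      have t1 := isThreeCycle_c3 d1 d2 d3
      have t2 := isThreeCycle_c3 d4 d5 d3
      have hc1J : c3 u u' (z u') ∈ J :=
        hJ2 ⟨c3_mem_partStab c hu'c.symm (hc u').symm, t1.mem_alternatingGroup⟩
      have hhJ : hEl z u v ∈ J :=
        hJ1 ⟨hEl_mem h hv, mem_alternatingGroup.mpr (sign_hEl h hv)⟩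
      have hc2eq : hEl z u v * c3 u u' (z u') * (hEl z u v)⁻¹ = c3 (z v) u' (z u') := by
        rw [conj_c3, hEl_apply h hv, hEl_apply_of_notMem hu' hu'v,
          hEl_apply_of_notMem hzu' hzu'v]
      have hc2J : c3 (z v) u' (z u') ∈ J := by
        rw [← hc2eq]
        exact J.mul_mem (J.mul_mem hhJ hc1J) (J.inv_mem hhJ)
      obtain ⟨k', hk', hk'v⟩ := hsame (z v) v (hc v)
      refine ⟨k' * c3 (z v) u' (z u') * c3 u u' (z u') * c3 u u' (z u'),
        mul_mem (mul_mem (mul_mem hk' (subset_closure ⟨t2, hc2J⟩))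
          (subset_closure ⟨t1, hc1J⟩)) (subset_closure ⟨t1, hc1J⟩), ?_⟩
      rw [Perm.mul_apply, Perm.mul_apply, Perm.mul_apply, c3_apply_fst d1 d2,
        c3_apply_snd d2 d3, c3_apply_trd, hk'v]
    have htrans : IsPretransitive (closure {k : Perm α | k.IsThreeCycle ∧ k ∈ J}) α :=
      ⟨fun u v => by
        by_cases e : c u = c v
        · obtain ⟨k, hk, hkv⟩ := hsame u v e
          exact ⟨⟨k, hk⟩, hkv⟩
        · obtain ⟨k, hk, hkv⟩ := hdiff u v e
          exact ⟨⟨k, hk⟩, hkv⟩⟩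
    have hprim := Cfsg.Agent.Lib.Helper14.ThreeCycGen.isPreprimitive_of_threeCycle_gen
      {k : Perm α | k.IsThreeCycle ∧ k ∈ J} (fun k hk => hk.1)
      (closure {k : Perm α | k.IsThreeCycle ∧ k ∈ J}) rfl
    have t0 := isThreeCycle_c3 (h.fpf x₀).symm (h.ne2 x₀).symm (h.fpf (z x₀)).symm
    have hk0 : c3 x₀ (z x₀) (z (z x₀)) ∈ {k : Perm α | k.IsThreeCycle ∧ k ∈ J} :=
      ⟨t0, hJ2 ⟨c3_mem_partStab c (hc x₀).symm (hc (z x₀)).symm, t0.mem_alternatingGroup⟩⟩
    exact (alternatingGroup_le_of_isPreprimitive_of_isThreeCycle_mem hprim t0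
      (subset_closure hk0)).trans hCJ
  exact key _ rfl

/-- the case of a coarser invariant partition -/
theorem twoOver_of_blocks {P : Type*} [Group P] [MulAction P α] (z : Perm α) (h : IsTri z)
    (hz : ∀ (g : P) (b : α), z (g • b) = g • z b) (c : α → γ)
    (hcP : ∀ g : P, (MulAction.toPerm g : Perm α) ∈ partStab c)
    (hc : ∀ x, c (z x) = c x)
    (hbig : ∀ x, ∃ u, c u = c x ∧ u ∉ orb z x) (x₀ y₀ : α) (hxy : c x₀ ≠ c y₀) :
    TwoOver α P := by
  obtain ⟨m1, m2, m3⟩ := gen_of_blocks z h c hc hbig x₀ y₀ hxy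
  exact ⟨partStab (orb z), partStab c,
    fun g => comm_mem_partStab_orb z _ (fun b => (hz g b).symm), hcP, m1, m2, m3⟩

end Cfsg.Agent.Lib.Helper20.Syl3Alt
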