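import Mathlib
import Cfsg.Agent.Lib.Helper20.Syl3AltE

/-!
3-subgroups of alternating groups lying in a unique maximal subgroup (helper20), part F:
a 3-group acting on `n ≥ 5` points, `n ∉ {6, 9, 3^a+1}`, lies in two proper overgroups whose
even parts generate the alternating group; hence a 3-subgroup of the alternating group of such
a degree never lies in a unique maximal subgroup.
-/

set_option autoImplicit false

namespace Cfsg.Agent.Lib.Helper20.Syl3Alt

open Equiv Equiv.Perm Subgroup MulAction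
open scoped Pointwise

variable {α : Type*} [Fintype α] [DecidableEq α]

theorem twoOver {P : Type*} [Group P] [Finite P] (hP : IsPGroup 3 P) [MulAction P α]
    (hn : 5 ≤ Fintype.card α)
    (hex : ¬ (Fintype.card α = 6 ∨ Fintype.card α = 9 ∨
      ∃ a : ℕ, 2 ≤ a ∧ Fintype.card α = 3 ^ a + 1)) : TwoOver α P := by
  by_cases hfix : ∃ x : α, ∀ g : P, g • x = x
  · obtain ⟨x, hx⟩ := hfix
    exact twoOver_of_fixedPoint hP hn x hx (fun h => hex (Or.inr (Or.inr h)))
  have hfp : Nat.card (fixedPoints P α) = 0 := by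
    rw [Nat.card_eq_zero]
    left
    constructor
    rintro ⟨x, hx⟩
    exact hfix ⟨x, fun g => hx g⟩
  have hmod := hP.card_modEq_card_fixedPoints α
  rw [hfp, Nat.card_eq_fintype_card] at hmod
  obtain ⟨m, hm⟩ := (Nat.modEq_zero_iff_dvd).mp hmod
  have hm1 : 1 ≤ m := by omega
  obtain ⟨z, hzc, hz⟩ := exists_commuting_tri hP m hm1 hm
  obtain ⟨hz3, hzf⟩ := tri_of_cycleType z m hm1 hm hzc
  have htri : IsTri z := ⟨hz3, hzf⟩
  have hcard := card_orbSub (P := P) htri hz
  by_cases hfix1 : ∃ ω : orbSub P z hz, ∀ g : P, g • ω = ω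
  · obtain ⟨⟨ω, x₀, rfl⟩, hω⟩ := hfix1
    have hn9 : 9 ≤ Fintype.card α := by
      have : Fintype.card α ≠ 6 := fun e => hex (Or.inl e)
      omega
    exact twoOver_of_fixedOrb hn9 z htri hz x₀ (fun g => congrArg Subtype.val (hω g))
  classical
  have : Fintype (orbSub P z hz) := Fintype.ofFinite _
  have hfp1 : Nat.card (fixedPoints P (orbSub P z hz)) = 0 := by
    rw [Nat.card_eq_zero]
    left
    constructor
    rintro ⟨ω, hω⟩
    exact hfix1 ⟨ω, fun g => hω g⟩
  have hmod1 := hP.card_modEq_card_fixedPoints (orbSub P z hz)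
  rw [hfp1] at hmod1
  obtain ⟨m', hm'⟩ := (Nat.modEq_zero_iff_dvd).mp hmod1
  have hm'2 : 2 ≤ m' := by
    have : Fintype.card α ≠ 9 := fun e => hex (Or.inr (Or.inl e))
    omega
  have hΩ : Fintype.card (orbSub P z hz) = 3 * m' := by rw [← Nat.card_eq_fintype_card, hm']
  obtain ⟨z1, hz1c, hz1⟩ := exists_commuting_tri hP m' (by omega) hΩ
  obtain ⟨hz13, hz1f⟩ := tri_of_cycleType z1 m' (by omega) hΩ hz1c
  have htri1 : IsTri z1 := ⟨hz13, hz1f⟩
  have hne : Nonempty α := Fintype.card_pos_iff.mp (by omega)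
  obtain ⟨x₀⟩ := hne
  obtain ⟨ω, hω⟩ := exists_notMem_of_card_lt (orb z1 (orbMk z hz x₀))
    (by rw [card_orb htri1, hΩ]; omega)
  obtain ⟨y₀, rfl⟩ := orbMk_surjective z hz ω
  refine twoOver_of_blocks z htri hz (fun x => orb z1 (orbMk z hz x)) ?_ ?_ ?_ x₀ y₀ ?_
  · intro g
    apply mem_partStab_of_map _ _ (fun F => g • F) (MulAction.injective g)
    intro x
    show orb z1 (orbMk z hz (g • x)) = g • orb z1 (orbMk z hz x)
    rw [orbMk_smul, smul_orb z1 hz1]
  · intro x
    show orb z1 (orbMk z hz (z x)) = orb z1 (orbMk z hz x)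
    rw [orbMk_apply htri]
  · intro x
    obtain ⟨u, hu⟩ := orbMk_surjective z hz (z1 (orbMk z hz x))
    refine ⟨u, ?_, ?_⟩
    · show orb z1 (orbMk z hz u) = orb z1 (orbMk z hz x)
      rw [hu, orb_apply htri1]
    · intro hmem
      have := (orbMk_eq_iff htri hz x u).mpr hmem
      rw [hu] at this
      exact htri1.fpf _ this
  · show orb z1 (orbMk z hz x₀) ≠ orb z1 (orbMk z hz y₀)
    intro e
    apply hω
    rw [e]
    exact self_mem_orb z1 _

end Cfsg.Agent.Lib.Helper20.Syl3Alt
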