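import Mathlib
import Cfsg.Agent.Lib.Helper20.Syl3AltF
import Cfsg.Agent.Lib.Helper9.AltAut

/-!
3-subgroups of alternating groups lying in a unique maximal subgroup (helper20), part G:
automorphisms of 3-power order of an alternating group of degree at least 5 are inner, induced
by an even permutation.
-/

set_option autoImplicit false

namespace Cfsg.Agent.Lib.Helper20.Syl3Alt

open Equiv Equiv.Perm Subgroup
open Cfsg.Agent.Lib.Helper9.AltAut (c3 isThreeCycle_c3)

variable {α : Type*} [Fintype α] [DecidableEq α]

theorem cycleType_of_order_three (hα : Fintype.card α = 6) (c : Perm α) (hc : orderOf c = 3) :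
    c.IsThreeCycle ∨ c.cycleType = Multiset.replicate 2 3 := by
  have hp : (orderOf c).Prime := by rw [hc]; exact Nat.prime_three
  obtain ⟨k, hk⟩ := cycleType_prime_order hp
  rw [hc] at hk
  have h3 : c.cycleType.sum ≤ 6 := by
    rw [sum_cycleType, ← hα]; exact Finset.card_le_univ _
  rw [hk, Multiset.sum_replicate, smul_eq_mul] at h3
  have : k = 0 ∨ k = 1 := by omega
  rcases this with rfl | rfl
  · left; exact hk
  · right; exact hk

theorem orderOf_of_replicate (c : Perm α) (hc : c.cycleType = Multiset.replicate 2 3) :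
    orderOf c = 3 := by
  rw [← lcm_cycleType, hc]
  decide

theorem isConj_of_replicate {σ τ : alternatingGroup α}
    (hσ : (σ : Perm α).cycleType = Multiset.replicate 2 3)
    (hτ : (τ : Perm α).cycleType = Multiset.replicate 2 3) : IsConj σ τ := by
  obtain ⟨π, hπ⟩ := isConj_iff.mp (isConj_iff_cycleType_eq.mpr (hσ.trans hτ.symm))
  rcases Int.units_eq_one_or (sign π) with h | h
  · exact isConj_iff.mpr ⟨⟨π, mem_alternatingGroup.mpr h⟩, Subtype.ext hπ⟩
  · have hnc : ¬ Subgroup.centralizer {(σ : Perm α)} ≤ alternatingGroup α := by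
      rw [Equiv.Perm.centralizer_le_alternating_iff]
      rintro ⟨-, -, h3⟩
      have := h3 3
      rw [hσ, Multiset.count_replicate_self] at this
      omega
    obtain ⟨w, hw, hws⟩ := SetLike.not_le_iff_exists.mp hnc
    have hw1 : sign w = -1 :=
      (Int.units_eq_one_or _).resolve_left (fun h => hws (mem_alternatingGroup.mpr h))
    have hwc : w * (σ : Perm α) * w⁻¹ = σ := by
      have := mem_centralizer_singleton_iff.mp hw
      rw [this, mul_inv_cancel_right]
    refine isConj_iff.mpr ⟨⟨π * w, by
      rw [mem_alternatingGroup, Perm.sign_mul, h, hw1]; rfl⟩, Subtype.ext ?_⟩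
    show π * w * (σ : Perm α) * (π * w)⁻¹ = τ
    rw [← hπ, mul_inv_rev]
    calc π * w * (σ : Perm α) * (w⁻¹ * π⁻¹) = π * (w * (σ : Perm α) * w⁻¹) * π⁻¹ := by group
      _ = π * σ * π⁻¹ := by rw [hwc]

theorem cycleType_eq_of_isConj {σ τ : alternatingGroup α} (h : IsConj σ τ) :
    (σ : Perm α).cycleType = (τ : Perm α).cycleType := by
  obtain ⟨g, hg⟩ := isConj_iff.mp h
  rw [← hg]
  show _ = ((g : Perm α) * σ * (g : Perm α)⁻¹).cycleType
  rw [cycleType_conj]

theorem isConj_map (f : MulAut (alternatingGroup α)) {σ τ : alternatingGroup α}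
    (h : IsConj σ τ) : IsConj (f σ) (f τ) := by
  obtain ⟨g, hg⟩ := isConj_iff.mp h
  exact isConj_iff.mpr ⟨f g, by rw [← hg, map_mul, map_mul, map_inv]⟩

theorem orderOf_map_coe (f : MulAut (alternatingGroup α)) (c : alternatingGroup α) :
    orderOf ((f c : alternatingGroup α) : Perm α) = orderOf (c : Perm α) := by
  rw [Subgroup.orderOf_coe, MulEquiv.orderOf_eq, ← Subgroup.orderOf_coe]

/-- in degree six an automorphism of 3-power order preserves three-cycles -/
theorem preserves_six (hα : Fintype.card α = 6) (f : MulAut (alternatingGroup α)) (k : ℕ)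
    (hf : f ^ (3 ^ k) = 1) (c : alternatingGroup α) (hc : (c : Perm α).IsThreeCycle) :
    ((f c : alternatingGroup α) : Perm α).IsThreeCycle := by
  by_contra hnot
  have hDc : ((f c : alternatingGroup α) : Perm α).cycleType = Multiset.replicate 2 3 :=
    (cycleType_of_order_three hα ((f c : alternatingGroup α) : Perm α)
      (by rw [orderOf_map_coe, hc.orderOf])).resolve_left hnot
  have h5 : 5 ≤ Nat.card α := by rw [Nat.card_eq_fintype_card]; omega
  -- three-cycles go to the other class
  have hTD : ∀ d : alternatingGroup α, (d : Perm α).IsThreeCycle →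
      ((f d : alternatingGroup α) : Perm α).cycleType = Multiset.replicate 2 3 := by
    intro d hd
    rw [← hDc]
    exact cycleType_eq_of_isConj (isConj_map f (alternatingGroup.isThreeCycle_isConj h5 hd hc))
  -- and the other class goes to three-cycles
  have hDT : ∀ d : alternatingGroup α, (d : Perm α).cycleType = Multiset.replicate 2 3 →
      ((f d : alternatingGroup α) : Perm α).IsThreeCycle := by
    intro d hd
    rcases cycleType_of_order_three hα ((f d : alternatingGroup α) : Perm α)
      (by rw [orderOf_map_coe, orderOf_of_replicate _ hd]) with h | h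
    · exact h
    · exfalso
      have h1 := isConj_map f.symm (isConj_of_replicate h hDc)
      rw [MulEquiv.symm_apply_apply, MulEquiv.symm_apply_apply] at h1
      have h2 := cycleType_eq_of_isConj h1
      rw [hd, hc] at h2
      exact absurd h2 (by decide)
  have hsq : ∀ i : ℕ, ∀ d : alternatingGroup α, (d : Perm α).IsThreeCycle →
      ((((f ^ 2) ^ i) d : alternatingGroup α) : Perm α).IsThreeCycle := by
    intro i
    induction i with
    | zero => intro d hd; simpa using hd
    | succ i ih =>
      intro d hd
      rw [pow_succ, MulAut.mul_apply]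
      apply ih
      rw [pow_two, MulAut.mul_apply]
      exact hDT _ (hTD d hd)
  obtain ⟨i, hi⟩ : Odd (3 ^ k) := Odd.pow (by decide)
  have h1 : f ^ (3 ^ k) = f * (f ^ 2) ^ i := by rw [hi, pow_succ', pow_mul]
  have h2 : (f ^ (3 ^ k)) c = c := by rw [hf]; rfl
  rw [h1, MulAut.mul_apply] at h2
  have h3 := hTD _ (hsq i c hc)
  rw [h2, hc] at h3
  exact absurd h3 (by decide)

/-- automorphisms of 3-power order are induced by even permutations -/
theorem inner_of_three_pow (h5 : 5 ≤ Fintype.card α) (f : MulAut (alternatingGroup α)) (k : ℕ)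
    (hf : f ^ (3 ^ k) = 1) :
    ∃ g : alternatingGroup α, ∀ y : alternatingGroup α, f y = g * y * g⁻¹ := by
  have hnt : Nontrivial α := Fintype.one_lt_card_iff_nontrivial.mp (by omega)
  have h3 : ∀ c : alternatingGroup α, (c : Perm α).IsThreeCycle →
      ((f c : alternatingGroup α) : Perm α).IsThreeCycle := by
    by_cases h6 : Fintype.card α = 6
    · exact preserves_six h6 f k hf
    · intro c hc
      exact Cfsg.Agent.Lib.Helper9.AltAut.isThreeCycle_map (by omega) f c hc
  obtain ⟨σ, hσ⟩ := Cfsg.Agent.Lib.Helper9.AltAut.exists_conj_of_preserves (by omega) f h3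
  have h1 : (MulAut.conjNormal (σ ^ (3 ^ k)) : MulAut (alternatingGroup α)) =
      MulAut.conjNormal 1 := by
    rw [map_pow, hσ, hf, map_one]
  have h2 : σ ^ (3 ^ k) = 1 :=
    Cfsg.Agent.Lib.Helper9.AltAut.conjNormal_injective (by omega) h1
  have hs : sign σ = 1 := by
    rcases Int.units_eq_one_or (sign σ) with h | h
    · exact h
    · exfalso
      have := congrArg sign h2
      rw [map_pow, h, map_one, Odd.neg_one_pow (Odd.pow (by decide))] at this
      exact absurd this (by decide)
  refine ⟨⟨σ, mem_alternatingGroup.mpr hs⟩, fun y => ?_⟩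
  rw [← hσ]
  apply Subtype.ext
  simp [MulAut.conjNormal_apply]

end Cfsg.Agent.Lib.Helper20.Syl3Alt
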