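import Mathlib
import Cfsg.Agent.Lib.Helper20.Syl3AltG

/-!
3-subgroups of alternating groups lying in a unique maximal subgroup (helper20), part H:
the degree theorem for a group embedded as the alternating group, and the reduction of a
3-minimal group with alternating generalized Fitting subgroup to that subgroup.
-/

set_option autoImplicit false

namespace Cfsg.Agent.Lib.Helper20.Syl3Alt

open Equiv Equiv.Perm Subgroup MulAction

variable {α : Type*} [Fintype α] [DecidableEq α]

/-- a 3-subgroup of the alternating group of degree `n ≥ 5` lying in a unique maximal subgroup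
forces `n ∈ {6, 9, 3^a+1}` -/
theorem card_of_unique_coatom {𝔊 : Type*} [Group 𝔊] [Finite 𝔊] (ι : 𝔊 →* Perm α)
    (hinj : Function.Injective ι) (hrange : ι.range = alternatingGroup α)
    (hn : 5 ≤ Fintype.card α) (R : Subgroup 𝔊) (hR : IsPGroup 3 R)
    (huniq : ∃! M : Subgroup 𝔊, IsCoatom M ∧ R ≤ M) :
    Fintype.card α = 6 ∨ Fintype.card α = 9 ∨
      ∃ a : ℕ, 2 ≤ a ∧ Fintype.card α = 3 ^ a + 1 := by
  by_contra hex
  let _ : MulAction R α := MulAction.compHom α (ι.comp R.subtype)
  obtain ⟨K₁, K₂, h1, h2, n1, n2, hgen⟩ := twoOver (α := α) (P := R) hR hn hex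
  have e : ∀ g : R, (MulAction.toPerm g : Perm α) = ι g := fun g => by ext x; rfl
  refine SylMax.not_unique_coatom R (K₁.comap ι) (K₂.comap ι) ?_ ?_ ?_ ?_ ?_ huniq
  · intro g hg
    rw [mem_comap, ← e ⟨g, hg⟩]
    exact h1 ⟨g, hg⟩
  · intro g hg
    rw [mem_comap, ← e ⟨g, hg⟩]
    exact h2 ⟨g, hg⟩
  · intro htop
    apply n1
    rw [← hrange]
    rintro _ ⟨g, rfl⟩
    have : g ∈ K₁.comap ι := by rw [htop]; trivial
    exact this
  · intro htop
    apply n2
    rw [← hrange]
    rintro _ ⟨g, rfl⟩
    have : g ∈ K₂.comap ι := by rw [htop]; trivial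
    exact this
  · rw [eq_top_iff]
    intro g _
    have hg : ι g ∈ alternatingGroup α := by rw [← hrange]; exact ⟨g, rfl⟩
    have hmap : (K₁ ⊓ alternatingGroup α) ⊔ (K₂ ⊓ alternatingGroup α) =
        (K₁.comap ι ⊔ K₂.comap ι).map ι := by
      rw [Subgroup.map_sup, Subgroup.map_comap_eq, Subgroup.map_comap_eq, hrange,
        inf_comm K₁, inf_comm K₂]
    have h3 := hgen hg
    rw [hmap] at h3
    obtain ⟨g', hg', hgg⟩ := h3
    rw [← hinj hgg]
    exact hg'

/-- elements of 3-power order lie in a self-centralizing normal alternating subgroup -/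
theorem mem_of_three_pow {X : Type*} [Group X] (F : Subgroup X) [hF : F.Normal]
    (hC : centralizer (F : Set X) ≤ F) (e : F ≃* alternatingGroup α)
    (h5 : 5 ≤ Fintype.card α) (x : X) (k : ℕ) (hx : x ^ (3 ^ k) = 1) : x ∈ F := by
  have hfk : (MulAut.congr e (MulAut.conjNormal x)) ^ (3 ^ k) = 1 := by
    rw [← map_pow, ← map_pow, hx, map_one, map_one]
  obtain ⟨g, hg⟩ := inner_of_three_pow h5 _ k hfk
  have key : ∀ u : F, x * u * x⁻¹ = (e.symm g : X) * u * (e.symm g : X)⁻¹ := by
    intro u
    have h1 := hg (e u)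
    have h2 : (MulAut.congr e (MulAut.conjNormal x)) (e u) = e (MulAut.conjNormal x u) := by
      simp [MulAut.congr]
    rw [h2] at h1
    have h3 : MulAut.conjNormal x u = e.symm g * u * (e.symm g)⁻¹ := by
      apply e.injective
      rw [h1, map_mul, map_mul, map_inv, e.apply_symm_apply]
    have := congrArg Subtype.val h3
    simpa [MulAut.conjNormal_apply] using this
  have hcen : (e.symm g : X)⁻¹ * x ∈ centralizer (F : Set X) := by
    rw [mem_centralizer_iff]
    intro u hu
    have h1 := key ⟨u, hu⟩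
    simp only at h1
    calc u * ((e.symm g : X)⁻¹ * x)
        = (e.symm g : X)⁻¹ * ((e.symm g : X) * u * (e.symm g : X)⁻¹) * x := by group
      _ = (e.symm g : X)⁻¹ * (x * u * x⁻¹) * x := by rw [h1]
      _ = (e.symm g : X)⁻¹ * x * u := by group
  have := F.mul_mem (e.symm g).2 (hC hcen)
  simpa using this

/-- a 3-minimal group with self-centralizing normal alternating subgroup equals it -/
theorem eq_top_of_unique_coatom {X : Type*} [Group X] [Finite X] (F : Subgroup X)
    [hF : F.Normal] (hC : centralizer (F : Set X) ≤ F) (e : F ≃* alternatingGroup α)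
    (h5 : 5 ≤ Fintype.card α) (S : Sylow 3 X) (hnn : ¬ (S : Subgroup X).Normal)
    (huniq : ∃! M : Subgroup X, IsCoatom M ∧ (S : Subgroup X) ≤ M) : F = ⊤ := by
  by_contra hne
  have hSF : (S : Subgroup X) ≤ F := fun x hx => by
    obtain ⟨k, hk⟩ := S.isPGroup' ⟨x, hx⟩
    exact mem_of_three_pow F hC e h5 x k (by simpa using congrArg Subtype.val hk)
  have hfrat := Sylow.normalizer_sup_eq_top' S hSF
  refine SylMax.not_unique_coatom (S : Subgroup X) (normalizer ((S : Subgroup X) : Set X)) F
    le_normalizer hSF ?_ hne hfrat huniq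
  intro htop
  exact hnn (normalizer_eq_top_iff.mp htop)

end Cfsg.Agent.Lib.Helper20.Syl3Alt
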