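import Mathlib
import Cfsg.Agent.Lib.Helper20.SylMaxF

/-!
Sylow 2-subgroups of symmetric/alternating groups and maximal subgroups (helper20), part G:
three-cycles from Klein four-groups, and the unique maximal overgroup in degree `2^k+1`.
-/

set_option autoImplicit false

namespace Cfsg.Agent.Lib.Helper20.SylMax

open Equiv Equiv.Perm Subgroup MulAction

section ThreeCycle

variable {α : Type*} [Fintype α] [DecidableEq α] {I : Type} [DecidableEq I]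

/-- a point whose part meets the foreign 4-set only in itself -/
theorem threeCycle_of_single (K : Subgroup (Perm α)) (ℓ : α → Option I) (ω : α)
    (hℓ : ∀ y, ℓ y = none ↔ y = ω)
    (hcard : ∀ i, (Finset.univ.filter (fun y => ℓ y = some i)).card = 4)
    (hsw : ∀ a b c d : α, a ≠ b → a ≠ c → a ≠ d → b ≠ c → b ≠ d → c ≠ d → ℓ a ≠ none →
      ℓ b = ℓ a → ℓ c = ℓ a → ℓ d = ℓ a → swap a b * swap c d ∈ K)
    (x₁ x₂ x₃ : α) (h1ω : x₁ ≠ ω)
    (hl2 : ℓ x₂ ≠ ℓ x₁) (hl3 : ℓ x₃ ≠ ℓ x₁) (ht : swap x₁ ω * swap x₂ x₃ ∈ K) :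
    ∃ c ∈ K, c.IsThreeCycle := by
  have hn1 : ℓ x₁ ≠ none := fun h => h1ω ((hℓ _).mp h)
  obtain ⟨i, hi⟩ := Option.ne_none_iff_exists'.mp hn1
  have hx₁ : x₁ ∈ Finset.univ.filter (fun y => ℓ y = some i) := by simp [hi]
  have hc3 : ((Finset.univ.filter (fun y => ℓ y = some i)).erase x₁).card = 3 := by
    rw [Finset.card_erase_of_mem hx₁, hcard]
  obtain ⟨u, v, w, huv, huw, hvw, hE⟩ := Finset.card_eq_three.mp hc3
  have hmem : ∀ y ∈ ({u, v, w} : Finset α), y ≠ x₁ ∧ ℓ y = ℓ x₁ := by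
    intro y hy
    rw [← hE, Finset.mem_erase, Finset.mem_filter] at hy
    exact ⟨hy.1, by rw [hi]; exact hy.2.2⟩
  have hprop : ∀ y ∈ ({u, v, w} : Finset α), y ≠ x₁ ∧ ℓ y = ℓ x₁ ∧ y ≠ ω ∧ y ≠ x₂ ∧ y ≠ x₃ := by
    intro y hy
    obtain ⟨h1, h2⟩ := hmem y hy
    refine ⟨h1, h2, ?_, ?_, ?_⟩
    · intro h; apply hn1; rw [← h2, h]; exact (hℓ ω).mpr rfl
    · intro h; apply hl2; rw [← h, h2]
    · intro h; apply hl3; rw [← h, h2]
  obtain ⟨hu1, hul, huω, hu2, hu3⟩ := hprop u (by simp)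
  obtain ⟨hv1, hvl, hvω, hv2, hv3⟩ := hprop v (by simp)
  obtain ⟨hw1, hwl, hwω, hw2, hw3⟩ := hprop w (by simp)
  have hs : swap x₁ u * swap v w ∈ K :=
    hsw x₁ u v w (Ne.symm hu1) (Ne.symm hv1) (Ne.symm hw1) huv huw hvw hn1 hul hvl hwl
  set t : Perm α := swap x₁ ω * swap x₂ x₃ with htdef
  have h12 : x₁ ≠ x₂ := fun h => hl2 (by rw [h])
  have h13 : x₁ ≠ x₃ := fun h => hl3 (by rw [h])
  have ht1 : t x₁ = ω := by
    rw [htdef, Perm.mul_apply, swap_apply_of_ne_of_ne h12 h13, swap_apply_left]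
  have htfix : ∀ y, y ≠ x₁ → y ≠ ω → y ≠ x₂ → y ≠ x₃ → t y = y := by
    intro y a b c d
    rw [htdef, Perm.mul_apply, swap_apply_of_ne_of_ne c d, swap_apply_of_ne_of_ne a b]
  have hconj : t * (swap x₁ u * swap v w) * t⁻¹ = swap ω u * swap v w := by
    rw [conj_swap_mul_swap, ht1, htfix u hu1 huω hu2 hu3, htfix v hv1 hvω hv2 hv3,
      htfix w hw1 hwω hw2 hw3, mul_inv_cancel_right]
  have hcK : swap x₁ u * swap v w * (t * (swap x₁ u * swap v w) * t⁻¹) ∈ K :=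
    K.mul_mem hs (K.mul_mem (K.mul_mem ht hs) (K.inv_mem ht))
  have hceq : swap x₁ u * swap v w * (t * (swap x₁ u * swap v w) * t⁻¹) =
      swap u x₁ * swap u ω := by
    rw [hconj]
    calc swap x₁ u * swap v w * (swap ω u * swap v w)
        = swap x₁ u * (swap v w * swap ω u) * swap v w := by group
      _ = swap x₁ u * (swap ω u * swap v w) * swap v w := by
          rw [swap_comm_of_ne hvω huv.symm hwω huw.symm]
      _ = swap x₁ u * swap ω u * (swap v w * swap v w) := by group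
      _ = swap u x₁ * swap u ω := by
          rw [swap_mul_self, mul_one, swap_comm x₁ u, swap_comm ω u]
  refine ⟨_, hcK, ?_⟩
  rw [hceq]
  exact isThreeCycle_swap_mul_swap_same hu1 huω h1ω

/-- three points of the foreign 4-set in one part -/
theorem threeCycle_of_triple (K : Subgroup (Perm α)) (ℓ : α → Option I) (ω : α)
    (hℓ : ∀ y, ℓ y = none ↔ y = ω)
    (hcard : ∀ i, (Finset.univ.filter (fun y => ℓ y = some i)).card = 4)
    (hsw : ∀ a b c d : α, a ≠ b → a ≠ c → a ≠ d → b ≠ c → b ≠ d → c ≠ d → ℓ a ≠ none →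
      ℓ b = ℓ a → ℓ c = ℓ a → ℓ d = ℓ a → swap a b * swap c d ∈ K)
    (x₁ x₂ x₃ : α) (h1ω : x₁ ≠ ω) (h3ω : x₃ ≠ ω) (h12 : x₁ ≠ x₂) (h13 : x₁ ≠ x₃) (h23 : x₂ ≠ x₃)
    (hl2 : ℓ x₂ = ℓ x₁) (hl3 : ℓ x₃ = ℓ x₁) (ht : swap x₁ x₂ * swap x₃ ω ∈ K) :
    ∃ c ∈ K, c.IsThreeCycle := by
  have hn1 : ℓ x₁ ≠ none := fun h => h1ω ((hℓ _).mp h)
  obtain ⟨i, hi⟩ := Option.ne_none_iff_exists'.mp hn1
  have hx₁ : x₁ ∈ Finset.univ.filter (fun y => ℓ y = some i) := by simp [hi]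
  have hx₂ : x₂ ∈ (Finset.univ.filter (fun y => ℓ y = some i)).erase x₁ := by
    simp [hl2, hi, h12.symm]
  have hx₃ : x₃ ∈ ((Finset.univ.filter (fun y => ℓ y = some i)).erase x₁).erase x₂ := by
    simp [hl3, hi, h13.symm, h23.symm]
  have hc1 : ((((Finset.univ.filter (fun y => ℓ y = some i)).erase x₁).erase x₂).erase x₃).card
      = 1 := by
    rw [Finset.card_erase_of_mem hx₃, Finset.card_erase_of_mem hx₂, Finset.card_erase_of_mem hx₁,
      hcard]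
  obtain ⟨w, hE⟩ := Finset.card_eq_one.mp hc1
  have hw : w ∈ (((Finset.univ.filter (fun y => ℓ y = some i)).erase x₁).erase x₂).erase x₃ := by
    rw [hE]; simp
  simp only [Finset.mem_erase, Finset.mem_filter, Finset.mem_univ, true_and] at hw
  obtain ⟨hw3, hw2, hw1, hwl⟩ := hw
  have hwl' : ℓ w = ℓ x₁ := by rw [hi]; exact hwl
  have hwω : w ≠ ω := by
    intro h; apply hn1; rw [← hwl', h]; exact (hℓ ω).mpr rfl
  have hs : swap x₁ x₂ * swap x₃ w ∈ K :=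
    hsw x₁ x₂ x₃ w h12 h13 (Ne.symm hw1) h23 (Ne.symm hw2) (Ne.symm hw3) hn1 hl2 hl3 hwl'
  have hcK : swap x₁ x₂ * swap x₃ w * (swap x₁ x₂ * swap x₃ ω) ∈ K := K.mul_mem hs ht
  have hceq : swap x₁ x₂ * swap x₃ w * (swap x₁ x₂ * swap x₃ ω) = swap x₃ w * swap x₃ ω := by
    calc swap x₁ x₂ * swap x₃ w * (swap x₁ x₂ * swap x₃ ω)
        = swap x₁ x₂ * (swap x₃ w * swap x₁ x₂) * swap x₃ ω := by group
      _ = swap x₁ x₂ * (swap x₁ x₂ * swap x₃ w) * swap x₃ ω := by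
          rw [swap_comm_of_ne h13.symm h23.symm hw1 hw2]
      _ = (swap x₁ x₂ * swap x₁ x₂) * swap x₃ w * swap x₃ ω := by group
      _ = swap x₃ w * swap x₃ ω := by rw [swap_mul_self, one_mul]
  refine ⟨_, hcK, ?_⟩
  rw [hceq]
  exact isThreeCycle_swap_mul_swap_same (Ne.symm hw3) h3ω hwω

end ThreeCycle

section Main

variable {α : Type*} [Fintype α] [DecidableEq α]

/-- a group containing Klein four-groups on a partition of the complement of `ω` and moving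
`ω` contains a three-cycle -/
theorem exists_threeCycle (K Q : Subgroup (Perm α)) (ω : α) (hQ : HasV4 Q ω) (hQK : Q ≤ K)
    (h : Perm α) (hh : h ∈ K) (hω : h ω ≠ ω) : ∃ c ∈ K, c.IsThreeCycle := by
  obtain ⟨I, hdec, ℓ, hℓ, hcard, hswQ⟩ := hQ
  have hsw : ∀ a b c d : α, a ≠ b → a ≠ c → a ≠ d → b ≠ c → b ≠ d → c ≠ d → ℓ a ≠ none →
      ℓ b = ℓ a → ℓ c = ℓ a → ℓ d = ℓ a → swap a b * swap c d ∈ K :=
    fun a b c d h1 h2 h3 h4 h5 h6 h7 h8 h9 h10 => hQK (hswQ a b c d h1 h2 h3 h4 h5 h6 h7 h8 h9 h10)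
  set p' : α := h⁻¹ ω with hp'
  have hhp' : h p' = ω := by rw [hp']; simp
  have hp'ω : p' ≠ ω := fun e => hω (by rw [← e] at hhp' ⊢; rw [hhp'])
  have hnp : ℓ p' ≠ none := fun e => hp'ω ((hℓ _).mp e)
  obtain ⟨i, hi⟩ := Option.ne_none_iff_exists'.mp hnp
  have hp'm : p' ∈ Finset.univ.filter (fun y => ℓ y = some i) := by simp [hi]
  have hc3 : ((Finset.univ.filter (fun y => ℓ y = some i)).erase p').card = 3 := by
    rw [Finset.card_erase_of_mem hp'm, hcard]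
  obtain ⟨y₁, y₂, y₃, h12, h13, h23, hE⟩ := Finset.card_eq_three.mp hc3
  have hmem : ∀ y ∈ ({y₁, y₂, y₃} : Finset α), y ≠ p' ∧ ℓ y = ℓ p' := by
    intro y hy
    rw [← hE, Finset.mem_erase, Finset.mem_filter] at hy
    exact ⟨hy.1, by rw [hi]; exact hy.2.2⟩
  obtain ⟨h1p, h1l⟩ := hmem y₁ (by simp)
  obtain ⟨h2p, h2l⟩ := hmem y₂ (by simp)
  obtain ⟨h3p, h3l⟩ := hmem y₃ (by simp)
  -- conjugated double transpositions
  have hswh : ∀ a b c d : α, a ≠ b → a ≠ c → a ≠ d → b ≠ c → b ≠ d → c ≠ d →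
      ℓ a = ℓ p' → ℓ b = ℓ p' → ℓ c = ℓ p' → ℓ d = ℓ p' →
      swap (h a) (h b) * swap (h c) (h d) ∈ K := by
    intro a b c d e1 e2 e3 e4 e5 e6 la lb lc ld
    have hm := hsw a b c d e1 e2 e3 e4 e5 e6 (by rw [la]; exact hnp) (by rw [lb, la])
      (by rw [lc, la]) (by rw [ld, la])
    have := K.mul_mem (K.mul_mem hh hm) (K.inv_mem hh)
    rwa [conj_swap_mul_swap, mul_inv_cancel_right] at this
  have hne : ∀ y, y ≠ p' → h y ≠ ω := fun y hy e => hy (h.injective (e.trans hhp'.symm))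
  have hx1 := hne y₁ h1p
  have hx2 := hne y₂ h2p
  have hx3 := hne y₃ h3p
  have hx12 : h y₁ ≠ h y₂ := fun e => h12 (h.injective e)
  have hx13 : h y₁ ≠ h y₃ := fun e => h13 (h.injective e)
  have hx23 : h y₂ ≠ h y₃ := fun e => h23 (h.injective e)
  by_cases c2 : ℓ (h y₂) = ℓ (h y₁)
  · by_cases c3 : ℓ (h y₃) = ℓ (h y₁)
    · -- all three in one part
      have ht := hswh y₁ y₂ y₃ p' h12 h13 h1p h23 h2p h3p h1l h2l h3l rfl
      rw [hhp'] at ht
      exact threeCycle_of_triple K ℓ ω hℓ hcard hsw (h y₁) (h y₂) (h y₃) hx1 hx3 hx12 hx13 hx23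
        c2 c3 ht
    · -- third point alone
      have ht := hswh y₃ p' y₁ y₂ h3p h13.symm h23.symm (Ne.symm h1p) (Ne.symm h2p) h12
        h3l rfl h1l h2l
      rw [hhp'] at ht
      exact threeCycle_of_single K ℓ ω hℓ hcard hsw (h y₃) (h y₁) (h y₂) hx3
        (fun e => c3 e.symm) (fun e => c3 (by rw [← e, c2])) ht
  · by_cases c3 : ℓ (h y₃) = ℓ (h y₁)
    · -- second point alone
      have ht := hswh y₂ p' y₁ y₃ h2p h12.symm h23 (Ne.symm h1p) (Ne.symm h3p) h13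
        h2l rfl h1l h3l
      rw [hhp'] at ht
      exact threeCycle_of_single K ℓ ω hℓ hcard hsw (h y₂) (h y₁) (h y₃) hx2
        (fun e => c2 e.symm) (fun e => c2 (by rw [← e, c3])) ht
    · -- first point alone
      have ht := hswh y₁ p' y₂ y₃ h1p h12 h13 (Ne.symm h2p) (Ne.symm h3p) h23
        h1l rfl h2l h3l
      rw [hhp'] at ht
      exact threeCycle_of_single K ℓ ω hℓ hcard hsw (h y₁) (h y₂) (h y₃) hx1 c2 c3 ht

variable {𝔊 : Type*} [Group 𝔊] [Finite 𝔊]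

/-- in degree `2^k+1` a Sylow 2-subgroup lies in a unique maximal subgroup -/
theorem bwd [Nontrivial α] (ι : 𝔊 →* Perm α) (hinj : Function.Injective ι)
    (hAlt : alternatingGroup α ≤ ι.range) (k : ℕ) (hk : 2 ≤ k)
    (hα : Fintype.card α = 2 ^ k + 1) (R : Sylow 2 𝔊) :
    ∃! M : Subgroup 𝔊, IsCoatom M ∧ (R : Subgroup 𝔊) ≤ M := by
  have hp4 : 4 ≤ 2 ^ k := by
    calc 4 = 2 ^ 2 := by norm_num
      _ ≤ 2 ^ k := Nat.pow_le_pow_right (by norm_num) hk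
  obtain ⟨ω, hω⟩ := exists_fixed_point ι R (by rw [hα]; exact ⟨2 ^ (k - 1), by
    obtain ⟨c, rfl⟩ : ∃ c, k = c + 1 := ⟨k - 1, by omega⟩
    rw [show c + 1 - 1 = c by omega, pow_succ]; ring⟩)
  -- points
  have hex : ∀ F : Finset α, F.card < 5 → ∃ y, y ∉ F := by
    intro F hF
    by_contra hcon
    push Not at hcon
    rw [Finset.eq_univ_iff_forall.mpr hcon, Finset.card_univ, hα] at hF
    omega
  set M₀ : Subgroup 𝔊 := (stabilizer (Perm α) ω).comap ι with hM₀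
  have hmem₀ : ∀ g : 𝔊, g ∈ M₀ ↔ ι g ω = ω := fun g => Iff.rfl
  apply exists_unique_coatom_of (R : Subgroup 𝔊) M₀ (fun g hg => (hmem₀ g).mpr (hω g hg))
  · intro htop
    obtain ⟨x, hx⟩ := hex {ω} (by simp)
    obtain ⟨y, hy⟩ := hex {ω, x} (lt_of_le_of_lt Finset.card_le_two (by norm_num))
    simp only [Finset.mem_singleton] at hx
    simp only [Finset.mem_insert, Finset.mem_singleton, not_or] at hy
    obtain ⟨hg1, hg2⟩ := three_cycle_move ω x y (Ne.symm hx) (Ne.symm hy.1) (Ne.symm hy.2)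
    obtain ⟨g, hg⟩ := exists_preimage ι hAlt _ hg1
    have : g ∈ M₀ := by rw [htop]; trivial
    rw [hmem₀, hg, hg2] at this
    exact hx this
  · intro H hRH hHne
    by_contra hnot
    obtain ⟨h₀, hh₀, hh₀ω⟩ := SetLike.not_le_iff_exists.mp hnot
    rw [hmem₀] at hh₀ω
    apply hHne
    apply eq_top_of_alt_le ι hinj R H hRH
    obtain ⟨ω₀, T, Q, hT1, hT2, hT3, hQ1, hQ2, hQ3⟩ := exists_groups α k hk hα
    -- `R` is transitive off `ω`
    obtain ⟨g, hg⟩ := exists_conj_le ι hinj R T hT1 (hT2.trans hAlt)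
    have hgω : ι g ω₀ = ω := by
      by_contra hne
      have h1 : (ι g)⁻¹ ω ≠ ω₀ := fun e => hne (by rw [← e]; simp)
      obtain ⟨y, hy⟩ := hex {ω₀, (ι g)⁻¹ ω} (lt_of_le_of_lt Finset.card_le_two (by norm_num))
      simp only [Finset.mem_insert, Finset.mem_singleton, not_or] at hy
      obtain ⟨t, ht, hty⟩ := hT3 ((ι g)⁻¹ ω) y h1 hy.1
      obtain ⟨r, hr, hrt⟩ := hg t ht
      have h2 := hω r hr
      rw [hrt, Perm.mul_apply, Perm.mul_apply, hty] at h2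
      apply hy.2
      rw [← h2]; simp
    have hRtrans : ∀ x y, x ≠ ω → y ≠ ω → ∃ r ∈ (R : Subgroup 𝔊), ι r x = y := by
      intro x y hx hy
      have hx' : (ι g)⁻¹ x ≠ ω₀ := fun e => hx (by rw [← hgω, ← e]; simp)
      have hy' : (ι g)⁻¹ y ≠ ω₀ := fun e => hy (by rw [← hgω, ← e]; simp)
      obtain ⟨t, ht, hty⟩ := hT3 _ _ hx' hy'
      obtain ⟨r, hr, hrt⟩ := hg t ht
      refine ⟨r, hr, ?_⟩
      rw [hrt, Perm.mul_apply, Perm.mul_apply, hty]; simp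
    -- `H` is transitive
    have htoω : ∀ a, ∃ m ∈ H, ι m a = ω := by
      intro a
      by_cases ha : a = ω
      · exact ⟨1, H.one_mem, by rw [ha]; simp⟩
      · obtain ⟨r, hr, hra⟩ := hRtrans a (ι h₀ ω) ha hh₀ω
        refine ⟨h₀⁻¹ * r, H.mul_mem (H.inv_mem hh₀) (hRH hr), ?_⟩
        rw [map_mul, map_inv, Perm.mul_apply, hra]; simp
    have htrans : ∀ a b, ∃ m ∈ H, ι m a = b := by
      intro a b
      obtain ⟨m₁, hm₁, h1⟩ := htoω a
      obtain ⟨m₂, hm₂, h2⟩ := htoω b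
      refine ⟨m₂⁻¹ * m₁, H.mul_mem (H.inv_mem hm₂) hm₁, ?_⟩
      rw [map_mul, map_inv, Perm.mul_apply, h1, ← h2]; simp
    have h2t : IsMultiplyPretransitive (H.map ι) α 2 := by
      rw [is_two_pretransitive_iff]
      intro a b c d hab hcd
      obtain ⟨m₁, hm₁, h1⟩ := htoω a
      obtain ⟨m₂, hm₂, h2⟩ := htoω c
      have hb : ι m₁ b ≠ ω := fun e => hab ((ι m₁).injective (h1.trans e.symm))
      have hd : ι m₂ d ≠ ω := fun e => hcd ((ι m₂).injective (h2.trans e.symm))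
      obtain ⟨r, hr, hrb⟩ := hRtrans _ _ hb hd
      refine ⟨⟨ι (m₂⁻¹ * r * m₁), mem_map_of_mem ι
        (H.mul_mem (H.mul_mem (H.inv_mem hm₂) (hRH hr)) hm₁)⟩, ?_, ?_⟩
      · show ι (m₂⁻¹ * r * m₁) a = c
        rw [map_mul, map_mul, map_inv, Perm.mul_apply, Perm.mul_apply, h1, hω r hr, ← h2]; simp
      · show ι (m₂⁻¹ * r * m₁) b = d
        rw [map_mul, map_mul, map_inv, Perm.mul_apply, Perm.mul_apply, hrb]; simp
    have hprim : IsPreprimitive (H.map ι) α := isPreprimitive_of_is_two_pretransitive h2t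
    -- a three-cycle
    obtain ⟨g', hg'⟩ := exists_conj_le ι hinj R Q hQ1 (hQ2.trans hAlt)
    set K₁ : Subgroup (Perm α) := (H.map ι).comap (MulAut.conj (ι g')).toMonoidHom with hK₁
    have hmem₁ : ∀ σ : Perm α, σ ∈ K₁ ↔ ι g' * σ * (ι g')⁻¹ ∈ H.map ι := fun σ => Iff.rfl
    have hQK : Q ≤ K₁ := by
      intro q hq
      obtain ⟨r, hr, hrq⟩ := hg' q hq
      rw [hmem₁, ← hrq]
      exact mem_map_of_mem ι (hRH hr)
    obtain ⟨b, hb⟩ := hex {ι g' ω₀} (by simp)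
    simp only [Finset.mem_singleton] at hb
    obtain ⟨m, hm, hmb⟩ := htrans (ι g' ω₀) b
    have hh' : (ι g')⁻¹ * ι m * ι g' ∈ K₁ := by
      rw [hmem₁]
      have : ι g' * ((ι g')⁻¹ * ι m * ι g') * (ι g')⁻¹ = ι m := by group
      rw [this]; exact mem_map_of_mem ι hm
    have hh'ω : ((ι g')⁻¹ * ι m * ι g') ω₀ ≠ ω₀ := by
      rw [Perm.mul_apply, Perm.mul_apply, hmb]
      intro e
      apply hb
      have := congrArg (ι g') e
      simpa using this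
    obtain ⟨c, hcK, hc3⟩ := exists_threeCycle K₁ Q ω₀ hQ3 hQK _ hh' hh'ω
    rw [hmem₁] at hcK
    have hc3' : (ι g' * c * (ι g')⁻¹).IsThreeCycle := by
      unfold IsThreeCycle at hc3 ⊢
      rw [cycleType_conj]; exact hc3
    exact alternatingGroup_le_of_isPreprimitive_of_isThreeCycle_mem hprim hc3' hcK

end Main

end Cfsg.Agent.Lib.Helper20.SylMax
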