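import Mathlib
import Cfsg.Agent.Lib.Helper22.Pronormal
import Cfsg.Agent.Lib.Helper20.SylMaxA

/-!
Sylow 2-subgroups of symmetric and alternating groups are self-normalizing (helper20), part A:
general tools (orders of maximal `p`-subgroups, elements of odd prime order in normalizers, the
orbitwise closure of a permutation group).
-/

set_option autoImplicit false

namespace Cfsg.Agent.Lib.Helper20.SylNorm

open Equiv Equiv.Perm Subgroup MulAction

open Cfsg.Agent.Lib.Helper22.Pronormal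

theorem SylIn.card_eq {G : Type*} [Group G] [Finite G] {p : ℕ} [Fact p.Prime] {T D : Subgroup G}
    (h : SylIn p T D) : Nat.card T = p ^ (Nat.card D).factorization p := by
  obtain ⟨S, hS⟩ := h.exists_sylow
  rw [← hS, Subgroup.card_subtype, S.card_eq_multiplicity]

theorem sylIn_of_card {G : Type*} [Group G] [Finite G] {p : ℕ} [hp : Fact p.Prime]
    {T D : Subgroup G} (hTD : T ≤ D) (hc : Nat.card T = p ^ (Nat.card D).factorization p) :
    SylIn p T D := by
  refine ⟨hTD, IsPGroup.of_card hc, fun Q hQ hQD hTQ => ?_⟩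
  obtain ⟨k, hk⟩ := IsPGroup.iff_card.mp hQ
  have h1 : Nat.card Q ∣ Nat.card D := Subgroup.card_dvd_of_le hQD
  rw [hk] at h1
  have h2 : k ≤ (Nat.card D).factorization p :=
    (hp.out.pow_dvd_iff_le_factorization Nat.card_pos.ne').mp h1
  symm
  apply Subgroup.eq_of_le_of_card_ge hTQ
  rw [hk, hc]
  exact Nat.pow_le_pow_right hp.out.pos h2

/-- an element of a normalizer outside a maximal 2-subgroup yields one of odd prime order -/
theorem exists_prime_order_normalizing {G : Type*} [Group G] [Finite G] {P D : Subgroup G}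
    (h : SylIn 2 P D) (g : G) (hgD : g ∈ D) (hgN : g ∈ normalizer (P : Set G)) (hgP : g ∉ P) :
    ∃ g' ∈ D, g' ∈ normalizer (P : Set G) ∧ ∃ q : ℕ, q.Prime ∧ q ≠ 2 ∧ orderOf g' = q := by
  have hm : 0 < orderOf g := orderOf_pos g
  obtain ⟨e, m', hm'odd, hm'⟩ := Nat.exists_eq_two_pow_mul_odd hm.ne'
  by_cases h1 : m' = 1
  · exfalso
    rw [h1, mul_one] at hm'
    have hz : IsPGroup 2 (zpowers g) := by
      apply IsPGroup.of_card (n := e)
      rw [Nat.card_zpowers, hm']
    have hle : zpowers g ≤ normalizer (P : Set G) := by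
      rw [zpowers_le]; exact hgN
    have hsup : IsPGroup 2 (P ⊔ zpowers g : Subgroup G) := h.2.1.to_sup_of_normal_left' hz hle
    have := h.2.2 _ hsup (sup_le h.1 (by rw [zpowers_le]; exact hgD)) le_sup_left
    apply hgP
    rw [← this]
    exact le_sup_right (a := P) (mem_zpowers g)
  · have hpos : 0 < m' := hm'odd.pos
    have h2e : (2 : ℕ) ^ e ≠ 0 := by positivity
    have ho1 : orderOf (g ^ 2 ^ e) = m' := by
      rw [orderOf_pow_of_dvd h2e (by rw [hm']; exact dvd_mul_right _ _), hm',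
        Nat.mul_div_cancel_left _ (by positivity)]
    have hq : (Nat.minFac m').Prime := Nat.minFac_prime h1
    have hqd : Nat.minFac m' ∣ m' := Nat.minFac_dvd m'
    have hq2 : Nat.minFac m' ≠ 2 := by
      intro h2
      rw [h2] at hqd
      exact (Nat.not_even_iff_odd.mpr hm'odd) (even_iff_two_dvd.mpr hqd)
    obtain ⟨c, hc⟩ := hqd
    have hcpos : c ≠ 0 := by
      rintro rfl
      rw [mul_zero] at hc; omega
    refine ⟨(g ^ 2 ^ e) ^ c, D.pow_mem (D.pow_mem hgD _) _,
      Subgroup.pow_mem _ (Subgroup.pow_mem _ hgN _) _, Nat.minFac m', hq, hq2, ?_⟩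
    rw [orderOf_pow_of_dvd hcpos (by rw [ho1]; exact ⟨_, by rw [hc, mul_comm]⟩), ho1]
    conv_lhs => rw [hc]
    exact Nat.mul_div_cancel _ (Nat.pos_of_ne_zero hcpos)

section tilde

variable {α : Type} [Fintype α] [DecidableEq α]

omit [Fintype α] [DecidableEq α] in
theorem ainv (f : Perm α) (x : α) : f (f⁻¹ x) = x := f.apply_symm_apply x

omit [Fintype α] [DecidableEq α] in
theorem inva (f : Perm α) (x : α) : f⁻¹ (f x) = x := f.symm_apply_apply x

/-- the orbitwise closure: permutations agreeing on each orbit with some element of `P` -/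
def tilde (P : Subgroup (Perm α)) : Subgroup (Perm α) where
  carrier := {σ | ∀ x, ∃ p ∈ P, ∀ q ∈ P, σ (q x) = p (q x)}
  one_mem' := fun _ => ⟨1, P.one_mem, fun _ _ => rfl⟩
  mul_mem' := by
    intro σ σ' hσ hσ' x
    obtain ⟨p', hp', h'⟩ := hσ' x
    obtain ⟨p, hp, h⟩ := hσ x
    refine ⟨p * p', P.mul_mem hp hp', fun q hq => ?_⟩
    rw [Perm.mul_apply, h' q hq, Perm.mul_apply]
    have := h (p' * q) (P.mul_mem hp' hq)
    rwa [Perm.mul_apply] at this
  inv_mem' := by
    intro σ hσ x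
    obtain ⟨p, hp, h⟩ := hσ x
    refine ⟨p⁻¹, P.inv_mem hp, fun q hq => ?_⟩
    have := h (p⁻¹ * q) (P.mul_mem (P.inv_mem hp) hq)
    rw [Perm.mul_apply, ainv] at this
    rw [Perm.inv_eq_iff_eq]
    exact this.symm

theorem mem_tilde (P : Subgroup (Perm α)) (σ : Perm α) :
    σ ∈ tilde P ↔ ∀ x, ∃ p ∈ P, ∀ q ∈ P, σ (q x) = p (q x) := Iff.rfl

theorem le_tilde (P : Subgroup (Perm α)) : P ≤ tilde P :=
  fun p hp _ => ⟨p, hp, fun _ _ => rfl⟩

theorem tilde_isPGroup (P : Subgroup (Perm α)) (hP : IsPGroup 2 P) : IsPGroup 2 (tilde P) := by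
  obtain ⟨k, hk⟩ := IsPGroup.iff_card.mp hP
  rintro ⟨σ, hσ⟩
  refine ⟨k, ?_⟩
  apply Subtype.ext
  rw [Subgroup.coe_pow, Subgroup.coe_one]
  ext x
  obtain ⟨p, hp, h⟩ := hσ x
  have key : ∀ m : ℕ, ∀ q ∈ P, (σ ^ m) (q x) = (p ^ m) (q x) := by
    intro m
    induction m with
    | zero => intro q _; simp
    | succ m ih =>
      intro q hq
      rw [pow_succ', pow_succ', Perm.mul_apply, Perm.mul_apply, ih q hq]
      have := h (p ^ m * q) (P.mul_mem (P.pow_mem hp m) hq)
      rwa [Perm.mul_apply] at this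
  have h1 := key (2 ^ k) 1 P.one_mem
  have h2 : p ^ 2 ^ k = 1 := by
    have := pow_card_eq_one' (G := P) (x := ⟨p, hp⟩)
    rw [hk] at this
    exact congrArg Subtype.val this
  rw [h2] at h1
  simpa using h1

theorem tilde_normalizer (P : Subgroup (Perm α)) (g : Perm α)
    (hg : g ∈ normalizer (P : Set (Perm α))) : g ∈ normalizer (tilde P : Set (Perm α)) := by
  have key : ∀ g : Perm α, g ∈ normalizer (P : Set (Perm α)) → ∀ σ ∈ tilde P,
      g * σ * g⁻¹ ∈ tilde P := by
    intro g hg σ hσ x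
    obtain ⟨p, hp, h⟩ := hσ (g⁻¹ x)
    refine ⟨g * p * g⁻¹, (mem_normalizer_iff.mp hg p).mp hp, fun q hq => ?_⟩
    have hq' : g⁻¹ * q * g ∈ P := by
      have := (mem_normalizer_iff.mp (Subgroup.inv_mem _ hg) q).mp hq
      simpa using this
    have := h (g⁻¹ * q * g) hq'
    simp only [Perm.mul_apply, ainv] at this ⊢
    rw [this]
  rw [mem_normalizer_iff]
  intro σ
  constructor
  · exact key g hg σ
  · intro h
    have := key g⁻¹ (Subgroup.inv_mem _ hg) _ h
    simpa [mul_assoc] using this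

end tilde

end Cfsg.Agent.Lib.Helper20.SylNorm
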