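import Mathlib
import Cfsg.Agent.Lib.Helper20.SylNormA

/-!
Sylow 2-subgroups of symmetric and alternating groups are self-normalizing (helper20), part B:
restriction of a permutation group to the complement of a point, orbit sizes.
-/

set_option autoImplicit false
set_option linter.unusedSectionVars false

namespace Cfsg.Agent.Lib.Helper20.SylNorm

open Equiv Equiv.Perm Subgroup MulAction

open Cfsg.Agent.Lib.Helper22.Pronormal

variable {α : Type} [Fintype α] [DecidableEq α]

/-- the points other than `x` -/
abbrev Off (x : α) : Type := {y : α // y ≠ x}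

theorem card_off (x : α) : Fintype.card (Off x) = Fintype.card α - 1 := by
  have h := Fintype.card_subtype_compl (fun y : α => y = x)
  rw [Fintype.card_subtype_eq] at h
  rw [← h]

/-- the stabilizer of `x`, as a permutation group on the other points -/
def res (x : α) (P : Subgroup (Perm α)) : Subgroup (Perm (Off x)) := P.comap ofSubtype

theorem mem_res (x : α) (P : Subgroup (Perm α)) (σ : Perm (Off x)) :
    σ ∈ res x P ↔ ofSubtype σ ∈ P := Iff.rfl

theorem res_top (x : α) : res x (⊤ : Subgroup (Perm α)) = ⊤ := Subgroup.comap_top _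

theorem res_alt (x : α) : res x (alternatingGroup α) = alternatingGroup (Off x) := by
  ext σ
  rw [mem_res, mem_alternatingGroup, mem_alternatingGroup, sign_ofSubtype]

theorem res_mono (x : α) {P Q : Subgroup (Perm α)} (h : P ≤ Q) : res x P ≤ res x Q :=
  Subgroup.comap_mono h

theorem res_isPGroup (x : α) {P : Subgroup (Perm α)} (h : IsPGroup 2 P) :
    IsPGroup 2 (res x P) :=
  h.comap_of_injective _ ofSubtype_injective

/-- a permutation fixing `x`, on the other points -/
def lift (x : α) (g : Perm α) (hg : g x = x) : Perm (Off x) :=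
  g.subtypePerm (fun y => by
    constructor
    · intro h hy; apply h; rw [hy, hg]
    · intro h hy; apply h; apply g.injective; rw [hy, hg])

theorem ofSubtype_lift (x : α) (g : Perm α) (hg : g x = x) : ofSubtype (lift x g hg) = g :=
  ofSubtype_subtypePerm _ (fun y hy => by rintro rfl; exact hy hg)

theorem lift_mem_res (x : α) (P : Subgroup (Perm α)) (g : Perm α) (hg : g x = x) (hgP : g ∈ P) :
    lift x g hg ∈ res x P := by
  rw [mem_res, ofSubtype_lift]; exact hgP

theorem ofSubtype_fix (x : α) (σ : Perm (Off x)) : ofSubtype σ x = x :=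
  ofSubtype_apply_of_not_mem σ (fun h => h rfl)

theorem lift_ofSubtype (x : α) (σ : Perm (Off x)) :
    lift x (ofSubtype σ) (ofSubtype_fix x σ) = σ := by
  apply ofSubtype_injective
  rw [ofSubtype_lift]

theorem orderOf_lift (x : α) (g : Perm α) (hg : g x = x) : orderOf (lift x g hg) = orderOf g := by
  rw [← orderOf_injective (ofSubtype : Perm (Off x) →* Perm α) ofSubtype_injective,
    ofSubtype_lift]

theorem lift_mem_normalizer (x : α) (P : Subgroup (Perm α)) (g : Perm α) (hg : g x = x)
    (hgN : g ∈ normalizer (P : Set (Perm α))) :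
    lift x g hg ∈ normalizer (res x P : Set (Perm (Off x))) := by
  rw [mem_normalizer_iff] at hgN ⊢
  intro σ
  rw [mem_res, mem_res, map_mul, map_mul, map_inv, ofSubtype_lift]
  exact hgN _

/-- the orbit of a point -/
def orb (P : Subgroup (Perm α)) (x : α) : Set α := {y | ∃ p ∈ P, p x = y}

theorem orb_eq (P : Subgroup (Perm α)) (x : α) : orb P x = MulAction.orbit P x := by
  ext y
  constructor
  · rintro ⟨p, hp, rfl⟩
    exact ⟨⟨p, hp⟩, rfl⟩
  · rintro ⟨⟨p, hp⟩, rfl⟩
    exact ⟨p, hp, rfl⟩

theorem self_mem_orb (P : Subgroup (Perm α)) (x : α) : x ∈ orb P x := ⟨1, P.one_mem, rfl⟩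

theorem orb_eq_of_mem (P : Subgroup (Perm α)) {x y : α} (h : y ∈ orb P x) : orb P y = orb P x := by
  obtain ⟨p, hp, rfl⟩ := h
  ext z
  constructor
  · rintro ⟨r, hr, rfl⟩
    exact ⟨r * p, P.mul_mem hr hp, rfl⟩
  · rintro ⟨r, hr, rfl⟩
    refine ⟨r * p⁻¹, P.mul_mem hr (P.inv_mem hp), ?_⟩
    rw [Perm.mul_apply, inva]

/-- the stabilizer of `x` in `P` and the restriction -/
def stabEquiv (P : Subgroup (Perm α)) (x : α) : MulAction.stabilizer P x ≃ res x P where
  toFun s := ⟨lift x s.1.1 s.2, lift_mem_res x P _ _ s.1.2⟩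
  invFun σ := ⟨⟨ofSubtype σ.1, σ.2⟩, ofSubtype_fix x σ.1⟩
  left_inv s := by
    apply Subtype.ext; apply Subtype.ext
    exact ofSubtype_lift x s.1.1 s.2
  right_inv σ := by
    apply Subtype.ext
    exact lift_ofSubtype x σ.1

theorem card_res_mul (P : Subgroup (Perm α)) (x : α) :
    Nat.card (res x P) * (orb P x).ncard = Nat.card P := by
  rw [orb_eq, ← MulAction.index_stabilizer, ← Nat.card_congr (stabEquiv P x)]
  exact Subgroup.card_mul_index _

end Cfsg.Agent.Lib.Helper20.SylNorm
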