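import Mathlib
import Cfsg.Agent.Lib.Helper20.SylNormB

/-!
Sylow 2-subgroups of symmetric and alternating groups are self-normalizing (helper20), part C:
small invariant sets, and the restriction of a Sylow 2-subgroup to the complement of a point of a
small orbit is again a Sylow 2-subgroup.
-/

set_option autoImplicit false
set_option linter.unusedSectionVars false

namespace Cfsg.Agent.Lib.Helper20.SylNorm

open Equiv Equiv.Perm Subgroup MulAction
open scoped Pointwise

open Cfsg.Agent.Lib.Helper22.Pronormal Cfsg.Agent.Lib.Helper20.SylMax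

/-- Lucas for the lowest bit -/
theorem odd_choose_low (n : ℕ) (hn : n ≠ 0) : Odd (Nat.choose n (2 ^ n.factorization 2)) := by
  induction n using Nat.strong_induction_on with
  | _ n ih =>
    by_cases h2 : 2 ∣ n
    · obtain ⟨m, rfl⟩ := h2
      have hm : m ≠ 0 := by rintro rfl; exact hn rfl
      have hf : (2 * m).factorization 2 = m.factorization 2 + 1 := by
        rw [Nat.factorization_mul (by norm_num) hm]
        simp [Nat.Prime.factorization_self Nat.prime_two, add_comm]
      rw [hf]
      have L := @Choose.choose_modEq_choose_mod_mul_choose_div_nat (2 * m)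
        (2 ^ (m.factorization 2 + 1)) 2 _
      have e1 : (2 * m) % 2 = 0 := by omega
      have e2 : (2 ^ (m.factorization 2 + 1)) % 2 = 0 := by rw [pow_succ]; omega
      have e3 : (2 * m) / 2 = m := by omega
      have e4 : (2 ^ (m.factorization 2 + 1)) / 2 = 2 ^ m.factorization 2 := by
        rw [pow_succ]; omega
      rw [e1, e2, e3, e4] at L
      have ih' := ih m (by omega) hm
      rw [Nat.odd_iff] at ih' ⊢
      rw [L]
      simpa using ih'
    · rw [Nat.factorization_eq_zero_of_not_dvd h2, pow_zero, Nat.choose_one_right]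
      exact Nat.odd_iff.mpr (by omega)

variable {α : Type} [Fintype α] [DecidableEq α]

/-- a small invariant set -/
theorem exists_invariant_set (P : Subgroup (Perm α)) (hP : IsPGroup 2 P)
    (hn : Fintype.card α ≠ 0) :
    ∃ A : Finset α, A.card = 2 ^ (Fintype.card α).factorization 2 ∧
      ∀ p ∈ P, ∀ x ∈ A, p x ∈ A := by
  obtain ⟨X, hX, hfix⟩ := exists_fixed_of_odd hP P.subtype
    (Finset.powersetCard (2 ^ (Fintype.card α).factorization 2) (Finset.univ : Finset α))
    (fun g X hX => by
      rw [Finset.mem_powersetCard] at hX ⊢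
      exact ⟨Finset.subset_univ _, by rw [Finset.card_smul_finset]; exact hX.2⟩)
    (by rw [Finset.card_powersetCard, Finset.card_univ]; exact odd_choose_low _ hn)
  refine ⟨X, (Finset.mem_powersetCard.mp hX).2, fun p hp x hx => ?_⟩
  have h1 := hfix ⟨p, hp⟩
  have h2 : p • x ∈ p • X := Finset.smul_mem_smul_finset hx
  have h3 : p • X = X := h1
  rw [h3] at h2
  exact h2

theorem ncard_orb_le (P : Subgroup (Perm α)) (A : Finset α) (hA : ∀ p ∈ P, ∀ x ∈ A, p x ∈ A)
    (x : α) (hx : x ∈ A) : (orb P x).ncard ≤ A.card := by
  rw [← Set.ncard_coe_finset A]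
  apply Set.ncard_le_ncard _ (Finset.finite_toSet A)
  rintro y ⟨p, hp, rfl⟩
  exact hA p hp x hx

/-- the key computation -/
theorem res_key (P D : Subgroup (Perm α)) (hP : SylIn 2 P D) (x : α)
    (hcard : Nat.card D = Fintype.card α * Nat.card (res x D))
    (horb : (orb P x).ncard ≤ 2 ^ (Fintype.card α).factorization 2) :
    SylIn 2 (res x P) (res x D) ∧ (orb P x).ncard = 2 ^ (Fintype.card α).factorization 2 := by
  haveI : Fact (Nat.Prime 2) := ⟨Nat.prime_two⟩
  have hne : Nonempty α := ⟨x⟩
  have hn : Fintype.card α ≠ 0 := Fintype.card_ne_zero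
  have hN' : Nat.card (res x D) ≠ 0 := Nat.card_pos.ne'
  have hPc : Nat.card P = 2 ^ (Nat.card D).factorization 2 := SylIn.card_eq hP
  have hfac : (Nat.card D).factorization 2 =
      (Fintype.card α).factorization 2 + (Nat.card (res x D)).factorization 2 := by
    rw [hcard, Nat.factorization_mul hn hN']; rfl
  have h1 := card_res_mul P x
  obtain ⟨k, hk⟩ := IsPGroup.iff_card.mp (res_isPGroup x hP.2.1)
  have hdvd : (orb P x).ncard ∣ 2 ^ (Nat.card D).factorization 2 := by
    rw [← hPc, ← h1]; exact dvd_mul_left _ _
  obtain ⟨j, -, hj⟩ := (Nat.dvd_prime_pow Nat.prime_two).mp hdvd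
  rw [hj] at horb
  have hja : j ≤ (Fintype.card α).factorization 2 :=
    (Nat.pow_le_pow_iff_right (by norm_num)).mp horb
  have hkb : k ≤ (Nat.card (res x D)).factorization 2 := by
    have h2 : Nat.card (res x P) ∣ Nat.card (res x D) := Subgroup.card_dvd_of_le (res_mono x hP.1)
    rw [hk] at h2
    exact (Nat.prime_two.pow_dvd_iff_le_factorization hN').mp h2
  have hsum : k + j =
      (Fintype.card α).factorization 2 + (Nat.card (res x D)).factorization 2 := by
    rw [hk, hj, hPc, hfac, ← pow_add] at h1
    exact Nat.pow_right_injective (le_refl 2) h1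
  have hk' : k = (Nat.card (res x D)).factorization 2 := by omega
  have hj' : j = (Fintype.card α).factorization 2 := by omega
  refine ⟨sylIn_of_card (res_mono x hP.1) ?_, ?_⟩
  · rw [hk, hk']
  · rw [hj, hj']

theorem card_top_eq (x : α) :
    Nat.card (⊤ : Subgroup (Perm α)) = Fintype.card α * Nat.card (res x (⊤ : Subgroup (Perm α))) := by
  have hne : Nonempty α := ⟨x⟩
  have hn : Fintype.card α ≠ 0 := Fintype.card_ne_zero
  rw [res_top, Subgroup.card_top, Subgroup.card_top, Nat.card_eq_fintype_card,
    Nat.card_eq_fintype_card, Fintype.card_perm, Fintype.card_perm, card_off]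
  exact (Nat.mul_factorial_pred hn).symm

theorem card_alt_eq (x : α) (h3 : 3 ≤ Fintype.card α) :
    Nat.card (alternatingGroup α) =
      Fintype.card α * Nat.card (res x (alternatingGroup α)) := by
  have hn : Fintype.card α ≠ 0 := by omega
  have : Nontrivial α := Fintype.one_lt_card_iff_nontrivial.mp (by omega)
  have : Nontrivial (Off x) := Fintype.one_lt_card_iff_nontrivial.mp (by rw [card_off]; omega)
  have h1 := two_mul_nat_card_alternatingGroup (α := α)
  have h2 := two_mul_nat_card_alternatingGroup (α := Off x)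
  have hp1 : Nat.card (Perm α) = (Fintype.card α).factorial := by
    rw [Nat.card_eq_fintype_card, Fintype.card_perm]
  have hp2 : Nat.card (Perm (Off x)) = (Fintype.card α - 1).factorial := by
    rw [Nat.card_eq_fintype_card, Fintype.card_perm, card_off]
  rw [hp1] at h1
  rw [hp2] at h2
  rw [res_alt]
  have h3 := Nat.mul_factorial_pred hn
  have : 2 * Nat.card (alternatingGroup α) =
      2 * (Fintype.card α * Nat.card (alternatingGroup (Off x))) := by
    rw [h1, ← h3, ← h2]; ring
  omega

end Cfsg.Agent.Lib.Helper20.SylNorm
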