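import Mathlib
import Cfsg.Agent.Lib.Helper20.SylNormC

/-!
Sylow 2-subgroups of symmetric and alternating groups are self-normalizing (helper20), part D:
an element normalizing an orbitwise closed Sylow 2-subgroup fixes its orbits (the involution
interchanging two orbits).
-/

set_option autoImplicit false
set_option linter.unusedSectionVars false

namespace Cfsg.Agent.Lib.Helper20.SylNorm

open Equiv Equiv.Perm Subgroup MulAction
open scoped Pointwise

open Cfsg.Agent.Lib.Helper22.Pronormal Cfsg.Agent.Lib.Helper20.SylMax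

variable {α : Type} [Fintype α] [DecidableEq α]

theorem orb_smul (P : Subgroup (Perm α)) (x y : α) (p : Perm α) (hp : p ∈ P) :
    p y ∈ orb P x ↔ y ∈ orb P x := by
  constructor
  · rintro ⟨r, hr, h⟩
    refine ⟨p⁻¹ * r, P.mul_mem (P.inv_mem hp) hr, ?_⟩
    rw [Perm.mul_apply, h, inva]
  · rintro ⟨r, hr, rfl⟩
    exact ⟨p * r, P.mul_mem hp hr, rfl⟩

theorem conj_mem_of_normalizer (P : Subgroup (Perm α)) (g : Perm α)
    (hg : g ∈ normalizer (P : Set (Perm α))) (p : Perm α) (hp : p ∈ P) :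
    g * p * g⁻¹ ∈ P ∧ g⁻¹ * p * g ∈ P := by
  refine ⟨(mem_normalizer_iff.mp hg p).mp hp, ?_⟩
  have := (mem_normalizer_iff.mp (Subgroup.inv_mem _ hg) p).mp hp
  simpa using this

/-- an involution normalizing a maximal 2-subgroup belongs to it -/
theorem mem_of_invol_normalizing {P D : Subgroup (Perm α)} (hP : SylIn 2 P D) (τ : Perm α)
    (hτD : τ ∈ D) (hτ2 : τ * τ = 1) (hτ : ∀ p ∈ P, τ * p * τ ∈ P) : τ ∈ P := by
  have hinv : τ⁻¹ = τ := inv_eq_of_mul_eq_one_right hτ2
  have hz : IsPGroup 2 (zpowers τ) := by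
    rintro ⟨u, hu⟩
    refine ⟨1, ?_⟩
    apply Subtype.ext
    obtain ⟨i, rfl⟩ := mem_zpowers_iff.mp hu
    rw [Subgroup.coe_pow, Subgroup.coe_one, pow_one, ← zpow_natCast, ← zpow_mul, mul_comm,
      zpow_mul, zpow_natCast, pow_two, hτ2, one_zpow]
  have hτN : τ ∈ normalizer (P : Set (Perm α)) := by
    rw [mem_normalizer_iff]
    intro p
    rw [hinv]
    refine ⟨hτ p, fun h => ?_⟩
    have := hτ _ h
    have e : τ * (τ * p * τ) * τ = (τ * τ) * p * (τ * τ) := by simp only [mul_assoc]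
    rwa [e, hτ2, one_mul, mul_one] at this
  have hle : zpowers τ ≤ normalizer (P : Set (Perm α)) := by
    rw [zpowers_le]; exact hτN
  have hsup : IsPGroup 2 (P ⊔ zpowers τ : Subgroup (Perm α)) :=
    hP.2.1.to_sup_of_normal_left' hz hle
  have := hP.2.2 _ hsup (sup_le hP.1 (by rw [zpowers_le]; exact hτD)) le_sup_left
  rw [← this]
  exact le_sup_right (a := P) (mem_zpowers τ)

section swapVia

variable (P : Subgroup (Perm α)) (g : Perm α) (x₀ : α)

open Classical in
/-- the map interchanging the orbit of `x₀` and its image under `g` -/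
noncomputable def swapFun (y : α) : α :=
  if y ∈ orb P x₀ then g y else if g⁻¹ y ∈ orb P x₀ then g⁻¹ y else y

variable {P g x₀}

theorem img_not_mem (hg : g ∈ normalizer (P : Set (Perm α))) (hx : g x₀ ∉ orb P x₀)
    {y : α} (hy : y ∈ orb P x₀) : g y ∉ orb P x₀ := by
  intro h
  obtain ⟨p, hp, rfl⟩ := hy
  apply hx
  have h1 := (conj_mem_of_normalizer P g hg p hp).1
  have h2 : (g * p * g⁻¹) (g x₀) = g (p x₀) := by
    simp only [Perm.mul_apply, inva]
  rw [← h2] at h
  exact (orb_smul P x₀ _ _ h1).mp h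

theorem swapFun_invol (hg : g ∈ normalizer (P : Set (Perm α))) (hx : g x₀ ∉ orb P x₀) :
    Function.Involutive (swapFun P g x₀) := by
  intro y
  unfold swapFun
  by_cases h1 : y ∈ orb P x₀
  · have h2 := img_not_mem hg hx h1
    rw [if_pos h1, if_neg h2, inva, if_pos h1]
  · rw [if_neg h1]
    by_cases h3 : g⁻¹ y ∈ orb P x₀
    · rw [if_pos h3, if_pos h3, ainv]
    · rw [if_neg h3, if_neg h1, if_neg h3]

/-- the involution interchanging the orbit of `x₀` and its image under `g` -/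
noncomputable def swapVia (hg : g ∈ normalizer (P : Set (Perm α))) (hx : g x₀ ∉ orb P x₀) :
    Perm α := (swapFun_invol hg hx).toPerm

theorem swapVia_apply (hg : g ∈ normalizer (P : Set (Perm α))) (hx : g x₀ ∉ orb P x₀) (y : α) :
    swapVia hg hx y = swapFun P g x₀ y := rfl

theorem swapVia_mem (hg : g ∈ normalizer (P : Set (Perm α))) (hx : g x₀ ∉ orb P x₀) {y : α}
    (hy : y ∈ orb P x₀) : swapVia hg hx y = g y := by
  rw [swapVia_apply]; unfold swapFun; rw [if_pos hy]

theorem swapVia_img (hg : g ∈ normalizer (P : Set (Perm α))) (hx : g x₀ ∉ orb P x₀) {y : α}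
    (hy : y ∉ orb P x₀) (hy' : g⁻¹ y ∈ orb P x₀) : swapVia hg hx y = g⁻¹ y := by
  rw [swapVia_apply]; unfold swapFun; rw [if_neg hy, if_pos hy']

theorem swapVia_other (hg : g ∈ normalizer (P : Set (Perm α))) (hx : g x₀ ∉ orb P x₀) {y : α}
    (hy : y ∉ orb P x₀) (hy' : g⁻¹ y ∉ orb P x₀) : swapVia hg hx y = y := by
  rw [swapVia_apply]; unfold swapFun; rw [if_neg hy, if_neg hy']

theorem swapVia_mul_self (hg : g ∈ normalizer (P : Set (Perm α))) (hx : g x₀ ∉ orb P x₀) :
    swapVia hg hx * swapVia hg hx = 1 := by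
  ext y
  rw [Perm.mul_apply, Perm.one_apply]
  exact swapFun_invol hg hx y

theorem ginv_orb_smul (hg : g ∈ normalizer (P : Set (Perm α))) (p : Perm α) (hp : p ∈ P) (y : α) :
    g⁻¹ (p y) ∈ orb P x₀ ↔ g⁻¹ y ∈ orb P x₀ := by
  have h1 := (conj_mem_of_normalizer P g hg p hp).2
  have h2 : (g⁻¹ * p * g) (g⁻¹ y) = g⁻¹ (p y) := by
    simp only [Perm.mul_apply, ainv]
  rw [← h2]
  exact orb_smul P x₀ _ _ h1

/-- conjugation by the interchanging involution preserves the orbitwise closure -/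
theorem swapVia_conj_mem (hg : g ∈ normalizer (P : Set (Perm α))) (hx : g x₀ ∉ orb P x₀)
    (p : Perm α) (hp : p ∈ P) : swapVia hg hx * p * swapVia hg hx ∈ tilde P := by
  intro y
  by_cases h1 : y ∈ orb P x₀
  · refine ⟨g⁻¹ * p * g, (conj_mem_of_normalizer P g hg p hp).2, fun r hr => ?_⟩
    have h2 : r y ∈ orb P x₀ := (orb_smul P x₀ y r hr).mpr h1
    have h3 : g (r y) ∉ orb P x₀ := img_not_mem hg hx h2
    have h4 : p (g (r y)) ∉ orb P x₀ := fun h => h3 ((orb_smul P x₀ _ p hp).mp h)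
    have h5 : g⁻¹ (p (g (r y))) ∈ orb P x₀ := by
      rw [ginv_orb_smul hg p hp, inva]; exact h2
    simp only [Perm.mul_apply]
    rw [swapVia_mem hg hx h2, swapVia_img hg hx h4 h5]
  · by_cases h2 : g⁻¹ y ∈ orb P x₀
    · refine ⟨g * p * g⁻¹, (conj_mem_of_normalizer P g hg p hp).1, fun r hr => ?_⟩
      have h3 : r y ∉ orb P x₀ := fun h => h1 ((orb_smul P x₀ y r hr).mp h)
      have h4 : g⁻¹ (r y) ∈ orb P x₀ := (ginv_orb_smul hg r hr y).mpr h2
      have h5 : p (g⁻¹ (r y)) ∈ orb P x₀ := (orb_smul P x₀ _ p hp).mpr h4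
      simp only [Perm.mul_apply]
      rw [swapVia_img hg hx h3 h4, swapVia_mem hg hx h5]
    · refine ⟨p, hp, fun r hr => ?_⟩
      have h3 : r y ∉ orb P x₀ := fun h => h1 ((orb_smul P x₀ y r hr).mp h)
      have h4 : g⁻¹ (r y) ∉ orb P x₀ := fun h => h2 ((ginv_orb_smul hg r hr y).mp h)
      have h5 : p (r y) ∉ orb P x₀ := fun h => h3 ((orb_smul P x₀ _ p hp).mp h)
      have h6 : g⁻¹ (p (r y)) ∉ orb P x₀ := fun h => h4 ((ginv_orb_smul hg p hp _).mp h)
      simp only [Perm.mul_apply]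
      rw [swapVia_other hg hx h3 h4, swapVia_other hg hx h5 h6]

end swapVia

end Cfsg.Agent.Lib.Helper20.SylNorm
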