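import Mathlib
import Cfsg.Agent.Lib.Helper20.SylNormD

/-!
Sylow 2-subgroups of symmetric and alternating groups are self-normalizing (helper20), part E:
the sign of the interchanging involution, fixed points of elements of odd prime order.
-/

set_option autoImplicit false
set_option linter.unusedSectionVars false

namespace Cfsg.Agent.Lib.Helper20.SylNorm

open Equiv Equiv.Perm Subgroup MulAction
open scoped Pointwise

open Cfsg.Agent.Lib.Helper22.Pronormal Cfsg.Agent.Lib.Helper20.SylMax

variable {α : Type} [Fintype α] [DecidableEq α]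

/-- the sign of an involution -/
theorem sign_invol (τ : Perm α) (h : τ * τ = 1) : Perm.sign τ = (-1) ^ (τ.support.card / 2) := by
  have ho : orderOf τ ∣ 2 := orderOf_dvd_of_pow_eq_one (by rw [pow_two, h])
  have hall : ∀ n ∈ τ.cycleType, n = 2 := by
    intro n hn
    have h1 : n ∣ 2 := (dvd_of_mem_cycleType hn).trans ho
    have h2 : 2 ≤ n := two_le_of_mem_cycleType hn
    have h3 : n ≤ 2 := Nat.le_of_dvd (by norm_num) h1
    omega
  have hrep := Multiset.eq_replicate_card.mpr hall
  have hsum : τ.support.card = 2 * Multiset.card τ.cycleType := by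
    rw [← sum_cycleType]
    conv_lhs => rw [hrep]
    rw [Multiset.sum_replicate, smul_eq_mul, mul_comm]
  rw [sign_of_cycleType, hsum, Nat.mul_div_cancel_left _ (by norm_num)]
  conv_lhs => rw [hrep]
  rw [Multiset.sum_replicate, Multiset.card_replicate, smul_eq_mul, pow_add, pow_mul]
  simp

variable {P : Subgroup (Perm α)} {g : Perm α} {x₀ : α}

theorem card_support_swapVia (hg : g ∈ normalizer (P : Set (Perm α))) (hx : g x₀ ∉ orb P x₀) :
    (swapVia hg hx).support.card = 2 * (orb P x₀).ncard := by
  classical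
  have hO : (orb P x₀).ncard = (orb P x₀).toFinset.card := Set.ncard_eq_toFinset_card' _
  have hsupp : (swapVia hg hx).support =
      (orb P x₀).toFinset ∪ (orb P x₀).toFinset.image g := by
    ext y
    rw [mem_support, Finset.mem_union, Set.mem_toFinset, Finset.mem_image]
    by_cases h1 : y ∈ orb P x₀
    · rw [swapVia_mem hg hx h1]
      refine ⟨fun _ => Or.inl h1, fun _ h => ?_⟩
      have := img_not_mem hg hx h1
      rw [h] at this
      exact this h1
    · by_cases h2 : g⁻¹ y ∈ orb P x₀
      · rw [swapVia_img hg hx h1 h2]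
        refine ⟨fun _ => Or.inr ⟨g⁻¹ y, Set.mem_toFinset.mpr h2, ainv g y⟩, fun _ h => ?_⟩
        rw [h] at h2
        exact h1 h2
      · rw [swapVia_other hg hx h1 h2]
        refine ⟨fun h => absurd rfl h, ?_⟩
        rintro (h | ⟨z, hz, rfl⟩)
        · exact absurd h h1
        · rw [inva] at h2
          exact absurd (Set.mem_toFinset.mp hz) h2
  have hdisj : Disjoint (orb P x₀).toFinset ((orb P x₀).toFinset.image g) := by
    rw [Finset.disjoint_left]
    intro y hy hy'
    obtain ⟨z, hz, rfl⟩ := Finset.mem_image.mp hy'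
    exact img_not_mem hg hx (Set.mem_toFinset.mp hz) (Set.mem_toFinset.mp hy)
  rw [hsupp, Finset.card_union_of_disjoint hdisj, Finset.card_image_of_injective _ g.injective,
    hO]
  ring

theorem swapVia_mem_alt (hg : g ∈ normalizer (P : Set (Perm α))) (hx : g x₀ ∉ orb P x₀)
    (hev : Even (orb P x₀).ncard) : swapVia hg hx ∈ alternatingGroup α := by
  rw [mem_alternatingGroup, sign_invol _ (swapVia_mul_self hg hx), card_support_swapVia,
    Nat.mul_div_cancel_left _ (by norm_num)]
  exact Even.neg_one_pow hev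

/-- a permutation of prime order `q` preserving a set of size prime to `q` fixes a point of it -/
theorem exists_fixed_of_prime_order (g : Perm α) (q : ℕ) (hq : q.Prime) (hgq : orderOf g = q)
    (S : Finset α) (hS : ∀ y ∈ S, g y ∈ S) (hnd : ¬ q ∣ S.card) : ∃ y ∈ S, g y = y := by
  haveI : Fact q.Prime := ⟨hq⟩
  have hz : IsPGroup q (zpowers g) := by
    apply IsPGroup.of_card (n := 1)
    rw [Nat.card_zpowers, hgq, pow_one]
  have hSz : ∀ u : zpowers g, ∀ y ∈ S, (u : Perm α) y ∈ S := by
    rintro ⟨u, hu⟩ y hy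
    obtain ⟨i, rfl⟩ := mem_zpowers_iff.mp hu
    have hcl : ∀ n : ℕ, ∀ y ∈ S, (g ^ n) y ∈ S := by
      intro n
      induction n with
      | zero => intro y hy; simpa using hy
      | succ n ih => intro y hy; rw [pow_succ', Perm.mul_apply]; exact hS _ (ih y hy)
    have hfin : ∃ n : ℕ, g ^ i = g ^ n := by
      refine ⟨(i % (orderOf g : ℤ)).toNat, ?_⟩
      rw [← zpow_natCast, Int.toNat_of_nonneg (Int.emod_nonneg _ (by
        have := orderOf_pos g; omega)), zpow_mod_orderOf]
    obtain ⟨n, hn⟩ := hfin
    show (g ^ i) y ∈ S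
    rw [hn]; exact hcl n y hy
  let T : SubMulAction (zpowers g) α := ⟨↑S, fun u y hy => hSz u y hy⟩
  have hfin : Finite T := Finite.of_injective (fun t : T => (⟨t.1, t.2⟩ : (S : Set α)))
    (fun a b h => by
      apply Subtype.ext
      exact congrArg (fun u : (S : Set α) => (u : α)) h)
  have hcard : Nat.card T = S.card := by
    have : Nat.card T = Nat.card (S : Set α) := Nat.card_congr
      ⟨fun t => ⟨t.1, t.2⟩, fun t => ⟨t.1, t.2⟩, fun _ => rfl, fun _ => rfl⟩
    rw [this, Nat.card_coe_set_eq, Set.ncard_coe_finset]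
  have hnd' : ¬ q ∣ Nat.card T := by rw [hcard]; exact hnd
  obtain ⟨⟨y, hy⟩, hfix⟩ := hz.nonempty_fixed_point_of_prime_not_dvd_card T hnd'
  refine ⟨y, hy, ?_⟩
  have := hfix ⟨g, mem_zpowers g⟩
  exact congrArg Subtype.val this

end Cfsg.Agent.Lib.Helper20.SylNorm
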