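import Mathlib
import Cfsg.Agent.Lib.Helper20.SylNormE

/-!
Sylow 2-subgroups of symmetric and alternating groups are self-normalizing (helper20), part F:
the symmetric group.
-/

set_option autoImplicit false
set_option linter.unusedSectionVars false

namespace Cfsg.Agent.Lib.Helper20.SylNorm

open Equiv Equiv.Perm Subgroup MulAction
open scoped Pointwise

open Cfsg.Agent.Lib.Helper22.Pronormal Cfsg.Agent.Lib.Helper20.SylMax

variable {α : Type} [Fintype α] [DecidableEq α]

theorem ncard_orb_eq_pow {P : Subgroup (Perm α)} (hP : IsPGroup 2 P) (x : α) :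
    ∃ j, (orb P x).ncard = 2 ^ j := by
  obtain ⟨k, hk⟩ := IsPGroup.iff_card.mp hP
  have h1 := card_res_mul P x
  have hdvd : (orb P x).ncard ∣ 2 ^ k := by
    rw [← hk, ← h1]; exact dvd_mul_left _ _
  obtain ⟨j, -, hj⟩ := (Nat.dvd_prime_pow Nat.prime_two).mp hdvd
  exact ⟨j, hj⟩

theorem orb_invariant_of_normalizer {P : Subgroup (Perm α)} {g : Perm α} {x₀ : α}
    (hg : g ∈ normalizer (P : Set (Perm α))) (hx : g x₀ ∈ orb P x₀) :
    ∀ y ∈ orb P x₀, g y ∈ orb P x₀ := by
  rintro y ⟨p, hp, rfl⟩
  have h1 := (conj_mem_of_normalizer P g hg p hp).1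
  have h2 : (g * p * g⁻¹) (g x₀) = g (p x₀) := by
    simp only [Perm.mul_apply, inva]
  rw [← h2]
  exact (orb_smul P x₀ _ _ h1).mpr hx

/-- a fixed point of `g` in a `g`-invariant orbit of a 2-group -/
theorem exists_fixed_in_orb {P : Subgroup (Perm α)} (hP : IsPGroup 2 P) {g : Perm α} {x₀ : α}
    (hg : g ∈ normalizer (P : Set (Perm α))) (hx : g x₀ ∈ orb P x₀)
    (q : ℕ) (hq : q.Prime) (hq2 : q ≠ 2) (hgq : orderOf g = q) :
    ∃ x ∈ orb P x₀, g x = x := by
  classical
  obtain ⟨j, hj⟩ := ncard_orb_eq_pow hP x₀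
  have hO : (orb P x₀).ncard = (orb P x₀).toFinset.card := Set.ncard_eq_toFinset_card' _
  obtain ⟨x, hxS, hfix⟩ := exists_fixed_of_prime_order g q hq hgq (orb P x₀).toFinset
    (fun y hy => Set.mem_toFinset.mpr
      (orb_invariant_of_normalizer hg hx y (Set.mem_toFinset.mp hy)))
    (by
      rw [← hO, hj]
      intro h
      have := hq.dvd_of_dvd_pow h
      exact hq2 ((Nat.prime_dvd_prime_iff_eq hq Nat.prime_two).mp this))
  exact ⟨x, Set.mem_toFinset.mp hxS, hfix⟩

/-- no element of odd prime order normalizes a Sylow 2-subgroup of a symmetric group -/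
theorem sym_main : ∀ n : ℕ, ∀ (α : Type) [Fintype α] [DecidableEq α], Fintype.card α = n →
    ∀ P : Subgroup (Perm α), SylIn 2 P ⊤ → ∀ g : Perm α, g ∈ normalizer (P : Set (Perm α)) →
    ∀ q : ℕ, q.Prime → q ≠ 2 → orderOf g = q → False := by
  intro n
  induction n using Nat.strong_induction_on with
  | _ n ih =>
    intro α _ _ hα P hP g hg q hq hq2 hgq
    by_cases hn : Fintype.card α = 0
    · have : IsEmpty α := Fintype.card_eq_zero_iff.mp hn
      have h1 : g = 1 := Subsingleton.elim _ _
      rw [h1, orderOf_one] at hgq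
      exact hq.one_lt.ne hgq
    · have hPt : tilde P = P := hP.2.2 _ (tilde_isPGroup P hP.2.1) le_top (le_tilde P)
      obtain ⟨A, hAc, hA⟩ := exists_invariant_set P hP.2.1 hn
      have hAne : A.Nonempty := by
        rw [← Finset.card_pos, hAc]; positivity
      obtain ⟨x₀, hx₀⟩ := hAne
      have hgx : g x₀ ∈ orb P x₀ := by
        by_contra hx
        have hτ : swapVia hg hx ∈ P := by
          apply mem_of_invol_normalizing hP _ (Subgroup.mem_top _) (swapVia_mul_self hg hx)
          intro p hp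
          have := swapVia_conj_mem hg hx p hp
          rwa [hPt] at this
        exact hx ⟨_, hτ, swapVia_mem hg hx (self_mem_orb P x₀)⟩
      obtain ⟨x, hxO, hfix⟩ := exists_fixed_in_orb hP.2.1 hg hgx q hq hq2 hgq
      have horb : (orb P x).ncard ≤ 2 ^ (Fintype.card α).factorization 2 := by
        rw [orb_eq_of_mem P hxO, ← hAc]
        exact ncard_orb_le P A hA x₀ hx₀
      obtain ⟨hS, -⟩ := res_key P ⊤ hP x (card_top_eq x) horb
      rw [res_top] at hS
      have hcard : Fintype.card (Off x) = n - 1 := by rw [card_off, hα]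
      have hnpos : 0 < n := by rw [← hα]; exact Nat.pos_of_ne_zero hn
      exact ih (n - 1) (by omega) (Off x) hcard (res x P) hS (lift x g hfix)
        (lift_mem_normalizer x P g hfix hg) q hq hq2 (by rw [orderOf_lift, hgq])

/-- Sylow 2-subgroups of symmetric groups are self-normalizing -/
theorem sym_normalizer_le (P : Subgroup (Perm α)) (hP : SylIn 2 P ⊤) :
    normalizer (P : Set (Perm α)) ≤ P := by
  intro g hg
  by_contra hgP
  obtain ⟨g', -, hg'N, q, hq, hq2, hg'q⟩ :=
    exists_prime_order_normalizing hP g (Subgroup.mem_top _) hg hgP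
  exact sym_main _ α rfl P hP g' hg'N q hq hq2 hg'q

end Cfsg.Agent.Lib.Helper20.SylNorm
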