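import Mathlib
import Cfsg.Agent.Lib.Helper20.SylNormF

/-!
Sylow 2-subgroups of symmetric and alternating groups are self-normalizing (helper20), part G:
the alternating groups of degree at least 6.
-/

set_option autoImplicit false
set_option linter.unusedSectionVars false

namespace Cfsg.Agent.Lib.Helper20.SylNorm

open Equiv Equiv.Perm Subgroup MulAction
open scoped Pointwise

open Cfsg.Agent.Lib.Helper22.Pronormal Cfsg.Agent.Lib.Helper20.SylMax

variable {α : Type} [Fintype α] [DecidableEq α]

theorem orb_eq_singleton (P : Subgroup (Perm α)) (x : α) (hfix : ∀ p ∈ P, p x = x) :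
    orb P x = {x} := by
  ext y
  constructor
  · rintro ⟨p, hp, rfl⟩
    exact hfix p hp
  · rintro rfl
    exact self_mem_orb P y

/-- a Sylow 2-subgroup of an alternating group with a fixed point -/
theorem alt_fixed_odd (P : Subgroup (Perm α)) (hP : SylIn 2 P (alternatingGroup α))
    (h3 : 3 ≤ Fintype.card α) (x : α) (hfix : ∀ p ∈ P, p x = x) :
    ¬ 2 ∣ Fintype.card α ∧ SylIn 2 (res x P) (alternatingGroup (Off x)) := by
  have h1 : (orb P x).ncard = 1 := by rw [orb_eq_singleton P x hfix, Set.ncard_singleton]
  obtain ⟨hS, hc⟩ := res_key P _ hP x (card_alt_eq x h3)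
    (by rw [h1]; exact Nat.one_le_two_pow)
  rw [res_alt] at hS
  refine ⟨?_, hS⟩
  rw [h1] at hc
  have hv : (Fintype.card α).factorization 2 = 0 := by
    by_contra h
    have : 2 ∣ 2 ^ (Fintype.card α).factorization 2 := dvd_pow_self 2 h
    rw [← hc] at this
    omega
  rcases (Nat.factorization_eq_zero_iff _ _).mp hv with h | h | h
  · exact absurd Nat.prime_two h
  · exact h
  · omega

/-- a Sylow 2-subgroup of an alternating group of degree at least 4 has at most one fixed point -/
theorem alt_fixed_unique (P : Subgroup (Perm α)) (hP : SylIn 2 P (alternatingGroup α))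
    (h4 : 4 ≤ Fintype.card α) (x y : α) (hx : ∀ p ∈ P, p x = x) (hy : ∀ p ∈ P, p y = y) :
    x = y := by
  by_contra hxy
  obtain ⟨h1, hS⟩ := alt_fixed_odd P hP (by omega) x hx
  have hy' : ∀ σ ∈ res x P, σ (⟨y, fun h => hxy h.symm⟩ : Off x) = ⟨y, fun h => hxy h.symm⟩ := by
    intro σ hσ
    have h2 := hy _ ((mem_res x P σ).mp hσ)
    apply Subtype.ext
    rw [← ofSubtype_apply_coe]
    exact h2
  obtain ⟨h2, -⟩ := alt_fixed_odd (res x P) hS (by rw [card_off]; omega) _ hy'
  rw [card_off] at h2
  omega

/-- an orbitwise closed even group has no orbits of size 2 -/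
theorem no_orbit_two (P : Subgroup (Perm α)) (hle : tilde P ≤ alternatingGroup α) (x : α)
    (h2 : (orb P x).ncard = 2) : False := by
  obtain ⟨a, b, hab, hO⟩ := Set.ncard_eq_two.mp h2
  have key : ∀ x y : α, x ≠ y → orb P x = {x, y} → False := by
    intro x y hxy hO
    have hyO : y ∈ orb P x := by rw [hO]; simp
    obtain ⟨p₀, hp₀, hp₀x⟩ := hyO
    have hp₀y : p₀ y = x := by
      have h1 : p₀ y ∈ orb P x := (orb_smul P x y p₀ hp₀).mpr (by rw [hO]; simp)
      rw [hO] at h1
      rcases h1 with h1 | h1
      · exact h1
      · exfalso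
        rw [Set.mem_singleton_iff] at h1
        exact hxy (p₀.injective (hp₀x.trans h1.symm))
    have hsw : swap x y ∈ tilde P := by
      intro z
      by_cases hz : z ∈ orb P x
      · refine ⟨p₀, hp₀, fun r hr => ?_⟩
        have h1 : r z ∈ orb P x := (orb_smul P x z r hr).mpr hz
        rw [hO] at h1
        rcases h1 with h1 | h1
        · rw [h1, swap_apply_left, hp₀x]
        · rw [Set.mem_singleton_iff] at h1
          rw [h1, swap_apply_right, hp₀y]
      · refine ⟨1, P.one_mem, fun r hr => ?_⟩
        have h1 : r z ∉ orb P x := fun h => hz ((orb_smul P x z r hr).mp h)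
        rw [hO] at h1
        have h3 : r z ≠ x := fun h => h1 (by rw [h]; simp)
        have h4 : r z ≠ y := fun h => h1 (by rw [h]; simp)
        rw [swap_apply_of_ne_of_ne h3 h4, Perm.one_apply]
    have := hle hsw
    rw [mem_alternatingGroup, sign_swap hxy] at this
    exact absurd this (by decide)
  have hxO : x ∈ orb P x := self_mem_orb P x
  rw [hO] at hxO
  rcases hxO with h | h
  · subst h
    exact key x b hab hO
  · rw [Set.mem_singleton_iff] at h
    subst h
    exact key x a hab.symm (by rw [hO, Set.pair_comm])

/-- if the orbitwise closure of a Sylow 2-subgroup of the alternating group is not even, it is a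
Sylow 2-subgroup of the symmetric group -/
theorem tilde_sylIn_top [Nontrivial α] (P : Subgroup (Perm α))
    (hP : SylIn 2 P (alternatingGroup α)) (hle : ¬ tilde P ≤ alternatingGroup α) :
    SylIn 2 (tilde P) ⊤ := by
  have : Fact (Nat.Prime 2) := ⟨Nat.prime_two⟩
  have hQ : tilde P ⊓ alternatingGroup α = P :=
    hP.2.2 _ ((tilde_isPGroup P hP.2.1).to_le inf_le_left) inf_le_right
      (le_inf (le_tilde P) hP.1)
  have hrel : (alternatingGroup α).relIndex (tilde P) = 2 := by
    have h1 : (alternatingGroup α).relIndex (tilde P) ∣ 2 := by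
      rw [← alternatingGroup.index_eq_two (α := α)]
      exact relIndex_dvd_index_of_normal _ _
    rcases (Nat.dvd_prime Nat.prime_two).mp h1 with h | h
    · exact absurd (relIndex_eq_one.mp h) hle
    · exact h
  have hcard : Nat.card P * 2 = Nat.card (tilde P) := by
    have h1 := relIndex_mul_relIndex ⊥ (tilde P ⊓ alternatingGroup α) (tilde P) bot_le inf_le_left
    rw [relIndex_bot_left, relIndex_bot_left, inf_relIndex_left, hrel, hQ] at h1
    exact h1
  have hPc : Nat.card P = 2 ^ (Nat.card (alternatingGroup α)).factorization 2 := SylIn.card_eq hP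
  apply sylIn_of_card le_top
  rw [← hcard, hPc, Subgroup.card_top, ← two_mul_nat_card_alternatingGroup,
    Nat.factorization_mul (by norm_num) Nat.card_pos.ne']
  simp only [Finsupp.coe_add, Pi.add_apply, Nat.prime_two.factorization_self]
  rw [pow_add, pow_one, mul_comm]

theorem factorization_six : (6 : ℕ).factorization 2 = 1 := by
  rw [show (6 : ℕ) = 2 * 3 by norm_num, Nat.factorization_mul (by norm_num) (by norm_num)]
  simp only [Finsupp.coe_add, Pi.add_apply, Nat.prime_two.factorization_self]
  rw [Nat.factorization_eq_zero_of_not_dvd (by norm_num)]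

/-- no element of odd prime order normalizes a Sylow 2-subgroup of an alternating group of degree
at least 6 -/
theorem alt_main : ∀ n : ℕ, 6 ≤ n → ∀ (α : Type) [Fintype α] [DecidableEq α],
    Fintype.card α = n →
    ∀ P : Subgroup (Perm α), SylIn 2 P (alternatingGroup α) →
    ∀ g : Perm α, g ∈ normalizer (P : Set (Perm α)) →
    ∀ q : ℕ, q.Prime → q ≠ 2 → orderOf g = q → False := by
  intro n
  induction n using Nat.strong_induction_on with
  | _ n ih =>
    intro h6 α _ _ hα P hP g hg q hq hq2 hgq
    have hn : Fintype.card α ≠ 0 := by omega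
    have hnt : Nontrivial α := Fintype.one_lt_card_iff_nontrivial.mp (by omega)
    by_cases hle : tilde P ≤ alternatingGroup α
    · have hPt : tilde P = P := hP.2.2 _ (tilde_isPGroup P hP.2.1) hle (le_tilde P)
      obtain ⟨A, hAc, hA⟩ := exists_invariant_set P hP.2.1 hn
      have hAne : A.Nonempty := by
        rw [← Finset.card_pos, hAc]; positivity
      obtain ⟨x₀, hx₀⟩ := hAne
      have hgx : g x₀ ∈ orb P x₀ := by
        by_contra hx
        obtain ⟨j, hj⟩ := ncard_orb_eq_pow hP.2.1 x₀
        rcases Nat.eq_zero_or_pos j with h0 | hpos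
        · -- the orbit is a fixed point
          rw [h0, pow_zero] at hj
          obtain ⟨z, hz⟩ := Set.ncard_eq_one.mp hj
          have hz' : z = x₀ := by
            have := self_mem_orb P x₀
            rw [hz] at this
            exact this.symm
          have hfix : ∀ p ∈ P, p x₀ = x₀ := by
            intro p hp
            have : p x₀ ∈ orb P x₀ := ⟨p, hp, rfl⟩
            rw [hz, hz'] at this
            exact this
          have hfix' : ∀ p ∈ P, p (g x₀) = g x₀ := by
            intro p hp
            have h1 := (conj_mem_of_normalizer P g hg p hp).2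
            have h2 := hfix _ h1
            simp only [Perm.mul_apply] at h2
            have h3 := congrArg g h2
            rwa [ainv] at h3
          have := alt_fixed_unique P hP (by omega) x₀ (g x₀) hfix hfix'
          apply hx
          rw [← this]
          exact self_mem_orb P x₀
        · have hev : Even (orb P x₀).ncard := by
            rw [hj]
            exact (Nat.even_pow' hpos.ne').mpr even_two
          have hτ : swapVia hg hx ∈ P := by
            apply mem_of_invol_normalizing hP _ (swapVia_mem_alt hg hx hev)
              (swapVia_mul_self hg hx)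
            intro p hp
            have := swapVia_conj_mem hg hx p hp
            rwa [hPt] at this
          exact hx ⟨_, hτ, swapVia_mem hg hx (self_mem_orb P x₀)⟩
      obtain ⟨x, hxO, hfix⟩ := exists_fixed_in_orb hP.2.1 hg hgx q hq hq2 hgq
      have horb : (orb P x).ncard ≤ 2 ^ (Fintype.card α).factorization 2 := by
        rw [orb_eq_of_mem P hxO, ← hAc]
        exact ncard_orb_le P A hA x₀ hx₀
      obtain ⟨hS, hc⟩ := res_key P _ hP x (card_alt_eq x (by omega)) horb
      rw [res_alt] at hS
      have hcard : Fintype.card (Off x) = n - 1 := by rw [card_off, hα]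
      rcases Nat.lt_or_ge 6 n with h7 | h6'
      · exact ih (n - 1) (by omega) (by omega) (Off x) hcard (res x P) hS (lift x g hfix)
          (lift_mem_normalizer x P g hfix hg) q hq hq2 (by rw [orderOf_lift, hgq])
      · have hn6 : Fintype.card α = 6 := by omega
        rw [hn6, factorization_six, pow_one] at hc
        exact no_orbit_two P hle x hc
    · have hS := tilde_sylIn_top P hP hle
      exact sym_main _ α rfl (tilde P) hS g (tilde_normalizer P g hg) q hq hq2 hgq

/-- Sylow 2-subgroups of alternating groups of degree at least 6 are self-normalizing -/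
theorem alt_normalizer_le (h6 : 6 ≤ Fintype.card α) (P : Subgroup (Perm α))
    (hP : SylIn 2 P (alternatingGroup α)) (g : Perm α) (hgA : g ∈ alternatingGroup α)
    (hg : g ∈ normalizer (P : Set (Perm α))) : g ∈ P := by
  by_contra hgP
  obtain ⟨g', -, hg'N, q, hq, hq2, hg'q⟩ :=
    exists_prime_order_normalizing hP g hgA hg hgP
  exact alt_main _ h6 α rfl P hP g' hg'N q hq hq2 hg'q

end Cfsg.Agent.Lib.Helper20.SylNorm
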