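import Mathlib
import Cfsg.Agent.Lib.Helper20.SylNormG

/-!
Sylow 2-subgroups of symmetric and alternating groups are self-normalizing (helper20), part H:
overgroups of a Sylow 2-subgroup in the alternating group of degree 5.
-/

set_option autoImplicit false
set_option linter.unusedSectionVars false

namespace Cfsg.Agent.Lib.Helper20.SylNorm

open Equiv Equiv.Perm Subgroup MulAction
open scoped Pointwise

open Cfsg.Agent.Lib.Helper22.Pronormal Cfsg.Agent.Lib.Helper20.SylMax

/-- a simple group with more than 6 elements has no subgroup of index 3 -/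
theorem no_index_three (G : Type*) [Group G] [Finite G] [IsSimpleGroup G] (H : Subgroup G)
    (h : H.index = 3) (hc : 6 < Nat.card G) : False := by
  have hfin : Finite (G ⧸ H) := by
    apply Nat.finite_of_card_ne_zero
    show H.index ≠ 0
    omega
  rcases (Subgroup.normalCore_normal H).eq_bot_or_eq_top with hK | hK
  · rw [Subgroup.normalCore_eq_ker] at hK
    have hinj : Function.Injective (MulAction.toPermHom G (G ⧸ H)) :=
      (MonoidHom.ker_eq_bot_iff _).mp hK
    have h1 := Nat.card_le_card_of_injective _ hinj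
    rw [Nat.card_perm] at h1
    have h2 : Nat.card (G ⧸ H) = 3 := h
    rw [h2] at h1
    have : Nat.factorial 3 = 6 := by decide
    omega
  · have h1 : H = ⊤ := top_le_iff.mp (hK ▸ Subgroup.normalCore_le H)
    rw [h1, Subgroup.index_top] at h
    omega

variable {α : Type} [Fintype α] [DecidableEq α]

theorem fixed_of_normalizer {P : Subgroup (Perm α)} {g : Perm α} {x : α}
    (hg : g ∈ normalizer (P : Set (Perm α))) (hfix : ∀ p ∈ P, p x = x) :
    ∀ p ∈ P, p (g x) = g x := by
  intro p hp
  have h1 := (conj_mem_of_normalizer P g hg p hp).2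
  have h2 := hfix _ h1
  simp only [Perm.mul_apply] at h2
  have h3 := congrArg g h2
  rwa [ainv] at h3

/-- a group fixing a point has the order of its restriction -/
theorem card_res_of_fixed (H : Subgroup (Perm α)) (x : α) (hfix : ∀ p ∈ H, p x = x) :
    Nat.card (res x H) = Nat.card H := by
  have := card_res_mul H x
  rwa [orb_eq_singleton H x hfix, Set.ncard_singleton, mul_one] at this

theorem factorization_five : (5 : ℕ).factorization 2 = 0 :=
  Nat.factorization_eq_zero_of_not_dvd (by norm_num)

theorem factorization_four : (4 : ℕ).factorization 2 = 2 := by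
  rw [show (4 : ℕ) = 2 ^ 2 by norm_num, Nat.prime_two.factorization_pow]
  simp

theorem factorization_sixty : (60 : ℕ).factorization 2 = 2 := by
  rw [show (60 : ℕ) = 4 * 15 by norm_num, Nat.factorization_mul (by norm_num) (by norm_num)]
  simp only [Finsupp.coe_add, Pi.add_apply, factorization_four]
  rw [Nat.factorization_eq_zero_of_not_dvd (by norm_num)]

theorem card_alt_of_card (k : ℕ) (hk : 2 ≤ k) (hα : Fintype.card α = k) :
    2 * Nat.card (alternatingGroup α) = k.factorial := by
  have : Nontrivial α := Fintype.one_lt_card_iff_nontrivial.mp (by omega)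
  rw [two_mul_nat_card_alternatingGroup, Nat.card_eq_fintype_card, Fintype.card_perm, hα]

section five

variable (h5 : Fintype.card α = 5) (P : Subgroup (Perm α)) (hP : SylIn 2 P (alternatingGroup α))

include h5 hP

theorem five_card_alt : Nat.card (alternatingGroup α) = 60 := by
  have h := card_alt_of_card 5 (by norm_num) h5
  have : Nat.factorial 5 = 120 := by decide
  omega

theorem five_card_P : Nat.card P = 4 := by
  haveI : Fact (Nat.Prime 2) := ⟨Nat.prime_two⟩
  rw [SylIn.card_eq hP, five_card_alt h5 P hP, factorization_sixty]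
  norm_num

theorem five_exists_fixed : ∃ ω : α, ∀ p ∈ P, p ω = ω := by
  obtain ⟨A, hAc, hA⟩ := exists_invariant_set P hP.2.1 (by omega)
  rw [h5, factorization_five, pow_zero] at hAc
  obtain ⟨ω, rfl⟩ := Finset.card_eq_one.mp hAc
  refine ⟨ω, fun p hp => ?_⟩
  have := hA p hp ω (Finset.mem_singleton_self ω)
  exact Finset.mem_singleton.mp this

theorem five_normalizer_fixed (ω : α) (hω : ∀ p ∈ P, p ω = ω) (g : Perm α)
    (hg : g ∈ normalizer (P : Set (Perm α))) : g ω = ω :=
  (alt_fixed_unique P hP (by omega) ω (g ω) hω (fixed_of_normalizer hg hω)).symm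

theorem five_transitive (ω : α) (hω : ∀ p ∈ P, p ω = ω) (y z : α) (hy : y ≠ ω) (hz : z ≠ ω) :
    ∃ p ∈ P, p y = z := by
  obtain ⟨-, hS⟩ := alt_fixed_odd P hP (by omega) ω hω
  have hc4 : Fintype.card (Off ω) = 4 := by rw [card_off, h5]
  have hfin : (Set.univ : Set (Off ω)).ncard = 4 := by
    rw [Set.ncard_univ, Nat.card_eq_fintype_card, hc4]
  obtain ⟨-, hc⟩ := res_key (res ω P) _ hS ⟨y, hy⟩ (card_alt_eq _ (by omega))
    (by
      rw [hc4, factorization_four]
      calc (orb (res ω P) ⟨y, hy⟩).ncard ≤ (Set.univ : Set (Off ω)).ncard :=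
            Set.ncard_le_ncard (Set.subset_univ _) Set.finite_univ
        _ = 2 ^ 2 := by rw [hfin]; norm_num)
  rw [hc4, factorization_four] at hc
  have huniv : orb (res ω P) ⟨y, hy⟩ = Set.univ :=
    Set.eq_of_subset_of_ncard_le (Set.subset_univ _) (by rw [hfin, hc]; norm_num) Set.finite_univ
  have hzO : (⟨z, hz⟩ : Off ω) ∈ orb (res ω P) ⟨y, hy⟩ := by rw [huniv]; trivial
  obtain ⟨σ, hσ, hσy⟩ := hzO
  refine ⟨ofSubtype σ, hσ, ?_⟩
  have := ofSubtype_apply_coe σ ⟨y, hy⟩
  rw [hσy] at this
  exact this

/-- overgroups of a Sylow 2-subgroup of the alternating group of degree 5 -/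
theorem five_overgroups (H : Subgroup (Perm α)) (hPH : P ≤ H) (hHA : H ≤ alternatingGroup α)
    (h20 : Nat.card H ≠ 20) :
    H = P ∨ ∀ g ∈ alternatingGroup α, g ∈ normalizer (P : Set (Perm α)) → g ∈ H := by
  obtain ⟨ω, hω⟩ := five_exists_fixed h5 P hP
  have hA60 := five_card_alt h5 P hP
  have hP4 := five_card_P h5 P hP
  have hdvdP : Nat.card P ∣ Nat.card H := Subgroup.card_dvd_of_le hPH
  have hdvdA : Nat.card H ∣ Nat.card (alternatingGroup α) := Subgroup.card_dvd_of_le hHA
  rw [hP4] at hdvdP
  rw [hA60] at hdvdA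
  have hc4 : Fintype.card (Off ω) = 4 := by rw [card_off, h5]
  have hA12 : Nat.card (alternatingGroup (Off ω)) = 12 := by
    have h := card_alt_of_card 4 (by norm_num) hc4
    have : Nat.factorial 4 = 24 := by decide
    omega
  by_cases hfix : ∀ h ∈ H, h ω = ω
  · -- `H` lies in the stabilizer of `ω`
    have h1 : Nat.card (res ω H) = Nat.card H := card_res_of_fixed H ω hfix
    have h2 : Nat.card (res ω H) ∣ 12 := by
      rw [← hA12, ← res_alt]
      exact Subgroup.card_dvd_of_le (res_mono ω hHA)
    rw [h1] at h2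
    have hle : Nat.card H ≤ 12 := Nat.le_of_dvd (by norm_num) h2
    have hcases : Nat.card H = 4 ∨ Nat.card H = 12 := by
      obtain ⟨c, hc⟩ := hdvdP
      obtain ⟨d, hd⟩ := h2
      have hc3 : c ≤ 3 := by omega
      have hpos : 0 < Nat.card H := Nat.card_pos
      interval_cases c
      · omega
      · left; omega
      · exfalso
        rw [hc] at hd
        omega
      · right; omega
    rcases hcases with hc | hc
    · left
      symm
      apply Subgroup.eq_of_le_of_card_ge hPH
      rw [hc, hP4]
    · right
      intro g hgA hgN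
      have hgω : g ω = ω := five_normalizer_fixed h5 P hP ω hω g hgN
      -- `H` is the whole stabilizer
      have h3 : res ω H = alternatingGroup (Off ω) := by
        apply Subgroup.eq_of_le_of_card_ge
        · rw [← res_alt]; exact res_mono ω hHA
        · rw [hA12, h1, hc]
      have h4 : lift ω g hgω ∈ res ω H := by
        rw [h3, ← res_alt]
        exact lift_mem_res ω _ g hgω hgA
      rw [mem_res, ofSubtype_lift] at h4
      exact h4
  · -- `H` is transitive
    push Not at hfix
    obtain ⟨h, hhH, hhω⟩ := hfix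
    have huniv : orb H ω = Set.univ := by
      rw [Set.eq_univ_iff_forall]
      intro z
      by_cases hz : z = ω
      · rw [hz]; exact self_mem_orb H ω
      · obtain ⟨p, hp, hpz⟩ := five_transitive h5 P hP ω hω (h ω) z hhω hz
        exact ⟨p * h, H.mul_mem (hPH hp) hhH, hpz⟩
    have h1 := card_res_mul H ω
    rw [huniv, Set.ncard_univ, Nat.card_eq_fintype_card (α := α), h5] at h1
    have h5dvd : 5 ∣ Nat.card H := ⟨_, by rw [← h1, mul_comm]⟩
    have h60 : Nat.card H = 60 := by
      obtain ⟨c, hc⟩ := hdvdP
      obtain ⟨d, hd⟩ := hdvdA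
      obtain ⟨e, he⟩ := h5dvd
      have hpos : 0 < Nat.card H := Nat.card_pos
      have hle : Nat.card H ≤ 60 := Nat.le_of_dvd (by norm_num) ⟨d, hd⟩
      have hc15 : c ≤ 15 := by omega
      interval_cases c <;> rw [hc] at hd <;> omega
    right
    intro g hgA _
    have : H = alternatingGroup α := by
      apply Subgroup.eq_of_le_of_card_ge hHA
      rw [h60, hA60]
    rw [this]
    exact hgA

end five

end Cfsg.Agent.Lib.Helper20.SylNorm
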