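import Mathlib
import Cfsg.Agent.Lib.Helper20.SymGenA

/-!
# Sylow subgroups of symmetric groups via maximality: the transitive case, block stabilizer
-/

set_option autoImplicit false

namespace Cfsg.Agent.Lib.Helper20.SymGen

open Equiv Equiv.Perm

variable {α : Type*} [Fintype α] [DecidableEq α]

/-- A system of blocks indexed by a group `Q` on which `P` acts by left translation via `c`. -/
structure BlockData (P : Subgroup (Perm α)) (Q : Type*) [Group Q] where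
  c : P →* Q
  β : α → Q
  surj : Function.Surjective c
  equi : ∀ (h : P) (a : α), β ((h : Perm α) a) = c h * β a

namespace BlockData

variable {P : Subgroup (Perm α)} {Q : Type*} [Group Q] [DecidableEq Q] (D : BlockData P Q)

/-- the block-preserving subgroup, inside `Perm α` -/
def Mα : Subgroup (Perm α) := D.c.ker.map P.subtype

theorem mem_Mα {h : Perm α} : h ∈ D.Mα ↔ ∃ hh : h ∈ P, D.c ⟨h, hh⟩ = 1 := by
  constructor
  · rintro ⟨x, hx, rfl⟩
    exact ⟨x.2, hx⟩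
  · rintro ⟨hh, h1⟩
    exact ⟨⟨h, hh⟩, h1, rfl⟩

theorem Mα_le : D.Mα ≤ P := by
  intro h hh
  exact ((D.mem_Mα).mp hh).1

theorem equi' {h : Perm α} (hh : h ∈ P) (a : α) : D.β (h a) = D.c ⟨h, hh⟩ * D.β a :=
  D.equi ⟨h, hh⟩ a

theorem equi_inv {h : Perm α} (hh : h ∈ P) (a : α) : D.β (h⁻¹ a) = (D.c ⟨h, hh⟩)⁻¹ * D.β a := by
  have := D.equi' hh (h⁻¹ a)
  rw [perm_apply_inv] at this
  rw [this, inv_mul_cancel_left]

theorem Mα_pres {h : Perm α} (hh : h ∈ D.Mα) (a : α) : D.β (h a) = D.β a := by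
  obtain ⟨hP, h1⟩ := (D.mem_Mα).mp hh
  rw [D.equi' hP, h1, one_mul]

/-- the block containing the base point -/
def qB : α → Prop := fun a => D.β a = 1

instance : DecidablePred D.qB := fun a => inferInstanceAs (Decidable (D.β a = 1))

theorem hqB : ∀ g ∈ D.Mα, ∀ x, D.qB (g x) ↔ D.qB x := by
  intro g hg x
  unfold qB
  rw [D.Mα_pres hg]

/-- the group induced on the base block -/
def R0 : Subgroup (Perm (Subtype D.qB)) := (resHom D.Mα D.qB D.hqB).range

theorem exists_to_block (a : α) : ∃ h : P, D.qB ((h : Perm α) a) := by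
  obtain ⟨h, hh⟩ := D.surj (D.β a)⁻¹
  refine ⟨h, ?_⟩
  unfold qB
  rw [D.equi, hh, inv_mul_cancel]

section hat

variable (R : Subgroup (Perm (Subtype D.qB)))

/-- the block-preserving permutations all of whose `P`-conjugates induce an element of `R`
on the base block -/
def hatR : Subgroup (Perm α) where
  carrier := {x | (∀ a, D.β (x a) = D.β a) ∧
    ∀ h ∈ P, ∃ r ∈ R, ∀ b : Subtype D.qB, (h * x * h⁻¹) (b : α) = ((r b : Subtype D.qB) : α)}
  one_mem' := by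
    refine ⟨fun a => rfl, fun h _ => ⟨1, R.one_mem, fun b => ?_⟩⟩
    simp
  mul_mem' := by
    rintro x y ⟨hx1, hx2⟩ ⟨hy1, hy2⟩
    refine ⟨fun a => ?_, fun h hh => ?_⟩
    · rw [Perm.mul_apply, hx1, hy1]
    · obtain ⟨rx, hrx, hx3⟩ := hx2 h hh
      obtain ⟨ry, hry, hy3⟩ := hy2 h hh
      refine ⟨rx * ry, R.mul_mem hrx hry, fun b => ?_⟩
      have e : h * (x * y) * h⁻¹ = (h * x * h⁻¹) * (h * y * h⁻¹) := by group
      rw [e, Perm.mul_apply, hy3 b, hx3 (ry b)]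
      rfl
  inv_mem' := by
    rintro x ⟨hx1, hx2⟩
    refine ⟨fun a => ?_, fun h hh => ?_⟩
    · have := hx1 (x⁻¹ a)
      rw [perm_apply_inv] at this
      exact this.symm
    · obtain ⟨rx, hrx, hx3⟩ := hx2 h hh
      refine ⟨rx⁻¹, R.inv_mem hrx, fun b => ?_⟩
      have e : h * x⁻¹ * h⁻¹ = (h * x * h⁻¹)⁻¹ := by group
      rw [e, Perm.inv_eq_iff_eq, hx3 (rx⁻¹ b)]
      simp

theorem mem_hatR {x : Perm α} : x ∈ D.hatR R ↔ (∀ a, D.β (x a) = D.β a) ∧
    ∀ h ∈ P, ∃ r ∈ R, ∀ b : Subtype D.qB, (h * x * h⁻¹) (b : α) = ((r b : Subtype D.qB) : α) :=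
  Iff.rfl

theorem hatR_conj {x : Perm α} (hx : x ∈ D.hatR R) {k : Perm α} (hk : k ∈ P) :
    k * x * k⁻¹ ∈ D.hatR R := by
  obtain ⟨hx1, hx2⟩ := hx
  refine ⟨fun a => ?_, fun h hh => ?_⟩
  · rw [Perm.mul_apply, Perm.mul_apply, D.equi' hk, hx1, D.equi_inv hk, mul_inv_cancel_left]
  · obtain ⟨r, hr, h3⟩ := hx2 (h * k) (P.mul_mem hh hk)
    refine ⟨r, hr, fun b => ?_⟩
    have e : h * (k * x * k⁻¹) * h⁻¹ = (h * k) * x * (h * k)⁻¹ := by group
    rw [e]; exact h3 b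

theorem hatR_pow_eq_one [Finite R] {x : Perm α} (hx : x ∈ D.hatR R) : x ^ Nat.card R = 1 := by
  obtain ⟨hx1, hx2⟩ := hx
  ext a
  obtain ⟨h, hh⟩ := D.exists_to_block a
  obtain ⟨r, hr, h3⟩ := hx2 h h.2
  have hpow : ∀ n : ℕ, ∀ b : Subtype D.qB,
      (((h : Perm α) * x * (h : Perm α)⁻¹) ^ n) (b : α) = (((r ^ n) b : Subtype D.qB) : α) := by
    intro n
    induction n with
    | zero => intro b; simp
    | succ n ih =>
      intro b
      rw [pow_succ, pow_succ, Perm.mul_apply, h3 b, ih (r b)]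
      rfl
  have hr1 : r ^ Nat.card R = 1 := by
    have := pow_card_eq_one' (G := R) (x := ⟨r, hr⟩)
    exact congrArg Subtype.val this
  have h4 := hpow (Nat.card R) ⟨(h : Perm α) a, hh⟩
  rw [hr1, conj_pow] at h4
  simp only [Perm.coe_mul, Function.comp_apply, Perm.coe_one, id_eq] at h4
  rw [perm_inv_apply] at h4
  have := (h : Perm α).injective h4
  simpa using this

theorem hatR_isPGroup {p : ℕ} [Fact p.Prime] (hR : IsPGroup p R) : IsPGroup p (D.hatR R) := by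
  haveI : Finite R := Finite.of_injective _ Subtype.val_injective
  obtain ⟨k, hk⟩ := (IsPGroup.iff_card).mp hR
  rintro ⟨x, hx⟩
  refine ⟨k, Subtype.ext ?_⟩
  rw [Subgroup.coe_pow, Subgroup.coe_one, ← hk]
  exact D.hatR_pow_eq_one R hx

theorem hatR_le_Mα {p : ℕ} [Fact p.Prime] (hP : IsMaxP p P) (hR : IsPGroup p R) (ω : α) :
    D.hatR R ≤ D.Mα := by
  have h1 : D.hatR R ≤ P :=
    hP.absorb _ (D.hatR_isPGroup R hR) (fun h hh x hx => D.hatR_conj R hx hh)
  intro x hx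
  rw [D.mem_Mα]
  refine ⟨h1 hx, ?_⟩
  have h2 := D.equi' (h1 hx) ω
  rw [hx.1 ω] at h2
  exact (mul_eq_right.mp h2.symm)

theorem ofSubtype_mem_hatR (hle : D.R0 ≤ R) {r : Perm (Subtype D.qB)} (hr : r ∈ R) :
    ofSubtype r ∈ D.hatR R := by
  refine ⟨fun a => ?_, fun h hh => ?_⟩
  · by_cases ha : D.qB a
    · have h1 : D.qB (ofSubtype r a) := (ofSubtype_apply_mem_iff_mem r a).mpr ha
      unfold qB at h1 ha
      exact h1.trans ha.symm
    · rw [ofSubtype_apply_of_not_mem _ ha]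
  · by_cases hc : D.c ⟨h, hh⟩ = 1
    · have hM : h ∈ D.Mα := (D.mem_Mα).mpr ⟨hh, hc⟩
      have hs : h.subtypePerm (D.hqB h hM) ∈ R := hle ⟨⟨h, hM⟩, rfl⟩
      refine ⟨h.subtypePerm (D.hqB h hM) * r * (h.subtypePerm (D.hqB h hM))⁻¹,
        R.mul_mem (R.mul_mem hs hr) (R.inv_mem hs), fun b => ?_⟩
      rw [conj_ofSubtype h (D.hqB h hM) r, ofSubtype_apply_coe]
    · refine ⟨1, R.one_mem, fun b => ?_⟩
      have hb : D.β (b : α) = 1 := b.2
      have h1 : ¬ D.qB (h⁻¹ (b : α)) := by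
        unfold qB
        rw [D.equi_inv hh, hb, mul_one, inv_eq_one]
        exact hc
      rw [Perm.mul_apply, Perm.mul_apply, ofSubtype_apply_of_not_mem _ h1, perm_apply_inv]
      rfl

/-- Key lemma: a `p`-group of permutations of the base block containing the induced group
lifts into the block-preserving subgroup. -/
theorem ofSubtype_mem_Mα {p : ℕ} [Fact p.Prime] (hP : IsMaxP p P) (ω : α) (hR : IsPGroup p R)
    (hle : D.R0 ≤ R) {r : Perm (Subtype D.qB)} (hr : r ∈ R) : ofSubtype r ∈ D.Mα :=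
  D.hatR_le_Mα R hP hR ω (D.ofSubtype_mem_hatR R hle hr)

end hat

theorem R0_isPGroup {p : ℕ} [Fact p.Prime] (hP : IsMaxP p P) : IsPGroup p D.R0 :=
  isPGroup_range_resHom D.Mα (hP.1.to_le D.Mα_le) D.qB D.hqB

theorem R0_isMaxP {p : ℕ} [Fact p.Prime] (hP : IsMaxP p P) (ω : α) : IsMaxP p D.R0 := by
  refine ⟨D.R0_isPGroup hP, ?_⟩
  intro R hR hle
  apply le_antisymm _ hle
  intro r hr
  have h1 := D.ofSubtype_mem_Mα R hP ω hR hle hr
  refine ⟨⟨ofSubtype r, h1⟩, ?_⟩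
  exact subtypePerm_ofSubtype r

theorem ofSubtype_R0_mem {p : ℕ} [Fact p.Prime] (hP : IsMaxP p P) (ω : α)
    {r : Perm (Subtype D.qB)} (hr : r ∈ D.R0) : ofSubtype r ∈ D.Mα :=
  D.ofSubtype_mem_Mα D.R0 hP ω (D.R0_isPGroup hP) le_rfl hr

end BlockData

end Cfsg.Agent.Lib.Helper20.SymGen
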