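import Mathlib
import Cfsg.Agent.Lib.Helper20.SymGenB

/-!
# Sylow subgroups of symmetric groups via maximality: cutting along blocks
-/

set_option autoImplicit false

namespace Cfsg.Agent.Lib.Helper20.SymGen

open Equiv Equiv.Perm

variable {α : Type*} [Fintype α] [DecidableEq α]

namespace BlockData

variable {P : Subgroup (Perm α)} {Q : Type*} [Group Q] [DecidableEq Q] (D : BlockData P Q)

/-- the permutation agreeing with `v` on the block `q₁` and the identity elsewhere -/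
def cutAt (q₁ : Q) (v : Perm α) : Perm α :=
  if hv : ∀ a, D.β (v a) = D.β a then
    ofSubtype (p := fun a => D.β a = q₁) (v.subtypePerm (fun x => by rw [hv x]))
  else 1

theorem cutAt_apply_mem {q₁ : Q} {v : Perm α} (hv : ∀ a, D.β (v a) = D.β a) {a : α}
    (ha : D.β a = q₁) : D.cutAt q₁ v a = v a := by
  unfold cutAt
  rw [dif_pos hv, ofSubtype_apply_of_mem (p := fun a => D.β a = q₁) _ ha]
  rfl

theorem cutAt_apply_not_mem {q₁ : Q} {v : Perm α} (hv : ∀ a, D.β (v a) = D.β a) {a : α}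
    (ha : D.β a ≠ q₁) : D.cutAt q₁ v a = a := by
  unfold cutAt
  rw [dif_pos hv, ofSubtype_apply_of_not_mem (p := fun a => D.β a = q₁) _ ha]

theorem cutAt_pres {q₁ : Q} {v : Perm α} (hv : ∀ a, D.β (v a) = D.β a) (a : α) :
    D.β (D.cutAt q₁ v a) = D.β a := by
  by_cases ha : D.β a = q₁
  · rw [D.cutAt_apply_mem hv ha, hv]
  · rw [D.cutAt_apply_not_mem hv ha]

theorem conj_pres {h : Perm α} (hh : h ∈ P) {v : Perm α} (hv : ∀ a, D.β (v a) = D.β a) (a : α) :
    D.β ((h * v * h⁻¹) a) = D.β a := by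
  rw [Perm.mul_apply, Perm.mul_apply, D.equi' hh, hv, D.equi_inv hh, mul_inv_cancel_left]

theorem conj_cutAt {h : Perm α} (hh : h ∈ P) (q₁ : Q) {v : Perm α}
    (hv : ∀ a, D.β (v a) = D.β a) :
    h * D.cutAt q₁ v * h⁻¹ = D.cutAt (D.c ⟨h, hh⟩ * q₁) (h * v * h⁻¹) := by
  ext a
  have hv' := D.conj_pres hh hv
  by_cases ha : D.β a = D.c ⟨h, hh⟩ * q₁
  · have h1 : D.β (h⁻¹ a) = q₁ := by rw [D.equi_inv hh, ha, inv_mul_cancel_left]
    rw [D.cutAt_apply_mem hv' ha, Perm.mul_apply, Perm.mul_apply, D.cutAt_apply_mem hv h1]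
    rfl
  · have h1 : D.β (h⁻¹ a) ≠ q₁ := by
      intro hc
      apply ha
      rw [D.equi_inv hh] at hc
      rw [← hc, mul_inv_cancel_left]
    rw [D.cutAt_apply_not_mem hv' ha, Perm.mul_apply, Perm.mul_apply,
      D.cutAt_apply_not_mem hv h1, perm_apply_inv]

theorem cutAt_one_eq {m : Perm α} (hm : m ∈ D.Mα) :
    D.cutAt 1 m = ofSubtype (resHom D.Mα D.qB D.hqB ⟨m, hm⟩) := by
  have hv : ∀ a, D.β (m a) = D.β a := D.Mα_pres hm
  ext a
  by_cases ha : D.β a = 1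
  · rw [D.cutAt_apply_mem hv ha, ofSubtype_apply_of_mem (p := D.qB) _ ha]
    rfl
  · rw [D.cutAt_apply_not_mem hv ha, ofSubtype_apply_of_not_mem (p := D.qB) _ ha]

theorem Mα_conj {m : Perm α} (hm : m ∈ D.Mα) {h : Perm α} (hh : h ∈ P) : h * m * h⁻¹ ∈ D.Mα := by
  obtain ⟨hmP, h1⟩ := (D.mem_Mα).mp hm
  rw [D.mem_Mα]
  refine ⟨P.mul_mem (P.mul_mem hh hmP) (P.inv_mem hh), ?_⟩
  have e : (⟨h * m * h⁻¹, P.mul_mem (P.mul_mem hh hmP) (P.inv_mem hh)⟩ : P) =
      ⟨h, hh⟩ * ⟨m, hmP⟩ * ⟨h, hh⟩⁻¹ := rfl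
  rw [e, map_mul, map_mul, h1, mul_one, map_inv, mul_inv_cancel]

/-- products of cuts along a sequence of blocks -/
def prodCut (v : Perm α) (qs : ℕ → Q) : ℕ → Perm α
  | 0 => 1
  | n + 1 => prodCut v qs n * D.cutAt (qs n) v

theorem prodCut_apply {v : Perm α} (hv : ∀ a, D.β (v a) = D.β a) (qs : ℕ → Q) :
    ∀ n : ℕ, (∀ i j, i < n → j < n → qs i = qs j → i = j) → ∀ a : α,
      D.prodCut v qs n a = if ∃ j, j < n ∧ D.β a = qs j then v a else a := by
  intro n
  induction n with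
  | zero =>
    intro _ a
    rw [if_neg]
    · rfl
    · rintro ⟨j, hj, _⟩; omega
  | succ n ih =>
    intro hinj a
    have hinj' : ∀ i j, i < n → j < n → qs i = qs j → i = j :=
      fun i j hi hj => hinj i j (by omega) (by omega)
    have ih' := ih hinj'
    show (D.prodCut v qs n * D.cutAt (qs n) v) a = _
    rw [Perm.mul_apply]
    by_cases ha : D.β a = qs n
    · rw [D.cutAt_apply_mem hv ha, ih' (v a), if_neg, if_pos ⟨n, by omega, ha⟩]
      rintro ⟨j, hj, hj2⟩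
      rw [hv, ha] at hj2
      have := hinj n j (by omega) (by omega) hj2
      omega
    · rw [D.cutAt_apply_not_mem hv ha, ih' a]
      by_cases hex : ∃ j, j < n ∧ D.β a = qs j
      · obtain ⟨j, hj, hj2⟩ := hex
        rw [if_pos ⟨j, hj, hj2⟩, if_pos ⟨j, by omega, hj2⟩]
      · rw [if_neg hex, if_neg]
        rintro ⟨j, hj, hj2⟩
        apply hex
        refine ⟨j, ?_, hj2⟩
        rcases Nat.lt_succ_iff_lt_or_eq.mp hj with h | h
        · exact h
        · subst h; exact absurd hj2 ha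

theorem prodCut_full {v : Perm α} (hv : ∀ a, D.β (v a) = D.β a) (qs : ℕ → Q) (n : ℕ)
    (hinj : ∀ i j, i < n → j < n → qs i = qs j → i = j) (hsurj : ∀ q : Q, ∃ j, j < n ∧ q = qs j) :
    D.prodCut v qs n = v := by
  ext a
  rw [D.prodCut_apply hv qs n hinj a, if_pos (hsurj (D.β a))]

end BlockData

section cyc

variable {Q : Type*} [Group Q] {p : ℕ} [hp : Fact p.Prime]

theorem orderOf_eq_of_card_prime [Finite Q] (hQ : Nat.card Q = p) {γ : Q} (hγ : γ ≠ 1) :
    orderOf γ = p := by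
  apply orderOf_eq_prime _ hγ
  rw [← hQ]; exact pow_card_eq_one'

theorem pow_shift_inj [Finite Q] (hQ : Nat.card Q = p) {γ : Q} (hγ : γ ≠ 1) (s : ℕ) :
    ∀ i j, i < p → j < p → γ ^ (i + s) = γ ^ (j + s) → i = j := by
  intro i j hi hj h
  rw [pow_inj_mod, orderOf_eq_of_card_prime hQ hγ] at h
  have h1 : i + s ≡ j + s [MOD p] := h
  have h2 : i ≡ j [MOD p] := Nat.ModEq.add_right_cancel' s h1
  exact Nat.ModEq.eq_of_lt_of_lt h2 hi hj

theorem pow_shift_surj [Finite Q] (hQ : Nat.card Q = p) {γ : Q} (hγ : γ ≠ 1) (s : ℕ) :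
    ∀ q : Q, ∃ j, j < p ∧ q = γ ^ (j + s) := by
  have hinj : Function.Injective (fun j : Fin p => γ ^ ((j : ℕ) + s)) := by
    intro i j h
    exact Fin.ext (pow_shift_inj hQ hγ s i j i.2 j.2 h)
  have hbij := hinj.bijective_of_nat_card_le (by rw [hQ, Nat.card_fin])
  intro q
  obtain ⟨j, hj⟩ := hbij.2 q
  exact ⟨j, j.2, hj.symm⟩

end cyc

end Cfsg.Agent.Lib.Helper20.SymGen
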