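import Mathlib
import Cfsg.Agent.Lib.Helper20.SymGenC

/-!
# Sylow subgroups of symmetric groups via maximality: the transitive case, generation
-/

set_option autoImplicit false

namespace Cfsg.Agent.Lib.Helper20.SymGen

open Equiv Equiv.Perm

variable {α : Type*} [Fintype α] [DecidableEq α]

namespace BlockData

variable {P : Subgroup (Perm α)} {Q : Type*} [Group Q] [DecidableEq Q] [Finite Q]
  (D : BlockData P Q) {p : ℕ} [hp : Fact p.Prime]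

theorem c_pow {g : Perm α} (hg : g ∈ P) (n : ℕ) :
    D.c ⟨g ^ n, P.pow_mem hg n⟩ = (D.c ⟨g, hg⟩) ^ n := by
  have e : (⟨g ^ n, P.pow_mem hg n⟩ : P) = ⟨g, hg⟩ ^ n := rfl
  rw [e, map_pow]

theorem v0_mem (hQ : Nat.card Q = p) {g : Perm α} (hg : g ∈ P) : (g ^ p)⁻¹ ∈ D.Mα := by
  rw [D.mem_Mα]
  refine ⟨P.inv_mem (P.pow_mem hg p), ?_⟩
  have e : (⟨(g ^ p)⁻¹, P.inv_mem (P.pow_mem hg p)⟩ : P) = (⟨g, hg⟩ ^ p)⁻¹ := rfl
  rw [e, map_inv, map_pow, ← hQ, pow_card_eq_one', inv_one]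

/-- the correcting element -/
def wOf (g : Perm α) : Perm α := D.cutAt 1 (g ^ p)⁻¹

theorem wOf_mem (hQ : Nat.card Q = p) (hP : IsMaxP p P) (ω : α) {g : Perm α} (hg : g ∈ P) :
    D.wOf (p := p) g ∈ D.Mα := by
  unfold wOf
  rw [D.cutAt_one_eq (D.v0_mem hQ hg)]
  exact D.ofSubtype_R0_mem hP ω ⟨_, rfl⟩

theorem pow_gw (hQ : Nat.card Q = p) {g : Perm α} (hg : g ∈ P) : ∀ n : ℕ,
    (g * D.wOf (p := p) g) ^ n =
      D.prodCut (g ^ p)⁻¹ (fun j => (D.c ⟨g, hg⟩) ^ (j + 1)) n * g ^ n := by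
  have hv : ∀ a, D.β ((g ^ p)⁻¹ a) = D.β a := D.Mα_pres (D.v0_mem hQ hg)
  intro n
  induction n with
  | zero => simp [prodCut]
  | succ n ih =>
    have h1 := D.conj_cutAt (P.pow_mem hg (n + 1)) 1 hv
    rw [D.c_pow hg, mul_one] at h1
    have h2 : g ^ (n + 1) * (g ^ p)⁻¹ * (g ^ (n + 1))⁻¹ = (g ^ p)⁻¹ := by
      have hc : Commute (g ^ (n + 1)) (g ^ p)⁻¹ := (Commute.pow_pow_self g _ _).inv_right
      rw [hc.eq, mul_inv_cancel_right]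
    rw [h2] at h1
    rw [pow_succ, ih]
    show _ = D.prodCut (g ^ p)⁻¹ _ n * D.cutAt ((D.c ⟨g, hg⟩) ^ (n + 1)) (g ^ p)⁻¹ * g ^ (n + 1)
    rw [← h1]
    unfold wOf
    rw [pow_succ]
    group

theorem tau_pow (hQ : Nat.card Q = p) {g : Perm α} (hg : g ∈ P) (hγ : D.c ⟨g, hg⟩ ≠ 1) :
    (g * D.wOf (p := p) g) ^ p = 1 := by
  have hv : ∀ a, D.β ((g ^ p)⁻¹ a) = D.β a := D.Mα_pres (D.v0_mem hQ hg)
  rw [D.pow_gw hQ hg p, D.prodCut_full hv _ p (pow_shift_inj hQ hγ 1) (pow_shift_surj hQ hγ 1),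
    inv_mul_cancel]

theorem tau_mem (hQ : Nat.card Q = p) (hP : IsMaxP p P) (ω : α) {g : Perm α} (hg : g ∈ P) :
    g * D.wOf (p := p) g ∈ P :=
  P.mul_mem hg (D.Mα_le (D.wOf_mem hQ hP ω hg))

theorem c_tau (hQ : Nat.card Q = p) (hP : IsMaxP p P) (ω : α) {g : Perm α} (hg : g ∈ P) :
    D.c ⟨g * D.wOf (p := p) g, D.tau_mem hQ hP ω hg⟩ = D.c ⟨g, hg⟩ := by
  obtain ⟨hw, hw1⟩ := (D.mem_Mα).mp (D.wOf_mem hQ hP ω hg)
  have e : (⟨g * D.wOf (p := p) g, D.tau_mem hQ hP ω hg⟩ : P) = ⟨g, hg⟩ * ⟨_, hw⟩ := rfl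
  rw [e, map_mul, hw1, mul_one]

/-- permutations supported on a single block and preserving blocks commute when the blocks
differ -/
theorem commute_of_blocks {x y : Perm α} {q₁ q₂ : Q} (hne : q₁ ≠ q₂)
    (hx : ∀ a, D.β (x a) = D.β a) (hy : ∀ a, D.β (y a) = D.β a)
    (sx : ∀ a, D.β a ≠ q₁ → x a = a) (sy : ∀ a, D.β a ≠ q₂ → y a = a) : Commute x y := by
  apply Perm.ext
  intro a
  rw [Perm.mul_apply, Perm.mul_apply]
  by_cases h1 : D.β a = q₁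
  · have h2 : D.β a ≠ q₂ := fun h => hne (h1.symm.trans h)
    have h3 : D.β (x a) ≠ q₂ := by rw [hx]; exact h2
    rw [sy a h2, sy (x a) h3]
  · have h3 : D.β (y a) ≠ q₁ := by rw [hy]; exact h1
    rw [sx a h1, sx (y a) h3]

theorem ofSubtype_pres (a : Perm (Subtype D.qB)) (x : α) : D.β (ofSubtype a x) = D.β x := by
  by_cases hx : D.qB x
  · have h1 : D.qB (ofSubtype a x) := (ofSubtype_apply_mem_iff_mem a x).mpr hx
    unfold qB at h1 hx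
    exact h1.trans hx.symm
  · rw [ofSubtype_apply_of_not_mem _ hx]

theorem conjg_supp {g : Perm α} (hg : g ∈ P) (j : ℕ) (a : Perm (Subtype D.qB)) (x : α)
    (hx : D.β x ≠ (D.c ⟨g, hg⟩) ^ j) : (g ^ j * ofSubtype a * (g ^ j)⁻¹) x = x := by
  have h1 : ¬ D.qB ((g ^ j)⁻¹ x) := by
    unfold qB
    rw [D.equi_inv (P.pow_mem hg j), D.c_pow hg]
    intro hc
    apply hx
    rw [inv_mul_eq_one] at hc
    exact hc.symm
  rw [Perm.mul_apply, Perm.mul_apply, ofSubtype_apply_of_not_mem _ h1, perm_apply_inv]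

end BlockData

end Cfsg.Agent.Lib.Helper20.SymGen
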