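import Mathlib
import Cfsg.Agent.Lib.Helper20.SymGenD

/-!
# Sylow subgroups of symmetric groups via maximality: the transitive case, conclusion
-/

set_option autoImplicit false

namespace Cfsg.Agent.Lib.Helper20.SymGen

open Equiv Equiv.Perm

variable {α : Type*} [Fintype α] [DecidableEq α]

namespace BlockData

variable {P : Subgroup (Perm α)} {Q : Type*} [Group Q] [DecidableEq Q] [Finite Q]
  (D : BlockData P Q)

theorem sign_tau_two (hQ : Nat.card Q = 2) {τ : Perm α} (hτP : τ ∈ P)
    (hcτ : D.c ⟨τ, hτP⟩ ≠ 1) (hτ2 : τ ^ 2 = 1)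
    (heven : Even (Fintype.card (Subtype D.qB))) : sign τ = 1 := by
  haveI : Fact (Nat.Prime 2) := ⟨Nat.prime_two⟩
  have hfix : ∀ a, τ a ≠ a := by
    intro a h
    have h1 := D.equi' hτP a
    rw [h] at h1
    exact hcτ (mul_eq_right.mp h1.symm)
  have hQ2 : ∀ q : Q, q = 1 ∨ q = D.c ⟨τ, hτP⟩ := by
    intro q
    obtain ⟨j, hj, hq⟩ := pow_shift_surj hQ hcτ 0 q
    interval_cases j
    · left; simpa using hq
    · right; simpa using hq
  have hsq : D.c ⟨τ, hτP⟩ * D.c ⟨τ, hτP⟩ = 1 := by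
    rw [← pow_two, ← hQ]; exact pow_card_eq_one'
  have hiff : ∀ a, D.qB a ↔ ¬ D.qB (τ a) := by
    intro a
    unfold qB
    rw [D.equi' hτP]
    constructor
    · intro h; rw [h, mul_one]; exact hcτ
    · intro h
      rcases hQ2 (D.β a) with h1 | h1
      · exact h1
      · rw [h1, hsq] at h; exact absurd rfl h
  have e : Subtype D.qB ≃ {a // ¬ D.qB a} := τ.subtypeEquiv hiff
  have hc1 : Fintype.card {a // ¬ D.qB a} = Fintype.card (Subtype D.qB) :=
    (Fintype.card_congr e).symm
  have hc2 : Fintype.card {a // ¬ D.qB a} = Fintype.card α - Fintype.card (Subtype D.qB) :=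
    Fintype.card_subtype_compl D.qB
  have hc3 : Fintype.card (Subtype D.qB) ≤ Fintype.card α := Fintype.card_subtype_le _
  have hcard : Fintype.card α = 2 * Fintype.card (Subtype D.qB) := by omega
  have hct := cycleType_of_pow_prime_eq_one (p := 2) hτ2
  have hs := sign_of_cycleType_eq_replicate (by norm_num : 0 < 2) hct
  rw [if_neg (by decide)] at hs
  have hfp : Fintype.card (Function.fixedPoints τ) = 0 :=
    Fintype.card_eq_zero_iff.mpr ⟨fun x => hfix x.1 x.2⟩
  rw [hfp, hcard, Nat.sub_zero, Nat.mul_div_cancel_left _ (by norm_num : 0 < 2)] at hs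
  rw [hs]
  exact heven.neg_one_pow

variable {p : ℕ} [hp : Fact p.Prime]

theorem gen_of_block (hQ : Nat.card Q = p) (hP : IsMaxP p P) (ω : α)
    (hpar : p = 2 → Even (Fintype.card (Subtype D.qB)) ∨ Fintype.card (Subtype D.qB) ≤ 1)
    (hgen : Gen p D.R0) : Gen p P := by
  obtain ⟨I0, hc0, ho0, hs0⟩ := hgen
  obtain ⟨γ, hγ1⟩ : ∃ γ : Q, γ ≠ 1 := by
    haveI : Nontrivial Q :=
      (Finite.one_lt_card_iff_nontrivial).mp (by rw [hQ]; exact hp.1.one_lt)
    exact exists_ne 1
  obtain ⟨⟨g, hg⟩, hgγ⟩ := D.surj γ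
  have hγ : D.c ⟨g, hg⟩ ≠ 1 := by rw [hgγ]; exact hγ1
  have hτP := D.tau_mem hQ hP ω hg
  have hτp := D.tau_pow hQ hg hγ
  have hcτ := D.c_tau hQ hP ω hg
  have hwM := D.wOf_mem hQ hP ω hg
  set τ := g * D.wOf (p := p) g with hτ
  have hI0R : ∀ a ∈ I0, a ∈ D.R0 := fun a ha => hc0 ▸ Subgroup.subset_closure ha
  refine ⟨{x | ∃ j, j < p ∧ ∃ a ∈ I0, x = g ^ j * ofSubtype a * (g ^ j)⁻¹} ∪ {τ}, ?_, ?_, ?_⟩
  · -- generation
    apply le_antisymm
    · rw [Subgroup.closure_le]
      rintro x (⟨j, _, a, ha, rfl⟩ | hx)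
      · exact P.mul_mem (P.mul_mem (P.pow_mem hg j)
          (D.Mα_le (D.ofSubtype_R0_mem hP ω (hI0R a ha)))) (P.inv_mem (P.pow_mem hg j))
      · rw [Set.mem_singleton_iff] at hx
        rw [hx]; exact hτP
    · set H := Subgroup.closure
        ({x | ∃ j, j < p ∧ ∃ a ∈ I0, x = g ^ j * ofSubtype a * (g ^ j)⁻¹} ∪ {τ}) with hH
      have step1 : ∀ j, j < p → ∀ r ∈ D.R0, g ^ j * ofSubtype r * (g ^ j)⁻¹ ∈ H := by
        intro j hj r hr
        rw [← hc0] at hr
        induction hr using Subgroup.closure_induction with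
        | mem a ha => exact Subgroup.subset_closure (Or.inl ⟨j, hj, a, ha, rfl⟩)
        | one => simp
        | mul x y _ _ hx hy =>
          have e : g ^ j * ofSubtype (x * y) * (g ^ j)⁻¹ =
              (g ^ j * ofSubtype x * (g ^ j)⁻¹) * (g ^ j * ofSubtype y * (g ^ j)⁻¹) := by
            rw [map_mul]; group
          rw [e]; exact H.mul_mem hx hy
        | inv x _ hx =>
          have e : g ^ j * ofSubtype x⁻¹ * (g ^ j)⁻¹ = (g ^ j * ofSubtype x * (g ^ j)⁻¹)⁻¹ := by
            rw [map_inv]; group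
          rw [e]; exact H.inv_mem hx
      have step2 : ∀ m ∈ D.Mα, ∀ j, j < p → D.cutAt ((D.c ⟨g, hg⟩) ^ j) m ∈ H := by
        intro m hm j hj
        have hm' : (g ^ j)⁻¹ * m * g ^ j ∈ D.Mα := by
          have := D.Mα_conj hm (P.inv_mem (P.pow_mem hg j))
          rwa [inv_inv] at this
        have h1 := D.conj_cutAt (P.pow_mem hg j) 1 (D.Mα_pres hm')
        rw [D.c_pow hg, mul_one] at h1
        have e : g ^ j * ((g ^ j)⁻¹ * m * g ^ j) * (g ^ j)⁻¹ = m := by group
        rw [e, D.cutAt_one_eq hm'] at h1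
        rw [← h1]
        exact step1 j hj _ ⟨_, rfl⟩
      have step3 : ∀ m ∈ D.Mα, m ∈ H := by
        intro m hm
        have hv := D.Mα_pres hm
        have h1 : ∀ n, n ≤ p → D.prodCut m (fun j => (D.c ⟨g, hg⟩) ^ (j + 0)) n ∈ H := by
          intro n
          induction n with
          | zero => intro _; exact H.one_mem
          | succ n ih =>
            intro hn
            show D.prodCut m _ n * D.cutAt ((D.c ⟨g, hg⟩) ^ (n + 0)) m ∈ H
            exact H.mul_mem (ih (by omega)) (step2 m hm n (by omega))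
        have h2 := D.prodCut_full hv _ p (pow_shift_inj hQ hγ 0) (pow_shift_surj hQ hγ 0)
        rw [← h2]
        exact h1 p le_rfl
      have hτH : τ ∈ H := Subgroup.subset_closure (Or.inr rfl)
      have step4 : g ∈ H := by
        have e : g = τ * (D.wOf (p := p) g)⁻¹ := by rw [hτ]; group
        rw [e]
        exact H.mul_mem hτH (H.inv_mem (step3 _ hwM))
      intro h hh
      obtain ⟨j, hj, hcj⟩ := pow_shift_surj hQ hγ 0 (D.c ⟨h, hh⟩)
      have hm : (g ^ j)⁻¹ * h ∈ D.Mα := by
        rw [D.mem_Mα]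
        refine ⟨P.mul_mem (P.inv_mem (P.pow_mem hg j)) hh, ?_⟩
        have e : (⟨(g ^ j)⁻¹ * h, P.mul_mem (P.inv_mem (P.pow_mem hg j)) hh⟩ : P) =
            (⟨g, hg⟩ ^ j)⁻¹ * ⟨h, hh⟩ := rfl
        rw [e, map_mul, map_inv, map_pow, hcj, add_zero, inv_mul_cancel]
      have e : h = g ^ j * ((g ^ j)⁻¹ * h) := by group
      rw [e]
      exact H.mul_mem (H.pow_mem step4 j) (step3 _ hm)
  · -- orders
    rintro x (⟨j, _, a, ha, rfl⟩ | hx)
    · rw [conj_pow, ← map_pow, ho0 a ha, map_one, mul_one, mul_inv_cancel]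
    · rw [Set.mem_singleton_iff] at hx
      rw [hx]; exact hτp
  · -- parity
    have hsc : ∀ (j : ℕ) (a : Perm (Subtype D.qB)),
        sign (g ^ j * ofSubtype a * (g ^ j)⁻¹) = sign a := by
      intro j a
      rw [map_mul, map_mul, map_inv, mul_right_comm, mul_inv_cancel, one_mul, sign_ofSubtype]
    have hτsign : sign τ = -1 → ∀ a ∈ I0, sign a ≠ -1 := by
      intro hτodd a _ hodd
      have hp2 : p = 2 := by
        have h1 : (sign τ) ^ p = 1 := by rw [← map_pow, hτp, map_one]
        rw [hτodd] at h1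
        rcases hp.1.eq_two_or_odd' with h2 | h2
        · exact h2
        · rw [h2.neg_one_pow] at h1
          exact absurd h1 (by decide)
      subst hp2
      rcases hpar rfl with he | hle
      · have := D.sign_tau_two hQ hτP (by rw [hcτ]; exact hγ) hτp he
        rw [this] at hτodd
        exact absurd hτodd (by decide)
      · haveI : Subsingleton (Subtype D.qB) := Fintype.card_le_one_iff_subsingleton.mp hle
        have ha1 : a = 1 := by
          ext x
          exact congrArg Subtype.val (Subsingleton.elim _ _)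
        rw [ha1, map_one] at hodd
        exact absurd hodd (by decide)
    rintro x (⟨j, hj, a, ha, rfl⟩ | hx) y (⟨k, hk, b, hb, rfl⟩ | hy) sx sy
    · rw [hsc] at sx sy
      by_cases hjk : j = k
      · subst hjk
        exact ((hs0 a ha b hb sx sy).map (ofSubtype : Perm (Subtype D.qB) →* Perm α)).conj _
      · apply D.commute_of_blocks (q₁ := (D.c ⟨g, hg⟩) ^ j) (q₂ := (D.c ⟨g, hg⟩) ^ k)
        · intro h
          exact hjk (pow_shift_inj hQ hγ 0 j k hj hk (by simpa using h))
        · exact D.conj_pres (P.pow_mem hg j) (D.ofSubtype_pres a)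
        · exact D.conj_pres (P.pow_mem hg k) (D.ofSubtype_pres b)
        · exact D.conjg_supp hg j a
        · exact D.conjg_supp hg k b
    · rw [Set.mem_singleton_iff] at hy
      rw [hsc] at sx
      rw [hy] at sy
      exact absurd sx (hτsign sy a ha)
    · rw [Set.mem_singleton_iff] at hx
      rw [hsc] at sy
      rw [hx] at sx
      exact absurd sy (hτsign sx b hb)
    · rw [Set.mem_singleton_iff] at hx hy
      rw [hx, hy]

end BlockData

end Cfsg.Agent.Lib.Helper20.SymGen
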