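import Mathlib
import Cfsg.Agent.Lib.Helper25.YoshidaLocal
import Cfsg.Agent.Lib.Helper20.SymGenE

/-!
# Maximal `p`-subgroups of symmetric groups are generated by elements of order `p`
(the odd ones commuting pairwise).
-/

set_option autoImplicit false

universe u

namespace Cfsg.Agent.Lib.Helper20.SymGen

open Equiv Equiv.Perm

theorem gen_bot {α : Type u} [Fintype α] [DecidableEq α] (p : ℕ) :
    Gen p (⊥ : Subgroup (Perm α)) :=
  ⟨∅, Subgroup.closure_empty, fun _ h => absurd h (Set.notMem_empty _),
    fun _ h => absurd h (Set.notMem_empty _)⟩

theorem gen_of_isMaxP (p : ℕ) [hp : Fact p.Prime] : ∀ (n : ℕ) (α : Type u) [Fintype α]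
    [DecidableEq α], Fintype.card α = n → ∀ P : Subgroup (Perm α), IsMaxP p P → Gen p P := by
  intro n
  induction n using Nat.strong_induction_on with
  | _ n ih =>
    intro α _ _ hcard P hP
    classical
    by_cases htrans : ∀ a b : α, ∃ g ∈ P, g a = b
    · -- transitive case
      by_cases hsmall : Fintype.card α ≤ 1
      · haveI : Subsingleton α := Fintype.card_le_one_iff_subsingleton.mp hsmall
        have hPbot : P = ⊥ := by
          rw [eq_bot_iff]
          intro g _
          rw [Subgroup.mem_bot]
          ext x
          exact Subsingleton.elim _ _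
        rw [hPbot]
        exact gen_bot p
      · push Not at hsmall
        obtain ⟨ω, b, hωb⟩ := Fintype.one_lt_card_iff.mp hsmall
        -- the point stabilizer
        let stab : Subgroup P :=
          { carrier := {g | (g : Perm α) ω = ω}
            one_mem' := rfl
            mul_mem' := by
              intro x y hx hy
              show ((x : Perm α) * (y : Perm α)) ω = ω
              rw [Perm.mul_apply, show (y : Perm α) ω = ω from hy]
              exact hx
            inv_mem' := by
              intro x hx
              show ((x : Perm α)⁻¹) ω = ω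
              rw [Perm.inv_eq_iff_eq]
              exact (show (x : Perm α) ω = ω from hx).symm }
        have hstab : stab ≠ ⊤ := by
          intro h
          obtain ⟨g, hg, hgb⟩ := htrans ω b
          have : (⟨g, hg⟩ : P) ∈ stab := by rw [h]; exact Subgroup.mem_top _
          have h2 : g ω = ω := this
          exact hωb (h2.symm.trans hgb)
        obtain ⟨M, hsM, hMn, hMidx⟩ :=
          Cfsg.Agent.Lib.Helper25.exists_normal_index_prime_ge hP.1 stab hstab
        haveI := hMn
        have hQcard : Nat.card (P ⧸ M) = p := by rw [← Subgroup.index_eq_card]; exact hMidx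
        have htr : ∀ a : α, ∃ h : P, (h : Perm α) ω = a := by
          intro a
          obtain ⟨g, hg, hga⟩ := htrans ω a
          exact ⟨⟨g, hg⟩, hga⟩
        let β : α → P ⧸ M := fun a => QuotientGroup.mk' M (Classical.choose (htr a))
        have hβspec : ∀ a, ((Classical.choose (htr a) : P) : Perm α) ω = a :=
          fun a => Classical.choose_spec (htr a)
        have hβeq : ∀ (a : α) (k : P), (k : Perm α) ω = a → β a = QuotientGroup.mk' M k := by
          intro a k hk
          show QuotientGroup.mk' M (Classical.choose (htr a)) = QuotientGroup.mk' M k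
          rw [QuotientGroup.mk'_eq_mk']
          refine ⟨(Classical.choose (htr a))⁻¹ * k, hsM ?_, by group⟩
          show (((Classical.choose (htr a))⁻¹ * k : P) : Perm α) ω = ω
          rw [Subgroup.coe_mul, Subgroup.coe_inv, Perm.mul_apply, hk, Perm.inv_eq_iff_eq,
            hβspec a]
        have hequi : ∀ (h : P) (a : α),
            β ((h : Perm α) a) = QuotientGroup.mk' M h * β a := by
          intro h a
          rw [hβeq ((h : Perm α) a) (h * Classical.choose (htr a))
            (by rw [Subgroup.coe_mul, Perm.mul_apply, hβspec a]), map_mul]
        let D : BlockData P (P ⧸ M) :=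
          ⟨QuotientGroup.mk' M, β, QuotientGroup.mk'_surjective M, hequi⟩
        have hβω : D.β ω = 1 := by
          have := hβeq ω 1 rfl
          rw [map_one] at this
          exact this
        -- induction hypothesis on the block
        have hlt : Fintype.card (Subtype D.qB) < n := by
          rw [← hcard]
          obtain ⟨γ, hγ⟩ : ∃ γ : P ⧸ M, γ ≠ 1 := by
            haveI : Nontrivial (P ⧸ M) :=
              (Finite.one_lt_card_iff_nontrivial).mp (by rw [hQcard]; exact hp.1.one_lt)
            exact exists_ne 1
          obtain ⟨h, hh⟩ := D.surj γ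
          apply Fintype.card_subtype_lt (x := (h : Perm α) ω)
          show ¬ D.β ((h : Perm α) ω) = 1
          rw [D.equi, hh, hβω, mul_one]
          exact hγ
        have hgenR0 : Gen p D.R0 := ih _ hlt (Subtype D.qB) rfl D.R0 (D.R0_isMaxP hP ω)
        -- parity information for p = 2
        have hpar : p = 2 →
            Even (Fintype.card (Subtype D.qB)) ∨ Fintype.card (Subtype D.qB) ≤ 1 := by
          intro _
          have horb : ∀ a : α, a ∈ MulAction.orbit D.Mα ω ↔ D.qB a := by
            intro a
            constructor
            · rintro ⟨m, rfl⟩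
              show D.β ((m : Perm α) ω) = 1
              rw [D.Mα_pres m.2, hβω]
            · intro ha
              have ha' : D.β a = 1 := ha
              have h1 : D.β a = QuotientGroup.mk' M (Classical.choose (htr a)) :=
                hβeq a _ (hβspec a)
              rw [ha'] at h1
              have h2 : ((Classical.choose (htr a) : P) : Perm α) ∈ D.Mα :=
                (D.mem_Mα).mpr ⟨(Classical.choose (htr a)).2, h1.symm⟩
              exact ⟨⟨_, h2⟩, hβspec a⟩
          have hMp : IsPGroup p D.Mα := hP.1.to_le D.Mα_le
          obtain ⟨k, hk⟩ := hMp.card_orbit ω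
          have hcardB : Fintype.card (Subtype D.qB) = p ^ k := by
            rw [← hk, ← Nat.card_eq_fintype_card]
            exact Nat.card_congr (Equiv.subtypeEquivRight (fun a => (horb a).symm))
          rw [hcardB]
          rcases Nat.eq_zero_or_pos k with h0 | hpos
          · right; rw [h0, pow_zero]
          · left
            subst ‹p = 2›
            exact (Nat.even_pow' hpos.ne').mpr even_two
        exact D.gen_of_block hQcard hP ω hpar hgenR0
    · -- intransitive case
      push Not at htrans
      obtain ⟨a, b, hab⟩ := htrans
      let q : α → Prop := fun x => ∃ g ∈ P, g a = x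
      have hq : ∀ g ∈ P, ∀ x, q (g x) ↔ q x := by
        intro g hg x
        constructor
        · rintro ⟨g', hg', h⟩
          refine ⟨g⁻¹ * g', P.mul_mem (P.inv_mem hg) hg', ?_⟩
          rw [Perm.mul_apply, h, perm_inv_apply]
        · rintro ⟨g', hg', h⟩
          exact ⟨g * g', P.mul_mem hg hg', by rw [Perm.mul_apply, h]⟩
      have hq' : ∀ g ∈ P, ∀ x, ¬ q (g x) ↔ ¬ q x := fun g hg x => not_congr (hq g hg x)
      have hqa : q a := ⟨1, P.one_mem, rfl⟩
      have hqb : ¬ q b := by
        rintro ⟨g, hg, h⟩
        exact hab g hg h
      have hlt1 : Fintype.card (Subtype q) < n := by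
        rw [← hcard]; exact Fintype.card_subtype_lt hqb
      have hlt2 : Fintype.card {x // ¬ q x} < n := by
        rw [← hcard]; exact Fintype.card_subtype_lt (p := fun x => ¬ q x) (not_not.mpr hqa)
      have h1 := ih _ hlt1 (Subtype q) rfl _ (isMaxP_range_resHom P hP q hq)
      have h2 := ih _ hlt2 {x // ¬ q x} rfl _ (isMaxP_range_resHom P hP (fun x => ¬ q x) hq')
      exact gen_of_res P hP q hq hq' h1 h2

end Cfsg.Agent.Lib.Helper20.SymGen
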