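import Mathlib
import Cfsg.Agent.Lib.Helper20.SymGenF

/-!
# Sylow subgroups of symmetric and alternating groups have elementary abelian abelianization
-/

set_option autoImplicit false

namespace Cfsg.Agent.Lib.Helper20.SymGen

open Equiv Equiv.Perm

theorem pow_mem_commutator_of_closure {G : Type*} [Group G] (p : ℕ) (I : Set G)
    (hI : Subgroup.closure I = ⊤) (hpI : ∀ a ∈ I, a ^ p = 1) (x : G) : x ^ p ∈ commutator G := by
  let ψ : G →* Abelianization G := (powMonoidHom p).comp Abelianization.of
  have h1 : Subgroup.closure I ≤ ψ.ker := by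
    rw [Subgroup.closure_le]
    intro a ha
    show ψ a = 1
    simp only [ψ, MonoidHom.comp_apply, powMonoidHom_apply]
    rw [← map_pow, hpI a ha, map_one]
  have h2 : x ∈ ψ.ker := h1 (hI ▸ Subgroup.mem_top x)
  rw [MonoidHom.mem_ker] at h2
  simp only [ψ, MonoidHom.comp_apply, powMonoidHom_apply] at h2
  rw [← map_pow, ← MonoidHom.mem_ker, Abelianization.ker_of] at h2
  exact h2

theorem closure_preimage_eq_top {G H : Type*} [Group G] [Group H] (f : G →* H)
    (hf : Function.Injective f) (I : Set H) (hI : Subgroup.closure I = f.range) :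
    Subgroup.closure (f ⁻¹' I) = ⊤ := by
  apply Subgroup.map_injective hf
  have hsub : I ⊆ Set.range f := by
    intro a ha
    have : a ∈ f.range := hI ▸ Subgroup.subset_closure ha
    exact this
  rw [MonoidHom.map_closure, Set.image_preimage_eq_inter_range, Set.inter_eq_left.mpr hsub, hI,
    MonoidHom.range_eq_map]

/-- Schreier generators of the even part of a group generated by involutions whose odd members
commute. -/
theorem closure_even {α : Type*} [Fintype α] [DecidableEq α] (P : Subgroup (Perm α))
    (I : Set (Perm α)) (hI : Subgroup.closure I = P) (ho : ∀ a ∈ I, a ^ 2 = 1)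
    (hs : ∀ a ∈ I, ∀ b ∈ I, sign a = -1 → sign b = -1 → Commute a b) :
    ∃ J : Set (Perm α), Subgroup.closure J = P ⊓ alternatingGroup α ∧ ∀ a ∈ J, a ^ 2 = 1 := by
  by_cases hodd : ∃ t ∈ I, sign t = -1
  · obtain ⟨t, htI, hts⟩ := hodd
    have htt : t * t = 1 := by rw [← pow_two]; exact ho t htI
    have htinv : t⁻¹ = t := inv_eq_of_mul_eq_one_left htt
    have hsq : ∀ a ∈ I, a * a = 1 := fun a ha => by rw [← pow_two]; exact ho a ha
    let J : Set (Perm α) := {x | ∃ a ∈ I, sign a = 1 ∧ (x = a ∨ x = t * a * t)} ∪
      {x | ∃ a ∈ I, sign a = -1 ∧ (x = a * t ∨ x = t * a)}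
    have hJP : ∀ x ∈ J, x ∈ P := by
      have hIP : ∀ a ∈ I, a ∈ P := fun a ha => hI ▸ Subgroup.subset_closure ha
      rintro x (⟨a, ha, _, hx | hx⟩ | ⟨a, ha, _, hx | hx⟩)
      · rw [hx]; exact hIP a ha
      · rw [hx]; exact P.mul_mem (P.mul_mem (hIP t htI) (hIP a ha)) (hIP t htI)
      · rw [hx]; exact P.mul_mem (hIP a ha) (hIP t htI)
      · rw [hx]; exact P.mul_mem (hIP t htI) (hIP a ha)
    have hJeven : ∀ x ∈ J, sign x = 1 := by
      rintro x (⟨a, ha, hsa, hx | hx⟩ | ⟨a, ha, hsa, hx | hx⟩)
      · rw [hx]; exact hsa
      · rw [hx, map_mul, map_mul, hsa, hts]; decide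
      · rw [hx, map_mul, hsa, hts]; decide
      · rw [hx, map_mul, hsa, hts]; decide
    have hJsq : ∀ x ∈ J, x ^ 2 = 1 := by
      rintro x (⟨a, ha, hsa, hx | hx⟩ | ⟨a, ha, hsa, hx | hx⟩)
      · rw [hx]; exact ho a ha
      · rw [hx, pow_two]
        calc t * a * t * (t * a * t) = t * a * (t * t) * a * t := by group
          _ = 1 := by rw [htt, mul_one, mul_assoc t a a, hsq a ha, mul_one, htt]
      · have hc : Commute a t := hs a ha t htI hsa hts
        rw [hx, hc.mul_pow, ho a ha, ho t htI, one_mul]
      · have hc : Commute t a := hs t htI a ha hts hsa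
        rw [hx, hc.mul_pow, ho a ha, ho t htI, one_mul]
    refine ⟨J, ?_, hJsq⟩
    apply le_antisymm
    · rw [Subgroup.closure_le]
      intro x hx
      exact ⟨hJP x hx, mem_alternatingGroup.mpr (hJeven x hx)⟩
    · set H := Subgroup.closure J with hH
      have hHeven : ∀ x ∈ H, sign x = 1 := by
        intro x hx
        have : H ≤ alternatingGroup α := by
          rw [hH, Subgroup.closure_le]
          intro y hy
          exact mem_alternatingGroup.mpr (hJeven y hy)
        exact mem_alternatingGroup.mp (this hx)
      have hstep : ∀ a ∈ I, ∀ y, (y ∈ H ∨ t * y ∈ H) → (a * y ∈ H ∨ t * (a * y) ∈ H) := by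
        intro a ha y hy
        rcases Int.units_eq_one_or (sign a) with hsa | hsa
        · rcases hy with hy | hy
          · left
            exact H.mul_mem (Subgroup.subset_closure (Or.inl ⟨a, ha, hsa, Or.inl rfl⟩)) hy
          · right
            have e : t * (a * y) = (t * a * t) * (t * y) := by
              calc t * (a * y) = t * a * (t * t) * y := by rw [htt]; group
                _ = (t * a * t) * (t * y) := by group
            rw [e]
            exact H.mul_mem (Subgroup.subset_closure (Or.inl ⟨a, ha, hsa, Or.inr rfl⟩)) hy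
        · rcases hy with hy | hy
          · right
            have e : t * (a * y) = (t * a) * y := by group
            rw [e]
            exact H.mul_mem (Subgroup.subset_closure (Or.inr ⟨a, ha, hsa, Or.inr rfl⟩)) hy
          · left
            have e : a * y = (a * t) * (t * y) := by
              calc a * y = a * (t * t) * y := by rw [htt]; group
                _ = (a * t) * (t * y) := by group
            rw [e]
            exact H.mul_mem (Subgroup.subset_closure (Or.inr ⟨a, ha, hsa, Or.inl rfl⟩)) hy
      have hall : ∀ x ∈ Subgroup.closure I, x ∈ H ∨ t * x ∈ H := by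
        intro x hx
        induction hx using Subgroup.closure_induction_left with
        | one => left; exact H.one_mem
        | mul_left a ha y _ ih => exact hstep a ha y ih
        | inv_mul_cancel a ha y _ ih =>
          have : a⁻¹ = a := inv_eq_of_mul_eq_one_left (hsq a ha)
          rw [this]
          exact hstep a ha y ih
      rintro x ⟨hxP, hxA⟩
      have hxs : sign x = 1 := mem_alternatingGroup.mp hxA
      rcases hall x (hI ▸ hxP) with h | h
      · exact h
      · exfalso
        have := hHeven _ h
        rw [map_mul, hts, hxs] at this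
        exact absurd this (by decide)
  · push Not at hodd
    refine ⟨I, ?_, ho⟩
    have hle : P ≤ alternatingGroup α := by
      rw [← hI, Subgroup.closure_le]
      intro a ha
      rcases Int.units_eq_one_or (sign a) with h | h
      · exact mem_alternatingGroup.mpr h
      · exact absurd h (hodd a ha)
    rw [hI, inf_eq_left.mpr hle]

end Cfsg.Agent.Lib.Helper20.SymGen
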