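import Mathlib

/-!
Helper lemmas (helper20): the derived length of a regular wreath product `D ≀ᵣ Q` with `Q ≠ 1`
exceeds that of `D`; iterated wreath products as permutation `p`-groups of large derived length.
-/

set_option autoImplicit false
open scoped commutatorElement

namespace Cfsg.Agent.Lib.Helper20.WrD

open RegularWreathProduct

section wreath

variable {D Q : Type*} [Group D] [Group Q]

/-- evaluation at the coordinate `1` on the base group -/
def ev1 : ((rightHom : D ≀ᵣ Q →* Q).ker) →* D where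
  toFun w := w.1.left 1
  map_one' := rfl
  map_mul' := by
    intro a b
    have ha : a.1.right = 1 := a.2
    show (a.1 * b.1).left 1 = a.1.left 1 * b.1.left 1
    rw [RegularWreathProduct.mul_left, ha]
    simp

/-- the subgroup of `D` of coordinates at `1` of base elements of `K` -/
def evSub (K : Subgroup (D ≀ᵣ Q)) : Subgroup D :=
  (K.subgroupOf (rightHom : D ≀ᵣ Q →* Q).ker).map ev1

theorem mem_evSub {K : Subgroup (D ≀ᵣ Q)} {d : D} :
    d ∈ evSub K ↔ ∃ w ∈ K, w.right = 1 ∧ w.left 1 = d := by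
  unfold evSub
  rw [Subgroup.mem_map]
  constructor
  · rintro ⟨w, hw, rfl⟩
    exact ⟨w.1, Subgroup.mem_subgroupOf.mp hw, w.2, rfl⟩
  · rintro ⟨w, hw, hr, rfl⟩
    exact ⟨⟨w, hr⟩, Subgroup.mem_subgroupOf.mpr hw, rfl⟩

open scoped Classical in
/-- the element with `d` at the coordinate `1` -/
noncomputable def single (d : D) : D ≀ᵣ Q := ⟨fun x => if x = 1 then d else 1, 1⟩

theorem comm_single_right (d : D) (q : Q) : (⁅(single d : D ≀ᵣ Q), (inl q : D ≀ᵣ Q)⁆).right = 1 := by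
  have h : (rightHom : D ≀ᵣ Q →* Q) ⁅(single d : D ≀ᵣ Q), (inl q : D ≀ᵣ Q)⁆ = 1 := by
    rw [map_commutatorElement]
    show ⁅(1 : Q), q⁆ = 1
    simp
  exact h

theorem comm_single_left (d : D) {q : Q} (hq : q ≠ 1) :
    (⁅(single d : D ≀ᵣ Q), (inl q : D ≀ᵣ Q)⁆).left 1 = d := by
  have hq' : q⁻¹ ≠ 1 := by simpa using hq
  simp only [commutatorElement_def, RegularWreathProduct.mul_left, RegularWreathProduct.inv_left,
    RegularWreathProduct.mul_right, RegularWreathProduct.inv_right, single, left_inl, right_inl,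
    Pi.mul_apply, Pi.inv_apply, Pi.one_apply]
  simp [hq']

theorem derivedSeries_le_evSub {q : Q} (hq : q ≠ 1) (j : ℕ) :
    derivedSeries D j ≤ evSub (derivedSeries (D ≀ᵣ Q) (j + 1)) := by
  induction j with
  | zero =>
    intro d _
    rw [mem_evSub]
    refine ⟨⁅(single d : D ≀ᵣ Q), (inl q : D ≀ᵣ Q)⁆, ?_, comm_single_right d q, comm_single_left d hq⟩
    rw [derivedSeries_succ, derivedSeries_zero]
    exact Subgroup.commutator_mem_commutator (Subgroup.mem_top _) (Subgroup.mem_top _)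
  | succ j ih =>
    rw [derivedSeries_succ D j, Subgroup.commutator_le]
    intro a ha b hb
    obtain ⟨wa, hwa, hra, hla⟩ := mem_evSub.mp (ih ha)
    obtain ⟨wb, hwb, hrb, hlb⟩ := mem_evSub.mp (ih hb)
    rw [mem_evSub]
    refine ⟨⁅wa, wb⁆, ?_, ?_, ?_⟩
    · rw [derivedSeries_succ (D ≀ᵣ Q) (j + 1)]
      exact Subgroup.commutator_mem_commutator hwa hwb
    · have h : (rightHom : D ≀ᵣ Q →* Q) ⁅wa, wb⁆ = 1 := by
        rw [map_commutatorElement]
        show ⁅wa.right, wb.right⁆ = 1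
        rw [hra, hrb]; simp
      exact h
    · have h := map_commutatorElement (ev1 (D := D) (Q := Q)) ⟨wa, hra⟩ ⟨wb, hrb⟩
      have h2 : ev1 (⁅(⟨wa, hra⟩ : (rightHom : D ≀ᵣ Q →* Q).ker), ⟨wb, hrb⟩⁆) =
          (⁅wa, wb⁆).left 1 := rfl
      rw [← h2, h]
      show ⁅wa.left 1, wb.left 1⁆ = ⁅a, b⁆
      rw [hla, hlb]

theorem derivedSeries_wreath_ne_bot {q : Q} (hq : q ≠ 1) (j : ℕ) (h : derivedSeries D j ≠ ⊥) :
    derivedSeries (D ≀ᵣ Q) (j + 1) ≠ ⊥ := by
  intro hbot
  apply h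
  rw [eq_bot_iff]
  intro d hd
  obtain ⟨w, hw, -, hl⟩ := mem_evSub.mp (derivedSeries_le_evSub hq j hd)
  rw [hbot, Subgroup.mem_bot] at hw
  rw [Subgroup.mem_bot, ← hl, hw]
  rfl

end wreath

end Cfsg.Agent.Lib.Helper20.WrD
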