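import Mathlib
import Cfsg.Agent.Lib.Helper20.WreathDerived
import Cfsg.Agent.Lib.Helper1.PGroup

/-!
Helper lemmas (helper20): the derived length of a Sylow `p`-subgroup of the symmetric group of
degree `n` is `⌊log_p n⌋`.
-/

set_option autoImplicit false
open scoped commutatorElement

namespace Cfsg.Agent.Lib.Helper20.WrD

open RegularWreathProduct

/-! ### The lower bound: iterated wreath products -/

theorem exists_model (p : ℕ) [hp : Fact p.Prime] : ∀ k : ℕ,
    ∃ (X : Type) (W : Type) (_ : Group W) (_ : MulAction W X) (_ : Finite X) (_ : Finite W),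
      FaithfulSMul W X ∧ Nat.card X = p ^ k ∧ IsPGroup p W ∧
      (1 ≤ k → derivedSeries W (k - 1) ≠ ⊥) := by
  intro k
  induction k with
  | zero =>
    refine ⟨PUnit, PUnit, inferInstance, inferInstance, inferInstance, inferInstance,
      inferInstance, by simp, ?_, fun h => absurd h (by norm_num)⟩
    exact IsPGroup.of_card (n := 0) (by simp)
  | succ k ih =>
    obtain ⟨X, W, iG, iA, iFX, iFW, hfaith, hcardX, hpW, hder⟩ := ih
    haveI : Nonempty X := by
      have : 0 < Nat.card X := by rw [hcardX]; exact pow_pos hp.1.pos k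
      exact (Nat.card_pos_iff.mp this).1
    haveI : NeZero p := ⟨hp.1.ne_zero⟩
    have hcardG : Nat.card (Multiplicative (ZMod p)) = p := by
      rw [Nat.card_eq_fintype_card, Fintype.card_multiplicative, ZMod.card]
    obtain ⟨q, hq⟩ : ∃ q : Multiplicative (ZMod p), q ≠ 1 := by
      haveI : Nontrivial (Multiplicative (ZMod p)) := by
        rw [← Finite.one_lt_card_iff_nontrivial, hcardG]; exact hp.1.one_lt
      exact exists_ne 1
    refine ⟨X × Multiplicative (ZMod p), W ≀ᵣ Multiplicative (ZMod p), inferInstance,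
      inferInstance, inferInstance, inferInstance, inferInstance, ?_, ?_, ?_⟩
    · rw [Nat.card_prod, hcardX, hcardG, pow_succ]
    · obtain ⟨a, ha⟩ := (IsPGroup.iff_card).mp hpW
      apply IsPGroup.of_card (n := a * p + 1)
      rw [RegularWreathProduct.card, ha, hcardG, ← pow_mul, pow_succ]
    · intro _
      by_cases hk : k = 0
      · subst hk
        show derivedSeries (W ≀ᵣ Multiplicative (ZMod p)) 0 ≠ ⊥
        rw [derivedSeries_zero]
        intro htop
        apply hq
        have h1 : (inl q : W ≀ᵣ Multiplicative (ZMod p)) ∈ (⊥ : Subgroup _) := by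
          rw [← htop]; exact Subgroup.mem_top _
        rw [Subgroup.mem_bot] at h1
        have h2 := congrArg RegularWreathProduct.right h1
        simpa using h2
      · have h1 := derivedSeries_wreath_ne_bot (D := W) hq (k - 1) (hder (by omega))
        have h2 : k - 1 + 1 = k := by omega
        rw [h2] at h1
        exact h1

/-! ### The upper bound -/

section upper

variable {G : Type*} [Group G]

/-- the derived series of a subgroup, inside the ambient group -/
def dser (H : Subgroup G) : ℕ → Subgroup G
  | 0 => H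
  | i + 1 => ⁅dser H i, dser H i⁆

theorem dser_succ' (H : Subgroup G) (i : ℕ) : dser H (i + 1) = dser ⁅H, H⁆ i := by
  induction i with
  | zero => rfl
  | succ i ih =>
    show ⁅dser H (i + 1), dser H (i + 1)⁆ = ⁅dser ⁅H, H⁆ i, dser ⁅H, H⁆ i⁆
    rw [ih]

theorem map_derivedSeries_subtype (H : Subgroup G) (i : ℕ) :
    (derivedSeries ↥H i).map H.subtype = dser H i := by
  induction i with
  | zero =>
    show (⊤ : Subgroup H).map H.subtype = H
    rw [← MonoidHom.range_eq_map, Subgroup.range_subtype]
  | succ i ih =>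
    rw [derivedSeries_succ, Subgroup.map_commutator, ih]
    rfl

variable {α : Type*} [MulAction G α] {p : ℕ} [hp : Fact p.Prime]

/-- the orbit lemma -/
theorem card_orbit_commutator_lt [Finite α] (H : Subgroup G) [Finite H] (hH : IsPGroup p H)
    (a : α) (k : ℕ) (h : Nat.card (MulAction.orbit H a) < p ^ (k + 2)) :
    Nat.card (MulAction.orbit (⁅H, H⁆ : Subgroup G) a) < p ^ (k + 1) := by
  classical
  set S := MulAction.stabilizer H a with hS
  by_cases hSt : S = ⊤
  · -- `a` is fixed by `H`
    have hfix : ∀ x ∈ H, x • a = a := by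
      intro x hx
      have : (⟨x, hx⟩ : H) ∈ S := by rw [hSt]; exact Subgroup.mem_top _
      exact MulAction.mem_stabilizer_iff.mp this
    have hsub : MulAction.orbit (⁅H, H⁆ : Subgroup G) a ⊆ {a} := by
      rintro _ ⟨⟨x, hx⟩, rfl⟩
      exact Set.mem_singleton_iff.mpr (hfix x (Subgroup.commutator_le_self H hx))
    calc Nat.card (MulAction.orbit (⁅H, H⁆ : Subgroup G) a)
        ≤ Nat.card ({a} : Set α) := Nat.card_mono (Set.finite_singleton a) hsub
      _ = 1 := by simp
      _ < p ^ (k + 1) := Nat.one_lt_pow (by omega) hp.1.one_lt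
  · obtain ⟨M, hM, hSM⟩ := (eq_top_or_exists_le_coatom S).resolve_left hSt
    have hcomm : _root_.commutator H ≤ M :=
      (Cfsg.Agent.Lib.Helper1.IsPGroup.commutator_le_frattini hH).trans (frattini_le_coatom hM)
    -- orbit of the commutator subgroup inside the orbit of `M`
    have hsub : MulAction.orbit (⁅H, H⁆ : Subgroup G) a ⊆ MulAction.orbit M a := by
      rintro _ ⟨⟨x, hx⟩, rfl⟩
      rw [← Subgroup.map_subtype_commutator] at hx
      obtain ⟨x₀, hx₀, rfl⟩ := hx
      exact ⟨⟨x₀, hcomm hx₀⟩, rfl⟩
    have hle : Nat.card (MulAction.orbit (⁅H, H⁆ : Subgroup G) a) ≤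
        Nat.card (MulAction.orbit M a) := Nat.card_mono (Set.toFinite _) hsub
    -- sizes
    have hMp : IsPGroup p M := hH.to_subgroup M
    obtain ⟨i, hi⟩ := hMp.card_orbit a
    obtain ⟨j, hj⟩ := hH.card_orbit a
    have hstab : MulAction.stabilizer M a = S.subgroupOf M := by
      ext x
      rw [MulAction.mem_stabilizer_iff, Subgroup.mem_subgroupOf, hS, MulAction.mem_stabilizer_iff]
      rfl
    have h1 : (S.subgroupOf M).index * M.index = S.index := Subgroup.relIndex_mul_index hSM
    rw [← hstab, MulAction.index_stabilizer, hS, MulAction.index_stabilizer,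
      ← Nat.card_coe_set_eq, ← Nat.card_coe_set_eq, hi, hj] at h1
    have hMidx : M.index ≠ 1 := by
      intro h1'
      exact hM.1 (Subgroup.index_eq_one.mp h1')
    have hij : i < j := by
      by_contra hge
      push Not at hge
      have hpos : 0 < p ^ j := pow_pos hp.1.pos j
      have h2 : p ^ j ≤ p ^ i := Nat.pow_le_pow_right hp.1.pos hge
      have h3 : M.index ≠ 0 := Subgroup.index_ne_zero_of_finite
      have h4 : p ^ i * M.index ≥ p ^ i * 2 := Nat.mul_le_mul_left _ (by omega)
      have h5 : 0 < p ^ i := pow_pos hp.1.pos i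
      omega
    have hj2 : j < k + 2 := by
      rw [hj] at h
      exact (Nat.pow_lt_pow_iff_right hp.1.one_lt).mp h
    calc Nat.card (MulAction.orbit (⁅H, H⁆ : Subgroup G) a) ≤ p ^ i := hi ▸ hle
      _ < p ^ (k + 1) := Nat.pow_lt_pow_right hp.1.one_lt (by omega)

theorem dser_eq_bot [Finite α] [FaithfulSMul G α] : ∀ (k : ℕ) (H : Subgroup G) [Finite H],
    IsPGroup p H → (∀ a : α, Nat.card (MulAction.orbit H a) < p ^ (k + 1)) →
    dser H k = ⊥ := by
  intro k
  induction k with
  | zero =>
    intro H _ hH horb
    show H = ⊥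
    rw [eq_bot_iff]
    intro x hx
    rw [Subgroup.mem_bot]
    apply FaithfulSMul.eq_of_smul_eq_smul (α := α)
    intro a
    rw [one_smul]
    obtain ⟨j, hj⟩ := hH.card_orbit a
    have h1 := horb a
    rw [hj, zero_add, pow_one] at h1
    have hj0 : j = 0 := by
      by_contra hne
      have : p ^ 1 ≤ p ^ j := Nat.pow_le_pow_right hp.1.pos (by omega)
      rw [pow_one] at this
      omega
    rw [hj0, pow_zero] at hj
    have hmem : (⟨x, hx⟩ : H) • a ∈ MulAction.orbit H a := ⟨⟨x, hx⟩, rfl⟩
    have hsub : Subsingleton (MulAction.orbit H a) := (Nat.card_eq_one_iff_unique.mp hj).1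
    have := Subsingleton.elim (⟨(⟨x, hx⟩ : H) • a, hmem⟩ : MulAction.orbit H a)
      ⟨a, MulAction.mem_orbit_self a⟩
    exact congrArg Subtype.val this
  | succ k ih =>
    intro H _ hH horb
    rw [dser_succ']
    haveI : Finite (⁅H, H⁆ : Subgroup G) :=
      Finite.of_injective (Subgroup.inclusion (Subgroup.commutator_le_self H))
        (Subgroup.inclusion_injective _)
    apply ih
    · exact hH.to_le (Subgroup.commutator_le_self H)
    · intro a
      exact card_orbit_commutator_lt H hH a k (horb a)

end upper

/-! ### The theorem -/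

theorem sylow_perm_derived (p : ℕ) [hp : Fact p.Prime] (n : ℕ) (_hn : 1 ≤ n)
    (P : Sylow p (Equiv.Perm (Fin n))) :
    derivedSeries ↥(P : Subgroup (Equiv.Perm (Fin n))) (Nat.log p n) = ⊥ ∧
    (1 ≤ Nat.log p n →
      derivedSeries ↥(P : Subgroup (Equiv.Perm (Fin n))) (Nat.log p n - 1) ≠ ⊥) := by
  constructor
  · -- upper bound
    have h1 : dser (P : Subgroup (Equiv.Perm (Fin n))) (Nat.log p n) = ⊥ := by
      apply dser_eq_bot (α := Fin n) (p := p) _ _ P.isPGroup'
      intro a
      calc Nat.card (MulAction.orbit (P : Subgroup (Equiv.Perm (Fin n))) a)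
          ≤ Nat.card (Fin n) := Nat.card_le_card_of_injective _ Subtype.val_injective
        _ = n := Nat.card_fin n
        _ < p ^ (Nat.log p n + 1) := Nat.lt_pow_succ_log_self hp.1.one_lt n
    rw [← map_derivedSeries_subtype] at h1
    exact (Subgroup.map_eq_bot_iff_of_injective _ (Subgroup.subtype_injective _)).mp h1
  · intro hk
    obtain ⟨X, W, iG, iA, iFX, iFW, hfaith, hcardX, hpW, hder⟩ := exists_model p (Nat.log p n)
    have hder' := hder hk
    haveI : Fintype X := Fintype.ofFinite X
    have hle : Fintype.card X ≤ Fintype.card (Fin n) := by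
      rw [← Nat.card_eq_fintype_card, hcardX, Fintype.card_fin]
      exact Nat.pow_log_le_self p (by omega)
    obtain ⟨e⟩ := Function.Embedding.nonempty_of_card_le hle
    let f : W →* Equiv.Perm (Fin n) :=
      (Equiv.Perm.viaEmbeddingHom e).comp (MulAction.toPermHom W X)
    have hf : Function.Injective f :=
      (Equiv.Perm.viaEmbeddingHom_injective e).comp MulAction.toPerm_injective
    have hQ : IsPGroup p f.range := hpW.of_surjective f.rangeRestrict f.rangeRestrict_surjective
    obtain ⟨P', hP'⟩ := hQ.exists_le_sylow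
    let g₁ : W →* ↥(P' : Subgroup (Equiv.Perm (Fin n))) :=
      (Subgroup.inclusion hP').comp f.rangeRestrict
    have hg₁ : Function.Injective g₁ := by
      apply (Subgroup.inclusion_injective hP').comp
      intro a b hab
      apply hf
      exact congrArg Subtype.val hab
    let g : W →* ↥(P : Subgroup (Equiv.Perm (Fin n))) := (P'.equiv P).toMonoidHom.comp g₁
    have hg : Function.Injective g := (P'.equiv P).injective.comp hg₁
    intro hbot
    apply hder'
    have h2 := map_derivedSeries_le_derivedSeries g (Nat.log p n - 1)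
    rw [hbot, le_bot_iff] at h2
    exact (Subgroup.map_eq_bot_iff_of_injective _ hg).mp h2

end Cfsg.Agent.Lib.Helper20.WrD
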