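import Mathlib
import Cfsg.Agent.S0093
import Cfsg.Agent.Lib.Helper1.PGroup
import Cfsg.Agent.Lib.Helper4.SympTI

/-!
Helper lemmas (helper20): a 2-group of symplectic type (every characteristic abelian subgroup cyclic)
and exponent dividing 4 has all commutators in `{1, z}` for its central involution `z`.
-/

set_option autoImplicit false
open scoped commutatorElement

namespace Cfsg.Agent.Lib.Helper20.SympFour

/-- centralizer of a characteristic subgroup is characteristic -/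
theorem centralizer_characteristic {Q : Type*} [Group Q] (H : Subgroup Q) [hH : H.Characteristic] :
    (Subgroup.centralizer (H : Set Q)).Characteristic := by
  rw [Subgroup.characteristic_iff_map_le]
  intro φ
  rintro _ ⟨x, hx, rfl⟩
  rw [SetLike.mem_coe] at hx
  rw [Subgroup.mem_centralizer_iff] at hx ⊢
  intro y hy
  have h1 : φ.symm y ∈ H := by
    have := (Subgroup.characteristic_iff_map_eq.mp hH) φ.symm
    rw [← this]; exact Subgroup.mem_map_of_mem _ hy
  have h2 := hx _ h1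
  have h3 := congrArg φ h2
  simpa using h3

/-- the structure lemma -/
theorem comm_eq {Q : Type*} [Group Q] [Finite Q] (h2 : IsPGroup 2 Q)
    (hchar : ∀ A : Subgroup Q, A.Characteristic → IsMulCommutative A → IsCyclic A)
    (h4 : ∀ q : Q, q ^ 4 = 1) (z : Q) (hz1 : z ≠ 1) (hzz : z * z = 1)
    (hzc : ∀ q : Q, q * z = z * q) :
    (∀ a b : Q, ⁅a, b⁆ = 1 ∨ ⁅a, b⁆ = z) ∧ (∀ q : Q, q * q = 1 ∨ q * q = z) := by
  haveI : Fact (Nat.Prime 2) := ⟨Nat.prime_two⟩
  obtain ⟨H, hHc, hΦ, hcomm, hcent⟩ := Cfsg.Agent.S0093.result h2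
  have := hHc
  have : (Subgroup.centralizer (H : Set Q)).Characteristic := centralizer_characteristic H
  set Z₁ : Subgroup Q := H ⊓ Subgroup.centralizer (H : Set Q) with hZ₁
  have hZ₁c : Z₁.Characteristic := inferInstance
  have hZ₁comm : IsMulCommutative Z₁ := ⟨⟨fun a b => Subtype.ext (by
    have := Subgroup.mem_centralizer_iff.mp a.2.2 b b.2.1
    exact this.symm)⟩⟩
  have : IsCyclic Z₁ := hchar Z₁ hZ₁c hZ₁comm
  have hzZ : z ∈ Z₁ := by
    have h1 : z ∈ Subgroup.centralizer (H : Set Q) := by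
      rw [Subgroup.mem_centralizer_iff]; intro y _; exact hzc y
    exact ⟨hcent h1, h1⟩
  have hinv : ∀ c ∈ Z₁, c * c = 1 → c = 1 ∨ c = z := by
    intro c hc hcc
    by_cases h1 : c = 1
    · left; exact h1
    · right
      have := Cfsg.Agent.Lib.Helper4.eq_of_sq_eq_one_of_isCyclic (A := Z₁) (x := ⟨c, hc⟩)
        (y := ⟨z, hzZ⟩) (by apply Subtype.ext; simp [pow_two, hcc])
        (by apply Subtype.ext; simp [pow_two, hzz])
        (fun h => h1 (congrArg Subtype.val h)) (fun h => hz1 (congrArg Subtype.val h))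
      exact congrArg Subtype.val this
  have hzcomm : ∀ t : Q, ⁅t, z⁆ = 1 := fun t => commutatorElement_eq_one_iff_mul_comm.mpr (hzc t)
  -- squares of `H`
  have hsqH : ∀ a ∈ H, a * a = 1 ∨ a * a = z := by
    intro a ha
    have h1 : (⟨a, ha⟩ : H) ^ 2 ∈ frattini H :=
      Cfsg.Agent.Lib.Helper1.IsPGroup.pow_mem_frattini (h2.to_subgroup H) _
    have h3 : a ^ 2 ∈ Subgroup.centralizer (H : Set Q) := hΦ ⟨_, h1, by simp⟩
    have h4' : a * a ∈ Z₁ := ⟨H.mul_mem ha ha, by rwa [pow_two] at h3⟩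
    apply hinv _ h4'
    calc a * a * (a * a) = a ^ 4 := by rw [show (4 : ℕ) = 2 + 2 from rfl, pow_add, pow_two]
      _ = 1 := h4 a
  -- commutators with `H`
  have hHQ : ∀ t : Q, ∀ a ∈ H, ⁅t, a⁆ = 1 ∨ ⁅t, a⁆ = z := by
    intro t a ha
    have h1 : ⁅a, t⁆ ∈ Z₁ := hcomm (Subgroup.commutator_mem_commutator ha (Subgroup.mem_top t))
    have h2' : ⁅t, a⁆ ∈ Z₁ := by rw [← commutatorElement_inv]; exact Z₁.inv_mem h1
    apply hinv _ h2'
    have hc : a * ⁅t, a⁆ = ⁅t, a⁆ * a := Subgroup.mem_centralizer_iff.mp h2'.2 a ha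
    have h3 : ⁅t, a * a⁆ = ⁅t, a⁆ * ⁅t, a⁆ := by
      have e1 : ⁅t, a * a⁆ = ⁅t, a⁆ * (a * ⁅t, a⁆) * a⁻¹ := by
        simp only [commutatorElement_def]; group
      rw [e1, hc]; group
    rw [← h3]
    rcases hsqH a ha with h | h
    · rw [h, commutatorElement_one_right]
    · rw [h]; exact hzcomm t
  -- the derived subgroup centralizes `H`
  have hN : ⁅H, (⊤ : Subgroup Q)⁆ ≤ Subgroup.center Q := by
    rw [Subgroup.commutator_le]
    intro a ha t _
    have : ⁅a, t⁆ = (⁅t, a⁆)⁻¹ := (commutatorElement_inv t a).symm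
    rw [this]
    apply Subgroup.inv_mem
    rcases hHQ t a ha with h | h
    · rw [h]; exact Subgroup.one_mem _
    · rw [h, Subgroup.mem_center_iff]; exact fun q => hzc q
  have hbot1 : ⁅⁅H, (⊤ : Subgroup Q)⁆, (⊤ : Subgroup Q)⁆ = ⊥ := by
    rw [Subgroup.commutator_eq_bot_iff_le_centralizer, Subgroup.coe_top,
      Subgroup.centralizer_univ]
    exact hN
  have hbot2 : ⁅⁅(⊤ : Subgroup Q), H⁆, (⊤ : Subgroup Q)⁆ = ⊥ := by
    rw [Subgroup.commutator_comm ⊤ H]; exact hbot1
  have hbot3 : ⁅⁅(⊤ : Subgroup Q), (⊤ : Subgroup Q)⁆, H⁆ = ⊥ :=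
    Subgroup.commutator_commutator_eq_bot_of_rotate hbot2 hbot1
  have hder : ∀ a b : Q, ⁅a, b⁆ ∈ Z₁ := by
    intro a b
    have h1 : ⁅a, b⁆ ∈ ⁅(⊤ : Subgroup Q), (⊤ : Subgroup Q)⁆ :=
      Subgroup.commutator_mem_commutator (Subgroup.mem_top a) (Subgroup.mem_top b)
    have h2' := (Subgroup.commutator_eq_bot_iff_le_centralizer.mp hbot3) h1
    exact ⟨hcent h2', h2'⟩
  -- squares
  have hsq : ∀ q : Q, q * q = 1 ∨ q * q = z := by
    intro q
    have h1 : q * q ∈ Subgroup.centralizer (H : Set Q) := by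
      rw [Subgroup.mem_centralizer_iff]
      intro a ha
      rcases hHQ q a ha with h | h
      · have hqa : q * a = a * q := commutatorElement_eq_one_iff_mul_comm.mp h
        calc a * (q * q) = (a * q) * q := by group
          _ = (q * a) * q := by rw [hqa]
          _ = q * (a * q) := by group
          _ = q * (q * a) := by rw [hqa]
          _ = q * q * a := by group
      · have hqa : q * a = z * a * q := by
          have : q * a = ⁅q, a⁆ * a * q := by rw [commutatorElement_def]; group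
          rw [this, h]
        have hqz : q * z = z * q := hzc q
        calc a * (q * q) = z * z * a * q * q := by rw [hzz]; group
          _ = z * (z * a * q) * q := by group
          _ = z * (q * a) * q := by rw [hqa]
          _ = (z * q) * (a * q) := by group
          _ = (q * z) * (a * q) := by rw [hqz]
          _ = q * (z * a * q) := by group
          _ = q * (q * a) := by rw [hqa]
          _ = q * q * a := by group
    have h2' : q * q ∈ Z₁ := ⟨hcent h1, h1⟩
    apply hinv _ h2'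
    calc q * q * (q * q) = q ^ 4 := by rw [show (4 : ℕ) = 2 + 2 from rfl, pow_add, pow_two]
      _ = 1 := h4 q
  have hsqc : ∀ q t : Q, ⁅q * q, t⁆ = 1 ∧ ⁅t, q * q⁆ = 1 := by
    intro q t
    rcases hsq q with h | h
    · rw [h]; exact ⟨commutatorElement_one_left t, commutatorElement_one_right t⟩
    · rw [h]
      exact ⟨commutatorElement_eq_one_iff_mul_comm.mpr (hzc t).symm, hzcomm t⟩
  have inv1 : ∀ x y : Q, x * ⁅x, y⁆ * x⁻¹ = (⁅x, y⁆)⁻¹ := by
    intro x y
    have e1 : ⁅x * x, y⁆ = x * ⁅x, y⁆ * x⁻¹ * ⁅x, y⁆ := by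
      simp only [commutatorElement_def]; group
    rw [(hsqc x y).1] at e1
    exact eq_inv_of_mul_eq_one_left e1.symm
  have inv2 : ∀ x y : Q, y * ⁅x, y⁆ * y⁻¹ = (⁅x, y⁆)⁻¹ := by
    intro x y
    have e1 : ⁅x, y * y⁆ = ⁅x, y⁆ * (y * ⁅x, y⁆ * y⁻¹) := by
      simp only [commutatorElement_def]; group
    rw [(hsqc y x).2] at e1
    exact (inv_eq_of_mul_eq_one_right e1.symm).symm
  refine ⟨?_, hsq⟩
  intro a b
  apply hinv _ (hder a b)
  set d := ⁅a, b⁆ with hd
  have e1 : ⁅a, a * b⁆ = a * d * a⁻¹ := by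
    rw [hd]; simp only [commutatorElement_def]; group
  have e2 : ⁅a, a * b⁆ = d⁻¹ := by rw [e1]; exact inv1 a b
  have e3 := inv2 a (a * b)
  rw [e2, inv_inv] at e3
  have e4 : a * b * d⁻¹ * (a * b)⁻¹ = a * (b * d * b⁻¹)⁻¹ * a⁻¹ := by group
  rw [e4, inv2 a b, inv_inv, inv1 a b] at e3
  -- e3 : d⁻¹ = d
  calc d * d = d * d⁻¹ := by rw [e3]
    _ = 1 := mul_inv_cancel d

end Cfsg.Agent.Lib.Helper20.SympFour
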