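import Mathlib
import Cfsg.Agent.Lib.Helper20.ESLargeConj

/-!
Helper lemmas (helper20): a 2-subgroup `Q` of `G` with `Q' ≤ {1, z}`, `C_G(Q) ≤ Q`, `Q ⊴ C_G(z)`,
whose only central involution is `z`; if `u = z^g ∈ Q`, `u ≠ z`, then `z ∈ Q^g` and `⟨Q, Q^g⟩`
induces the full symmetric group on `{z, u, zu}`.
-/

set_option autoImplicit false
open scoped commutatorElement

namespace Cfsg.Agent.Lib.Helper20.SympFour

open Cfsg.Agent.Lib.Helper4

/-- ambient elementwise data for a 2-subgroup `Q` with `Q' ≤ {1, z}` -/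
structure Amb4 {G : Type*} [Group G] (Q : Subgroup G) (z : G) : Prop where
  zQ : z ∈ Q
  z1 : z ≠ 1
  zz : z * z = 1
  zc : ∀ q ∈ Q, q * z = z * q
  comm : ∀ a ∈ Q, ∀ b ∈ Q, ⁅a, b⁆ = 1 ∨ ⁅a, b⁆ = z
  cen : ∀ x ∈ Q, (∀ q ∈ Q, x * q = q * x) → x * x = 1 → x = 1 ∨ x = z
  pgroup : IsPGroup 2 ↥Q

namespace Amb4

variable {G : Type*} [Group G] {Q : Subgroup G} {z : G}

theorem zinv (h : Amb4 Q z) : z⁻¹ = z := inv_eq_of_mul_eq_one_right h.zz

theorem alt (h : Amb4 Q z) (a : G) (ha : a ∈ Q) (b : G) (hb : b ∈ Q) :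
    a * b = b * a ∨ a * b = z * (b * a) := by
  rcases h.comm a ha b hb with h1 | h1
  · left; exact commutatorElement_eq_one_iff_mul_comm.mp h1
  · right
    have : a * b = ⁅a, b⁆ * (b * a) := by rw [commutatorElement_def]; group
    rw [this, h1]

theorem zc_inv (h : Amb4 Q z) (w : G) (hw : w ∈ Q) : w⁻¹ * z = z * w⁻¹ :=
  h.zc w⁻¹ (Q.inv_mem hw)

/-- conjugating by the inverse -/
theorem inv_conj (h : Amb4 Q z) (u : G) (w : G) (hw : w ∈ Q) (hwu : w * u = z * (u * w)) :
    w⁻¹ * u = z * (u * w⁻¹) := by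
  have e3 : u = z * (w⁻¹ * u * w) := by
    calc u = w⁻¹ * (w * u) := by group
      _ = w⁻¹ * (z * (u * w)) := by rw [hwu]
      _ = (w⁻¹ * z) * (u * w) := by group
      _ = (z * w⁻¹) * (u * w) := by rw [h.zc_inv w hw]
      _ = z * (w⁻¹ * u * w) := by group
  have e2 : w⁻¹ * u * w = z * u := by
    calc w⁻¹ * u * w = z * z * (w⁻¹ * u * w) := by rw [h.zz, one_mul]
      _ = z * (z * (w⁻¹ * u * w)) := by group
      _ = z * u := by rw [← e3]
  calc w⁻¹ * u = (w⁻¹ * u * w) * w⁻¹ := by group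
    _ = z * u * w⁻¹ := by rw [e2]
    _ = z * (u * w⁻¹) := by group

/-- if `w` does not commute with `u`, every element of `Q` commutes with `u` up to a factor `w` -/
theorem split (h : Amb4 Q z) (u : G) (hu : u ∈ Q) (w : G) (hw : w ∈ Q) (hwu : w * u = z * (u * w))
    (q : G) (hq : q ∈ Q) : q * u = u * q ∨ (w⁻¹ * q) * u = u * (w⁻¹ * q) := by
  rcases h.alt q hq u hu with h1 | h1
  · left; exact h1
  · right
    have h2 := h.inv_conj u w hw hwu
    calc (w⁻¹ * q) * u = w⁻¹ * (q * u) := by group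
      _ = w⁻¹ * (z * (u * q)) := by rw [h1]
      _ = (w⁻¹ * z) * (u * q) := by group
      _ = (z * w⁻¹) * (u * q) := by rw [h.zc_inv w hw]
      _ = z * ((w⁻¹ * u) * q) := by group
      _ = z * ((z * (u * w⁻¹)) * q) := by rw [h2]
      _ = (z * z) * (u * (w⁻¹ * q)) := by group
      _ = u * (w⁻¹ * q) := by rw [h.zz, one_mul]

/-- an element commuting with `C_Q(u)` and with `w` commutes with `Q` -/
theorem comm_all (h : Amb4 Q z) (u : G) (hu : u ∈ Q) (w : G) (hw : w ∈ Q)
    (hwu : w * u = z * (u * w)) (t : G) (htP : ∀ q ∈ Q, q * u = u * q → t * q = q * t)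
    (htw : t * w = w * t) : ∀ q ∈ Q, t * q = q * t := by
  intro q hq
  rcases h.split u hu w hw hwu q hq with h1 | h1
  · exact htP q hq h1
  · have h2 := htP (w⁻¹ * q) (Q.mul_mem (Q.inv_mem hw) hq) h1
    calc t * q = t * w * (w⁻¹ * q) := by group
      _ = w * t * (w⁻¹ * q) := by rw [htw]
      _ = w * (t * (w⁻¹ * q)) := by group
      _ = w * ((w⁻¹ * q) * t) := by rw [h2]
      _ = q * t := by group

/-- an involution normalizing `Q` and centralizing `C_Q(u)` lies in `{1, z, u, zu}` -/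
theorem mem_klein_of_centralizes (h : Amb4 Q z)
    (hL2 : ∀ x : G, (∀ q ∈ Q, x * q = q * x) → x ∈ Q)
    (u : G) (hu : u ∈ Q) (huu : u * u = 1) (w : G) (hw : w ∈ Q) (hwu : w * u = z * (u * w))
    (x : G) (hxN : x ∈ Subgroup.normalizer (Q : Set G)) (hxx : x * x = 1)
    (hxP : ∀ q ∈ Q, q * u = u * q → x * q = q * x) :
    x = 1 ∨ x = z ∨ x = u ∨ x = z * u := by
  have hxinv : x⁻¹ = x := inv_eq_of_mul_eq_one_right hxx
  have huinv : u⁻¹ = u := inv_eq_of_mul_eq_one_right huu
  have hzu : u * z = z * u := h.zc u hu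
  have hzw : w * z = z * w := h.zc w hw
  have hw'Q : x * w * x⁻¹ ∈ Q := (Subgroup.mem_normalizer_iff.mp hxN w).mp hw
  set w' := x * w * x⁻¹ with hw'
  set t := w⁻¹ * w' with ht
  have htQ : t ∈ Q := Q.mul_mem (Q.inv_mem hw) hw'Q
  -- `t` centralizes `C_Q(u)`
  have htP : ∀ c ∈ Q, c * u = u * c → t * c = c * t := by
    intro c hc hcu
    have hwcQ : w * c * w⁻¹ ∈ Q := Q.mul_mem (Q.mul_mem hw hc) (Q.inv_mem hw)
    have hwcu : (w * c * w⁻¹) * u = u * (w * c * w⁻¹) := by
      rcases h.alt w hw c hc with h1 | h1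
      · have : w * c * w⁻¹ = c := by rw [h1]; group
        rw [this]; exact hcu
      · have : w * c * w⁻¹ = z * c := by rw [h1]; group
        rw [this]
        calc z * c * u = z * (c * u) := by group
          _ = z * (u * c) := by rw [hcu]
          _ = (z * u) * c := by group
          _ = (u * z) * c := by rw [hzu]
          _ = u * (z * c) := by group
    have h1 := hxP _ hwcQ hwcu
    have h2 := hxP c hc hcu
    have h3 : w' * c * w'⁻¹ = w * c * w⁻¹ := by
      have e1 : w' * c * w'⁻¹ = x * (w * (x⁻¹ * c * x) * w⁻¹) * x⁻¹ := by rw [hw']; group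
      have e2 : x⁻¹ * c * x = c := by
        calc x⁻¹ * c * x = x⁻¹ * (c * x) := by group
          _ = x⁻¹ * (x * c) := by rw [h2]
          _ = c := by group
      rw [e1, e2]
      calc x * (w * c * w⁻¹) * x⁻¹ = (w * c * w⁻¹) * x * x⁻¹ := by rw [h1]
        _ = w * c * w⁻¹ := by group
    calc t * c = w⁻¹ * (w' * c * w'⁻¹) * w' := by rw [ht]; group
      _ = w⁻¹ * (w * c * w⁻¹) * w' := by rw [h3]
      _ = c * t := by rw [ht]; group
  have htu : t * u = u * t := htP u hu rfl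
  have hxt : x * t = t * x := hxP t htQ htu
  -- `t * t = 1`
  have hw't : w' = w * t := by rw [ht]; group
  have htt : t * t = 1 := by
    have e1 : x * w' * x⁻¹ = w := by
      rw [hw']
      calc x * (x * w * x⁻¹) * x⁻¹ = (x * x) * w * (x⁻¹ * x⁻¹) := by group
        _ = w := by rw [hxx, hxinv, hxx]; group
    have e2 : x * w' * x⁻¹ = w * t * t := by
      calc x * w' * x⁻¹ = x * (w * t) * x⁻¹ := by rw [← hw't]
        _ = (x * w * x⁻¹) * (x * t) * x⁻¹ := by group
        _ = w' * (t * x) * x⁻¹ := by rw [hxt]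
        _ = w' * t := by group
        _ = w * t * t := by rw [hw't]
    have e3 : w = w * (t * t) := by rw [← mul_assoc, ← e2, e1]
    exact (mul_eq_left.mp e3.symm)
  have htinv : t⁻¹ = t := inv_eq_of_mul_eq_one_right htt
  -- `t` commutes with `w`
  have hwwu : (w * w) * u = u * (w * w) := by
    calc w * w * u = w * (w * u) := by group
      _ = w * (z * (u * w)) := by rw [hwu]
      _ = (w * z) * u * w := by group
      _ = (z * w) * u * w := by rw [hzw]
      _ = z * (w * u) * w := by group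
      _ = z * (z * (u * w)) * w := by rw [hwu]
      _ = (z * z) * (u * (w * w)) := by group
      _ = u * (w * w) := by rw [h.zz, one_mul]
  have htw : t * w = w * t := by
    have e1 := hxP (w * w) (Q.mul_mem hw hw) hwwu
    have e2 : w' * w' = w * w := by
      calc w' * w' = x * (w * w) * x⁻¹ := by rw [hw']; group
        _ = (w * w) * x * x⁻¹ := by rw [e1]
        _ = w * w := by group
    rw [hw't] at e2
    have e3 : t * w * t = w := by
      have : w * (t * w * t) = w * w := by rw [← e2]; group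
      exact mul_left_cancel this
    calc t * w = (t * w * t) * t⁻¹ := by group
      _ = w * t := by rw [e3, htinv]
  have htall := h.comm_all u hu w hw hwu t htP htw
  rcases h.cen t htQ htall htt with ht1 | htz
  · -- `x` centralizes `Q`
    have hxw : x * w = w * x := by
      have : w' = w := by rw [hw't, ht1, mul_one]
      calc x * w = (x * w * x⁻¹) * x := by group
        _ = w * x := by rw [← hw', this]
    have hxall := h.comm_all u hu w hw hwu x hxP hxw
    have hxQ := hL2 x hxall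
    rcases h.cen x hxQ hxall hxx with h1 | h1
    · left; exact h1
    · right; left; exact h1
  · -- `u * x` centralizes `Q`
    have hxw : x * w = w * z * x := by
      have : w' = w * z := by rw [hw't, htz]
      calc x * w = (x * w * x⁻¹) * x := by group
        _ = w * z * x := by rw [← hw', this]
    set y := u * x with hy
    have hyP : ∀ q ∈ Q, q * u = u * q → y * q = q * y := by
      intro q hq hqu
      have := hxP q hq hqu
      calc y * q = u * (x * q) := by rw [hy]; group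
        _ = u * (q * x) := by rw [this]
        _ = (u * q) * x := by group
        _ = (q * u) * x := by rw [hqu]
        _ = q * y := by rw [hy]; group
    have hyw : y * w = w * y := by
      calc y * w = u * (x * w) := by rw [hy]; group
        _ = u * (w * z * x) := by rw [hxw]
        _ = u * (w * z) * x := by group
        _ = u * (z * w) * x := by rw [hzw]
        _ = (u * z) * w * x := by group
        _ = (z * u) * w * x := by rw [hzu]
        _ = (z * (u * w)) * x := by group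
        _ = (w * u) * x := by rw [hwu]
        _ = w * y := by rw [hy]; group
    have hyall := h.comm_all u hu w hw hwu y hyP hyw
    have hyQ := hL2 y hyall
    have hxu : x * u = u * x := hxP u hu rfl
    have hyy : y * y = 1 := by
      calc y * y = u * (x * u) * x := by rw [hy]; group
        _ = u * (u * x) * x := by rw [hxu]
        _ = (u * u) * (x * x) := by group
        _ = 1 := by rw [huu, hxx, one_mul]
    have hxy : x = u * y := by
      rw [hy, ← mul_assoc, huu, one_mul]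
    rcases h.cen y hyQ hyall hyy with h1 | h1
    · right; right; left
      rw [hxy, h1, mul_one]
    · right; right; right
      rw [hxy, h1, hzu]

end Amb4

open Cfsg.Agent.Lib.Helper20.ES in
/-- the two transpositions produced by the Sylow argument -/
theorem exists_transpositions {G : Type*} [Group G] [Finite G] (Q : Subgroup G) (z : G)
    (hA : Amb4 Q z)
    (hL2 : ∀ x : G, (∀ q ∈ Q, x * q = q * x) → x ∈ Q)
    (hL3 : ∀ x : G, x * z = z * x → x ∈ Subgroup.normalizer (Q : Set G))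
    (g : G) (hu : g * z * g⁻¹ ∈ Q) (huz : g * z * g⁻¹ ≠ z) :
    ∃ m n : G,
      m * z * m⁻¹ = z ∧ m * (g * z * g⁻¹) * m⁻¹ = z * (g * z * g⁻¹) ∧
      n * (g * z * g⁻¹) * n⁻¹ = g * z * g⁻¹ ∧ n * z * n⁻¹ = z * (g * z * g⁻¹) := by
  haveI : Fact (Nat.Prime 2) := ⟨Nat.prime_two⟩
  set u : G := g * z * g⁻¹ with hu_def
  have hu1 : u ≠ 1 := fun h => hA.z1 (conj_eq_one_iff.mp h)
  have huu : u * u = 1 := by
    rw [hu_def]
    have : g * z * g⁻¹ * (g * z * g⁻¹) = g * (z * z) * g⁻¹ := by group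
    rw [this, hA.zz]; group
  have hzu : z * u = u * z := (hA.zc u hu).symm
  -- `u` is not central in `Q`
  obtain ⟨w, hw, hwu⟩ : ∃ w ∈ Q, w * u = z * (u * w) := by
    by_contra hcon
    push Not at hcon
    have hall : ∀ q ∈ Q, u * q = q * u := by
      intro q hq
      rcases hA.alt q hq u hu with h | h
      · exact h.symm
      · exact absurd h (hcon q hq)
    rcases hA.cen u hu hall huu with h | h
    · exact hu1 h
    · exact huz h
  set T := kleinOf z u hA.zz huu hzu with hT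
  have hzT : z ∈ T := mem_kleinOf.mpr (Or.inr (Or.inl rfl))
  have huT : u ∈ T := mem_kleinOf.mpr (Or.inr (Or.inr (Or.inl rfl)))
  have hTQ : T ≤ Q := by
    intro x hx
    rcases mem_kleinOf.mp hx with rfl | rfl | rfl | rfl
    · exact Q.one_mem
    · exact hA.zQ
    · exact hu
    · exact Q.mul_mem hA.zQ hu
  set C := Subgroup.centralizer (T : Set G) with hC
  have hCmem : ∀ x : G, x ∈ C ↔ x * z = z * x ∧ x * u = u * x := by
    intro x
    constructor
    · intro hx
      exact ⟨(Subgroup.mem_centralizer_iff.mp hx z hzT).symm,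
        (Subgroup.mem_centralizer_iff.mp hx u huT).symm⟩
    · rintro ⟨h1, h2⟩
      rw [hC, Subgroup.mem_centralizer_iff]
      intro y hy
      exact (commute_kleinOf hy h1 h2).symm
  set P := Q ⊓ Subgroup.centralizer ({u} : Set G) with hP
  have hPmem : ∀ x : G, x ∈ P ↔ x ∈ Q ∧ x * u = u * x := by
    intro x
    rw [hP, Subgroup.mem_inf, Subgroup.mem_centralizer_iff]
    constructor
    · rintro ⟨h1, h2⟩
      exact ⟨h1, (h2 u rfl).symm⟩
    · rintro ⟨h1, h2⟩
      refine ⟨h1, ?_⟩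
      intro y hy
      rw [Set.mem_singleton_iff] at hy
      rw [hy]; exact h2.symm
  have hPC : P ≤ C := by
    intro x hx
    obtain ⟨h1, h2⟩ := (hPmem x).mp hx
    exact (hCmem x).mpr ⟨hA.zc x h1, h2⟩
  have hPQ : P ≤ Q := inf_le_left
  have hQ2 : IsPGroup 2 ↥Q := hA.pgroup
  have hP2 : IsPGroup 2 ↥P := hQ2.to_le hPQ
  obtain ⟨S₁, hPS, hSC, hS2, hSmax⟩ := exists_max_pgroup_in 2 C P hP2 hPC
  have hTP : T ≤ P := by
    intro x hx
    rw [hPmem]
    refine ⟨hTQ hx, ?_⟩
    rcases mem_kleinOf.mp hx with rfl | rfl | rfl | rfl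
    · simp
    · exact hzu
    · rfl
    · rw [← mul_assoc u z u, ← hzu]
  have hTS : T ≤ S₁ := hTP.trans hPS
  -- central involutions of `S₁`
  have hcen : ∀ x ∈ S₁, (∀ y ∈ S₁, x * y = y * x) → x * x = 1 → x ∈ T := by
    intro x hx hxy hxx
    have hxC := (hCmem x).mp (hSC hx)
    have hxN := hL3 x hxC.1
    have hxP : ∀ q ∈ Q, q * u = u * q → x * q = q * x := by
      intro q hq hqu
      exact hxy q (hPS ((hPmem q).mpr ⟨hq, hqu⟩))
    rcases hA.mem_klein_of_centralizes hL2 u hu huu w hw hwu x hxN hxx hxP with h | h | h | h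
    · rw [h]; exact T.one_mem
    · rw [h]; exact hzT
    · rw [h]; exact huT
    · rw [h]; exact T.mul_mem hzT huT
  have hTsq : ∀ v ∈ T, v * v = 1 := by
    intro v hv
    rcases mem_kleinOf.mp hv with rfl | rfl | rfl | rfl
    · simp
    · exact hA.zz
    · exact huu
    · calc z * u * (z * u) = z * (u * z) * u := by group
        _ = z * (z * u) * u := by rw [← hzu]
        _ = (z * z) * (u * u) := by group
        _ = 1 := by rw [hA.zz, huu, one_mul]
  have hNS : ∀ m ∈ Subgroup.normalizer (S₁ : Set G), m ∈ Subgroup.normalizer (T : Set G) := by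
    intro m hm
    apply Subgroup.mem_normalizer_fintype
    intro v hv
    apply hcen
    · exact (Subgroup.mem_normalizer_iff.mp hm v).mp (hTS hv)
    · intro y hy
      have hy' : m⁻¹ * y * m ∈ S₁ := by
        have := (Subgroup.mem_normalizer_iff.mp (Subgroup.inv_mem _ hm) y).mp hy
        simpa using this
      have hvy := Subgroup.mem_centralizer_iff.mp (hSC hy') v hv
      calc m * v * m⁻¹ * y = m * (v * (m⁻¹ * y * m)) * m⁻¹ := by group
        _ = m * ((m⁻¹ * y * m) * v) * m⁻¹ := by rw [hvy]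
        _ = y * (m * v * m⁻¹) := by group
    · calc m * v * m⁻¹ * (m * v * m⁻¹) = m * (v * v) * m⁻¹ := by group
        _ = 1 := by rw [hTsq v hv]; group
  have hconjT : ∀ m ∈ Subgroup.normalizer (T : Set G), ∀ v ∈ T, m * v * m⁻¹ ∈ T := fun m hm v hv =>
    (Subgroup.mem_normalizer_iff.mp hm v).mp hv
  have hstep : ∀ Q₁ : Subgroup G, IsPGroup 2 ↥Q₁ → S₁ ≤ Subgroup.normalizer (Q₁ : Set G) →
      ¬ Q₁ ≤ S₁ → ∃ m ∈ S₁ ⊔ Q₁, m ∈ Subgroup.normalizer (S₁ : Set G) ∧ m ∉ C := by
    intro Q₁ hQ₁ hSN hnle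
    have hR2 : IsPGroup 2 ↥(S₁ ⊔ Q₁ : Subgroup G) := IsPGroup.to_sup_of_normal_right' hS2 hQ₁ hSN
    have hne : S₁ ≠ S₁ ⊔ Q₁ := by
      intro h
      apply hnle
      rw [h]
      exact le_sup_right
    obtain ⟨m, hmR, hmN, hmS⟩ := exists_normalizing_of_ne (S₁ ⊔ Q₁) S₁ hR2 le_sup_left hne
    refine ⟨m, hmR, hmN, ?_⟩
    intro hmC
    apply hmS
    have hle : S₁ ⊔ Subgroup.zpowers m ≤ S₁ ⊔ Q₁ :=
      sup_le le_sup_left (by rw [Subgroup.zpowers_le]; exact hmR)
    have h1 := hSmax (S₁ ⊔ Subgroup.zpowers m) (hR2.to_le hle) le_sup_left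
      (sup_le hSC (by rw [Subgroup.zpowers_le]; exact hmC))
    rw [← h1]
    exact Subgroup.mem_sup_right (Subgroup.mem_zpowers m)
  -- the element `m`
  have hSNQ : S₁ ≤ Subgroup.normalizer (Q : Set G) := fun x hx => hL3 x ((hCmem x).mp (hSC hx)).1
  have hQS : ¬ Q ≤ S₁ := by
    intro h
    have h1 := ((hCmem w).mp (hSC (h hw))).2
    rw [h1] at hwu
    have h2 : z = 1 := by
      have : 1 * (u * w) = z * (u * w) := by rw [one_mul]; exact hwu
      exact (mul_right_cancel this).symm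
    exact hA.z1 h2
  obtain ⟨m, hmR, hmN, hmC⟩ := hstep Q hQ2 hSNQ hQS
  have hmz : m * z = z * m := by
    have hle : S₁ ⊔ Q ≤ Subgroup.centralizer ({z} : Set G) := by
      apply sup_le
      · intro x hx
        rw [Subgroup.mem_centralizer_iff]
        intro y hy
        rw [Set.mem_singleton_iff] at hy
        rw [hy]
        exact ((hCmem x).mp (hSC hx)).1.symm
      · intro x hx
        rw [Subgroup.mem_centralizer_iff]
        intro y hy
        rw [Set.mem_singleton_iff] at hy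
        rw [hy]
        exact (hA.zc x hx).symm
    exact (Subgroup.mem_centralizer_iff.mp (hle hmR) z rfl).symm
  have hmT := hNS m hmN
  have hmz' : m * z * m⁻¹ = z := by rw [hmz, mul_inv_cancel_right]
  have hmu : m * u * m⁻¹ = z * u := by
    rcases mem_kleinOf.mp (hconjT m hmT u huT) with h | h | h | h
    · exact absurd (conj_eq_one_iff.mp h) hu1
    · exfalso
      apply huz
      have : m * u * m⁻¹ = m * z * m⁻¹ := h.trans hmz'.symm
      exact mul_left_cancel (mul_right_cancel this)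
    · exfalso
      apply hmC
      rw [hCmem]
      exact ⟨hmz, mul_inv_eq_iff_eq_mul.mp h⟩
    · exact h
  -- the element `n`
  set Q' := Q.map (MulAut.conj g).toMonoidHom with hQ'
  have hQ'mem : ∀ y : G, y ∈ Q' ↔ ∃ q ∈ Q, g * q * g⁻¹ = y := by
    intro y
    rw [hQ', Subgroup.mem_map]
    rfl
  have hQ'2 : IsPGroup 2 ↥Q' := hQ2.map _
  have hnormQ' : ∀ x : G, x * u = u * x → x ∈ Subgroup.normalizer (Q' : Set G) := by
    intro x hxu
    have h1 : (g⁻¹ * x * g) * z = z * (g⁻¹ * x * g) := by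
      calc (g⁻¹ * x * g) * z = g⁻¹ * (x * (g * z * g⁻¹)) * g := by group
        _ = g⁻¹ * ((g * z * g⁻¹) * x) * g := by rw [← hu_def, hxu]
        _ = z * (g⁻¹ * x * g) := by group
    have h2 := hL3 _ h1
    apply Subgroup.mem_normalizer_fintype
    intro y hy
    obtain ⟨q, hq, rfl⟩ := (hQ'mem y).mp hy
    have h3 := (Subgroup.mem_normalizer_iff.mp h2 q).mp hq
    rw [SetLike.mem_coe, hQ'mem]
    refine ⟨_, h3, ?_⟩
    group
  have hSNQ' : S₁ ≤ Subgroup.normalizer (Q' : Set G) :=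
    fun x hx => hnormQ' x ((hCmem x).mp (hSC hx)).2
  have hQ'S : ¬ Q' ≤ S₁ := by
    intro h
    have h1 : ∀ q ∈ Q, (g⁻¹ * z * g) * q = q * (g⁻¹ * z * g) := by
      intro q hq
      have h2 := ((hCmem _).mp (hSC (h ((hQ'mem _).mpr ⟨q, hq, rfl⟩)))).1
      calc (g⁻¹ * z * g) * q = g⁻¹ * (z * (g * q * g⁻¹)) * g := by group
        _ = g⁻¹ * ((g * q * g⁻¹) * z) * g := by rw [h2]
        _ = q * (g⁻¹ * z * g) := by group
    have h3 : (g⁻¹ * z * g) * (g⁻¹ * z * g) = 1 := by
      calc (g⁻¹ * z * g) * (g⁻¹ * z * g) = g⁻¹ * (z * z) * g := by group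
        _ = 1 := by rw [hA.zz]; group
    rcases hA.cen _ (hL2 _ h1) h1 h3 with h4 | h4
    · apply hA.z1
      have : g⁻¹ * z * g = g⁻¹ * 1 * g := by rw [h4]; group
      exact mul_left_cancel (mul_right_cancel this)
    · apply huz
      rw [hu_def]
      have : g * (g⁻¹ * z * g) * g⁻¹ = g * z * g⁻¹ := by rw [h4]
      rw [← this]; group
  obtain ⟨n, hnR, hnN, hnC⟩ := hstep Q' hQ'2 hSNQ' hQ'S
  have hnu : n * u = u * n := by
    have hle : S₁ ⊔ Q' ≤ Subgroup.centralizer ({u} : Set G) := by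
      apply sup_le
      · intro x hx
        rw [Subgroup.mem_centralizer_iff]
        intro y hy
        rw [Set.mem_singleton_iff] at hy
        rw [hy]
        exact ((hCmem x).mp (hSC hx)).2.symm
      · intro x hx
        obtain ⟨q, hq, rfl⟩ := (hQ'mem x).mp hx
        rw [Subgroup.mem_centralizer_iff]
        intro y hy
        rw [Set.mem_singleton_iff] at hy
        rw [hy, hu_def]
        have := hA.zc q hq
        calc g * z * g⁻¹ * (g * q * g⁻¹) = g * (z * q) * g⁻¹ := by group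
          _ = g * (q * z) * g⁻¹ := by rw [this]
          _ = g * q * g⁻¹ * (g * z * g⁻¹) := by group
    exact (Subgroup.mem_centralizer_iff.mp (hle hnR) u rfl).symm
  have hnT := hNS n hnN
  have hnu' : n * u * n⁻¹ = u := by rw [hnu, mul_inv_cancel_right]
  have hnz : n * z * n⁻¹ = z * u := by
    rcases mem_kleinOf.mp (hconjT n hnT z hzT) with h | h | h | h
    · exact absurd (conj_eq_one_iff.mp h) hA.z1
    · exfalso
      apply hnC
      rw [hCmem]
      exact ⟨mul_inv_eq_iff_eq_mul.mp h, hnu⟩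
    · exfalso
      apply huz
      have : n * u * n⁻¹ = n * z * n⁻¹ := hnu'.trans h.symm
      exact mul_left_cancel (mul_right_cancel this)
    · exact h
  exact ⟨m, n, hmz', hmu, hnu', hnz⟩


/-- the main theorem in ambient form -/
theorem main {G : Type*} [Group G] [Finite G] (Q : Subgroup G) (z : G)
    (hA : Amb4 Q z)
    (hL2 : ∀ x : G, (∀ q ∈ Q, x * q = q * x) → x ∈ Q)
    (hL3 : ∀ x : G, x * z = z * x → x ∈ Subgroup.normalizer (Q : Set G))
    (g : G) (hu : g * z * g⁻¹ ∈ Q) (huz : g * z * g⁻¹ ≠ z) :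
    z ∈ Q.map (MulAut.conj g).toMonoidHom ∧
      ∀ a ∈ Subgroup.closure ({z, g * z * g⁻¹} : Set G),
        ∀ b ∈ Subgroup.closure ({z, g * z * g⁻¹} : Set G),
        a ≠ 1 → b ≠ 1 → a ≠ b →
          ∃ x ∈ Q ⊔ Q.map (MulAut.conj g).toMonoidHom,
            x * z * x⁻¹ = a ∧ x * (g * z * g⁻¹) * x⁻¹ = b := by
  obtain ⟨m, n, hmz, hmu, hnu, hnz⟩ := exists_transpositions Q z hA hL2 hL3 g hu huz
  set u : G := g * z * g⁻¹ with hu_def
  have hu1 : u ≠ 1 := fun h => hA.z1 (conj_eq_one_iff.mp h)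
  have huu : u * u = 1 := by
    rw [hu_def]
    have : g * z * g⁻¹ * (g * z * g⁻¹) = g * (z * z) * g⁻¹ := by group
    rw [this, hA.zz]; group
  have hzu : z * u = u * z := (hA.zc u hu).symm
  -- part (1)
  have hzQ' : z ∈ Q.map (MulAut.conj g).toMonoidHom := by
    have hk : (m * n) * z * (m * n)⁻¹ = u := by
      have h1 : (m * n) * z * (m * n)⁻¹ = m * (n * z * n⁻¹) * m⁻¹ := by group
      have h2 : m * (z * u) * m⁻¹ = (m * z * m⁻¹) * (m * u * m⁻¹) := by group
      rw [h1, hnz, h2, hmz, hmu, ← mul_assoc, hA.zz, one_mul]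
    have hkc : (g⁻¹ * (m * n)) * z = z * (g⁻¹ * (m * n)) := by
      have h1 : (m * n) * z = u * (m * n) := by
        rw [← hk]; group
      calc (g⁻¹ * (m * n)) * z = g⁻¹ * ((m * n) * z) := by group
        _ = g⁻¹ * (u * (m * n)) := by rw [h1]
        _ = z * (g⁻¹ * (m * n)) := by rw [hu_def]; group
    have hkN := hL3 _ hkc
    have hk' : (m * n)⁻¹ * z * (m * n) = z * u := by
      have h1 : n⁻¹ * z * n = z * u := by
        have h2 : n * (z * u) * n⁻¹ = (n * z * n⁻¹) * (n * u * n⁻¹) := by group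
        have h3 : n * (z * u) * n⁻¹ = z := by
          rw [h2, hnz, hnu, mul_assoc, huu, mul_one]
        calc n⁻¹ * z * n = n⁻¹ * (n * (z * u) * n⁻¹) * n := by rw [h3]
          _ = z * u := by group
      have h4 : m⁻¹ * z * m = z := by
        calc m⁻¹ * z * m = m⁻¹ * (m * z * m⁻¹) * m := by rw [hmz]
          _ = z := by group
      calc (m * n)⁻¹ * z * (m * n) = n⁻¹ * (m⁻¹ * z * m) * n := by group
        _ = n⁻¹ * z * n := by rw [h4]
        _ = z * u := h1
    have hq : g⁻¹ * z * g ∈ Q := by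
      have h1 : z * u ∈ Q := Q.mul_mem hA.zQ hu
      have h2 := (Subgroup.mem_normalizer_iff.mp hkN (z * u)).mp h1
      have h3 : g⁻¹ * (m * n) * (z * u) * (g⁻¹ * (m * n))⁻¹ = g⁻¹ * z * g := by
        rw [← hk']; group
      rwa [h3] at h2
    exact ⟨g⁻¹ * z * g, hq, by rw [MulEquiv.coe_toMonoidHom, MulAut.conj_apply]; group⟩
  refine ⟨hzQ', ?_⟩
  -- the transposition `w ∈ Q`
  obtain ⟨w, hw, hwu⟩ : ∃ w ∈ Q, w * u = z * (u * w) := by
    by_contra hcon
    push Not at hcon
    have hall : ∀ q ∈ Q, u * q = q * u := by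
      intro q hq
      rcases hA.alt q hq u hu with h | h
      · exact h.symm
      · exact absurd h (hcon q hq)
    rcases hA.cen u hu hall huu with h | h
    · exact hu1 h
    · exact huz h
  have hwz : w * z * w⁻¹ = z := by rw [hA.zc w hw, mul_inv_cancel_right]
  have hwu' : w * u * w⁻¹ = z * u := by rw [hwu]; group
  -- the transposition `w' ∈ Q^g`
  obtain ⟨q₀, hq₀, hq₀z⟩ := hzQ'
  rw [MulEquiv.coe_toMonoidHom, MulAut.conj_apply] at hq₀z
  have hq₀1 : q₀ ≠ 1 := by
    intro h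
    rw [h] at hq₀z
    apply hA.z1
    rw [← hq₀z]; group
  have hq₀z' : q₀ ≠ z := by
    intro h
    rw [h] at hq₀z
    exact huz hq₀z
  have hq₀q₀ : q₀ * q₀ = 1 := by
    have e1 : q₀ = g⁻¹ * z * g := by rw [← hq₀z]; group
    rw [e1]
    calc g⁻¹ * z * g * (g⁻¹ * z * g) = g⁻¹ * (z * z) * g := by group
      _ = 1 := by rw [hA.zz]; group
  obtain ⟨s, hs, hsq⟩ : ∃ s ∈ Q, s * q₀ = z * (q₀ * s) := by
    by_contra hcon
    push Not at hcon
    have hall : ∀ q ∈ Q, q₀ * q = q * q₀ := by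
      intro q hq
      rcases hA.alt q hq q₀ hq₀ with h | h
      · exact h.symm
      · exact absurd h (hcon q hq)
    rcases hA.cen q₀ hq₀ hall hq₀q₀ with h | h
    · exact hq₀1 h
    · exact hq₀z' h
  set w' := g * s * g⁻¹ with hw'
  have hw'Q : w' ∈ Q.map (MulAut.conj g).toMonoidHom :=
    ⟨s, hs, by rw [MulEquiv.coe_toMonoidHom, MulAut.conj_apply]⟩
  have hw'u : w' * u * w'⁻¹ = u := by
    have := hA.zc s hs
    calc w' * u * w'⁻¹ = g * (s * z) * s⁻¹ * g⁻¹ := by rw [hw', hu_def]; group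
      _ = g * (z * s) * s⁻¹ * g⁻¹ := by rw [this]
      _ = u := by rw [hu_def]; group
  have hw'z : w' * z * w'⁻¹ = z * u := by
    calc w' * z * w'⁻¹ = g * (s * q₀) * s⁻¹ * g⁻¹ := by rw [hw', ← hq₀z]; group
      _ = g * (z * (q₀ * s)) * s⁻¹ * g⁻¹ := by rw [hsq]
      _ = (g * z * g⁻¹) * (g * q₀ * g⁻¹) := by group
      _ = u * z := by rw [hq₀z]
      _ = z * u := hzu.symm
  have hwQ : w ∈ Q ⊔ Q.map (MulAut.conj g).toMonoidHom := Subgroup.mem_sup_left hw
  have hw'Q' : w' ∈ Q ⊔ Q.map (MulAut.conj g).toMonoidHom := Subgroup.mem_sup_right hw'Q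
  -- conjugation of products
  have conj_mul : ∀ x a b : G, x * (a * b) * x⁻¹ = (x * a * x⁻¹) * (x * b * x⁻¹) := by
    intro x a b; group
  have hw'zu : w' * (z * u) * w'⁻¹ = z := by
    rw [conj_mul, hw'z, hw'u, mul_assoc, huu, mul_one]
  have hwzu : w * (z * u) * w⁻¹ = u := by
    rw [conj_mul, hwz, hwu', ← mul_assoc, hA.zz, one_mul]
  have hw'inv_z : w'⁻¹ * z * w' = z * u := by
    calc w'⁻¹ * z * w' = w'⁻¹ * (w' * (z * u) * w'⁻¹) * w' := by rw [hw'zu]
      _ = z * u := by group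
  have hw'inv_u : w'⁻¹ * u * w' = u := by
    calc w'⁻¹ * u * w' = w'⁻¹ * (w' * u * w'⁻¹) * w' := by rw [hw'u]
      _ = u := by group
  -- the closure is the four-group
  have hcl : ∀ a ∈ Subgroup.closure ({z, u} : Set G), a = 1 ∨ a = z ∨ a = u ∨ a = z * u := by
    intro a ha
    have hle : Subgroup.closure ({z, u} : Set G) ≤ kleinOf z u hA.zz huu hzu := by
      rw [Subgroup.closure_le]
      intro y hy
      rcases hy with rfl | hy
      · exact mem_kleinOf.mpr (Or.inr (Or.inl rfl))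
      · rw [Set.mem_singleton_iff] at hy
        rw [hy]; exact mem_kleinOf.mpr (Or.inr (Or.inr (Or.inl rfl)))
    exact mem_kleinOf.mp (hle ha)
  intro a ha b hb ha1 hb1 hab
  have case_zu : ∃ x ∈ Q ⊔ Q.map (MulAut.conj g).toMonoidHom, x * z * x⁻¹ = z ∧ x * u * x⁻¹ = u :=
    ⟨1, Subgroup.one_mem _, by group, by group⟩
  have case_z_zu : ∃ x ∈ Q ⊔ Q.map (MulAut.conj g).toMonoidHom,
      x * z * x⁻¹ = z ∧ x * u * x⁻¹ = z * u := ⟨w, hwQ, hwz, hwu'⟩
  have case_zu_u : ∃ x ∈ Q ⊔ Q.map (MulAut.conj g).toMonoidHom,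
      x * z * x⁻¹ = z * u ∧ x * u * x⁻¹ = u := ⟨w', hw'Q', hw'z, hw'u⟩
  have case_u_z : ∃ x ∈ Q ⊔ Q.map (MulAut.conj g).toMonoidHom,
      x * z * x⁻¹ = u ∧ x * u * x⁻¹ = z := by
    refine ⟨w' * w * w'⁻¹, Subgroup.mul_mem _ (Subgroup.mul_mem _ hw'Q' hwQ)
      (Subgroup.inv_mem _ hw'Q'), ?_, ?_⟩
    · calc w' * w * w'⁻¹ * z * (w' * w * w'⁻¹)⁻¹
          = w' * (w * (w'⁻¹ * z * w') * w⁻¹) * w'⁻¹ := by group
        _ = w' * (w * (z * u) * w⁻¹) * w'⁻¹ := by rw [hw'inv_z]
        _ = w' * u * w'⁻¹ := by rw [hwzu]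
        _ = u := hw'u
    · calc w' * w * w'⁻¹ * u * (w' * w * w'⁻¹)⁻¹
          = w' * (w * (w'⁻¹ * u * w') * w⁻¹) * w'⁻¹ := by group
        _ = w' * (w * u * w⁻¹) * w'⁻¹ := by rw [hw'inv_u]
        _ = w' * (z * u) * w'⁻¹ := by rw [hwu']
        _ = z := hw'zu
  have case_u_zu : ∃ x ∈ Q ⊔ Q.map (MulAut.conj g).toMonoidHom,
      x * z * x⁻¹ = u ∧ x * u * x⁻¹ = z * u := by
    refine ⟨w * w', Subgroup.mul_mem _ hwQ hw'Q', ?_, ?_⟩
    · calc w * w' * z * (w * w')⁻¹ = w * (w' * z * w'⁻¹) * w⁻¹ := by group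
        _ = w * (z * u) * w⁻¹ := by rw [hw'z]
        _ = u := hwzu
    · calc w * w' * u * (w * w')⁻¹ = w * (w' * u * w'⁻¹) * w⁻¹ := by group
        _ = w * u * w⁻¹ := by rw [hw'u]
        _ = z * u := hwu'
  have case_zu_z : ∃ x ∈ Q ⊔ Q.map (MulAut.conj g).toMonoidHom,
      x * z * x⁻¹ = z * u ∧ x * u * x⁻¹ = z := by
    refine ⟨w' * w, Subgroup.mul_mem _ hw'Q' hwQ, ?_, ?_⟩
    · calc w' * w * z * (w' * w)⁻¹ = w' * (w * z * w⁻¹) * w'⁻¹ := by group
        _ = w' * z * w'⁻¹ := by rw [hwz]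
        _ = z * u := hw'z
    · calc w' * w * u * (w' * w)⁻¹ = w' * (w * u * w⁻¹) * w'⁻¹ := by group
        _ = w' * (z * u) * w'⁻¹ := by rw [hwu']
        _ = z := hw'zu
  rcases hcl a ha with rfl | rfl | rfl | rfl
  · exact absurd rfl ha1
  · rcases hcl b hb with rfl | rfl | rfl | rfl
    · exact absurd rfl hb1
    · exact absurd rfl hab
    · exact case_zu
    · exact case_z_zu
  · rcases hcl b hb with rfl | rfl | rfl | rfl
    · exact absurd rfl hb1
    · exact case_u_z
    · exact absurd rfl hab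
    · exact case_u_zu
  · rcases hcl b hb with rfl | rfl | rfl | rfl
    · exact absurd rfl hb1
    · exact case_zu_z
    · exact case_zu_u
    · exact absurd rfl hab


end Cfsg.Agent.Lib.Helper20.SympFour
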