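import Mathlib
import Cfsg.Prelude.Def_Local
import Cfsg.Agent.Lib.Helper25.TSDefs

/-!
# S3797-EXPO (helper25's market): `exists_exponent`

The abelian normal `2`-subgroup `Z ⊇ E` is "homocyclic": with `2 ^ m` its exponent, the elements
killed by `2 ^ (m - 1)` are exactly the squares.
-/

set_option autoImplicit false

namespace Cfsg.Agent.Lib.Helper20.TSEXPO

open Cfsg.Agent.Lib.Helper25.TS

universe u

variable {G : Type u} [Group G] [Finite G]

/-- **S3797-EXPO** -/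
theorem exists_exponent {T E : Subgroup G} (c : Cfg G T E) (Z : Subgroup G) (hZn : Z.Normal)
    (hZ2 : IsPGroup 2 Z) (hZc : ∀ a ∈ Z, ∀ b ∈ Z, a * b = b * a) (hEZ : E ≤ Z) :
    ∃ m : ℕ, 1 ≤ m ∧ (∀ z ∈ Z, z ^ (2 ^ m) = 1) ∧
      ∀ z ∈ Z, z ^ (2 ^ (m - 1)) = 1 → ∃ w ∈ Z, w ^ 2 = z := by
  classical
  -- the exponent
  have hex : ∃ m : ℕ, ∀ z ∈ Z, z ^ (2 ^ m) = 1 := by
    obtain ⟨k, hk⟩ := IsPGroup.iff_card.mp hZ2
    refine ⟨k, fun z hz => ?_⟩
    have := pow_card_eq_one' (G := Z) (x := ⟨z, hz⟩)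
    rw [hk] at this
    exact congrArg Subtype.val this
  set m := Nat.find hex with hm
  have hmspec : ∀ z ∈ Z, z ^ (2 ^ m) = 1 := Nat.find_spec hex
  obtain ⟨x₀, hx₀E, -, -, -, hx₀1, -⟩ := c.exists_two
  have hm1 : 1 ≤ m := by
    by_contra hlt
    have h0 : m = 0 := by omega
    have := hmspec x₀ (hEZ hx₀E)
    rw [h0, pow_zero, pow_one] at this
    exact hx₀1 this
  have hmin : ∃ z ∈ Z, z ^ (2 ^ (m - 1)) ≠ 1 := by
    have := Nat.find_min hex (show m - 1 < m by omega)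
    by_contra hcon
    apply this
    intro z hz
    by_contra hz1
    exact hcon ⟨z, hz, hz1⟩
  have h2m : 2 * 2 ^ (m - 1) = 2 ^ m := by
    rw [← pow_succ']; congr 1; omega
  refine ⟨m, hm1, hmspec, ?_⟩
  -- `Z` is a commutative group
  let _ : CommGroup Z := { (inferInstance : Group Z) with
    mul_comm := fun a b => Subtype.ext (hZc a a.2 b b.2) }
  set φ : Z →* Z := powMonoidHom (2 ^ (m - 1)) with hφ
  set ψ : Z →* Z := powMonoidHom 2 with hψ
  -- image of `φ` is `E`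
  set D : Subgroup G := φ.range.map Z.subtype with hD
  have hDmem : ∀ d : G, d ∈ D ↔ ∃ z ∈ Z, z ^ (2 ^ (m - 1)) = d := by
    intro d
    constructor
    · rintro ⟨_, ⟨z, rfl⟩, rfl⟩
      exact ⟨z, z.2, rfl⟩
    · rintro ⟨z, hz, rfl⟩
      exact ⟨φ ⟨z, hz⟩, ⟨⟨z, hz⟩, rfl⟩, rfl⟩
  have hDn : D.Normal := by
    refine ⟨fun d hd g => ?_⟩
    obtain ⟨z, hz, rfl⟩ := (hDmem d).mp hd
    rw [hDmem]
    exact ⟨g * z * g⁻¹, hZn.conj_mem z hz g, by rw [conj_pow]⟩
  have hDE : D ≤ E := by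
    intro d hd
    obtain ⟨z, hz, rfl⟩ := (hDmem d).mp hd
    rw [c.mem_E, ← pow_mul, mul_comm, h2m]
    exact hmspec z hz
  have hDbot : D ≠ ⊥ := by
    obtain ⟨z, hz, hz1⟩ := hmin
    intro h
    have : z ^ (2 ^ (m - 1)) ∈ D := (hDmem _).mpr ⟨z, hz, rfl⟩
    rw [h, Subgroup.mem_bot] at this
    exact hz1 this
  have hDeq : D = E := (c.eq_bot_or_eq_of_normal D hDn hDE).resolve_left hDbot
  have hcardφ : Nat.card φ.range = Nat.card E := by
    rw [← hDeq, hD]
    exact (Subgroup.card_map_of_injective Z.subtype_injective).symm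
  -- kernel of `ψ` is `E`
  have hkerψ : ψ.ker = E.subgroupOf Z := by
    ext z
    rw [MonoidHom.mem_ker, Subgroup.mem_subgroupOf, c.mem_E]
    constructor
    · intro h; exact congrArg Subtype.val h
    · intro h; exact Subtype.ext h
  have hcardψ : Nat.card ψ.ker = Nat.card E := by
    rw [hkerψ]
    exact Nat.card_congr (Subgroup.subgroupOfEquivOfLe hEZ).toEquiv
  -- counting
  have h1 : Nat.card φ.ker * Nat.card E = Nat.card Z := by
    rw [← hcardφ, ← Subgroup.index_ker]; exact Subgroup.card_mul_index _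
  have h2 : Nat.card E * Nat.card ψ.range = Nat.card Z := by
    rw [← hcardψ, ← Subgroup.index_ker]; exact Subgroup.card_mul_index _
  have hEpos : 0 < Nat.card E := Nat.card_pos
  have h3 : Nat.card φ.ker = Nat.card ψ.range := by
    have : Nat.card φ.ker * Nat.card E = Nat.card ψ.range * Nat.card E := by
      rw [h1, ← h2, mul_comm]
    exact Nat.eq_of_mul_eq_mul_right hEpos this
  have hle : ψ.range ≤ φ.ker := by
    rintro _ ⟨w, rfl⟩
    rw [MonoidHom.mem_ker]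
    apply Subtype.ext
    show ((w : G) ^ 2) ^ (2 ^ (m - 1)) = 1
    rw [← pow_mul, h2m]
    exact hmspec w w.2
  have heq : ψ.range = φ.ker := Subgroup.eq_of_le_of_card_ge hle h3.le
  intro z hz hz1
  have hzker : (⟨z, hz⟩ : Z) ∈ φ.ker := by
    rw [MonoidHom.mem_ker]
    exact Subtype.ext hz1
  rw [← heq] at hzker
  obtain ⟨w, hw⟩ := hzker
  exact ⟨w, w.2, congrArg Subtype.val hw⟩

end Cfsg.Agent.Lib.Helper20.TSEXPO
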