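import Mathlib
import Cfsg.Prelude.Def_Local
import Cfsg.Agent.Lib.Helper25.TSDefs

/-!
# S3797-HYP0 (helper25's market): `hyp_of_sylow`
-/

set_option autoImplicit false

namespace Cfsg.Agent.Lib.Helper20.TSHYP0

open Cfsg.Agent.Lib.Helper25.TS

universe u

variable {G : Type u} [Group G] [Finite G]

/-- a nontrivial finite `2`-group has a central involution -/
theorem exists_central_involution (S : Subgroup G) (hS : IsPGroup 2 S) (hne : S ≠ ⊥) :
    ∃ z ∈ S, z ≠ 1 ∧ z ^ 2 = 1 ∧ ∀ x ∈ S, x * z = z * x := by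
  have : Nontrivial S := (Subgroup.nontrivial_iff_ne_bot S).mpr hne
  have : Nontrivial (Subgroup.center S) := hS.center_nontrivial
  have hZ : IsPGroup 2 (Subgroup.center S) := hS.to_subgroup _
  have h2 : 2 ∣ Nat.card (Subgroup.center S) := by
    rcases hZ.card_eq_or_dvd with h | h
    · exact absurd h (Finite.one_lt_card_iff_nontrivial.mpr inferInstance).ne'
    · exact h
  obtain ⟨z, hz⟩ := exists_prime_orderOf_dvd_card' 2 h2
  have hz' : orderOf (((z : S) : G)) = 2 := by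
    rw [Subgroup.orderOf_coe, Subgroup.orderOf_coe, hz]
  refine ⟨((z : S) : G), (z : S).2, ?_, ?_, ?_⟩
  · intro h
    rw [h, orderOf_one] at hz'
    exact absurd hz' (by norm_num)
  · rw [← hz']; exact pow_orderOf_eq_one _
  · intro x hx
    have := Subgroup.mem_center_iff.mp z.2 ⟨x, hx⟩
    exact congrArg Subtype.val this

/-- **S3797-HYP0** -/
theorem hyp_of_sylow (hG : Group.IsSolvable G) (S : Sylow 2 G)
    (htwo : ∃ x y : G, x ∈ (S : Subgroup G) ∧ y ∈ (S : Subgroup G) ∧ x ≠ y ∧ x ≠ 1 ∧ x ^ 2 = 1 ∧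
      y ≠ 1 ∧ y ^ 2 = 1)
    (hconj : ∀ x y : G, x ≠ 1 → x ^ 2 = 1 → y ≠ 1 → y ^ 2 = 1 → IsConj x y) : Hyp G := by
  refine ⟨hG, hconj, ?_⟩
  obtain ⟨x, y, hx, hy, hxy, hx1, hx2, hy1, hy2⟩ := htwo
  have hne : (S : Subgroup G) ≠ ⊥ := fun h => hx1 (by rw [h] at hx; exact Subgroup.mem_bot.mp hx)
  obtain ⟨z, hz, hz1, hz2, hzc⟩ := exists_central_involution (S : Subgroup G) S.isPGroup' hne
  by_cases hxz : x = z
  · exact ⟨y, z, fun h => hxy (hxz.trans h.symm), hy1, hy2, hz1, hz2, hzc y hy⟩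
  · exact ⟨x, z, hxz, hx1, hx2, hz1, hz2, hzc x hx⟩

end Cfsg.Agent.Lib.Helper20.TSHYP0
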