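import Mathlib
import Cfsg.Prelude.Def_Local
import Cfsg.Agent.Lib.Helper25.TSDefs
import Cfsg.Agent.Lib.Helper12.Cores

/-!
# S3797-KCFG (helper25's market): `kcfg_K2`
-/

set_option autoImplicit false

namespace Cfsg.Agent.Lib.Helper20.TSKCFG

open Cfsg.Agent.Lib.Helper25.TS

universe u

variable {G : Type u} [Group G] [Finite G]

omit [Finite G] in
/-- for `T ⊴ G` and `T ≤ R`: `|R : T|` is the order of the image of `R` in `G ⧸ T` -/
theorem relIndex_eq_card_map (T : Subgroup G) [T.Normal] (R : Subgroup G) (hTR : T ≤ R) :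
    T.relIndex R = Nat.card (R.map (QuotientGroup.mk' T)) := by
  have h := Subgroup.relIndex_map_map (QuotientGroup.mk' T) T R
  rw [QuotientGroup.ker_mk', sup_idem, sup_eq_left.mpr hTR] at h
  rw [← h]
  have : T.map (QuotientGroup.mk' T) = ⊥ := by
    rw [Subgroup.map_eq_bot_iff, QuotientGroup.ker_mk']
  rw [this, Subgroup.relIndex_bot_left]

/-- **S3797-KCFG** -/
theorem kcfg_K2 : KCfg (Cfsg.pCore 2 G) (K2 G) := by
  have hle : Cfsg.pCore 2 G ≤ K2 G := by
    intro x hx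
    show QuotientGroup.mk' (Cfsg.pCore 2 G) x ∈ Cfsg.pPrimeCore 2 (G ⧸ Cfsg.pCore 2 G)
    have h1 : QuotientGroup.mk' (Cfsg.pCore 2 G) x = 1 := (QuotientGroup.eq_one_iff x).mpr hx
    rw [h1]
    exact Subgroup.one_mem _
  refine ⟨?_, hle, ?_, ?_⟩
  · exact Subgroup.Normal.comap inferInstance _
  · rw [relIndex_eq_card_map _ _ hle]
    have : (K2 G).map (QuotientGroup.mk' (Cfsg.pCore 2 G)) = Cfsg.pPrimeCore 2 (G ⧸ Cfsg.pCore 2 G) :=
      Subgroup.map_comap_eq_self_of_surjective (QuotientGroup.mk'_surjective _) _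
    rw [this]
    exact Nat.Coprime.odd_of_right (Cfsg.Agent.Lib.Helper12.pPrimeCore_coprime 2)
  · intro R hR hTR hodd
    rw [relIndex_eq_card_map _ _ hTR] at hodd
    have h1 : R.map (QuotientGroup.mk' (Cfsg.pCore 2 G)) ≤ Cfsg.pPrimeCore 2 (G ⧸ Cfsg.pCore 2 G) :=
      Cfsg.Agent.Lib.Helper12.le_pPrimeCore 2 _
        (Subgroup.Normal.map hR _ (QuotientGroup.mk'_surjective _))
        (Nat.Coprime.symm (Nat.coprime_two_left.mpr hodd))
    intro x hx
    exact h1 (Subgroup.mem_map_of_mem _ hx)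

end Cfsg.Agent.Lib.Helper20.TSKCFG
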