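import Mathlib
import Cfsg.Prelude.Def_Local
import Cfsg.Agent.Lib.Helper25.TSDefs

/-!
# S3797-ODDB (helper25's market): `exists_odd_transitive`

`S ≤ C = C_G(E)` Sylow, Frattini `G = N_G(S) C`, `N_G(S) = S B` with `B` a complement of odd
order (Schur–Zassenhaus); `C` and `S` centralize `E`, so `B` is transitive on `E ∖ 1`.
-/

set_option autoImplicit false

namespace Cfsg.Agent.Lib.Helper20.TSODDB

open Cfsg.Agent.Lib.Helper25.TS

universe u

variable {G : Type u} [Group G] [Finite G]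

/-- **S3797-ODDB** -/
theorem exists_odd_transitive {T E : Subgroup G} (c : Cfg G T E) (S : Sylow 2 G)
    (hS : (S : Subgroup G) ≤ Subgroup.centralizer (E : Set G)) :
    ∃ B : Subgroup G, B ≤ Subgroup.normalizer ((S : Subgroup G) : Set G) ∧ Odd (Nat.card B) ∧
      ∀ x ∈ E, ∀ y ∈ E, x ≠ 1 → y ≠ 1 → ∃ b ∈ B, b * x * b⁻¹ = y := by
  have hEn : E.Normal := c.E_normal
  have hCn : (Subgroup.centralizer (E : Set G)).Normal := Subgroup.normal_centralizer
  set C : Subgroup G := Subgroup.centralizer (E : Set G) with hC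
  have hfr : Subgroup.normalizer ((S : Subgroup G) : Set G) ⊔ C = ⊤ :=
    Sylow.normalizer_sup_eq_top' S hS
  set NS : Subgroup G := Subgroup.normalizer ((S : Subgroup G) : Set G) with hNS
  -- Schur–Zassenhaus inside `N_G(S)`
  have hS'n : ((S : Subgroup G).subgroupOf NS).Normal := Subgroup.normal_in_normalizer
  have hcardS' : Nat.card ((S : Subgroup G).subgroupOf NS) = Nat.card (S : Subgroup G) :=
    Nat.card_congr (Subgroup.subgroupOfEquivOfLe Subgroup.le_normalizer).toEquiv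
  have hidx2 : ¬ 2 ∣ ((S : Subgroup G).subgroupOf NS).index := by
    intro h
    have h1 : (S : Subgroup G).relIndex NS ∣ (S : Subgroup G).index :=
      Subgroup.relIndex_dvd_index_of_le Subgroup.le_normalizer
    exact S.not_dvd_index (h.trans h1)
  have hcop : Nat.Coprime (Nat.card ((S : Subgroup G).subgroupOf NS))
      ((S : Subgroup G).subgroupOf NS).index := by
    rw [hcardS']
    obtain ⟨k, hk⟩ := IsPGroup.iff_card.mp S.isPGroup'
    rw [hk]
    exact Nat.Coprime.pow_left k ((Nat.Prime.coprime_iff_not_dvd Nat.prime_two).mpr hidx2)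
  obtain ⟨B', hB'⟩ := Subgroup.exists_right_complement'_of_coprime hcop
  have hB'card : Nat.card B' = ((S : Subgroup G).subgroupOf NS).index := by
    have h1 := hB'.card_mul_card
    have h2 := Subgroup.card_mul_index ((S : Subgroup G).subgroupOf NS)
    have hpos : 0 < Nat.card ((S : Subgroup G).subgroupOf NS) := Nat.card_pos
    exact Nat.eq_of_mul_eq_mul_left hpos (h1.trans h2.symm)
  refine ⟨B'.map NS.subtype, Subgroup.map_subtype_le _, ?_, ?_⟩
  · rw [Subgroup.card_map_of_injective NS.subtype_injective, hB'card]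
    exact Nat.odd_iff.mpr (Nat.two_dvd_ne_zero.mp hidx2)
  · intro x hx y hy hx1 hy1
    obtain ⟨g, hg⟩ := c.trans x hx y hy hx1 hy1
    have hgtop : g ∈ NS ⊔ C := by rw [hfr]; exact Subgroup.mem_top g
    obtain ⟨n, hn, c₀, hc₀, rfl⟩ := Subgroup.mem_sup_of_normal_right.mp hgtop
    obtain ⟨⟨s', b'⟩, hsb, -⟩ := Subgroup.isComplement_iff_existsUnique.mp hB' ⟨n, hn⟩
    have hsb' : ((s' : NS) : G) * ((b' : NS) : G) = n := congrArg Subtype.val hsb
    refine ⟨((b' : NS) : G), ⟨(b' : NS), b'.2, rfl⟩, ?_⟩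
    have hc₀x : c₀ * x * c₀⁻¹ = x := by
      have := Subgroup.mem_centralizer_iff.mp hc₀ x hx
      rw [← this, mul_inv_cancel_right]
    have hbE : ((b' : NS) : G) * x * ((b' : NS) : G)⁻¹ ∈ E := hEn.conj_mem x hx _
    have hsS : ((s' : NS) : G) ∈ (S : Subgroup G) := Subgroup.mem_subgroupOf.mp s'.2
    have hs : ((s' : NS) : G) * (((b' : NS) : G) * x * ((b' : NS) : G)⁻¹) * ((s' : NS) : G)⁻¹
        = ((b' : NS) : G) * x * ((b' : NS) : G)⁻¹ := by
      have := Subgroup.mem_centralizer_iff.mp (hS hsS) _ hbE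
      rw [← this, mul_inv_cancel_right]
    rw [← hs, ← hg, ← hsb']
    have : ((s' : NS) : G) * ((b' : NS) : G) * c₀ * x * (((s' : NS) : G) * ((b' : NS) : G) * c₀)⁻¹
        = ((s' : NS) : G) * (((b' : NS) : G) * (c₀ * x * c₀⁻¹) * ((b' : NS) : G)⁻¹) * ((s' : NS) : G)⁻¹ := by
      group
    rw [this, hc₀x]

end Cfsg.Agent.Lib.Helper20.TSODDB
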