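import Mathlib
import Cfsg.Prelude.Def_Local
import Cfsg.Agent.Lib.Helper25.TSDefs
import Cfsg.Agent.Lib.Helper12.Cores

/-!
# S3797-QUOT (helper25's market): `hyp_quotient`

`Hyp` passes to `G ⧸ O(G)`: an involution `π g` of the quotient is the image of the involution
`g ^ |O(G)|`, and `O(G)` contains no involution.
-/

set_option autoImplicit false

namespace Cfsg.Agent.Lib.Helper20.TSQUOT

open Cfsg.Agent.Lib.Helper25.TS

universe u

variable {G : Type u} [Group G] [Finite G]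

omit [Finite G] in
/-- a subgroup of odd order contains no involution -/
theorem eq_one_of_sq_eq_one (O : Subgroup G) (hO : Odd (Nat.card O)) {z : G} (hz : z ∈ O)
    (h2 : z ^ 2 = 1) : z = 1 := by
  have h1 : orderOf z ∣ 2 := orderOf_dvd_of_pow_eq_one h2
  have h3 : orderOf z ∣ Nat.card O := by
    have := orderOf_dvd_natCard (⟨z, hz⟩ : O)
    rwa [← Subgroup.orderOf_coe] at this
  have h4 : orderOf z ∣ Nat.gcd 2 (Nat.card O) := Nat.dvd_gcd h1 h3
  rw [Nat.coprime_two_left.mpr hO] at h4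
  exact orderOf_eq_one_iff.mp (Nat.dvd_one.mp h4)

omit [Finite G] in
/-- lifting involutions modulo a normal subgroup of odd order -/
theorem exists_involution_lift (O : Subgroup G) [O.Normal] (hO : Odd (Nat.card O))
    (x' : G ⧸ O) (h1 : x' ≠ 1) (h2 : x' ^ 2 = 1) :
    ∃ x : G, x ≠ 1 ∧ x ^ 2 = 1 ∧ QuotientGroup.mk' O x = x' := by
  obtain ⟨g, rfl⟩ := QuotientGroup.mk'_surjective O x'
  obtain ⟨k, hk⟩ := hO
  have hg2 : g ^ 2 ∈ O := by
    rw [← QuotientGroup.eq_one_iff, ← h2]; rfl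
  have hgm : (g ^ 2) ^ Nat.card O = 1 := by
    have := pow_card_eq_one' (G := O) (x := ⟨g ^ 2, hg2⟩)
    exact congrArg Subtype.val this
  have hπ : QuotientGroup.mk' O (g ^ Nat.card O) = QuotientGroup.mk' O g := by
    rw [map_pow, hk, pow_succ, pow_mul, h2, one_pow, one_mul]
  refine ⟨g ^ Nat.card O, ?_, ?_, hπ⟩
  · intro h
    rw [h, map_one] at hπ
    exact h1 hπ.symm
  · rw [← pow_mul, mul_comm, pow_mul]; exact hgm

/-- **S3797-QUOT** -/
theorem hyp_quotient (h : Hyp G) : Hyp (G ⧸ Cfsg.pPrimeCore 2 G) := by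
  have hO : Odd (Nat.card (Cfsg.pPrimeCore 2 G)) :=
    Nat.Coprime.odd_of_right (Cfsg.Agent.Lib.Helper12.pPrimeCore_coprime 2)
  have hker : ∀ g : G, QuotientGroup.mk' (Cfsg.pPrimeCore 2 G) g = 1 ↔ g ∈ Cfsg.pPrimeCore 2 G :=
    fun g => QuotientGroup.eq_one_iff g
  refine ⟨?_, ?_, ?_⟩
  · have := h.sol
    exact Group.isSolvable_of_surjective (QuotientGroup.mk'_surjective (Cfsg.pPrimeCore 2 G))
  · intro x' y' hx1 hx2 hy1 hy2
    obtain ⟨x, hx1', hx2', rfl⟩ := exists_involution_lift _ hO x' hx1 hx2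
    obtain ⟨y, hy1', hy2', rfl⟩ := exists_involution_lift _ hO y' hy1 hy2
    exact MonoidHom.map_isConj _ (h.conj x y hx1' hx2' hy1' hy2')
  · obtain ⟨x, y, hxy, hx1, hx2, hy1, hy2, hc⟩ := h.two
    refine ⟨QuotientGroup.mk' _ x, QuotientGroup.mk' _ y, ?_, ?_, ?_, ?_, ?_, ?_⟩
    · intro he
      have h3 : x⁻¹ * y ∈ Cfsg.pPrimeCore 2 G := by
        rw [← hker, map_mul, map_inv, he, inv_mul_cancel]
      have h4 : (x⁻¹ * y) ^ 2 = 1 := by
        have hc' : Commute x⁻¹ y := (show Commute x y from hc).inv_left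
        rw [hc'.mul_pow, inv_pow, hx2, hy2, inv_one, one_mul]
      have h5 := eq_one_of_sq_eq_one _ hO h3 h4
      exact hxy (inv_mul_eq_one.mp h5)
    · intro he
      exact hx1 (eq_one_of_sq_eq_one _ hO ((hker x).mp he) hx2)
    · rw [← map_pow, hx2, map_one]
    · intro he
      exact hy1 (eq_one_of_sq_eq_one _ hO ((hker y).mp he) hy2)
    · rw [← map_pow, hy2, map_one]
    · rw [← map_mul, ← map_mul, hc]

end Cfsg.Agent.Lib.Helper20.TSQUOT
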