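import Mathlib
import Cfsg.Prelude.Def_Local
import Cfsg.Agent.Lib.Helper25.TSDefs
import Cfsg.Agent.Lib.Helper9.PLengthFusion
import Cfsg.Agent.Lib.Helper12.Cores
import Cfsg.Agent.Lib.Helper17.Basic
import Cfsg.Agent.Lib.Helper20.TSHYP0

/-!
# S3797-SYLCE (helper25's market): `sylow_le_centralizer`

`G = T N`, `N` of 2-length one, `K ≤ C_G(E)`  ⟹  every Sylow 2-subgroup of `G` centralizes `E`.
-/

set_option autoImplicit false

namespace Cfsg.Agent.Lib.Helper20.TSSYLCE

open Cfsg.Agent.Lib.Helper25.TS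

universe u

variable {G : Type u} [Group G] [Finite G]

/-- **S3797-SYLCE** -/
theorem sylow_le_centralizer {T E K : Subgroup G} (c : Cfg G T E) (k : KCfg T K) (N : Subgroup G)
    (hTN : T ⊔ N = ⊤) (hKE : K ≤ Subgroup.centralizer (E : Set G))
    (hN : Cfsg.PLengthLE 2 1 ↥N) (S : Sylow 2 G) :
    (S : Subgroup G) ≤ Subgroup.centralizer (E : Set G) := by
  have hEn : E.Normal := c.E_normal
  have hTn : T.Normal := c.T_normal
  have hCEn : (Subgroup.centralizer (E : Set G)).Normal := Subgroup.normal_centralizer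
  set CE : Subgroup G := Subgroup.centralizer (E : Set G) with hCE
  have hTCE : T ≤ CE := c.T_le_centralizer
  have hcomm : ∀ g ∈ CE, ∀ e ∈ E, g * e * g⁻¹ = e := by
    intro g hg e he
    have := Subgroup.mem_centralizer_iff.mp hg e he
    rw [← this, mul_inv_cancel_right]
  -- (1) the image of `O_{2'}(N)` centralizes `E`
  have hOn : (Cfsg.pPrimeCore 2 ↥N).Normal := inferInstance
  set O' : Subgroup G := (Cfsg.pPrimeCore 2 ↥N).map N.subtype with hO'
  have hO'odd : Odd (Nat.card O') := by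
    rw [hO', Subgroup.card_map_of_injective N.subtype_injective]
    exact Nat.Coprime.odd_of_right (Cfsg.Agent.Lib.Helper12.pPrimeCore_coprime 2)
  have hO'N : ∀ n ∈ N, ∀ o ∈ O', n * o * n⁻¹ ∈ O' := by
    rintro n hn _ ⟨o, ho, rfl⟩
    exact ⟨⟨n, hn⟩ * o * ⟨n, hn⟩⁻¹, hOn.conj_mem o ho ⟨n, hn⟩, rfl⟩
  have hOTn : (O' ⊔ T).Normal := by
    rw [← Subgroup.normalizer_eq_top_iff, eq_top_iff, ← hTN]
    apply sup_le
    · exact le_sup_right.trans Subgroup.le_normalizer
    · intro n hn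
      apply Cfsg.Agent.Lib.Helper17.mem_normalizer_of_forall_conj_mem
      intro x hx
      obtain ⟨o, ho, t, ht, rfl⟩ := Subgroup.mem_sup_of_normal_right.mp hx
      have : n * (o * t) * n⁻¹ = (n * o * n⁻¹) * (n * t * n⁻¹) := by group
      rw [this]
      exact Subgroup.mul_mem_sup (hO'N n hn o ho) (hTn.conj_mem t ht n)
  have hOTodd : Odd (T.relIndex (O' ⊔ T)) := by
    rw [Subgroup.relIndex_sup_right]
    exact Odd.of_dvd_nat hO'odd (Subgroup.relIndex_dvd_card T O')
  have hO'CE : O' ≤ CE :=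
    (le_sup_left.trans (k.max (O' ⊔ T) hOTn le_sup_right hOTodd)).trans hKE
  -- (2) the image of a Sylow 2-subgroup of `N` centralizes `E`
  obtain ⟨SN⟩ : Nonempty (Sylow 2 ↥N) := inferInstance
  set S₁ : Subgroup G := (SN : Subgroup ↥N).map N.subtype with hS₁
  have hS₁CE : S₁ ≤ CE := by
    by_cases hbot : S₁ = ⊥
    · rw [hbot]; exact bot_le
    have hS₁2 : IsPGroup 2 S₁ := SN.isPGroup'.map _
    obtain ⟨z, hzS, hz1, hz2, hzc⟩ :=
      Cfsg.Agent.Lib.Helper20.TSHYP0.exists_central_involution S₁ hS₁2 hbot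
    set D : Subgroup G := E ⊓ Subgroup.centralizer (S₁ : Set G) with hD
    have hzD : z ∈ D := by
      refine Subgroup.mem_inf.mpr ⟨(c.mem_E z).mpr hz2, ?_⟩
      rw [Subgroup.mem_centralizer_iff]
      intro s hs
      exact hzc s hs
    have hDbot : D ≠ ⊥ := fun h => hz1 (by rw [h] at hzD; exact Subgroup.mem_bot.mp hzD)
    -- conjugation by the three kinds of elements preserves `D`
    have hDCE : ∀ g ∈ CE, ∀ d ∈ D, g * d * g⁻¹ ∈ D := by
      intro g hg d hd
      rw [hcomm g hg d (Subgroup.mem_inf.mp hd).1]; exact hd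
    have hDnorm : ∀ n : ↥N, n ∈ Subgroup.normalizer ((SN : Subgroup ↥N) : Set ↥N) →
        ∀ d ∈ D, (n : G) * d * (n : G)⁻¹ ∈ D := by
      intro n hn d hd
      refine Subgroup.mem_inf.mpr ⟨hEn.conj_mem d (Subgroup.mem_inf.mp hd).1 _, ?_⟩
      rw [Subgroup.mem_centralizer_iff]
      rintro _ ⟨s, hs, rfl⟩
      have hs' : n⁻¹ * s * n ∈ (SN : Subgroup ↥N) :=
        (Subgroup.mem_normalizer_iff''.mp hn s).mp hs
      have hs'' : ((n⁻¹ * s * n : ↥N) : G) ∈ S₁ := ⟨_, hs', rfl⟩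
      have hcd := Subgroup.mem_centralizer_iff.mp (Subgroup.mem_inf.mp hd).2 _ hs''
      -- hcd : (n⁻¹ s n) * d = d * (n⁻¹ s n)
      have e1 : N.subtype s * ((n : G) * d * (n : G)⁻¹)
          = (n : G) * (((n⁻¹ * s * n : ↥N) : G) * d) * (n : G)⁻¹ := by
        simp only [Subgroup.coe_subtype, Subgroup.coe_mul, Subgroup.coe_inv]; group
      have e2 : (n : G) * d * (n : G)⁻¹ * N.subtype s
          = (n : G) * (d * ((n⁻¹ * s * n : ↥N) : G)) * (n : G)⁻¹ := by
        simp only [Subgroup.coe_subtype, Subgroup.coe_mul, Subgroup.coe_inv]; group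
      rw [e1, e2, hcd]
    have hDn : D.Normal := by
      refine ⟨fun d hd g => ?_⟩
      have hg : g ∈ T ⊔ N := by rw [hTN]; exact Subgroup.mem_top g
      obtain ⟨t, ht, n, hn, rfl⟩ := Subgroup.mem_sup_of_normal_left.mp hg
      obtain ⟨g', hg', k', hk', hnk⟩ :=
        Cfsg.Agent.Lib.Helper9.exists_normalizer_mul_of_pLengthLE_one hN SN ⟨n, hn⟩
      have hn' : n = (g' : G) * (k' : G) := congrArg Subtype.val hnk
      have hk'O : (k' : G) ∈ O' := ⟨k', hk', rfl⟩
      have e : t * n * d * (t * n)⁻¹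
          = t * ((g' : G) * ((k' : G) * d * (k' : G)⁻¹) * (g' : G)⁻¹) * t⁻¹ := by
        rw [hn']; group
      rw [e]
      exact hDCE t (hTCE ht) _ (hDnorm g' hg' _ (hDCE _ (hO'CE hk'O) d hd))
    have hDE : D = E := (c.eq_bot_or_eq_of_normal D hDn inf_le_left).resolve_left hDbot
    intro s hs
    rw [hCE, Subgroup.mem_centralizer_iff]
    intro e he
    have heD : e ∈ D := by rw [hDE]; exact he
    exact (Subgroup.mem_centralizer_iff.mp (Subgroup.mem_inf.mp heD).2 s hs).symm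
  -- (3) `|G : C_G(E)|` is odd
  have hidx : ¬ 2 ∣ CE.index := by
    have h1 : CE.relIndex (N ⊔ CE) = CE.relIndex N := Subgroup.relIndex_sup_right N CE
    have h2 : N ⊔ CE = ⊤ := by
      rw [eq_top_iff, ← hTN]
      exact sup_le (hTCE.trans le_sup_right) le_sup_left
    rw [h2, Subgroup.relIndex_top_right] at h1
    have h3 : (SN : Subgroup ↥N) ≤ CE.subgroupOf N := by
      intro s hs
      rw [Subgroup.mem_subgroupOf]
      exact hS₁CE ⟨s, hs, rfl⟩
    have h4 : (CE.subgroupOf N).index ∣ (SN : Subgroup ↥N).index := Subgroup.index_dvd_of_le h3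
    intro h
    rw [h1] at h
    exact SN.not_dvd_index (h.trans h4)
  -- conclusion
  rw [← Subgroup.relIndex_eq_one]
  have h5 : CE.relIndex S ∣ CE.index := Subgroup.relIndex_dvd_index_of_normal _ _
  have h6 : CE.relIndex S ∣ Nat.card (S : Subgroup G) := Subgroup.relIndex_dvd_card _ _
  obtain ⟨n, hn⟩ := IsPGroup.iff_card.mp S.isPGroup'
  rw [hn] at h6
  have hcop : Nat.Coprime CE.index (2 ^ n) :=
    Nat.Coprime.pow_right n ((Nat.Prime.coprime_iff_not_dvd Nat.prime_two).mpr hidx).symm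
  exact Nat.eq_one_of_dvd_coprimes hcop h5 h6

end Cfsg.Agent.Lib.Helper20.TSSYLCE
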