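/-
helper20: S4540 leaf (LI) `contrib_diag_memLocalIdeal` (planner helper1, `notes/S4540_leaves.lean`):
the scaled diagonal contribution `p^d μ_{ψψ} / p^{h(ψ)}` of a character of positive height lies in the
local ideal.  This is helper23's `MajSubLI.contrib_diag_memLocalIdeal` (hypothesis `0 < h` instead of
`1 ≤ h`), restated with the frozen binders of the leaf.
-/
import Cfsg.Agent.Lib.Helper1.TwoMajDefs
import Cfsg.Agent.Lib.Helper23.MajSubH5
import Cfsg.Agent.Lib.Helper23.MajSubLI
import Cfsg.Agent.Lib.Helper23.SubsecH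
import Cfsg.Agent.Lib.Helper6.DefectOrder

set_option autoImplicit false

namespace Cfsg.Agent.Lib.Helper20.TwoMajLI

open Cfsg Cfsg.Agent.CharLib Cfsg.Agent.Lib.Helper24 Cfsg.Agent.Lib.Helper6 Cfsg.Agent.Lib.Helper23
open Cfsg.Agent.Lib.Helper23.Subsec Cfsg.Agent.Lib.Helper27.MajSub
open Cfsg.Agent.Lib.Helper1.TwoMaj
open scoped ComplexConjugate

universe u w

variable {G : Type u} [Group G] [Fintype G] {M : Ideal AlgInt}

/-- (LI) the scaled diagonal contribution of a character of positive height lies in the local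
ideal. -/
theorem contrib_diag_memLocalIdeal {p : ℕ} [hpp : Fact p.Prime] (hM : IsPModular p M) (z : G)
    (hz : ∃ k : ℕ, orderOf z = p ^ k) (C : Subgroup G) [Fintype C]
    (hC : C = Subgroup.centralizer ({z} : Set G)) (B : Set (IrrCharacter G))
    (e : Set (IrrCharacter C)) (hind : IsInducedBlock M C e B)
    (hdef : blockDefect p e = blockDefect p B) (ψ : IrrCharacter G) (hψ : ψ ∈ B)
    (hψ1 : 1 ≤ blockHeight p B (ψ : G → ℂ)) :
    MemLocalIdeal M ((p : ℂ) ^ blockDefect p B * contrib p C e z ψ ψ /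
      (p : ℂ) ^ blockHeight p B (ψ : G → ℂ)) :=
  Cfsg.Agent.Lib.Helper23.MajSubLI.contrib_diag_memLocalIdeal hM z hz C hC B e hind hdef ψ hψ
    (Nat.lt_of_lt_of_le Nat.zero_lt_one hψ1)

end Cfsg.Agent.Lib.Helper20.TwoMajLI
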