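import Mathlib
import Cfsg.Agent.Lib.Helper12.U3Defs
import Cfsg.Agent.Lib.Helper20.U3CAHOM
import Cfsg.Agent.Lib.Helper20.U3BALPHA

/-! S2148 market "U3", helper lemma for BBETA (requested by helper4): an element `k` of the Borel
subgroup `PP` whose `ca` is regular is `QQ`-conjugate to an element of `LL` with the same `ca`. -/

set_option autoImplicit false

namespace Cfsg.Agent.Lib.Helper20.U3Leaf

open Cfsg.Agent.Lib.Helper12.U3 Cfsg.Agent.Lib.Helper18.PSUMod Cfsg.Agent.Lib.Helper5.HermBridge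

noncomputable section

variable {F : Type*} [Field F] [Fintype F] {q : ℕ} (hF : Fintype.card F = q ^ 2)

/-- the `LL`-part of an element of `PP` -/
theorem exists_QQ_mul_LL {k : GG hF} (hk : k ∈ PP hF) :
    ∃ u ∈ QQ hF, ∃ l ∈ LL hF, k = u * l ∧ ca l = ca k := by
  have hB := barOK_frob hF
  obtain ⟨x₀, l₀, hl₀, hkl⟩ := Pe_decomp hB.invol hk
  refine ⟨EG hB.invol x₀, ⟨x₀, rfl⟩, l₀, hl₀, hkl, ?_⟩
  rw [hkl, ca_mul' (Qe_le_Pe hB.invol ⟨x₀, rfl⟩) hl₀.1, ca_EG, one_mul]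

/-- for `l ∈ LL` with regular `ca`, every element of `QQ` has the form `y⁻¹ (l y l⁻¹)` -/
theorem exists_comm_eq_of_regular {l : GG hF} (hl : l ∈ LL hF) (h1 : ca l ^ (q + 1) ≠ 1)
    (h2 : ca l ^ (2 * q - 1) ≠ 1) {u : GG hF} (hu : u ∈ QQ hF) :
    ∃ y ∈ QQ hF, y⁻¹ * (l * y * l⁻¹) = u := by
  classical
  have hB := barOK_frob hF
  have hfpf : ∀ u ∈ QQ hF, l * u * l⁻¹ = u → u = 1 := fun u hu hfix =>
    fpf_of_regular hF hl h1 h2 hu hfix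
  let θ : ↥(QQ hF) → ↥(QQ hF) := fun y =>
    ⟨y.1⁻¹ * (l * y.1 * l⁻¹),
      (QQ hF).mul_mem ((QQ hF).inv_mem y.2) (Pe_normalizes_Qe hB.invol hl.1 y.2)⟩
  have hθinj : Function.Injective θ := by
    intro y z hyz
    have e0 : y.1⁻¹ * (l * y.1 * l⁻¹) = z.1⁻¹ * (l * z.1 * l⁻¹) := congrArg Subtype.val hyz
    have e3 : l * (z.1 * y.1⁻¹) * l⁻¹ = z.1 * y.1⁻¹ := by
      have e1 : l * (z.1 * y.1⁻¹) * l⁻¹ = (l * z.1 * l⁻¹) * (l * y.1 * l⁻¹)⁻¹ := by group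
      have e2 : l * z.1 * l⁻¹ = z.1 * (y.1⁻¹ * (l * y.1 * l⁻¹)) := by rw [e0]; group
      rw [e1, e2]; group
    have h3 := hfpf _ ((QQ hF).mul_mem z.2 ((QQ hF).inv_mem y.2)) e3
    apply Subtype.ext
    exact (mul_inv_eq_one.1 h3).symm
  have hθsurj : Function.Surjective θ := Finite.injective_iff_surjective.1 hθinj
  obtain ⟨y, hy⟩ := hθsurj ⟨u, hu⟩
  exact ⟨y.1, y.2, congrArg Subtype.val hy⟩

/-- an element of `PP` with regular `ca` is `QQ`-conjugate into `LL` -/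
theorem exists_conj_mem_LL (k : GG hF) (hk : k ∈ PP hF) (h1 : ca k ^ (q + 1) ≠ 1)
    (h2 : ca k ^ (2 * q - 1) ≠ 1) :
    ∃ y ∈ QQ hF, y * k * y⁻¹ ∈ LL hF ∧ ca (y * k * y⁻¹) = ca k := by
  obtain ⟨u, hu, l, hl, hkl, hca⟩ := exists_QQ_mul_LL hF hk
  obtain ⟨y, hy, hyu⟩ := exists_comm_eq_of_regular hF hl (by rw [hca]; exact h1)
    (by rw [hca]; exact h2) hu
  have hyk : y * k * y⁻¹ = l := by
    rw [hkl, ← hyu]; group
  refine ⟨y, hy, ?_, ?_⟩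
  · rw [hyk]; exact hl
  · rw [hyk]; exact hca

end

end Cfsg.Agent.Lib.Helper20.U3Leaf
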