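import Mathlib
import Cfsg.Agent.Lib.Helper29.WDDefs
import Cfsg.Agent.Lib.Helper29.WDBAS
import Cfsg.Agent.Lib.Helper14.WDZn
import Cfsg.Agent.Lib.Helper7.DHBGP

/-!
# S3572, market "WD", leaf GP (`_of` form): Lemma G(p) and its complement form

`gp_star_of` / `gp_compl_of` take the not yet landed leaves (`symm`, `F2`, `YY_compl_nonempty`, `hyp_of_sub` applied to
`sub_odd`, `frob_r`, `frob_sr`, `dvd_fibre_of_pinv`) as hypotheses.
-/

set_option autoImplicit false
set_option linter.unusedSectionVars false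
set_option linter.unusedVariables false

namespace Cfsg.Agent.Lib.Helper20.WDLeaf

open Finset DihedralGroup
open Cfsg.Agent.Lib.Helper19.SchurCyclic
open Cfsg.Agent.Lib.Helper7.DHB
open Cfsg.Agent.Lib.Helper29.WD

variable {n : ℕ} [NeZero n] {U : Type*} [Group U] {star : U → DihedralGroup n → DihedralGroup n}
variable {T : Finset (DihedralGroup n)}

/-- a `P`-invariant set of rotation coordinates avoiding `0` cannot be everything off `0` -/
theorem ne_univ_erase_of_pinv {p : ℕ} (hp : p.Prime) (hpn : p ∣ n) (h1 : (1 : DihedralGroup n) ∉ T)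
    (hX : PInv p (XX T)) : T ≠ univ.erase 1 := by
  intro hT
  obtain ⟨s, hs, hs0⟩ := Cfsg.Agent.Lib.Helper14.WDZn.exists_mem_P (n := n) hp hpn
  have h2 : -s ∈ XX T := by
    rw [mem_XX, hT, Finset.mem_erase]
    refine ⟨?_, Finset.mem_univ _⟩
    rw [DihedralGroup.one_def]
    intro h
    have h3 : -s = 0 := by injection h
    exact hs0 (neg_eq_zero.1 h3)
  have h3 := hX (-s) h2 s hs
  rw [neg_add_cancel, mem_XX, ← DihedralGroup.one_def] at h3
  exact h1 h3

/-- **G(p)**, `_of` form. -/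
theorem gp_star_of {p : ℕ} [Fact p.Prime] (hax : Ax star) (hp3 : 3 ≤ p) (hpn : p ∣ n)
    (hsymm : ∀ T : Finset (DihedralGroup n), Inv star T → ∀ i ∈ XX T, -i ∈ XX T)
    (hF2 : ∀ T : Finset (DihedralGroup n), Inv star T → (1 : DihedralGroup n) ∉ T → T.Nonempty →
      (XX T).Nonempty ∧ (YY T).Nonempty)
    (hYc : ∀ T : Finset (DihedralGroup n), Inv star T → (1 : DihedralGroup n) ∉ T → T ≠ univ.erase 1 →
      ((YY T)ᶜ).Nonempty)
    (hhyp : ∀ T : Finset (DihedralGroup n), Inv star T → (1 : DihedralGroup n) ∉ T → PInv p (XX T) →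
      ∃ l : ℕ, Hyp n (XX T) (YY T) T.card l l)
    (hfr : ∀ T : Finset (DihedralGroup n), (∀ i ∈ XX T, -i ∈ XX T) → ∀ i : ZMod n,
      ((eta (ZMod p) T) ^ p).coeff (r i) = (((XX T).filter (fun s => p • s = i)).card : ZMod p))
    (hfsr : ∀ T : Finset (DihedralGroup n), (∀ i ∈ XX T, -i ∈ XX T) → ∀ j : ZMod n,
      ((eta (ZMod p) T) ^ p).coeff (sr j) =
        ((ind (ZMod p) (YY T) * ind (ZMod p) ((YY T).image Neg.neg)) ^ ((p - 1) / 2) *
          ind (ZMod p) (YY T)).coeff j)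
    (hfib : ∀ X : Finset (ZMod n), PInv p X → ∀ i : ZMod n, p ∣ (X.filter (fun s => p • s = i)).card)
    (hT : Inv star T) (h1 : (1 : DihedralGroup n) ∉ T) (hX : PInv p (XX T)) : T = ∅ := by
  classical
  have hp : p.Prime := Fact.out
  by_contra hne
  have hTne : T.Nonempty := Finset.nonempty_iff_ne_empty.2 hne
  obtain ⟨hXne, hYne⟩ := hF2 T hT h1 hTne
  have hYc' := hYc T hT h1 (ne_univ_erase_of_pinv hp hpn h1 hX)
  obtain ⟨l, hl⟩ := hhyp T hT h1 hX
  have hs := hsymm T hT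
  -- rotation coefficients of `τ^p` vanish
  have hr0 : ∀ i : ZMod n, ((eta (ZMod p) T) ^ p).coeff (r i) = 0 := by
    intro i
    rw [hfr T hs i]
    exact (ZMod.natCast_eq_zero_iff _ _).2 (hfib _ hX i)
  -- the support of `τ^p` is an S-set inside the reflections
  set S : Finset (DihedralGroup n) :=
    (univ : Finset (DihedralGroup n)).filter (fun g => ((eta (ZMod p) T) ^ p).coeff g ≠ 0) with hS
  have hSinv : Inv star S :=
    Cfsg.Agent.Lib.Helper29.WDLeaf.inv_filter hax (fun g => ((eta (ZMod p) T) ^ p).coeff g)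
      (fun u g => Cfsg.Agent.Lib.Helper29.WDLeaf.coeff_pow_star hax hT (ZMod p) p u g) (fun x => x ≠ 0)
      Cfsg.Agent.Lib.Helper29.WDLeaf.inv_univ
  have hS1 : (1 : DihedralGroup n) ∉ S := by
    rw [hS, Finset.mem_filter, DihedralGroup.one_def]
    intro h
    exact h.2 (hr0 0)
  have hSe : S = ∅ := by
    by_contra hSne
    obtain ⟨⟨i, hi⟩, -⟩ := hF2 S hSinv hS1 (Finset.nonempty_iff_ne_empty.2 hSne)
    rw [mem_XX, hS, Finset.mem_filter] at hi
    exact hi.2 (hr0 i)
  have hsr0 : ∀ j : ZMod n, ((eta (ZMod p) T) ^ p).coeff (sr j) = 0 := by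
    intro j
    by_contra h
    have : sr j ∈ S := by
      rw [hS, Finset.mem_filter]
      exact ⟨Finset.mem_univ _, h⟩
    rw [hSe] at this
    exact Finset.notMem_empty _ this
  have h2 : (ind (ZMod p) (YY T) * ind (ZMod p) ((YY T).image Neg.neg)) ^ ((p - 1) / 2) *
      ind (ZMod p) (YY T) = 0 := by
    apply AddMonoidAlgebra.ext
    apply Finsupp.ext
    intro j
    rw [← hfsr T hs j, hsr0 j]
    simp
  exact Cfsg.Agent.Lib.Helper7.DHBGP.gp hp hp3 hpn hl hX hXne hYne hYc' h2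

/-- complement form, from `gp_star` -/
theorem gp_compl_of {p : ℕ} (hax : Ax star)
    (hgp : ∀ T : Finset (DihedralGroup n), Inv star T → (1 : DihedralGroup n) ∉ T → PInv p (XX T) → T = ∅)
    (hT : Inv star T) (h1 : (1 : DihedralGroup n) ∉ T)
    (hP : ∀ t : ZMod n, p • t = 0 → t ≠ 0 → t ∈ XX T)
    (hX : PInvOff p (XX T)) : T = univ.erase 1 := by
  classical
  set T' : Finset (DihedralGroup n) := (univ.erase 1) \ T with hT'
  have hT'inv : Inv star T' :=
    Cfsg.Agent.Lib.Helper29.WDLeaf.inv_sdiff hax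
      (Cfsg.Agent.Lib.Helper29.WDLeaf.inv_erase_one hax Cfsg.Agent.Lib.Helper29.WDLeaf.inv_univ) hT
  have h1' : (1 : DihedralGroup n) ∉ T' := by
    rw [hT', Finset.mem_sdiff, Finset.mem_erase]
    intro h
    exact h.1.1 rfl
  have hmem : ∀ i : ZMod n, i ∈ XX T' ↔ i ≠ 0 ∧ i ∉ XX T := by
    intro i
    rw [mem_XX, hT', Finset.mem_sdiff, Finset.mem_erase, mem_XX, DihedralGroup.one_def]
    constructor
    · rintro ⟨⟨h0, -⟩, h2⟩
      exact ⟨fun h => h0 (by rw [h]), h2⟩
    · rintro ⟨h0, h2⟩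
      refine ⟨⟨fun h => h0 ?_, Finset.mem_univ _⟩, h2⟩
      injection h
  have hX' : PInv p (XX T') := by
    intro i hi t ht
    rw [hmem] at hi ⊢
    have hpi : p • i ≠ 0 := fun h => hi.2 (hP i h hi.1)
    have hpit : p • (i + t) ≠ 0 := by
      rw [smul_add, ht, add_zero]
      exact hpi
    refine ⟨fun h => hpit (by rw [h, smul_zero]), fun h => hi.2 ?_⟩
    have h3 := hX (i + t) h hpit (-t) (by rw [smul_neg, ht, neg_zero])
    rwa [add_neg_cancel_right] at h3
  have he := hgp T' hT'inv h1' hX'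
  apply Finset.Subset.antisymm
  · intro g hg
    rw [Finset.mem_erase]
    exact ⟨fun h => h1 (h ▸ hg), Finset.mem_univ _⟩
  · intro g hg
    by_contra hgT
    have : g ∈ T' := by
      rw [hT', Finset.mem_sdiff]
      exact ⟨hg, hgT⟩
    rw [he] at this
    exact Finset.notMem_empty _ this

end Cfsg.Agent.Lib.Helper20.WDLeaf
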