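import Mathlib
import Cfsg.Agent.Lib.Helper20.WDGP
import Cfsg.Agent.Lib.Helper21.WDF12
import Cfsg.Agent.Lib.Helper23.WDHYP
import Cfsg.Agent.Lib.Helper15.WDFROB
import Cfsg.Agent.Lib.Helper5.WDFIB

/-!
# S3572, market "WD", leaf GP: Lemma G(p) and its complement form, over `sub_odd` only
-/

set_option autoImplicit false
set_option linter.unusedSectionVars false
set_option linter.unusedVariables false

namespace Cfsg.Agent.Lib.Helper20.WDLeaf

open Finset DihedralGroup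
open Cfsg.Agent.Lib.Helper19.SchurCyclic
open Cfsg.Agent.Lib.Helper7.DHB
open Cfsg.Agent.Lib.Helper29.WD

variable {n : ℕ} [NeZero n] {U : Type*} [Group U] {star : U → DihedralGroup n → DihedralGroup n}
variable {T : Finset (DihedralGroup n)}

/-- **G(p)** over `sub_odd`. -/
theorem gp_star_of_sub {p : ℕ} (hax : Ax star) (hprim : Prim star) (hn : 3 ≤ n) (hp : p.Prime) (hp3 : 3 ≤ p)
    (hpn : p ∣ n)
    (hsub : ∀ T' : Finset (DihedralGroup n), Inv star T' → (1 : DihedralGroup n) ∉ T' → PInv p (YY T') →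
      Triv T')
    (hT : Inv star T) (h1 : (1 : DihedralGroup n) ∉ T) (hX : PInv p (XX T)) : T = ∅ := by
  haveI : Fact p.Prime := ⟨hp⟩
  have hp2 : p ≠ 2 := by omega
  exact gp_star_of hax hp3 hpn
    (fun T hT => Cfsg.Agent.Lib.Helper21.WDLeaf.symm hax hprim hT)
    (fun T hT h1 hne => Cfsg.Agent.Lib.Helper21.WDLeaf.F2 hax hprim hn hT h1 hne)
    (fun T hT h1 hne => Cfsg.Agent.Lib.Helper21.WDLeaf.YY_compl_nonempty hax hprim hn hT h1 hne)
    (fun T hT h1 hXinv => Cfsg.Agent.Lib.Helper23.WDLeaf.hyp_of_sub hax hprim hn hp hpn hsub hT h1 hXinv)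
    (fun T hX i => Cfsg.Agent.Lib.Helper15.WDLeaf.frob_r hp2 T hX i)
    (fun T hX j => Cfsg.Agent.Lib.Helper15.WDLeaf.frob_sr hp2 T hX j)
    (fun X hX i => Cfsg.Agent.Lib.Helper5.WDLeaf.dvd_fibre_of_pinv hp hpn X hX i)
    hT h1 hX

/-- complement form over `sub_odd`. -/
theorem gp_compl_of_sub {p : ℕ} (hax : Ax star) (hprim : Prim star) (hn : 3 ≤ n) (hp : p.Prime) (hp3 : 3 ≤ p)
    (hpn : p ∣ n)
    (hsub : ∀ T' : Finset (DihedralGroup n), Inv star T' → (1 : DihedralGroup n) ∉ T' → PInv p (YY T') →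
      Triv T')
    (hT : Inv star T) (h1 : (1 : DihedralGroup n) ∉ T)
    (hP : ∀ t : ZMod n, p • t = 0 → t ≠ 0 → t ∈ XX T) (hX : PInvOff p (XX T)) : T = univ.erase 1 :=
  gp_compl_of hax (fun T hT h1 hX => gp_star_of_sub hax hprim hn hp hp3 hpn hsub hT h1 hX) hT h1 hP hX

end Cfsg.Agent.Lib.Helper20.WDLeaf
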