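import Mathlib
import Cfsg.Agent.Lib.Helper20.WDGP2
import Cfsg.Agent.Lib.Helper15.WDSUBODD

/-!
# S3572, market "WD", leaf GP (exact): Lemma G(p) and its complement form
-/

set_option autoImplicit false
set_option linter.unusedSectionVars false
set_option linter.unusedVariables false

namespace Cfsg.Agent.Lib.Helper20.WDLeaf

open Finset DihedralGroup
open Cfsg.Agent.Lib.Helper19.SchurCyclic
open Cfsg.Agent.Lib.Helper7.DHB
open Cfsg.Agent.Lib.Helper29.WD

variable {n : ℕ} [NeZero n] {U : Type*} [Group U] {star : U → DihedralGroup n → DihedralGroup n}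
variable {T T' T₁ T₂ : Finset (DihedralGroup n)}

/-- G(p): helper7 `DHBGP.gp` + `hyp_of_sub` + `frob_r`/`frob_sr` + `dvd_fibre_of_pinv` + F2. -/
theorem gp_star {p : ℕ} (hax : Ax star) (hprim : Prim star) (hn : 3 ≤ n) (hp : p.Prime) (hp3 : 3 ≤ p) (hpn : p ∣ n)
    (hT : Inv star T) (h1 : (1 : DihedralGroup n) ∉ T) (hX : PInv p (XX T)) : T = ∅ :=
  gp_star_of_sub hax hprim hn hp hp3 hpn
    (fun T' hT' h1' hY' =>
      Cfsg.Agent.Lib.Helper15.WDLeaf.sub_odd hax hprim hn hp (by omega) hpn hT' h1' hY')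
    hT h1 hX

/-- complement form. -/
theorem gp_compl {p : ℕ} (hax : Ax star) (hprim : Prim star) (hn : 3 ≤ n) (hp : p.Prime) (hp3 : 3 ≤ p) (hpn : p ∣ n)
    (hT : Inv star T) (h1 : (1 : DihedralGroup n) ∉ T) (hP : ∀ t : ZMod n, p • t = 0 → t ≠ 0 → t ∈ XX T)
    (hX : PInvOff p (XX T)) : T = univ.erase 1 :=
  gp_compl_of_sub hax hprim hn hp hp3 hpn
    (fun T' hT' h1' hY' =>
      Cfsg.Agent.Lib.Helper15.WDLeaf.sub_odd hax hprim hn hp (by omega) hpn hT' h1' hY')
    hT h1 hP hX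

end Cfsg.Agent.Lib.Helper20.WDLeaf
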