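/-
Helper20 library: coprime action on a group all of whose Sylow subgroups are cyclic (internal form).
`A, K ≤ Γ`, `A ≤ N(K)`, `(|A|, |K|) = 1`, `K` a Z-group. Then `[K, A]` is cyclic, normal in `K`,
`[K, A] ∩ C_K(A) = 1`, `[K, A] C_K(A) = K`, and `(|C_K(A)|, |[K, A]|) = 1`.
-/
import Mathlib
import Cfsg.Agent.S0023
import Cfsg.Agent.S0026
import Cfsg.Agent.S0027
import Cfsg.Agent.S1326
import Cfsg.Agent.Lib.Helper1.Commutator
import Cfsg.Agent.Lib.Helper1.Coprime
import Cfsg.Agent.Lib.Helper1.CoprimeAbelian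
import Cfsg.Agent.Lib.Helper1.Fitting
import Cfsg.Agent.Lib.Helper9.FStar2
import Cfsg.Agent.Lib.Helper9.Transport

set_option autoImplicit false
open Pointwise

namespace Cfsg.Agent.Lib.Helper20

open Subgroup
open scoped commutatorElement

/-- Elements normalizing a cyclic subgroup `F` induce commuting automorphisms, so their commutator
centralizes `F`. -/
theorem commutator_mem_centralizer_of_isCyclic {Γ : Type*} [Group Γ] (F : Subgroup Γ)
    [hF : IsCyclic ↥F] {x y : Γ} (hx : x ∈ normalizer (F : Set Γ)) (hy : y ∈ normalizer (F : Set Γ)) :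
    ∀ f ∈ F, ⁅x, y⁆ * f = f * ⁅x, y⁆ := by
  intro f hf
  have hcomm : ∀ φ ψ : MulAut ↥F, φ * ψ = ψ * φ := by
    intro φ ψ
    apply (IsCyclic.mulAutMulEquiv ↥F).injective
    rw [map_mul, map_mul, mul_comm]
  let N := F.normalizerMonoidHom
  have h1 : N ⁅(⟨x, hx⟩ : normalizer (F : Set Γ)), ⟨y, hy⟩⁆ = 1 := by
    rw [map_commutatorElement, commutatorElement_eq_one_iff_commute]
    exact hcomm _ _
  have h2 : ((N ⁅(⟨x, hx⟩ : normalizer (F : Set Γ)), ⟨y, hy⟩⁆ ⟨f, hf⟩ : ↥F) : Γ) = f := by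
    rw [h1]; rfl
  have h3' : ((N ⁅(⟨x, hx⟩ : normalizer (F : Set Γ)), ⟨y, hy⟩⁆ ⟨f, hf⟩ : ↥F) : Γ) =
      ⁅x, y⁆ * f * ⁅x, y⁆⁻¹ := rfl
  have h3 : ⁅x, y⁆ * f * ⁅x, y⁆⁻¹ = f := h3'.symm.trans h2
  calc ⁅x, y⁆ * f = (⁅x, y⁆ * f * ⁅x, y⁆⁻¹) * ⁅x, y⁆ := by group
    _ = f * ⁅x, y⁆ := by rw [h3]

/-- **Coprime action on a Z-group, internal form.** -/
theorem zgroup_coprime_internal {Γ : Type*} [Group Γ] [Finite Γ] (A K : Subgroup Γ)
    (hAK : A ≤ normalizer (K : Set Γ)) (hcop : (Nat.card A).Coprime (Nat.card K))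
    (hZ : IsZGroup ↥K) :
    IsCyclic ↥⁅K, A⁆ ∧ K ≤ normalizer ((⁅K, A⁆ : Subgroup Γ) : Set Γ) ∧
      ⁅K, A⁆ ⊓ (K ⊓ centralizer (A : Set Γ)) = ⊥ ∧
      ⁅K, A⁆ ⊔ (K ⊓ centralizer (A : Set Γ)) = K ∧
      (Nat.card ↥(K ⊓ centralizer (A : Set Γ))).Coprime (Nat.card ↥⁅K, A⁆) ∧
      Nat.card ↥⁅K, A⁆ * Nat.card ↥(K ⊓ centralizer (A : Set Γ)) = Nat.card K := by
  classical
  haveI hsolvK : Group.IsSolvable ↥K := inferInstance
  obtain ⟨D, hD⟩ : ∃ D : Subgroup Γ, D = ⁅K, A⁆ := ⟨_, rfl⟩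
  obtain ⟨C, hC⟩ : ∃ C : Subgroup Γ, C = K ⊓ centralizer (A : Set Γ) := ⟨_, rfl⟩
  rw [← hD, ← hC]
  have hDK : D ≤ K := by rw [hD]; exact Cfsg.Agent.Lib.Helper1.commutator_le_of_le_normalizer hAK
  have hDA : A ≤ normalizer (D : Set Γ) := by rw [hD]; exact Cfsg.Agent.Lib.Helper1.le_normalizer_commutator_right K A
  have hDKn : K ≤ normalizer (D : Set Γ) := by rw [hD]; exact Cfsg.Agent.Lib.Helper1.le_normalizer_commutator_left K A
  have hsup : D ⊔ C = K := by
    rw [hD, hC]; exact Cfsg.Agent.S0026.result A K hAK hcop (Or.inr hsolvK)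
  have hDD : ⁅D, A⁆ = D := by
    rw [hD]; exact Cfsg.Agent.S0027.result A K hAK hcop (Or.inr hsolvK)
  have hcopD : (Nat.card A).Coprime (Nat.card D) :=
    Nat.Coprime.coprime_dvd_right (Subgroup.card_dvd_of_le hDK) hcop
  -- D is a solvable Z-group
  haveI hZD : IsZGroup ↥D :=
    IsZGroup.of_injective (f := Subgroup.inclusion hDK) (Subgroup.inclusion_injective hDK)
  haveI hsolvD : Group.IsSolvable ↥D := inferInstance
  -- the Fitting subgroup of D is cyclic and self-centralizing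
  haveI hFnil : Group.IsNilpotent ↥(Cfsg.fittingSubgroup ↥D) :=
    Cfsg.Agent.Lib.Helper1.fittingSubgroup_isNilpotent ↥D
  haveI hFcyc : IsCyclic ↥(Cfsg.fittingSubgroup ↥D) := inferInstance
  have hCF : centralizer (Cfsg.fittingSubgroup ↥D : Set ↥D) ≤ Cfsg.fittingSubgroup ↥D := by
    apply (Cfsg.Agent.S1326.result).mpr
    exact Cfsg.Agent.Lib.Helper9.layer_eq_bot_of_le_isSolvable (Y := ⊤) inferInstance le_top
  obtain ⟨F, hF⟩ : ∃ F : Subgroup Γ, F = (Cfsg.fittingSubgroup ↥D).map D.subtype := ⟨_, rfl⟩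
  haveI hFcyc' : IsCyclic ↥F := by
    rw [hF]
    exact isCyclic_of_surjective ((Cfsg.fittingSubgroup ↥D).equivMapOfInjective D.subtype
      D.subtype_injective) (MulEquiv.surjective _)
  have hFD : F ≤ D := by rw [hF]; exact Subgroup.map_subtype_le _
  haveI hFchar : (Cfsg.fittingSubgroup ↥D).Characteristic :=
    Cfsg.Agent.Lib.Helper9.fittingSubgroup_characteristic
  have hnF : normalizer (D : Set Γ) ≤ normalizer (F : Set Γ) := by
    rw [hF]
    exact Cfsg.Agent.Lib.Helper1.normalizer_le_normalizer_map_subtype_of_characteristic D _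
  -- commutators [d, a] lie in F
  have hcommF : ⁅D, A⁆ ≤ F := by
    rw [Subgroup.commutator_le]
    intro d hd a ha
    have hdn : d ∈ normalizer (F : Set Γ) := hnF (Subgroup.le_normalizer hd)
    have han : a ∈ normalizer (F : Set Γ) := hnF (hDA ha)
    have hcD : ⁅d, a⁆ ∈ D := by
      rw [← hDD]; exact Subgroup.commutator_mem_commutator hd ha
    have hcen := commutator_mem_centralizer_of_isCyclic F hdn han
    have hmem : (⟨⁅d, a⁆, hcD⟩ : ↥D) ∈ centralizer (Cfsg.fittingSubgroup ↥D : Set ↥D) := by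
      rw [Subgroup.mem_centralizer_iff]
      intro f hf
      apply Subtype.ext
      have hfF : (f : Γ) ∈ F := by rw [hF]; exact Subgroup.mem_map_of_mem _ hf
      exact (hcen (f : Γ) hfF).symm
    rw [hF]
    exact ⟨⟨⁅d, a⁆, hcD⟩, hCF hmem, rfl⟩
  have hDF : D = F := le_antisymm (hDD ▸ hcommF) hFD
  haveI hDcyc : IsCyclic ↥D := by rw [hDF]; exact hFcyc'
  -- D ∩ C = 1
  haveI hDcomm : IsMulCommutative ↥D := ⟨⟨fun a b => IsCyclic.commGroup.mul_comm a b⟩⟩
  have hdisj : D ⊓ C = ⊥ := by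
    have h1 := Cfsg.Agent.Lib.Helper1.centralizer_inf_commutator_eq_bot A D hDA hcopD
    rw [hDD] at h1
    rw [eq_bot_iff]
    intro x hx
    rw [hC] at hx
    have : x ∈ (D ⊓ centralizer (A : Set Γ)) ⊓ D := ⟨⟨hx.1, hx.2.2⟩, hx.1⟩
    rw [h1] at this
    exact this
  -- |D| |C| = |K|
  have hCK : C ≤ K := by rw [hC]; exact inf_le_left
  have hcompl : Cfsg.Agent.Lib.Helper1.IsComplIn D C (D ⊔ C) :=
    Cfsg.Agent.Lib.Helper1.isComplIn_sup (hCK.trans hDKn) (disjoint_iff.mpr hdisj)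
  have hcard : Nat.card D * Nat.card C = Nat.card K := by
    rw [hcompl.card_mul_card, hsup]
  refine ⟨hDcyc, hDKn, hdisj, hsup, ?_, hcard⟩
  -- coprimality
  apply Nat.coprime_of_dvd
  intro p hp hpC hpD
  haveI : Fact p.Prime := ⟨hp⟩
  obtain ⟨P, hPA⟩ := Cfsg.Agent.S0023.result A K hAK hcop (Or.inr hsolvK) p
  obtain ⟨P', hP'⟩ : ∃ P' : Subgroup Γ, P' = (P : Subgroup ↥K).map K.subtype := ⟨_, rfl⟩
  rw [← hP'] at hPA
  have hP'K : P' ≤ K := by rw [hP']; exact Subgroup.map_subtype_le _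
  have hP'card : Nat.card P' = p ^ (Nat.card K).factorization p := by
    rw [hP', Subgroup.card_map_of_injective K.subtype_injective]
    exact P.card_eq_multiplicity
  haveI hP'cyc : IsCyclic ↥P' := by
    rw [hP']
    haveI : IsCyclic ↥(P : Subgroup ↥K) := inferInstance
    exact isCyclic_of_surjective ((P : Subgroup ↥K).equivMapOfInjective K.subtype
      K.subtype_injective) (MulEquiv.surjective _)
  have hP'p : IsPGroup p ↥P' := by
    rw [hP']; exact P.isPGroup'.map _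
  have hcopP : (Nat.card P').Coprime (Nat.card A) :=
    (Nat.Coprime.coprime_dvd_right (Subgroup.card_dvd_of_le hP'K) hcop).symm
  have hnot : ¬ p ^ ((Nat.card K).factorization p + 1) ∣ Nat.card K :=
    Nat.pow_succ_factorization_not_dvd Nat.card_pos.ne' hp
  rcases hP'p.commutator_eq_bot_or_commutator_eq_self hPA hcopP with h | h
  · -- P' ≤ C
    have h1 : P' ≤ centralizer (A : Set Γ) := by
      rw [Subgroup.commutator_comm] at h
      exact Subgroup.commutator_eq_bot_iff_le_centralizer.mp h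
    have h2 : P' ≤ C := by rw [hC]; exact le_inf hP'K h1
    have h3 : p ^ (Nat.card K).factorization p ∣ Nat.card C := by
      rw [← hP'card]; exact Subgroup.card_dvd_of_le h2
    apply hnot
    have h4 : p ^ ((Nat.card K).factorization p + 1) ∣ Nat.card C * Nat.card D := by
      rw [pow_succ]; exact Nat.mul_dvd_mul h3 hpD
    rwa [mul_comm, hcard] at h4
  · -- P' ≤ D
    have h2 : P' ≤ D := by
      rw [hD, ← h, Subgroup.commutator_comm]
      exact Subgroup.commutator_mono hP'K le_rfl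
    have h3 : p ^ (Nat.card K).factorization p ∣ Nat.card D := by
      rw [← hP'card]; exact Subgroup.card_dvd_of_le h2
    apply hnot
    have h4 : p ^ ((Nat.card K).factorization p + 1) ∣ Nat.card D * Nat.card C := by
      rw [pow_succ]; exact Nat.mul_dvd_mul h3 hpC
    rwa [hcard] at h4

end Cfsg.Agent.Lib.Helper20
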